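import Groth.Agent.Lib.Helper4.CMLoc
import Mathlib.RingTheory.Ideal.Height
import Mathlib.RingTheory.Localization.Ideal

/-!
# Chains of primes in the presence of a Cohen–Macaulay module with full support (helper4)
-/

set_option autoImplicit false

universe u

open RingTheory.Sequence CategoryTheory Abelian

namespace Groth.Agent.Lib.Helper4

section

variable {A : Type u} [CommRing A]

/-- A prime `p''` of `A_q` lies in the support of `M_q` as soon as its contraction lies in the
support of `M`. -/
lemma mem_support_localizedModule_of_comap_mem {M : Type u} [AddCommGroup M] [Module A M]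
    (q : Ideal A) [q.IsPrime] (p'' : PrimeSpectrum (Localization.AtPrime q))
    (h : PrimeSpectrum.comap (algebraMap A (Localization.AtPrime q)) p'' ∈ Module.support A M) :
    p'' ∈ Module.support (Localization.AtPrime q) (LocalizedModule q.primeCompl M) := by
  rw [Module.mem_support_iff'] at h ⊢
  obtain ⟨m, hm⟩ := h
  refine ⟨LocalizedModule.mk m 1, fun r' hr' hzero => ?_⟩
  obtain ⟨a, s, rfl⟩ := IsLocalization.exists_mk'_eq q.primeCompl r'
  have ha : a ∉ (PrimeSpectrum.comap (algebraMap A (Localization.AtPrime q)) p'').asIdeal := by
    intro ha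
    apply hr'
    rw [PrimeSpectrum.comap_asIdeal, Ideal.mem_comap] at ha
    exact (IsLocalization.mk'_mem_iff).mpr ha
  rw [← Localization.mk_eq_mk', LocalizedModule.mk_smul_mk,
    ← LocalizedModule.zero_mk (1 : q.primeCompl), LocalizedModule.mk_eq] at hzero
  obtain ⟨t, ht⟩ := hzero
  rw [one_smul, smul_zero, smul_zero] at ht
  have htq : (t : A) ∉ (PrimeSpectrum.comap (algebraMap A (Localization.AtPrime q)) p'').asIdeal := by
    intro htmem
    have hdisj := ((IsLocalization.isPrime_iff_isPrime_disjoint q.primeCompl
      (Localization.AtPrime q) p''.asIdeal).mp p''.2).2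
    exact Set.disjoint_left.mp hdisj t.2 htmem
  have hta : (t : A) * a ∉
      (PrimeSpectrum.comap (algebraMap A (Localization.AtPrime q)) p'').asIdeal := by
    intro hmem
    rcases (PrimeSpectrum.comap (algebraMap A (Localization.AtPrime q)) p'').2.mem_or_mem hmem
      with h1 | h1
    · exact htq h1
    · exact ha h1
  apply hm _ hta
  rw [mul_smul]
  exact ht

lemma support_localizedModule_eq_univ {M : Type u} [AddCommGroup M] [Module A M]
    (hsupp : Module.support A M = Set.univ) (q : Ideal A) [q.IsPrime] :
    Module.support (Localization.AtPrime q) (LocalizedModule q.primeCompl M) = Set.univ := by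
  rw [Set.eq_univ_iff_forall]
  intro p''
  exact mem_support_localizedModule_of_comap_mem q p'' (by rw [hsupp]; trivial)

lemma supportDim_eq_ringKrullDim_of_support_eq_univ {M : Type u} [AddCommGroup M] [Module A M]
    (hsupp : Module.support A M = Set.univ) : Module.supportDim A M = ringKrullDim A := by
  rw [Module.supportDim, hsupp, ringKrullDim]
  exact Order.krullDim_eq_of_orderIso OrderIso.Set.univ

variable [IsLocalRing A] [IsNoetherianRing A] {M : Type u} [AddCommGroup M] [Module A M]
  [Module.Finite A M]

/-- In a Noetherian local ring carrying a Cohen–Macaulay module with full support,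
`ht p + dim A/p = dim A` for every prime `p`. -/
theorem cm_height_add_ringKrullDim_quotient (hM : LocCoh.IsCohenMacaulayModule A M)
    (hsupp : Module.support A M = Set.univ) (p : PrimeSpectrum A) :
    ((p.asIdeal.height : ℕ∞) : WithBot ℕ∞) + ringKrullDim (A ⧸ p.asIdeal) = ringKrullDim A := by
  apply le_antisymm
  · rw [ringKrullDim_quotient_eq_coheight, PrimeSpectrum.height_eq_orderHeight]
    have : Nonempty (PrimeSpectrum A) := ⟨p⟩
    rw [ringKrullDim, Order.krullDim_eq_iSup_height_add_coheight_of_nonempty]
    rw [← WithBot.coe_add]
    exact WithBot.coe_le_coe.mpr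
      (le_iSup (fun a : PrimeSpectrum A => Order.height a + Order.coheight a) p)
  · have hp : p ∈ Module.support A M := by rw [hsupp]; trivial
    have h1 := cm_supportDim_eq_add_localizedModule hM p hp
    rw [supportDim_eq_ringKrullDim_of_support_eq_univ hsupp, supportDim_quot_prime_eq hp] at h1
    have h2 := Module.supportDim_le_ringKrullDim (Localization.AtPrime p.asIdeal)
      (LocalizedModule p.asIdeal.primeCompl M)
    rw [IsLocalization.AtPrime.ringKrullDim_eq_height p.asIdeal (Localization.AtPrime p.asIdeal)]
      at h2
    rw [h1, add_comm]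
    gcongr

end

section step

variable {A : Type u} [CommRing A] [IsNoetherianRing A]

/-- the quotient of `A_q` by the extension of a prime `p ⋖ q` has dimension at most one. -/
lemma ringKrullDim_quotient_map_le_one {p q : PrimeSpectrum A} (hpq : p ⋖ q) :
    ringKrullDim (Localization.AtPrime q.asIdeal ⧸
      p.asIdeal.map (algebraMap A (Localization.AtPrime q.asIdeal))) ≤ 1 := by
  have hdisj : Disjoint (q.asIdeal.primeCompl : Set A) (p.asIdeal : Set A) := by
    rw [Set.disjoint_left]
    intro x hx hxp
    exact hx (hpq.lt.le hxp)
  have hprime : (p.asIdeal.map (algebraMap A (Localization.AtPrime q.asIdeal))).IsPrime :=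
    IsLocalization.isPrime_of_isPrime_disjoint q.asIdeal.primeCompl _ _ p.2 hdisj
  have hcomap : Ideal.comap (algebraMap A (Localization.AtPrime q.asIdeal))
      (p.asIdeal.map (algebraMap A (Localization.AtPrime q.asIdeal))) = p.asIdeal :=
    IsLocalization.under_map_of_isPrime_disjoint q.asIdeal.primeCompl _ p.2 hdisj
  let p' : PrimeSpectrum (Localization.AtPrime q.asIdeal) := ⟨_, hprime⟩
  have := ringKrullDim_quotient_eq_coheight p'
  simp only [p'] at this
  rw [this]
  have hco : Order.coheight p' ≤ 1 := by
    apply Order.coheight_le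
    intro l hl
    by_contra hlen
    push Not at hlen
    have hlen' : 2 ≤ l.length := by
      have : (1 : ℕ∞) < (l.length : ℕ∞) := hlen
      have : 1 < l.length := by exact_mod_cast this
      omega
    -- three successive members of the chain
    let f := PrimeSpectrum.comap (algebraMap A (Localization.AtPrime q.asIdeal))
    have hinj : Function.Injective f :=
      PrimeSpectrum.localization_comap_injective (Localization.AtPrime q.asIdeal)
        q.asIdeal.primeCompl
    have hmono : ∀ a b : PrimeSpectrum (Localization.AtPrime q.asIdeal), a < b → f a < f b := by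
      intro a b hab
      refine lt_of_le_of_ne ?_ (fun h => hab.ne (hinj h))
      exact Ideal.comap_mono hab.le
    have hle : ∀ a : PrimeSpectrum (Localization.AtPrime q.asIdeal), f a ≤ q := by
      intro a r hr
      have h := ((IsLocalization.isPrime_iff_isPrime_disjoint q.asIdeal.primeCompl
        (Localization.AtPrime q.asIdeal) a.asIdeal).mp a.2).2
      by_contra hrq
      exact Set.disjoint_left.mp h (show r ∈ (q.asIdeal.primeCompl : Set A) from hrq) hr
    have h0 : f (l ⟨0, by omega⟩) = p := by
      have : l ⟨0, by omega⟩ = p' := hl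
      rw [this]
      exact PrimeSpectrum.ext hcomap
    have h01 : l ⟨0, by omega⟩ < l ⟨1, by omega⟩ := l.strictMono (by simp [Fin.lt_def])
    have h12 : l ⟨1, by omega⟩ < l ⟨2, by omega⟩ := l.strictMono (by simp [Fin.lt_def])
    have hlt1 : p < f (l ⟨1, by omega⟩) := h0 ▸ hmono _ _ h01
    have hlt2 : f (l ⟨1, by omega⟩) < q := lt_of_lt_of_le (hmono _ _ h12) (hle _)
    exact hpq.2 hlt1 hlt2
  exact_mod_cast hco

variable [IsLocalRing A] {M : Type u} [AddCommGroup M] [Module A M] [Module.Finite A M]

/-- In a Noetherian local ring carrying a Cohen–Macaulay module with full support, heights go up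
by exactly one along covering relations of primes. -/
theorem cm_height_eq_add_one_of_covBy (hM : LocCoh.IsCohenMacaulayModule A M)
    (hsupp : Module.support A M = Set.univ) {p q : PrimeSpectrum A} (hpq : p ⋖ q) :
    q.asIdeal.height = p.asIdeal.height + 1 := by
  have hq : q ∈ Module.support A M := by rw [hsupp]; trivial
  apply le_antisymm _ (Ideal.height_add_one_le_of_lt_of_isPrime hpq.lt)
  -- work in the localization at `q`
  have hMq := cm_localizedModule hM q hq
  have hsuppq := support_localizedModule_eq_univ hsupp q.asIdeal
  have hdisj : Disjoint (q.asIdeal.primeCompl : Set A) (p.asIdeal : Set A) := by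
    rw [Set.disjoint_left]
    intro x hx hxp
    exact hx (hpq.lt.le hxp)
  have hprime : (p.asIdeal.map (algebraMap A (Localization.AtPrime q.asIdeal))).IsPrime :=
    IsLocalization.isPrime_of_isPrime_disjoint q.asIdeal.primeCompl _ _ p.2 hdisj
  let p' : PrimeSpectrum (Localization.AtPrime q.asIdeal) := ⟨_, hprime⟩
  have h1 := cm_height_add_ringKrullDim_quotient hMq hsuppq p'
  simp only [p'] at h1
  rw [IsLocalization.height_map_of_disjoint q.asIdeal.primeCompl p.asIdeal hdisj,
    IsLocalization.AtPrime.ringKrullDim_eq_height q.asIdeal (Localization.AtPrime q.asIdeal)] at h1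
  have h2 := ringKrullDim_quotient_map_le_one hpq
  have h3 : ((q.asIdeal.height : ℕ∞) : WithBot ℕ∞) ≤
      ((p.asIdeal.height : ℕ∞) : WithBot ℕ∞) + 1 := by
    rw [← h1]
    gcongr
  exact_mod_cast h3

/-- In a Noetherian local ring carrying a Cohen–Macaulay module with full support, every saturated
chain of primes from a minimal prime to the maximal ideal has length `dim A`. -/
theorem cm_length_maximal_chain (hM : LocCoh.IsCohenMacaulayModule A M)
    (hsupp : Module.support A M = Set.univ) (s : LTSeries (PrimeSpectrum A))
    (hhead : s.head.asIdeal ∈ minimalPrimes A)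
    (hlast : s.last.asIdeal = IsLocalRing.maximalIdeal A)
    (hsat : ∀ i : Fin s.length, s (Fin.castSucc i) ⋖ s (Fin.succ i)) :
    (s.length : WithBot ℕ∞) = ringKrullDim A := by
  have key : ∀ i : Fin (s.length + 1), (s i).asIdeal.height = ((i : ℕ) : ℕ∞) := by
    intro i
    induction i using Fin.induction with
    | zero =>
      have : (s 0).asIdeal ∈ minimalPrimes A := hhead
      simpa using Ideal.height_eq_zero_iff.mpr this
    | succ i ih =>
      rw [cm_height_eq_add_one_of_covBy hM hsupp (hsat i), ih]
      simp
  have hl := key (Fin.last s.length)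
  have hl' : (s (Fin.last s.length)).asIdeal = IsLocalRing.maximalIdeal A := hlast
  rw [hl', Fin.val_last] at hl
  rw [← IsLocalRing.maximalIdeal_height_eq_ringKrullDim, hl]
  rfl

end step

end Groth.Agent.Lib.Helper4
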