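import Groth.Agent.Lib.Helper4.Depth2

/-!
# Depth along a finite ring map: `depth_a^A M = depth_{aB}^B M`
-/

set_option autoImplicit false

universe u v

open RingTheory.Sequence

namespace Groth.Agent.Lib.Helper4

section step

variable {R : Type u} [CommRing R] [Small.{v} R] [IsNoetherianRing R]
  {M : Type v} [AddCommGroup M] [Module R M] [Module.Finite R M]

/-- Inductive characterisation of `n + 1 ≤ depth_I M`. -/
lemma succ_le_idealDepth_iff (I : Ideal R) (n : ℕ) :
    ((n : ℕ∞) + 1 ≤ LocCoh.idealDepth I M) ↔
      (I • (⊤ : Submodule R M) = ⊤ ∨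
        ∃ x ∈ I, IsSMulRegular M x ∧ (n : ℕ∞) ≤ LocCoh.idealDepth I (QuotSMulTop x M)) := by
  constructor
  · intro h
    by_cases hIM : I • (⊤ : Submodule R M) = ⊤
    · exact Or.inl hIM
    · right
      have h1 : 1 ≤ LocCoh.idealDepth I M := le_trans (by simp) h
      obtain ⟨x, hx, hreg⟩ := (one_le_idealDepth_iff I hIM).mp h1
      refine ⟨x, hx, hreg, ?_⟩
      rw [← idealDepth_quotSMulTop_add_one I x hx hreg] at h
      exact (ENat.add_le_add_iff_right ENat.one_ne_top).mp h
  · rintro (h | ⟨x, hx, hreg, hn⟩)
    · rw [idealDepth_of_smul_top_eq I h]; exact le_top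
    · rw [← idealDepth_quotSMulTop_add_one I x hx hreg]
      exact add_le_add_left hn 1

/-- If `x ∈ I` is `M`-regular and `n + 1 ≤ depth_I M`, then `n ≤ depth_I (M/xM)`. -/
lemma le_idealDepth_quotSMulTop_of_succ_le (I : Ideal R) (n : ℕ) {x : R} (hx : x ∈ I)
    (hreg : IsSMulRegular M x) (h : (n : ℕ∞) + 1 ≤ LocCoh.idealDepth I M) :
    (n : ℕ∞) ≤ LocCoh.idealDepth I (QuotSMulTop x M) := by
  rw [← idealDepth_quotSMulTop_add_one I x hx hreg] at h
  exact (ENat.add_le_add_iff_right ENat.one_ne_top).mp h

end step

section finiteExt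

variable {A B : Type u} [CommRing A] [CommRing B] [Algebra A B]

lemma isSMulRegular_algebraMap_iff (M : Type v) [AddCommGroup M] [Module B M] [Module A M]
    [IsScalarTower A B M] (x : A) : IsSMulRegular M (algebraMap A B x) ↔ IsSMulRegular M x := by
  unfold IsSMulRegular
  have : (fun m : M => algebraMap A B x • m) = fun m : M => x • m := by
    funext m; exact algebraMap_smul B x m
  rw [this]

open Pointwise in
/-- `M/xM` computed over `A` and over `B` agree. -/
noncomputable def quotSMulTopRestrictEquiv (M : Type v) [AddCommGroup M] [Module B M] [Module A M]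
    [IsScalarTower A B M] (x : A) : QuotSMulTop x M ≃ₗ[A] QuotSMulTop (algebraMap A B x) M :=
  (Submodule.quotEquivOfEq _ _ (by
    ext m
    simp only [Submodule.restrictScalars_mem, Submodule.mem_smul_pointwise_iff_exists,
      Submodule.mem_top, true_and, algebraMap_smul])).trans
    (Submodule.Quotient.restrictScalarsEquiv A (algebraMap A B x • (⊤ : Submodule B M)))

lemma smul_top_eq_top_map_iff (M : Type v) [AddCommGroup M] [Module B M] [Module A M]
    [IsScalarTower A B M] (a : Ideal A) :
    a • (⊤ : Submodule A M) = ⊤ ↔ a.map (algebraMap A B) • (⊤ : Submodule B M) = ⊤ := by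
  have h := Ideal.smul_restrictScalars a (⊤ : Submodule B M)
  rw [Submodule.restrictScalars_top] at h
  rw [← h, Submodule.restrictScalars_eq_top_iff]

lemma smul_eq_zero_of_mem_map {M : Type v} [AddCommGroup M] [Module B M] [Module A M]
    [IsScalarTower A B M] {a : Ideal A} {m : M} (h : ∀ r ∈ a, r • m = 0) {z : B}
    (hz : z ∈ a.map (algebraMap A B)) : z • m = 0 := by
  unfold Ideal.map at hz
  induction hz using Submodule.span_induction with
  | mem z hz =>
    obtain ⟨r, hr, rfl⟩ := hz
    rw [algebraMap_smul]; exact h r hr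
  | zero => exact zero_smul _ _
  | add z₁ z₂ _ _ h₁ h₂ => rw [add_smul, h₁, h₂, add_zero]
  | smul b z _ hz => rw [smul_eq_mul, mul_smul, hz, smul_zero]

variable [IsNoetherianRing A] [Module.Finite A B]

theorem natCast_le_idealDepth_map_iff (a : Ideal A) (n : ℕ) :
    ∀ (M : Type u) [AddCommGroup M] [Module B M] [Module A M] [IsScalarTower A B M]
      [Module.Finite B M],
      (n : ℕ∞) ≤ LocCoh.idealDepth a M ↔
        (n : ℕ∞) ≤ LocCoh.idealDepth (a.map (algebraMap A B)) M := by
  have hB : IsNoetherianRing B := Algebra.FiniteType.isNoetherianRing A B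
  induction n with
  | zero => intro M _ _ _ _ _; simp
  | succ n ih =>
    intro M _ _ _ _ _
    have hfin : Module.Finite A M := Module.Finite.trans B M
    have htop := smul_top_eq_top_map_iff (B := B) M a
    push_cast
    constructor
    · intro h
      rcases (succ_le_idealDepth_iff a n).mp h with h | ⟨x, hxa, hreg, hn⟩
      · rw [idealDepth_of_smul_top_eq _ (htop.mp h)]; exact le_top
      · refine (succ_le_idealDepth_iff _ n).mpr (Or.inr ⟨algebraMap A B x,
          Ideal.mem_map_of_mem _ hxa, (isSMulRegular_algebraMap_iff M x).mpr hreg, ?_⟩)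
        rw [← ih (QuotSMulTop (algebraMap A B x) M),
          ← idealDepth_congr a (quotSMulTopRestrictEquiv M x)]
        exact hn
    · intro h
      by_cases hIM : a • (⊤ : Submodule A M) = ⊤
      · rw [idealDepth_of_smul_top_eq _ hIM]; exact le_top
      have hIMB : a.map (algebraMap A B) • (⊤ : Submodule B M) ≠ ⊤ := fun h' => hIM (htop.mpr h')
      have hnt : Nontrivial M := by
        by_contra hM
        rw [not_nontrivial_iff_subsingleton] at hM
        exact hIM (Subsingleton.elim _ _)
      -- a regular element on the `B`-side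
      have h1 : 1 ≤ LocCoh.idealDepth (a.map (algebraMap A B)) M := le_trans (by simp) h
      obtain ⟨y, hy, hyreg⟩ := (one_le_idealDepth_iff _ hIMB).mp h1
      -- find a regular element in `a`
      have hex : ∃ x ∈ a, IsSMulRegular M x := by
        by_contra hcon
        push Not at hcon
        obtain ⟨p, hp, hap⟩ := (forall_not_isSMulRegular_iff_exists_le_associatedPrime a).mp hcon
        obtain ⟨hpprime, m, hpm⟩ := isAssociatedPrime_iff.mp hp
        have hkill : ∀ r ∈ a, r • m = 0 := by
          intro r hr
          have := hap hr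
          rw [hpm, Submodule.mem_colon_singleton, Submodule.mem_bot] at this
          exact this
        have hm0 : m = 0 := by
          apply hyreg
          change y • m = y • 0
          rw [smul_eq_zero_of_mem_map hkill hy, smul_zero]
        apply hpprime.ne_top
        rw [hpm, hm0, eq_top_iff]
        intro r _
        rw [Submodule.mem_colon_singleton, smul_zero]
        exact Submodule.zero_mem _
      obtain ⟨x, hxa, hxreg⟩ := hex
      refine (succ_le_idealDepth_iff a n).mpr (Or.inr ⟨x, hxa, hxreg, ?_⟩)
      rw [idealDepth_congr a (quotSMulTopRestrictEquiv (B := B) M x),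
        ih (QuotSMulTop (algebraMap A B x) M)]
      exact le_idealDepth_quotSMulTop_of_succ_le _ n (Ideal.mem_map_of_mem _ hxa)
        ((isSMulRegular_algebraMap_iff M x).mpr hxreg) h

/-- Depth along a finite ring map from a Noetherian ring. -/
theorem idealDepth_map_eq (a : Ideal A) (M : Type u) [AddCommGroup M] [Module B M] [Module A M]
    [IsScalarTower A B M] [Module.Finite B M] :
    LocCoh.idealDepth a M = LocCoh.idealDepth (a.map (algebraMap A B)) M :=
  ENat.eq_of_forall_natCast_le_iff fun n => natCast_le_idealDepth_map_iff a n M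

end finiteExt

end Groth.Agent.Lib.Helper4
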