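import Groth.Agent.Lib.Helper4.CM

/-!
# Cohen–Macaulay modules, part 2 (helper4)

* `cm_supportDim_eq_add_idealDepth` : `dim M = dim M/IM + depth_I M` for CM modules.
* structure of regular sequences inside a prime of the support (EGA 0_IV 16.5.10-ish).
* a criterion for Cohen–Macaulayness via unmixedness of quotients by parameters.
-/

set_option autoImplicit false

universe u v

open RingTheory.Sequence CategoryTheory Abelian

namespace Groth.Agent.Lib.Helper4

section

variable {R : Type u} [CommRing R] [IsLocalRing R] [IsNoetherianRing R] [Small.{v} R]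

omit [IsNoetherianRing R] [Small.{v} R] in
lemma smul_top_ne_top_of_ne_top {M : Type v} [AddCommGroup M] [Module R M] [Module.Finite R M]
    [Nontrivial M] (I : Ideal R) (hI : I ≠ ⊤) : I • (⊤ : Submodule R M) ≠ ⊤ := by
  intro h
  apply maximalIdeal_smul_top_ne_top (R := R) (M := M)
  have hle : I • (⊤ : Submodule R M) ≤ IsLocalRing.maximalIdeal R • (⊤ : Submodule R M) :=
    Submodule.smul_mono_left (IsLocalRing.le_maximalIdeal hI)
  exact eq_top_iff.mpr (h.ge.trans hle)

omit [IsLocalRing R] [IsNoetherianRing R] [Small.{v} R] in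
/-- `Supp((M/xM)/I(M/xM)) = Supp(M/IM)` for `x ∈ I`. -/
lemma supportDim_quot_quotSMulTop {M : Type v} [AddCommGroup M] [Module R M] [Module.Finite R M]
    (I : Ideal R) {x : R} (hx : x ∈ I) :
    Module.supportDim R (QuotSMulTop x M ⧸ I • (⊤ : Submodule R (QuotSMulTop x M))) =
      Module.supportDim R (M ⧸ I • (⊤ : Submodule R M)) := by
  have hfin : Module.Finite R (QuotSMulTop x M) := inferInstance
  have hset : Module.support R (QuotSMulTop x M ⧸ I • (⊤ : Submodule R (QuotSMulTop x M))) =
      Module.support R (M ⧸ I • (⊤ : Submodule R M)) := by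
    rw [Module.support_quotient, Module.support_quotient, Module.support_quotSMulTop,
      Set.inter_assoc]
    congr 1
    apply Set.inter_eq_right.mpr
    apply PrimeSpectrum.zeroLocus_anti_mono
    simpa using hx
  rw [Module.supportDim, Module.supportDim, hset]

/-- Auxiliary inductive form of `cm_supportDim_eq_add_idealDepth`. -/
theorem cm_supportDim_eq_add_idealDepth_aux (I : Ideal R) (hI : I ≠ ⊤) (n : ℕ) :
    ∀ (M : Type v) [AddCommGroup M] [Module R M] [Module.Finite R M],
      LocCoh.IsCohenMacaulayModule R M → LocCoh.idealDepth I M = n →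
      Module.supportDim R M =
        Module.supportDim R (M ⧸ I • (⊤ : Submodule R M)) + ((n : ℕ∞) : WithBot ℕ∞) := by
  induction n with
  | zero =>
    intro M _ _ _ hM hn
    have hMnt := cm_nontrivial hM
    have hIM := smul_top_ne_top_of_ne_top (M := M) I hI
    obtain ⟨p, hp, hIp⟩ := (idealDepth_eq_zero_iff_exists_le_associatedPrime I hIM).mp
      (by simpa using hn)
    have hpsupp : (⟨p, hp.isPrime⟩ : PrimeSpectrum R) ∈
        Module.support R (M ⧸ I • (⊤ : Submodule R M)) := by
      rw [Module.support_quotient]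
      exact ⟨mem_support_of_mem_associatedPrimes hp, fun a ha => hIp ha⟩
    have h1 := ringKrullDim_quotient_le_supportDim hpsupp
    rw [cm_ringKrullDim_quotient_eq hM hp] at h1
    have h2 := Module.supportDim_le_of_surjective (Submodule.mkQ (I • (⊤ : Submodule R M)))
      (Submodule.mkQ_surjective _)
    simp only [Nat.cast_zero, WithBot.coe_zero, add_zero]
    exact le_antisymm h1 h2
  | succ n ih =>
    intro M _ _ _ hM hn
    have hMnt := cm_nontrivial hM
    have hIM := smul_top_ne_top_of_ne_top (M := M) I hI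
    have h1le : 1 ≤ LocCoh.idealDepth I M := by
      rw [hn]
      exact_mod_cast Nat.succ_pos n
    obtain ⟨x, hxI, hxreg⟩ := (one_le_idealDepth_iff I hIM).mp h1le
    have hxm : x ∈ IsLocalRing.maximalIdeal R := IsLocalRing.le_maximalIdeal hI hxI
    have hcm := cm_quotSMulTop hM hxm hxreg
    have hdep := idealDepth_quotSMulTop_add_one I x hxI hxreg
    have hdep' : LocCoh.idealDepth I (QuotSMulTop x M) = n := by
      rw [hn] at hdep
      push_cast at hdep
      exact (ENat.add_left_injective_of_ne_top (by simp)) hdep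
    have h3 := ih (QuotSMulTop x M) hcm hdep'
    rw [supportDim_quot_quotSMulTop I hxI] at h3
    have h4 := Module.supportDim_quotSMulTop_succ_eq_supportDim hxreg hxm
    rw [← h4, h3]
    push_cast
    rw [add_assoc]

/-- For a finite Cohen–Macaulay module `M` over a Noetherian local ring and a proper ideal `I`:
`dim M = dim M/IM + depth_I M`. -/
theorem cm_supportDim_eq_add_idealDepth (I : Ideal R) (hI : I ≠ ⊤) {M : Type v} [AddCommGroup M]
    [Module R M] [Module.Finite R M] (hM : LocCoh.IsCohenMacaulayModule R M) :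
    Module.supportDim R M = Module.supportDim R (M ⧸ (I • (⊤ : Submodule R M))) +
      ((LocCoh.idealDepth I M : ℕ∞) : WithBot ℕ∞) := by
  have hMnt := cm_nontrivial hM
  have hne := idealDepth_ne_top I (smul_top_ne_top_of_ne_top (M := M) I hI)
  obtain ⟨n, hn⟩ := ENat.ne_top_iff_exists.mp hne
  rw [← hn]
  exact cm_supportDim_eq_add_idealDepth_aux I hI n M hM hn.symm

omit [IsLocalRing R] [IsNoetherianRing R] [Small.{v} R] in
/-- `dim M/pM = dim R/p` for `p` in the support of `M`. -/
lemma supportDim_quot_prime_eq {M : Type v} [AddCommGroup M] [Module R M] [Module.Finite R M]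
    {p : PrimeSpectrum R} (hp : p ∈ Module.support R M) :
    Module.supportDim R (M ⧸ p.asIdeal • (⊤ : Submodule R M)) = ringKrullDim (R ⧸ p.asIdeal) := by
  have hset : Module.support R (M ⧸ p.asIdeal • (⊤ : Submodule R M)) =
      PrimeSpectrum.zeroLocus (p.asIdeal : Set R) := by
    rw [Module.support_quotient]
    apply Set.inter_eq_right.mpr
    intro q hq
    rw [PrimeSpectrum.mem_zeroLocus, SetLike.coe_subset_coe, PrimeSpectrum.asIdeal_le_asIdeal] at hq
    exact Module.mem_support_mono hq hp
  rw [Module.supportDim, hset, ringKrullDim_quotient]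

omit [IsLocalRing R] in
/-- two primes with `p ≤ q` and the same finite coheight are equal -/
lemma eq_of_le_of_ringKrullDim_quotient_eq {p q : Ideal R} [p.IsPrime] [q.IsPrime] (hpq : p ≤ q)
    {c : ℕ} (hp : ringKrullDim (R ⧸ p) = ((c : ℕ∞) : WithBot ℕ∞))
    (hq : ringKrullDim (R ⧸ q) = ((c : ℕ∞) : WithBot ℕ∞)) : p = q := by
  by_contra hne
  have hlt : p < q := lt_of_le_of_ne hpq hne
  have := ringKrullDim_quotient_add_one_le_of_lt hlt
  rw [hp, hq] at this
  have : c + 1 ≤ c := by exact_mod_cast this
  omega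

/-- EGA 0_IV 16.5.10-style structure result for regular sequences inside a prime of the support of
a Cohen–Macaulay module. -/
theorem cm_prime_regular_sequence {M : Type v} [AddCommGroup M] [Module R M] [Module.Finite R M]
    (hM : LocCoh.IsCohenMacaulayModule R M) (p : PrimeSpectrum R) (hp : p ∈ Module.support R M)
    (r : ℕ)
    (hr : Module.supportDim R (M ⧸ (p.asIdeal • (⊤ : Submodule R M))) + r =
      Module.supportDim R M) :
    (∃ xs : List R, xs.length = r ∧ (∀ x ∈ xs, x ∈ p.asIdeal) ∧ IsWeaklyRegular M xs) ∧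
      ∀ xs : List R, xs.length = r → (∀ x ∈ xs, x ∈ p.asIdeal) → IsWeaklyRegular M xs →
        Module.supportDim R (M ⧸ (Ideal.ofList xs • (⊤ : Submodule R M))) =
            Module.supportDim R (M ⧸ (p.asIdeal • (⊤ : Submodule R M))) ∧
          Module.supportDim R (M ⧸ (p.asIdeal • (⊤ : Submodule R M))) =
            ringKrullDim (R ⧸ p.asIdeal) ∧
          p.asIdeal ∈ associatedPrimes R (M ⧸ (Ideal.ofList xs • (⊤ : Submodule R M))) ∧
          ∀ q ∈ associatedPrimes R (M ⧸ (Ideal.ofList xs • (⊤ : Submodule R M))),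
            q ≤ p.asIdeal → q = p.asIdeal := by
  have hMnt := cm_nontrivial hM
  have hI : p.asIdeal ≠ ⊤ := p.2.ne_top
  have hIM := smul_top_ne_top_of_ne_top (M := M) p.asIdeal hI
  have hQnt : Nontrivial (M ⧸ (p.asIdeal • (⊤ : Submodule R M))) :=
    Submodule.Quotient.nontrivial_iff.mpr hIM
  obtain ⟨c, hc⟩ := exists_nat_supportDim (R := R) (M := M ⧸ (p.asIdeal • (⊤ : Submodule R M)))
  have hne := idealDepth_ne_top p.asIdeal hIM
  obtain ⟨n, hn⟩ := ENat.ne_top_iff_exists.mp hne
  have hformula := cm_supportDim_eq_add_idealDepth p.asIdeal hI hM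
  have hnr : n = r := by
    rw [← hr, hc, ← hn] at hformula
    have : c + r = c + n := by exact_mod_cast hformula
    omega
  subst hnr
  have hpm : p.asIdeal ≤ IsLocalRing.maximalIdeal R := IsLocalRing.le_maximalIdeal hI
  refine ⟨exists_isWeaklyRegular_of_le_idealDepth p.asIdeal hIM n (by rw [← hn]), ?_⟩
  intro xs hlen hmem hreg
  have hmem' : ∀ x ∈ xs, x ∈ IsLocalRing.maximalIdeal R := fun x hx => hpm (hmem x hx)
  have hdim := Module.supportDim_add_length_eq_supportDim_of_isRegular xs
    (IsRegular.of_isWeaklyRegular_of_mem_maximalIdeal M hmem' hreg)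
  have hcm := cm_quot_ofList hM xs hmem' hreg
  have hQ2nt := cm_nontrivial hcm
  obtain ⟨c', hc'⟩ := exists_nat_supportDim (R := R)
    (M := M ⧸ (Ideal.ofList xs • (⊤ : Submodule R M)))
  have hcc : c' = c := by
    rw [← hr, hc, hc', hlen] at hdim
    have : c' + n = c + n := by exact_mod_cast hdim
    omega
  subst hcc
  have hdimp := supportDim_quot_prime_eq hp
  refine ⟨by rw [hc, hc'], hdimp, ?_⟩
  -- depth of the quotient with respect to `p` is zero
  have hdep := idealDepth_quot_ofList_add_length p.asIdeal hreg hmem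
  have hdep0 : LocCoh.idealDepth p.asIdeal (M ⧸ (Ideal.ofList xs • (⊤ : Submodule R M))) = 0 := by
    rw [← hn, hlen] at hdep
    have h0 : LocCoh.idealDepth p.asIdeal (M ⧸ (Ideal.ofList xs • (⊤ : Submodule R M))) +
        (n : ℕ∞) = 0 + (n : ℕ∞) := by rw [hdep, zero_add]
    exact (ENat.add_left_injective_of_ne_top (ENat.natCast_ne_top n)) h0
  have hIQ := smul_top_ne_top_of_ne_top
    (M := M ⧸ (Ideal.ofList xs • (⊤ : Submodule R M))) p.asIdeal hI
  obtain ⟨q, hq, hpq⟩ := (idealDepth_eq_zero_iff_exists_le_associatedPrime p.asIdeal hIQ).mp hdep0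
  have hqprime : q.IsPrime := hq.isPrime
  have hpprime : p.asIdeal.IsPrime := p.2
  have hdq := cm_ringKrullDim_quotient_eq hcm hq
  rw [hc'] at hdq
  have hdp : ringKrullDim (R ⧸ p.asIdeal) = ((c' : ℕ∞) : WithBot ℕ∞) := by
    rw [← hdimp, hc]
  have hqp : p.asIdeal = q := eq_of_le_of_ringKrullDim_quotient_eq hpq hdp hdq
  refine ⟨hqp ▸ hq, ?_⟩
  intro q' hq' hq'p
  have hq'prime : q'.IsPrime := hq'.isPrime
  have hdq' := cm_ringKrullDim_quotient_eq hcm hq'
  rw [hc'] at hdq'
  exact eq_of_le_of_ringKrullDim_quotient_eq hq'p hdq' hdp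

/-- Auxiliary inductive form of `cm_of_forall_unmixed`. -/
theorem cm_of_forall_unmixed_aux (d : ℕ) :
    ∀ (M : Type v) [AddCommGroup M] [Module R M] [Module.Finite R M] [Nontrivial M],
      Module.supportDim R M = ((d : ℕ∞) : WithBot ℕ∞) →
      (∀ xs : List R, (∀ x ∈ xs, x ∈ IsLocalRing.maximalIdeal R) →
        Module.supportDim R (M ⧸ (Ideal.ofList xs • (⊤ : Submodule R M))) + xs.length =
          Module.supportDim R M →
        ∀ p ∈ associatedPrimes R (M ⧸ (Ideal.ofList xs • (⊤ : Submodule R M))),
          ringKrullDim (R ⧸ p) =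
            Module.supportDim R (M ⧸ (Ideal.ofList xs • (⊤ : Submodule R M)))) →
      LocCoh.IsCohenMacaulayModule R M := by
  induction d with
  | zero =>
    intro M _ _ _ _ hd _
    have h1 := depth_le_supportDim (R := R) (M := M)
    obtain ⟨e, he⟩ := exists_nat_depth (R := R) (M := M)
    rw [LocCoh.IsCohenMacaulayModule, hd, he]
    rw [hd, he] at h1
    have : e ≤ 0 := by exact_mod_cast h1
    have : e = 0 := by omega
    rw [this]
  | succ d ih =>
    intro M _ _ _ _ hd h
    -- the empty sequence: all associated primes of `M` have dimension `d + 1`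
    have e0 : (M ⧸ (Ideal.ofList ([] : List R) • ⊤ : Submodule R M)) ≃ₗ[R] M :=
      Submodule.quotEquivOfEqBot _ (by rw [Ideal.ofList_nil, Submodule.bot_smul])
    have hass : ∀ p ∈ associatedPrimes R M, ringKrullDim (R ⧸ p) = Module.supportDim R M := by
      intro p hp
      have := h [] (by simp) (by rw [Module.supportDim_eq_of_equiv e0]; simp) p
        (by rw [LinearEquiv.AssociatedPrimes.eq e0]; exact hp)
      rw [this, Module.supportDim_eq_of_equiv e0]
    have hm : IsLocalRing.maximalIdeal R ∉ associatedPrimes R M := by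
      intro hmem
      have h1 := hass _ hmem
      have h2 : ringKrullDim (R ⧸ IsLocalRing.maximalIdeal R) = 0 := by
        letI : Field (R ⧸ IsLocalRing.maximalIdeal R) := Ideal.Quotient.field _
        exact ringKrullDim_eq_zero_of_field _
      rw [h2, hd] at h1
      have : (0 : ℕ) = d + 1 := by exact_mod_cast h1
      omega
    have hdep : LocCoh.depth R M ≠ 0 := by
      rw [Ne, depth_eq_zero_iff_maximalIdeal_mem_associatedPrimes]
      exact hm
    have hmM := maximalIdeal_smul_top_ne_top (R := R) (M := M)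
    obtain ⟨x, hxm, hxreg⟩ := (one_le_idealDepth_iff _ hmM).mp
      (Order.one_le_iff_ne_zero.mpr hdep)
    have hQnt : Nontrivial (QuotSMulTop x M) := nontrivial_quotSMulTop_of_mem_maximalIdeal M hxm
    have hsd := Module.supportDim_quotSMulTop_succ_eq_supportDim hxreg hxm
    obtain ⟨d', hd'⟩ := exists_nat_supportDim (R := R) (M := QuotSMulTop x M)
    have hdd : d' = d := by
      rw [hd, hd'] at hsd
      have : d' + 1 = d + 1 := by exact_mod_cast hsd
      omega
    subst hdd
    have hcm : LocCoh.IsCohenMacaulayModule R (QuotSMulTop x M) := by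
      refine ih (QuotSMulTop x M) hd' ?_
      intro xs hxs hdim p hp
      have e := Submodule.quotOfListConsSMulTopEquivQuotSMulTopInner M x xs
      have hxs' : ∀ y ∈ x :: xs, y ∈ IsLocalRing.maximalIdeal R := by
        intro y hy
        rcases List.mem_cons.mp hy with rfl | hy
        · exact hxm
        · exact hxs y hy
      have hdim' : Module.supportDim R (M ⧸ (Ideal.ofList (x :: xs) • (⊤ : Submodule R M))) +
          (x :: xs).length = Module.supportDim R M := by
        rw [Module.supportDim_eq_of_equiv e, List.length_cons, ← hsd, ← hdim]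
        push_cast
        rw [add_assoc]
      have := h (x :: xs) hxs' hdim' p (by rw [LinearEquiv.AssociatedPrimes.eq e]; exact hp)
      rw [this, Module.supportDim_eq_of_equiv e]
    have hdepth := idealDepth_quotSMulTop_add_one (IsLocalRing.maximalIdeal R) x hxm hxreg
    rw [LocCoh.IsCohenMacaulayModule] at hcm ⊢
    rw [← hsd, hcm, LocCoh.depth, LocCoh.depth, ← hdepth]
    push_cast
    rfl

/-- EGA 0_IV 16.5.?: if all quotients of `M` by parts of systems of parameters are unmixed, then
`M` is Cohen–Macaulay. -/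
theorem cm_of_forall_unmixed {M : Type v} [AddCommGroup M] [Module R M] [Module.Finite R M]
    [Nontrivial M]
    (h : ∀ xs : List R, (∀ x ∈ xs, x ∈ IsLocalRing.maximalIdeal R) →
      Module.supportDim R (M ⧸ (Ideal.ofList xs • (⊤ : Submodule R M))) + xs.length =
        Module.supportDim R M →
        ∀ p ∈ associatedPrimes R (M ⧸ (Ideal.ofList xs • (⊤ : Submodule R M))),
          ringKrullDim (R ⧸ p) =
            Module.supportDim R (M ⧸ (Ideal.ofList xs • (⊤ : Submodule R M)))) :
    LocCoh.IsCohenMacaulayModule R M := by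
  obtain ⟨d, hd⟩ := exists_nat_supportDim (R := R) (M := M)
  exact cm_of_forall_unmixed_aux d M hd h

end

end Groth.Agent.Lib.Helper4
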