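import Mathlib
import Groth.Agent.Lib.Helper4.CM2
import Groth.Agent.Lib.Helper26.RegSeq

/-!
# Regular local rings are Cohen–Macaulay (helper4)
-/

set_option autoImplicit false
set_option linter.style.haveILetI false
set_option linter.unusedSectionVars false
universe u
open IsLocalRing

namespace Groth.Agent.Lib.Helper4.RegCM

open Groth.Agent.Lib.Helper4

variable (R : Type u) [CommRing R] [IsRegularLocalRing R]

/-- A regular system of parameters of length `dim R`. -/
theorem exists_regular_system (d : ℕ) (hd : ringKrullDim R = d) :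
    ∃ x : Fin d → R, Ideal.span (Set.range x) = maximalIdeal R ∧
      RingTheory.Sequence.IsRegular R (List.ofFn x) := by
  classical
  have hfg : (maximalIdeal R).FG := (maximalIdeal R).fg_of_isNoetherianRing
  obtain ⟨s, hscard, hsspan⟩ := Submodule.FG.exists_span_finset_card_eq_spanFinrank hfg
  have h1 : ((maximalIdeal R).spanFinrank : WithBot ℕ∞) = ringKrullDim R :=
    IsRegularLocalRing.spanFinrank_maximalIdeal
  rw [hd] at h1
  have h2 : (maximalIdeal R).spanFinrank = d := by exact_mod_cast h1
  have hcard : s.card = d := hscard.trans h2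
  let e := Finset.equivFinOfCardEq hcard
  let x : Fin d → R := fun i => (e.symm i : R)
  have hrange : Set.range x = (s : Set R) := by
    ext r
    constructor
    · rintro ⟨i, rfl⟩
      exact (e.symm i).2
    · intro hr
      exact ⟨e ⟨r, hr⟩, by simp [x]⟩
  have hx : Ideal.span (Set.range x) = maximalIdeal R := by
    rw [hrange]; exact hsspan
  exact ⟨x, hx, Groth.Agent.Lib.Helper26.RegSeq.isRegular_ofFn hd x hx⟩

theorem exists_nat_ringKrullDim : ∃ d : ℕ, ringKrullDim R = d := by
  have h1 : ((maximalIdeal R).spanFinrank : WithBot ℕ∞) = ringKrullDim R :=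
    IsRegularLocalRing.spanFinrank_maximalIdeal
  exact ⟨_, h1.symm⟩

/-- `depth R = dim R` for a regular local ring. -/
theorem depth_eq_ringKrullDim :
    ((LocCoh.depth R R : ℕ∞) : WithBot ℕ∞) = ringKrullDim R := by
  obtain ⟨d, hd⟩ := exists_nat_ringKrullDim R
  obtain ⟨x, hx, hreg⟩ := exists_regular_system R d hd
  apply le_antisymm
  · have := depth_le_supportDim (R := R) (M := R)
    rwa [Module.supportDim_self_eq_ringKrullDim] at this
  · rw [hd]
    have hmem : ∀ r ∈ List.ofFn x, r ∈ maximalIdeal R := by
      intro r hr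
      rw [List.mem_ofFn] at hr
      obtain ⟨i, rfl⟩ := hr
      exact hx ▸ Ideal.subset_span ⟨i, rfl⟩
    have := length_le_idealDepth (maximalIdeal R) (List.ofFn x) hreg.toIsWeaklyRegular hmem
    rw [List.length_ofFn] at this
    have h3 : ((d : ℕ∞) : WithBot ℕ∞) ≤ ((LocCoh.depth R R : ℕ∞) : WithBot ℕ∞) := by
      exact_mod_cast this
    exact_mod_cast h3

theorem isCohenMacaulayModule_self : LocCoh.IsCohenMacaulayModule R R := by
  rw [LocCoh.IsCohenMacaulayModule, Module.supportDim_self_eq_ringKrullDim,
    depth_eq_ringKrullDim]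

theorem isCohenMacaulayLocalRing : LocCoh.IsCohenMacaulayLocalRing R :=
  { supportDim_eq_depth := isCohenMacaulayModule_self R }

end Groth.Agent.Lib.Helper4.RegCM
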