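import Groth.Prelude.Def_CAlg
import Mathlib.RingTheory.Depth.Rees
import Mathlib.RingTheory.KrullDimension.Regular

/-!
# Depth library (helper4)

Basic theory of `LocCoh.idealDepth` / `LocCoh.depth` (the regular-sequence depth of the prelude),
tied to Mathlib's Rees theorem.
-/

set_option autoImplicit false

universe u v

open RingTheory.Sequence CategoryTheory Abelian

namespace Groth.Agent.Lib.Helper4

section elementary

variable {R : Type u} [CommRing R] {M : Type v} [AddCommGroup M] [Module R M]

lemma idealDepth_of_smul_top_eq (I : Ideal R) (h : I • (⊤ : Submodule R M) = ⊤) :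
    LocCoh.idealDepth I M = ⊤ := by
  classical
  exact if_pos h

lemma idealDepth_of_smul_top_ne (I : Ideal R) (h : I • (⊤ : Submodule R M) ≠ ⊤) :
    LocCoh.idealDepth I M =
      ⨆ (rs : List R) (_ : IsWeaklyRegular M rs ∧ ∀ r ∈ rs, r ∈ I), (rs.length : ℕ∞) := by
  classical
  exact if_neg h

/-- A weakly regular sequence inside `I` bounds the `I`-depth from below. -/
lemma length_le_idealDepth (I : Ideal R) (rs : List R) (hreg : IsWeaklyRegular M rs)
    (hmem : ∀ r ∈ rs, r ∈ I) : (rs.length : ℕ∞) ≤ LocCoh.idealDepth I M := by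
  by_cases h : I • (⊤ : Submodule R M) = ⊤
  · rw [idealDepth_of_smul_top_eq I h]; exact le_top
  · rw [idealDepth_of_smul_top_ne I h]
    exact le_iSup₂_of_le rs ⟨hreg, hmem⟩ le_rfl

/-- Prefixes of weakly regular sequences are weakly regular. -/
lemma isWeaklyRegular_take {rs : List R} (h : IsWeaklyRegular M rs) (n : ℕ) :
    IsWeaklyRegular M (rs.take n) := by
  have := (isWeaklyRegular_append_iff M (rs.take n) (rs.drop n)).mp (by rwa [List.take_append_drop])
  exact this.1

/-- If `n ≤ idealDepth I M` (and `IM ≠ M`) there is a weakly regular sequence of length exactly `n`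
inside `I`. -/
lemma exists_isWeaklyRegular_of_le_idealDepth (I : Ideal R)
    (hIM : I • (⊤ : Submodule R M) ≠ ⊤) (n : ℕ) (h : (n : ℕ∞) ≤ LocCoh.idealDepth I M) :
    ∃ rs : List R, rs.length = n ∧ (∀ r ∈ rs, r ∈ I) ∧ IsWeaklyRegular M rs := by
  rw [idealDepth_of_smul_top_ne I hIM] at h
  rcases Nat.eq_zero_or_pos n with rfl | hn
  · exact ⟨[], rfl, by simp, IsWeaklyRegular.nil R M⟩
  · by_contra hcon
    push Not at hcon
    have hall : ∀ rs : List R, (IsWeaklyRegular M rs ∧ ∀ r ∈ rs, r ∈ I) → rs.length < n := by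
      intro rs hrs
      by_contra hlt
      push Not at hlt
      refine hcon (rs.take n) (by simp [hlt]) (fun r hr => hrs.2 r (List.mem_of_mem_take hr)) ?_
      exact isWeaklyRegular_take hrs.1 n
    have : (⨆ (rs : List R) (_ : IsWeaklyRegular M rs ∧ ∀ r ∈ rs, r ∈ I), (rs.length : ℕ∞)) ≤
        ((n - 1 : ℕ) : ℕ∞) := by
      refine iSup₂_le fun rs hrs => ?_
      have := hall rs hrs
      exact_mod_cast Nat.le_sub_one_of_lt this
    have h2 := h.trans this
    have : n ≤ n - 1 := by exact_mod_cast h2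
    omega

/-- A weakly regular sequence inside `I` is regular as soon as `IM ≠ M`. -/
lemma isRegular_of_isWeaklyRegular_of_mem (I : Ideal R) (hIM : I • (⊤ : Submodule R M) ≠ ⊤)
    {rs : List R} (hreg : IsWeaklyRegular M rs) (hmem : ∀ r ∈ rs, r ∈ I) : IsRegular M rs := by
  refine ⟨hreg, fun h => hIM ?_⟩
  have hle : Ideal.ofList rs • (⊤ : Submodule R M) ≤ I • (⊤ : Submodule R M) := by
    refine Submodule.smul_mono_left ?_
    rw [Ideal.ofList, Ideal.span_le]
    intro r hr
    exact hmem r hr
  exact eq_top_iff.mpr (h.le.trans hle)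

/-- Characterisation of `n ≤ idealDepth I M` by regular sequences when `IM ≠ M`. -/
lemma le_idealDepth_iff_exists_isRegular (I : Ideal R) (hIM : I • (⊤ : Submodule R M) ≠ ⊤)
    (n : ℕ) : (n : ℕ∞) ≤ LocCoh.idealDepth I M ↔
      ∃ rs : List R, rs.length = n ∧ (∀ r ∈ rs, r ∈ I) ∧ IsRegular M rs := by
  constructor
  · intro h
    obtain ⟨rs, hlen, hmem, hreg⟩ := exists_isWeaklyRegular_of_le_idealDepth I hIM n h
    exact ⟨rs, hlen, hmem, isRegular_of_isWeaklyRegular_of_mem I hIM hreg hmem⟩
  · rintro ⟨rs, rfl, hmem, hreg⟩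
    exact length_le_idealDepth I rs hreg.toIsWeaklyRegular hmem

end elementary

section ext

variable {R : Type u} [CommRing R] [Small.{v} R]

lemma ext_smul_eq_zero_of_mem_annihilator_left {N M : ModuleCat.{v} R} {r : R}
    (h : r ∈ Module.annihilator R N) {i : ℕ} (e : Ext N M i) : r • e = 0 := by
  have h0 : r • 𝟙 N = 0 := by
    simp [← ModuleCat.lsmul_eq_smul_id, Module.mem_annihilator_iff_lsmul_eq_zero.mp h]
  have : r • e = (Ext.mk₀ (r • 𝟙 N)).comp e (zero_add i) := by simp [Ext.mk₀_smul]
  rw [this, h0]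
  simp

lemma ext_smul_eq_zero_of_mem_annihilator_right {N M : ModuleCat.{v} R} {r : R}
    (h : r ∈ Module.annihilator R M) {i : ℕ} (e : Ext N M i) : r • e = 0 := by
  have h0 : r • 𝟙 M = 0 := by
    simp [← ModuleCat.lsmul_eq_smul_id, Module.mem_annihilator_iff_lsmul_eq_zero.mp h]
  rw [Ext.smul_eq_comp_mk₀, h0]
  simp

/-- `Ext` into a module vanishes if the annihilators of source and target are comaximal. -/
lemma subsingleton_ext_of_annihilators {N M : ModuleCat.{v} R} {r s : R}
    (hr : r ∈ Module.annihilator R N) (hs : s ∈ Module.annihilator R M) (hrs : r + s = 1)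
    (i : ℕ) : Subsingleton (Ext N M i) := by
  refine ⟨fun a b => ?_⟩
  have h : ∀ e : Ext N M i, e = 0 := by
    intro e
    have : e = (r + s) • e := by rw [hrs, one_smul]
    rw [this, add_smul, ext_smul_eq_zero_of_mem_annihilator_left hr,
      ext_smul_eq_zero_of_mem_annihilator_right hs, add_zero]
  rw [h a, h b]

/-- transport of vanishing of `Ext` along an isomorphism in the first variable -/
lemma subsingleton_ext_of_iso_left {N N' M : ModuleCat.{v} R} (e : N ≅ N') (i : ℕ)
    (h : Subsingleton (Ext N M i)) : Subsingleton (Ext N' M i) := by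
  refine ⟨fun a b => ?_⟩
  have key : ∀ x : Ext N' M i, x = 0 := by
    intro x
    have h1 : (Ext.mk₀ e.hom).comp x (zero_add i) = 0 := Subsingleton.elim _ _
    have h2 : x = (Ext.mk₀ e.inv).comp ((Ext.mk₀ e.hom).comp x (zero_add i)) (zero_add i) := by
      rw [Ext.mk₀_comp_mk₀_assoc, e.inv_hom_id, Ext.mk₀_id_comp]
    rw [h2, h1, Ext.comp_zero]
  rw [key a, key b]

/-- transport of vanishing of `Ext` along an isomorphism in the second variable -/
lemma subsingleton_ext_of_iso_right {N M M' : ModuleCat.{v} R} (e : M ≅ M') (i : ℕ)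
    (h : Subsingleton (Ext N M i)) : Subsingleton (Ext N M' i) := by
  refine ⟨fun a b => ?_⟩
  have key : ∀ x : Ext N M' i, x = 0 := by
    intro x
    have h1 : x.comp (Ext.mk₀ e.inv) (add_zero i) = 0 := Subsingleton.elim _ _
    have h2 : x = (x.comp (Ext.mk₀ e.inv) (add_zero i)).comp (Ext.mk₀ e.hom) (add_zero i) := by
      rw [Ext.comp_assoc_of_third_deg_zero, Ext.mk₀_comp_mk₀, e.inv_hom_id, Ext.comp_mk₀_id]
    rw [h2, h1, Ext.zero_comp]
  rw [key a, key b]

/-- If `IM = M` then `Ext^i(N, M) = 0` for every finite `N` supported in `V(I)`. -/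
lemma subsingleton_ext_of_smul_top_eq (I : Ideal R) (N : ModuleCat.{v} R) [Module.Finite R N]
    (hN : Module.support R N ⊆ PrimeSpectrum.zeroLocus I) (M : ModuleCat.{v} R) [Module.Finite R M]
    (h : I • (⊤ : Submodule R M) = ⊤) (i : ℕ) : Subsingleton (Ext N M i) := by
  obtain ⟨r, hrI, hr⟩ := Submodule.exists_mem_and_smul_eq_self_of_fg_of_le_smul I
    (⊤ : Submodule R M) Module.Finite.fg_top (by rw [h])
  have le_rad := hN
  rw [Module.support_eq_zeroLocus, PrimeSpectrum.zeroLocus_subset_zeroLocus_iff] at le_rad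
  obtain ⟨k, hk⟩ := le_rad hrI
  have hM : (1 - r ^ k) ∈ Module.annihilator R M := by
    rw [Module.mem_annihilator]
    intro m
    have hrm : ∀ j : ℕ, r ^ j • m = m := by
      intro j
      induction j with
      | zero => simp
      | succ j ih => rw [pow_succ, mul_smul, hr m Submodule.mem_top, ih]
    rw [sub_smul, one_smul, hrm k, sub_self]
  exact subsingleton_ext_of_annihilators hk hM (by ring) i

variable [IsNoetherianRing R]

/-- **Rees**: below the `I`-depth of `M`, `Ext^i(N, M)` vanishes for every finite module `N`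
supported in `V(I)`. -/
theorem subsingleton_ext_of_lt_idealDepth (I : Ideal R) (N : ModuleCat.{v} R) [Module.Finite R N]
    (hN : Module.support R N ⊆ PrimeSpectrum.zeroLocus I) (M : ModuleCat.{v} R)
    [Module.Finite R M] (i : ℕ) (hi : (i : ℕ∞) < LocCoh.idealDepth I M) :
    Subsingleton (Ext N M i) := by
  by_cases hIM : I • (⊤ : Submodule R M) = ⊤
  · exact subsingleton_ext_of_smul_top_eq I N hN M hIM i
  · by_cases hNtriv : Nontrivial N
    · have hle : ((i + 1 : ℕ) : ℕ∞) ≤ LocCoh.idealDepth I M := by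
        exact_mod_cast Order.add_one_le_of_lt hi
      have h4 := (le_idealDepth_iff_exists_isRegular I hIM (i + 1)).mp hle
      have := ((ModuleCat.exists_isRegular_tfae I (i + 1) M (lt_top_iff_ne_top.mpr hIM)).out 3 0).mp h4
      exact this N hNtriv inferInstance hN i (Nat.lt_succ_self i)
    · rw [not_nontrivial_iff_subsingleton] at hNtriv
      have h1 : (1 : R) ∈ Module.annihilator R N := by
        rw [Module.mem_annihilator]
        intro n
        exact Subsingleton.elim _ _
      have h0 : (0 : R) ∈ Module.annihilator R M := Submodule.zero_mem _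
      exact subsingleton_ext_of_annihilators h1 h0 (by ring) i

/-- **Rees**: if `Ext^i(N, M) = 0` for all `i < n` for some finite `N` with support `V(I)`,
then `n ≤ idealDepth I M`. -/
theorem le_idealDepth_of_subsingleton_ext (I : Ideal R) (N : ModuleCat.{v} R) [Module.Finite R N]
    (hN : Module.support R N = PrimeSpectrum.zeroLocus I) (M : ModuleCat.{v} R)
    [Module.Finite R M] (n : ℕ) (h : ∀ i < n, Subsingleton (Ext N M i)) :
    (n : ℕ∞) ≤ LocCoh.idealDepth I M := by
  by_cases hIM : I • (⊤ : Submodule R M) = ⊤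
  · rw [idealDepth_of_smul_top_eq I hIM]; exact le_top
  · rw [le_idealDepth_iff_exists_isRegular I hIM n]
    exact ModuleCat.exists_isRegular_of_exists_subsingleton_ext I n M
      (lt_top_iff_ne_top.mpr hIM) N hN h

/-- **Rees**: `n ≤ idealDepth I M` iff `Ext^i(R/I, M) = 0` for all `i < n`
(with `R ⧸ I` shrunk to the universe of `M`). -/
theorem le_idealDepth_iff_ext_shrink (I : Ideal R) (M : ModuleCat.{v} R) [Module.Finite R M]
    (n : ℕ) : (n : ℕ∞) ≤ LocCoh.idealDepth I M ↔
      ∀ i < n, Subsingleton (Ext (ModuleCat.of R (Shrink.{v} (R ⧸ I))) M i) := by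
  have suppQ : Module.support R (Shrink.{v} (R ⧸ I)) = PrimeSpectrum.zeroLocus I := by
    rw [(Shrink.linearEquiv R _).support_eq, Module.support_eq_zeroLocus, Ideal.annihilator_quotient]
  have : Module.Finite R (Shrink.{v} (R ⧸ I)) :=
    Module.Finite.equiv (Shrink.linearEquiv R (R ⧸ I)).symm
  constructor
  · intro h i hi
    refine subsingleton_ext_of_lt_idealDepth I _ suppQ.subset M i (lt_of_lt_of_le ?_ h)
    exact_mod_cast hi
  · intro h
    exact le_idealDepth_of_subsingleton_ext I _ suppQ M n h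

end ext

section extSES

universe w w'

variable {C : Type w} [Category.{w'} C] [Abelian C] [HasExt.{v} C]

lemma subsingleton_ext_X₂ {S : ShortComplex C} (hS : S.ShortExact) (N : C) (n : ℕ)
    (h1 : Subsingleton (Ext N S.X₁ n)) (h3 : Subsingleton (Ext N S.X₃ n)) :
    Subsingleton (Ext N S.X₂ n) := by
  refine ⟨fun a b => ?_⟩
  have key : ∀ x : Ext N S.X₂ n, x = 0 := by
    intro x
    obtain ⟨x₁, rfl⟩ := Ext.covariant_sequence_exact₂ N hS x (Subsingleton.elim _ _)
    rw [Subsingleton.elim x₁ 0, Ext.zero_comp]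
  rw [key a, key b]

lemma subsingleton_ext_X₃ {S : ShortComplex C} (hS : S.ShortExact) (N : C) (n : ℕ)
    (h2 : Subsingleton (Ext N S.X₂ n)) (h1 : Subsingleton (Ext N S.X₁ (n + 1))) :
    Subsingleton (Ext N S.X₃ n) := by
  refine ⟨fun a b => ?_⟩
  have key : ∀ x : Ext N S.X₃ n, x = 0 := by
    intro x
    obtain ⟨x₂, rfl⟩ := Ext.covariant_sequence_exact₃ N hS x rfl (Subsingleton.elim _ _)
    rw [Subsingleton.elim x₂ 0, Ext.zero_comp]
  rw [key a, key b]

lemma subsingleton_ext_X₁_succ {S : ShortComplex C} (hS : S.ShortExact) (N : C) (n : ℕ)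
    (h2 : Subsingleton (Ext N S.X₂ (n + 1))) (h3 : Subsingleton (Ext N S.X₃ n)) :
    Subsingleton (Ext N S.X₁ (n + 1)) := by
  refine ⟨fun a b => ?_⟩
  have key : ∀ x : Ext N S.X₁ (n + 1), x = 0 := by
    intro x
    obtain ⟨x₃, rfl⟩ := Ext.covariant_sequence_exact₁ N hS x (Subsingleton.elim _ _) rfl
    rw [Subsingleton.elim x₃ 0, Ext.zero_comp]
  rw [key a, key b]

lemma subsingleton_ext_X₁_zero {S : ShortComplex C} (hS : S.ShortExact) (N : C)
    (h2 : Subsingleton (Ext N S.X₂ 0)) : Subsingleton (Ext N S.X₁ 0) := by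
  have := hS.mono_f
  exact (Ext.postcomp_mk₀_injective_of_mono N S.f).subsingleton

end extSES

section depthLemma

variable {R : Type u} [CommRing R] [Small.{v} R] [IsNoetherianRing R]

/-- Depth lemma, middle term. -/
theorem idealDepth_X₂_ge (I : Ideal R) {S : ShortComplex (ModuleCat.{v} R)} (hS : S.ShortExact)
    [Module.Finite R S.X₁] [Module.Finite R S.X₂] [Module.Finite R S.X₃] :
    min (LocCoh.idealDepth I S.X₁) (LocCoh.idealDepth I S.X₃) ≤ LocCoh.idealDepth I S.X₂ := by
  rw [← ENat.forall_natCast_le_iff_le]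
  intro n hn
  rw [le_min_iff] at hn
  rw [le_idealDepth_iff_ext_shrink]
  intro i hi
  exact subsingleton_ext_X₂ hS _ i
    ((le_idealDepth_iff_ext_shrink I S.X₁ n).mp hn.1 i hi)
    ((le_idealDepth_iff_ext_shrink I S.X₃ n).mp hn.2 i hi)

/-- Depth lemma, right term. -/
theorem idealDepth_X₃_ge (I : Ideal R) {S : ShortComplex (ModuleCat.{v} R)} (hS : S.ShortExact)
    [Module.Finite R S.X₁] [Module.Finite R S.X₂] [Module.Finite R S.X₃] :
    min (LocCoh.idealDepth I S.X₂) (LocCoh.idealDepth I S.X₁ - 1) ≤ LocCoh.idealDepth I S.X₃ := by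
  rw [← ENat.forall_natCast_le_iff_le]
  intro n hn
  rw [le_min_iff] at hn
  rcases Nat.eq_zero_or_pos n with rfl | hpos
  · simp
  have h1 : ((n + 1 : ℕ) : ℕ∞) ≤ LocCoh.idealDepth I S.X₁ := by
    have := hn.2
    push_cast
    have h' : (n : ℕ∞) + 1 ≤ (LocCoh.idealDepth I S.X₁ - 1) + 1 := by gcongr
    refine h'.trans ?_
    rw [tsub_add_cancel_of_le]
    have : (1 : ℕ∞) ≤ n := by exact_mod_cast hpos
    by_contra hlt
    push Not at hlt
    have h0 : LocCoh.idealDepth I S.X₁ = 0 := by
      exact Order.lt_one_iff.mp hlt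
    rw [h0] at hn
    simp at hn
    omega
  rw [le_idealDepth_iff_ext_shrink]
  intro i hi
  exact subsingleton_ext_X₃ hS _ i
    ((le_idealDepth_iff_ext_shrink I S.X₂ n).mp hn.1 i hi)
    ((le_idealDepth_iff_ext_shrink I S.X₁ (n + 1)).mp h1 (i + 1) (by omega))

/-- Depth lemma, left term. -/
theorem idealDepth_X₁_ge (I : Ideal R) {S : ShortComplex (ModuleCat.{v} R)} (hS : S.ShortExact)
    [Module.Finite R S.X₁] [Module.Finite R S.X₂] [Module.Finite R S.X₃] :
    min (LocCoh.idealDepth I S.X₂) (LocCoh.idealDepth I S.X₃ + 1) ≤ LocCoh.idealDepth I S.X₁ := by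
  rw [← ENat.forall_natCast_le_iff_le]
  intro n hn
  rw [le_min_iff] at hn
  rw [le_idealDepth_iff_ext_shrink]
  intro i hi
  have h2 := (le_idealDepth_iff_ext_shrink I S.X₂ n).mp hn.1 i hi
  rcases Nat.eq_zero_or_pos i with rfl | hpos
  · exact subsingleton_ext_X₁_zero hS _ h2
  · obtain ⟨j, rfl⟩ : ∃ j, i = j + 1 := ⟨i - 1, by omega⟩
    have h3 : ((j + 1 : ℕ) : ℕ∞) ≤ LocCoh.idealDepth I S.X₃ := by
      have h' : ((j + 1 + 1 : ℕ) : ℕ∞) ≤ LocCoh.idealDepth I S.X₃ + 1 := by
        refine le_trans ?_ hn.2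
        exact_mod_cast hi
      push_cast at h' ⊢
      exact (ENat.add_le_add_iff_right (by simp)).mp h'
    exact subsingleton_ext_X₁_succ hS _ j h2
      ((le_idealDepth_iff_ext_shrink I S.X₃ (j + 1)).mp h3 j (by omega))

/-- Depth lemma for a short exact sequence of finite modules given by linear maps. -/
theorem idealDepth_shortExact (I : Ideal R) {N' N N'' : Type v} [AddCommGroup N'] [Module R N']
    [Module.Finite R N'] [AddCommGroup N] [Module R N] [Module.Finite R N] [AddCommGroup N'']
    [Module R N''] [Module.Finite R N''] (f : N' →ₗ[R] N) (g : N →ₗ[R] N'')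
    (hf : Function.Injective f) (hg : Function.Surjective g) (hfg : Function.Exact f g) :
    min (LocCoh.idealDepth I N') (LocCoh.idealDepth I N'') ≤ LocCoh.idealDepth I N ∧
    min (LocCoh.idealDepth I N) (LocCoh.idealDepth I N' - 1) ≤ LocCoh.idealDepth I N'' ∧
    min (LocCoh.idealDepth I N) (LocCoh.idealDepth I N'' + 1) ≤ LocCoh.idealDepth I N' := by
  let S : ShortComplex (ModuleCat.{v} R) :=
    ModuleCat.shortComplexOfCompEqZero f g (by ext x; simpa using hfg.apply_apply_eq_zero x)
  have hS : S.ShortExact := ModuleCat.shortComplex_shortExact S hfg hf hg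
  have i1 : Module.Finite R S.X₁ := ‹Module.Finite R N'›
  have i2 : Module.Finite R S.X₂ := ‹Module.Finite R N›
  have i3 : Module.Finite R S.X₃ := ‹Module.Finite R N''›
  exact ⟨idealDepth_X₂_ge I hS, idealDepth_X₃_ge I hS, idealDepth_X₁_ge I hS⟩

end depthLemma

section quotSMulTop

variable {R : Type u} [CommRing R] {M : Type v} [AddCommGroup M] [Module R M]

open Pointwise in
lemma smul_top_quotSMulTop_ne_top (I : Ideal R) {r : R} (hr : r ∈ I)
    (hI : I • (⊤ : Submodule R M) ≠ ⊤) :
    I • (⊤ : Submodule R (QuotSMulTop r M)) ≠ ⊤ := by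
  by_contra eq
  absurd congrArg (Submodule.comap (Submodule.mkQ _)) eq
  simpa [Submodule.comap_smul_top_of_surjective I _ (Submodule.mkQ_surjective _),
    Submodule.smul_mono_left ((Ideal.span_singleton_le_iff_mem I).mpr hr),
    ← Submodule.ideal_span_singleton_smul] using hI

/-- elementary half: a regular element in `I` raises the depth of the quotient by one. -/
lemma idealDepth_quotSMulTop_add_one_le (I : Ideal R) (x : R) (hx : x ∈ I)
    (hreg : IsSMulRegular M x) :
    LocCoh.idealDepth I (QuotSMulTop x M) + 1 ≤ LocCoh.idealDepth I M := by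
  by_cases hIM : I • (⊤ : Submodule R M) = ⊤
  · rw [idealDepth_of_smul_top_eq I hIM]; exact le_top
  have hIQ := smul_top_quotSMulTop_ne_top I hx hIM
  have key : ∀ n : ℕ, (n : ℕ∞) ≤ LocCoh.idealDepth I (QuotSMulTop x M) →
      ((n + 1 : ℕ) : ℕ∞) ≤ LocCoh.idealDepth I M := by
    intro n hn
    obtain ⟨rs, hlen, hmem, hrs⟩ := exists_isWeaklyRegular_of_le_idealDepth I hIQ n hn
    have := length_le_idealDepth I (x :: rs) (IsWeaklyRegular.cons hreg hrs)
      (by simpa using ⟨hx, hmem⟩)
    simpa [hlen] using this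
  generalize LocCoh.idealDepth I (QuotSMulTop x M) = a at key
  induction a using ENat.recTopCoe with
  | top =>
    have : LocCoh.idealDepth I M = ⊤ := by
      rw [ENat.eq_top_iff_forall_ge]
      intro m
      exact le_trans (by exact_mod_cast Nat.le_succ m) (key m le_top)
    rw [this]
    exact le_top
  | coe a => exact_mod_cast key a le_rfl

variable [Small.{v} R] [IsNoetherianRing R] [Module.Finite R M]

/-- For a finite module `M` over a Noetherian ring and `x ∈ I` a non-zero-divisor on `M`,
the `I`-depth of `M/xM` is one less than that of `M`. -/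
theorem idealDepth_quotSMulTop_add_one (I : Ideal R) (x : R) (hx : x ∈ I)
    (hreg : IsSMulRegular M x) :
    LocCoh.idealDepth I (QuotSMulTop x M) + 1 = LocCoh.idealDepth I M := by
  refine le_antisymm (idealDepth_quotSMulTop_add_one_le I x hx hreg) ?_
  have hS : (ModuleCat.smulShortComplex (ModuleCat.of R M) x).ShortExact :=
    IsSMulRegular.smulShortComplex_shortExact (M := ModuleCat.of R M) hreg
  have i1 : Module.Finite R (ModuleCat.smulShortComplex (ModuleCat.of R M) x).X₁ :=
    ‹Module.Finite R M›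
  have i2 : Module.Finite R (ModuleCat.smulShortComplex (ModuleCat.of R M) x).X₂ :=
    ‹Module.Finite R M›
  have i3 : Module.Finite R (ModuleCat.smulShortComplex (ModuleCat.of R M) x).X₃ :=
    inferInstanceAs (Module.Finite R (QuotSMulTop x M))
  have h := idealDepth_X₃_ge I hS
  have h' : LocCoh.idealDepth I M - 1 ≤ LocCoh.idealDepth I (QuotSMulTop x M) := by
    refine le_trans (le_min ?_ le_rfl) h
    exact tsub_le_self
  exact tsub_le_iff_right.mp h'

end quotSMulTop

section congr

variable {R : Type u} [CommRing R] {M : Type v} [AddCommGroup M] [Module R M]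
  {M' : Type*} [AddCommGroup M'] [Module R M']

lemma smul_top_eq_top_congr (I : Ideal R) (e : M ≃ₗ[R] M') :
    I • (⊤ : Submodule R M) = ⊤ ↔ I • (⊤ : Submodule R M') = ⊤ := by
  constructor
  · intro h
    have := congrArg (Submodule.map e.toLinearMap) h
    rwa [Submodule.map_smul'', Submodule.map_top, LinearEquiv.range] at this
  · intro h
    have := congrArg (Submodule.map e.symm.toLinearMap) h
    rwa [Submodule.map_smul'', Submodule.map_top, LinearEquiv.range] at this

/-- The `I`-depth is invariant under linear equivalences. -/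
lemma idealDepth_congr (I : Ideal R) (e : M ≃ₗ[R] M') :
    LocCoh.idealDepth I M = LocCoh.idealDepth I M' := by
  by_cases h : I • (⊤ : Submodule R M) = ⊤
  · rw [idealDepth_of_smul_top_eq I h,
      idealDepth_of_smul_top_eq I ((smul_top_eq_top_congr I e).mp h)]
  · rw [idealDepth_of_smul_top_ne I h,
      idealDepth_of_smul_top_ne I (fun h' => h ((smul_top_eq_top_congr I e).mpr h'))]
    congr 1
    funext rs
    rw [e.isWeaklyRegular_congr rs]

end congr

section depthZero

variable {R : Type u} [CommRing R] {M : Type v} [AddCommGroup M] [Module R M]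

/-- `depth_I M = 0` iff no element of `I` is `M`-regular (when `IM ≠ M`). -/
lemma idealDepth_eq_zero_iff (I : Ideal R) (hIM : I • (⊤ : Submodule R M) ≠ ⊤) :
    LocCoh.idealDepth I M = 0 ↔ ∀ x ∈ I, ¬ IsSMulRegular M x := by
  constructor
  · intro h x hx hreg
    have := length_le_idealDepth I [x] ((isWeaklyRegular_singleton_iff M x).mpr hreg)
      (by simpa using hx)
    rw [h] at this
    simp at this
  · intro h
    rw [idealDepth_of_smul_top_ne I hIM]
    refine le_antisymm (iSup₂_le fun rs hrs => ?_) zero_le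
    cases rs with
    | nil => simp
    | cons r rs =>
      exfalso
      exact h r (hrs.2 r List.mem_cons_self) ((isWeaklyRegular_cons_iff M r rs).mp hrs.1).1

/-- positivity of depth -/
lemma one_le_idealDepth_iff (I : Ideal R) (hIM : I • (⊤ : Submodule R M) ≠ ⊤) :
    1 ≤ LocCoh.idealDepth I M ↔ ∃ x ∈ I, IsSMulRegular M x := by
  rw [Order.one_le_iff_ne_zero, Ne, idealDepth_eq_zero_iff I hIM]
  push Not
  rfl

variable [IsNoetherianRing R] [Module.Finite R M]

/-- No element of `I` is `M`-regular iff `I` lies in an associated prime of `M`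
(for nontrivial `M`). -/
lemma forall_not_isSMulRegular_iff_exists_le_associatedPrime (I : Ideal R) [Nontrivial M] :
    (∀ x ∈ I, ¬ IsSMulRegular M x) ↔ ∃ p ∈ associatedPrimes R M, I ≤ p := by
  constructor
  · intro h
    have hsub : (I : Set R) ⊆ ⋃ p ∈ associatedPrimes R M, (p : Set R) := by
      intro x hx
      rw [biUnion_associatedPrimes_eq_compl_regular]
      exact h x hx
    have hfin : (associatedPrimes R M).Finite := associatedPrimes.finite R M
    obtain ⟨p, hp, hIp⟩ := (Ideal.subset_union_prime_finite hfin 0 0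
      (fun p hp _ _ => hp.1)).mp hsub
    exact ⟨p, hp, hIp⟩
  · rintro ⟨p, hp, hIp⟩ x hx hreg
    have : x ∈ ⋃ p ∈ associatedPrimes R M, (p : Set R) := Set.mem_biUnion hp (hIp hx)
    rw [biUnion_associatedPrimes_eq_compl_regular] at this
    exact this hreg

lemma idealDepth_eq_zero_iff_exists_le_associatedPrime (I : Ideal R)
    (hIM : I • (⊤ : Submodule R M) ≠ ⊤) :
    LocCoh.idealDepth I M = 0 ↔ ∃ p ∈ associatedPrimes R M, I ≤ p := by
  have : Nontrivial M := by
    by_contra hM
    rw [not_nontrivial_iff_subsingleton] at hM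
    exact hIM (Subsingleton.elim _ _)
  rw [idealDepth_eq_zero_iff I hIM, forall_not_isSMulRegular_iff_exists_le_associatedPrime]

end depthZero

section localDepth

variable {R : Type u} [CommRing R] [IsLocalRing R] {M : Type v} [AddCommGroup M] [Module R M]

lemma maximalIdeal_smul_top_ne_top [Module.Finite R M] [Nontrivial M] :
    IsLocalRing.maximalIdeal R • (⊤ : Submodule R M) ≠ ⊤ := by
  intro h
  have := Submodule.eq_bot_of_le_smul_of_le_jacobson_bot (IsLocalRing.maximalIdeal R)
    (⊤ : Submodule R M) Module.Finite.fg_top (by rw [h])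
    (by rw [IsLocalRing.jacobson_eq_maximalIdeal ⊥ bot_ne_top])
  exact top_ne_bot this

lemma depth_eq_top_of_subsingleton [Subsingleton M] : LocCoh.depth R M = ⊤ :=
  idealDepth_of_smul_top_eq _ (Subsingleton.elim _ _)

/-- Over a Noetherian local ring, a finite module has depth `0` iff the maximal ideal is an
associated prime. -/
theorem depth_eq_zero_iff_maximalIdeal_mem_associatedPrimes [IsNoetherianRing R]
    [Module.Finite R M] :
    LocCoh.depth R M = 0 ↔ IsLocalRing.maximalIdeal R ∈ associatedPrimes R M := by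
  by_cases hM : Nontrivial M
  · rw [LocCoh.depth, idealDepth_eq_zero_iff_exists_le_associatedPrime _
      maximalIdeal_smul_top_ne_top]
    constructor
    · rintro ⟨p, hp, hle⟩
      have hpp : p.IsPrime := hp.isPrime
      have : p = IsLocalRing.maximalIdeal R :=
        ((IsLocalRing.maximalIdeal.isMaximal R).eq_of_le hpp.ne_top hle).symm
      rwa [← this]
    · intro h
      exact ⟨_, h, le_rfl⟩
  · rw [not_nontrivial_iff_subsingleton] at hM
    rw [depth_eq_top_of_subsingleton, associatedPrimes.eq_empty_of_subsingleton]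
    simp

end localDepth

end Groth.Agent.Lib.Helper4
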