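import Groth.Agent.Lib.Helper4.CMChain
import Mathlib.RingTheory.Ideal.AssociatedPrime.Localization

/-!
# Serre's conditions: basic localization lemmas (helper4)
-/

set_option autoImplicit false

universe u

open RingTheory.Sequence CategoryTheory Abelian

namespace Groth.Agent.Lib.Helper4

section

variable {R : Type u} [CommRing R] [IsNoetherianRing R] {M : Type u} [AddCommGroup M] [Module R M]
  [Module.Finite R M]

/-- `depth M_p = 0` iff `p` is an associated prime of `M`. -/
theorem depth_localizedModule_eq_zero_iff (p : Ideal R) [p.IsPrime] :
    LocCoh.depth (Localization.AtPrime p) (LocalizedModule p.primeCompl M) = 0 ↔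
      p ∈ associatedPrimes R M := by
  rw [depth_eq_zero_iff_maximalIdeal_mem_associatedPrimes,
    ← Module.associatedPrimes.preimage_comap_associatedPrimes_eq_associatedPrimes_of_isLocalizedModule
      p.primeCompl (Localization.AtPrime p) (LocalizedModule.mkLinearMap p.primeCompl M),
    Set.mem_preimage]
  have : Ideal.comap (algebraMap R (Localization.AtPrime p))
      (IsLocalRing.maximalIdeal (Localization.AtPrime p)) = p :=
    Localization.AtPrime.under_maximalIdeal
  rw [this]

omit [IsNoetherianRing R] [Module.Finite R M] in
/-- contraction of a prime in the support of `M_p` lies in the support of `M`. -/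
lemma comap_mem_support_of_mem_support_localizedModule (p : Ideal R) [p.IsPrime]
    (c : PrimeSpectrum (Localization.AtPrime p))
    (hc : c ∈ Module.support (Localization.AtPrime p) (LocalizedModule p.primeCompl M)) :
    PrimeSpectrum.comap (algebraMap R (Localization.AtPrime p)) c ∈ Module.support R M := by
  rw [Module.mem_support_iff'] at hc ⊢
  obtain ⟨y, hy⟩ := hc
  induction y using LocalizedModule.induction_on with
  | h m s =>
    refine ⟨m, fun r hr hrm => ?_⟩
    refine hy (algebraMap R (Localization.AtPrime p) r) hr ?_
    rw [algebraMap_smul, LocalizedModule.smul'_mk, hrm, LocalizedModule.zero_mk]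

/-- If `p` is minimal over `Ann M` then `M_p` has zero-dimensional support. -/
theorem supportDim_localizedModule_le_zero_of_mem_minimalPrimes (p : Ideal R) [p.IsPrime]
    (hp : p ∈ (Module.annihilator R M).minimalPrimes) :
    Module.supportDim (Localization.AtPrime p) (LocalizedModule p.primeCompl M) ≤ 0 := by
  rw [Module.supportDim]
  have hsub : Subsingleton
      (Module.support (Localization.AtPrime p) (LocalizedModule p.primeCompl M)) := by
    refine ⟨fun a b => ?_⟩
    have key : ∀ c ∈ Module.support (Localization.AtPrime p) (LocalizedModule p.primeCompl M),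
        PrimeSpectrum.comap (algebraMap R (Localization.AtPrime p)) c = ⟨p, inferInstance⟩ := by
      intro c hc
      have h1 := comap_mem_support_of_mem_support_localizedModule p c hc
      rw [Module.support_eq_zeroLocus, PrimeSpectrum.mem_zeroLocus,
        SetLike.coe_subset_coe] at h1
      have h2 : (PrimeSpectrum.comap (algebraMap R (Localization.AtPrime p)) c).asIdeal ≤ p := by
        intro r hr
        have h := ((IsLocalization.isPrime_iff_isPrime_disjoint p.primeCompl
          (Localization.AtPrime p) c.asIdeal).mp c.2).2
        by_contra hrp
        exact Set.disjoint_left.mp h (show r ∈ (p.primeCompl : Set R) from hrp) hr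
      have h3 := hp.2 ⟨(PrimeSpectrum.comap (algebraMap R (Localization.AtPrime p)) c).2, h1⟩ h2
      exact PrimeSpectrum.ext (le_antisymm h2 h3)
    have hinj := PrimeSpectrum.localization_comap_injective (Localization.AtPrime p) p.primeCompl
    exact Subtype.ext (hinj ((key a.1 a.2).trans (key b.1 b.2).symm))
  exact Order.krullDim_nonpos_of_subsingleton

/-- If `p ∈ Supp M` and `M_p` has zero-dimensional support then `p` is minimal over `Ann M`. -/
theorem mem_minimalPrimes_of_supportDim_localizedModule_le_zero (p : Ideal R) [hpp : p.IsPrime]
    (hp : (⟨p, hpp⟩ : PrimeSpectrum R) ∈ Module.support R M)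
    (hdim : Module.supportDim (Localization.AtPrime p) (LocalizedModule p.primeCompl M) ≤ 0) :
    p ∈ (Module.annihilator R M).minimalPrimes := by
  have hann : Module.annihilator R M ≤ p := by
    rw [Module.support_eq_zeroLocus, PrimeSpectrum.mem_zeroLocus, SetLike.coe_subset_coe] at hp
    exact hp
  refine ⟨⟨hpp, hann⟩, fun q hq hqp => ?_⟩
  obtain ⟨hqprime, hqann⟩ := hq
  have hdisj : Disjoint (p.primeCompl : Set R) (q : Set R) := by
    rw [Set.disjoint_left]
    intro x hx hxq
    exact hx (hqp hxq)
  have hprime : (q.map (algebraMap R (Localization.AtPrime p))).IsPrime :=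
    IsLocalization.isPrime_of_isPrime_disjoint p.primeCompl _ _ hqprime hdisj
  have hcomap : Ideal.comap (algebraMap R (Localization.AtPrime p))
      (q.map (algebraMap R (Localization.AtPrime p))) = q :=
    IsLocalization.under_map_of_isPrime_disjoint p.primeCompl _ hqprime hdisj
  let q' : PrimeSpectrum (Localization.AtPrime p) := ⟨_, hprime⟩
  have hq'supp : q' ∈ Module.support (Localization.AtPrime p) (LocalizedModule p.primeCompl M) := by
    apply mem_support_localizedModule_of_comap_mem
    have : PrimeSpectrum.comap (algebraMap R (Localization.AtPrime p)) q' = ⟨q, hqprime⟩ :=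
      PrimeSpectrum.ext hcomap
    rw [this, Module.support_eq_zeroLocus, PrimeSpectrum.mem_zeroLocus, SetLike.coe_subset_coe]
    exact hqann
  have hMpnt : Nontrivial (LocalizedModule p.primeCompl M) := hp
  have hcl := IsLocalRing.closedPoint_mem_support (Localization.AtPrime p)
    (LocalizedModule p.primeCompl M)
  rw [Module.supportDim, Order.krullDim_nonpos_iff_forall_isMax] at hdim
  have hmax := hdim ⟨q', hq'supp⟩
  have hle : (⟨q', hq'supp⟩ : Module.support (Localization.AtPrime p)
      (LocalizedModule p.primeCompl M)) ≤ ⟨IsLocalRing.closedPoint _, hcl⟩ := by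
    change q' ≤ IsLocalRing.closedPoint _
    exact IsLocalRing.le_maximalIdeal hprime.ne_top
  have hge := hmax hle
  have hge' : IsLocalRing.maximalIdeal (Localization.AtPrime p) ≤
      q.map (algebraMap R (Localization.AtPrime p)) := hge
  have := Ideal.comap_mono (f := algebraMap R (Localization.AtPrime p)) hge'
  rw [hcomap] at this
  have h2 : Ideal.comap (algebraMap R (Localization.AtPrime p))
      (IsLocalRing.maximalIdeal (Localization.AtPrime p)) = p :=
    Localization.AtPrime.under_maximalIdeal
  rwa [h2] at this

/-- No embedded primes iff `(S_1)`. -/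
theorem noEmbedded_iff_hasS1 :
    (∀ p ∈ associatedPrimes R M, p ∈ (Module.annihilator R M).minimalPrimes) ↔
      LocCoh.HasSk 1 R M := by
  constructor
  · intro h p hp
    by_cases hnt : Nontrivial (LocalizedModule p.primeCompl M)
    · obtain ⟨e, he⟩ := exists_nat_depth (R := Localization.AtPrime p)
        (M := LocalizedModule p.primeCompl M)
      rw [he]
      rcases Nat.eq_zero_or_pos e with rfl | hpos
      · have hass : p ∈ associatedPrimes R M := by
          rw [← depth_localizedModule_eq_zero_iff, he]; rfl
        have := supportDim_localizedModule_le_zero_of_mem_minimalPrimes p (h p hass)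
        exact le_trans (min_le_right _ _) (by simpa using this)
      · refine le_trans (min_le_left _ _) ?_
        have : (1 : ℕ) ≤ e := hpos
        exact_mod_cast this
    · rw [not_nontrivial_iff_subsingleton] at hnt
      rw [depth_eq_top_of_subsingleton]
      exact le_top
  · intro h p hp
    have hpp : p.IsPrime := hp.isPrime
    have hdep := (depth_localizedModule_eq_zero_iff p).mpr hp
    have hS := h p
    rw [hdep] at hS
    have hdim : Module.supportDim (Localization.AtPrime p) (LocalizedModule p.primeCompl M) ≤ 0 := by
      have hMpnt : Nontrivial (LocalizedModule p.primeCompl M) :=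
        mem_support_of_mem_associatedPrimes hp
      obtain ⟨a, ha⟩ := exists_nat_supportDim (R := Localization.AtPrime p)
        (M := LocalizedModule p.primeCompl M)
      rw [ha] at hS ⊢
      by_contra hcon
      push Not at hcon
      have hcon' : 0 < a := by exact_mod_cast hcon
      have h1 : ((1 : ℕ) : WithBot ℕ∞) ≤ ((a : ℕ∞) : WithBot ℕ∞) := by
        have : 1 ≤ a := hcon'
        exact_mod_cast this
      rw [min_eq_left h1] at hS
      have : (1 : ℕ) ≤ 0 := by exact_mod_cast hS
      omega
    exact mem_minimalPrimes_of_supportDim_localizedModule_le_zero p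
      (mem_support_of_mem_associatedPrimes hp) hdim

end

end Groth.Agent.Lib.Helper4
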