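import Groth.Agent.Lib.Helper4.Depth2

/-!
# Cohen–Macaulay modules (helper4)

Basic theory of `LocCoh.IsCohenMacaulayModule` over Noetherian local rings.
-/

set_option autoImplicit false

universe u v

open RingTheory.Sequence CategoryTheory Abelian

namespace Groth.Agent.Lib.Helper4

section support

variable {R : Type u} [CommRing R] {M : Type v} [AddCommGroup M] [Module R M]

/-- Associated primes lie in the support. -/
lemma mem_support_of_mem_associatedPrimes [IsNoetherianRing R] {p : Ideal R}
    (hp : p ∈ associatedPrimes R M) :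
    (⟨p, hp.isPrime⟩ : PrimeSpectrum R) ∈ Module.support R M := by
  obtain ⟨-, z, hz⟩ := isAssociatedPrime_iff.mp hp
  rw [Module.mem_support_iff_exists_annihilator]
  refine ⟨z, ?_⟩
  intro a ha
  change a ∈ p
  rw [hz, Submodule.mem_colon_singleton, Submodule.mem_bot]
  exact (Submodule.mem_annihilator_span_singleton z a).mp ha

/-- `dim R/p ≤ dim Supp M` for `p` in the support of `M`. -/
lemma ringKrullDim_quotient_le_supportDim {p : PrimeSpectrum R} (hp : p ∈ Module.support R M) :
    ringKrullDim (R ⧸ p.asIdeal) ≤ Module.supportDim R M := by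
  rw [ringKrullDim_quotient, Module.supportDim]
  have hsub : PrimeSpectrum.zeroLocus (p.asIdeal : Set R) ⊆ Module.support R M := by
    intro q hq
    rw [PrimeSpectrum.mem_zeroLocus, SetLike.coe_subset_coe, PrimeSpectrum.asIdeal_le_asIdeal] at hq
    exact Module.mem_support_mono hq hp
  exact Order.krullDim_le_of_strictMono (fun q => ⟨q.1, hsub q.2⟩) (fun a b h => h)

end support

section CM

variable {R : Type u} [CommRing R] [IsLocalRing R] [IsNoetherianRing R] [Small.{v} R]
  {M : Type v} [AddCommGroup M] [Module R M] [Module.Finite R M]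

omit [IsNoetherianRing R] [Small.{v} R] [Module.Finite R M] in
lemma cm_nontrivial (hM : LocCoh.IsCohenMacaulayModule R M) :
    Nontrivial M := by
  by_contra h
  rw [not_nontrivial_iff_subsingleton] at h
  rw [LocCoh.IsCohenMacaulayModule, Module.supportDim_eq_bot_of_subsingleton,
    depth_eq_top_of_subsingleton] at hM
  exact absurd hM (by simp)

/-- `depth M ≤ dim Supp M` for a nontrivial finite module over a Noetherian local ring. -/
theorem depth_le_supportDim [Nontrivial M] :
    ((LocCoh.depth R M : ℕ∞) : WithBot ℕ∞) ≤ Module.supportDim R M := by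
  obtain ⟨p, hp⟩ := associatedPrimes.nonempty R M
  exact (depth_le_ringKrullDim_quotient hp).trans
    (ringKrullDim_quotient_le_supportDim (p := ⟨p, hp.isPrime⟩)
      (mem_support_of_mem_associatedPrimes hp))

/-- For a Cohen–Macaulay module, `dim R/p = dim M` for every associated prime. -/
theorem cm_ringKrullDim_quotient_eq (hM : LocCoh.IsCohenMacaulayModule R M)
    {p : Ideal R} (hp : p ∈ associatedPrimes R M) :
    ringKrullDim (R ⧸ p) = Module.supportDim R M := by
  refine le_antisymm (ringKrullDim_quotient_le_supportDim (p := ⟨p, hp.isPrime⟩)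
      (mem_support_of_mem_associatedPrimes hp)) ?_
  rw [hM]
  exact depth_le_ringKrullDim_quotient hp

omit [Small.{v} R] [Module.Finite R M] in
lemma supportDim_ne_top [Nontrivial M] : Module.supportDim R M ≠ ⊤ := by
  have h1 := Module.supportDim_le_ringKrullDim R M
  have h2 : ringKrullDim R < ⊤ := ringKrullDim_lt_top
  exact (lt_of_le_of_lt h1 h2).ne

omit [Small.{v} R] in
lemma exists_nat_supportDim [Nontrivial M] :
    ∃ d : ℕ, Module.supportDim R M = ((d : ℕ∞) : WithBot ℕ∞) := by
  have h1 : Module.supportDim R M ≠ ⊥ := Module.supportDim_ne_bot_of_nontrivial R M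
  have h2 : Module.supportDim R M ≠ ⊤ := supportDim_ne_top
  obtain ⟨a, ha⟩ := WithBot.ne_bot_iff_exists.mp h1
  have ha' : a ≠ ⊤ := by
    rintro rfl
    exact h2 ha.symm
  obtain ⟨d, hd⟩ := ENat.ne_top_iff_exists.mp ha'
  exact ⟨d, by rw [← ha, ← hd]⟩

lemma exists_nat_depth [Nontrivial M] : ∃ e : ℕ, LocCoh.depth R M = (e : ℕ∞) := by
  have hne : LocCoh.depth R M ≠ ⊤ := idealDepth_ne_top _ maximalIdeal_smul_top_ne_top
  obtain ⟨n, hn⟩ := ENat.ne_top_iff_exists.mp hne
  exact ⟨n, hn.symm⟩

/-- On a Cohen–Macaulay module, an element of the maximal ideal that drops the dimension of the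
support by one is a non-zero-divisor. -/
theorem cm_isSMulRegular_of_supportDim_quotSMulTop
    (hM : LocCoh.IsCohenMacaulayModule R M) {g : R}
    (hdim : Module.supportDim R (QuotSMulTop g M) + 1 = Module.supportDim R M) :
    IsSMulRegular M g := by
  have hMnt := cm_nontrivial hM
  by_contra hnreg
  have hmem : g ∈ ⋃ p ∈ associatedPrimes R M, (p : Set R) := by
    rw [biUnion_associatedPrimes_eq_compl_regular]
    exact hnreg
  obtain ⟨p, hp, hgp⟩ := Set.mem_iUnion₂.mp hmem
  have hpsupp : (⟨p, hp.isPrime⟩ : PrimeSpectrum R) ∈ Module.support R (QuotSMulTop g M) := by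
    rw [Module.support_quotSMulTop]
    refine ⟨mem_support_of_mem_associatedPrimes hp, ?_⟩
    rw [PrimeSpectrum.mem_zeroLocus, Set.singleton_subset_iff]
    exact hgp
  have h1 := ringKrullDim_quotient_le_supportDim hpsupp
  rw [cm_ringKrullDim_quotient_eq hM hp] at h1
  have hQnt : Nontrivial (QuotSMulTop g M) := by
    rw [← Module.supportDim_ne_bot_iff_nontrivial R]
    intro hbot
    rw [hbot] at hdim
    exact Module.supportDim_ne_bot_of_nontrivial R M hdim.symm
  obtain ⟨d, hd⟩ := exists_nat_supportDim (R := R) (M := QuotSMulTop g M)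
  rw [← hdim, hd] at h1
  have : d + 1 ≤ d := by exact_mod_cast h1
  omega

/-- The quotient of a Cohen–Macaulay module by a regular element of the maximal ideal is
Cohen–Macaulay. -/
theorem cm_quotSMulTop (hM : LocCoh.IsCohenMacaulayModule R M) {g : R}
    (hg : g ∈ IsLocalRing.maximalIdeal R) (hreg : IsSMulRegular M g) :
    LocCoh.IsCohenMacaulayModule R (QuotSMulTop g M) := by
  have hMnt := cm_nontrivial hM
  have hQnt : Nontrivial (QuotSMulTop g M) := nontrivial_quotSMulTop_of_mem_maximalIdeal M hg
  have h1 := Module.supportDim_quotSMulTop_succ_eq_supportDim hreg hg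
  have h2 := idealDepth_quotSMulTop_add_one (IsLocalRing.maximalIdeal R) g hg hreg
  obtain ⟨d, hd⟩ := exists_nat_supportDim (R := R) (M := QuotSMulTop g M)
  obtain ⟨e, he⟩ := exists_nat_depth (R := R) (M := QuotSMulTop g M)
  rw [LocCoh.IsCohenMacaulayModule] at hM ⊢
  rw [hd, he]
  rw [hd, hM, LocCoh.depth, ← h2] at h1
  change LocCoh.idealDepth (IsLocalRing.maximalIdeal R) (QuotSMulTop g M) = e at he
  rw [he] at h1
  have : d + 1 = e + 1 := by exact_mod_cast h1
  have : d = e := by omega
  rw [this]

omit [IsNoetherianRing R] [Small.{v} R] [Module.Finite R M] in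
lemma cm_congr {M' : Type*} [AddCommGroup M'] [Module R M'] (e : M ≃ₗ[R] M') :
    LocCoh.IsCohenMacaulayModule R M ↔ LocCoh.IsCohenMacaulayModule R M' := by
  rw [LocCoh.IsCohenMacaulayModule, LocCoh.IsCohenMacaulayModule, LocCoh.depth, LocCoh.depth,
    Module.supportDim_eq_of_equiv e, idealDepth_congr _ e]

open Pointwise in
/-- The two ways of writing `M/gM`. -/
noncomputable def quotSMulTopEquivSpan (g : R) :
    QuotSMulTop g M ≃ₗ[R] (M ⧸ Ideal.span {g} • (⊤ : Submodule R M)) :=
  (g • (⊤ : Submodule R M)).quotEquivOfEq (Ideal.span {g} • ⊤)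
    ((⊤ : Submodule R M).ideal_span_singleton_smul g).symm

/-- Packaged statement: on a CM module, a parameter element is regular, the quotient is CM
and the depth drops by one. -/
theorem cm_quotient_of_supportDim_drop (hM : LocCoh.IsCohenMacaulayModule R M) (g : R)
    (hg : g ∈ IsLocalRing.maximalIdeal R)
    (hdim : Module.supportDim R (M ⧸ Ideal.span {g} • (⊤ : Submodule R M)) + 1 =
      Module.supportDim R M) :
    IsSMulRegular M g ∧ LocCoh.IsCohenMacaulayModule R (M ⧸ Ideal.span {g} • (⊤ : Submodule R M)) ∧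
      LocCoh.depth R (M ⧸ Ideal.span {g} • (⊤ : Submodule R M)) + 1 = LocCoh.depth R M := by
  have e := quotSMulTopEquivSpan (R := R) (M := M) g
  rw [← Module.supportDim_eq_of_equiv e] at hdim
  have hreg := cm_isSMulRegular_of_supportDim_quotSMulTop hM hdim
  refine ⟨hreg, (cm_congr e).mp (cm_quotSMulTop hM hg hreg), ?_⟩
  rw [LocCoh.depth, LocCoh.depth, ← idealDepth_congr _ e]
  exact idealDepth_quotSMulTop_add_one _ g hg hreg

omit [Small.{v} R] in
/-- `dim M ≤ dim M/(xs)M + |xs|` for `xs` in the maximal ideal. -/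
theorem supportDim_le_supportDim_quot_ofList_add_length (xs : List R)
    (hxs : ∀ x ∈ xs, x ∈ IsLocalRing.maximalIdeal R) :
    Module.supportDim R M ≤
      Module.supportDim R (M ⧸ Ideal.ofList xs • (⊤ : Submodule R M)) + xs.length := by
  induction xs generalizing M with
  | nil =>
    have e : (M ⧸ (Ideal.ofList ([] : List R) • ⊤ : Submodule R M)) ≃ₗ[R] M :=
      Submodule.quotEquivOfEqBot _ (by rw [Ideal.ofList_nil, Submodule.bot_smul])
    rw [Module.supportDim_eq_of_equiv e]
    simp
  | cons x xs ih =>
    have e := Submodule.quotOfListConsSMulTopEquivQuotSMulTopInner M x xs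
    rw [Module.supportDim_eq_of_equiv e, List.length_cons]
    have h1 := Module.supportDim_le_supportDim_quotSMulTop_succ (M := M)
      (hxs x List.mem_cons_self)
    have h2 := ih (M := QuotSMulTop x M) (fun y hy => hxs y (List.mem_cons_of_mem _ hy))
    refine h1.trans ?_
    push_cast
    rw [← add_assoc]
    gcongr

/-- Quotients of CM modules by regular sequences in the maximal ideal are CM. -/
theorem cm_quot_ofList (hM : LocCoh.IsCohenMacaulayModule R M) (xs : List R)
    (hxs : ∀ x ∈ xs, x ∈ IsLocalRing.maximalIdeal R) (hreg : IsWeaklyRegular M xs) :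
    LocCoh.IsCohenMacaulayModule R (M ⧸ Ideal.ofList xs • (⊤ : Submodule R M)) := by
  induction xs generalizing M with
  | nil =>
    have e : (M ⧸ (Ideal.ofList ([] : List R) • ⊤ : Submodule R M)) ≃ₗ[R] M :=
      Submodule.quotEquivOfEqBot _ (by rw [Ideal.ofList_nil, Submodule.bot_smul])
    exact (cm_congr e).mpr hM
  | cons x xs ih =>
    have e := Submodule.quotOfListConsSMulTopEquivQuotSMulTopInner M x xs
    rw [cm_congr e]
    obtain ⟨h1, h2⟩ := (isWeaklyRegular_cons_iff M x xs).mp hreg
    exact ih (M := QuotSMulTop x M) (cm_quotSMulTop hM (hxs x List.mem_cons_self) h1)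
      (fun y hy => hxs y (List.mem_cons_of_mem _ hy)) h2

/-- On a CM module, a sequence in the maximal ideal that drops the dimension by its length is
(weakly) regular. -/
theorem cm_isWeaklyRegular_of_supportDim (hM : LocCoh.IsCohenMacaulayModule R M) (xs : List R)
    (hxs : ∀ x ∈ xs, x ∈ IsLocalRing.maximalIdeal R)
    (hdim : Module.supportDim R (M ⧸ Ideal.ofList xs • (⊤ : Submodule R M)) + xs.length =
      Module.supportDim R M) : IsWeaklyRegular M xs := by
  induction xs generalizing M with
  | nil => exact IsWeaklyRegular.nil R M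
  | cons x xs ih =>
    have hMnt := cm_nontrivial hM
    have hxm := hxs x List.mem_cons_self
    have hxs' : ∀ y ∈ xs, y ∈ IsLocalRing.maximalIdeal R :=
      fun y hy => hxs y (List.mem_cons_of_mem _ hy)
    have e := Submodule.quotOfListConsSMulTopEquivQuotSMulTopInner M x xs
    rw [Module.supportDim_eq_of_equiv e, List.length_cons] at hdim
    have hQnt : Nontrivial (QuotSMulTop x M) := nontrivial_quotSMulTop_of_mem_maximalIdeal M hxm
    have h1 := Module.supportDim_le_supportDim_quotSMulTop_succ (M := M) hxm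
    have h2 := supportDim_le_supportDim_quot_ofList_add_length (M := QuotSMulTop x M) xs hxs'
    have hQQnt : Nontrivial (QuotSMulTop x M ⧸
        Ideal.ofList xs • (⊤ : Submodule R (QuotSMulTop x M))) := by
      rw [← Module.supportDim_ne_bot_iff_nontrivial R]
      intro hbot
      rw [hbot] at hdim
      exact Module.supportDim_ne_bot_of_nontrivial R M hdim.symm
    obtain ⟨a, ha⟩ := exists_nat_supportDim (R := R) (M := M)
    obtain ⟨b, hb⟩ := exists_nat_supportDim (R := R) (M := QuotSMulTop x M)
    obtain ⟨c, hc⟩ := exists_nat_supportDim (R := R)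
      (M := QuotSMulTop x M ⧸ Ideal.ofList xs • (⊤ : Submodule R (QuotSMulTop x M)))
    rw [ha, hb] at h1
    rw [hb, hc] at h2
    rw [ha, hc] at hdim
    have h1' : a ≤ b + 1 := by exact_mod_cast h1
    have h2' : b ≤ c + xs.length := by exact_mod_cast h2
    have h3' : c + (xs.length + 1) = a := by exact_mod_cast hdim
    have hb1 : Module.supportDim R (QuotSMulTop x M) + 1 = Module.supportDim R M := by
      rw [ha, hb]
      have : b + 1 = a := by omega
      exact_mod_cast this
    have hreg := cm_isSMulRegular_of_supportDim_quotSMulTop hM hb1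
    have hcm := cm_quotSMulTop hM hxm hreg
    have hdim' : Module.supportDim R (QuotSMulTop x M ⧸
        Ideal.ofList xs • (⊤ : Submodule R (QuotSMulTop x M))) + xs.length =
        Module.supportDim R (QuotSMulTop x M) := by
      rw [hb, hc]
      have : c + xs.length = b := by omega
      exact_mod_cast this
    exact IsWeaklyRegular.cons hreg (ih (M := QuotSMulTop x M) hcm hxs' hdim')

/-- EGA 0_IV 16.5.6-style statement. -/
theorem cm_isWeaklyRegular_iff_supportDim (hM : LocCoh.IsCohenMacaulayModule R M) (xs : List R)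
    (hxs : ∀ x ∈ xs, x ∈ IsLocalRing.maximalIdeal R) :
    (IsWeaklyRegular M xs ↔
        Module.supportDim R (M ⧸ (Ideal.ofList xs • (⊤ : Submodule R M))) + xs.length =
          Module.supportDim R M) ∧
      (IsWeaklyRegular M xs →
        LocCoh.IsCohenMacaulayModule R (M ⧸ (Ideal.ofList xs • (⊤ : Submodule R M)))) := by
  have hMnt := cm_nontrivial hM
  refine ⟨⟨fun h => ?_, cm_isWeaklyRegular_of_supportDim hM xs hxs⟩, cm_quot_ofList hM xs hxs⟩
  exact Module.supportDim_add_length_eq_supportDim_of_isRegular xs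
    (IsRegular.of_isWeaklyRegular_of_mem_maximalIdeal M hxs h)

end CM

end Groth.Agent.Lib.Helper4
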