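import Groth.Agent.Lib.Helper28.Reflexive
import Groth.Agent.Lib.Helper4.CM

/-!
# Serre's condition `(S_k)` and quotients by regular sequences
-/

set_option autoImplicit false

universe u

open RingTheory.Sequence

namespace Groth.Agent.Lib.Helper4

variable {A : Type u} [CommRing A] [IsNoetherianRing A]

theorem min_natCast_le_iff (k D E : ℕ) :
    min (k : WithBot ℕ∞) (((D : ℕ∞)) : WithBot ℕ∞) ≤ (((E : ℕ∞)) : WithBot ℕ∞) ↔
      min k D ≤ E := by
  rw [min_le_iff, min_le_iff]
  constructor
  · rintro (h | h)
    · left; exact_mod_cast h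
    · right; exact_mod_cast h
  · rintro (h | h)
    · left; exact_mod_cast h
    · right; exact_mod_cast h

/-- If `M` has `(S_{k+1})` and `x` is `M`-regular then `M/xM` has `(S_k)`. -/
theorem hasSk_quotSMulTop {M : Type u} [AddCommGroup M] [Module A M] [Module.Finite A M] (k : ℕ)
    {x : A} (hx : IsSMulRegular M x) (h : LocCoh.HasSk (k + 1) A M) :
    LocCoh.HasSk k A (QuotSMulTop x M) := by
  intro p _
  by_cases hnt : Nontrivial (LocalizedModule p.primeCompl (QuotSMulTop x M))
  swap
  · rw [not_nontrivial_iff_subsingleton] at hnt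
    rw [Module.supportDim_eq_bot_of_subsingleton, min_bot_right]
    exact bot_le
  have hsupp : (⟨p, inferInstance⟩ : PrimeSpectrum A) ∈ Module.support A (QuotSMulTop x M) :=
    Module.mem_support_iff.mpr hnt
  rw [Module.support_quotSMulTop] at hsupp
  have hxp : x ∈ p := by
    have := hsupp.2
    simpa [PrimeSpectrum.mem_zeroLocus] using this
  have hMp : Nontrivial (LocalizedModule p.primeCompl M) := Module.mem_support_iff.mp hsupp.1
  have h1 := Groth.Agent.Lib.Helper28.depth_localization_quotSMulTop p hxp hx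
  have hreg := Groth.Agent.Lib.Helper28.isSMulRegular_localizedModule p hx
  have hmem : algebraMap A (Localization.AtPrime p) x ∈
      IsLocalRing.maximalIdeal (Localization.AtPrime p) := by
    rw [← IsLocalization.mk'_one (M := p.primeCompl) (Localization.AtPrime p) x,
      IsLocalization.AtPrime.mk'_mem_maximal_iff (Localization.AtPrime p) p]
    exact hxp
  have h2 := Module.supportDim_quotSMulTop_succ_eq_supportDim hreg hmem
  rw [← Module.supportDim_eq_of_equiv (Groth.Agent.Lib.Helper28.quotSMulTopLocalizedEquiv p x)] at h2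
  obtain ⟨D, hD⟩ := exists_nat_supportDim (R := Localization.AtPrime p)
    (M := LocalizedModule p.primeCompl (QuotSMulTop x M))
  obtain ⟨E, hE⟩ := exists_nat_depth (R := Localization.AtPrime p)
    (M := LocalizedModule p.primeCompl (QuotSMulTop x M))
  obtain ⟨D', hD'⟩ := exists_nat_supportDim (R := Localization.AtPrime p)
    (M := LocalizedModule p.primeCompl M)
  obtain ⟨E', hE'⟩ := exists_nat_depth (R := Localization.AtPrime p)
    (M := LocalizedModule p.primeCompl M)
  have hk := h p
  rw [hD', hE'] at hk
  rw [hD, hD'] at h2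
  rw [hE, hE'] at h1
  have e1 : D + 1 = D' := by exact_mod_cast h2
  have e2 : E + 1 = E' := by exact_mod_cast h1
  have e3 : min (k + 1) D' ≤ E' := (min_natCast_le_iff (k + 1) D' E').mp (by exact_mod_cast hk)
  rw [hD, hE]
  have e4 : min k D ≤ E := by omega
  exact (min_natCast_le_iff k D E).mpr e4

/-- If `M` has `(S_k)` and `rs` is an `M`-regular sequence of length `≤ k`, then `M/(rs)M` has
`(S_{k - |rs|})`. -/
theorem hasSk_quot_ofList_aux {M : Type u} [AddCommGroup M] [Module A M] {rs : List A}
    (hrs : IsWeaklyRegular M rs) :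
    ∀ k : ℕ, Module.Finite A M → LocCoh.HasSk k A M → rs.length ≤ k →
      LocCoh.HasSk (k - rs.length) A (M ⧸ (Ideal.ofList rs • (⊤ : Submodule A M))) := by
  induction hrs with
  | nil M =>
    intro k _ h _
    have e : (M ⧸ (Ideal.ofList ([] : List A) • ⊤ : Submodule A M)) ≃ₗ[A] M :=
      Submodule.quotEquivOfEqBot _ (by rw [Ideal.ofList_nil, Submodule.bot_smul])
    simpa using Groth.Agent.Lib.Helper28.hasSk_congr k e.symm h
  | @cons M _ _ r rs h1 h2 ih =>
    intro k hfin h hlen
    rw [List.length_cons] at hlen ⊢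
    obtain ⟨k', rfl⟩ : ∃ k', k = k' + 1 := ⟨k - 1, by omega⟩
    have hQ : LocCoh.HasSk k' A (QuotSMulTop r M) := hasSk_quotSMulTop k' h1 h
    have ih' := ih k' inferInstance hQ (by omega)
    have e := Submodule.quotOfListConsSMulTopEquivQuotSMulTopInner M r rs
    have hk : k' + 1 - (rs.length + 1) = k' - rs.length := by omega
    rw [hk]
    exact Groth.Agent.Lib.Helper28.hasSk_congr _ e.symm ih'

end Groth.Agent.Lib.Helper4
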