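import Groth.Agent.Lib.Helper28.Reflexive
import Groth.Agent.Lib.Helper4.SkQuot

/-!
# Serre's condition `(S_k)` for the ring itself
-/

set_option autoImplicit false

universe u

namespace Groth.Agent.Lib.Helper4

variable {A : Type u} [CommRing A] [IsNoetherianRing A]

lemma supportDim_localizedModule_self (p : Ideal A) [p.IsPrime] :
    Module.supportDim (Localization.AtPrime p) (LocalizedModule p.primeCompl A) =
      ((p.height : ℕ∞) : WithBot ℕ∞) := by
  rw [Module.supportDim_eq_of_equiv (Groth.Agent.Lib.Helper28.localizedSelfEquiv p.primeCompl),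
    Module.supportDim_self_eq_ringKrullDim,
    IsLocalization.AtPrime.ringKrullDim_eq_height p (Localization.AtPrime p)]

lemma depth_localizedModule_self (p : Ideal A) [p.IsPrime] :
    LocCoh.depth (Localization.AtPrime p) (LocalizedModule p.primeCompl A) =
      LocCoh.depth (Localization.AtPrime p) (Localization.AtPrime p) := by
  unfold LocCoh.depth
  exact Groth.Agent.Lib.Helper28.idealDepth_congr
    (Groth.Agent.Lib.Helper28.localizedSelfEquiv p.primeCompl) _

/-- `(S_k)` for the ring itself, in terms of heights and depths of the local rings. -/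
theorem hasSk_self_iff (k : ℕ) : LocCoh.HasSk k A A ↔ ∀ (p : Ideal A) [p.IsPrime],
    min (k : WithBot ℕ∞) ((p.height : ℕ∞) : WithBot ℕ∞) ≤
      ((LocCoh.depth (Localization.AtPrime p) (Localization.AtPrime p) : ℕ∞) : WithBot ℕ∞) := by
  constructor
  · intro h p _
    have := h p
    rwa [supportDim_localizedModule_self, depth_localizedModule_self] at this
  · intro h p _
    have := h p
    rwa [supportDim_localizedModule_self, depth_localizedModule_self]

theorem natCast_le_depth_of_hasSk (k : ℕ) (h : LocCoh.HasSk k A A) (p : Ideal A) [p.IsPrime]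
    (hp : (k : ℕ∞) ≤ p.height) :
    (k : ℕ∞) ≤ LocCoh.depth (Localization.AtPrime p) (Localization.AtPrime p) := by
  have h1 := (hasSk_self_iff k).mp h p
  have h2 : (k : WithBot ℕ∞) ≤ ((p.height : ℕ∞) : WithBot ℕ∞) := by exact_mod_cast hp
  rw [min_eq_left h2] at h1
  exact_mod_cast h1

/-- `(S_k)` for the ring itself, entirely in `ℕ∞`. -/
theorem hasSk_self_iff' (k : ℕ) : LocCoh.HasSk k A A ↔ ∀ (p : Ideal A) [p.IsPrime],
    min (k : ℕ∞) p.height ≤
      LocCoh.depth (Localization.AtPrime p) (Localization.AtPrime p) := by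
  rw [hasSk_self_iff]
  refine forall_congr' fun p => forall_congr' fun _ => ?_
  rw [← WithBot.coe_natCast, ← WithBot.coe_min, WithBot.coe_le_coe]

end Groth.Agent.Lib.Helper4
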