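import Mathlib
import Groth.Agent.Lib.Helper4.Depth
import Groth.Agent.Lib.Helper4.Sk
import Groth.Agent.Lib.Helper4.SkRing
import Groth.Agent.Lib.Helper5.NormalDepthOne
import Groth.Agent.Lib.Helper5.HartogsDepth
import Groth.Agent.Lib.Helper9.RegLocal

/-!
# Serre's criterion for normality (helper4)

`R₁ + S₂ ⇔ all local rings are integrally closed domains`, for Noetherian rings.
-/

set_option autoImplicit false
set_option linter.style.haveILetI false
set_option linter.unusedSectionVars false
universe u
open IsLocalRing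

namespace Groth.Agent.Lib.Helper4.SerreNormal

open Groth.Agent.Lib.Helper4

section transfer

variable {R : Type u} [CommRing R] [IsNoetherianRing R]

theorem hasRk_atPrime (k : ℕ) (h : LocCoh.HasRk k R) (p : Ideal R) [p.IsPrime] :
    LocCoh.HasRk k (Localization.AtPrime p) := by
  intro q _ hht
  have h2 : (q.comap (algebraMap R (Localization.AtPrime p))).height = q.height :=
    IsLocalization.height_under p.primeCompl q
  haveI := h (q.comap (algebraMap R (Localization.AtPrime p))) (by rw [h2]; exact hht)
  exact IsRegularLocalRing.of_ringEquiv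
    (IsLocalization.localizationLocalizationAtPrimeIsoLocalization p.primeCompl q).toRingEquiv

theorem hasSk_self_atPrime (k : ℕ) (h : LocCoh.HasSk k R R) (p : Ideal R) [p.IsPrime] :
    LocCoh.HasSk k (Localization.AtPrime p) (Localization.AtPrime p) := by
  rw [hasSk_self_iff'] at h ⊢
  intro q _
  have h1 := h (q.comap (algebraMap R (Localization.AtPrime p)))
  have h2 : (q.comap (algebraMap R (Localization.AtPrime p))).height = q.height :=
    IsLocalization.height_under p.primeCompl q
  rw [h2] at h1
  exact h1.trans (Groth.Agent.Lib.Helper5.Hartogs.depth_le_of_ringEquiv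
    (IsLocalization.localizationLocalizationAtPrimeIsoLocalization p.primeCompl q).toRingEquiv)

theorem height_maximalIdeal_atPrime (p : Ideal R) [p.IsPrime] :
    (maximalIdeal (Localization.AtPrime p)).height = p.height := by
  have h1 := IsLocalRing.maximalIdeal_height_eq_ringKrullDim (R := Localization.AtPrime p)
  have h2 := IsLocalization.AtPrime.ringKrullDim_eq_height p (Localization.AtPrime p)
  rw [h2] at h1
  exact_mod_cast h1

end transfer

section dimOne

/-- A regular local domain of dimension at most one is integrally closed. -/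
theorem isIntegrallyClosed_of_regular_of_dim_le_one (B : Type u) [CommRing B]
    [IsRegularLocalRing B] [IsDomain B] (h : ringKrullDim B ≤ 1) : IsIntegrallyClosed B := by
  have h1 := (IsRegularLocalRing.iff_finrank_cotangentSpace B).mp inferInstance
  have h2 : Module.finrank (ResidueField B) (CotangentSpace B) ≤ 1 := by
    rw [← h1] at h
    exact_mod_cast h
  have h53 : Module.finrank (ResidueField B) (CotangentSpace B) ≤ 1 → (IsIntegrallyClosed B ∧
      ∀ P : Ideal B, P ≠ ⊥ → P.IsPrime → P = maximalIdeal B) :=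
    ((tfae_of_isNoetherianRing_of_isLocalRing_of_isDomain B).out 5 3).mp
  exact (h53 h2).1

/-- A normal Noetherian local domain of dimension at most one is regular. -/
theorem isRegularLocalRing_of_normal_of_dim_le_one (B : Type u) [CommRing B] [IsDomain B]
    [IsNoetherianRing B] [IsLocalRing B] [IsIntegrallyClosed B] (h : ringKrullDim B ≤ 1) :
    IsRegularLocalRing B := by
  have hprimes : ∀ P : Ideal B, P ≠ ⊥ → P.IsPrime → P = maximalIdeal B := by
    intro P hP0 hPp
    by_contra hne
    have hlt : P < maximalIdeal B := lt_of_le_of_ne (le_maximalIdeal hPp.ne_top) hne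
    have hbot : (⊥ : Ideal B) < P := bot_lt_iff_ne_bot.mpr hP0
    haveI : (⊥ : Ideal B).IsPrime := Ideal.isPrime_bot
    have h1 : (⊥ : Ideal B).height < P.height := Ideal.height_strict_mono_of_isPrime hbot
    have h2 : P.height < (maximalIdeal B).height := Ideal.height_strict_mono_of_isPrime hlt
    have h3 : (maximalIdeal B).height ≤ 1 := by
      have := IsLocalRing.maximalIdeal_height_eq_ringKrullDim (R := B)
      rw [← this] at h
      exact_mod_cast h
    have h4 : P.height < 1 := lt_of_lt_of_le h2 h3
    have h5 : P.height = 0 := Order.lt_one_iff.mp h4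
    rw [h5] at h1
    exact not_lt_zero h1
  have h30 : (IsIntegrallyClosed B ∧
      ∀ P : Ideal B, P ≠ ⊥ → P.IsPrime → P = maximalIdeal B) → IsPrincipalIdealRing B :=
    ((tfae_of_isNoetherianRing_of_isLocalRing_of_isDomain B).out 3 0).mp
  haveI : IsPrincipalIdealRing B := h30 ⟨inferInstance, hprimes⟩
  infer_instance

/-- `(S₂)` at the closed point of a normal Noetherian local domain. -/
theorem min_two_le_depth_of_normal (B : Type u) [CommRing B] [IsDomain B]
    [IsNoetherianRing B] [IsLocalRing B] [IsIntegrallyClosed B] :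
    min ((2 : ℕ) : ℕ∞) (maximalIdeal B).height ≤ LocCoh.depth B B := by
  by_cases hm : maximalIdeal B = ⊥
  · have h0 : (maximalIdeal B).height = 0 := by rw [hm]; exact Ideal.height_bot
    rw [h0]
    exact (min_le_right _ _).trans zero_le
  · obtain ⟨a, ha, ha0⟩ := Submodule.exists_mem_ne_zero_of_ne_bot hm
    have hreg : IsSMulRegular B a := by
      rw [isSMulRegular_iff_right_eq_zero_of_smul]
      intro m hmm
      rw [smul_eq_mul] at hmm
      rcases mul_eq_zero.mp hmm with h | h
      · exact absurd h ha0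
      · exact h
    have h1 : 1 ≤ LocCoh.depth B B :=
      (one_le_idealDepth_iff _ maximalIdeal_smul_top_ne_top).mpr ⟨a, ha, hreg⟩
    rcases eq_or_lt_of_le h1 with h1' | h1'
    · haveI := Groth.Agent.Lib.Helper5.NormalDepthOne.isDiscreteValuationRing_of_depth_eq_one
        (R := B) h1'.symm
      have hdim : ringKrullDim B = 1 :=
        IsPrincipalIdealRing.ringKrullDim_eq_one B (IsDiscreteValuationRing.not_isField B)
      have h2 : (maximalIdeal B).height = 1 := by
        have := IsLocalRing.maximalIdeal_height_eq_ringKrullDim (R := B)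
        rw [hdim] at this
        exact_mod_cast this
      rw [h2, ← h1']
      exact min_le_right _ _
    · have h2 : (2 : ℕ∞) ≤ LocCoh.depth B B := by
        have := Order.add_one_le_of_lt h1'
        rwa [one_add_one_eq_two] at this
      exact (min_le_left _ _).trans (by exact_mod_cast h2)

end dimOne

section main

variable {R : Type u} [CommRing R] [IsNoetherianRing R]

/-- Under `(S₂)`, an associated prime of `R/(b)` for a nonzerodivisor `b` has height `≤ 1`. -/
theorem height_le_one_of_colon (hS2 : LocCoh.HasSk 2 R R) (b : R) (hb : b ∈ nonZeroDivisors R)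
    (P : Ideal R) [P.IsPrime] (z : R) (hz : ∀ r : R, r ∈ P ↔ r * z ∈ Ideal.span {b}) :
    P.height ≤ 1 := by
  obtain ⟨B, hB⟩ : ∃ B : Type u, B = Localization.AtPrime P := ⟨_, rfl⟩
  subst hB
  have hbP : b ∈ P := by
    rw [hz]; exact Ideal.mul_mem_right _ _ (Ideal.mem_span_singleton_self b)
  obtain ⟨b', hb'⟩ : ∃ b' : Localization.AtPrime P, b' = algebraMap R _ b := ⟨_, rfl⟩
  obtain ⟨z', hz'⟩ : ∃ z' : Localization.AtPrime P, z' = algebraMap R _ z := ⟨_, rfl⟩
  have hb'nzd : b' ∈ nonZeroDivisors (Localization.AtPrime P) := by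
    rw [hb']
    exact IsLocalization.map_nonZeroDivisors_le P.primeCompl (S := Localization.AtPrime P)
      (Submonoid.mem_map_of_mem _ hb)
  have hreg : IsSMulRegular (Localization.AtPrime P) b' := by
    rw [isSMulRegular_iff_right_eq_zero_of_smul]
    intro m hmm
    rw [smul_eq_mul] at hmm
    exact (mem_nonZeroDivisors_iff_left.mp hb'nzd) m hmm
  have hb'm : b' ∈ maximalIdeal (Localization.AtPrime P) := by
    rw [hb', IsLocalization.AtPrime.to_map_mem_maximal_iff (Localization.AtPrime P) P]
    exact hbP
  have hne : maximalIdeal (Localization.AtPrime P) •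
      (⊤ : Submodule (Localization.AtPrime P) (QuotSMulTop b' (Localization.AtPrime P))) ≠ ⊤ :=
    smul_top_quotSMulTop_ne_top _ hb'm maximalIdeal_smul_top_ne_top
  obtain ⟨w, hw⟩ : ∃ w : QuotSMulTop b' (Localization.AtPrime P),
      w = Submodule.Quotient.mk z' := ⟨_, rfl⟩
  have hw0 : w ≠ 0 := by
    intro hw0
    rw [hw, Submodule.Quotient.mk_eq_zero, Submodule.mem_smul_pointwise_iff_exists] at hw0
    obtain ⟨c, -, hc⟩ := hw0
    obtain ⟨⟨c₀, s⟩, hcs⟩ := IsLocalization.surj P.primeCompl c
    have hcs' : c * algebraMap R (Localization.AtPrime P) (s : R) =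
        algebraMap R (Localization.AtPrime P) c₀ := hcs
    have heq : algebraMap R (Localization.AtPrime P) ((s : R) * z) =
        algebraMap R (Localization.AtPrime P) (c₀ * b) := by
      rw [map_mul, map_mul, ← hcs', ← hz', ← hb', ← hc, smul_eq_mul]; ring
    obtain ⟨u, hu⟩ := (IsLocalization.eq_iff_exists P.primeCompl (Localization.AtPrime P)).mp heq
    have hmem : ((u : R) * (s : R)) ∈ P := by
      rw [hz, Ideal.mem_span_singleton']
      exact ⟨(u : R) * c₀, by rw [mul_assoc, ← hu, mul_assoc]⟩
    have hus := (u * s).2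
    rw [Submonoid.coe_mul] at hus
    exact hus hmem
  have hkill : ∀ x ∈ maximalIdeal (Localization.AtPrime P), x • w = 0 := by
    intro x hx
    obtain ⟨⟨x₀, s⟩, hxs⟩ := IsLocalization.surj P.primeCompl x
    have hxs' : x * algebraMap R (Localization.AtPrime P) (s : R) =
        algebraMap R (Localization.AtPrime P) x₀ := hxs
    have hx₀ : x₀ ∈ P := by
      rw [← IsLocalization.AtPrime.to_map_mem_maximal_iff (Localization.AtPrime P) P, ← hxs']
      exact Ideal.mul_mem_right _ _ hx
    obtain ⟨e, he⟩ := Ideal.mem_span_singleton'.mp ((hz x₀).mp hx₀)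
    obtain ⟨v, hv⟩ := (IsLocalization.map_units (Localization.AtPrime P) s).exists_left_inv
    rw [hw, ← Submodule.Quotient.mk_smul, Submodule.Quotient.mk_eq_zero,
      Submodule.mem_smul_pointwise_iff_exists]
    refine ⟨algebraMap R (Localization.AtPrime P) e * v, trivial, ?_⟩
    calc b' • (algebraMap R (Localization.AtPrime P) e * v)
        = algebraMap R (Localization.AtPrime P) (e * b) * v := by
          rw [smul_eq_mul, map_mul, ← hb']; ring
      _ = (x * algebraMap R (Localization.AtPrime P) (s : R)) * z' * v := by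
          rw [he, map_mul, hxs', hz']
      _ = x * z' * (v * algebraMap R (Localization.AtPrime P) (s : R)) := by ring
      _ = x • z' := by rw [hv, mul_one, smul_eq_mul]
  have hd0 : LocCoh.idealDepth (maximalIdeal (Localization.AtPrime P))
      (QuotSMulTop b' (Localization.AtPrime P)) = 0 := by
    rw [idealDepth_eq_zero_iff _ hne]
    intro x hx hxreg
    exact hw0 (hxreg.right_eq_zero_of_smul (hkill x hx))
  have hadd := idealDepth_quotSMulTop_add_one (maximalIdeal (Localization.AtPrime P)) b' hb'm hreg
  rw [hd0, zero_add] at hadd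
  have hsk := (hasSk_self_iff' 2).mp hS2 P
  have hdep : LocCoh.depth (Localization.AtPrime P) (Localization.AtPrime P) = 1 := hadd.symm
  rw [hdep] at hsk
  rcases min_le_iff.mp hsk with h | h
  · exact absurd h (by norm_num)
  · exact h

/-- Key lemma: under `(R₁)` and `(S₂)`, a fraction `a/b` (with `b` a nonzerodivisor) which is
integral over `R` lies in `R`. -/
theorem mem_span_of_isIntegral (hR1 : LocCoh.HasRk 1 R) (hS2 : LocCoh.HasSk 2 R R) (a b : R)
    (hb : b ∈ nonZeroDivisors R) (t : FractionRing R)
    (ht : t * algebraMap R (FractionRing R) b = algebraMap R (FractionRing R) a)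
    (hint : IsIntegral R t) : a ∈ Ideal.span {b} := by
  by_contra ha
  have hā : (Ideal.Quotient.mk (Ideal.span {b}) a) ≠ 0 := by
    rwa [Ne, Ideal.Quotient.eq_zero_iff_mem]
  obtain ⟨P, hP, hle⟩ := exists_le_isAssociatedPrime_of_isNoetherianRing (R := R)
    (M := R ⧸ Ideal.span {b}) (Ideal.Quotient.mk (Ideal.span {b}) a) hā
  rw [isAssociatedPrime_iff] at hP
  obtain ⟨hPprime, q, hq⟩ := hP
  obtain ⟨z, rfl⟩ := Ideal.Quotient.mk_surjective q
  have hsmul : ∀ r y : R, r • (Ideal.Quotient.mk (Ideal.span {b}) y) = 0 ↔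
      r * y ∈ Ideal.span {b} := by
    intro r y
    rw [Algebra.smul_def, Ideal.Quotient.algebraMap_eq, ← map_mul,
      Ideal.Quotient.eq_zero_iff_mem]
  have hz : ∀ r : R, r ∈ P ↔ r * z ∈ Ideal.span {b} := by
    intro r
    rw [hq, Submodule.mem_colon_singleton, Submodule.mem_bot, hsmul]
  have hann : ∀ r : R, r * a ∈ Ideal.span {b} → r ∈ P := by
    intro r hr
    apply hle
    rw [Submodule.mem_colon_singleton, Submodule.mem_bot, hsmul]
    exact hr
  haveI := hPprime
  have hht := height_le_one_of_colon hS2 b hb P z hz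
  haveI hreg : IsRegularLocalRing (Localization.AtPrime P) := hR1 P (by exact_mod_cast hht)
  haveI : IsDomain (Localization.AtPrime P) :=
    Groth.Agent.Lib.Helper9.RegLocal.isDomain_of_isRegularLocalRing _
  have hdim : ringKrullDim (Localization.AtPrime P) ≤ 1 := by
    rw [IsLocalization.AtPrime.ringKrullDim_eq_height P (Localization.AtPrime P)]
    exact_mod_cast hht
  haveI : IsIntegrallyClosed (Localization.AtPrime P) :=
    isIntegrallyClosed_of_regular_of_dim_le_one _ hdim
  obtain ⟨g, hg⟩ : ∃ g : R →+* FractionRing (Localization.AtPrime P),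
      g = (algebraMap (Localization.AtPrime P) (FractionRing (Localization.AtPrime P))).comp
        (algebraMap R (Localization.AtPrime P)) := ⟨_, rfl⟩
  have hgu : ∀ y : nonZeroDivisors R, IsUnit (g y) := by
    intro y
    have h1 : algebraMap R (Localization.AtPrime P) y ∈
        nonZeroDivisors (Localization.AtPrime P) :=
      IsLocalization.map_nonZeroDivisors_le P.primeCompl (S := Localization.AtPrime P)
        (Submonoid.mem_map_of_mem _ y.2)
    have h2 : algebraMap R (Localization.AtPrime P) y ≠ 0 := nonZeroDivisors.ne_zero h1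
    rw [hg, RingHom.comp_apply]
    exact IsUnit.mk0 _ ((map_ne_zero_iff _ (IsFractionRing.injective (Localization.AtPrime P)
      (FractionRing (Localization.AtPrime P)))).mpr h2)
  obtain ⟨ψ, hψdef⟩ : ∃ ψ : FractionRing R →+* FractionRing (Localization.AtPrime P),
      ψ = IsLocalization.lift hgu := ⟨_, rfl⟩
  have hψ : ∀ r : R, ψ (algebraMap R (FractionRing R) r) = g r := by
    intro r; rw [hψdef]; exact IsLocalization.lift_eq hgu r
  have hint' : IsIntegral (Localization.AtPrime P) (ψ t) := by
    obtain ⟨p, hp, hpt⟩ := hint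
    refine ⟨p.map (algebraMap R (Localization.AtPrime P)), hp.map _, ?_⟩
    rw [Polynomial.eval₂_map]
    have h3 := congrArg ψ hpt
    rw [Polynomial.hom_eval₂, map_zero] at h3
    have hcomp : ψ.comp (algebraMap R (FractionRing R)) =
        (algebraMap (Localization.AtPrime P) (FractionRing (Localization.AtPrime P))).comp
          (algebraMap R (Localization.AtPrime P)) := by
      rw [← hg]; exact RingHom.ext hψ
    rwa [hcomp] at h3
  obtain ⟨c, hc⟩ := IsIntegrallyClosed.algebraMap_eq_of_integral hint'
  have hcb : c * algebraMap R (Localization.AtPrime P) b =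
      algebraMap R (Localization.AtPrime P) a := by
    apply IsFractionRing.injective (Localization.AtPrime P)
      (FractionRing (Localization.AtPrime P))
    rw [map_mul, hc]
    have h4 := congrArg ψ ht
    rw [map_mul, hψ, hψ, hg] at h4
    exact h4
  obtain ⟨⟨c₀, s⟩, hcs⟩ := IsLocalization.surj P.primeCompl c
  have hcs' : c * algebraMap R (Localization.AtPrime P) (s : R) =
      algebraMap R (Localization.AtPrime P) c₀ := hcs
  have heq : algebraMap R (Localization.AtPrime P) ((s : R) * a) =
      algebraMap R (Localization.AtPrime P) (c₀ * b) := by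
    rw [map_mul, map_mul, ← hcb, ← hcs']; ring
  obtain ⟨u, hu⟩ := (IsLocalization.eq_iff_exists P.primeCompl (Localization.AtPrime P)).mp heq
  have hmem : ((u : R) * (s : R)) ∈ P := by
    apply hann
    rw [Ideal.mem_span_singleton']
    exact ⟨(u : R) * c₀, by rw [mul_assoc, ← hu, mul_assoc]⟩
  have hus := (u * s).2
  rw [Submonoid.coe_mul] at hus
  exact hus hmem

/-- `(R₁) + (S₂)` (in fact `(R₀) + (S₁)`) implies reduced. -/
theorem isReduced_of_R1_S2 (hR1 : LocCoh.HasRk 1 R) (hS2 : LocCoh.HasSk 2 R R) : IsReduced R := by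
  constructor
  intro x hx
  by_contra hx0
  obtain ⟨P, hP, hle⟩ := exists_le_isAssociatedPrime_of_isNoetherianRing (R := R) (M := R) x hx0
  have hPass : P ∈ associatedPrimes R R := hP
  haveI hPprime : P.IsPrime := hP.isPrime
  have hd0 : LocCoh.depth (Localization.AtPrime P) (LocalizedModule P.primeCompl R) = 0 :=
    (depth_localizedModule_eq_zero_iff P).mpr hPass
  rw [depth_localizedModule_self] at hd0
  have hsk := (hasSk_self_iff' 2).mp hS2 P
  rw [hd0] at hsk
  have hht : P.height ≤ 1 := by
    rcases min_le_iff.mp hsk with h | h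
    · exact absurd h (by norm_num)
    · exact h.trans zero_le_one
  haveI : IsRegularLocalRing (Localization.AtPrime P) := hR1 P (by exact_mod_cast hht)
  haveI : IsDomain (Localization.AtPrime P) :=
    Groth.Agent.Lib.Helper9.RegLocal.isDomain_of_isRegularLocalRing _
  have hx1 : algebraMap R (Localization.AtPrime P) x = 0 := (hx.map _).eq_zero
  obtain ⟨u, hu⟩ := (IsLocalization.map_eq_zero_iff P.primeCompl _ x).mp hx1
  have hmem : (u : R) ∈ P := by
    apply hle
    rw [Submodule.mem_colon_singleton, Submodule.mem_bot, smul_eq_mul]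
    exact hu
  exact u.2 hmem

/-- A Noetherian local ring with `(R₁)` and `(S₂)` is a domain. -/
theorem isDomain_of_R1_S2 [IsLocalRing R] (hR1 : LocCoh.HasRk 1 R) (hS2 : LocCoh.HasSk 2 R R) :
    IsDomain R := by
  haveI := isReduced_of_R1_S2 hR1 hS2
  suffices H : ∀ x y : R, x * y = 0 → x = 0 ∨ y = 0 by
    haveI : NoZeroDivisors R := ⟨fun {a b} hab => H a b hab⟩
    exact NoZeroDivisors.to_isDomain R
  intro x y hxy
  by_contra hne
  push Not at hne
  obtain ⟨hx0, hy0⟩ := hne
  obtain ⟨I, hI⟩ : ∃ I : Ideal R, ∀ r : R, r ∈ I ↔ r * x = 0 :=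
    ⟨LinearMap.ker (LinearMap.toSpanSingleton R R x), fun r => by
      rw [LinearMap.mem_ker, LinearMap.toSpanSingleton_apply, smul_eq_mul]⟩
  obtain ⟨J, hJ⟩ : ∃ J : Ideal R, ∀ r : R, r ∈ J ↔ ∀ n ∈ I, r * n = 0 :=
    ⟨Submodule.annihilator I, fun r => by
      rw [Submodule.mem_annihilator]; simp only [smul_eq_mul]⟩
  have hyI : y ∈ I := by rw [hI, mul_comm]; exact hxy
  have hxJ : x ∈ J := by
    rw [hJ]; intro n hn; rw [mul_comm]; exact (hI n).mp hn
  have hIJ : ∀ w : R, w ∈ I → w ∈ J → w = 0 := by
    intro w hwI hwJ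
    have h2 : w * w = 0 := (hJ w).mp hwJ w hwI
    exact IsReduced.eq_zero w ⟨2, by rw [pow_two]; exact h2⟩
  -- a regular element in `I + J`
  have hexreg : ∃ s ∈ I ⊔ J, IsSMulRegular R s := by
    by_contra hcon
    push Not at hcon
    obtain ⟨p, hp, hle⟩ :=
      (forall_not_isSMulRegular_iff_exists_le_associatedPrime (M := R) (I ⊔ J)).mp hcon
    have hp' : IsAssociatedPrime p R := hp
    rw [isAssociatedPrime_iff] at hp'
    obtain ⟨hpp, z, hz⟩ := hp'
    have hzmem : ∀ r : R, r ∈ p ↔ r * z = 0 := by
      intro r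
      rw [hz, Submodule.mem_colon_singleton, Submodule.mem_bot, smul_eq_mul]
    have hzJ : z ∈ J := by
      rw [hJ]; intro n hn
      rw [mul_comm]
      exact (hzmem n).mp (hle (Submodule.mem_sup_left hn))
    have hzp : z ∈ p := hle (Submodule.mem_sup_right hzJ)
    have hzz : z * z = 0 := (hzmem z).mp hzp
    have hz0 : z = 0 := IsReduced.eq_zero z ⟨2, by rw [pow_two]; exact hzz⟩
    apply hpp.ne_top
    rw [Ideal.eq_top_iff_one, hzmem, hz0, mul_zero]
  obtain ⟨s, hsIJ, hsreg⟩ := hexreg
  obtain ⟨u, huI, v, hvJ, huv⟩ := Submodule.mem_sup.mp hsIJ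
  have hs : s ∈ nonZeroDivisors R := by
    rw [mem_nonZeroDivisors_iff_left]
    intro m hm
    exact hsreg.right_eq_zero_of_smul (by rw [smul_eq_mul]; exact hm)
  have huv0 : u * v = 0 := by rw [mul_comm]; exact (hJ v).mp hvJ u huI
  have huu : u * u = u * s := by rw [← huv, mul_add, huv0, add_zero]
  obtain ⟨t, htdef⟩ : ∃ t : FractionRing R, t = IsLocalization.mk' (FractionRing R) u
      (⟨s, hs⟩ : nonZeroDivisors R) := ⟨_, rfl⟩
  have ht : t * algebraMap R (FractionRing R) s = algebraMap R (FractionRing R) u := by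
    rw [htdef]; exact IsLocalization.mk'_spec _ u (⟨s, hs⟩ : nonZeroDivisors R)
  have hs' : IsUnit (algebraMap R (FractionRing R) s) :=
    IsLocalization.map_units (FractionRing R) (⟨s, hs⟩ : nonZeroDivisors R)
  have hidem : t * t - t = 0 := by
    have h1 : (t * t - t) * (algebraMap R (FractionRing R) s * algebraMap R (FractionRing R) s)
        = 0 := by
      calc (t * t - t) * (algebraMap R (FractionRing R) s * algebraMap R (FractionRing R) s)
          = (t * algebraMap R (FractionRing R) s) * (t * algebraMap R (FractionRing R) s) -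
            (t * algebraMap R (FractionRing R) s) * algebraMap R (FractionRing R) s := by ring
        _ = 0 := by rw [ht, ← map_mul, ← map_mul, huu, sub_self]
    exact ((hs'.mul hs').mul_left_eq_zero).mp h1
  have hint : IsIntegral R t := by
    refine ⟨Polynomial.X * (Polynomial.X - Polynomial.C 1),
      Polynomial.monic_X.mul (Polynomial.monic_X_sub_C (1 : R)), ?_⟩
    rw [Polynomial.eval₂_mul, Polynomial.eval₂_sub, Polynomial.eval₂_X, Polynomial.eval₂_C,
      map_one, mul_sub, mul_one]
    exact hidem
  have hmem := mem_span_of_isIntegral hR1 hS2 u s hs t ht hint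
  obtain ⟨c, hc⟩ := Ideal.mem_span_singleton'.mp hmem
  -- `(1 - c) * u = c * v`
  have hcv : (1 - c) * u = c * v := by
    have : u = c * u + c * v := by rw [← mul_add, huv, hc]
    calc (1 - c) * u = u - c * u := by ring
      _ = c * v := by rw [sub_eq_iff_eq_add, add_comm]; exact this
  have hcvJ : c * v ∈ J := Ideal.mul_mem_left _ _ hvJ
  have hcvI : c * v ∈ I := by rw [← hcv]; exact Ideal.mul_mem_left _ _ huI
  have hcv0 : c * v = 0 := hIJ _ hcvI hcvJ
  have hcu0 : (1 - c) * u = 0 := by rw [hcv, hcv0]
  rcases IsLocalRing.isUnit_or_isUnit_one_sub_self c with hcu | hcu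
  · have hv0 : v = 0 := (hcu.mul_right_eq_zero).mp hcv0
    have hsI : s ∈ I := by rw [← huv, hv0, add_zero]; exact huI
    have hsx : s * x = 0 := (hI s).mp hsI
    exact hx0 (hsreg.right_eq_zero_of_smul (by rw [smul_eq_mul]; exact hsx))
  · have hu0 : u = 0 := (hcu.mul_right_eq_zero).mp hcu0
    have hsJ : s ∈ J := by rw [← huv, hu0, zero_add]; exact hvJ
    have hsy : s * y = 0 := (hJ s).mp hsJ y hyI
    exact hy0 (hsreg.right_eq_zero_of_smul (by rw [smul_eq_mul]; exact hsy))

/-- A Noetherian domain with `(R₁)` and `(S₂)` is integrally closed. -/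
theorem isIntegrallyClosed_of_R1_S2 [IsDomain R] (hR1 : LocCoh.HasRk 1 R)
    (hS2 : LocCoh.HasSk 2 R R) : IsIntegrallyClosed R := by
  rw [isIntegrallyClosed_iff (FractionRing R)]
  intro x hx
  obtain ⟨a, ⟨b, hb⟩, rfl⟩ := IsLocalization.exists_mk'_eq (nonZeroDivisors R) x
  have ht : IsLocalization.mk' (FractionRing R) a (⟨b, hb⟩ : nonZeroDivisors R) *
      algebraMap R _ b = algebraMap R _ a :=
    IsLocalization.mk'_spec _ a (⟨b, hb⟩ : nonZeroDivisors R)
  have hmem := mem_span_of_isIntegral hR1 hS2 a b hb _ ht hx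
  obtain ⟨c, hc⟩ := Ideal.mem_span_singleton'.mp hmem
  refine ⟨c, ?_⟩
  rw [IsLocalization.eq_mk'_iff_mul_eq, ← map_mul, hc]

/-- **Serre's criterion for normality.** -/
theorem serre_criterion (R : Type u) [CommRing R] [IsNoetherianRing R] :
    (∀ (p : Ideal R) [p.IsPrime], IsDomain (Localization.AtPrime p) ∧
      IsIntegrallyClosed (Localization.AtPrime p)) ↔
      (LocCoh.HasRk 1 R ∧ LocCoh.HasSk 2 R R) := by
  constructor
  · intro h
    refine ⟨?_, ?_⟩
    · intro p _ hp
      obtain ⟨h1, h2⟩ := h p
      haveI := h1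
      haveI := h2
      apply isRegularLocalRing_of_normal_of_dim_le_one
      rw [IsLocalization.AtPrime.ringKrullDim_eq_height p (Localization.AtPrime p)]
      exact_mod_cast hp
    · rw [hasSk_self_iff']
      intro p _
      obtain ⟨h1, h2⟩ := h p
      haveI := h1
      haveI := h2
      have h3 := min_two_le_depth_of_normal (Localization.AtPrime p)
      rwa [height_maximalIdeal_atPrime] at h3
  · rintro ⟨hR1, hS2⟩ p _
    have hR1' := hasRk_atPrime 1 hR1 p
    have hS2' := hasSk_self_atPrime 2 hS2 p
    haveI := isDomain_of_R1_S2 hR1' hS2'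
    exact ⟨inferInstance, isIntegrallyClosed_of_R1_S2 hR1' hS2'⟩

end main

end Groth.Agent.Lib.Helper4.SerreNormal
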