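import Groth.Agent.Lib.Helper4.FlatLocal2
import Groth.Agent.Lib.Helper4.SkRing
import Groth.Agent.Lib.Helper4.FiniteExt
import Mathlib.RingTheory.Flat.Localization
import Mathlib.RingTheory.Flat.FaithfullyFlat.Algebra
import Mathlib.RingTheory.Ideal.GoingDown
import Mathlib.RingTheory.Ideal.MinimalPrime.Localization

/-!
# Consequences of the depth formula for flat local homomorphisms (helper4)
-/

set_option autoImplicit false

universe u

open TensorProduct

namespace Groth.Agent.Lib.Helper4

section ringform

variable {A B : Type u} [CommRing A] [CommRing B] [IsLocalRing A] [IsLocalRing B]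
  [IsNoetherianRing A] [IsNoetherianRing B] [Algebra A B] [IsLocalHom (algebraMap A B)]
  [Module.Flat A B]

/-- `depth B = depth A + depth (B / 𝔪_A B)` for a flat local homomorphism. -/
theorem depth_self_eq_add : LocCoh.depth B B = LocCoh.depth A A +
    LocCoh.depth B (B ⧸ ((IsLocalRing.maximalIdeal A).map (algebraMap A B) •
      (⊤ : Submodule B B))) := by
  rw [← depth_tensor_eq A B]
  unfold LocCoh.depth
  exact idealDepth_congr _ (TensorProduct.AlgebraTensorModule.rid A B B).symm

omit [IsNoetherianRing A] [IsLocalHom (algebraMap A B)] [Module.Flat A B] in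
/-- If `𝔪_B` is minimal over `𝔪_A B` then the closed fibre has depth zero. -/
theorem depth_quotient_map_eq_zero_of_minimal
    (h : IsLocalRing.maximalIdeal B ∈
      ((IsLocalRing.maximalIdeal A).map (algebraMap A B)).minimalPrimes) :
    LocCoh.depth B (B ⧸ ((IsLocalRing.maximalIdeal A).map (algebraMap A B) •
      (⊤ : Submodule B B))) = 0 := by
  have hI : (IsLocalRing.maximalIdeal A).map (algebraMap A B) ≠ ⊤ :=
    ne_top_of_le_ne_top (IsLocalRing.maximalIdeal.isMaximal B).ne_top h.1.2
  have : IsArtinianRing (B ⧸ (IsLocalRing.maximalIdeal A).map (algebraMap A B)) :=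
    IsLocalRing.quotient_artinian_of_mem_minimalPrimes_of_isLocalRing _ h
  have hArt : IsArtinian B (B ⧸ (IsLocalRing.maximalIdeal A).map (algebraMap A B)) :=
    isArtinian_of_surjective_algebraMap
      (R := B ⧸ (IsLocalRing.maximalIdeal A).map (algebraMap A B)) (S := B)
      Ideal.Quotient.mk_surjective
  have hfl : IsFiniteLength B (B ⧸ (IsLocalRing.maximalIdeal A).map (algebraMap A B)) :=
    isFiniteLength_iff_isNoetherian_isArtinian.mpr ⟨inferInstance, hArt⟩
  have heq : ((IsLocalRing.maximalIdeal A).map (algebraMap A B) • (⊤ : Submodule B B)) =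
      (IsLocalRing.maximalIdeal A).map (algebraMap A B) := by
    rw [smul_eq_mul, Ideal.mul_top]
  have e : (B ⧸ ((IsLocalRing.maximalIdeal A).map (algebraMap A B) • (⊤ : Submodule B B)))
      ≃ₗ[B] (B ⧸ (IsLocalRing.maximalIdeal A).map (algebraMap A B)) :=
    Submodule.quotEquivOfEq _ _ heq
  have : Nontrivial (B ⧸ ((IsLocalRing.maximalIdeal A).map (algebraMap A B) •
      (⊤ : Submodule B B))) :=
    Submodule.Quotient.nontrivial_iff.mpr (by rw [heq]; exact hI)
  exact depth_eq_zero_of_isFiniteLength _ (e.symm.isFiniteLength hfl)

end ringform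

section lift

variable {R S : Type u} [CommRing R] [CommRing S] [IsLocalRing R] [IsLocalRing S]
  [IsNoetherianRing R] [IsNoetherianRing S] [Algebra R S] [IsLocalHom (algebraMap R S)]

/-- `y` regular on the closed fibre module implies `y` regular on `N`. -/
theorem isSMulRegular_of_fibre {N : Type u} [AddCommGroup N] [Module S N] [Module R N]
    [IsScalarTower R S N] [Module.Finite S N] [Module.Flat R N] (y : S)
    (hy : IsSMulRegular (N ⧸ ((IsLocalRing.maximalIdeal R).map (algebraMap R S) •
      (⊤ : Submodule S N))) y) : IsSMulRegular N y :=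
  ((TensorProduct.AlgebraTensorModule.rid R S N).isSMulRegular_congr y).mp
    (isSMulRegular_tensor_of_fibre y hy R)

/-- Regular sequences in an ideal `I` on the closed fibre module lift: `depth_I (N/𝔪_R N) ≤
depth_I N`. -/
theorem le_idealDepth_of_le_idealDepth_fibre (I : Ideal S) (n : ℕ) :
    ∀ (N : Type u) [AddCommGroup N] [Module S N] [Module R N] [IsScalarTower R S N]
      [Module.Finite S N] [Module.Flat R N],
      (n : ℕ∞) ≤ LocCoh.idealDepth I (N ⧸ ((IsLocalRing.maximalIdeal R).map (algebraMap R S) •
        (⊤ : Submodule S N))) → (n : ℕ∞) ≤ LocCoh.idealDepth I N := by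
  induction n with
  | zero => intros; exact zero_le
  | succ n ih =>
    intro N _ _ _ _ _ _ h
    rw [Nat.cast_succ] at h ⊢
    rw [succ_le_idealDepth_iff] at h ⊢
    rcases h with h | ⟨y, hyI, hy, hn⟩
    · left
      have h1 : (⊤ : Submodule S N) ≤ I • (⊤ : Submodule S N) ⊔
          (IsLocalRing.maximalIdeal R).map (algebraMap R S) • (⊤ : Submodule S N) := by
        intro x _
        have hx : (Submodule.Quotient.mk x : N ⧸ ((IsLocalRing.maximalIdeal R).map
            (algebraMap R S) • (⊤ : Submodule S N))) ∈
            I • (⊤ : Submodule S (N ⧸ ((IsLocalRing.maximalIdeal R).map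
              (algebraMap R S) • (⊤ : Submodule S N)))) := by
          rw [h]; exact Submodule.mem_top
        have hmap : I • (⊤ : Submodule S (N ⧸ ((IsLocalRing.maximalIdeal R).map
            (algebraMap R S) • (⊤ : Submodule S N)))) =
            (I • (⊤ : Submodule S N)).map (Submodule.mkQ _) := by
          rw [Submodule.map_smul'', Submodule.map_top, Submodule.range_mkQ]
        rw [hmap] at hx
        obtain ⟨x', hx', hxx'⟩ := hx
        have hd : x - x' ∈ ((IsLocalRing.maximalIdeal R).map (algebraMap R S) •
            (⊤ : Submodule S N)) := by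
          rw [← Submodule.Quotient.mk_eq_zero, Submodule.Quotient.mk_sub]
          rw [Submodule.mkQ_apply] at hxx'
          rw [hxx', sub_self]
        have : x = x' + (x - x') := by abel
        rw [this]
        exact Submodule.add_mem_sup hx' hd
      exact top_le_iff.mp (Submodule.le_of_le_smul_of_le_jacobson_bot
        (Module.Finite.fg_top) (by
          rw [IsLocalRing.jacobson_eq_maximalIdeal ⊥ bot_ne_top]
          exact IsLocalRing.map_maximalIdeal_le (algebraMap R S)) h1)
    · right
      refine ⟨y, hyI, isSMulRegular_of_fibre y hy, ?_⟩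
      have : Module.Flat R (QuotSMulTop y N) := flat_quotSMulTop_of_fibre y hy
      apply ih (QuotSMulTop y N)
      rw [idealDepth_congr I
        (quotQuotSwapEquiv N ((IsLocalRing.maximalIdeal R).map (algebraMap R S)) y)]
      exact hn

theorem idealDepth_fibre_le (I : Ideal S) (N : Type u) [AddCommGroup N] [Module S N]
    [Module R N] [IsScalarTower R S N] [Module.Finite S N] [Module.Flat R N] :
    LocCoh.idealDepth I (N ⧸ ((IsLocalRing.maximalIdeal R).map (algebraMap R S) •
      (⊤ : Submodule S N))) ≤ LocCoh.idealDepth I N :=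
  ENat.forall_natCast_le_iff_le.mp fun n hn => le_idealDepth_of_le_idealDepth_fibre I n N hn

end lift

section localization

variable {R S : Type u} [CommRing R] [CommRing S] [IsNoetherianRing R] [IsNoetherianRing S]
  [Algebra R S] [Module.Flat R S]

/-- For `R → S` flat and `q` a minimal prime over `pS` lying over `p`:
`depth S_q = depth R_p`. -/
theorem depth_localization_eq_of_minimal (p : Ideal R) [p.IsPrime] (q : Ideal S) [q.IsPrime]
    [q.LiesOver p] (hq : q ∈ (p.map (algebraMap R S)).minimalPrimes) :
    LocCoh.depth (Localization.AtPrime q) (Localization.AtPrime q) =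
      LocCoh.depth (Localization.AtPrime p) (Localization.AtPrime p) := by
  let _ := Localization.AtPrime.algebraOfLiesOver p q
  have : IsLocalHom (algebraMap (Localization.AtPrime p) (Localization.AtPrime q)) :=
    Localization.isLocalHom_localRingHom p q (algebraMap R S) Ideal.LiesOver.over
  rw [depth_self_eq_add (A := Localization.AtPrime p) (B := Localization.AtPrime q),
    depth_quotient_map_eq_zero_of_minimal, add_zero]
  have hmap : (IsLocalRing.maximalIdeal (Localization.AtPrime p)).map
      (algebraMap (Localization.AtPrime p) (Localization.AtPrime q)) =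
      (p.map (algebraMap R S)).map (algebraMap S (Localization.AtPrime q)) := by
    rw [← Localization.AtPrime.map_eq_maximalIdeal, Ideal.map_map, Ideal.map_map,
      ← IsScalarTower.algebraMap_eq, ← IsScalarTower.algebraMap_eq]
  rw [hmap, IsLocalization.minimalPrimes_map q.primeCompl]
  rw [Set.mem_preimage, IsLocalization.AtPrime.under_maximalIdeal (Localization.AtPrime q) q]
  exact hq

end localization

end Groth.Agent.Lib.Helper4
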