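import Mathlib
import Groth.Prelude.Def_EGA4b
import Groth.Agent.Lib.Helper4.FlatLocal3
import Groth.Agent.Lib.Helper4.SkRing
import Groth.Agent.Lib.Helper4.SerreNormal
import Groth.Agent.Lib.Helper4.CM
import Groth.Agent.Lib.Helper9.RegLocal
import Groth.Agent.Lib.Helper5.HartogsDepth

/-!
# Flat local homomorphisms: dimension, depth and regularity in terms of the closed fibre ring
(helper4)
-/

set_option autoImplicit false
set_option linter.style.haveILetI false
set_option linter.unusedSectionVars false
universe u
open IsLocalRing

namespace Groth.Agent.Lib.Helper4.FlatRing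

open Groth.Agent.Lib.Helper4

section quot

variable {B : Type u} [CommRing B]

/-- The image of a minimal prime over `I` is a minimal prime of `B ⧸ I`. -/
theorem map_mk_mem_minimalPrimes {I q : Ideal B} (hq : q ∈ I.minimalPrimes) :
    q.map (Ideal.Quotient.mk I) ∈ minimalPrimes (B ⧸ I) := by
  have h1 := Ideal.minimalPrimes_map_of_surjective
    (f := Ideal.Quotient.mk I) Ideal.Quotient.mk_surjective I
  rw [Ideal.mk_ker, sup_idem, Ideal.map_quotient_self] at h1
  have h2 : q.map (Ideal.Quotient.mk I) ∈ (⊥ : Ideal (B ⧸ I)).minimalPrimes := by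
    rw [h1]
    exact ⟨q, hq, rfl⟩
  exact h2

/-- Depth of `B ⧸ I` as a `B`-module and as a module over itself agree. -/
theorem depth_quotient_ring [IsLocalRing B] [IsNoetherianRing B] (I : Ideal B)
    [IsLocalRing (B ⧸ I)] :
    LocCoh.depth B (B ⧸ (I • (⊤ : Submodule B B))) = LocCoh.depth (B ⧸ I) (B ⧸ I) := by
  have e : (B ⧸ (I • (⊤ : Submodule B B))) ≃ₗ[B] (B ⧸ I) :=
    Submodule.quotEquivOfEq _ _ (by rw [smul_eq_mul, Ideal.mul_top])
  have h1 := idealDepth_congr (IsLocalRing.maximalIdeal B) e
  have h2 := idealDepth_map_eq (A := B) (B := B ⧸ I) (IsLocalRing.maximalIdeal B) (B ⧸ I)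
  have h3 : (IsLocalRing.maximalIdeal B).map (algebraMap B (B ⧸ I)) =
      IsLocalRing.maximalIdeal (B ⧸ I) :=
    IsLocalRing.map_maximalIdeal_of_surjective (Ideal.Quotient.mk I) Ideal.Quotient.mk_surjective
  unfold LocCoh.depth
  rw [h1, h2, h3]

/-- `depth ≤ ht 𝔪` for a Noetherian local ring. -/
theorem depth_self_le_height [IsLocalRing B] [IsNoetherianRing B] :
    LocCoh.depth B B ≤ (maximalIdeal B).height := by
  have h1 := depth_le_supportDim (R := B) (M := B)
  rw [Module.supportDim_self_eq_ringKrullDim,
    ← IsLocalRing.maximalIdeal_height_eq_ringKrullDim] at h1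
  exact_mod_cast h1

end quot

section local_

variable (A B : Type u) [CommRing A] [CommRing B] [IsLocalRing A] [IsLocalRing B]
  [IsNoetherianRing A] [IsNoetherianRing B] [Algebra A B] [IsLocalHom (algebraMap A B)]
  [Module.Flat A B]

theorem depth_eq_add_fibRing [IsLocalRing (B ⧸ (maximalIdeal A).map (algebraMap A B))] :
    LocCoh.depth B B = LocCoh.depth A A +
      LocCoh.depth (B ⧸ (maximalIdeal A).map (algebraMap A B))
        (B ⧸ (maximalIdeal A).map (algebraMap A B)) := by
  rw [depth_self_eq_add (A := A) (B := B), depth_quotient_ring]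

theorem height_eq_add_fibRing [IsLocalRing (B ⧸ (maximalIdeal A).map (algebraMap A B))] :
    (maximalIdeal B).height = (maximalIdeal A).height +
      (maximalIdeal (B ⧸ (maximalIdeal A).map (algebraMap A B))).height := by
  haveI : (maximalIdeal B).LiesOver (maximalIdeal A) :=
    ⟨(IsLocalRing.maximalIdeal_comap (algebraMap A B)).symm⟩
  have h := Ideal.height_eq_height_add_of_liesOver_of_hasGoingDown (maximalIdeal A)
    (maximalIdeal B)
  rwa [IsLocalRing.map_maximalIdeal_of_surjective _ Ideal.Quotient.mk_surjective] at h

theorem dim_eq_add_fibRing [IsLocalRing (B ⧸ (maximalIdeal A).map (algebraMap A B))] :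
    ringKrullDim B = ringKrullDim A +
      ringKrullDim (B ⧸ (maximalIdeal A).map (algebraMap A B)) := by
  rw [← IsLocalRing.maximalIdeal_height_eq_ringKrullDim,
    ← IsLocalRing.maximalIdeal_height_eq_ringKrullDim (R := A),
    ← IsLocalRing.maximalIdeal_height_eq_ringKrullDim
      (R := B ⧸ (maximalIdeal A).map (algebraMap A B)),
    height_eq_add_fibRing A B]
  rfl

variable {A B}

theorem depth_eq_add_of_eq (I : Ideal B) (hI : I = (maximalIdeal A).map (algebraMap A B))
    [IsLocalRing (B ⧸ I)] :
    LocCoh.depth B B = LocCoh.depth A A + LocCoh.depth (B ⧸ I) (B ⧸ I) := by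
  subst hI
  exact depth_eq_add_fibRing A B

theorem height_eq_add_of_eq (I : Ideal B) (hI : I = (maximalIdeal A).map (algebraMap A B))
    [IsLocalRing (B ⧸ I)] :
    (maximalIdeal B).height = (maximalIdeal A).height + (maximalIdeal (B ⧸ I)).height := by
  subst hI
  exact height_eq_add_fibRing A B

/-- Regularity ascends along a flat local homomorphism with regular closed fibre. -/
theorem isRegularLocalRing_of_flat_of_fibre (I : Ideal B)
    (hI : I = (maximalIdeal A).map (algebraMap A B))
    [IsRegularLocalRing A] [hF : IsRegularLocalRing (B ⧸ I)] : IsRegularLocalRing B := by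
  classical
  apply IsRegularLocalRing.of_spanFinrank_maximalIdeal_le
  obtain ⟨s, hs, hspan⟩ := Submodule.FG.exists_span_finset_card_eq_spanFinrank
    (IsNoetherian.noetherian (maximalIdeal A))
  obtain ⟨v, hv, hvspan⟩ := Submodule.FG.exists_span_finset_card_eq_spanFinrank
    (IsNoetherian.noetherian (maximalIdeal (B ⧸ I)))
  let y : ↥v → B := fun j => Function.surjInv Ideal.Quotient.mk_surjective (j : B ⧸ I)
  have hy : ∀ j : ↥v, Ideal.Quotient.mk I (y j) = j := fun j => Function.surjInv_eq _ _
  have hrange : (Set.range fun j : ↥v => Ideal.Quotient.mk I (y j)) = (v : Set (B ⧸ I)) := by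
    ext z
    constructor
    · rintro ⟨j, rfl⟩
      change Ideal.Quotient.mk I (y j) ∈ (v : Set (B ⧸ I))
      rw [hy]
      exact j.2
    · intro hz
      exact ⟨⟨z, hz⟩, hy ⟨z, hz⟩⟩
  have hmax : maximalIdeal (B ⧸ I) =
      Ideal.span (Set.range fun j : ↥v => Ideal.Quotient.mk I (y j)) := by
    rw [hrange]
    exact hvspan.symm
  have hsup := Groth.Agent.Lib.Helper9.RegLocal.sup_span_eq_maximalIdeal_of_quotient (J := I) y hmax
  have hIspan : I = Ideal.span ((algebraMap A B) '' (s : Set A)) := by
    rw [hI, ← Ideal.map_span]
    congr 1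
    exact hspan.symm
  have hgen : maximalIdeal B = Ideal.span ((algebraMap A B) '' (s : Set A) ∪ Set.range y) := by
    rw [Ideal.span_union, ← hIspan, hsup]
  have hfin : ((algebraMap A B) '' (s : Set A) ∪ Set.range y).Finite :=
    (s.finite_toSet.image _).union (Set.finite_range y)
  have h1 : (maximalIdeal B).spanFinrank ≤
      ((algebraMap A B) '' (s : Set A) ∪ Set.range y).ncard := by
    have := Submodule.spanFinrank_span_le_ncard_of_finite (R := B) hfin
    have hgen' : maximalIdeal B =
        Submodule.span B ((algebraMap A B) '' (s : Set A) ∪ Set.range y) := hgen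
    rwa [← hgen'] at this
  have h2 : ((algebraMap A B) '' (s : Set A) ∪ Set.range y).ncard ≤ s.card + v.card := by
    calc ((algebraMap A B) '' (s : Set A) ∪ Set.range y).ncard
        ≤ ((algebraMap A B) '' (s : Set A)).ncard + (Set.range y).ncard := Set.ncard_union_le _ _
      _ ≤ s.card + v.card := by
        apply add_le_add
        · calc ((algebraMap A B) '' (s : Set A)).ncard ≤ (s : Set A).ncard :=
                Set.ncard_image_le s.finite_toSet
            _ = s.card := Set.ncard_coe_finset s
        · calc (Set.range y).ncard = (y '' Set.univ).ncard := by rw [Set.image_univ]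
            _ ≤ (Set.univ : Set ↥v).ncard := Set.ncard_image_le Set.finite_univ
            _ = v.card := by rw [Set.ncard_univ, Nat.card_eq_fintype_card, Fintype.card_coe]
  have hdimA : ((s.card : ℕ) : WithBot ℕ∞) = ringKrullDim A := by
    rw [hs]
    exact IsRegularLocalRing.spanFinrank_maximalIdeal
  have hdimF : ((v.card : ℕ) : WithBot ℕ∞) = ringKrullDim (B ⧸ I) := by
    rw [hv]
    exact hF.spanFinrank_maximalIdeal
  have hdim : ringKrullDim B = ringKrullDim A + ringKrullDim (B ⧸ I) := by
    subst hI
    exact dim_eq_add_fibRing A B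
  rw [hdim, ← hdimA, ← hdimF]
  exact_mod_cast h1.trans h2

end local_

section global

variable (A B : Type u) [CommRing A] [CommRing B] [IsNoetherianRing A] [IsNoetherianRing B]
  [Algebra A B] (q : Ideal B) [q.IsPrime]

theorem map_comap_ne_top :
    (q.comap (algebraMap A B)).map (algebraMap A (Localization.AtPrime q)) ≠ ⊤ := by
  intro h
  have hle : (q.comap (algebraMap A B)).map (algebraMap A (Localization.AtPrime q)) ≤
      maximalIdeal (Localization.AtPrime q) := by
    rw [Ideal.map_le_iff_le_comap]
    intro x hx
    rw [Ideal.mem_comap, IsScalarTower.algebraMap_apply A B (Localization.AtPrime q),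
      IsLocalization.AtPrime.to_map_mem_maximal_iff (Localization.AtPrime q) q]
    exact hx
  exact (IsLocalRing.maximalIdeal.isMaximal (Localization.AtPrime q)).ne_top
    (top_le_iff.mp (h ▸ hle))

instance nontrivial_fibLocRing : Nontrivial (EGA4.FibLocRing A B q) :=
  Ideal.Quotient.nontrivial_iff.mpr (map_comap_ne_top A B q)

instance isLocalRing_fibLocRing : IsLocalRing (EGA4.FibLocRing A B q) :=
  IsLocalRing.of_surjective' (Ideal.Quotient.mk _) Ideal.Quotient.mk_surjective

variable [Module.Flat A B]

/-- The package of local data attached to a prime `q` of `B` for a flat map `A → B`. -/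
theorem exists_local_data :
    q.height = (q.comap (algebraMap A B)).height +
        (maximalIdeal (EGA4.FibLocRing A B q)).height ∧
      LocCoh.depth (Localization.AtPrime q) (Localization.AtPrime q) =
        LocCoh.depth (Localization.AtPrime (q.comap (algebraMap A B)))
            (Localization.AtPrime (q.comap (algebraMap A B))) +
          LocCoh.depth (EGA4.FibLocRing A B q) (EGA4.FibLocRing A B q) ∧
      (IsRegularLocalRing (Localization.AtPrime (q.comap (algebraMap A B))) →
        IsRegularLocalRing (EGA4.FibLocRing A B q) →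
        IsRegularLocalRing (Localization.AtPrime q)) := by
  obtain ⟨p, hp⟩ : ∃ p : Ideal A, p = q.comap (algebraMap A B) := ⟨_, rfl⟩
  haveI hpp : p.IsPrime := hp ▸ Ideal.IsPrime.comap _
  haveI : q.LiesOver p := ⟨hp⟩
  letI := Localization.AtPrime.algebraOfLiesOver p q
  haveI : IsLocalHom (algebraMap (Localization.AtPrime p) (Localization.AtPrime q)) :=
    Localization.isLocalHom_localRingHom p q (algebraMap A B) Ideal.LiesOver.over
  have hI : p.map (algebraMap A (Localization.AtPrime q)) =
      (maximalIdeal (Localization.AtPrime p)).map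
        (algebraMap (Localization.AtPrime p) (Localization.AtPrime q)) := by
    rw [← Localization.AtPrime.map_eq_maximalIdeal, Ideal.map_map,
      ← IsScalarTower.algebraMap_eq]
  subst hp
  refine ⟨?_, ?_, ?_⟩
  · have h := height_eq_add_of_eq (A := Localization.AtPrime (q.comap (algebraMap A B)))
      (B := Localization.AtPrime q) _ hI
    rwa [SerreNormal.height_maximalIdeal_atPrime, SerreNormal.height_maximalIdeal_atPrime] at h
  · exact depth_eq_add_of_eq (A := Localization.AtPrime (q.comap (algebraMap A B)))
      (B := Localization.AtPrime q) _ hI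
  · intro h1 h2
    haveI := h1
    haveI := h2
    exact isRegularLocalRing_of_flat_of_fibre
      (A := Localization.AtPrime (q.comap (algebraMap A B)))
      (B := Localization.AtPrime q) _ hI

end global

section generization

/-- A local ring with `(R_k)` and dimension `≤ k` is regular. -/
theorem isRegularLocalRing_of_hasRk_of_height_le {F : Type u} [CommRing F] [IsLocalRing F] (k : ℕ)
    (h : LocCoh.HasRk k F) (hk : (maximalIdeal F).height ≤ k) : IsRegularLocalRing F := by
  haveI := h (maximalIdeal F) hk
  let e : F ≃ₐ[F] (Localization.AtPrime (maximalIdeal F)) :=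
    IsLocalization.atUnits F (maximalIdeal F).primeCompl (fun x ↦ by simpa using! fun a ↦ a)
  exact IsRegularLocalRing.of_ringEquiv e.toRingEquiv.symm

theorem isRegularLocalRing_atPrime_congr {R : Type u} [CommRing R] (P P' : Ideal R) [P.IsPrime]
    [P'.IsPrime] (h : P' = P) (hreg : IsRegularLocalRing (Localization.AtPrime P')) :
    IsRegularLocalRing (Localization.AtPrime P) := by
  subst h
  exact hreg

theorem depth_atPrime_congr {R : Type u} [CommRing R] (P P' : Ideal R) [P.IsPrime]
    [P'.IsPrime] (h : P' = P) :
    LocCoh.depth (Localization.AtPrime P') (Localization.AtPrime P') =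
      LocCoh.depth (Localization.AtPrime P) (Localization.AtPrime P) := by
  subst h
  rfl

variable {R : Type u} [CommRing R]

/-- If `R_Q` has `(R_k)`, `P ≤ Q` and `ht P ≤ k` then `R_P` is regular. -/
theorem isRegularLocalRing_atPrime_of_hasRk_atPrime (k : ℕ) (P Q : Ideal R) [P.IsPrime]
    [Q.IsPrime] (hPQ : P ≤ Q) (h : LocCoh.HasRk k (Localization.AtPrime Q))
    (hP : P.height ≤ k) : IsRegularLocalRing (Localization.AtPrime P) := by
  have hdisj : Disjoint (Q.primeCompl : Set R) (P : Set R) := by
    rw [Set.disjoint_left]
    intro x hx hxP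
    exact hx (hPQ hxP)
  haveI h𝔭 : (P.map (algebraMap R (Localization.AtPrime Q))).IsPrime :=
    IsLocalization.isPrime_of_isPrime_disjoint Q.primeCompl (Localization.AtPrime Q) P
      inferInstance hdisj
  have hcomap : (P.map (algebraMap R (Localization.AtPrime Q))).comap
      (algebraMap R (Localization.AtPrime Q)) = P :=
    IsLocalization.under_map_of_isPrime_disjoint Q.primeCompl (Localization.AtPrime Q)
      inferInstance hdisj
  have hht : ((P.map (algebraMap R (Localization.AtPrime Q))).comap
      (algebraMap R (Localization.AtPrime Q))).height =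
      (P.map (algebraMap R (Localization.AtPrime Q))).height :=
    IsLocalization.height_under Q.primeCompl _
  rw [hcomap] at hht
  haveI := h (P.map (algebraMap R (Localization.AtPrime Q))) (by rw [← hht]; exact hP)
  have h2 : IsRegularLocalRing (Localization.AtPrime
      ((P.map (algebraMap R (Localization.AtPrime Q))).comap
        (algebraMap R (Localization.AtPrime Q)))) :=
    IsRegularLocalRing.of_ringEquiv
      (IsLocalization.localizationLocalizationAtPrimeIsoLocalization Q.primeCompl
        (P.map (algebraMap R (Localization.AtPrime Q)))).toRingEquiv.symm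
  exact isRegularLocalRing_atPrime_congr P _ hcomap h2

/-- If `R_Q` has `(S_k)` and `P ≤ Q` then `depth R_P ≥ min(k, ht P)`. -/
theorem min_le_depth_atPrime_of_hasSk_atPrime [IsNoetherianRing R] (k : ℕ) (P Q : Ideal R)
    [P.IsPrime] [Q.IsPrime] (hPQ : P ≤ Q)
    (h : LocCoh.HasSk k (Localization.AtPrime Q) (Localization.AtPrime Q)) :
    min (k : ℕ∞) P.height ≤ LocCoh.depth (Localization.AtPrime P) (Localization.AtPrime P) := by
  rw [hasSk_self_iff'] at h
  have hdisj : Disjoint (Q.primeCompl : Set R) (P : Set R) := by
    rw [Set.disjoint_left]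
    intro x hx hxP
    exact hx (hPQ hxP)
  haveI h𝔭 : (P.map (algebraMap R (Localization.AtPrime Q))).IsPrime :=
    IsLocalization.isPrime_of_isPrime_disjoint Q.primeCompl (Localization.AtPrime Q) P
      inferInstance hdisj
  have hcomap : (P.map (algebraMap R (Localization.AtPrime Q))).comap
      (algebraMap R (Localization.AtPrime Q)) = P :=
    IsLocalization.under_map_of_isPrime_disjoint Q.primeCompl (Localization.AtPrime Q)
      inferInstance hdisj
  have hht : ((P.map (algebraMap R (Localization.AtPrime Q))).comap
      (algebraMap R (Localization.AtPrime Q))).height =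
      (P.map (algebraMap R (Localization.AtPrime Q))).height :=
    IsLocalization.height_under Q.primeCompl _
  rw [hcomap] at hht
  have h1 := h (P.map (algebraMap R (Localization.AtPrime Q)))
  rw [← hht] at h1
  refine h1.trans ?_
  rw [← depth_atPrime_congr P _ hcomap]
  exact Groth.Agent.Lib.Helper5.Hartogs.depth_le_of_ringEquiv
    (IsLocalization.localizationLocalizationAtPrimeIsoLocalization Q.primeCompl
      (P.map (algebraMap R (Localization.AtPrime Q)))).toRingEquiv.symm

/-- The contraction of a prime of `R_q` is contained in `q`. -/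
theorem comap_le_of_prime (q : Ideal R) [q.IsPrime] (Q' : Ideal (Localization.AtPrime q))
    [Q'.IsPrime] : Q'.comap (algebraMap R (Localization.AtPrime q)) ≤ q := by
  have h1 : Q' ≤ maximalIdeal (Localization.AtPrime q) :=
    IsLocalRing.le_maximalIdeal (Ideal.IsPrime.ne_top inferInstance)
  have h2 := Ideal.comap_mono (f := algebraMap R (Localization.AtPrime q)) h1
  have h3 : (maximalIdeal (Localization.AtPrime q)).comap
      (algebraMap R (Localization.AtPrime q)) = q :=
    IsLocalization.AtPrime.comap_maximalIdeal (Localization.AtPrime q) q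
  rwa [h3] at h2

end generization

section numeric

theorem min_add_le (k a b : ℕ∞) : min k (a + b) ≤ min k a + min k b := by
  rcases le_total k a with h | h
  · rw [min_eq_left h]
    exact (min_le_left _ _).trans le_self_add
  · rcases le_total k b with h' | h'
    · rw [min_eq_left h']
      exact (min_le_left _ _).trans le_add_self
    · rw [min_eq_right h, min_eq_right h']
      exact min_le_right _ _

end numeric

end Groth.Agent.Lib.Helper4.FlatRing
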