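import Mathlib
import Groth.Prelude.Def_EGA4b
import Groth.Agent.Lib.Helper4.FlatRing

/-!
# Fibre local rings of flat maps: transitivity, and the bridge to `p.Fiber S` (helper4)
-/

set_option autoImplicit false
set_option linter.style.haveILetI false
set_option linter.unusedSectionVars false
universe u
open IsLocalRing

namespace Groth.Agent.Lib.Helper4.FlatFibre

open Groth.Agent.Lib.Helper4 Groth.Agent.Lib.Helper4.FlatRing

section invariance

variable {X Y : Type u} [CommRing X] [CommRing Y] [IsLocalRing X] [IsLocalRing Y]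

theorem depth_eq_of_ringEquiv (e : X ≃+* Y) : LocCoh.depth X X = LocCoh.depth Y Y :=
  le_antisymm (Groth.Agent.Lib.Helper5.Hartogs.depth_le_of_ringEquiv e)
    (Groth.Agent.Lib.Helper5.Hartogs.depth_le_of_ringEquiv e.symm)

theorem height_maximalIdeal_eq_of_ringEquiv (e : X ≃+* Y) :
    (maximalIdeal X).height = (maximalIdeal Y).height := by
  have h := ringKrullDim_eq_of_ringEquiv e
  rw [← IsLocalRing.maximalIdeal_height_eq_ringKrullDim,
    ← IsLocalRing.maximalIdeal_height_eq_ringKrullDim] at h
  exact_mod_cast h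

end invariance

section local_

variable {B' C' : Type u} [CommRing B'] [CommRing C'] [IsLocalRing B'] [IsLocalRing C']
  [IsNoetherianRing B'] [IsNoetherianRing C'] [Algebra B' C'] [IsLocalHom (algebraMap B' C')]
  [Module.Flat B' C']

/-- Transitivity of closed fibres: for a flat local homomorphism `B' → C'` and a proper ideal `I` of
`B'`, the map `B'/I → C'/IC'` is flat local with closed fibre `C'/𝔪_{B'}C'`. -/
theorem trans_local_aux (I : Ideal B') [IsLocalRing (B' ⧸ I)]
    [IsLocalRing (C' ⧸ I.map (algebraMap B' C'))]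
    [IsLocalRing (C' ⧸ (maximalIdeal B').map (algebraMap B' C'))] :
    LocCoh.depth (C' ⧸ I.map (algebraMap B' C')) (C' ⧸ I.map (algebraMap B' C')) =
        LocCoh.depth (B' ⧸ I) (B' ⧸ I) +
          LocCoh.depth (C' ⧸ (maximalIdeal B').map (algebraMap B' C'))
            (C' ⧸ (maximalIdeal B').map (algebraMap B' C')) ∧
      (maximalIdeal (C' ⧸ I.map (algebraMap B' C'))).height =
        (maximalIdeal (B' ⧸ I)).height +
          (maximalIdeal (C' ⧸ (maximalIdeal B').map (algebraMap B' C'))).height := by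
  have hIne : I ≠ ⊤ := Ideal.Quotient.nontrivial_iff.mp inferInstance
  have hIle : I ≤ maximalIdeal B' := IsLocalRing.le_maximalIdeal hIne
  haveI hflat : Module.Flat (B' ⧸ I) (C' ⧸ I.map (algebraMap B' C')) :=
    Module.Flat.of_linearEquiv
      (Algebra.TensorProduct.quotIdealMapEquivQuotTensor C' I).toLinearEquiv
  have hcomp : (algebraMap (B' ⧸ I) (C' ⧸ I.map (algebraMap B' C'))).comp (Ideal.Quotient.mk I) =
      (Ideal.Quotient.mk (I.map (algebraMap B' C'))).comp (algebraMap B' C') :=
    RingHom.ext fun x => rfl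
  have hmap : (maximalIdeal (B' ⧸ I)).map (algebraMap (B' ⧸ I) (C' ⧸ I.map (algebraMap B' C'))) =
      ((maximalIdeal B').map (algebraMap B' C')).map
        (Ideal.Quotient.mk (I.map (algebraMap B' C'))) := by
    rw [← IsLocalRing.map_maximalIdeal_of_surjective (Ideal.Quotient.mk I)
      Ideal.Quotient.mk_surjective, Ideal.map_map, Ideal.map_map, hcomp]
  haveI hloc : IsLocalHom (algebraMap (B' ⧸ I) (C' ⧸ I.map (algebraMap B' C'))) := by
    refine ((IsLocalRing.local_hom_TFAE _).out 0 2 rfl rfl).mpr ?_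
    rw [hmap, ← IsLocalRing.map_maximalIdeal_of_surjective
      (Ideal.Quotient.mk (I.map (algebraMap B' C'))) Ideal.Quotient.mk_surjective]
    exact Ideal.map_mono (IsLocalRing.map_maximalIdeal_le (algebraMap B' C'))
  have hne : (maximalIdeal (B' ⧸ I)).map
      (algebraMap (B' ⧸ I) (C' ⧸ I.map (algebraMap B' C'))) ≠ ⊤ :=
    ne_top_of_le_ne_top (IsLocalRing.maximalIdeal.isMaximal _).ne_top
      (IsLocalRing.map_maximalIdeal_le _)
  haveI : Nontrivial ((C' ⧸ I.map (algebraMap B' C')) ⧸ (maximalIdeal (B' ⧸ I)).map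
      (algebraMap (B' ⧸ I) (C' ⧸ I.map (algebraMap B' C')))) :=
    Ideal.Quotient.nontrivial_iff.mpr hne
  haveI : IsLocalRing ((C' ⧸ I.map (algebraMap B' C')) ⧸ (maximalIdeal (B' ⧸ I)).map
      (algebraMap (B' ⧸ I) (C' ⧸ I.map (algebraMap B' C')))) :=
    IsLocalRing.of_surjective' (Ideal.Quotient.mk _) Ideal.Quotient.mk_surjective
  have e : ((C' ⧸ I.map (algebraMap B' C')) ⧸ (maximalIdeal (B' ⧸ I)).map
      (algebraMap (B' ⧸ I) (C' ⧸ I.map (algebraMap B' C')))) ≃+*
      (C' ⧸ (maximalIdeal B').map (algebraMap B' C')) :=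
    (Ideal.quotEquivOfEq hmap).trans
      (DoubleQuot.quotQuotEquivQuotOfLE (Ideal.map_mono hIle))
  have hd := depth_eq_add_fibRing (B' ⧸ I) (C' ⧸ I.map (algebraMap B' C'))
  have hh := height_eq_add_fibRing (B' ⧸ I) (C' ⧸ I.map (algebraMap B' C'))
  rw [depth_eq_of_ringEquiv e] at hd
  rw [height_maximalIdeal_eq_of_ringEquiv e] at hh
  exact ⟨hd, hh⟩

theorem trans_local (I : Ideal B') (J K : Ideal C') (hJ : J = I.map (algebraMap B' C'))
    (hK : K = (maximalIdeal B').map (algebraMap B' C'))
    [IsLocalRing (B' ⧸ I)] [IsLocalRing (C' ⧸ J)] [IsLocalRing (C' ⧸ K)] :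
    LocCoh.depth (C' ⧸ J) (C' ⧸ J) =
        LocCoh.depth (B' ⧸ I) (B' ⧸ I) + LocCoh.depth (C' ⧸ K) (C' ⧸ K) ∧
      (maximalIdeal (C' ⧸ J)).height =
        (maximalIdeal (B' ⧸ I)).height + (maximalIdeal (C' ⧸ K)).height := by
  subst hJ hK
  exact trans_local_aux I

end local_

section global

variable (A B C : Type u) [CommRing A] [CommRing B] [CommRing C] [IsNoetherianRing A]
  [IsNoetherianRing B] [IsNoetherianRing C] [Algebra A B] [Algebra B C] [Algebra A C]
  [IsScalarTower A B C] [Module.Flat B C] (s : Ideal C) [s.IsPrime]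

/-- Transitivity of fibre local rings for `A → B → C` with `B → C` flat. -/
theorem fibLocRing_trans :
    LocCoh.depth (EGA4.FibLocRing A C s) (EGA4.FibLocRing A C s) =
        LocCoh.depth (EGA4.FibLocRing A B (s.comap (algebraMap B C)))
            (EGA4.FibLocRing A B (s.comap (algebraMap B C))) +
          LocCoh.depth (EGA4.FibLocRing B C s) (EGA4.FibLocRing B C s) ∧
      (maximalIdeal (EGA4.FibLocRing A C s)).height =
        (maximalIdeal (EGA4.FibLocRing A B (s.comap (algebraMap B C)))).height +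
          (maximalIdeal (EGA4.FibLocRing B C s)).height := by
  have hcomap : (s.comap (algebraMap B C)).comap (algebraMap A B) = s.comap (algebraMap A C) := by
    rw [Ideal.comap_comap, ← IsScalarTower.algebraMap_eq]
  haveI : s.LiesOver (s.comap (algebraMap B C)) := ⟨rfl⟩
  letI := Localization.AtPrime.algebraOfLiesOver (s.comap (algebraMap B C)) s
  haveI : IsLocalHom (algebraMap (Localization.AtPrime (s.comap (algebraMap B C)))
      (Localization.AtPrime s)) :=
    Localization.isLocalHom_localRingHom (s.comap (algebraMap B C)) s (algebraMap B C)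
      Ideal.LiesOver.over
  have hK : (s.comap (algebraMap B C)).map (algebraMap B (Localization.AtPrime s)) =
      (maximalIdeal (Localization.AtPrime (s.comap (algebraMap B C)))).map
        (algebraMap (Localization.AtPrime (s.comap (algebraMap B C)))
          (Localization.AtPrime s)) := by
    rw [← Localization.AtPrime.map_eq_maximalIdeal, Ideal.map_map,
      ← IsScalarTower.algebraMap_eq]
  have hJ : (s.comap (algebraMap A C)).map (algebraMap A (Localization.AtPrime s)) =
      (((s.comap (algebraMap B C)).comap (algebraMap A B)).map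
        (algebraMap A (Localization.AtPrime (s.comap (algebraMap B C))))).map
          (algebraMap (Localization.AtPrime (s.comap (algebraMap B C)))
            (Localization.AtPrime s)) := by
    rw [Ideal.map_map, ← IsScalarTower.algebraMap_eq, hcomap]
  exact trans_local _ _ _ hJ hK

end global

section bridge

variable (R S : Type u) [CommRing R] [CommRing S] [IsNoetherianRing R] [IsNoetherianRing S]
  [Algebra R S] (p : Ideal R) [p.IsPrime]

theorem isNoetherianRing_fiber : IsNoetherianRing (p.Fiber S) := by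
  letI : Algebra S (p.Fiber S) := Algebra.TensorProduct.rightAlgebra
  exact isNoetherianRing_of_ringEquiv _ (Ideal.Fiber.algEquivQuotient p).symm.toRingEquiv

theorem comap_comap_includeRight (𝔮 : Ideal (p.Fiber S)) [𝔮.IsPrime] :
    (𝔮.comap (Algebra.TensorProduct.includeRight : S →ₐ[R] p.Fiber S)).comap
      (algebraMap R S) = p := by
  have h1 : p = 𝔮.under R := Ideal.LiesOver.over
  have h2 : ∀ x, x ∈ p ↔ algebraMap R (p.Fiber S) x ∈ 𝔮 := fun x =>
    (SetLike.ext_iff.mp h1 x).trans Ideal.mem_comap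
  ext x
  rw [Ideal.mem_comap, Ideal.mem_comap, h2, AlgHom.commutes]

theorem nonempty_localization_fiber_equiv (𝔮 : Ideal (p.Fiber S)) [𝔮.IsPrime] :
    Nonempty (Localization.AtPrime 𝔮 ≃+* EGA4.FibLocRing R S
      (𝔮.comap (Algebra.TensorProduct.includeRight : S →ₐ[R] p.Fiber S))) := by
  have h := comap_comap_includeRight R S p 𝔮
  haveI : (𝔮.comap (Algebra.TensorProduct.includeRight : S →ₐ[R] p.Fiber S)).LiesOver p :=
    ⟨h.symm⟩
  letI := Localization.AtPrime.algebraOfLiesOver p
    (𝔮.comap (Algebra.TensorProduct.includeRight : S →ₐ[R] p.Fiber S))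
  have e := Ideal.Fiber.localizationAlgEquivQuotient p 𝔮
  exact ⟨e.toRingEquiv.trans (Ideal.quotEquivOfEq (by rw [h]))⟩

theorem exists_fiber_prime (r : Ideal S) [r.IsPrime] (hr : r.comap (algebraMap R S) = p) :
    ∃ (𝔮 : Ideal (p.Fiber S)) (_ : 𝔮.IsPrime),
      𝔮.comap (Algebra.TensorProduct.includeRight : S →ₐ[R] p.Fiber S) = r := by
  let x : (PrimeSpectrum.comap (algebraMap R S)) ⁻¹' {(⟨p, inferInstance⟩ : PrimeSpectrum R)} :=
    ⟨⟨r, inferInstance⟩, by
      rw [Set.mem_preimage, Set.mem_singleton_iff]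
      exact PrimeSpectrum.ext hr⟩
  refine ⟨(PrimeSpectrum.preimageEquivFiber R S ⟨p, inferInstance⟩ x).asIdeal,
    (PrimeSpectrum.preimageEquivFiber R S ⟨p, inferInstance⟩ x).2, ?_⟩
  have h := (PrimeSpectrum.preimageEquivFiber R S ⟨p, inferInstance⟩).symm_apply_apply x
  have h' := congrArg (fun z => z.1.asIdeal) h
  ext y
  have h'' := SetLike.ext_iff.mp h' y
  exact h''

theorem forall_fiber_localization_iff (P : ∀ (X : Type u) [CommRing X], Prop)
    (hP : ∀ (X Y : Type u) [CommRing X] [CommRing Y], (X ≃+* Y) → P X → P Y) :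
    (∀ (𝔮 : Ideal (p.Fiber S)) [𝔮.IsPrime], P (Localization.AtPrime 𝔮)) ↔
      ∀ (r : Ideal S) [r.IsPrime], r.comap (algebraMap R S) = p →
        P (EGA4.FibLocRing R S r) := by
  constructor
  · intro H r _ hr
    obtain ⟨𝔮, h𝔮, rfl⟩ := exists_fiber_prime R S p r hr
    haveI := h𝔮
    obtain ⟨e⟩ := nonempty_localization_fiber_equiv R S p 𝔮
    exact hP _ _ e (H 𝔮)
  · intro H 𝔮 _
    obtain ⟨e⟩ := nonempty_localization_fiber_equiv R S p 𝔮
    exact hP _ _ e.symm (H _ (comap_comap_includeRight R S p 𝔮))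

end bridge

section closed

/-- `(S_k)` at the closed point of a local ring. -/
def ClosedSk (k : ℕ) (X : Type u) [CommRing X] : Prop :=
  ∀ [IsLocalRing X], min (k : ℕ∞) (maximalIdeal X).height ≤ LocCoh.depth X X

/-- Cohen–Macaulayness of a local ring, in `ℕ∞`. -/
def ClosedCM (X : Type u) [CommRing X] : Prop :=
  ∀ [IsLocalRing X], (maximalIdeal X).height = LocCoh.depth X X

theorem closedSk_of_ringEquiv (k : ℕ) (X Y : Type u) [CommRing X] [CommRing Y] (e : X ≃+* Y)
    (h : ClosedSk k X) : ClosedSk k Y := by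
  intro hY
  haveI : IsLocalRing X := e.symm.isLocalRing
  rw [← height_maximalIdeal_eq_of_ringEquiv e, ← depth_eq_of_ringEquiv e]
  exact h

theorem closedCM_of_ringEquiv (X Y : Type u) [CommRing X] [CommRing Y] (e : X ≃+* Y)
    (h : ClosedCM X) : ClosedCM Y := by
  intro hY
  haveI : IsLocalRing X := e.symm.isLocalRing
  rw [← height_maximalIdeal_eq_of_ringEquiv e, ← depth_eq_of_ringEquiv e]
  exact h

theorem hasSk_self_iff_closedSk (k : ℕ) (T : Type u) [CommRing T] [IsNoetherianRing T] :
    LocCoh.HasSk k T T ↔ ∀ (𝔮 : Ideal T) [𝔮.IsPrime], ClosedSk k (Localization.AtPrime 𝔮) := by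
  rw [hasSk_self_iff']
  refine forall_congr' fun 𝔮 => forall_congr' fun _ => ?_
  constructor
  · intro h _
    rw [SerreNormal.height_maximalIdeal_atPrime]
    exact h
  · intro h
    have h' : min (k : ℕ∞) (maximalIdeal (Localization.AtPrime 𝔮)).height ≤
        LocCoh.depth (Localization.AtPrime 𝔮) (Localization.AtPrime 𝔮) := h
    rwa [SerreNormal.height_maximalIdeal_atPrime] at h'

theorem isCohenMacaulayLocalRing_iff_closedCM (X : Type u) [CommRing X] [IsNoetherianRing X]
    [IsLocalRing X] : LocCoh.IsCohenMacaulayLocalRing X ↔ ClosedCM X := by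
  constructor
  · intro h _
    have h1 := h.supportDim_eq_depth
    rw [Module.supportDim_self_eq_ringKrullDim,
      ← IsLocalRing.maximalIdeal_height_eq_ringKrullDim] at h1
    exact_mod_cast h1
  · intro h
    refine { supportDim_eq_depth := ?_ }
    rw [Module.supportDim_self_eq_ringKrullDim,
      ← IsLocalRing.maximalIdeal_height_eq_ringKrullDim]
    have h' : (maximalIdeal X).height = LocCoh.depth X X := h
    rw [h']

variable (R S : Type u) [CommRing R] [CommRing S] [IsNoetherianRing R] [IsNoetherianRing S]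
  [Algebra R S] (p : Ideal R) [p.IsPrime]

theorem hasSk_fiber_iff (k : ℕ) :
    LocCoh.HasSk k (p.Fiber S) (p.Fiber S) ↔
      ∀ (r : Ideal S) [r.IsPrime], r.comap (algebraMap R S) = p →
        ClosedSk k (EGA4.FibLocRing R S r) := by
  haveI := isNoetherianRing_fiber R S p
  rw [hasSk_self_iff_closedSk]
  exact forall_fiber_localization_iff R S p (ClosedSk k) (closedSk_of_ringEquiv k)

theorem isCohenMacaulayRing_fiber_iff :
    LocCoh.IsCohenMacaulayRing (p.Fiber S) ↔
      ∀ (r : Ideal S) [r.IsPrime], r.comap (algebraMap R S) = p →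
        ClosedCM (EGA4.FibLocRing R S r) := by
  haveI := isNoetherianRing_fiber R S p
  rw [← forall_fiber_localization_iff R S p ClosedCM closedCM_of_ringEquiv]
  constructor
  · intro h 𝔮 _
    exact (isCohenMacaulayLocalRing_iff_closedCM _).mp
      (h.isCohenMacaulayLocalRing_localization 𝔮)
  · intro h
    exact { isCohenMacaulayLocalRing_localization := fun 𝔮 _ =>
      (isCohenMacaulayLocalRing_iff_closedCM _).mpr (h 𝔮) }

end closed

section descent

variable (B C : Type u) [CommRing B] [CommRing C] [IsNoetherianRing B] [IsNoetherianRing C]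
  [Algebra B C] [Module.FaithfullyFlat B C]

/-- Over every prime `r` of `B` there is a prime `s` of `C` whose fibre local ring has
dimension (and hence depth) zero. -/
theorem exists_prime_fibre_dim_zero (r : Ideal B) [hrp : r.IsPrime] :
    ∃ (s : Ideal C) (_ : s.IsPrime), s.comap (algebraMap B C) = r ∧
      (maximalIdeal (EGA4.FibLocRing B C s)).height = 0 ∧
      LocCoh.depth (EGA4.FibLocRing B C s) (EGA4.FibLocRing B C s) = 0 := by
  obtain ⟨q₀, hq₀⟩ := PrimeSpectrum.comap_surjective_of_faithfullyFlat (A := B) (B := C) ⟨r, hrp⟩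
  have hq₀' : q₀.asIdeal.comap (algebraMap B C) = r := congrArg PrimeSpectrum.asIdeal hq₀
  have hle : r.map (algebraMap B C) ≤ q₀.asIdeal := by
    rw [Ideal.map_le_iff_le_comap, hq₀']
  obtain ⟨s, hsmin, hsle⟩ := Ideal.exists_minimalPrimes_le hle
  haveI hsprime : s.IsPrime := hsmin.1.1
  have hsr : s.comap (algebraMap B C) = r := by
    apply le_antisymm
    · calc s.comap (algebraMap B C) ≤ q₀.asIdeal.comap (algebraMap B C) := Ideal.comap_mono hsle
        _ = r := hq₀'
    · rw [← Ideal.map_le_iff_le_comap]; exact hsmin.1.2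
  haveI : s.LiesOver r := ⟨hsr.symm⟩
  have hht := Ideal.height_eq_height_add_of_liesOver_of_hasGoingDown r s
  have hmem := map_mk_mem_minimalPrimes hsmin
  haveI : (s.map (Ideal.Quotient.mk (r.map (algebraMap B C)))).IsPrime := hmem.1.1
  have h0 : (s.map (Ideal.Quotient.mk (r.map (algebraMap B C)))).height = 0 :=
    Ideal.height_eq_zero_iff.mpr hmem
  rw [h0, add_zero] at hht
  obtain ⟨h1, -, -⟩ := exists_local_data B C s
  have hsr' : (s.comap (algebraMap B C)).height = r.height := by rw [hsr]
  rw [hsr', hht] at h1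
  have hfin : r.height ≠ ⊤ := Ideal.height_ne_top_of_isPrime
  have h2 : r.height + (maximalIdeal (EGA4.FibLocRing B C s)).height ≤ r.height + 0 := by
    rw [add_zero]; exact h1.ge
  have h3 : (maximalIdeal (EGA4.FibLocRing B C s)).height = 0 :=
    nonpos_iff_eq_zero.mp ((ENat.add_le_add_iff_left hfin).mp h2)
  refine ⟨s, hsprime, hsr, h3, ?_⟩
  have h4 := depth_self_le_height (B := EGA4.FibLocRing B C s)
  rw [h3] at h4
  exact nonpos_iff_eq_zero.mp h4

end descent

end Groth.Agent.Lib.Helper4.FlatFibre
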