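import Mathlib

/-!
# Monomial combinatorics in a polynomial ring for the Koszul computation

For `S = A[X_j : j ∈ σ]` (`σ` finite):
* `JT T n`: the ideal generated by `X_j^n`, `j ∈ T`; `mem_JT_iff`; `mem_JT_of_X_pow_mul_mem`;
  `isWeaklyRegular_X_pow`.
* `g n : S →ₗ[A] S`, the truncated reflection `X^β ↦ X^{(n-1)𝟙 - β}` (zero outside the box), with
  `g_kills`, `g_ker`, `g_compat`, `g_monomial`.
* `PS A S`: `S →ₗ[A] S` as an `S`-module by precomposition, and `leg`.
-/

set_option autoImplicit false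
set_option linter.style.haveILetI false
set_option linter.unusedSectionVars false
set_option linter.unusedVariables false
set_option maxHeartbeats 800000

universe u

namespace Groth.Agent.Lib.Helper4.KosPoly

open MvPolynomial

section PS

variable (A S : Type u) [CommRing A] [CommRing S] [Algebra A S]

/-- `S →ₗ[A] S`, with `S` acting by precomposition. -/
def PS : Type u := S →ₗ[A] S

instance : AddCommGroup (PS A S) := inferInstanceAs (AddCommGroup (S →ₗ[A] S))

/-- underlying linear map. -/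
def PS.toLin (φ : PS A S) : S →ₗ[A] S := φ

/-- from a linear map. -/
def PS.ofLin (φ : S →ₗ[A] S) : PS A S := φ

lemma PS.ext {φ ψ : PS A S} (h : ∀ x, PS.toLin A S φ x = PS.toLin A S ψ x) : φ = ψ :=
  LinearMap.ext h

instance : Module S (PS A S) where
  smul s φ := PS.ofLin A S ((PS.toLin A S φ).comp (LinearMap.mulLeft A s))
  one_smul φ := by
    apply PS.ext
    intro x
    change PS.toLin A S φ (1 * x) = PS.toLin A S φ x
    rw [one_mul]
  mul_smul s t φ := by
    apply PS.ext
    intro x
    change PS.toLin A S φ (s * t * x) = PS.toLin A S φ (t * (s * x))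
    congr 1
    ring
  smul_zero s := by
    apply PS.ext
    intro x
    rfl
  smul_add s φ ψ := by
    apply PS.ext
    intro x
    rfl
  add_smul s t φ := by
    apply PS.ext
    intro x
    change PS.toLin A S φ ((s + t) * x) = PS.toLin A S φ (s * x) + PS.toLin A S φ (t * x)
    rw [add_mul, map_add]
  zero_smul φ := by
    apply PS.ext
    intro x
    change PS.toLin A S φ (0 * x) = 0
    rw [zero_mul, map_zero]

lemma PS.smul_apply (s : S) (φ : PS A S) (x : S) :
    PS.toLin A S (s • φ) x = PS.toLin A S φ (s * x) := rfl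

lemma PS.add_apply (φ ψ : PS A S) (x : S) :
    PS.toLin A S (φ + ψ) x = PS.toLin A S φ x + PS.toLin A S ψ x := rfl

/-- the `S`-linear map `p ↦ (s ↦ g (s * p))`. -/
def leg (g : S →ₗ[A] S) : S →ₗ[S] PS A S where
  toFun p := PS.ofLin A S (g.comp (LinearMap.mulRight A p))
  map_add' p q := by
    apply PS.ext
    intro s
    change g (s * (p + q)) = g (s * p) + g (s * q)
    rw [mul_add, map_add]
  map_smul' t p := by
    apply PS.ext
    intro s
    change g (s * (t • p)) = g (t * s * p)
    rw [smul_eq_mul]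
    congr 1
    ring

lemma leg_apply (g : S →ₗ[A] S) (p s : S) : PS.toLin A S (leg A S g p) s = g (s * p) := rfl

end PS

section poly

variable {A : Type u} [CommRing A] {σ : Type} [Fintype σ] [DecidableEq σ]

/-- the ideal generated by the `X_j^n`, `j ∈ T`. -/
noncomputable def JT (A : Type u) [CommRing A] {σ : Type} (T : Set σ) (n : ℕ) :
    Ideal (MvPolynomial σ A) :=
  Ideal.span ((fun s => monomial s (1 : A)) '' {s | ∃ j ∈ T, s = Finsupp.single j n})

omit [Fintype σ] [DecidableEq σ] in
lemma mem_JT_iff (T : Set σ) (n : ℕ) (p : MvPolynomial σ A) :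
    p ∈ JT A T n ↔ ∀ β ∈ p.support, ∃ j ∈ T, n ≤ β j := by
  rw [JT, mem_ideal_span_monomial_image]
  constructor
  · intro h β hβ
    obtain ⟨_, ⟨j, hj, rfl⟩, hle⟩ := h β hβ
    exact ⟨j, hj, Finsupp.single_le_iff.mp hle⟩
  · intro h β hβ
    obtain ⟨j, hj, hle⟩ := h β hβ
    exact ⟨Finsupp.single j n, ⟨j, hj, rfl⟩, Finsupp.single_le_iff.mpr hle⟩

omit [Fintype σ] in
lemma mem_JT_of_X_pow_mul_mem (n : ℕ) (T : Set σ) (i : σ) (hi : i ∉ T) (p : MvPolynomial σ A)
    (hp : X i ^ n * p ∈ JT A T n) : p ∈ JT A T n := by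
  rw [mem_JT_iff] at hp ⊢
  intro β hβ
  have hc : coeff (Finsupp.single i n + β) (X i ^ n * p) = coeff β p := by
    rw [X_pow_eq_monomial, coeff_monomial_mul, one_mul]
  have hmem : Finsupp.single i n + β ∈ (X i ^ n * p).support := by
    rw [mem_support_iff, hc]
    exact mem_support_iff.mp hβ
  obtain ⟨j, hj, hle⟩ := hp _ hmem
  refine ⟨j, hj, ?_⟩
  have hji : i ≠ j := fun h => hi (h ▸ hj)
  have h0 : (Finsupp.single i n) j = 0 := by rw [Finsupp.single_apply, if_neg hji]
  rwa [Finsupp.add_apply, h0, zero_add] at hle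

omit [Fintype σ] in
lemma ofList_map_eq_JT (n : ℕ) (js : List σ) :
    Ideal.ofList (js.map (fun j => (X j : MvPolynomial σ A) ^ n)) = JT A {j | j ∈ js} n := by
  unfold JT
  change Ideal.span _ = _
  congr 1
  ext x
  simp only [Set.mem_setOf_eq, List.mem_map, Set.mem_image]
  constructor
  · rintro ⟨j, hj, rfl⟩
    exact ⟨Finsupp.single j n, ⟨j, hj, rfl⟩, (X_pow_eq_monomial).symm⟩
  · rintro ⟨_, ⟨j, hj, rfl⟩, rfl⟩
    exact ⟨j, hj, X_pow_eq_monomial⟩

omit [Fintype σ] in
theorem isWeaklyRegular_X_pow (n : ℕ) (js : List σ) (hjs : js.Nodup) :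
    RingTheory.Sequence.IsWeaklyRegular (MvPolynomial σ A)
      (js.map (fun j => (X j : MvPolynomial σ A) ^ n)) := by
  rw [RingTheory.Sequence.isWeaklyRegular_iff]
  intro i hi
  have hi' : i < js.length := by simpa using hi
  rw [isSMulRegular_quotient_iff_mem_of_smul_mem]
  intro p hp
  have hideal : (Ideal.ofList ((js.map (fun j => (X j : MvPolynomial σ A) ^ n)).take i) •
      (⊤ : Submodule (MvPolynomial σ A) (MvPolynomial σ A))) = JT A {j | j ∈ js.take i} n := by
    rw [smul_eq_mul, Ideal.mul_top, ← List.map_take, ofList_map_eq_JT]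
  have hget : (js.map (fun j => (X j : MvPolynomial σ A) ^ n))[i] = X js[i] ^ n := by simp
  rw [hideal] at hp ⊢
  rw [hget, smul_eq_mul] at hp
  refine mem_JT_of_X_pow_mul_mem n _ js[i] ?_ p hp
  intro hmem
  obtain ⟨k, hk, hkeq⟩ := List.mem_take_iff_getElem.mp hmem
  have hk' : k < i := lt_of_lt_of_le hk (min_le_left _ _)
  have hklen : k < js.length := lt_trans hk' hi'
  have : k = i := (List.Nodup.getElem_inj_iff hjs).mp hkeq
  omega

/-- the constant exponent vector. -/
noncomputable def one (σ : Type) [Fintype σ] (k : ℕ) : σ →₀ ℕ :=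
  Finsupp.onFinset Finset.univ (fun _ => k) (fun _ _ => Finset.mem_univ _)

lemma one_apply (k : ℕ) (j : σ) : one σ k j = k := rfl

/-- the reflection `β ↦ (n-1)𝟙 - β`. -/
noncomputable def refl (n : ℕ) (α : σ →₀ ℕ) : σ →₀ ℕ := one σ (n - 1) - α

lemma refl_apply (n : ℕ) (α : σ →₀ ℕ) (j : σ) : refl n α j = n - 1 - α j := by
  rw [refl, Finsupp.tsub_apply, one_apply]

lemma refl_box (n : ℕ) (α : σ →₀ ℕ) (h : ∀ j, α j < n) : ∀ j, refl n α j < n := by
  intro j
  rw [refl_apply]
  have := h j
  omega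

lemma refl_refl (n : ℕ) (α : σ →₀ ℕ) (h : ∀ j, α j < n) : refl n (refl n α) = α := by
  ext j
  rw [refl_apply, refl_apply]
  have := h j
  omega

/-- the box `{α | ∀ j, α j < n}` as a finset. -/
noncomputable def boxF (σ : Type) [Fintype σ] [DecidableEq σ] (n : ℕ) : Finset (σ →₀ ℕ) :=
  (Fintype.piFinset (fun _ : σ => Finset.range n)).map
    Finsupp.equivFunOnFinite.symm.toEmbedding

lemma mem_boxF (n : ℕ) (α : σ →₀ ℕ) : α ∈ boxF σ n ↔ ∀ j, α j < n := by
  rw [boxF, Finset.mem_map_equiv, Fintype.mem_piFinset]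
  simp only [Equiv.symm_symm, Finsupp.equivFunOnFinite_apply, Finset.mem_range]

/-- the truncated reflection. -/
noncomputable def g (A : Type u) [CommRing A] (σ : Type) [Fintype σ] [DecidableEq σ] (n : ℕ) :
    MvPolynomial σ A →ₗ[A] MvPolynomial σ A :=
  ∑ α ∈ boxF σ n, (monomial α : A →ₗ[A] MvPolynomial σ A) ∘ₗ (lcoeff A (refl n α))

lemma coeff_g (n : ℕ) (p : MvPolynomial σ A) (α : σ →₀ ℕ) :
    coeff α (g A σ n p) = if (∀ j, α j < n) then coeff (refl n α) p else 0 := by
  simp only [g, LinearMap.sum_apply, LinearMap.comp_apply, lcoeff_apply,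
    coeff_sum, coeff_monomial]
  rw [Finset.sum_ite_eq']
  simp only [mem_boxF]

lemma g_kills (n : ℕ) (p : MvPolynomial σ A) (hp : p ∈ JT A (Set.univ : Set σ) n) :
    g A σ n p = 0 := by
  rw [mem_JT_iff] at hp
  ext α
  rw [coeff_g, coeff_zero]
  split_ifs with hα
  · by_contra hne
    have hmem : refl n α ∈ p.support := mem_support_iff.mpr hne
    obtain ⟨j, -, hj⟩ := hp _ hmem
    have := refl_box n α hα j
    omega
  · rfl

lemma g_ker (n : ℕ) (p : MvPolynomial σ A) (hp : g A σ n p = 0) :
    p ∈ JT A (Set.univ : Set σ) n := by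
  rw [mem_JT_iff]
  intro β hβ
  by_contra hcon
  push Not at hcon
  have hbox : ∀ j, β j < n := fun j => hcon j (Set.mem_univ j)
  have h1 := coeff_g n p (refl n β)
  rw [hp, coeff_zero, if_pos (refl_box n β hbox), refl_refl n β hbox] at h1
  exact (mem_support_iff.mp hβ) h1.symm

lemma g_compat (n m : ℕ) (h : n ≤ m) (p : MvPolynomial σ A) :
    g A σ m (monomial (one σ (m - n)) (1 : A) * p) = g A σ n p := by
  ext α
  rw [coeff_g, coeff_g, coeff_monomial_mul']
  by_cases hn : ∀ j, α j < n
  · have hm : ∀ j, α j < m := fun j => lt_of_lt_of_le (hn j) h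
    have hle : one σ (m - n) ≤ refl m α := by
      intro j
      rw [one_apply, refl_apply]
      have := hn j
      omega
    have hsub : refl m α - one σ (m - n) = refl n α := by
      ext j
      rw [Finsupp.tsub_apply, refl_apply, refl_apply, one_apply]
      have := hn j
      omega
    rw [if_pos hm, if_pos hn, if_pos hle, hsub, one_mul]
  · rw [if_neg hn]
    split_ifs with hm hle
    · exfalso
      apply hn
      intro j
      have h1 := hle j
      rw [one_apply, refl_apply] at h1
      have := hm j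
      omega
    · rfl
    · rfl

lemma g_monomial (n : ℕ) (α : σ →₀ ℕ) (hα : ∀ j, α j < n) (a : A) :
    g A σ n (monomial (refl n α) a) = monomial α a := by
  ext α'
  rw [coeff_g, coeff_monomial, coeff_monomial]
  by_cases hαα : α = α'
  · subst hαα
    rw [if_pos hα, if_pos rfl, if_pos rfl]
  · rw [if_neg hαα]
    split_ifs with h1 h2
    · exfalso
      apply hαα
      rw [← refl_refl n α hα, ← refl_refl n α' h1, h2]
    · rfl
    · rfl

lemma prod_X_pow (k : ℕ) :
    ∏ j : σ, (X j : MvPolynomial σ A) ^ k = monomial (one σ k) (1 : A) := by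
  rw [monomial_eq, C_1, one_mul, Finsupp.prod_fintype]
  · rfl
  · intro i
    exact pow_zero _

end poly

end Groth.Agent.Lib.Helper4.KosPoly
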