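import Groth.Agent.Lib.Helper4.LC1

/-!
# Local cohomology: power-torsion modules (Noetherian rings)

`Γ_I(E)` is injective for `E` injective; power-torsion modules are acyclic.
-/

set_option autoImplicit false
set_option linter.style.haveILetI false
set_option linter.unusedSectionVars false
set_option linter.unusedVariables false
set_option maxHeartbeats 400000

open CategoryTheory Limits Opposite Abelian

universe u

namespace Groth.Agent.Lib.Helper4.LC

variable {R : Type u} [CommRing R] (I : Ideal R)

section torsion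

lemma isPowerTorsion_iff (M : Type u) [AddCommGroup M] [Module R M] :
    LocCoh.IsPowerTorsion I M ↔ DRing.torsionSub I M = ⊤ := by
  constructor
  · intro h
    rw [eq_top_iff]
    intro m _
    exact h m
  · intro h m
    have : m ∈ DRing.torsionSub I M := by rw [h]; trivial
    exact this

lemma isPowerTorsion_torsionSub (M : Type u) [AddCommGroup M] [Module R M] :
    LocCoh.IsPowerTorsion I (DRing.torsionSub I M) := by
  rintro ⟨m, n, hn⟩
  exact ⟨n, fun a ha => Subtype.ext (hn a ha)⟩

lemma isPowerTorsion_of_surjective {M N : Type*} [AddCommGroup M] [Module R M] [AddCommGroup N]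
    [Module R N] (f : M →ₗ[R] N) (hf : Function.Surjective f) (hM : LocCoh.IsPowerTorsion I M) :
    LocCoh.IsPowerTorsion I N := by
  intro y
  obtain ⟨x, rfl⟩ := hf y
  obtain ⟨n, hn⟩ := hM x
  exact ⟨n, fun a ha => by rw [← map_smul, hn a ha, map_zero]⟩

lemma isPowerTorsion_of_injective {M N : Type*} [AddCommGroup M] [Module R M] [AddCommGroup N]
    [Module R N] (f : M →ₗ[R] N) (hf : Function.Injective f) (hN : LocCoh.IsPowerTorsion I N) :
    LocCoh.IsPowerTorsion I M := by
  intro x
  obtain ⟨n, hn⟩ := hN (f x)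
  exact ⟨n, fun a ha => hf (by rw [map_smul, hn a ha, map_zero])⟩

variable [IsNoetherianRing R]

/-- Artin–Rees. -/
lemma exists_pow_inf_le (J : Ideal R) (n : ℕ) : ∃ m : ℕ, I ^ m ⊓ J ≤ I ^ n * J := by
  obtain ⟨k, hk⟩ := Ideal.exists_pow_inf_eq_pow_smul I (J : Submodule R R)
  refine ⟨n + k, ?_⟩
  have h := hk (n + k) (Nat.le_add_left k n)
  rw [Nat.add_sub_cancel] at h
  simp only [smul_eq_mul, Ideal.mul_top] at h
  rw [h]
  exact Ideal.mul_mono_right inf_le_right

/-- Over a Noetherian ring, `Γ_I` of an injective module is injective. -/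
theorem injective_torsionSub (E : Type u) [AddCommGroup E] [Module R E] [Module.Injective R E] :
    Module.Injective R (DRing.torsionSub I E) := by
  apply Module.Baer.injective
  intro J g
  obtain ⟨n, hn⟩ : ∃ n : ℕ, ∀ a ∈ I ^ n, ∀ x : J, a • g x = 0 := by
    have hfg : (⊤ : Submodule R J).FG := Module.Finite.fg_top
    obtain ⟨s, hs⟩ := hfg
    choose! k hk using fun y : J => (g y).2
    refine ⟨s.sup k, fun a ha x => ?_⟩
    have hx : x ∈ Submodule.span R (s : Set J) := by rw [hs]; trivial
    induction hx using Submodule.span_induction with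
    | mem y hy =>
      exact Subtype.ext (hk y a (Ideal.pow_le_pow_right (Finset.le_sup hy) ha))
    | zero => rw [map_zero, smul_zero]
    | add y z _ _ hy hz => rw [map_add, smul_add, hy, hz, add_zero]
    | smul r y _ hy => rw [map_smul, smul_comm, hy, smul_zero]
  obtain ⟨m, hm⟩ := exists_pow_inf_le I J n
  have hvanish : ∀ x : J, (x : R) ∈ I ^ m → g x = 0 := by
    intro x hx
    have hxmem : (x : R) ∈ I ^ n * J := hm ⟨hx, x.2⟩
    have key : ∀ r : R, r ∈ I ^ n * J → ∃ hr : r ∈ J, g ⟨r, hr⟩ = 0 := by
      intro r hr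
      refine Submodule.mul_induction_on hr ?_ ?_
      · intro a ha y hy
        refine ⟨J.mul_mem_left a hy, ?_⟩
        have : (⟨a * y, J.mul_mem_left a hy⟩ : J) = a • (⟨y, hy⟩ : J) := rfl
        rw [this, map_smul]
        exact hn a ha ⟨y, hy⟩
      · rintro u v ⟨hu, gu⟩ ⟨hv, gv⟩
        refine ⟨J.add_mem hu hv, ?_⟩
        have : (⟨u + v, J.add_mem hu hv⟩ : J) = ⟨u, hu⟩ + ⟨v, hv⟩ := rfl
        rw [this, map_add, gu, gv, add_zero]
    obtain ⟨_, h0⟩ := key x hxmem
    exact h0
  let f : J →ₗ[R] R ⧸ I ^ m := (Submodule.mkQ (I ^ m)).comp (Submodule.subtype J)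
  have hker : LinearMap.ker f ≤ LinearMap.ker ((DRing.torsionSub I E).subtype.comp g) := by
    intro x hx
    rw [LinearMap.mem_ker] at hx ⊢
    have : (x : R) ∈ I ^ m := (Submodule.Quotient.mk_eq_zero _).1 hx
    rw [LinearMap.comp_apply, hvanish x this, map_zero]
  let g1 : (J ⧸ LinearMap.ker f) →ₗ[R] E := (LinearMap.ker f).liftQ _ hker
  let g2 : LinearMap.range f →ₗ[R] E := g1.comp f.quotKerEquivRange.symm.toLinearMap
  obtain ⟨h, hh⟩ := Module.Injective.extension_property R E (LinearMap.range f) (R ⧸ I ^ m)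
    (LinearMap.range f).subtype Subtype.val_injective g2
  have hmem : ∀ r : R, (h.comp (Submodule.mkQ (I ^ m))) r ∈ DRing.torsionSub I E := by
    intro r
    refine ⟨m, fun a ha => ?_⟩
    rw [LinearMap.comp_apply, Submodule.mkQ_apply, ← map_smul, ← Submodule.Quotient.mk_smul,
      (Submodule.Quotient.mk_eq_zero _).2 (by
        rw [smul_eq_mul]; exact Ideal.mul_mem_right _ _ ha), map_zero]
  refine ⟨LinearMap.codRestrict (DRing.torsionSub I E) (h.comp (Submodule.mkQ (I ^ m))) hmem, ?_⟩
  intro x hx
  apply Subtype.ext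
  change h (Submodule.Quotient.mk x) = (g ⟨x, hx⟩ : E)
  have h1 : h (Submodule.Quotient.mk x) =
      g2 ⟨f ⟨x, hx⟩, LinearMap.mem_range_self f _⟩ := by
    rw [← hh]
    rfl
  rw [h1]
  change g1 (f.quotKerEquivRange.symm ⟨f ⟨x, hx⟩, _⟩) = _
  rw [LinearMap.quotKerEquivRange_symm_apply_image]
  rfl

end torsion

section acyclic

variable [IsNoetherianRing R]

lemma exists_HH0_eq (M : ModuleCat.{u} R) (x : M) (hx : x ∈ DRing.torsionSub I M) :
    ∃ y : HH I M 0, HH0 I M y = x := by
  obtain ⟨y, hy⟩ := (HH0Equiv I M).surjective ⟨x, hx⟩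
  exact ⟨y, congrArg Subtype.val hy⟩

/-- A power-torsion module sits in a short exact sequence with injective power-torsion middle term
and power-torsion cokernel. -/
theorem exists_torsion_ses (N : Type u) [AddCommGroup N] [Module R N]
    (hN : LocCoh.IsPowerTorsion I N) :
    ∃ (T C : Type u) (_ : AddCommGroup T) (_ : Module R T) (_ : AddCommGroup C) (_ : Module R C)
      (f : N →ₗ[R] T) (g : T →ₗ[R] C), Function.Injective f ∧ Function.Surjective g ∧
        Function.Exact f g ∧ Module.Injective R T ∧ LocCoh.IsPowerTorsion I T ∧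
        LocCoh.IsPowerTorsion I C := by
  let E := Injective.under (ModuleCat.of R N)
  let ι : ModuleCat.of R N ⟶ E := Injective.ι (ModuleCat.of R N)
  have hιinj : Function.Injective ι.hom := (ModuleCat.mono_iff_injective ι).1 inferInstance
  have hE : Module.Injective R E := by
    have : CategoryTheory.Injective (ModuleCat.of R E) :=
      inferInstanceAs (CategoryTheory.Injective E)
    exact Module.injective_module_of_injective_object R E
  have hT : Module.Injective R (DRing.torsionSub I E) := injective_torsionSub I E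
  let f : N →ₗ[R] DRing.torsionSub I E :=
    LinearMap.codRestrict (DRing.torsionSub I E) ι.hom (fun x => by
      obtain ⟨n, hn⟩ := hN x
      exact ⟨n, fun a ha => by rw [← map_smul, hn a ha, map_zero]⟩)
  have hf : Function.Injective f := fun a b h => hιinj (congrArg Subtype.val h)
  refine ⟨DRing.torsionSub I E, DRing.torsionSub I E ⧸ LinearMap.range f, inferInstance,
    inferInstance, inferInstance, inferInstance, f, (LinearMap.range f).mkQ, hf,
    Submodule.mkQ_surjective _, ?_, hT, isPowerTorsion_torsionSub I E,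
    isPowerTorsion_of_surjective I _ (Submodule.mkQ_surjective _)
      (isPowerTorsion_torsionSub I E)⟩
  exact LinearMap.exact_map_mkQ_range f

/-- **Power-torsion modules are acyclic** for local cohomology (Noetherian rings). -/
theorem HH.subsingleton_of_isPowerTorsion (i : ℕ) : ∀ (N : Type u) [AddCommGroup N] [Module R N]
    (_ : LocCoh.IsPowerTorsion I N), Subsingleton (HH I (ModuleCat.of R N) (i + 1)) := by
  induction i with
  | zero =>
    intro N _ _ hN
    obtain ⟨T, C, _, _, _, _, f, g, hf, hg, hfg, hT, hTt, hCt⟩ := exists_torsion_ses I N hN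
    let S : ShortComplex (ModuleCat.{u} R) :=
      ModuleCat.shortComplexOfCompEqZero f g (by ext x; simpa using hfg.apply_apply_eq_zero x)
    have hS : S.ShortExact := ModuleCat.shortComplex_shortExact S hfg hf hg
    have hinj : CategoryTheory.Injective S.X₂ := Module.injective_object_of_injective_module R T
    have h2 : Subsingleton (HH I S.X₂ (0 + 1)) := HH.subsingleton_of_injective I S.X₂ 0
    refine ⟨fun a b => ?_⟩
    have key : ∀ x : HH I S.X₁ (0 + 1), x = 0 := by
      intro x
      obtain ⟨x₃, rfl⟩ := HH.exact₁ I hS 0 x (Subsingleton.elim _ _)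
      -- lift `x₃` to `H^0(T)`
      obtain ⟨t, ht⟩ := hg (HH0 I S.X₃ x₃)
      obtain ⟨x₂, hx₂⟩ := exists_HH0_eq I S.X₂ t (hTt t)
      have : HH.map I S.g 0 x₂ = x₃ := by
        apply HH0_injective I S.X₃
        rw [HH0_map, hx₂]
        exact ht
      rw [← this, HH.δ_map_g]
    exact (key a).trans (key b).symm
  | succ i ih =>
    intro N _ _ hN
    obtain ⟨T, C, _, _, _, _, f, g, hf, hg, hfg, hT, hTt, hCt⟩ := exists_torsion_ses I N hN
    let S : ShortComplex (ModuleCat.{u} R) :=
      ModuleCat.shortComplexOfCompEqZero f g (by ext x; simpa using hfg.apply_apply_eq_zero x)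
    have hS : S.ShortExact := ModuleCat.shortComplex_shortExact S hfg hf hg
    have hinj : CategoryTheory.Injective S.X₂ := Module.injective_object_of_injective_module R T
    have h2 : Subsingleton (HH I S.X₂ (i + 1 + 1)) := HH.subsingleton_of_injective I S.X₂ (i + 1)
    have h3 : Subsingleton (HH I S.X₃ (i + 1)) := ih C hCt
    exact HH.subsingleton_X₁_succ I hS (i + 1) h2 h3

/-- `H^0_I(N) ≅ N` for power-torsion `N`. -/
noncomputable def HH0EquivOfTorsion (N : Type u) [AddCommGroup N] [Module R N]
    (hN : LocCoh.IsPowerTorsion I N) : HH I (ModuleCat.of R N) 0 ≃ₗ[R] N :=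
  (HH0Equiv I (ModuleCat.of R N)).trans
    ((LinearEquiv.ofEq _ _ ((isPowerTorsion_iff I N).1 hN)).trans Submodule.topEquiv)

end acyclic

end Groth.Agent.Lib.Helper4.LC
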