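import Groth.Agent.Lib.Helper4.Depth

set_option autoImplicit false

universe u v

open RingTheory.Sequence CategoryTheory Abelian

namespace Groth.Agent.Lib.Helper4

section regularSequenceQuotient

variable {R : Type u} [CommRing R] [Small.{v} R] [IsNoetherianRing R]

/-- Quotienting by a weakly regular sequence inside `I` drops the `I`-depth by its length. -/
theorem idealDepth_quot_ofList_add_length_aux (I : Ideal R) {M : Type v} [AddCommGroup M]
    [Module R M] {rs : List R} (hreg : IsWeaklyRegular M rs) :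
    Module.Finite R M → (∀ r ∈ rs, r ∈ I) →
    LocCoh.idealDepth I (M ⧸ (Ideal.ofList rs • ⊤ : Submodule R M)) + rs.length =
      LocCoh.idealDepth I M := by
  induction hreg with
  | nil M =>
    intro _ _
    have e : (M ⧸ (Ideal.ofList ([] : List R) • ⊤ : Submodule R M)) ≃ₗ[R] M :=
      Submodule.quotEquivOfEqBot _ (by rw [Ideal.ofList_nil, Submodule.bot_smul])
    rw [idealDepth_congr I e]
    simp
  | @cons M _ _ r rs h1 h2 ih =>
    intro hfin hmem
    have hfin' : Module.Finite R (QuotSMulTop r M) := inferInstance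
    have e := Submodule.quotOfListConsSMulTopEquivQuotSMulTopInner M r rs
    rw [idealDepth_congr I e, List.length_cons]
    have ih' := ih hfin' (fun x hx => hmem x (List.mem_cons_of_mem _ hx))
    push_cast
    rw [← add_assoc, ih', idealDepth_quotSMulTop_add_one I r (hmem r List.mem_cons_self) h1]

theorem idealDepth_quot_ofList_add_length (I : Ideal R) {M : Type v} [AddCommGroup M]
    [Module R M] [Module.Finite R M] {rs : List R} (hreg : IsWeaklyRegular M rs)
    (hmem : ∀ r ∈ rs, r ∈ I) :
    LocCoh.idealDepth I (M ⧸ (Ideal.ofList rs • ⊤ : Submodule R M)) + rs.length =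
      LocCoh.idealDepth I M :=
  idealDepth_quot_ofList_add_length_aux I hreg inferInstance hmem

variable {M : Type v} [AddCommGroup M] [Module R M] [Module.Finite R M]

omit [Small.{v} R] in
/-- Every weakly regular sequence inside `I` extends to a maximal one (when `IM ≠ M`). -/
theorem exists_maximal_isWeaklyRegular (I : Ideal R) (hIM : I • (⊤ : Submodule R M) ≠ ⊤)
    {rs : List R} (hreg : IsWeaklyRegular M rs) (hmem : ∀ r ∈ rs, r ∈ I) :
    ∃ rs' : List R, rs <+: rs' ∧ IsWeaklyRegular M rs' ∧ (∀ r ∈ rs', r ∈ I) ∧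
      ∀ r ∈ I, ¬ IsWeaklyRegular M (rs' ++ [r]) := by
  have hnoeth : IsNoetherian R M := inferInstance
  let S : Set (Submodule R M) := {N | ∃ rs' : List R, rs <+: rs' ∧ IsWeaklyRegular M rs' ∧
    (∀ r ∈ rs', r ∈ I) ∧ N = Ideal.ofList rs' • ⊤}
  have hS : S.Nonempty := ⟨_, rs, List.prefix_refl rs, hreg, hmem, rfl⟩
  obtain ⟨N₀, ⟨rs₀, hpre, hreg₀, hmem₀, rfl⟩, hmax⟩ := set_has_maximal_iff_noetherian.mpr hnoeth S hS
  refine ⟨rs₀, hpre, hreg₀, hmem₀, fun r hr hcon => ?_⟩
  have hmem₁ : ∀ x ∈ rs₀ ++ [r], x ∈ I := by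
    intro x hx
    rcases List.mem_append.mp hx with hx | hx
    · exact hmem₀ x hx
    · rw [List.mem_singleton] at hx; rw [hx]; exact hr
  have hin : (Ideal.ofList (rs₀ ++ [r]) • ⊤ : Submodule R M) ∈ S :=
    ⟨rs₀ ++ [r], hpre.trans (List.prefix_append rs₀ [r]), hcon, hmem₁, rfl⟩
  have hle : (Ideal.ofList rs₀ • ⊤ : Submodule R M) ≤ Ideal.ofList (rs₀ ++ [r]) • ⊤ := by
    refine Submodule.smul_mono_left ?_
    rw [Ideal.ofList_append]
    exact le_sup_left
  have heq : (Ideal.ofList (rs₀ ++ [r]) • ⊤ : Submodule R M) = Ideal.ofList rs₀ • ⊤ := by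
    by_contra hne
    exact hmax _ hin (lt_of_le_of_ne hle (Ne.symm hne))
  -- `r` acts as zero on the quotient, but is regular there
  have hr_reg : IsSMulRegular (M ⧸ (Ideal.ofList rs₀ • ⊤ : Submodule R M)) r :=
    (isWeaklyRegular_singleton_iff _ r).mp ((isWeaklyRegular_append_iff M rs₀ [r]).mp hcon).2
  have hzero : ∀ q : M ⧸ (Ideal.ofList rs₀ • ⊤ : Submodule R M), r • q = 0 := by
    intro q
    obtain ⟨m, rfl⟩ := Submodule.Quotient.mk_surjective _ q
    rw [← Submodule.Quotient.mk_smul, Submodule.Quotient.mk_eq_zero, ← heq]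
    refine Submodule.smul_mem_smul ?_ Submodule.mem_top
    rw [Ideal.ofList_append]
    exact Ideal.mem_sup_right (by rw [Ideal.ofList_singleton]; exact Ideal.mem_span_singleton_self r)
  have hsub : Subsingleton (M ⧸ (Ideal.ofList rs₀ • ⊤ : Submodule R M)) := by
    refine ⟨fun a b => hr_reg ?_⟩
    simp only [hzero]
  rw [Submodule.Quotient.subsingleton_iff] at hsub
  apply hIM
  have hle' : (Ideal.ofList rs₀ • ⊤ : Submodule R M) ≤ I • (⊤ : Submodule R M) := by
    refine Submodule.smul_mono_left ?_
    rw [Ideal.ofList, Ideal.span_le]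
    exact fun x hx => hmem₀ x hx
  exact eq_top_iff.mpr (hsub.ge.trans hle')

/-- A maximal weakly regular sequence inside `I` has length the `I`-depth. -/
theorem length_eq_idealDepth_of_maximal (I : Ideal R) (hIM : I • (⊤ : Submodule R M) ≠ ⊤)
    {rs : List R} (hreg : IsWeaklyRegular M rs) (hmem : ∀ r ∈ rs, r ∈ I)
    (hmax : ∀ r ∈ I, ¬ IsWeaklyRegular M (rs ++ [r])) :
    (rs.length : ℕ∞) = LocCoh.idealDepth I M := by
  rw [← idealDepth_quot_ofList_add_length I hreg hmem]
  have hIQ : I • (⊤ : Submodule R (M ⧸ (Ideal.ofList rs • ⊤ : Submodule R M))) ≠ ⊤ := by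
    intro h
    apply hIM
    have h2 := congrArg (Submodule.comap (Submodule.mkQ (Ideal.ofList rs • ⊤ : Submodule R M))) h
    rw [Submodule.comap_smul_top_of_surjective I _ (Submodule.mkQ_surjective _),
      Submodule.comap_top, Submodule.ker_mkQ] at h2
    have hle' : I • (⊤ : Submodule R M) ⊔ (Ideal.ofList rs • ⊤ : Submodule R M) ≤
        I • (⊤ : Submodule R M) := by
      refine sup_le le_rfl (Submodule.smul_mono_left ?_)
      rw [Ideal.ofList, Ideal.span_le]
      exact fun x hx => hmem x hx
    exact eq_top_iff.mpr (h2.ge.trans hle')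
  have : LocCoh.idealDepth I (M ⧸ (Ideal.ofList rs • ⊤ : Submodule R M)) = 0 := by
    rw [idealDepth_eq_zero_iff I hIQ]
    intro x hx hxreg
    refine hmax x hx ((isWeaklyRegular_append_iff M rs [x]).mpr ⟨hreg, ?_⟩)
    exact (isWeaklyRegular_singleton_iff _ x).mpr hxreg
  rw [this, zero_add]

/-- The `I`-depth of a finite module with `IM ≠ M` over a Noetherian ring is finite. -/
theorem idealDepth_ne_top (I : Ideal R) (hIM : I • (⊤ : Submodule R M) ≠ ⊤) :
    LocCoh.idealDepth I M ≠ ⊤ := by
  obtain ⟨rs, -, hreg, hmem, hmax⟩ := exists_maximal_isWeaklyRegular I hIM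
    (IsWeaklyRegular.nil R M) (by simp)
  rw [← length_eq_idealDepth_of_maximal I hIM hreg hmem hmax]
  exact ENat.natCast_ne_top _

end regularSequenceQuotient

section dimension

variable {R : Type u} [CommRing R]

/-- `dim R/p` is the coheight of `p` in the prime spectrum. -/
lemma ringKrullDim_quotient_eq_coheight (p : PrimeSpectrum R) :
    ringKrullDim (R ⧸ p.asIdeal) = Order.coheight p := by
  rw [ringKrullDim_quotient, Order.coheight_eq_krullDim_Ici]
  have : PrimeSpectrum.zeroLocus (p.asIdeal : Set R) = Set.Ici p := by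
    ext q
    rw [PrimeSpectrum.mem_zeroLocus, Set.mem_Ici, SetLike.coe_subset_coe,
      PrimeSpectrum.asIdeal_le_asIdeal]
  rw [this]

/-- For primes `p < q`, `dim R/q + 1 ≤ dim R/p`. -/
lemma ringKrullDim_quotient_add_one_le_of_lt {p q : Ideal R} [hp : p.IsPrime] [hq : q.IsPrime]
    (hpq : p < q) : ringKrullDim (R ⧸ q) + 1 ≤ ringKrullDim (R ⧸ p) := by
  have h1 := ringKrullDim_quotient_eq_coheight (⟨p, hp⟩ : PrimeSpectrum R)
  have h2 := ringKrullDim_quotient_eq_coheight (⟨q, hq⟩ : PrimeSpectrum R)
  simp only at h1 h2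
  rw [h1, h2]
  have hlt : (⟨p, hp⟩ : PrimeSpectrum R) < ⟨q, hq⟩ := hpq
  exact_mod_cast Order.coheight_add_one_le hlt

end dimension

section associatedPrimeQuot

variable {R : Type u} [CommRing R] [IsNoetherianRing R] {M : Type v} [AddCommGroup M]
  [Module R M] [Module.Finite R M]

open Pointwise in
/-- If `x` lies in the Jacobson radical and is `M`-regular, then every associated prime `p` of `M`
is strictly contained in an associated prime of `M/xM`. -/
theorem exists_associatedPrime_quotSMulTop_gt {x : R} (hx : x ∈ (⊥ : Ideal R).jacobson)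
    (hreg : IsSMulRegular M x) {p : Ideal R} (hp : p ∈ associatedPrimes R M) :
    ∃ q ∈ associatedPrimes R (QuotSMulTop x M), p < q := by
  obtain ⟨hpp, z₀, hz₀⟩ := isAssociatedPrime_iff.mp hp
  have hz₀ne : z₀ ≠ 0 := by
    rintro rfl
    apply hpp.ne_top
    rw [hz₀, eq_top_iff]
    intro a _
    simp [Submodule.mem_colon_singleton]
  let N : Submodule R M := Submodule.torsionBySet R M (p : Set R)
  have hz₀N : z₀ ∈ N := by
    rw [Submodule.mem_torsionBySet_iff]
    rintro ⟨a, ha⟩
    have : a ∈ (⊥ : Submodule R M).colon {z₀} := hz₀ ▸ ha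
    simpa [Submodule.mem_colon_singleton] using this
  -- some element of `N` is not in `xM`
  have hex : ∃ z ∈ N, z ∉ (x • (⊤ : Submodule R M)) := by
    by_contra hcon
    push Not at hcon
    have hNle : N ≤ Ideal.span {x} • N := by
      intro z hz
      obtain ⟨y, -, rfl⟩ := (Submodule.mem_smul_pointwise_iff_exists _ _ _).mp (hcon z hz)
      have hy : y ∈ N := by
        rw [Submodule.mem_torsionBySet_iff] at hz ⊢
        intro a
        have h1 := hz a
        rw [smul_comm] at h1
        exact hreg (by simpa using h1)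
      exact Submodule.smul_mem_smul (Ideal.mem_span_singleton_self x) hy
    have hNfg : N.FG := IsNoetherian.noetherian N
    have hjac : Ideal.span {x} ≤ (⊥ : Ideal R).jacobson := by
      rw [Ideal.span_le]
      simpa using hx
    have := Submodule.eq_bot_of_le_smul_of_le_jacobson_bot (Ideal.span {x}) N hNfg hNle hjac
    rw [this] at hz₀N
    exact hz₀ne (by simpa using hz₀N)
  obtain ⟨z, hzN, hzx⟩ := hex
  have hzbar : (Submodule.Quotient.mk z : QuotSMulTop x M) ≠ 0 := by
    rwa [Ne, Submodule.Quotient.mk_eq_zero]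
  obtain ⟨q, hq, hle⟩ := exists_le_isAssociatedPrime_of_isNoetherianRing R
    (Submodule.Quotient.mk z : QuotSMulTop x M) hzbar
  refine ⟨q, hq, lt_of_le_of_ne ?_ ?_⟩
  · intro a ha
    apply hle
    rw [Submodule.mem_colon_singleton, Submodule.mem_bot, ← Submodule.Quotient.mk_smul,
      Submodule.Quotient.mk_eq_zero]
    have := (Submodule.mem_torsionBySet_iff _ _).mp hzN ⟨a, ha⟩
    simp only at this
    rw [this]
    exact Submodule.zero_mem _
  · intro hpq
    have hxq : x ∈ q := by
      apply hle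
      rw [Submodule.mem_colon_singleton, Submodule.mem_bot, ← Submodule.Quotient.mk_smul,
        Submodule.Quotient.mk_eq_zero]
      exact Submodule.smul_mem_pointwise_smul z x ⊤ Submodule.mem_top
    rw [← hpq, hz₀] at hxq
    rw [Submodule.mem_colon_singleton, Submodule.mem_bot] at hxq
    exact hz₀ne (hreg (by simpa using hxq))

end associatedPrimeQuot

section depthLeDim

variable {R : Type u} [CommRing R] [IsLocalRing R] [IsNoetherianRing R] [Small.{v} R]

/-- Auxiliary inductive form of `depth_le_ringKrullDim_quotient`. -/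
theorem natCast_le_ringKrullDim_quotient_of_le_depth (n : ℕ) :
    ∀ (M : Type v) [AddCommGroup M] [Module R M] [Module.Finite R M],
      (n : ℕ∞) ≤ LocCoh.depth R M → ∀ p ∈ associatedPrimes R M,
        ((n : ℕ∞) : WithBot ℕ∞) ≤ ringKrullDim (R ⧸ p) := by
  induction n with
  | zero =>
    intro M _ _ _ _ p hp
    have : p.IsPrime := hp.isPrime
    exact_mod_cast ringKrullDim_nonneg_of_nontrivial
  | succ n ih =>
    intro M _ _ _ hn p hp
    have hpp : p.IsPrime := hp.isPrime
    have hMnt : Nontrivial M := by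
      by_contra hM
      rw [not_nontrivial_iff_subsingleton] at hM
      rw [associatedPrimes.eq_empty_of_subsingleton] at hp
      exact hp
    have hmM : IsLocalRing.maximalIdeal R • (⊤ : Submodule R M) ≠ ⊤ :=
      maximalIdeal_smul_top_ne_top
    obtain ⟨rs, hlen, hmem, hreg⟩ :=
      exists_isWeaklyRegular_of_le_idealDepth _ hmM (n + 1) hn
    obtain ⟨x, rs', rfl⟩ : ∃ x rs', rs = x :: rs' := by
      cases rs with
      | nil => simp at hlen
      | cons x rs' => exact ⟨x, rs', rfl⟩
    have hxm : x ∈ IsLocalRing.maximalIdeal R := hmem x List.mem_cons_self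
    have hxreg : IsSMulRegular M x := ((isWeaklyRegular_cons_iff M x rs').mp hreg).1
    have hdepth : (n : ℕ∞) ≤ LocCoh.depth R (QuotSMulTop x M) := by
      have h1 := idealDepth_quotSMulTop_add_one (IsLocalRing.maximalIdeal R) x hxm hxreg
      have h2 : ((n + 1 : ℕ) : ℕ∞) ≤ LocCoh.idealDepth (IsLocalRing.maximalIdeal R) M := hn
      rw [← h1] at h2
      push_cast at h2
      exact (ENat.add_le_add_iff_right (by simp)).mp h2
    have hxjac : x ∈ (⊥ : Ideal R).jacobson := by
      rw [IsLocalRing.jacobson_eq_maximalIdeal ⊥ bot_ne_top]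
      exact hxm
    obtain ⟨q, hq, hpq⟩ := exists_associatedPrime_quotSMulTop_gt hxjac hxreg hp
    have hqp : q.IsPrime := hq.isPrime
    have h3 := ih (QuotSMulTop x M) hdepth q hq
    have h4 := ringKrullDim_quotient_add_one_le_of_lt hpq
    refine le_trans ?_ h4
    push_cast
    have h3' : ((n : ℕ) : WithBot ℕ∞) ≤ ringKrullDim (R ⧸ q) := by exact_mod_cast h3
    gcongr

/-- Over a Noetherian local ring, `depth M ≤ dim R/p` for every associated prime `p` of the finite
module `M`. -/
theorem depth_le_ringKrullDim_quotient {M : Type v} [AddCommGroup M] [Module R M]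
    [Module.Finite R M] {p : Ideal R} (hp : p ∈ associatedPrimes R M) :
    ((LocCoh.depth R M : ℕ∞) : WithBot ℕ∞) ≤ ringKrullDim (R ⧸ p) := by
  have hMnt : Nontrivial M := by
    by_contra hM
    rw [not_nontrivial_iff_subsingleton] at hM
    rw [associatedPrimes.eq_empty_of_subsingleton] at hp
    exact hp
  have hne : LocCoh.depth R M ≠ ⊤ := idealDepth_ne_top _ maximalIdeal_smul_top_ne_top
  obtain ⟨n, hn⟩ := ENat.ne_top_iff_exists.mp hne
  rw [← hn]
  exact natCast_le_ringKrullDim_quotient_of_le_depth n M (by rw [← hn]) p hp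

end depthLeDim

end Groth.Agent.Lib.Helper4
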