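import Groth.Agent.Lib.Helper4.LC2
import Groth.Agent.Lib.Helper4.Depth2
import Mathlib.RingTheory.KrullDimension.Regular
import Mathlib.RingTheory.KrullDimension.NonZeroDivisors
import Mathlib.RingTheory.Ideal.AssociatedPrime.Finiteness

/-!
# Local cohomology: depth, Grothendieck vanishing (helper4)

* `HH.subsingleton_of_lt_idealDepth`, `HH.nontrivial_of_idealDepth_eq`: local cohomology detects
  depth;
* `HH.subsingleton_of_supportDim_lt_finite`: Grothendieck vanishing for finite modules;
* `ext_exists_fg_submodule`: classes in `Ext^i(N, M)` (`N` finite, `R` Noetherian) come from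
  finitely generated submodules of `M`;
* `HH.subsingleton_of_supportDim_lt`, `HH.subsingleton_of_ringKrullDim_lt`: Grothendieck vanishing
  for arbitrary modules.
-/

set_option autoImplicit false
set_option linter.style.haveILetI false
set_option linter.unusedSectionVars false
set_option maxHeartbeats 400000

open CategoryTheory Limits Opposite Abelian

universe u

namespace Groth.Agent.Lib.Helper4.LC

variable {R : Type u} [CommRing R] (I : Ideal R)

/-! ### generalities -/

section general

/-- a short complex of modules from an exact pair of linear maps. -/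
noncomputable abbrev sesOf {N₁ N₂ N₃ : Type u} [AddCommGroup N₁] [Module R N₁] [AddCommGroup N₂]
    [Module R N₂] [AddCommGroup N₃] [Module R N₃] (f : N₁ →ₗ[R] N₂) (g : N₂ →ₗ[R] N₃)
    (hfg : Function.Exact f g) : ShortComplex (ModuleCat.{u} R) :=
  ModuleCat.shortComplexOfCompEqZero f g (by ext x; simpa using hfg.apply_apply_eq_zero x)

lemma sesOf_shortExact {N₁ N₂ N₃ : Type u} [AddCommGroup N₁] [Module R N₁] [AddCommGroup N₂]
    [Module R N₂] [AddCommGroup N₃] [Module R N₃] (f : N₁ →ₗ[R] N₂) (g : N₂ →ₗ[R] N₃)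
    (hfg : Function.Exact f g) (hf : Function.Injective f) (hg : Function.Surjective g) :
    (sesOf f g hfg).ShortExact :=
  ModuleCat.shortComplex_shortExact _ hfg hf hg

lemma subsingleton_H_iff (M : Type u) [AddCommGroup M] [Module R M] (i : ℕ) :
    Subsingleton (LocCoh.H I i M) ↔ Subsingleton (HH I (ModuleCat.of R M) i) :=
  (lcEquiv I (ModuleCat.of R M) i).toEquiv.subsingleton_congr

lemma nontrivial_H_iff (M : Type u) [AddCommGroup M] [Module R M] (i : ℕ) :
    Nontrivial (LocCoh.H I i M) ↔ Nontrivial (HH I (ModuleCat.of R M) i) :=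
  (lcEquiv I (ModuleCat.of R M) i).toEquiv.nontrivial_congr

lemma HH.subsingleton_of_forall_eq_zero {M : ModuleCat.{u} R} {i : ℕ}
    (h : ∀ z : HH I M i, z = 0) : Subsingleton (HH I M i) :=
  ⟨fun a b => by rw [h a, h b]⟩

lemma smul_ext_Q_eq_zero (n : ℕ) {M : ModuleCat.{u} R} {j : ℕ} (y : Ext.{u} (Q I n) M j) (a : R)
    (ha : a ∈ I ^ n) : a • y = 0 := by
  refine ext_smul_eq_zero_of_mem_annihilator_left ?_ y
  show a ∈ Module.annihilator R (R ⧸ I ^ n)
  rw [Ideal.annihilator_quotient]
  exact ha

lemma HH.exists_pow_smul_eq_zero {M : ModuleCat.{u} R} {j : ℕ} (x : R) (hx : x ∈ I)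
    (z : HH I M j) : ∃ n : ℕ, x ^ n • z = 0 := by
  obtain ⟨n, y, rfl⟩ := HH.exists_of I M j z
  refine ⟨n, ?_⟩
  rw [← map_smul, smul_ext_Q_eq_zero I n y (x ^ n) (Ideal.pow_mem_pow hx n), map_zero]

lemma HH.subsingleton_of_smul_injective {M : ModuleCat.{u} R} {j : ℕ} (x : R) (hx : x ∈ I)
    (hinj : Function.Injective (fun z : HH I M j => x • z)) : Subsingleton (HH I M j) := by
  apply HH.subsingleton_of_forall_eq_zero
  intro z
  obtain ⟨n, hn⟩ := HH.exists_pow_smul_eq_zero I x hx z
  induction n with
  | zero => simpa using hn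
  | succ n ih =>
    apply ih
    apply hinj
    show x • (x ^ n • z) = x • 0
    rw [smul_zero, ← mul_smul, ← pow_succ', hn]

lemma withBot_lt_of_add_one_le (a : WithBot ℕ∞) (d : ℕ) (h : a + 1 ≤ (d : WithBot ℕ∞)) :
    a < (d : WithBot ℕ∞) := by
  induction a with
  | bot => exact WithBot.bot_lt_coe (d : ℕ∞)
  | coe a =>
    induction a with
    | top =>
      exfalso
      have h1 : (((⊤ : ℕ∞) + 1 : ℕ∞) : WithBot ℕ∞) ≤ ((d : ℕ∞) : WithBot ℕ∞) := by
        exact_mod_cast h
      rw [WithBot.coe_le_coe, top_add, top_le_iff] at h1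
      exact ENat.natCast_ne_top _ h1
    | coe a =>
      have h1 : ((a + 1 : ℕ) : WithBot ℕ∞) ≤ ((d : ℕ) : WithBot ℕ∞) := by exact_mod_cast h
      have h2 : a + 1 ≤ d := by exact_mod_cast h1
      exact_mod_cast (by omega : a < d)

lemma withBot_lt_of_add_one_le_of_lt (a b : WithBot ℕ∞) (i : ℕ) (h1 : a + 1 ≤ b)
    (h2 : b < ((i + 1 : ℕ) : WithBot ℕ∞)) : a < (i : WithBot ℕ∞) := by
  have h3 : a + 1 < ((i + 1 : ℕ) : WithBot ℕ∞) := lt_of_le_of_lt h1 h2
  induction a with
  | bot => exact WithBot.bot_lt_coe (i : ℕ∞)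
  | coe a =>
    induction a with
    | top =>
      exfalso
      have h4 : (((⊤ : ℕ∞) + 1 : ℕ∞) : WithBot ℕ∞) < (((i + 1 : ℕ) : ℕ∞) : WithBot ℕ∞) := by
        exact_mod_cast h3
      rw [WithBot.coe_lt_coe, top_add] at h4
      exact not_top_lt h4
    | coe a =>
      have h4 : ((a + 1 : ℕ) : WithBot ℕ∞) < ((i + 1 : ℕ) : WithBot ℕ∞) := by exact_mod_cast h3
      have h5 : a + 1 < i + 1 := by exact_mod_cast h4
      exact_mod_cast (by omega : a < i)

lemma withBot_eq_bot_of_lt_zero (a : WithBot ℕ∞) (h : a < ((0 : ℕ) : WithBot ℕ∞)) : a = ⊥ := by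
  induction a with
  | bot => rfl
  | coe a =>
    exfalso
    have h1 : (a : WithBot ℕ∞) < ((0 : ℕ∞) : WithBot ℕ∞) := by exact_mod_cast h
    rw [WithBot.coe_lt_coe] at h1
    exact lt_irrefl _ (lt_of_lt_of_le h1 zero_le)

end general

/-! ### depth -/

section depth

variable [IsNoetherianRing R]

lemma support_Q_subset (n : ℕ) :
    Module.support R (R ⧸ I ^ n) ⊆ PrimeSpectrum.zeroLocus (I : Set R) := by
  intro p hp
  rw [Module.support_eq_zeroLocus, Ideal.annihilator_quotient, PrimeSpectrum.mem_zeroLocus] at hp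
  rw [PrimeSpectrum.mem_zeroLocus]
  exact Ideal.IsPrime.le_of_pow_le (show I ^ n ≤ p.asIdeal from hp)

/-- local cohomology vanishes below the depth. -/
theorem HH.subsingleton_of_lt_idealDepth (M : Type u) [AddCommGroup M] [Module R M]
    [Module.Finite R M] (i : ℕ) (hi : (i : ℕ∞) < LocCoh.idealDepth I M) :
    Subsingleton (HH I (ModuleCat.of R M) i) := by
  have h : ∀ n : ℕ, Subsingleton (Ext.{u} (Q I n) (ModuleCat.of R M) i) := fun n =>
    subsingleton_ext_of_lt_idealDepth I (Q I n) (support_Q_subset I n) (ModuleCat.of R M) i hi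
  apply HH.subsingleton_of_forall_eq_zero
  intro z
  obtain ⟨n, y, rfl⟩ := HH.exists_of I (ModuleCat.of R M) i z
  rw [Subsingleton.elim y 0, map_zero]

/-- local cohomology does not vanish at the depth. -/
theorem HH.nontrivial_of_idealDepth_eq : ∀ (d : ℕ) (M : Type u) [AddCommGroup M] [Module R M]
    [Module.Finite R M] (_ : I • (⊤ : Submodule R M) ≠ ⊤) (_ : LocCoh.idealDepth I M = d),
    Nontrivial (HH I (ModuleCat.of R M) d) := by
  intro d
  induction d with
  | zero =>
    intro M _ _ _ hIM hd
    have hd0 : LocCoh.idealDepth I M = 0 := by simpa using hd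
    obtain ⟨p, hp, hIp⟩ := (idealDepth_eq_zero_iff_exists_le_associatedPrime I hIM).1 hd0
    obtain ⟨hpp, x, hx⟩ := isAssociatedPrime_iff.1 (AssociatedPrimes.mem_iff.1 hp)
    by_contra hnt
    rw [not_nontrivial_iff_subsingleton] at hnt
    have hbot : DRing.torsionSub I M = ⊥ := (HH0_subsingleton_iff I (ModuleCat.of R M)).1 hnt
    have hxt : x ∈ DRing.torsionSub I M := by
      refine ⟨1, fun a ha => ?_⟩
      rw [pow_one] at ha
      have h1 : a ∈ Submodule.colon (⊥ : Submodule R M) {x} := hx ▸ hIp ha
      rw [Submodule.mem_colon_singleton] at h1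
      exact (Submodule.mem_bot R).1 h1
    rw [hbot, Submodule.mem_bot] at hxt
    apply hpp.ne_top
    rw [hx, hxt, Ideal.eq_top_iff_one, Submodule.mem_colon_singleton, smul_zero]
    exact Submodule.zero_mem _
  | succ d ih =>
    intro M _ _ _ hIM hd
    have h1 : 1 ≤ LocCoh.idealDepth I M := by
      rw [hd]
      exact_mod_cast Nat.succ_le_succ (Nat.zero_le d)
    obtain ⟨x, hxI, hreg⟩ := (one_le_idealDepth_iff I hIM).1 h1
    have hQ : LocCoh.idealDepth I (QuotSMulTop x M) = d := by
      have h0 := idealDepth_quotSMulTop_add_one I x hxI hreg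
      rw [hd] at h0
      have hne : LocCoh.idealDepth I (QuotSMulTop x M) ≠ ⊤ := by
        intro htop
        rw [htop, top_add] at h0
        exact ENat.natCast_ne_top (d + 1) h0.symm
      obtain ⟨a, ha⟩ := ENat.ne_top_iff_exists.1 hne
      rw [← ha] at h0 ⊢
      have h2 : a + 1 = d + 1 := by exact_mod_cast h0
      have h3 : a = d := by omega
      rw [h3]
    have hIQ := smul_top_quotSMulTop_ne_top I hxI hIM
    have hnt : Nontrivial (HH I (ModuleCat.of R (QuotSMulTop x M)) d) :=
      ih (QuotSMulTop x M) hIQ hQ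
    have hS : (ModuleCat.smulShortComplex (ModuleCat.of R M) x).ShortExact :=
      IsSMulRegular.smulShortComplex_shortExact (M := ModuleCat.of R M) hreg
    have h2 : Subsingleton (HH I (ModuleCat.smulShortComplex (ModuleCat.of R M) x).X₂ d) :=
      HH.subsingleton_of_lt_idealDepth I M d (by rw [hd]; exact_mod_cast Nat.lt_succ_self d)
    have hinj := HH.δ_injective I hS d h2
    haveI : Nontrivial (HH I (ModuleCat.smulShortComplex (ModuleCat.of R M) x).X₃ d) := hnt
    exact hinj.nontrivial

end depth

/-! ### Grothendieck vanishing, finite modules -/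

section grothendieck

variable [IsNoetherianRing R]

lemma HH.subsingleton_of_subsingleton (N : Type u) [AddCommGroup N] [Module R N] [Subsingleton N]
    (i : ℕ) : Subsingleton (HH I (ModuleCat.of R N) i) := by
  cases i with
  | zero => exact (HH0_injective I (ModuleCat.of R N)).subsingleton
  | succ i =>
    exact HH.subsingleton_of_isPowerTorsion I i N
      (fun m => ⟨0, fun a _ => by rw [Subsingleton.elim m 0, smul_zero]⟩)

/-- **Grothendieck vanishing** for finite modules. -/
theorem HH.subsingleton_of_supportDim_lt_finite (i : ℕ) : ∀ (N : Type u) [AddCommGroup N]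
    [Module R N] [Module.Finite R N], Module.supportDim R N < (i : WithBot ℕ∞) →
    Subsingleton (HH I (ModuleCat.of R N) i) := by
  induction i with
  | zero =>
    intro N _ _ _ h
    have hN : Subsingleton N :=
      (Module.supportDim_eq_bot_iff_subsingleton R N).1 (withBot_eq_bot_of_lt_zero _ h)
    exact HH.subsingleton_of_subsingleton I N 0
  | succ i ih =>
    intro N _ _ hfin
    refine IsNoetherianRing.induction_on_isQuotientEquivQuotientPrime R hfin
      (motive := fun (N : Type u) [AddCommGroup N] [Module R N] [Module.Finite R N] =>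
        Module.supportDim R N < ((i + 1 : ℕ) : WithBot ℕ∞) →
          Subsingleton (HH I (ModuleCat.of R N) (i + 1))) ?_ ?_ ?_
    · intro N _ _ _ _ _
      exact HH.subsingleton_of_subsingleton I N (i + 1)
    · intro N _ _ _ p e h
      by_cases hIp : I ≤ p.asIdeal
      · refine HH.subsingleton_of_isPowerTorsion I i N (fun m => ⟨1, fun a ha => ?_⟩)
        rw [pow_one] at ha
        apply e.injective
        rw [map_smul, map_zero]
        generalize e m = y
        obtain ⟨r, rfl⟩ := Submodule.Quotient.mk_surjective _ y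
        rw [← Submodule.Quotient.mk_smul, Submodule.Quotient.mk_eq_zero]
        exact Ideal.mul_mem_right _ _ (hIp ha)
      · obtain ⟨x, hxI, hxp⟩ := SetLike.not_le_iff_exists.1 hIp
        have hreg : IsSMulRegular N x := by
          intro m m' hmm
          have hmm' : x • m = x • m' := hmm
          apply e.injective
          have h1 : x • e m = x • e m' := by rw [← map_smul, ← map_smul, hmm']
          generalize e m = y at h1 ⊢
          generalize e m' = y' at h1 ⊢
          obtain ⟨r, rfl⟩ := Submodule.Quotient.mk_surjective _ y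
          obtain ⟨r', rfl⟩ := Submodule.Quotient.mk_surjective _ y'
          rw [← Submodule.Quotient.mk_smul, ← Submodule.Quotient.mk_smul,
            Submodule.Quotient.eq] at h1
          rw [Submodule.Quotient.eq]
          have h2 : x * (r - r') ∈ p.asIdeal := by rw [mul_sub]; exact h1
          exact (p.isPrime.mem_or_mem h2).resolve_left hxp
        have hS := IsSMulRegular.smulShortComplex_shortExact (M := ModuleCat.of R N) hreg
        have hdim : Module.supportDim R (QuotSMulTop x N) < (i : WithBot ℕ∞) := by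
          refine withBot_lt_of_add_one_le_of_lt _ _ i
            (Module.supportDim_quotSMulTop_succ_le_of_notMem_minimalPrimes ?_) h
          intro q hq
          rw [e.annihilator_eq, Ideal.annihilator_quotient,
            Ideal.minimalPrimes_eq_subsingleton_self, Set.mem_singleton_iff] at hq
          rw [hq]
          exact hxp
        have h3 : Subsingleton (HH I (ModuleCat.smulShortComplex (ModuleCat.of R N) x).X₃ i) :=
          ih (QuotSMulTop x N) hdim
        have hinj := HH.map_f_injective_succ I hS i h3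
        refine HH.subsingleton_of_smul_injective I x hxI (fun a b hab => hinj ?_)
        show HH.map I (x • 𝟙 (ModuleCat.of R N)) (i + 1) a =
          HH.map I (x • 𝟙 (ModuleCat.of R N)) (i + 1) b
        rw [← HH.smul_eq_map, ← HH.smul_eq_map]
        exact hab
    · intro N₁ _ _ _ N₂ _ _ _ N₃ _ _ _ f g hf hg hfg h1 h3 h
      have d1 := lt_of_le_of_lt (Module.supportDim_le_of_injective f hf) h
      have d3 := lt_of_le_of_lt (Module.supportDim_le_of_surjective g hg) h
      exact HH.subsingleton_X₂ I (sesOf_shortExact f g hfg hf hg) (i + 1) (h1 d1) (h3 d3)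

end grothendieck

end Groth.Agent.Lib.Helper4.LC
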