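import Groth.Agent.Lib.Helper4.LC6

/-!
# Artinianness of local cohomology (Melkersson's lemma and applications)
-/

set_option autoImplicit false
set_option linter.style.haveILetI false
set_option linter.unusedSectionVars false
set_option maxHeartbeats 400000

open CategoryTheory Limits Opposite Abelian

universe u

namespace Groth.Agent.Lib.Helper4.LC

variable {R : Type u} [CommRing R]

section melkersson

variable {H : Type*} [AddCommGroup H] [Module R H]

lemma antitone_stabilizes_inf (K : Submodule R H) [IsArtinian R K] (f : ℕ → Submodule R H)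
    (hf : Antitone f) : ∃ n, ∀ m, n ≤ m → K ⊓ f n = K ⊓ f m := by
  let g : ℕ →o (Submodule R K)ᵒᵈ :=
    ⟨fun n => OrderDual.toDual ((f n).comap K.subtype),
      fun a b hab => OrderDual.toDual_le_toDual.mpr (Submodule.comap_mono (hf hab))⟩
  obtain ⟨n, hn⟩ := IsArtinian.monotone_stabilizes g
  refine ⟨n, fun m hm => ?_⟩
  have h1 : (f n).comap K.subtype = (f m).comap K.subtype := hn m hm
  rw [← Submodule.map_comap_subtype, ← Submodule.map_comap_subtype, h1]

/-- **Melkersson's lemma**: an `x`-torsion module whose `x`-socle `(0 :_H x)` is Artinian is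
Artinian. -/
theorem isArtinian_of_torsion_of_ker (x : R) (htors : ∀ h : H, ∃ n : ℕ, x ^ n • h = 0)
    (hK : IsArtinian R (LinearMap.ker (LinearMap.lsmul R H x))) : IsArtinian R H := by
  rw [← monotone_stabilizes_iff_artinian]
  intro L
  set K : Submodule R H := LinearMap.ker (LinearMap.lsmul R H x) with hKdef
  have hmemK : ∀ z : H, z ∈ K ↔ x • z = 0 := fun z => by
    rw [hKdef, LinearMap.mem_ker, LinearMap.lsmul_apply]
  let L' : ℕ → Submodule R H := fun k => OrderDual.ofDual (L k)
  have hL' : Antitone L' := fun a b hab => L.monotone hab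
  let P : ℕ → ℕ → Submodule R H := fun j k => (L' k).map (LinearMap.lsmul R H (x ^ j))
  have hmemP : ∀ j k (y : H), y ∈ P j k ↔ ∃ l ∈ L' k, x ^ j • l = y := fun j k y => by
    simp only [P, Submodule.mem_map, LinearMap.lsmul_apply]
  have hPk : ∀ j, Antitone (P j) := fun j a b hab => Submodule.map_mono (hL' hab)
  have hPj : ∀ k a b, a ≤ b → P b k ≤ P a k := by
    intro k a b hab y hy
    rw [hmemP] at hy ⊢
    obtain ⟨l, hl, rfl⟩ := hy
    refine ⟨x ^ (b - a) • l, (L' k).smul_mem _ hl, ?_⟩
    rw [smul_smul, ← pow_add, Nat.add_sub_cancel' hab]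
  have hD : Antitone (fun n => P n n) := fun a b hab =>
    le_trans (hPj b a b hab) (hPk a hab)
  obtain ⟨N, hN⟩ := antitone_stabilizes_inf K (fun n => P n n) hD
  have hNN : ∀ j k, N ≤ j → N ≤ k → K ⊓ P j k = K ⊓ P N N := by
    intro j k hj hk
    refine le_antisymm (inf_le_inf_left _ (le_trans (hPj k N j hj) (hPk N hk))) ?_
    have h2 : K ⊓ P N N = K ⊓ P (max j k) (max j k) :=
      hN (max j k) (le_trans hj (le_max_left j k))
    rw [h2]
    exact inf_le_inf_left _
      (le_trans (hPj (max j k) j (max j k) (le_max_left j k)) (hPk j (le_max_right j k)))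
  choose Kf hKf using fun j => antitone_stabilizes_inf K (P j) (hPk j)
  let K₁ : ℕ := max N ((Finset.range N).sup Kf)
  have hK₁N : N ≤ K₁ := le_max_left _ _
  have hK₁f : ∀ j, j < N → Kf j ≤ K₁ := fun j hj =>
    le_trans (Finset.le_sup (f := Kf) (Finset.mem_range.mpr hj)) (le_max_right _ _)
  have hB : ∀ j k, K₁ ≤ k → K ⊓ P j k = K ⊓ P j K₁ := by
    intro j k hk
    by_cases hj : j < N
    · rw [← hKf j k (le_trans (hK₁f j hj) hk), ← hKf j K₁ (hK₁f j hj)]
    · push_neg at hj
      rw [hNN j k hj (le_trans hK₁N hk), hNN j K₁ hj hK₁N]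
  have hS : ∀ (s : ℕ) (j : ℕ) (y : H), y ∈ P j K₁ → x ^ s • y = 0 →
      ∀ k, K₁ ≤ k → y ∈ P j k := by
    intro s
    induction s with
    | zero =>
      intro j y _ hy k _
      rw [pow_zero, one_smul] at hy
      rw [hy]
      exact (P j k).zero_mem
    | succ s ih =>
      intro j y hyP hy k hk
      have h1 : x • y ∈ P (j + 1) K₁ := by
        rw [hmemP] at hyP ⊢
        obtain ⟨l, hl, rfl⟩ := hyP
        exact ⟨l, hl, by rw [pow_succ', mul_smul]⟩
      have h2 : x ^ s • (x • y) = 0 := by rw [smul_smul, ← pow_succ]; exact hy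
      have h3 := ih (j + 1) (x • y) h1 h2 k hk
      rw [hmemP] at h3
      obtain ⟨l', hl', hl'eq⟩ := h3
      have h4 : x ^ j • l' ∈ P j k := (hmemP j k _).2 ⟨l', hl', rfl⟩
      have h5 : y - x ^ j • l' ∈ K ⊓ P j K₁ := by
        refine Submodule.mem_inf.2 ⟨(hmemK _).2 ?_, (P j K₁).sub_mem hyP (hPk j hk h4)⟩
        rw [smul_sub, smul_smul, ← pow_succ', hl'eq, sub_self]
      rw [← hB j k hk] at h5
      have h6 := (P j k).add_mem (Submodule.mem_inf.1 h5).2 h4
      rwa [sub_add_cancel] at h6
  refine ⟨K₁, fun m hm => OrderDual.ofDual.injective ?_⟩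
  show L' K₁ = L' m
  refine le_antisymm (fun y hy => ?_) (hL' hm)
  obtain ⟨s, hs⟩ := htors y
  have h1 : y ∈ P 0 K₁ := (hmemP 0 K₁ y).2 ⟨y, hy, by rw [pow_zero, one_smul]⟩
  have h2 := hS s 0 y h1 hs m hm
  rw [hmemP] at h2
  obtain ⟨l, hl, hl2⟩ := h2
  rw [pow_zero, one_smul] at hl2
  rw [← hl2]
  exact hl

end melkersson

lemma withBot_le_of_add_one_le_succ (a : WithBot ℕ∞) (i : ℕ)
    (h : a + 1 ≤ ((i + 1 : ℕ) : WithBot ℕ∞)) : a ≤ (i : WithBot ℕ∞) := by
  induction a with
  | bot => exact bot_le
  | coe a =>
    induction a with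
    | top =>
      exfalso
      have h1 : (((⊤ : ℕ∞) + 1 : ℕ∞) : WithBot ℕ∞) ≤ (((i + 1 : ℕ) : ℕ∞) : WithBot ℕ∞) := by
        exact_mod_cast h
      rw [WithBot.coe_le_coe, top_add, top_le_iff] at h1
      exact ENat.natCast_ne_top _ h1
    | coe a =>
      have h1 : ((a + 1 : ℕ) : WithBot ℕ∞) ≤ ((i + 1 : ℕ) : WithBot ℕ∞) := by exact_mod_cast h
      have h2 : a + 1 ≤ i + 1 := by exact_mod_cast h1
      exact_mod_cast (by omega : a ≤ i)

section artinianFinite

variable [IsNoetherianRing R] [IsLocalRing R]

lemma isArtinian_residue : IsArtinian R (R ⧸ IsLocalRing.maximalIdeal R) := by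
  letI : Field (R ⧸ IsLocalRing.maximalIdeal R) := Ideal.Quotient.field _
  exact isArtinian_of_surjective_algebraMap (R := R ⧸ IsLocalRing.maximalIdeal R)
    (M := R ⧸ IsLocalRing.maximalIdeal R) (S := R) Ideal.Quotient.mk_surjective

/-- a finite module over a Noetherian local ring which is `𝔪`-power torsion or of dimension `≤ 0`
is Artinian. -/
theorem isArtinian_of_finite_of_torsion_or_dim (N : Type u) [AddCommGroup N] [Module R N]
    [hfin : Module.Finite R N]
    (h : LocCoh.IsPowerTorsion (IsLocalRing.maximalIdeal R) N ∨ Module.supportDim R N ≤ 0) :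
    IsArtinian R N := by
  revert h
  refine IsNoetherianRing.induction_on_isQuotientEquivQuotientPrime R hfin
    (motive := fun (N : Type u) [AddCommGroup N] [Module R N] [Module.Finite R N] =>
      (LocCoh.IsPowerTorsion (IsLocalRing.maximalIdeal R) N ∨ Module.supportDim R N ≤ 0) →
        IsArtinian R N) ?_ ?_ ?_
  · intro N _ _ _ _ _
    exact isArtinian_of_finite
  · intro N _ _ _ p e h
    have hmp : IsLocalRing.maximalIdeal R ≤ p.asIdeal := by
      rcases h with h | h
      · intro a ha
        obtain ⟨k, hk⟩ := h (e.symm 1)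
        have h1 := hk (a ^ k) (Ideal.pow_mem_pow ha k)
        have h2 : a ^ k • (1 : R ⧸ p.asIdeal) = 0 := by
          have := congrArg e h1
          rwa [map_smul, map_zero, LinearEquiv.apply_symm_apply] at this
        have h2' : (Submodule.Quotient.mk (a ^ k • (1 : R)) : R ⧸ p.asIdeal) = 0 := h2
        rw [Submodule.Quotient.mk_eq_zero, smul_eq_mul, mul_one] at h2'
        exact p.isPrime.mem_of_pow_mem k h2'
      · haveI : Nontrivial N := e.toEquiv.nontrivial
        have hne := Module.supportDim_ne_bot_of_nontrivial R N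
        have h0 : Module.supportDim R N = 0 := by
          revert h hne
          generalize Module.supportDim R N = d
          intro h hne
          induction d with
          | bot => exact absurd rfl hne
          | coe d =>
            have h1 : d ≤ 0 := by exact_mod_cast h
            have h2 : d = 0 := nonpos_iff_eq_zero.1 h1
            rw [h2]
            rfl
        have hp : p ∈ Module.support R N :=
          Module.mem_support_iff_of_finite.2
            (by rw [e.annihilator_eq, Ideal.annihilator_quotient])
        rw [support_of_supportDim_eq_zero R N h0, PrimeSpectrum.mem_zeroLocus] at hp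
        exact SetLike.coe_subset_coe.1 hp
    have hpm : p.asIdeal = IsLocalRing.maximalIdeal R :=
      le_antisymm (IsLocalRing.le_maximalIdeal p.isPrime.ne_top) hmp
    haveI : IsArtinian R (R ⧸ p.asIdeal) := by
      rw [hpm]
      exact isArtinian_residue
    exact isArtinian_of_linearEquiv e.symm
  · intro N₁ _ _ _ N₂ _ _ _ N₃ _ _ _ f g hf hg hfg h1 h3 h
    haveI : IsArtinian R N₁ :=
      h1 (h.imp (isPowerTorsion_of_injective (IsLocalRing.maximalIdeal R) f hf)
        (le_trans (Module.supportDim_le_of_injective f hf)))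
    haveI : IsArtinian R N₃ :=
      h3 (h.imp (isPowerTorsion_of_surjective (IsLocalRing.maximalIdeal R) g hg)
        (le_trans (Module.supportDim_le_of_surjective g hg)))
    exact isArtinian_of_range_eq_ker f g (LinearMap.exact_iff.mp hfg).symm

/-- Local cohomology `H^i_𝔞(N)` of a finite module over a Noetherian local ring is Artinian when
`𝔞 = 𝔪`, or when `dim N ≤ i`. -/
theorem HH.isArtinian_aux (a : Ideal R) (i : ℕ) : ∀ (N : Type u) [AddCommGroup N] [Module R N]
    [Module.Finite R N],
    (a = IsLocalRing.maximalIdeal R ∨ Module.supportDim R N ≤ (i : WithBot ℕ∞)) →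
      IsArtinian R (HH a (ModuleCat.of R N) i) := by
  induction i with
  | zero =>
    intro N _ _ _ h
    haveI : IsNoetherian R N := isNoetherian_of_isNoetherianRing_of_finite R N
    haveI hT : IsArtinian R (DRing.torsionSub a N) := by
      rcases h with h | h
      · subst h
        exact isArtinian_of_finite_of_torsion_or_dim _
          (Or.inl (isPowerTorsion_torsionSub _ N))
      · haveI := isArtinian_of_finite_of_torsion_or_dim N (Or.inr (by exact_mod_cast h))
        infer_instance
    exact isArtinian_of_linearEquiv (HH0Equiv a (ModuleCat.of R N)).symm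
  | succ i ih =>
    intro N _ _ hfin
    refine IsNoetherianRing.induction_on_isQuotientEquivQuotientPrime R hfin
      (motive := fun (N : Type u) [AddCommGroup N] [Module R N] [Module.Finite R N] =>
        (a = IsLocalRing.maximalIdeal R ∨
          Module.supportDim R N ≤ ((i + 1 : ℕ) : WithBot ℕ∞)) →
          IsArtinian R (HH a (ModuleCat.of R N) (i + 1))) ?_ ?_ ?_
    · intro N _ _ _ _ _
      haveI := HH.subsingleton_of_subsingleton a N (i + 1)
      exact isArtinian_of_finite
    · intro N _ _ _ p e h
      by_cases hIp : a ≤ p.asIdeal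
      · haveI : Subsingleton (HH a (ModuleCat.of R N) (i + 1)) := by
          refine HH.subsingleton_of_isPowerTorsion a i N (fun m => ⟨1, fun b hb => ?_⟩)
          rw [pow_one] at hb
          apply e.injective
          rw [map_smul, map_zero]
          generalize e m = y
          obtain ⟨r, rfl⟩ := Submodule.Quotient.mk_surjective _ y
          rw [← Submodule.Quotient.mk_smul, Submodule.Quotient.mk_eq_zero]
          exact Ideal.mul_mem_right _ _ (hIp hb)
        exact isArtinian_of_finite
      · obtain ⟨x, hxI, hxp⟩ := SetLike.not_le_iff_exists.1 hIp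
        have hreg : IsSMulRegular N x := by
          intro m m' hmm
          have hmm' : x • m = x • m' := hmm
          apply e.injective
          have h1 : x • e m = x • e m' := by rw [← map_smul, ← map_smul, hmm']
          generalize e m = y at h1 ⊢
          generalize e m' = y' at h1 ⊢
          obtain ⟨r, rfl⟩ := Submodule.Quotient.mk_surjective _ y
          obtain ⟨r', rfl⟩ := Submodule.Quotient.mk_surjective _ y'
          rw [← Submodule.Quotient.mk_smul, ← Submodule.Quotient.mk_smul,
            Submodule.Quotient.eq] at h1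
          rw [Submodule.Quotient.eq]
          have h2 : x * (r - r') ∈ p.asIdeal := by rw [mul_sub]; exact h1
          exact (p.isPrime.mem_or_mem h2).resolve_left hxp
        have hS := IsSMulRegular.smulShortComplex_shortExact (M := ModuleCat.of R N) hreg
        have hdim : a = IsLocalRing.maximalIdeal R ∨
            Module.supportDim R (QuotSMulTop x N) ≤ (i : WithBot ℕ∞) := by
          refine h.imp id (fun h' => ?_)
          have h1 : Module.supportDim R (QuotSMulTop x N) + 1 ≤ Module.supportDim R N :=
            Module.supportDim_quotSMulTop_succ_le_of_notMem_minimalPrimes (by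
              intro q hq
              rw [e.annihilator_eq, Ideal.annihilator_quotient,
                Ideal.minimalPrimes_eq_subsingleton_self, Set.mem_singleton_iff] at hq
              rw [hq]
              exact hxp)
          exact withBot_le_of_add_one_le_succ _ i (le_trans h1 h')
        haveI h3 : IsArtinian R
            (HH a (ModuleCat.smulShortComplex (ModuleCat.of R N) x).X₃ i) :=
          ih (QuotSMulTop x N) hdim
        show IsArtinian R (HH a (ModuleCat.smulShortComplex (ModuleCat.of R N) x).X₁ (i + 1))
        refine isArtinian_of_torsion_of_ker x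
          (fun z => HH.exists_pow_smul_eq_zero a x hxI z) ?_
        have hK : LinearMap.range (HH.δ a hS i) = LinearMap.ker (LinearMap.lsmul R
            (HH a (ModuleCat.smulShortComplex (ModuleCat.of R N) x).X₁ (i + 1)) x) := by
          ext z
          constructor
          · rintro ⟨w, rfl⟩
            exact LinearMap.mem_ker.2
              ((HH.smul_eq_map a (i + 1) x _).trans (HH.map_f_δ a hS i w))
          · intro hz
            have hz' : x • z = 0 := hz
            refine LinearMap.mem_range.2 (HH.exact₁ a hS i z ?_)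
            exact (HH.smul_eq_map a (i + 1) x z).symm.trans hz'
        haveI hr : IsArtinian R (LinearMap.range (HH.δ a hS i)) := inferInstance
        exact isArtinian_of_linearEquiv (LinearEquiv.ofEq _ _ hK)
    · intro N₁ _ _ _ N₂ _ _ _ N₃ _ _ _ f g hf hg hfg h1 h3 h
      have hS := sesOf_shortExact f g hfg hf hg
      haveI h1' : IsArtinian R (HH a (sesOf f g hfg).X₁ (i + 1)) :=
        h1 (h.imp id (le_trans (Module.supportDim_le_of_injective f hf)))
      haveI h3' : IsArtinian R (HH a (sesOf f g hfg).X₃ (i + 1)) :=
        h3 (h.imp id (le_trans (Module.supportDim_le_of_surjective g hg)))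
      have hr : LinearMap.range (HH.map a (sesOf f g hfg).f (i + 1)) =
          LinearMap.ker (HH.map a (sesOf f g hfg).g (i + 1)) := by
        ext z
        rw [LinearMap.mem_range, LinearMap.mem_ker]
        constructor
        · rintro ⟨w, rfl⟩
          exact HH.map_g_map_f a (S := sesOf f g hfg) (i + 1) w
        · intro hz
          exact HH.exact₂ a hS (i + 1) z hz
      exact isArtinian_of_range_eq_ker _ _ hr

end artinianFinite

end Groth.Agent.Lib.Helper4.LC
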