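import Mathlib

/-!
# Bridge between Mathlib's two `Ext`s, and a direct-limit model of local cohomology

* `ModCx`: explicit classes in the homology of a complex of modules.
* `extBridge X Y n : ((Ext R C n).obj (op X)).obj Y ≃ₗ[R] Abelian.Ext X Y n`, natural in both variables
  (`extBridge_map_right`, `extBridge_map_left`).
* `HH I i M`: the direct limit of `Abelian.Ext (R ⧸ I ^ n) M i`, and
  `lcEquiv I i M : (localCohomology I i).obj M ≃ₗ[R] HH I i M`, natural in `M` (`lcEquiv_map`).
-/

set_option autoImplicit false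
set_option linter.style.haveILetI false
set_option linter.unusedSectionVars false
set_option linter.unusedVariables false

open CategoryTheory Limits Opposite

universe u v w w'

namespace Groth.Agent.Lib.Helper4.LCBridge

/-! ### Generalities -/

section LinAlg

variable {R : Type*} [Ring R] {M A B : Type*} [AddCommGroup M] [Module R M] [AddCommGroup A]
  [Module R A] [AddCommGroup B] [Module R B]

/-- Two surjections with the same kernel have isomorphic targets. -/
noncomputable def equivOfSurjOfKerEq (f : M →ₗ[R] A) (g : M →ₗ[R] B) (hf : Function.Surjective f)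
    (hg : Function.Surjective g) (h : LinearMap.ker f = LinearMap.ker g) : A ≃ₗ[R] B :=
  (f.quotKerEquivOfSurjective hf).symm ≪≫ₗ Submodule.quotEquivOfEq _ _ h ≪≫ₗ
    g.quotKerEquivOfSurjective hg

lemma equivOfSurjOfKerEq_apply (f : M →ₗ[R] A) (g : M →ₗ[R] B) (hf : Function.Surjective f)
    (hg : Function.Surjective g) (h : LinearMap.ker f = LinearMap.ker g) (m : M) :
    equivOfSurjOfKerEq f g hf hg h (f m) = g m := by
  simp only [equivOfSurjOfKerEq, LinearEquiv.trans_apply,
    LinearMap.quotKerEquivOfSurjective_symm_apply, Submodule.quotEquivOfEq_mk,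
    LinearMap.quotKerEquivOfSurjective_apply_mk]

end LinAlg

section Unop

variable {ι : Type*} {c : ComplexShape ι} {D : Type*} [Category D] [Abelian D]

/-- unop of a morphism of complexes in the opposite category. -/
abbrev unopHom {L' L : HomologicalComplex Dᵒᵖ c} (α : L' ⟶ L) : L.unop ⟶ L'.unop :=
  (HomologicalComplex.unopFunctor D c).map α.op

lemma homologyUnop_hom_naturality {L' L : HomologicalComplex Dᵒᵖ c} (α : L' ⟶ L) (n : ι) :
    (HomologicalComplex.homologyUnop L n).hom ≫ (HomologicalComplex.homologyMap α n).unop =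
      HomologicalComplex.homologyMap (unopHom α) n ≫
        (HomologicalComplex.homologyUnop L' n).hom :=
  congrArg Quiver.Hom.unop
    (HomologicalComplex.homologyOp_hom_naturality ((HomologicalComplex.unopFunctor D c).map α.op) n)

end Unop

lemma comp_aux {D : Type*} [Category D] {A A' B B' E E' : D} (U : A ⟶ B) (eh : B ⟶ E)
    (ei : E ⟶ B) (hee : eh ≫ ei = 𝟙 B) (HMu : B ⟶ B') (e'h : B' ⟶ E') (hm : A ⟶ A')
    (U' : A' ⟶ B') (key : U ≫ HMu = hm ≫ U') :
    (U ≫ eh) ≫ (ei ≫ HMu ≫ e'h) = hm ≫ (U' ≫ e'h) := by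
  rw [Category.assoc, ← Category.assoc eh, hee, Category.id_comp, ← Category.assoc, key,
    Category.assoc]

/-! ### Classes in the homology of a complex of modules -/

namespace ModCx

variable {R : Type u} [Ring R] {ι : Type*} {c : ComplexShape ι}

section

variable (K : HomologicalComplex (ModuleCat.{v} R) c) (n : ι)

/-- cocycles of degree `n`. -/
noncomputable abbrev Z : Submodule R (K.X n) := LinearMap.ker (K.sc n).g.hom

lemma mem_Z_iff (j : ι) (hj : c.next n = j) (z : K.X n) :
    z ∈ Z K n ↔ (K.d n j).hom z = 0 := by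
  subst hj; rfl

/-- the class of a cocycle -/
noncomputable def cls : Z K n →ₗ[R] K.homology n :=
  (K.sc n).moduleCatHomologyIso.inv.hom ∘ₗ (LinearMap.range (K.sc n).moduleCatToCycles).mkQ

lemma cls_surjective : Function.Surjective (cls K n) := by
  intro x
  obtain ⟨z, hz⟩ := Submodule.mkQ_surjective _ ((K.sc n).moduleCatHomologyIso.hom.hom x)
  refine ⟨z, ?_⟩
  change (K.sc n).moduleCatHomologyIso.inv.hom
    ((LinearMap.range (K.sc n).moduleCatToCycles).mkQ z) = x
  rw [hz]
  have := congrArg (fun f => f.hom x) (K.sc n).moduleCatHomologyIso.hom_inv_id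
  exact this

lemma cls_eq_zero_iff (z : Z K n) :
    cls K n z = 0 ↔ ∃ y : K.X (c.prev n), (K.d (c.prev n) n).hom y = z.1 := by
  have hinj : Function.Injective (K.sc n).moduleCatHomologyIso.inv.hom :=
    (ModuleCat.mono_iff_injective _).1 inferInstance
  constructor
  · intro h
    have h0 : (LinearMap.range (K.sc n).moduleCatToCycles).mkQ z = 0 :=
      hinj (h.trans (map_zero (K.sc n).moduleCatHomologyIso.inv.hom).symm)
    rw [Submodule.mkQ_apply, Submodule.Quotient.mk_eq_zero] at h0
    obtain ⟨y, hy⟩ := h0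
    exact ⟨y, congrArg Subtype.val hy⟩
  · rintro ⟨y, hy⟩
    have h0 : (LinearMap.range (K.sc n).moduleCatToCycles).mkQ z = 0 := by
      rw [Submodule.mkQ_apply, Submodule.Quotient.mk_eq_zero]
      exact ⟨y, Subtype.ext hy⟩
    exact (congrArg (K.sc n).moduleCatHomologyIso.inv.hom h0).trans (map_zero _)

lemma cls_eq_zero_iff' (p : ι) (hp : c.prev n = p) (z : Z K n) :
    cls K n z = 0 ↔ ∃ y : K.X p, (K.d p n).hom y = z.1 := by
  subst hp; exact cls_eq_zero_iff K n z

lemma cls_eq (z : Z K n) :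
    cls K n z = (K.homologyπ n).hom ((K.sc n).moduleCatCyclesIso.inv.hom z) := by
  have := congrArg (fun f => f.hom z) (K.sc n).moduleCatCyclesIso_inv_π
  exact this.symm

lemma iCycles_cycIso_inv (z : Z K n) :
    (K.iCycles n).hom ((K.sc n).moduleCatCyclesIso.inv.hom z) = z.1 := by
  have := congrArg (fun f => f.hom z) (K.sc n).moduleCatCyclesIso_inv_iCycles
  exact this

end

section

variable {K K' : HomologicalComplex (ModuleCat.{v} R) c} (n : ι) (ψ : K ⟶ K')

lemma map_mem_Z (z : Z K n) : (ψ.f n).hom z.1 ∈ Z K' n := by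
  have hz : (K.d n (c.next n)).hom z.1 = 0 := z.2
  have := congrArg (fun f => f.hom z.1) (ψ.comm n (c.next n))
  change (K'.d n (c.next n)).hom ((ψ.f n).hom z.1) =
    (ψ.f (c.next n)).hom ((K.d n (c.next n)).hom z.1) at this
  change (K'.d n (c.next n)).hom ((ψ.f n).hom z.1) = 0
  rw [this, hz, map_zero]

lemma homologyMap_cls (z : Z K n) :
    (HomologicalComplex.homologyMap ψ n).hom (cls K n z) =
      cls K' n ⟨(ψ.f n).hom z.1, map_mem_Z n ψ z⟩ := by
  rw [cls_eq, cls_eq]
  have h1 := congrArg (fun f => f.hom ((K.sc n).moduleCatCyclesIso.inv.hom z))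
    (HomologicalComplex.homologyπ_naturality ψ n)
  change (HomologicalComplex.homologyMap ψ n).hom ((K.homologyπ n).hom _) =
    (K'.homologyπ n).hom ((HomologicalComplex.cyclesMap ψ n).hom _) at h1
  rw [h1]
  congr 1
  have hinj : Function.Injective (K'.iCycles n).hom :=
    (ModuleCat.mono_iff_injective _).1 inferInstance
  apply hinj
  have h2 := congrArg (fun f => f.hom ((K.sc n).moduleCatCyclesIso.inv.hom z))
    (HomologicalComplex.cyclesMap_i ψ n)
  change (K'.iCycles n).hom ((HomologicalComplex.cyclesMap ψ n).hom _) =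
    (ψ.f n).hom ((K.iCycles n).hom _) at h2
  rw [h2, iCycles_cycIso_inv, iCycles_cycIso_inv]

end

end ModCx

/-! ### The two `Ext`s -/

section Bridge

variable {R : Type u} [CommRing R] {C : Type w} [Category.{v} C] [Abelian C] [Linear R C]
  [EnoughProjectives C]

variable {X : C} (P : ProjectiveResolution X) (Y : C) (n : ℕ)

/-- the Hom complex `Hom(P, Y)`. -/
noncomputable abbrev KK : CochainComplex (ModuleCat.{v} R) ℕ := P.complex.linearYonedaObj R Y

/-- an element of `Hom(P,Y)^i` as a morphism. -/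
def toHom {i : ℕ} (z : (KK (R := R) P Y).X i) : P.complex.X i ⟶ Y := z

/-- a morphism as an element of `Hom(P,Y)^i`. -/
def ofHom' {i : ℕ} (z : P.complex.X i ⟶ Y) : (KK (R := R) P Y).X i := z

@[simp] lemma toHom_ofHom' {i : ℕ} (z : P.complex.X i ⟶ Y) :
    toHom P Y (ofHom' (R := R) P Y z) = z := rfl

lemma KK_d_apply (i j : ℕ) (z : (KK (R := R) P Y).X i) :
    toHom P Y (((KK (R := R) P Y).d i j).hom z) = P.complex.d j i ≫ toHom P Y z := by
  rw [ChainComplex.linearYonedaObj_d]
  rfl

/-- cocycles. -/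
noncomputable abbrev ZZ : Submodule R ((KK (R := R) P Y).X n) := ModCx.Z (KK (R := R) P Y) n

lemma mem_ZZ_iff (z : (KK (R := R) P Y).X n) :
    z ∈ ZZ P Y n ↔ P.complex.d (n + 1) n ≫ toHom P Y z = 0 := by
  rw [ModCx.mem_Z_iff (KK (R := R) P Y) n (n + 1) (CochainComplex.next ℕ n), ← KK_d_apply]
  rfl

/-- the class of a cocycle in the old `Ext`. -/
noncomputable def oldMk : ZZ (R := R) P Y n →ₗ[R] ((Ext R C n).obj (op X)).obj Y :=
  (P.isoExt n Y).inv.hom ∘ₗ ModCx.cls (KK (R := R) P Y) n

lemma oldMk_surjective : Function.Surjective (oldMk (R := R) P Y n) := by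
  have h1 : Function.Surjective (P.isoExt (R := R) n Y).inv.hom :=
    (ModuleCat.epi_iff_surjective _).1 inferInstance
  exact h1.comp (ModCx.cls_surjective _ n)

lemma oldMk_eq_zero_iff (z : ZZ (R := R) P Y n) :
    oldMk P Y n z = 0 ↔ ModCx.cls (KK (R := R) P Y) n z = 0 := by
  have h1 : Function.Injective (P.isoExt (R := R) n Y).inv.hom :=
    (ModuleCat.mono_iff_injective _).1 inferInstance
  constructor
  · intro h
    exact h1 (by rw [map_zero]; exact h)
  · intro h
    change (P.isoExt (R := R) n Y).inv.hom (ModCx.cls (KK (R := R) P Y) n z) = 0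
    rw [h, map_zero]

variable [HasExt.{w'} C]

/-- the class of a cocycle in the new `Ext`. -/
noncomputable def newMk : ZZ (R := R) P Y n →ₗ[R] Abelian.Ext.{w'} X Y n where
  toFun z := P.extMk (toHom P Y z.1) (n + 1) rfl ((mem_ZZ_iff P Y n z.1).1 z.2)
  map_add' a b := (P.add_extMk (toHom P Y a.1) (toHom P Y b.1) (n + 1) rfl
    ((mem_ZZ_iff P Y n a.1).1 a.2) ((mem_ZZ_iff P Y n b.1).1 b.2)).symm
  map_smul' r a := by
    rw [RingHom.id_apply, Abelian.Ext.smul_eq_comp_mk₀, P.extMk_comp_mk₀]
    congr 1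
    change r • toHom P Y a.1 = toHom P Y a.1 ≫ (r • 𝟙 Y)
    rw [Linear.comp_smul, Category.comp_id]

lemma newMk_apply (z : ZZ (R := R) P Y n) :
    newMk P Y n z = P.extMk (toHom P Y z.1) (n + 1) rfl ((mem_ZZ_iff P Y n z.1).1 z.2) := rfl

lemma newMk_surjective : Function.Surjective (newMk.{u, v, w, w'} (R := R) P Y n) := by
  intro x
  obtain ⟨f, hf, rfl⟩ := P.extMk_surjective x (n + 1) rfl
  exact ⟨⟨ofHom' P Y f, (mem_ZZ_iff P Y n _).2 hf⟩, rfl⟩

lemma extMk_zero_eq_zero_iff (f : P.complex.X 0 ⟶ Y) (hf : P.complex.d 1 0 ≫ f = 0) :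
    (P.extMk f 1 rfl hf : Abelian.Ext.{w'} X Y 0) = 0 ↔ f = 0 := by
  constructor
  · intro h
    have h' := h
    simp only [← P.extEquivCohomologyClass.apply_eq_iff_eq,
      ProjectiveResolution.extEquivCohomologyClass_extMk,
      ProjectiveResolution.extEquivCohomologyClass_zero,
      CochainComplex.HomComplex.CohomologyClass.mk_eq_zero_iff] at h'
    rw [CochainComplex.HomComplex.Cocycle.toSingleMk_mem_coboundaries_iff _ _ _ _ _ 1
      (by simp)] at h'
    obtain ⟨g, hg⟩ := h'
    have hg0 : g = 0 :=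
      (CochainComplex.isZero_of_isStrictlyLE P.cochainComplex 0 1 (by lia)).eq_of_src _ _
    rw [hg0, comp_zero] at hg
    rw [← cancel_epi (P.cochainComplexXIso (-((0 : ℕ) : ℤ)) 0 rfl).hom, comp_zero]
    exact hg.symm
  · rintro rfl
    exact P.extMk_zero 1 rfl

lemma oldMk_eq_zero_iff_newMk (z : ZZ (R := R) P Y n) :
    oldMk P Y n z = 0 ↔ newMk.{u, v, w, w'} P Y n z = 0 := by
  rw [oldMk_eq_zero_iff]
  cases n with
  | zero =>
    rw [ModCx.cls_eq_zero_iff' (KK (R := R) P Y) 0 0 CochainComplex.prev_nat_zero, newMk_apply,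
      extMk_zero_eq_zero_iff]
    have hd : (KK (R := R) P Y).d 0 0 = 0 := (KK (R := R) P Y).shape 0 0 (by simp)
    constructor
    · rintro ⟨y, hy⟩
      rw [← hy, hd]
      rfl
    · intro h
      refine ⟨0, ?_⟩
      rw [map_zero]
      exact h.symm
  | succ p =>
    rw [ModCx.cls_eq_zero_iff' (KK (R := R) P Y) (p + 1) p (CochainComplex.prev_nat_succ p),
      newMk_apply, P.extMk_eq_zero_iff _ _ rfl _ p rfl]
    constructor
    · rintro ⟨y, hy⟩
      exact ⟨toHom P Y y, by rw [← KK_d_apply, hy]⟩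
    · rintro ⟨g, hg⟩
      exact ⟨ofHom' P Y g, by
        have := KK_d_apply (R := R) P Y p (p + 1) (ofHom' P Y g)
        rw [toHom_ofHom', hg] at this
        exact this⟩

/-- The comparison isomorphism computed with the resolution `P`. -/
noncomputable def bridgeOf : ((Ext R C n).obj (op X)).obj Y ≃ₗ[R] Abelian.Ext.{w'} X Y n :=
  equivOfSurjOfKerEq (oldMk P Y n) (newMk P Y n) (oldMk_surjective P Y n)
    (newMk_surjective P Y n) (by
      ext z
      simp only [LinearMap.mem_ker]
      exact oldMk_eq_zero_iff_newMk P Y n z)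

lemma bridgeOf_oldMk (z : ZZ (R := R) P Y n) :
    bridgeOf.{u, v, w, w'} P Y n (oldMk P Y n z) = newMk P Y n z :=
  equivOfSurjOfKerEq_apply _ _ _ _ _ z

/-! #### naturality of `isoExt` -/

/-- postcomposition on Hom complexes. -/
noncomputable def postMap {Y Y' : C} (g : Y ⟶ Y') : KK (R := R) P Y ⟶ KK (R := R) P Y' :=
  unopHom ((NatTrans.mapHomologicalComplex (NatTrans.rightOp ((linearYoneda R C).map g))
    (ComplexShape.down ℕ)).app P.complex)

lemma postMap_f_apply {Y Y' : C} (g : Y ⟶ Y') (i : ℕ) (z : (KK (R := R) P Y).X i) :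
    toHom P Y' (((postMap (R := R) P g).f i).hom z) = toHom P Y z ≫ g := rfl

lemma isoExt_inv_naturality_right {Y Y' : C} (g : Y ⟶ Y') :
    (P.isoExt (R := R) n Y).inv ≫ ((Ext R C n).obj (op X)).map g =
      HomologicalComplex.homologyMap (postMap (R := R) P g) n ≫ (P.isoExt (R := R) n Y').inv := by
  let F := ((linearYoneda R C).obj Y).rightOp
  let F' := ((linearYoneda R C).obj Y').rightOp
  let τ : F' ⟶ F := NatTrans.rightOp ((linearYoneda R C).map g)
  let e : (F.leftDerived n).obj X ≅
      ((F.mapHomologicalComplex (ComplexShape.down ℕ)).obj P.complex).homology n :=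
    P.isoLeftDerivedObj F n
  let e' : (F'.leftDerived n).obj X ≅
      ((F'.mapHomologicalComplex (ComplexShape.down ℕ)).obj P.complex).homology n :=
    P.isoLeftDerivedObj F' n
  let α := (NatTrans.mapHomologicalComplex τ (ComplexShape.down ℕ)).app P.complex
  have h1 : ((Ext R C n).obj (op X)).map g = ((NatTrans.leftDerived τ n).app X).unop := rfl
  have h2 : (NatTrans.leftDerived τ n).app X =
      e'.hom ≫ HomologicalComplex.homologyMap α n ≫ e.inv := P.leftDerived_app_eq τ n
  have h3 : (P.isoExt (R := R) n Y).inv =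
      (HomologicalComplex.homologyUnop _ n).hom ≫ e.hom.unop := rfl
  have h4 : (P.isoExt (R := R) n Y').inv =
      (HomologicalComplex.homologyUnop _ n).hom ≫ e'.hom.unop := rfl
  have key := homologyUnop_hom_naturality α n
  have hee : e.hom.unop ≫ e.inv.unop = 𝟙 _ := by rw [← unop_comp, Iso.inv_hom_id, unop_id]
  have main := comp_aux (HomologicalComplex.homologyUnop _ n).hom e.hom.unop e.inv.unop hee
    (HomologicalComplex.homologyMap α n).unop e'.hom.unop _ _ key
  rw [h1, h2]
  exact main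

/-- precomposition on Hom complexes. -/
noncomputable def preMap {X' : C} {P' : ProjectiveResolution X'} (φ : P'.complex ⟶ P.complex)
    (Y : C) : KK (R := R) P Y ⟶ KK (R := R) P' Y :=
  unopHom ((((linearYoneda R C).obj Y).rightOp.mapHomologicalComplex (ComplexShape.down ℕ)).map φ)

lemma preMap_f_apply {X' : C} {P' : ProjectiveResolution X'} (φ : P'.complex ⟶ P.complex)
    (Y : C) (i : ℕ) (z : (KK (R := R) P Y).X i) :
    toHom P' Y (((preMap (R := R) P φ Y).f i).hom z) = φ.f i ≫ toHom P Y z := rfl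

lemma isoExt_inv_naturality_left {X' : C} {P' : ProjectiveResolution X'} {f : X' ⟶ X}
    (φ : P'.Hom P f) (Y : C) :
    (P.isoExt (R := R) n Y).inv ≫ ((Ext R C n).map f.op).app Y =
      HomologicalComplex.homologyMap (preMap (R := R) P φ.hom Y) n ≫
        (P'.isoExt (R := R) n Y).inv := by
  let F := ((linearYoneda R C).obj Y).rightOp
  let e : (F.leftDerived n).obj X ≅
      ((F.mapHomologicalComplex (ComplexShape.down ℕ)).obj P.complex).homology n :=
    P.isoLeftDerivedObj F n
  let e' : (F.leftDerived n).obj X' ≅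
      ((F.mapHomologicalComplex (ComplexShape.down ℕ)).obj P'.complex).homology n :=
    P'.isoLeftDerivedObj F n
  let α := (F.mapHomologicalComplex (ComplexShape.down ℕ)).map φ.hom
  have h1 : ((Ext R C n).map f.op).app Y = ((F.leftDerived n).map f).unop := rfl
  have h2 : (F.leftDerived n).map f =
      e'.hom ≫ HomologicalComplex.homologyMap α n ≫ e.inv :=
    Functor.leftDerived_map_eq F n f φ.hom φ.hom_comp_π
  have h3 : (P.isoExt (R := R) n Y).inv =
      (HomologicalComplex.homologyUnop _ n).hom ≫ e.hom.unop := rfl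
  have h4 : (P'.isoExt (R := R) n Y).inv =
      (HomologicalComplex.homologyUnop _ n).hom ≫ e'.hom.unop := rfl
  have key := homologyUnop_hom_naturality α n
  have hee : e.hom.unop ≫ e.inv.unop = 𝟙 _ := by rw [← unop_comp, Iso.inv_hom_id, unop_id]
  have main := comp_aux (HomologicalComplex.homologyUnop _ n).hom e.hom.unop e.inv.unop hee
    (HomologicalComplex.homologyMap α n).unop e'.hom.unop _ _ key
  rw [h1, h2]
  exact main

lemma oldMk_map_right {Y Y' : C} (g : Y ⟶ Y') (z : ZZ (R := R) P Y n)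
    (hz : ofHom' (R := R) P Y' (toHom P Y z.1 ≫ g) ∈ ZZ (R := R) P Y' n) :
    (((Ext R C n).obj (op X)).map g).hom (oldMk P Y n z) =
      oldMk P Y' n ⟨ofHom' P Y' (toHom P Y z.1 ≫ g), hz⟩ := by
  have h := congrArg (fun f => f.hom (ModCx.cls (KK (R := R) P Y) n z))
    (isoExt_inv_naturality_right (R := R) P n g)
  change (((Ext R C n).obj (op X)).map g).hom (oldMk P Y n z) =
    (P.isoExt (R := R) n Y').inv.hom
      ((HomologicalComplex.homologyMap (postMap (R := R) P g) n).hom
        (ModCx.cls (KK (R := R) P Y) n z)) at h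
  rw [h, ModCx.homologyMap_cls]
  rfl

lemma oldMk_map_left {X' : C} {P' : ProjectiveResolution X'} {f : X' ⟶ X}
    (φ : P'.Hom P f) (Y : C) (z : ZZ (R := R) P Y n)
    (hz : ofHom' (R := R) P' Y (φ.hom.f n ≫ toHom P Y z.1) ∈ ZZ (R := R) P' Y n) :
    (((Ext R C n).map f.op).app Y).hom (oldMk P Y n z) =
      oldMk P' Y n ⟨ofHom' P' Y (φ.hom.f n ≫ toHom P Y z.1), hz⟩ := by
  have h := congrArg (fun f => f.hom (ModCx.cls (KK (R := R) P Y) n z))
    (isoExt_inv_naturality_left (R := R) P n φ Y)
  change (((Ext R C n).map f.op).app Y).hom (oldMk P Y n z) =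
    (P'.isoExt (R := R) n Y).inv.hom
      ((HomologicalComplex.homologyMap (preMap (R := R) P φ.hom Y) n).hom
        (ModCx.cls (KK (R := R) P Y) n z)) at h
  rw [h, ModCx.homologyMap_cls]
  rfl

/-! #### the bridge -/

/-- The comparison isomorphism between the two `Ext`s. -/
noncomputable def extBridge (X Y : C) (n : ℕ) :
    ((Ext R C n).obj (op X)).obj Y ≃ₗ[R] Abelian.Ext.{w'} X Y n :=
  bridgeOf (projectiveResolution X) Y n

lemma extBridge_map_right (X : C) {Y Y' : C} (g : Y ⟶ Y') (n : ℕ)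
    (x : ((Ext R C n).obj (op X)).obj Y) :
    extBridge.{u, v, w, w'} X Y' n ((((Ext R C n).obj (op X)).map g).hom x) =
      (extBridge.{u, v, w, w'} X Y n x).comp (Abelian.Ext.mk₀ g) (add_zero n) := by
  let P := projectiveResolution X
  obtain ⟨z, rfl⟩ := oldMk_surjective (R := R) P Y n x
  have hz' : P.complex.d (n + 1) n ≫ (toHom P Y z.1 ≫ g) = 0 := by
    rw [← Category.assoc, (mem_ZZ_iff P Y n z.1).1 z.2, zero_comp]
  have hz : ofHom' (R := R) P Y' (toHom P Y z.1 ≫ g) ∈ ZZ (R := R) P Y' n :=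
    (mem_ZZ_iff P Y' n _).2 hz'
  rw [oldMk_map_right P n g z hz]
  change bridgeOf P Y' n _ = (bridgeOf P Y n _).comp _ _
  rw [bridgeOf_oldMk, bridgeOf_oldMk, newMk_apply, newMk_apply, P.extMk_comp_mk₀]
  rfl

lemma extBridge_map_left {X X' : C} (f : X' ⟶ X) (Y : C) (n : ℕ)
    (x : ((Ext R C n).obj (op X)).obj Y) :
    extBridge.{u, v, w, w'} X' Y n ((((Ext R C n).map f.op).app Y).hom x) =
      (Abelian.Ext.mk₀ f).comp (extBridge.{u, v, w, w'} X Y n x) (zero_add n) := by
  let P := projectiveResolution X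
  let P' := projectiveResolution X'
  let φ : P'.Hom P f :=
    { hom := ProjectiveResolution.lift f P' P
      hom_f_zero_comp_π_f_zero := by
        rw [ProjectiveResolution.lift_commutes_zero, ChainComplex.single₀_map_f_zero]
        rfl }
  obtain ⟨z, rfl⟩ := oldMk_surjective (R := R) P Y n x
  have hz' : P'.complex.d (n + 1) n ≫ (φ.hom.f n ≫ toHom P Y z.1) = 0 := by
    rw [← Category.assoc, ← φ.hom.comm, Category.assoc, (mem_ZZ_iff P Y n z.1).1 z.2, comp_zero]
  have hz : ofHom' (R := R) P' Y (φ.hom.f n ≫ toHom P Y z.1) ∈ ZZ (R := R) P' Y n :=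
    (mem_ZZ_iff P' Y n _).2 hz'
  rw [oldMk_map_left P n φ Y z hz]
  change bridgeOf P' Y n _ = (Abelian.Ext.mk₀ f).comp (bridgeOf P Y n _) _
  rw [bridgeOf_oldMk, bridgeOf_oldMk, newMk_apply, newMk_apply,
    ProjectiveResolution.mk₀_comp_extMk _ _ _ _ φ]
  rfl

end Bridge

end Groth.Agent.Lib.Helper4.LCBridge
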