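import Groth.Agent.Lib.Helper4.CM
import Mathlib.Algebra.Category.ModuleCat.Ext.Finite

/-!
# Ischebeck's theorem: `Ext^i(N, M) = 0` for `i < depth M - dim N`
-/

set_option autoImplicit false

universe u

open RingTheory.Sequence CategoryTheory Abelian

namespace Groth.Agent.Lib.Helper4

section general

variable {A : Type u} [CommRing A]

lemma subsingleton_ext_of_subsingleton_left (N M : ModuleCat.{u} A) [Subsingleton N] (i : ℕ) :
    Subsingleton (Ext N M i) :=
  subsingleton_ext_of_annihilators (r := 1) (s := 0)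
    (by rw [Module.mem_annihilator]; intro n; exact Subsingleton.elim _ _) (Submodule.zero_mem _)
    (add_zero 1) i

lemma subsingleton_ext_left_X₂ {S : ShortComplex (ModuleCat.{u} A)} (hS : S.ShortExact)
    (M : ModuleCat.{u} A) (n : ℕ) (h1 : Subsingleton (Ext S.X₁ M n))
    (h3 : Subsingleton (Ext S.X₃ M n)) : Subsingleton (Ext S.X₂ M n) := by
  refine ⟨fun a b => ?_⟩
  have key : ∀ x : Ext S.X₂ M n, x = 0 := by
    intro x
    obtain ⟨x₃, rfl⟩ := Ext.contravariant_sequence_exact₂ hS M x (Subsingleton.elim _ _)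
    rw [Subsingleton.elim x₃ 0, Ext.comp_zero]
  rw [key a, key b]

end general

variable {A : Type u} [CommRing A] [IsNoetherianRing A] [IsLocalRing A]

/-- Nakayama step: if `x ∈ 𝔪` is `N`-regular and `Ext^{i+1}(N/xN, M) = 0` then `Ext^i(N, M) = 0`. -/
theorem subsingleton_ext_of_quotSMulTop (N M : ModuleCat.{u} A) [Module.Finite A N]
    [Module.Finite A M] (x : A) (hxm : x ∈ IsLocalRing.maximalIdeal A) (reg : IsSMulRegular N x)
    (i : ℕ) (h : Subsingleton (Ext (ModuleCat.of A (QuotSMulTop x N)) M (i + 1))) :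
    Subsingleton (Ext N M i) := by
  have hS : (ModuleCat.smulShortComplex N x).ShortExact := reg.smulShortComplex_shortExact
  have hsurj : ∀ e : Ext N M i, ∃ e₂ : Ext N M i, x • e₂ = e := by
    intro e
    have hsub : Subsingleton (Ext (ModuleCat.smulShortComplex N x).X₃ M (i + 1)) := h
    obtain ⟨e₂', he₂'⟩ := Ext.contravariant_sequence_exact₁ hS M e (add_comm 1 i)
      (Subsingleton.elim _ _)
    let e₂ : Ext N M i := e₂'
    have he₂ : (Ext.mk₀ (x • 𝟙 N)).comp e₂ (zero_add i) = e := he₂'
    refine ⟨e₂, ?_⟩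
    rw [← he₂]
    simp [Ext.mk₀_smul]
  have htop : (⊤ : Submodule A (Ext N M i)) = ⊥ := by
    refine Submodule.eq_bot_of_le_smul_of_le_jacobson_bot (IsLocalRing.maximalIdeal A) ⊤
      Module.Finite.fg_top ?_ (by rw [IsLocalRing.jacobson_eq_maximalIdeal ⊥ bot_ne_top])
    intro e _
    obtain ⟨e₂, rfl⟩ := hsurj e
    exact Submodule.smul_mem_smul hxm Submodule.mem_top
  refine ⟨fun a b => ?_⟩
  have key : ∀ e : Ext N M i, e = 0 := by
    intro e
    have : e ∈ (⊤ : Submodule A (Ext N M i)) := Submodule.mem_top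
    rw [htop] at this
    exact (Submodule.mem_bot A).mp this
  rw [key a, key b]

/-- **Ischebeck's theorem** (with `dim N ≤ r`, allowing `N = 0`). -/
theorem ischebeck_aux (M : Type u) [AddCommGroup M] [Module A M] [Module.Finite A M] :
    ∀ (r : ℕ) (N : Type u) [AddCommGroup N] [Module A N] [Module.Finite A N],
      Module.supportDim A N ≤ r → ∀ i : ℕ, ((i + r : ℕ) : ℕ∞) < LocCoh.depth A M →
      Subsingleton (Ext (ModuleCat.of A N) (ModuleCat.of A M) i) := by
  intro r
  induction r using Nat.strong_induction_on with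
  | _ r IH =>
  intro N _ _ hfin
  induction hfin using IsNoetherianRing.induction_on_isQuotientEquivQuotientPrime A with
  | subsingleton N =>
    intro _ i _
    exact subsingleton_ext_of_subsingleton_left _ _ i
  | quotient N p e =>
    intro hdim i hi
    have hp : p.asIdeal.IsPrime := p.2
    refine subsingleton_ext_of_iso_left (e.symm.toModuleIso) i ?_
    rw [Module.supportDim_eq_of_equiv e, Module.supportDim_quotient_eq_ringKrullDim] at hdim
    by_cases hpm : p.asIdeal = IsLocalRing.maximalIdeal A
    · -- `N ≅ A/𝔪`: Rees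
      have hsupp : Module.support A (ModuleCat.of A (A ⧸ p.asIdeal)) ⊆
          PrimeSpectrum.zeroLocus (IsLocalRing.maximalIdeal A) := by
        change Module.support A (A ⧸ p.asIdeal) ⊆ _
        rw [Module.support_eq_zeroLocus, Ideal.annihilator_quotient, hpm]
      have hfinN : Module.Finite A (ModuleCat.of A (A ⧸ p.asIdeal)) :=
        inferInstanceAs (Module.Finite A (A ⧸ p.asIdeal))
      have hfinM : Module.Finite A (ModuleCat.of A M) := ‹Module.Finite A M›
      refine subsingleton_ext_of_lt_idealDepth (IsLocalRing.maximalIdeal A) _ hsupp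
        (ModuleCat.of A M) i (lt_of_le_of_lt ?_ hi)
      exact_mod_cast Nat.le_add_right i r
    · -- `p ≠ 𝔪`: choose `x ∈ 𝔪 \ p`
      have hlt : p.asIdeal < IsLocalRing.maximalIdeal A :=
        lt_of_le_of_ne (IsLocalRing.le_maximalIdeal hp.ne_top) hpm
      obtain ⟨x, hxm, hxp⟩ := SetLike.exists_of_lt hlt
      have reg : IsSMulRegular (A ⧸ p.asIdeal) x := by
        intro a b hab
        change x • a = x • b at hab
        rw [Algebra.smul_def, Algebra.smul_def] at hab
        refine mul_left_cancel₀ ?_ hab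
        rw [Ideal.Quotient.algebraMap_eq, Ne, Ideal.Quotient.eq_zero_iff_mem]
        exact hxp
      have hdim2 := Module.supportDim_quotSMulTop_succ_eq_supportDim reg hxm
      rw [Module.supportDim_quotient_eq_ringKrullDim] at hdim2
      have hfinN : Module.Finite A (ModuleCat.of A (A ⧸ p.asIdeal)) :=
        inferInstanceAs (Module.Finite A (A ⧸ p.asIdeal))
      have hfinM : Module.Finite A (ModuleCat.of A M) := ‹Module.Finite A M›
      refine subsingleton_ext_of_quotSMulTop (ModuleCat.of A (A ⧸ p.asIdeal)) (ModuleCat.of A M)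
        x hxm reg i ?_
      -- the dimension drops
      have hQ : Module.supportDim A (QuotSMulTop x (A ⧸ p.asIdeal)) + 1 ≤ r := hdim2.le.trans hdim
      have hnt : Nontrivial (QuotSMulTop x (A ⧸ p.asIdeal)) :=
        nontrivial_quotSMulTop_of_mem_maximalIdeal _ hxm
      obtain ⟨k, hk⟩ := exists_nat_supportDim (R := A) (M := QuotSMulTop x (A ⧸ p.asIdeal))
      rw [hk] at hQ
      have hkr : k + 1 ≤ r := by exact_mod_cast hQ
      obtain ⟨r', hr'⟩ : ∃ r', r = r' + 1 := ⟨r - 1, by omega⟩
      refine IH r' (by omega) (QuotSMulTop x (A ⧸ p.asIdeal)) ?_ (i + 1) ?_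
      · rw [hk]
        have hk' : k ≤ r' := by omega
        exact_mod_cast hk'
      · have : i + 1 + r' = i + r := by omega
        rw [this]; exact hi
  | exact N₁ N₂ N₃ f g hf hg hfg h₁ h₃ =>
    intro hdim i hi
    let S : ShortComplex (ModuleCat.{u} A) :=
      ModuleCat.shortComplexOfCompEqZero f g (by ext x; simpa using hfg.apply_apply_eq_zero x)
    have hS : S.ShortExact := ModuleCat.shortComplex_shortExact S hfg hf hg
    exact subsingleton_ext_left_X₂ hS (ModuleCat.of A M) i
      (h₁ ((Module.supportDim_le_of_injective f hf).trans hdim) i hi)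
      (h₃ ((Module.supportDim_le_of_surjective g hg).trans hdim) i hi)

end Groth.Agent.Lib.Helper4
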