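import Groth.Agent.Lib.Helper4.LD3

/-!
# `Ext^i(M, A)` for finite length modules over a regular local ring (helper4)
-/

set_option autoImplicit false
set_option linter.style.haveILetI false
set_option linter.unusedSectionVars false
set_option linter.unusedVariables false
set_option maxHeartbeats 400000

open CategoryTheory Limits Opposite Abelian IsLocalRing

universe u

namespace Groth.Agent.Lib.Helper4.LC

open Groth.Agent.Lib.Helper4

section regular

variable (A : Type u) [CommRing A] [IsRegularLocalRing A] (n : ℕ) (hn : ringKrullDim A = n)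

include hn in
lemma subsingleton_ext_residue_self (i : ℕ) (hi : i ≠ n) :
    Subsingleton (Ext.{u} (ModuleCat.of A (A ⧸ maximalIdeal A)) (ModuleCat.of A A) i) := by
  rcases lt_or_gt_of_ne hi with h | h
  · apply subsingleton_ext_of_lt_idealDepth (maximalIdeal A) _ support_residue_subset
      (ModuleCat.of A A) i
    change (i : ℕ∞) < LocCoh.depth A A
    rw [depth_eq_of_regular A n hn]
    exact_mod_cast h
  · exact subsingleton_ext_of_gt A n hn _ _ i h

include hn in
lemma length_ext_residue_self :
    Module.length A (Ext.{u} (ModuleCat.of A (A ⧸ maximalIdeal A)) (ModuleCat.of A A) n) = 1 := by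
  obtain ⟨e⟩ := nonempty_ext_residue_self_equiv A n hn
  haveI : IsSimpleModule A (A ⧸ maximalIdeal A) :=
    isSimpleModule_iff_isCoatom.2 (Ideal.isMaximal_def.1 inferInstance)
  rw [e.length_eq]
  exact Module.length_eq_one A _

include hn in
/-- `Ext^i(M, A) = 0` for `i ≠ n` and `length Ext^n(M, A) = length M` for `M` of finite
length. -/
theorem ext_finiteLength (M : Type u) [AddCommGroup M] [Module A M] (hM : IsFiniteLength A M) :
    (∀ i : ℕ, i ≠ n → Subsingleton (Ext.{u} (ModuleCat.of A M) (ModuleCat.of A A) i)) ∧
      Module.length A (Ext.{u} (ModuleCat.of A M) (ModuleCat.of A A) n) = Module.length A M := by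
  induction hM with
  | @of_subsingleton M _ _ _ =>
    have h1 : (1 : A) ∈ Module.annihilator A (ModuleCat.of A M) := by
      rw [Module.mem_annihilator]
      intro m
      exact Subsingleton.elim _ _
    have h0 : (0 : A) ∈ Module.annihilator A (ModuleCat.of A A) := Submodule.zero_mem _
    have hall : ∀ i, Subsingleton (Ext.{u} (ModuleCat.of A M) (ModuleCat.of A A) i) := fun i =>
      subsingleton_ext_of_annihilators h1 h0 (by ring) i
    refine ⟨fun i _ => hall i, ?_⟩
    haveI := hall n
    rw [Module.length_eq_zero, Module.length_eq_zero]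
  | @of_simple_quotient M _ _ N hsimple hN ih =>
    obtain ⟨ihv, ihl⟩ := ih
    have hex : Function.Exact N.subtype N.mkQ := LinearMap.exact_subtype_mkQ N
    have hS : (sesOf N.subtype N.mkQ hex).ShortExact :=
      sesOf_shortExact _ _ hex (Submodule.injective_subtype _) (Submodule.mkQ_surjective _)
    set S := sesOf N.subtype N.mkQ hex with hSdef
    -- the quotient is the residue field
    obtain ⟨I, hI, ⟨eq⟩⟩ := isSimpleModule_iff_quot_maximal.1 hsimple
    have hIm : I = maximalIdeal A := IsLocalRing.eq_maximalIdeal hI
    subst hIm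
    have eQ : ∀ i, Ext.{u} (ModuleCat.of A (M ⧸ N)) (ModuleCat.of A A) i ≃ₗ[A]
        Ext.{u} (ModuleCat.of A (A ⧸ maximalIdeal A)) (ModuleCat.of A A) i := fun i =>
      extCongrLeft eq.toModuleIso _ i
    have hQv : ∀ i, i ≠ n → Subsingleton (Ext.{u} S.X₃ (ModuleCat.of A A) i) := by
      intro i hi
      haveI := subsingleton_ext_residue_self A n hn i hi
      exact (eQ i).toEquiv.subsingleton
    have hQl : Module.length A (Ext.{u} S.X₃ (ModuleCat.of A A) n) = 1 := by
      rw [(eQ n).length_eq]
      exact length_ext_residue_self A n hn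
    have hNv : ∀ i, i ≠ n → Subsingleton (Ext.{u} S.X₁ (ModuleCat.of A A) i) := ihv
    constructor
    · intro i hi
      haveI := hQv i hi
      haveI := hNv i hi
      refine ⟨fun a b => ?_⟩
      have key : ∀ x₂ : Ext.{u} S.X₂ (ModuleCat.of A A) i, x₂ = 0 := by
        intro x₂
        obtain ⟨x₁, hx₁⟩ := Ext.contravariant_sequence_exact₂ hS (ModuleCat.of A A) x₂
          (Subsingleton.elim _ _)
        rw [← hx₁, Subsingleton.elim x₁ 0, Ext.comp_zero]
      exact (key a).trans (key b).symm
    · -- the exact sequence `0 → Ext^n(M/N) → Ext^n(M) → Ext^n(N) → 0`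
      let α : Ext.{u} S.X₃ (ModuleCat.of A A) n →ₗ[A] Ext.{u} S.X₂ (ModuleCat.of A A) n :=
        Ext.precompOfLinear (Ext.mk₀ S.g) A (ModuleCat.of A A) (zero_add n)
      let β : Ext.{u} S.X₂ (ModuleCat.of A A) n →ₗ[A] Ext.{u} S.X₁ (ModuleCat.of A A) n :=
        Ext.precompOfLinear (Ext.mk₀ S.f) A (ModuleCat.of A A) (zero_add n)
      have hα : Function.Injective α := by
        rw [injective_iff_map_eq_zero]
        intro x₃ hx₃
        change (Ext.mk₀ S.g).comp x₃ (zero_add n) = 0 at hx₃
        cases n with
        | zero =>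
          haveI : Epi S.g := hS.epi_g
          exact Ext.precomp_mk₀_injective_of_epi (ModuleCat.of A A) S.g
            (hx₃.trans (map_zero _).symm)
        | succ n' =>
          obtain ⟨x₁, hx₁⟩ := Ext.contravariant_sequence_exact₃ hS (ModuleCat.of A A) x₃ hx₃
            (add_comm 1 n')
          haveI := hNv n' (Nat.ne_of_lt (Nat.lt_succ_self n'))
          rw [← hx₁, Subsingleton.elim x₁ 0, Ext.comp_zero]
      have hβ : Function.Surjective β := by
        intro x₁
        haveI := hQv (1 + n) (by omega)
        exact Ext.contravariant_sequence_exact₁ hS (ModuleCat.of A A) x₁ rfl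
          (Subsingleton.elim _ _)
      have hαβ : Function.Exact α β := by
        intro y
        constructor
        · intro hy
          obtain ⟨x, hx⟩ := Ext.contravariant_sequence_exact₂ hS (ModuleCat.of A A) y hy
          exact ⟨x, hx⟩
        · rintro ⟨x, rfl⟩
          change (Ext.mk₀ S.f).comp ((Ext.mk₀ S.g).comp x (zero_add n)) (zero_add n) = 0
          rw [Ext.mk₀_comp_mk₀_assoc, S.zero, Ext.mk₀_zero, Ext.zero_comp]
      have h1 := Module.length_eq_add_of_exact α β hα hβ hαβ
      have h2 := Module.length_eq_add_of_exact N.subtype N.mkQ (Submodule.injective_subtype _)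
        (Submodule.mkQ_surjective _) hex
      have h3 : Module.length A (M ⧸ N) = 1 := Module.length_eq_one A _
      have h4 : Module.length A (Ext.{u} S.X₁ (ModuleCat.of A A) n) = Module.length A N := ihl
      change Module.length A (Ext.{u} S.X₂ (ModuleCat.of A A) n) = _
      rw [h1, h2, hQl, h4, h3, add_comm]

end regular

end Groth.Agent.Lib.Helper4.LC
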