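import Groth.Agent.Lib.Helper4.LD2
import Groth.Agent.Lib.Helper1.Matlis

/-!
# Top local cohomology of a regular local ring is an injective hull of the residue field (helper4)
-/

set_option autoImplicit false
set_option linter.style.haveILetI false
set_option linter.unusedSectionVars false
set_option linter.unusedVariables false
set_option maxHeartbeats 400000

open CategoryTheory Limits Opposite Abelian IsLocalRing

universe u

namespace Groth.Agent.Lib.Helper4.LC

open Groth.Agent.Lib.Helper4

section general

variable {R : Type u} [CommRing R]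

lemma isPowerTorsion_HH (I : Ideal R) (M : ModuleCat.{u} R) (j : ℕ) :
    LocCoh.IsPowerTorsion I (HH I M j) := by
  intro z
  obtain ⟨k, y, rfl⟩ := HH.exists_of I M j z
  exact ⟨k, fun a ha => by rw [← map_smul, smul_ext_Q_eq_zero I k y a ha, map_zero]⟩

lemma isPowerTorsion_quotient_self (I : Ideal R) : LocCoh.IsPowerTorsion I (R ⧸ I) := by
  intro y
  refine ⟨1, fun a ha => ?_⟩
  rw [pow_one] at ha
  obtain ⟨r, rfl⟩ := Submodule.Quotient.mk_surjective _ y
  rw [← Submodule.Quotient.mk_smul, Submodule.Quotient.mk_eq_zero, smul_eq_mul]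
  exact Ideal.mul_mem_right _ _ ha

end general

section regular

variable (A : Type u) [CommRing A] [IsRegularLocalRing A] (n : ℕ) (hn : ringKrullDim A = n)

include hn in
lemma depth_eq_of_regular : LocCoh.depth A A = n := by
  have h1 := RegCM.depth_eq_ringKrullDim A
  rw [hn] at h1
  exact_mod_cast h1

include hn in
lemma HH_self_subsingleton_of_lt (i : ℕ) (hi : i < n) :
    Subsingleton (HH (maximalIdeal A) (ModuleCat.of A A) i) := by
  apply HH.subsingleton_of_lt_idealDepth (I := maximalIdeal A) A i
  change (i : ℕ∞) < LocCoh.depth A A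
  rw [depth_eq_of_regular A n hn]
  exact_mod_cast hi

include hn in
theorem injective_HH_top :
    Module.Injective A (HH (maximalIdeal A) (ModuleCat.of A A) n) := by
  obtain ⟨_, hb⟩ := ext_HH_top (maximalIdeal A) (A ⧸ maximalIdeal A)
    (isPowerTorsion_quotient_self (maximalIdeal A)) n A
    (fun i hi => HH_self_subsingleton_of_lt A n hn i hi)
  apply injective_of_ext_one_residue _ (isPowerTorsion_HH _ _ _)
  exact hb (subsingleton_ext_of_gt A n hn (A ⧸ maximalIdeal A) (ModuleCat.of A A) (n + 1)
    (Nat.lt_succ_self n))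

include hn in
theorem isSimpleModule_hom_residue_HH_top :
    IsSimpleModule A ((A ⧸ maximalIdeal A) →ₗ[A] HH (maximalIdeal A) (ModuleCat.of A A) n) := by
  obtain ⟨⟨ea⟩, _⟩ := ext_HH_top (maximalIdeal A) (A ⧸ maximalIdeal A)
    (isPowerTorsion_quotient_self (maximalIdeal A)) n A
    (fun i hi => HH_self_subsingleton_of_lt A n hn i hi)
  obtain ⟨eb⟩ := nonempty_ext_residue_self_equiv A n hn
  have e : ((A ⧸ maximalIdeal A) →ₗ[A] HH (maximalIdeal A) (ModuleCat.of A A) n) ≃ₗ[A]
      (A ⧸ maximalIdeal A) :=
    (ModuleCat.homLinearEquiv (S := A) (M := ModuleCat.of A (A ⧸ maximalIdeal A))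
      (N := ModuleCat.of A (HH (maximalIdeal A) (ModuleCat.of A A) n))).symm.trans
      ((Ext.linearEquiv₀ (R := A)).symm.trans (ea.trans eb))
  haveI : IsSimpleModule A (A ⧸ maximalIdeal A) :=
    isSimpleModule_iff_isCoatom.2 (Ideal.isMaximal_def.1 inferInstance)
  exact IsSimpleModule.congr e

include hn in
/-- `H^n_m(A)` is an injective hull of the residue field. -/
theorem exists_isInjectiveHull_H_top :
    ∃ f : ResidueField A →ₗ[A] LocCoh.H (maximalIdeal A) n A, InjHull.IsInjectiveHull f := by
  have e : LocCoh.H (maximalIdeal A) n A ≃ₗ[A] HH (maximalIdeal A) (ModuleCat.of A A) n :=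
    lcEquiv (maximalIdeal A) (ModuleCat.of A A) n
  refine Matlis.exists_isInjectiveHull_iff.2 ⟨?_, ?_, ?_⟩
  · haveI := injective_HH_top A n hn
    exact Groth.Agent.Lib.Helper1.InjHullLib.injective_of_linearEquiv e.symm
  · exact isPowerTorsion_of_injective (maximalIdeal A) e.toLinearMap e.injective
      (isPowerTorsion_HH _ _ _)
  · haveI := isSimpleModule_hom_residue_HH_top A n hn
    exact IsSimpleModule.congr
      (LinearEquiv.arrowCongr (Groth.Agent.Lib.Helper1.Matlis.quotEquivResidueField (R := A)).symm e)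

end regular

end Groth.Agent.Lib.Helper4.LC
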