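import Groth.Agent.Lib.Helper4.LD6
import Groth.Agent.Lib.Helper4.LD3
import Groth.Agent.S0302

/-!
# Local duality: statements for `LocCoh.H` and the `Ext` functor (helper4)
-/

set_option autoImplicit false
set_option linter.style.haveILetI false
set_option linter.unusedSectionVars false
set_option linter.unusedVariables false
set_option maxHeartbeats 400000

open CategoryTheory Limits Opposite Abelian IsLocalRing

universe u

namespace Groth.Agent.Lib.Helper4.LC

open Groth.Agent.Lib.Helper4

section general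

variable {R : Type u} [CommRing R] [IsLocalRing R] [IsNoetherianRing R]

/-- `LocCoh.H`/`Ext`-functor form of the abstract duality. -/
theorem nonempty_H_equiv_dual_ext (n : ℕ) (hn : ringKrullDim R = n)
    (hdepth : ∀ j, j < n → Subsingleton (HH (maximalIdeal R) (ModuleCat.of R R) j))
    (E : Type u) [AddCommGroup E] [Module R E] [Module.Injective R E]
    (K : Type u) [AddCommGroup K] [Module R K]
    (eK : (K →ₗ[R] E) ≃ₗ[R] LocCoh.H (maximalIdeal R) n R)
    (M : Type u) [AddCommGroup M] [Module R M] [Module.Finite R M] (k j : ℕ) (hjk : j + k = n) :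
    Nonempty (LocCoh.H (maximalIdeal R) j M ≃ₗ[R]
      ((((Ext R (ModuleCat.{u} R) k).obj (op (ModuleCat.of R M))).obj (ModuleCat.of R K))
        →ₗ[R] E)) := by
  obtain ⟨e1⟩ := nonempty_duality n hn hdepth E K
    (eK.trans (lcEquiv (maximalIdeal R) (ModuleCat.of R R) n)) k j hjk M
  have e2 : LocCoh.H (maximalIdeal R) j M ≃ₗ[R] HH (maximalIdeal R) (ModuleCat.of R M) j :=
    lcEquiv (maximalIdeal R) (ModuleCat.of R M) j
  have e3 : (((Ext R (ModuleCat.{u} R) k).obj (op (ModuleCat.of R M))).obj (ModuleCat.of R K))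
      ≃ₗ[R] Abelian.Ext.{u} (ModuleCat.of R M) (ModuleCat.of R K) k :=
    LCBridge.extBridge (ModuleCat.of R M) (ModuleCat.of R K) k
  exact ⟨e2.trans (e1.trans (LinearEquiv.arrowCongr e3.symm (LinearEquiv.refl R E)))⟩

/-- top local cohomology of a finite module via a canonical module. -/
theorem nonempty_H_top_equiv_ddual (n : ℕ) (hn : ringKrullDim R = n)
    (E : Type u) [AddCommGroup E] [Module R E] [Module.Injective R E]
    (K : Type u) [AddCommGroup K] [Module R K]
    (eK : (K →ₗ[R] E) ≃ₗ[R] LocCoh.H (maximalIdeal R) n R)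
    (M : Type u) [AddCommGroup M] [Module R M] [Module.Finite R M] :
    Nonempty (LocCoh.H (maximalIdeal R) n M ≃ₗ[R] ((M →ₗ[R] K) →ₗ[R] E)) := by
  obtain ⟨η, _⟩ := exists_top_natIso n hn E K
    (eK.trans (lcEquiv (maximalIdeal R) (ModuleCat.of R R) n))
  exact ⟨(lcEquiv (maximalIdeal R) (ModuleCat.of R M) n).trans (η M)⟩

lemma HH_self_subsingleton_of_cm (hcm : Module.supportDim R R = ((LocCoh.depth R R : ℕ∞) : WithBot ℕ∞))
    (n : ℕ) (hn : ringKrullDim R = n) (j : ℕ) (hj : j < n) :
    Subsingleton (HH (maximalIdeal R) (ModuleCat.of R R) j) := by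
  apply HH.subsingleton_of_lt_idealDepth (I := maximalIdeal R) R j
  change (j : ℕ∞) < LocCoh.depth R R
  rw [Module.supportDim_self_eq_ringKrullDim, hn] at hcm
  have h2 : LocCoh.depth R R = n := by exact_mod_cast hcm.symm
  rw [h2]
  exact_mod_cast hj

end general

section regular

variable (A : Type u) [CommRing A] [IsRegularLocalRing A]

/-- local duality for a regular local ring. -/
theorem nonempty_H_equiv_dual_ext_regular (r : ℕ) (hr : ringKrullDim A = r)
    (E : Type u) [AddCommGroup E] [Module A E] (f : ResidueField A →ₗ[A] E)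
    (hf : InjHull.IsInjectiveHull f) (M : Type u) [AddCommGroup M] [Module A M]
    [Module.Finite A M] (i : ℕ) (hi : i ≤ r) :
    Nonempty (LocCoh.H (maximalIdeal A) i M ≃ₗ[A]
      ((((Ext A (ModuleCat.{u} A) (r - i)).obj (op (ModuleCat.of A M))).obj (ModuleCat.of A A))
        →ₗ[A] E)) := by
  haveI := hf.isInjective
  obtain ⟨g, hg⟩ := exists_isInjectiveHull_H_top A r hr
  obtain ⟨e, _⟩ := Groth.Agent.S0302.result A (ResidueField A) E
    (LocCoh.H (maximalIdeal A) r A) f hf g hg
  have eK : (A →ₗ[A] E) ≃ₗ[A] LocCoh.H (maximalIdeal A) r A :=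
    (LinearMap.ringLmapEquivSelf A A E).trans e
  exact nonempty_H_equiv_dual_ext r hr (fun j hj => HH_self_subsingleton_of_lt A r hr j hj) E A eK
    M (r - i) i (by omega)

end regular

end Groth.Agent.Lib.Helper4.LC
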