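import Groth.Agent.Lib.Helper4.LCModel
import Groth.Prelude.Def_DRing3
import Groth.Prelude.Def_Wider

/-!
# Local cohomology via the direct-limit model: long exact sequence, `H^0`, injectives
-/

set_option autoImplicit false
set_option linter.style.haveILetI false
set_option linter.unusedSectionVars false
set_option linter.unusedVariables false
set_option maxHeartbeats 400000

open CategoryTheory Limits Opposite Abelian

universe u

namespace Groth.Agent.Lib.Helper4.LC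

variable {R : Type u} [CommRing R] (I : Ideal R)

/-! ### composition with an `Ext` class -/

section comp

variable {M M' : ModuleCat.{u} R} {k : ℕ} (β : Ext.{u} M M' k) (i j : ℕ) (hij : i + k = j)

/-- postcomposition with `β` at the `n`-th stage. -/
noncomputable def compF (n : ℕ) : Ext.{u} (Q I n) M i →ₗ[R] Ext.{u} (Q I n) M' j :=
  Ext.postcompOfLinear β R (Q I n) hij

lemma compF_apply (n : ℕ) (x : Ext.{u} (Q I n) M i) : compF I β i j hij n x = x.comp β hij := rfl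

lemma compF_comm (n m : ℕ) (h : n ≤ m) :
    compF I β i j hij m ∘ₗ trF I M i n m h = trF I M' j n m h ∘ₗ compF I β i j hij n := by
  apply LinearMap.ext
  intro x
  change ((Ext.mk₀ (qmap I h)).comp x (zero_add i)).comp β hij =
    (Ext.mk₀ (qmap I h)).comp (x.comp β hij) (zero_add j)
  exact Ext.comp_assoc (Ext.mk₀ (qmap I h)) x β (zero_add i) hij (by omega)

/-- postcomposition with an `Ext` class on the model. -/
noncomputable def HH.comp : HH I M i →ₗ[R] HH I M' j :=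
  Module.DirectLimit.map (f := trF I M i) (f' := trF I M' j) (compF I β i j hij)
    (compF_comm I β i j hij)

lemma HH.comp_of (n : ℕ) (y : Ext.{u} (Q I n) M i) :
    HH.comp I β i j hij (HH.of I M i n y) = HH.of I M' j n (y.comp β hij) :=
  Module.DirectLimit.map_apply_of (f := trF I M i) (f' := trF I M' j) (compF I β i j hij)
    (compF_comm I β i j hij) y

end comp

section mapLemmas

variable {M M' M'' : ModuleCat.{u} R}

lemma HH.map_id (i : ℕ) (x : HH I M i) : HH.map I (𝟙 M) i x = x := by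
  obtain ⟨n, y, rfl⟩ := HH.exists_of I M i x
  rw [HH.map_of, Ext.comp_mk₀_id]

lemma HH.map_comp (g : M ⟶ M') (g' : M' ⟶ M'') (i : ℕ) (x : HH I M i) :
    HH.map I (g ≫ g') i x = HH.map I g' i (HH.map I g i x) := by
  obtain ⟨n, y, rfl⟩ := HH.exists_of I M i x
  rw [HH.map_of, HH.map_of, HH.map_of, Ext.comp_assoc_of_third_deg_zero, Ext.mk₀_comp_mk₀]

lemma HH.map_zero' (i : ℕ) (x : HH I M i) : HH.map I (0 : M ⟶ M') i x = 0 := by
  obtain ⟨n, y, rfl⟩ := HH.exists_of I M i x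
  rw [HH.map_of, Ext.mk₀_zero, Ext.comp_zero, map_zero]

/-- an isomorphism of modules induces an isomorphism on the model. -/
noncomputable def HH.mapIso (e : M ≅ M') (i : ℕ) : HH I M i ≃ₗ[R] HH I M' i :=
  LinearEquiv.ofLinear (HH.map I e.hom i) (HH.map I e.inv i)
    (by
      apply LinearMap.ext
      intro x
      change HH.map I e.hom i (HH.map I e.inv i x) = x
      rw [← HH.map_comp, e.inv_hom_id, HH.map_id])
    (by
      apply LinearMap.ext
      intro x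
      change HH.map I e.inv i (HH.map I e.hom i x) = x
      rw [← HH.map_comp, e.hom_inv_id, HH.map_id])

lemma HH.smul_eq_map (i : ℕ) (r : R) (x : HH I M i) : r • x = HH.map I (r • 𝟙 M) i x := by
  obtain ⟨n, y, rfl⟩ := HH.exists_of I M i x
  rw [HH.map_of, ← Ext.smul_eq_comp_mk₀, map_smul]

end mapLemmas

/-! ### The long exact sequence -/

section LES

variable {S : ShortComplex (ModuleCat.{u} R)} (hS : S.ShortExact) (i : ℕ)

/-- the connecting homomorphism. -/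
noncomputable def HH.δ : HH I S.X₃ i →ₗ[R] HH I S.X₁ (i + 1) :=
  HH.comp I hS.extClass i (i + 1) rfl

lemma HH.δ_of (n : ℕ) (y : Ext.{u} (Q I n) S.X₃ i) :
    HH.δ I hS i (HH.of I S.X₃ i n y) = HH.of I S.X₁ (i + 1) n (y.comp hS.extClass rfl) :=
  HH.comp_of I hS.extClass i (i + 1) rfl n y

lemma HH.map_g_map_f (x : HH I S.X₁ i) : HH.map I S.g i (HH.map I S.f i x) = 0 := by
  rw [← HH.map_comp, S.zero, HH.map_zero']

lemma HH.δ_map_g (x : HH I S.X₂ i) : HH.δ I hS i (HH.map I S.g i x) = 0 := by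
  obtain ⟨n, y, rfl⟩ := HH.exists_of I S.X₂ i x
  rw [HH.map_of, HH.δ_of, Ext.comp_assoc_of_second_deg_zero, hS.comp_extClass, Ext.comp_zero,
    map_zero]

lemma HH.map_f_δ (x : HH I S.X₃ i) : HH.map I S.f (i + 1) (HH.δ I hS i x) = 0 := by
  obtain ⟨n, y, rfl⟩ := HH.exists_of I S.X₃ i x
  rw [HH.δ_of, HH.map_of, Ext.comp_assoc_of_third_deg_zero, hS.extClass_comp, Ext.comp_zero,
    map_zero]

include hS in
lemma HH.exact₂ (x₂ : HH I S.X₂ i) (h : HH.map I S.g i x₂ = 0) :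
    ∃ x₁, HH.map I S.f i x₁ = x₂ := by
  obtain ⟨n, y, rfl⟩ := HH.exists_of I S.X₂ i x₂
  rw [HH.map_of, HH.of_eq_zero_iff] at h
  obtain ⟨m, hnm, h0⟩ := h
  have h1 : (tr I S.X₂ i hnm y).comp (Ext.mk₀ S.g) (add_zero i) = 0 := by
    rw [← h0]
    exact congrArg (fun f => f y) (postF_comm I S.g i n m hnm)
  obtain ⟨x₁, hx₁⟩ := Ext.covariant_sequence_exact₂ (Q I m) hS (tr I S.X₂ i hnm y) h1
  refine ⟨HH.of I S.X₁ i m x₁, ?_⟩
  rw [HH.map_of, hx₁, HH.of_tr]

lemma HH.exact₃ (x₃ : HH I S.X₃ i) (h : HH.δ I hS i x₃ = 0) :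
    ∃ x₂, HH.map I S.g i x₂ = x₃ := by
  obtain ⟨n, y, rfl⟩ := HH.exists_of I S.X₃ i x₃
  rw [HH.δ_of, HH.of_eq_zero_iff] at h
  obtain ⟨m, hnm, h0⟩ := h
  have h1 : (tr I S.X₃ i hnm y).comp hS.extClass rfl = 0 := by
    rw [← h0]
    exact congrArg (fun f => f y) (compF_comm I hS.extClass i (i + 1) rfl n m hnm)
  obtain ⟨x₂, hx₂⟩ := Ext.covariant_sequence_exact₃ (Q I m) hS (tr I S.X₃ i hnm y) rfl h1
  refine ⟨HH.of I S.X₂ i m x₂, ?_⟩
  rw [HH.map_of, hx₂, HH.of_tr]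

lemma HH.exact₁ (x₁ : HH I S.X₁ (i + 1)) (h : HH.map I S.f (i + 1) x₁ = 0) :
    ∃ x₃, HH.δ I hS i x₃ = x₁ := by
  obtain ⟨n, y, rfl⟩ := HH.exists_of I S.X₁ (i + 1) x₁
  rw [HH.map_of, HH.of_eq_zero_iff] at h
  obtain ⟨m, hnm, h0⟩ := h
  have h1 : (tr I S.X₁ (i + 1) hnm y).comp (Ext.mk₀ S.f) (add_zero (i + 1)) = 0 := by
    rw [← h0]
    exact congrArg (fun f => f y) (postF_comm I S.f (i + 1) n m hnm)
  obtain ⟨x₃, hx₃⟩ := Ext.covariant_sequence_exact₁ (Q I m) hS (tr I S.X₁ (i + 1) hnm y) h1 rfl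
  refine ⟨HH.of I S.X₃ i m x₃, ?_⟩
  rw [HH.δ_of, hx₃, HH.of_tr]

include hS in
lemma HH.map_f_injective_zero : Function.Injective (HH.map I S.f 0) := by
  rw [injective_iff_map_eq_zero]
  intro x hx
  obtain ⟨n, y, rfl⟩ := HH.exists_of I S.X₁ 0 x
  rw [HH.map_of, HH.of_eq_zero_iff] at hx
  obtain ⟨m, hnm, h0⟩ := hx
  have h1 : (tr I S.X₁ 0 hnm y).comp (Ext.mk₀ S.f) (add_zero 0) = 0 := by
    rw [← h0]
    exact congrArg (fun f => f y) (postF_comm I S.f 0 n m hnm)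
  have := hS.mono_f
  have h2 : tr I S.X₁ 0 hnm y = 0 :=
    Ext.postcomp_mk₀_injective_of_mono (Q I m) S.f (by
      change (tr I S.X₁ 0 hnm y).comp (Ext.mk₀ S.f) (add_zero 0) =
        (0 : Ext.{u} (Q I m) S.X₁ 0).comp (Ext.mk₀ S.f) (add_zero 0)
      rw [h1, Ext.zero_comp])
  rw [← HH.of_tr I S.X₁ 0 hnm, h2, map_zero]

/-! consequences -/

include hS in
lemma HH.subsingleton_X₂ (h1 : Subsingleton (HH I S.X₁ i)) (h3 : Subsingleton (HH I S.X₃ i)) :
    Subsingleton (HH I S.X₂ i) := by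
  refine ⟨fun a b => ?_⟩
  have key : ∀ x : HH I S.X₂ i, x = 0 := by
    intro x
    obtain ⟨x₁, rfl⟩ := HH.exact₂ I hS i x (Subsingleton.elim _ _)
    rw [Subsingleton.elim x₁ 0, map_zero]
  rw [key a, key b]

include hS in
lemma HH.subsingleton_X₃ (h2 : Subsingleton (HH I S.X₂ i))
    (h1 : Subsingleton (HH I S.X₁ (i + 1))) : Subsingleton (HH I S.X₃ i) := by
  refine ⟨fun a b => ?_⟩
  have key : ∀ x : HH I S.X₃ i, x = 0 := by
    intro x
    obtain ⟨x₂, rfl⟩ := HH.exact₃ I hS i x (Subsingleton.elim _ _)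
    rw [Subsingleton.elim x₂ 0, map_zero]
  rw [key a, key b]

include hS in
lemma HH.subsingleton_X₁_succ (h2 : Subsingleton (HH I S.X₂ (i + 1)))
    (h3 : Subsingleton (HH I S.X₃ i)) : Subsingleton (HH I S.X₁ (i + 1)) := by
  refine ⟨fun a b => ?_⟩
  have key : ∀ x : HH I S.X₁ (i + 1), x = 0 := by
    intro x
    obtain ⟨x₃, rfl⟩ := HH.exact₁ I hS i x (Subsingleton.elim _ _)
    rw [Subsingleton.elim x₃ 0, map_zero]
  rw [key a, key b]

include hS in
lemma HH.subsingleton_X₁_zero (h2 : Subsingleton (HH I S.X₂ 0)) : Subsingleton (HH I S.X₁ 0) :=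
  (HH.map_f_injective_zero I hS).subsingleton

include hS in
/-- `δ` is injective if `H^i(X₂) = 0`. -/
lemma HH.δ_injective (h2 : Subsingleton (HH I S.X₂ i)) : Function.Injective (HH.δ I hS i) := by
  rw [injective_iff_map_eq_zero]
  intro x hx
  obtain ⟨x₂, rfl⟩ := HH.exact₃ I hS i x hx
  rw [Subsingleton.elim x₂ 0, map_zero]

include hS in
/-- `δ` is surjective if `H^{i+1}(X₂) = 0`. -/
lemma HH.δ_surjective (h2 : Subsingleton (HH I S.X₂ (i + 1))) :
    Function.Surjective (HH.δ I hS i) := by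
  intro x
  exact HH.exact₁ I hS i x (Subsingleton.elim _ _)

include hS in
/-- `H^i(g)` is surjective if `H^{i+1}(X₁) = 0`. -/
lemma HH.map_g_surjective (h1 : Subsingleton (HH I S.X₁ (i + 1))) :
    Function.Surjective (HH.map I S.g i) := by
  intro x
  exact HH.exact₃ I hS i x (Subsingleton.elim _ _)

include hS in
/-- `H^{i+1}(f)` is injective if `H^i(X₃) = 0`. -/
lemma HH.map_f_injective_succ (h3 : Subsingleton (HH I S.X₃ i)) :
    Function.Injective (HH.map I S.f (i + 1)) := by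
  rw [injective_iff_map_eq_zero]
  intro x hx
  obtain ⟨x₃, rfl⟩ := HH.exact₁ I hS i x hx
  rw [Subsingleton.elim x₃ 0, map_zero]

include hS in
/-- `H^i(f)` is surjective if `H^i(X₃) = 0`. -/
lemma HH.map_f_surjective (h3 : Subsingleton (HH I S.X₃ i)) :
    Function.Surjective (HH.map I S.f i) := by
  intro x
  exact HH.exact₂ I hS i x (Subsingleton.elim _ _)

include hS in
/-- `H^i(g)` is injective if `H^i(X₁) = 0`. -/
lemma HH.map_g_injective (h1 : Subsingleton (HH I S.X₁ i)) :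
    Function.Injective (HH.map I S.g i) := by
  rw [injective_iff_map_eq_zero]
  intro x hx
  obtain ⟨x₁, rfl⟩ := HH.exact₂ I hS i x hx
  rw [Subsingleton.elim x₁ 0, map_zero]

end LES

/-! ### Injective modules -/

lemma HH.subsingleton_of_injective (J : ModuleCat.{u} R) [Injective J] (i : ℕ) :
    Subsingleton (HH I J (i + 1)) := by
  refine ⟨fun a b => ?_⟩
  have key : ∀ x : HH I J (i + 1), x = 0 := by
    intro x
    obtain ⟨n, y, rfl⟩ := HH.exists_of I J (i + 1) x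
    rw [Ext.eq_zero_of_injective y, map_zero]
  rw [key a, key b]

/-! ### Degree zero -/

section H0

variable (M : ModuleCat.{u} R)

/-- evaluation at `1` of a class of degree zero. -/
noncomputable def ev0 (n : ℕ) : Ext.{u} (Q I n) M 0 →ₗ[R] M :=
  (LinearMap.applyₗ (Submodule.Quotient.mk (1 : R) : R ⧸ I ^ n)) ∘ₗ
    (ModuleCat.homLinearEquiv (S := R) (M := Q I n) (N := M)).toLinearMap ∘ₗ
      (Ext.linearEquiv₀ (R := R) (X := Q I n) (Y := M)).toLinearMap

lemma ev0_mk₀ (n : ℕ) (φ : Q I n ⟶ M) :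
    ev0 I M n (Ext.mk₀ φ) = φ.hom (Submodule.Quotient.mk (1 : R)) := by
  have h : Ext.linearEquiv₀ (R := R) (Ext.mk₀ φ) = φ :=
    (Ext.linearEquiv₀ (R := R) (X := Q I n) (Y := M)).apply_symm_apply φ
  change (Ext.linearEquiv₀ (R := R) (Ext.mk₀ φ)).hom _ = _
  rw [h]

lemma ev0_tr {n m : ℕ} (h : n ≤ m) (y : Ext.{u} (Q I n) M 0) :
    ev0 I M m (tr I M 0 h y) = ev0 I M n y := by
  obtain ⟨φ, rfl⟩ := (Ext.mk₀_bijective (Q I n) M).2 y
  rw [tr_apply, Ext.mk₀_comp_mk₀, ev0_mk₀, ev0_mk₀]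
  rfl

lemma ev0_injective (n : ℕ) : Function.Injective (ev0 I M n) := by
  rw [injective_iff_map_eq_zero]
  intro y hy
  obtain ⟨φ, rfl⟩ := (Ext.mk₀_bijective (Q I n) M).2 y
  rw [ev0_mk₀] at hy
  have : φ = 0 := by
    apply ModuleCat.hom_ext
    apply LinearMap.ext
    intro x
    obtain ⟨r, rfl⟩ := Submodule.Quotient.mk_surjective _ x
    have h1 : (Submodule.Quotient.mk r : R ⧸ I ^ n) = r • Submodule.Quotient.mk (1 : R) := by
      rw [← Submodule.Quotient.mk_smul, smul_eq_mul, mul_one]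
    rw [h1, map_smul, hy, smul_zero]
    rfl
  rw [this, Ext.mk₀_zero]

lemma smul_ev0_eq_zero (n : ℕ) (y : Ext.{u} (Q I n) M 0) (a : R) (ha : a ∈ I ^ n) :
    a • ev0 I M n y = 0 := by
  obtain ⟨φ, rfl⟩ := (Ext.mk₀_bijective (Q I n) M).2 y
  rw [ev0_mk₀, ← map_smul, ← Submodule.Quotient.mk_smul, smul_eq_mul, mul_one,
    (Submodule.Quotient.mk_eq_zero _).2 ha, map_zero]

lemma exists_ev0_eq (n : ℕ) (x : M) (hx : ∀ a ∈ I ^ n, a • x = 0) :
    ∃ y, ev0 I M n y = x := by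
  let φ : (R ⧸ I ^ n) →ₗ[R] M :=
    Submodule.liftQ (I ^ n) (LinearMap.toSpanSingleton R M x) (by
      intro a ha
      rw [LinearMap.mem_ker, LinearMap.toSpanSingleton_apply]
      exact hx a ha)
  refine ⟨Ext.mk₀ (ModuleCat.ofHom φ), ?_⟩
  rw [ev0_mk₀]
  change φ (Submodule.Quotient.mk 1) = x
  rw [Submodule.liftQ_apply, LinearMap.toSpanSingleton_apply, one_smul]

/-- the map `H^0_I(M) → M`. -/
noncomputable def HH0 : HH I M 0 →ₗ[R] M :=
  Module.DirectLimit.lift R ℕ (fun n : ℕ => Ext.{u} (Q I n) M 0) (trF I M 0) (ev0 I M)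
    (fun n m h y => ev0_tr I M h y)

lemma HH0_of (n : ℕ) (y : Ext.{u} (Q I n) M 0) : HH0 I M (HH.of I M 0 n y) = ev0 I M n y :=
  Module.DirectLimit.lift_of (f := trF I M 0) (ev0 I M) (fun n m h y => ev0_tr I M h y) y

lemma HH0_injective : Function.Injective (HH0 I M) :=
  Module.DirectLimit.lift_injective (f := trF I M 0) (ev0 I M) (fun n m h y => ev0_tr I M h y)
    (ev0_injective I M)

lemma HH0_mem (x : HH I M 0) : HH0 I M x ∈ DRing.torsionSub I M := by
  obtain ⟨n, y, rfl⟩ := HH.exists_of I M 0 x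
  rw [HH0_of]
  exact ⟨n, fun a ha => smul_ev0_eq_zero I M n y a ha⟩

/-- `H^0_I(M) ≅ Γ_I(M)`. -/
noncomputable def HH0Equiv : HH I M 0 ≃ₗ[R] DRing.torsionSub I M :=
  LinearEquiv.ofBijective (LinearMap.codRestrict (DRing.torsionSub I M) (HH0 I M) (HH0_mem I M))
    ⟨fun a b h => HH0_injective I M (congrArg Subtype.val h), by
      rintro ⟨x, n, hx⟩
      obtain ⟨y, hy⟩ := exists_ev0_eq I M n x hx
      exact ⟨HH.of I M 0 n y, Subtype.ext (by
        change HH0 I M (HH.of I M 0 n y) = x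
        rw [HH0_of, hy])⟩⟩

lemma HH0Equiv_apply (x : HH I M 0) : (HH0Equiv I M x : M) = HH0 I M x := rfl

variable {M} in
lemma HH0_map {M' : ModuleCat.{u} R} (g : M ⟶ M') (x : HH I M 0) :
    HH0 I M' (HH.map I g 0 x) = g.hom (HH0 I M x) := by
  obtain ⟨n, y, rfl⟩ := HH.exists_of I M 0 x
  obtain ⟨φ, rfl⟩ := (Ext.mk₀_bijective (Q I n) M).2 y
  rw [HH.map_of, HH0_of, HH0_of, Ext.mk₀_comp_mk₀, ev0_mk₀, ev0_mk₀]
  rfl

lemma HH0_subsingleton_iff : Subsingleton (HH I M 0) ↔ DRing.torsionSub I M = ⊥ := by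
  rw [(HH0Equiv I M).toEquiv.subsingleton_congr, Submodule.subsingleton_iff_eq_bot]

end H0

end Groth.Agent.Lib.Helper4.LC
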