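import Mathlib
import Groth.Agent.Lib.Helper4.LC3
import Groth.Agent.Lib.Helper4.Depth
import Groth.Agent.Lib.Helper20.LCFinite

/-!
# Annihilation of local cohomology by powers of an ideal (helper4)

`Kills b N`: some power of `b` kills `N`.  `KK a b M n`: `Kills b (H^i_a(M))` for all `i ≤ n`.
Behaviour under short exact sequences, `M ↦ M/Γ_c(M)` and `M ↦ M/xM`.
-/

set_option autoImplicit false
set_option linter.style.haveILetI false
set_option linter.unusedSectionVars false
set_option linter.unusedVariables false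
set_option maxHeartbeats 400000

open CategoryTheory Limits Opposite Abelian Pointwise

universe u

namespace Groth.Agent.Lib.Helper4.Falt

open Groth.Agent.Lib.Helper4.LC Groth.Agent.Lib.Helper20

variable {R : Type u} [CommRing R]

/-- some power of `b` kills the module `N`. -/
def Kills (b : Ideal R) (N : Type*) [AddCommGroup N] [Module R N] : Prop :=
  ∃ k : ℕ, ∀ r ∈ b ^ k, ∀ y : N, r • y = 0

namespace Kills

variable {b c : Ideal R} {N N' N'' : Type*} [AddCommGroup N] [Module R N] [AddCommGroup N']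
  [Module R N'] [AddCommGroup N''] [Module R N'']

lemma of_le (h : c ≤ b) (hN : Kills b N) : Kills c N := by
  obtain ⟨k, hk⟩ := hN
  exact ⟨k, fun r hr y => hk r (Ideal.pow_right_mono h k hr) y⟩

lemma of_injective (f : N →ₗ[R] N') (hf : Function.Injective f) (h : Kills b N') : Kills b N := by
  obtain ⟨k, hk⟩ := h
  exact ⟨k, fun r hr y => hf (by rw [map_smul, hk r hr, map_zero])⟩

lemma of_surjective (f : N →ₗ[R] N') (hf : Function.Surjective f) (h : Kills b N) :
    Kills b N' := by
  obtain ⟨k, hk⟩ := h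
  refine ⟨k, fun r hr y => ?_⟩
  obtain ⟨x, rfl⟩ := hf y
  rw [← map_smul, hk r hr, map_zero]

lemma of_exact (f : N →ₗ[R] N') (g : N' →ₗ[R] N'') (hfg : ∀ y, g y = 0 → ∃ x, f x = y)
    (h1 : Kills b N) (h3 : Kills b N'') : Kills b N' := by
  obtain ⟨k1, hk1⟩ := h1
  obtain ⟨k3, hk3⟩ := h3
  refine ⟨k1 + k3, fun r hr y => ?_⟩
  rw [pow_add] at hr
  refine Submodule.mul_induction_on (C := fun r => r • y = 0) hr ?_ ?_
  · intro r1 hr1 r3 hr3
    obtain ⟨x, hx⟩ := hfg (r3 • y) (by rw [map_smul, hk3 r3 hr3])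
    change (r1 * r3) • y = 0
    rw [mul_smul, ← hx, ← map_smul, hk1 r1 hr1, map_zero]
  · intro r s hr hs
    change (r + s) • y = 0
    rw [add_smul, hr, hs, add_zero]

lemma of_subsingleton [Subsingleton N] : Kills b N := ⟨0, fun _ _ _ => Subsingleton.elim _ _⟩

lemma iff_le_radical_annihilator [IsNoetherianRing R] :
    Kills b N ↔ b ≤ (Module.annihilator R N).radical := by
  constructor
  · rintro ⟨k, hk⟩ x hx
    refine Ideal.mem_radical_iff.mpr ⟨k, ?_⟩
    rw [Module.mem_annihilator]
    exact fun y => hk _ (Ideal.pow_mem_pow hx k) y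
  · intro h
    obtain ⟨k, hk⟩ := Ideal.exists_pow_le_of_le_radical_of_fg h (IsNoetherian.noetherian b)
    exact ⟨k, fun r hr y => Module.mem_annihilator.mp (hk hr) y⟩

end Kills

section HHlevel

variable (a b : Ideal R)

lemma smul_HH_eq_zero (M : ModuleCat.{u} R) (i : ℕ) (r : R) (hr : ∀ m : M, r • m = 0)
    (y : HH a M i) : r • y = 0 := by
  rw [HH.smul_eq_map]
  have h0 : (r • 𝟙 M : M ⟶ M) = 0 := by
    ext m
    exact hr m
  rw [h0, HH.map_zero']

lemma kills_HH_of_module (M : ModuleCat.{u} R) (i : ℕ) (k : ℕ)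
    (hk : ∀ r ∈ b ^ k, ∀ m : M, r • m = 0) : Kills b (HH a M i) :=
  ⟨k, fun r hr y => smul_HH_eq_zero a M i r (hk r hr) y⟩

variable {S : ShortComplex (ModuleCat.{u} R)} (hS : S.ShortExact)

include hS in
lemma kills_X₃ (i : ℕ) (h2 : Kills b (HH a S.X₂ i)) (h1 : Kills b (HH a S.X₁ (i + 1))) :
    Kills b (HH a S.X₃ i) :=
  Kills.of_exact (HH.map a S.g i) (HH.δ a hS i) (fun y hy => HH.exact₃ a hS i y hy) h2 h1

include hS in
lemma kills_X₂ (i : ℕ) (h1 : Kills b (HH a S.X₁ i)) (h3 : Kills b (HH a S.X₃ i)) :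
    Kills b (HH a S.X₂ i) :=
  Kills.of_exact (HH.map a S.f i) (HH.map a S.g i) (fun y hy => HH.exact₂ a hS i y hy) h1 h3

end HHlevel

/-- `b`-power annihilation of `H^i_a(M)` for all `i ≤ n`. -/
def KK (a b : Ideal R) (M : Type u) [AddCommGroup M] [Module R M] (n : ℕ) : Prop :=
  ∀ i : ℕ, i ≤ n → Kills b (HH a (ModuleCat.of R M) i)

lemma KK.mono {a b : Ideal R} {M : Type u} [AddCommGroup M] [Module R M] {n m : ℕ}
    (h : KK a b M n) (hmn : m ≤ n) : KK a b M m := fun i hi => h i (hi.trans hmn)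

lemma KK.of_le {a b c : Ideal R} {M : Type u} [AddCommGroup M] [Module R M] {n : ℕ}
    (h : KK a b M n) (hcb : c ≤ b) : KK a c M n := fun i hi => (h i hi).of_le hcb

section torsion

variable [IsNoetherianRing R]

/-- a finitely generated submodule consisting of `c`-power torsion elements is killed by a power
of `c`. -/
lemma exists_pow_smul_eq_zero_of_fg (c : Ideal R) {N : Type u} [AddCommGroup N] [Module R N]
    (P : Submodule R N) (hP : P.FG) (h : ∀ p ∈ P, p ∈ DRing.torsionSub c N) :
    ∃ l : ℕ, ∀ r ∈ c ^ l, ∀ p ∈ P, r • p = 0 := by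
  classical
  obtain ⟨s, rfl⟩ := hP
  have h' : ∀ p : N, p ∈ s → ∃ e : ℕ, ∀ r ∈ c ^ e, r • p = 0 :=
    fun p hp => h p (Submodule.subset_span hp)
  choose! e he using h'
  refine ⟨s.sup e, fun r hr p hp => ?_⟩
  induction hp using Submodule.span_induction with
  | mem x hx => exact he x hx r (Ideal.pow_le_pow_right (Finset.le_sup hx) hr)
  | zero => simp
  | add x y _ _ hx hy => rw [smul_add, hx, hy, add_zero]
  | smul t x _ hx => rw [smul_comm, hx, smul_zero]

variable (c : Ideal R) (M : Type u) [AddCommGroup M] [Module R M] [Module.Finite R M]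

lemma exists_pow_smul_torsionSub :
    ∃ e : ℕ, ∀ r ∈ c ^ e, ∀ y : DRing.torsionSub c M, r • y = 0 := by
  haveI : IsNoetherian R M := isNoetherian_of_isNoetherianRing_of_finite R M
  obtain ⟨e, he⟩ := exists_pow_smul_eq_zero_of_fg c (DRing.torsionSub c M)
    (IsNoetherian.noetherian _) (fun _ h => h)
  exact ⟨e, fun r hr y => Subtype.ext (he r hr y.1 y.2)⟩

/-- elements of `Γ_c(M)` die in `M_p` when `c ⊄ p`. -/
lemma torsionSub_local (p : Ideal R) [hp : p.IsPrime] (hcp : ¬ c ≤ p) :
    ∀ n ∈ DRing.torsionSub c M, ∃ u : R, u ∉ p ∧ u • n = 0 := by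
  obtain ⟨z, hzc, hzp⟩ := SetLike.not_le_iff_exists.1 hcp
  rintro n ⟨k, hk⟩
  exact ⟨z ^ k, fun h => hzp (hp.mem_of_pow_mem k h), hk _ (Ideal.pow_mem_pow hzc k)⟩

/-- `Ass(M/Γ_c(M)) ⊆ {P ∈ Ass M | c ⊄ P}`. -/
lemma assoc_quot_torsionSub (P : Ideal R)
    (hP : P ∈ associatedPrimes R (M ⧸ DRing.torsionSub c M)) :
    P ∈ associatedPrimes R M ∧ ¬ c ≤ P := by
  obtain ⟨hPp, x, hx⟩ := isAssociatedPrime_iff.1 (AssociatedPrimes.mem_iff.1 hP)
  obtain ⟨m, rfl⟩ := Submodule.mkQ_surjective _ x
  have hmem : ∀ r : R, r ∈ P ↔ r • m ∈ DRing.torsionSub c M := by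
    intro r
    rw [hx, Submodule.mem_colon_singleton, Submodule.mem_bot, ← map_smul, Submodule.mkQ_apply,
      Submodule.Quotient.mk_eq_zero]
  have hcP : ¬ c ≤ P := by
    intro hc
    have h0 : (DRing.torsionSub c M).mkQ m ∈
        DRing.torsionSub c (M ⧸ DRing.torsionSub c M) := by
      refine ⟨1, fun r hr => ?_⟩
      rw [pow_one] at hr
      have := hc hr
      rw [hx, Submodule.mem_colon_singleton, Submodule.mem_bot] at this
      exact this
    rw [LCFinite.torsionSub_quotient_eq_bot, Submodule.mem_bot] at h0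
    apply hPp.ne_top
    rw [hx, h0, eq_top_iff]
    intro r _
    rw [Submodule.mem_colon_singleton, smul_zero]
    exact Submodule.zero_mem _
  refine ⟨?_, hcP⟩
  have hWfg : (P • Submodule.span R {m} : Submodule R M).FG :=
    Submodule.FG.smul (IsNoetherian.noetherian P) (Submodule.fg_span_singleton m)
  have hWt : ∀ w ∈ (P • Submodule.span R {m} : Submodule R M), w ∈ DRing.torsionSub c M := by
    intro w hw
    refine Submodule.smul_induction_on hw ?_ ?_
    · intro r hr y hy
      obtain ⟨t, rfl⟩ := Submodule.mem_span_singleton.1 hy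
      rw [smul_comm]
      exact Submodule.smul_mem _ t ((hmem r).1 hr)
    · intro y z hy hz
      exact Submodule.add_mem _ hy hz
  obtain ⟨l, hl⟩ := exists_pow_smul_eq_zero_of_fg c _ hWfg hWt
  obtain ⟨z, hzc, hzP⟩ := SetLike.not_le_iff_exists.1 hcP
  have hyc : z ^ l ∈ c ^ l := Ideal.pow_mem_pow hzc l
  have hyP : z ^ l ∉ P := fun h => hzP (hPp.mem_of_pow_mem l h)
  rw [AssociatedPrimes.mem_iff, isAssociatedPrime_iff]
  refine ⟨hPp, z ^ l • m, ?_⟩
  ext r
  rw [Submodule.mem_colon_singleton, Submodule.mem_bot]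
  constructor
  · intro hr
    rw [smul_comm]
    exact hl _ hyc (r • m) (Submodule.smul_mem_smul hr (Submodule.mem_span_singleton_self m))
  · intro hr
    have h1 : (r * z ^ l) • m ∈ DRing.torsionSub c M := by
      rw [mul_smul, hr]
      exact Submodule.zero_mem _
    have h2 := (hmem (r * z ^ l)).2 h1
    exact (hPp.mem_or_mem h2).resolve_right hyP

end torsion

section loc

variable {M : Type u} [AddCommGroup M] [Module R M]

/-- `M_p ≅ (M/N)_p` when every element of `N` dies in `M_p`. -/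
noncomputable def locQuotEquiv (p : Ideal R) [p.IsPrime] (N : Submodule R M)
    (hN : ∀ n ∈ N, ∃ u : R, u ∉ p ∧ u • n = 0) :
    LocalizedModule p.primeCompl M ≃ₗ[Localization.AtPrime p]
      LocalizedModule p.primeCompl (M ⧸ N) :=
  (LinearEquiv.ofBijective
    (IsLocalizedModule.map p.primeCompl (LocalizedModule.mkLinearMap p.primeCompl M)
      (LocalizedModule.mkLinearMap p.primeCompl (M ⧸ N)) N.mkQ)
    ⟨by
      apply IsLocalizedModule.injective_of_map_zero p.primeCompl
        (LocalizedModule.mkLinearMap p.primeCompl M)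
      intro m hm
      rw [IsLocalizedModule.map_apply, IsLocalizedModule.eq_zero_iff p.primeCompl] at hm
      obtain ⟨s, hs⟩ := hm
      have h1 : (s : R) • m ∈ N := by
        have h2 : N.mkQ ((s : R) • m) = 0 := by
          rw [map_smul]
          exact hs
        exact (Submodule.Quotient.mk_eq_zero N).1 h2
      obtain ⟨u, hu, hu0⟩ := hN _ h1
      rw [IsLocalizedModule.eq_zero_iff p.primeCompl]
      refine ⟨(⟨u, hu⟩ : p.primeCompl) * s, ?_⟩
      rw [mul_smul]
      exact hu0,
     IsLocalizedModule.map_surjective _ _ _ _ (Submodule.mkQ_surjective N)⟩).extendScalarsOfIsLocalization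
      p.primeCompl (Localization.AtPrime p)

lemma depth_quot_eq (p : Ideal R) [p.IsPrime] (N : Submodule R M)
    (hN : ∀ n ∈ N, ∃ u : R, u ∉ p ∧ u • n = 0) :
    LocCoh.depth (Localization.AtPrime p) (LocalizedModule p.primeCompl (M ⧸ N)) =
      LocCoh.depth (Localization.AtPrime p) (LocalizedModule p.primeCompl M) := by
  unfold LocCoh.depth
  exact (Groth.Agent.Lib.Helper4.idealDepth_congr _ (locQuotEquiv p N hN)).symm

end loc

section transfer

variable [IsNoetherianRing R] (a b c : Ideal R) (M : Type u) [AddCommGroup M] [Module R M]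
  [Module.Finite R M]

/-- all `H^i_a(Γ_c(M))` are killed by a power of `b ≤ c`. -/
lemma kills_HH_torsionSub (hbc : b ≤ c) (i : ℕ) :
    Kills b (HH a (ModuleCat.of R (DRing.torsionSub c M)) i) := by
  obtain ⟨e, he⟩ := exists_pow_smul_torsionSub c M
  exact kills_HH_of_module a b _ i e (fun r hr m => he r (Ideal.pow_right_mono hbc e hr) m)

lemma kills_quot_torsionSub_of_kills (hbc : b ≤ c) (i : ℕ)
    (h : Kills b (HH a (ModuleCat.of R M) i)) :
    Kills b (HH a (ModuleCat.of R (M ⧸ DRing.torsionSub c M)) i) :=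
  kills_X₃ a b (LCFinite.torSES_shortExact c M) i h (kills_HH_torsionSub a b c M hbc (i + 1))

lemma kills_of_kills_quot_torsionSub (hbc : b ≤ c) (i : ℕ)
    (h : Kills b (HH a (ModuleCat.of R (M ⧸ DRing.torsionSub c M)) i)) :
    Kills b (HH a (ModuleCat.of R M) i) :=
  kills_X₂ a b (LCFinite.torSES_shortExact c M) i (kills_HH_torsionSub a b c M hbc i) h

lemma KK.quot_torsionSub (hbc : b ≤ c) (n : ℕ) (h : KK a b M n) :
    KK a b (M ⧸ DRing.torsionSub c M) n :=
  fun i hi => kills_quot_torsionSub_of_kills a b c M hbc i (h i hi)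

omit [Module.Finite R M] in
/-- the sequence `0 → M → M → M/xM → 0` for an `M`-regular `x`. -/
lemma smulSES_shortExact (x : R) (hx : IsSMulRegular M x) :
    (sesOf (LinearMap.lsmul R M x) (x • (⊤ : Submodule R M)).mkQ
      (LinearMap.exact_lsmul_mkQ_smul_top M x)).ShortExact :=
  sesOf_shortExact _ _ _ hx (Submodule.mkQ_surjective _)

omit [Module.Finite R M] in
lemma KK.quotSMulTop (x : R) (hx : IsSMulRegular M x) (n : ℕ) (h : KK a b M (n + 1)) :
    KK a b (QuotSMulTop x M) n :=
  fun i hi => kills_X₃ a b (smulSES_shortExact M x hx) i (h i (Nat.le_succ_of_le hi))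
    (h (i + 1) (Nat.succ_le_succ hi))

end transfer

section translate

variable [IsNoetherianRing R]

lemma not_le_radical_of_not_kills (a b : Ideal R) (M : Type u) [AddCommGroup M] [Module R M]
    (i : ℕ) (h : ¬ Kills b (HH a (ModuleCat.of R M) i)) :
    ¬ b ≤ (Module.annihilator R (LocCoh.H a i M)).radical := by
  intro hle
  apply h
  have h1 : Kills b (LocCoh.H a i M) := Kills.iff_le_radical_annihilator.2 hle
  exact Kills.of_surjective (lcEquiv a (ModuleCat.of R M) i).toLinearMap
    (lcEquiv a (ModuleCat.of R M) i).surjective h1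

lemma kills_iff_le_radical (a b : Ideal R) (M : Type u) [AddCommGroup M] [Module R M] (i : ℕ) :
    Kills b (HH a (ModuleCat.of R M) i) ↔
      b ≤ (Module.annihilator R (LocCoh.H a i M)).radical := by
  constructor
  · intro h
    rw [← Kills.iff_le_radical_annihilator]
    exact Kills.of_surjective (lcEquiv a (ModuleCat.of R M) i).symm.toLinearMap
      (lcEquiv a (ModuleCat.of R M) i).symm.surjective h
  · intro hle
    by_contra h
    exact not_le_radical_of_not_kills a b M i h hle

end translate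

end Groth.Agent.Lib.Helper4.Falt
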