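import Mathlib
import Groth.Agent.Lib.Helper4.Depth
import Groth.Agent.Lib.Helper4.FaltKills
import Groth.Agent.Lib.Helper20.LCIndep2
import Groth.Prelude.Def_W4bk5brsh7111920

/-!
# Change of rings along a surjection for adjusted depths and finiteness dimensions (helper4)

For a surjective ring map `S → R` and an `R`-module `M`: depth of the localizations, the heights
`ht((a+p)/p)`, the `b`-minimum `a`-adjusted depth, and annihilation of local cohomology can be
computed over `S` or over `R`.
-/

set_option autoImplicit false
set_option linter.style.haveILetI false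
set_option linter.unusedSectionVars false
set_option linter.unusedVariables false
set_option maxHeartbeats 400000

open CategoryTheory Limits Opposite Abelian Pointwise

universe u

namespace Groth.Agent.Lib.Helper4.Falt

open Groth.Agent.Lib.Helper4 Groth.Agent.Lib.Helper4.LC Groth.Agent.Lib.Helper20 IsLocalRing

section depthSurj

variable {A A' : Type*} [CommRing A] [CommRing A'] [IsLocalRing A] [IsLocalRing A'] [Algebra A A']
  [IsLocalHom (algebraMap A A')]

/-- the depth of a module over a local ring can be computed over any local ring surjecting onto it. -/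
theorem depth_eq_of_surjective (hsurj : Function.Surjective (algebraMap A A'))
    (N : Type*) [AddCommGroup N] [Module A N] [Module A' N] [IsScalarTower A A' N] :
    LocCoh.depth A N = LocCoh.depth A' N := by
  unfold LocCoh.depth
  have hmem : ∀ a : A, algebraMap A A' a ∈ maximalIdeal A' ↔ a ∈ maximalIdeal A := by
    intro a
    rw [IsLocalRing.mem_maximalIdeal, IsLocalRing.mem_maximalIdeal, mem_nonunits_iff,
      mem_nonunits_iff]
    exact not_congr (isUnit_map_iff (algebraMap A A') a)
  have hcar : ∀ x : N, x ∈ maximalIdeal A • (⊤ : Submodule A N) ↔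
      x ∈ maximalIdeal A' • (⊤ : Submodule A' N) := by
    intro x
    constructor
    · intro hx
      refine Submodule.smul_induction_on hx ?_ ?_
      · intro a ha n _
        rw [← algebraMap_smul A' a n]
        exact Submodule.smul_mem_smul ((hmem a).2 ha) Submodule.mem_top
      · intro y z hy hz
        exact add_mem hy hz
    · intro hx
      refine Submodule.smul_induction_on hx ?_ ?_
      · intro a' ha' n _
        obtain ⟨a, rfl⟩ := hsurj a'
        rw [algebraMap_smul]
        exact Submodule.smul_mem_smul ((hmem a).1 ha') Submodule.mem_top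
      · intro y z hy hz
        exact add_mem hy hz
  have htop : maximalIdeal A • (⊤ : Submodule A N) = ⊤ ↔
      maximalIdeal A' • (⊤ : Submodule A' N) = ⊤ := by
    constructor
    · intro h
      rw [eq_top_iff]
      intro x _
      exact (hcar x).1 (by rw [h]; exact Submodule.mem_top)
    · intro h
      rw [eq_top_iff]
      intro x _
      exact (hcar x).2 (by rw [h]; exact Submodule.mem_top)
  by_cases h : maximalIdeal A • (⊤ : Submodule A N) = ⊤
  · rw [idealDepth_of_smul_top_eq _ h, idealDepth_of_smul_top_eq _ (htop.1 h)]
  · rw [idealDepth_of_smul_top_ne _ h, idealDepth_of_smul_top_ne _ (fun h' => h (htop.2 h'))]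
    apply le_antisymm
    · refine iSup₂_le fun rs hrs => ?_
      refine le_iSup₂_of_le (rs.map (algebraMap A A'))
        ⟨(RingTheory.Sequence.isWeaklyRegular_map_algebraMap_iff A' N rs).2 hrs.1, ?_⟩
        (by rw [List.length_map])
      intro r hr
      obtain ⟨a, ha, rfl⟩ := List.mem_map.1 hr
      exact (hmem a).2 (hrs.2 a ha)
    · refine iSup₂_le fun rs' hrs' => ?_
      obtain ⟨rs, rfl⟩ : ∃ rs : List A, rs.map (algebraMap A A') = rs' :=
        (List.map_surjective_iff.2 hsurj) rs'
      refine le_iSup₂_of_le rs
        ⟨(RingTheory.Sequence.isWeaklyRegular_map_algebraMap_iff A' N rs).1 hrs'.1, ?_⟩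
        (by rw [List.length_map])
      intro r hr
      exact (hmem r).1 (hrs'.2 _ (List.mem_map_of_mem hr))

end depthSurj

section loc

variable {S R : Type u} [CommRing S] [CommRing R] [Algebra S R]
  (hsurj : Function.Surjective (algebraMap S R))
  (M : Type u) [AddCommGroup M] [Module S M] [Module R M] [IsScalarTower S R M]

include hsurj in
/-- `depth_{S_P} M_P = depth_{R_p} M_p` for `P` the preimage of `p`. -/
theorem depth_localization_comap (p : Ideal R) [p.IsPrime] :
    LocCoh.depth (Localization.AtPrime (p.comap (algebraMap S R)))
      (LocalizedModule (p.comap (algebraMap S R)).primeCompl M) =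
    LocCoh.depth (Localization.AtPrime p) (LocalizedModule p.primeCompl M) := by
  set P := p.comap (algebraMap S R) with hP
  letI : Algebra (Localization.AtPrime P) (Localization.AtPrime p) :=
    (Localization.localRingHom P p (algebraMap S R) rfl).toAlgebra
  haveI : IsLocalHom (algebraMap (Localization.AtPrime P) (Localization.AtPrime p)) :=
    Localization.isLocalHom_localRingHom P p (algebraMap S R) rfl
  have hsurj' : Function.Surjective
      (algebraMap (Localization.AtPrime P) (Localization.AtPrime p)) := by
    intro z
    obtain ⟨r, t, rfl⟩ := IsLocalization.exists_mk'_eq p.primeCompl z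
    obtain ⟨s, rfl⟩ := hsurj r
    obtain ⟨u, hu⟩ := hsurj (t : R)
    have huP : u ∈ P.primeCompl := by
      show u ∉ P
      rw [hP, Ideal.mem_comap, hu]
      exact t.2
    refine ⟨IsLocalization.mk' _ s ⟨u, huP⟩, ?_⟩
    change Localization.localRingHom P p (algebraMap S R) rfl _ = _
    rw [Localization.localRingHom_mk']
    congr 1
    exact Subtype.ext hu
  letI modSPN' : Module (Localization.AtPrime P) (LocalizedModule p.primeCompl M) :=
    Module.compHom (LocalizedModule p.primeCompl M)
      (algebraMap (Localization.AtPrime P) (Localization.AtPrime p))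
  haveI : IsScalarTower (Localization.AtPrime P) (Localization.AtPrime p)
      (LocalizedModule p.primeCompl M) :=
    IsScalarTower.of_algebraMap_smul (fun _ _ => rfl)
  haveI : IsScalarTower S (Localization.AtPrime P) (LocalizedModule p.primeCompl M) := by
    refine IsScalarTower.of_algebraMap_smul (fun s n => ?_)
    rw [← algebraMap_smul R s n]
    change (Localization.localRingHom P p (algebraMap S R) rfl
      (algebraMap S (Localization.AtPrime P) s)) • n = (algebraMap S R s) • n
    rw [Localization.localRingHom_to_map, algebraMap_smul]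
  have hsub : Algebra.algebraMapSubmonoid R P.primeCompl = p.primeCompl := by
    ext r
    constructor
    · rintro ⟨s, hs, rfl⟩
      exact hs
    · intro hr
      obtain ⟨s, rfl⟩ := hsurj r
      exact ⟨s, hr, rfl⟩
  haveI hloc : IsLocalizedModule (Algebra.algebraMapSubmonoid R P.primeCompl)
      (LocalizedModule.mkLinearMap p.primeCompl M) := by
    rw [hsub]
    infer_instance
  haveI := IsLocalizedModule.restrictScalars (R := S) (A := R) P.primeCompl
    (LocalizedModule.mkLinearMap p.primeCompl M)
  let e0 : LocalizedModule P.primeCompl M ≃ₗ[S] LocalizedModule p.primeCompl M :=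
    IsLocalizedModule.iso P.primeCompl
      ((LocalizedModule.mkLinearMap p.primeCompl M).restrictScalars S)
  let e : LocalizedModule P.primeCompl M ≃ₗ[Localization.AtPrime P]
      LocalizedModule p.primeCompl M :=
    e0.extendScalarsOfIsLocalization P.primeCompl (Localization.AtPrime P)
  have h1 : LocCoh.depth (Localization.AtPrime P) (LocalizedModule P.primeCompl M) =
      LocCoh.depth (Localization.AtPrime P) (LocalizedModule p.primeCompl M) := by
    unfold LocCoh.depth
    exact idealDepth_congr _ e
  rw [h1]
  exact depth_eq_of_surjective hsurj' (LocalizedModule p.primeCompl M)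

include hsurj in
/-- `ht((a+P)/P) = ht((aR+p)/p)` for `P` the preimage of `p`. -/
theorem height_map_comap (p : Ideal R) [p.IsPrime] (a : Ideal S) :
    ((a ⊔ p.comap (algebraMap S R)).map
      (Ideal.Quotient.mk (p.comap (algebraMap S R)))).height =
    ((a.map (algebraMap S R) ⊔ p).map (Ideal.Quotient.mk p)).height := by
  set P := p.comap (algebraMap S R) with hP
  let f : S ⧸ P →+* R ⧸ p := Ideal.quotientMap p (algebraMap S R) le_rfl
  have hf : Function.Bijective f :=
    ⟨Ideal.quotientMap_injective, Ideal.quotientMap_surjective hsurj⟩
  let e : S ⧸ P ≃+* R ⧸ p := RingEquiv.ofBijective f hf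
  have h1 := RingEquiv.height_map e ((a ⊔ P).map (Ideal.Quotient.mk P))
  rw [← h1]
  congr 1
  change Ideal.map f (Ideal.map (Ideal.Quotient.mk P) (a ⊔ P)) = _
  rw [Ideal.map_map, Ideal.quotientMap_comp_mk, ← Ideal.map_map, Ideal.map_sup,
    Ideal.map_comap_of_surjective _ hsurj]

include hsurj in
/-- the adjusted depth at `p` over `R` equals the adjusted depth at its preimage over `S`. -/
theorem adjDepth_comap (a : Ideal S) (p : PrimeSpectrum R) :
    LocCoh.adjDepth a M (PrimeSpectrum.comap (algebraMap S R) p) =
      LocCoh.adjDepth (a.map (algebraMap S R)) M p := by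
  unfold LocCoh.adjDepth
  change LocCoh.depth (Localization.AtPrime (p.asIdeal.comap (algebraMap S R)))
      (LocalizedModule (p.asIdeal.comap (algebraMap S R)).primeCompl M) +
    ((a ⊔ p.asIdeal.comap (algebraMap S R)).map
      (Ideal.Quotient.mk (p.asIdeal.comap (algebraMap S R)))).height = _
  rw [depth_localization_comap hsurj M p.asIdeal, height_map_comap hsurj p.asIdeal a]

include hsurj in
/-- the `b`-minimum `a`-adjusted depth can be computed over `S` or over its quotient `R`. -/
theorem minAdjDepth_eq_of_surjective (a b : Ideal S) :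
    LocCoh.minAdjDepth a b M =
      LocCoh.minAdjDepth (a.map (algebraMap S R)) (b.map (algebraMap S R)) M := by
  unfold LocCoh.minAdjDepth
  apply le_antisymm
  · refine le_iInf₂ fun p hp => ?_
    have hp' : ¬ b ≤ (PrimeSpectrum.comap (algebraMap S R) p).asIdeal :=
      fun h => hp (Ideal.map_le_iff_le_comap.2 h)
    rw [← adjDepth_comap hsurj M a p]
    exact iInf₂_le (f := fun (q : PrimeSpectrum S) (_ : ¬ b ≤ q.asIdeal) => LocCoh.adjDepth a M q)
      (PrimeSpectrum.comap (algebraMap S R) p) hp'
  · refine le_iInf₂ fun P hP => ?_
    by_cases hker : RingHom.ker (algebraMap S R) ≤ P.asIdeal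
    · have hPrime : (P.asIdeal.map (algebraMap S R)).IsPrime :=
        Ideal.map_isPrime_of_surjective hsurj hker
      let p : PrimeSpectrum R := ⟨P.asIdeal.map (algebraMap S R), hPrime⟩
      have hcomap : PrimeSpectrum.comap (algebraMap S R) p = P := by
        apply PrimeSpectrum.ext
        change (P.asIdeal.map (algebraMap S R)).comap (algebraMap S R) = P.asIdeal
        rw [Ideal.comap_map_of_surjective _ hsurj]
        exact sup_eq_left.mpr hker
      have hp : ¬ b.map (algebraMap S R) ≤ p.asIdeal := by
        intro h
        apply hP
        have h2 := Ideal.map_le_iff_le_comap.1 h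
        rw [← hcomap]
        exact h2
      rw [← hcomap, adjDepth_comap hsurj M a p]
      exact iInf₂_le p hp
    · obtain ⟨s, hsker, hsP⟩ := SetLike.not_le_iff_exists.1 hker
      have hsub : Subsingleton (LocalizedModule P.asIdeal.primeCompl M) := by
        rw [LocalizedModule.subsingleton_iff]
        intro m
        refine ⟨s, hsP, ?_⟩
        rw [← algebraMap_smul R s m, (RingHom.mem_ker).1 hsker, zero_smul]
      have htop : LocCoh.adjDepth a M P = ⊤ := by
        unfold LocCoh.adjDepth
        rw [depth_eq_top_of_subsingleton (R := Localization.AtPrime P.asIdeal)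
          (M := LocalizedModule P.asIdeal.primeCompl M), top_add]
      rw [htop]
      exact le_top

variable [IsNoetherianRing S] [IsNoetherianRing R]

include hsurj in
/-- annihilation of `H^i_a(M)` by a power of `b` over `S` gives the same over `R`. -/
theorem kills_map_of_kills (a b : Ideal S) (i : ℕ)
    (h : Kills b (HH a (ModuleCat.of S M) i)) :
    Kills (b.map (algebraMap S R))
      (HH (a.map (algebraMap S R)) (ModuleCat.of R M) i) := by
  obtain ⟨φ, hφ⟩ := LCIndep2.exists_addEquiv R a M i
  obtain ⟨k, hk⟩ := h
  refine ⟨k, fun r hr y => ?_⟩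
  rw [← Ideal.map_pow] at hr
  obtain ⟨s, hs, rfl⟩ := (Ideal.mem_map_iff_of_surjective _ hsurj).1 hr
  apply φ.injective
  rw [hφ, hk s hs, map_zero]

include hsurj in
theorem finDimRel_le_of_surjective (a b : Ideal S) :
    LocCoh.finDimRel a b M ≤
      LocCoh.finDimRel (a.map (algebraMap S R)) (b.map (algebraMap S R)) M := by
  unfold LocCoh.finDimRel
  refine le_iInf₂ fun i hi => ?_
  refine iInf₂_le i ?_
  intro hle
  apply hi
  rw [← kills_iff_le_radical] at hle ⊢
  exact kills_map_of_kills hsurj M a b i hle

end loc

end Groth.Agent.Lib.Helper4.Falt
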