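import Mathlib
import Groth.Prelude.Def_SGA2

/-!
# The codimension function `SGA2.relCodim`
-/

set_option autoImplicit false

universe u

namespace Groth.Agent.Lib.Helper4

variable {A : Type u} [CommRing A]

/-- The height of `q` in the poset `Set.Ici p` of primes above `p` is the height of the image of
`q` in `A ⧸ p`. -/
theorem height_Ici_eq (p q : PrimeSpectrum A) (hpq : p ≤ q) :
    Order.height (⟨q, hpq⟩ : Set.Ici p) =
      (q.asIdeal.map (Ideal.Quotient.mk p.asIdeal)).height := by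
  have hset : PrimeSpectrum.zeroLocus (p.asIdeal : Set A) = Set.Ici p := by
    ext q
    rw [PrimeSpectrum.mem_zeroLocus, Set.mem_Ici, SetLike.coe_subset_coe,
      PrimeSpectrum.asIdeal_le_asIdeal]
  let e := p.asIdeal.primeSpectrumQuotientOrderIsoZeroLocus
  let e' := OrderIso.setCongr _ _ hset
  have hq : q ∈ PrimeSpectrum.zeroLocus (p.asIdeal : Set A) := by rw [hset]; exact hpq
  have h1 : Order.height (e' ⟨q, hq⟩) =
      Order.height (⟨q, hq⟩ : PrimeSpectrum.zeroLocus (p.asIdeal : Set A)) :=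
    Order.height_orderIso e' _
  have h2 : Order.height (e (e.symm ⟨q, hq⟩)) = Order.height (e.symm ⟨q, hq⟩) :=
    Order.height_orderIso e _
  rw [e.apply_symm_apply] at h2
  have h3 : (e.symm ⟨q, hq⟩).asIdeal = q.asIdeal.map (Ideal.Quotient.mk p.asIdeal) := rfl
  have h4 := PrimeSpectrum.height_eq_orderHeight (e.symm ⟨q, hq⟩)
  have h5 : e' ⟨q, hq⟩ = (⟨q, hpq⟩ : Set.Ici p) := rfl
  rw [← h5, h1, h2, ← h4, h3]

/-- `1 ≤ c(p)` when `p ⊉ I`. -/
theorem one_le_relCodim (I : Ideal A) (p : PrimeSpectrum A) (hp : ¬ I ≤ p.asIdeal) :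
    1 ≤ SGA2.relCodim I p := by
  unfold SGA2.relCodim
  refine le_iInf fun q => ?_
  obtain ⟨q, hpq, hIq⟩ := q
  have hne : p ≠ q := by rintro rfl; exact hp hIq
  have hlt : (⟨p, le_refl p⟩ : Set.Ici p) < ⟨q, hpq⟩ :=
    lt_of_le_of_ne (show (⟨p, le_refl p⟩ : Set.Ici p) ≤ ⟨q, hpq⟩ from hpq)
      (fun h => hne (congrArg Subtype.val h))
  exact le_trans le_add_self (Order.height_add_one_le hlt)

/-- If `c(p) = c` is finite and `p ⊉ I`, there is a prime `p' ⊇ p`, `p' ⊉ I` with `c(p') = 1`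
and `ht(p'/p) + 1 = c`. -/
theorem exists_relCodim_eq_one (I : Ideal A) (p : PrimeSpectrum A) (hp : ¬ I ≤ p.asIdeal) (c : ℕ)
    (hc : SGA2.relCodim I p = c) :
    ∃ (p' : PrimeSpectrum A) (hpp' : p ≤ p'), ¬ I ≤ p'.asIdeal ∧ SGA2.relCodim I p' = 1 ∧
      Order.height (⟨p', hpp'⟩ : Set.Ici p) + 1 = c := by
  classical
  have hc1' := one_le_relCodim I p hp
  rw [hc] at hc1'
  have hc1 : 1 ≤ c := by exact_mod_cast hc1'
  have hcdef : (⨅ q : {q : PrimeSpectrum A // p ≤ q ∧ I ≤ q.asIdeal},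
      Order.height (⟨q.1, q.2.1⟩ : Set.Ici p)) = c := hc
  have hne : Nonempty {q : PrimeSpectrum A // p ≤ q ∧ I ≤ q.asIdeal} := by
    by_contra hemp
    rw [not_nonempty_iff] at hemp
    rw [iInf_of_empty] at hcdef
    exact ENat.top_ne_coe c hcdef
  obtain ⟨⟨q, hpq, hIq⟩, hq⟩ := ENat.exists_eq_iInf
    (fun q : {q : PrimeSpectrum A // p ≤ q ∧ I ≤ q.asIdeal} =>
      Order.height (⟨q.1, q.2.1⟩ : Set.Ici p))
  rw [hcdef] at hq
  have hq' : Order.height (⟨q, hpq⟩ : Set.Ici p) = c := hq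
  have hfin : Order.height (⟨q, hpq⟩ : Set.Ici p) < ⊤ := by
    rw [hq']; exact ENat.coe_lt_top c
  have hlt : ((c - 1 : ℕ) : ℕ∞) < Order.height (⟨q, hpq⟩ : Set.Ici p) := by
    rw [hq']; exact_mod_cast (by omega : c - 1 < c)
  obtain ⟨y, hyq, hy⟩ := (Order.coe_lt_height_iff hfin).mp hlt
  obtain ⟨p', hpp'⟩ := y
  have hht : Order.height (⟨p', hpp'⟩ : Set.Ici p) + 1 = c := by
    rw [hy]; exact_mod_cast (by omega : c - 1 + 1 = c)
  have hIp' : ¬ I ≤ p'.asIdeal := by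
    intro hIp'
    have h1 : (⨅ q : {q : PrimeSpectrum A // p ≤ q ∧ I ≤ q.asIdeal},
        Order.height (⟨q.1, q.2.1⟩ : Set.Ici p)) ≤ Order.height (⟨p', hpp'⟩ : Set.Ici p) :=
      iInf_le (fun q : {q : PrimeSpectrum A // p ≤ q ∧ I ≤ q.asIdeal} =>
        Order.height (⟨q.1, q.2.1⟩ : Set.Ici p)) ⟨p', hpp', hIp'⟩
    rw [hcdef, hy] at h1
    have h2 : c ≤ c - 1 := by exact_mod_cast h1
    omega
  have hp'q : p' ≤ q := le_of_lt hyq
  refine ⟨p', hpp', hIp', le_antisymm ?_ (one_le_relCodim I p' hIp'), hht⟩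
  unfold SGA2.relCodim
  refine le_trans (iInf_le (fun q : {q : PrimeSpectrum A // p' ≤ q ∧ I ≤ q.asIdeal} =>
        Order.height (⟨q.1, q.2.1⟩ : Set.Ici p')) ⟨q, hp'q, hIq⟩) ?_
  change Order.height (⟨q, hp'q⟩ : Set.Ici p') ≤ ((1 : ℕ) : ℕ∞)
  rw [Order.height_le_coe_iff]
  intro z hz
  obtain ⟨z, hp'z⟩ := z
  have hzq : z < q := hz
  suffices hmin : IsMin (⟨z, hp'z⟩ : Set.Ici p') by
    rw [Order.height_eq_zero.mpr hmin]; exact_mod_cast Nat.zero_lt_one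
  have hzeq : z = p' := by
    by_contra hne
    have hp'z' : p' < z := lt_of_le_of_ne hp'z (fun h => hne h.symm)
    have hpz : p ≤ z := le_trans hpp' hp'z
    have e1 : Order.height (⟨p', hpp'⟩ : Set.Ici p) + 1 ≤ Order.height (⟨z, hpz⟩ : Set.Ici p) :=
      Order.height_add_one_le (show (⟨p', hpp'⟩ : Set.Ici p) < ⟨z, hpz⟩ from hp'z')
    have e2 : Order.height (⟨z, hpz⟩ : Set.Ici p) + 1 ≤ Order.height (⟨q, hpq⟩ : Set.Ici p) :=
      Order.height_add_one_le (show (⟨z, hpz⟩ : Set.Ici p) < ⟨q, hpq⟩ from hzq)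
    rw [hq'] at e2
    rw [hht] at e1
    have e3 : (c : ℕ∞) + 1 ≤ c := le_trans (add_le_add_left e1 1) e2
    have e4 : c + 1 ≤ c := by exact_mod_cast e3
    omega
  intro w hw
  obtain ⟨w, hp'w⟩ := w
  have hwz : w ≤ z := hw
  show (⟨z, hp'z⟩ : Set.Ici p') ≤ ⟨w, hp'w⟩
  change z ≤ w
  rw [hzeq]; exact hp'w

end Groth.Agent.Lib.Helper4
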