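import Mathlib
import Groth.Agent.Lib.Helper4.LC3

/-!
# `Ext` commutes with localization (finite modules over Noetherian rings)
-/

set_option autoImplicit false
set_option linter.style.haveILetI false
set_option linter.unusedSectionVars false
set_option linter.unusedVariables false
set_option maxHeartbeats 800000

open CategoryTheory Limits Opposite Abelian

universe u

namespace Groth.Agent.Lib.Helper4.ExtLoc

open Groth.Agent.Lib.Helper4.LC

variable {R : Type u} [CommRing R] (S : Submonoid R)

/-- the localization functor. -/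
noncomputable abbrev LF : ModuleCat.{u} R ⥤ ModuleCat.{u} (Localization S) :=
  ModuleCat.localizedModuleFunctor.{u} S

lemma map_mk {M N : ModuleCat.{u} R} (f : M ⟶ N) (x : M) :
    (ModuleCat.localizedModuleMap S f).hom (M.localizedModuleMkLinearMap S x) =
      N.localizedModuleMkLinearMap S (f.hom x) := by
  change IsLocalizedModule.mapExtendScalars S (M.localizedModuleMkLinearMap S)
    (N.localizedModuleMkLinearMap S) (Localization S) f.hom (M.localizedModuleMkLinearMap S x) = _
  rw [IsLocalizedModule.mapExtendScalars_apply_apply, IsLocalizedModule.map_apply]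

lemma hom_ext_mk {M : ModuleCat.{u} R} {X : ModuleCat.{u} (Localization S)}
    (g₁ g₂ : M.localizedModule S ⟶ X)
    (h : ∀ x : M, g₁.hom (M.localizedModuleMkLinearMap S x) =
      g₂.hom (M.localizedModuleMkLinearMap S x)) : g₁ = g₂ := by
  apply ModuleCat.hom_ext
  apply LinearMap.ext
  intro y
  obtain ⟨⟨m, s⟩, hms⟩ := IsLocalizedModule.surj S (M.localizedModuleMkLinearMap S) y
  have hu : IsUnit (algebraMap R (Localization S) (s : R)) := IsLocalization.map_units _ s
  have hy : algebraMap R (Localization S) (s : R) • y = M.localizedModuleMkLinearMap S m := by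
    rw [algebraMap_smul]
    exact hms
  apply hu.smul_left_cancel.1
  rw [← map_smul, ← map_smul, hy]
  exact h m

lemma map_smul_id (N : ModuleCat.{u} R) (r : R) :
    ModuleCat.localizedModuleMap S (r • 𝟙 N) =
      algebraMap R (Localization S) r • 𝟙 (N.localizedModule S) := by
  apply hom_ext_mk
  intro x
  rw [map_mk]
  change N.localizedModuleMkLinearMap S (r • x) =
    algebraMap R (Localization S) r • N.localizedModuleMkLinearMap S x
  rw [map_smul, algebraMap_smul]

lemma Phi_smul {M N : ModuleCat.{u} R} {i : ℕ} (r : R) (e : Ext M N i) :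
    (r • e).mapExactFunctor (LF S) =
      algebraMap R (Localization S) r • e.mapExactFunctor (LF S) := by
  rw [Ext.smul_eq_comp_mk₀, Ext.mapExactFunctor_comp, Ext.mapExactFunctor_mk₀,
    Ext.smul_eq_comp_mk₀]
  congr 2
  exact map_smul_id S N r

lemma Phi_eq_zero_of_smul {M N : ModuleCat.{u} R} {i : ℕ} (e : Ext M N i) (s : S)
    (h : (s : R) • e = 0) : e.mapExactFunctor (LF S) = 0 := by
  have hu : IsUnit (algebraMap R (Localization S) (s : R)) := IsLocalization.map_units _ s
  have h1 := Phi_smul S (s : R) e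
  rw [h, Ext.mapExactFunctor_zero] at h1
  exact (hu.smul_eq_zero).1 h1.symm

lemma Phi_mk₀_comp {X Y N : ModuleCat.{u} R} (f : X ⟶ Y) {i : ℕ} (e : Ext Y N i) :
    ((Ext.mk₀ f).comp e (zero_add i)).mapExactFunctor (LF S) =
      (Ext.mk₀ ((LF S).map f)).comp (e.mapExactFunctor (LF S)) (zero_add i) := by
  rw [Ext.mapExactFunctor_comp, Ext.mapExactFunctor_mk₀]

lemma exists_delta {T : ShortComplex (ModuleCat.{u} R)} (hT : T.ShortExact)
    (N : ModuleCat.{u} R) (i : ℕ) :
    ∃ δ' : Ext ((LF S).obj T.X₃) ((LF S).obj T.X₁) 1,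
      hT.extClass.mapExactFunctor (LF S) = δ' ∧
      (∀ y : Ext ((LF S).obj T.X₃) ((LF S).obj N) (i + 1),
        (Ext.mk₀ ((LF S).map T.g)).comp y (zero_add (i + 1)) = 0 →
        ∃ z : Ext ((LF S).obj T.X₁) ((LF S).obj N) i, δ'.comp z (add_comm 1 i) = y) ∧
      (∀ z : Ext ((LF S).obj T.X₁) ((LF S).obj N) i, δ'.comp z (add_comm 1 i) = 0 →
        ∃ w : Ext ((LF S).obj T.X₂) ((LF S).obj N) i,
          (Ext.mk₀ ((LF S).map T.f)).comp w (zero_add i) = z) :=
  ⟨(hT.map_of_exact (LF S)).extClass, Ext.mapExactFunctor_extClass (LF S) hT,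
   fun y hy => Ext.contravariant_sequence_exact₃ (hT.map_of_exact (LF S)) _ y hy (add_comm 1 i),
   fun z hz => Ext.contravariant_sequence_exact₁ (hT.map_of_exact (LF S)) _ z (add_comm 1 i) hz⟩

/-- surjectivity-up-to-denominators property. -/
def PS (N : ModuleCat.{u} R) (i : ℕ) (M : ModuleCat.{u} R) : Prop :=
  ∀ y : Ext ((LF S).obj M) ((LF S).obj N) i, ∃ (e : Ext M N i) (s : S),
    algebraMap R (Localization S) (s : R) • y = e.mapExactFunctor (LF S)

/-- injectivity-up-to-torsion property. -/
def PI (N : ModuleCat.{u} R) (i : ℕ) (M : ModuleCat.{u} R) : Prop :=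
  ∀ e : Ext M N i, e.mapExactFunctor (LF S) = 0 → ∃ s : S, (s : R) • e = 0

lemma step {T : ShortComplex (ModuleCat.{u} R)} (hT : T.ShortExact) [Projective T.X₂]
    (N : ModuleCat.{u} R) (i : ℕ) (h1s : PS S N i T.X₁) (h1i : PI S N i T.X₁)
    (h2s : PS S N i T.X₂) : PS S N (i + 1) T.X₃ ∧ PI S N (i + 1) T.X₃ := by
  obtain ⟨δ', hδ, ex3, ex1⟩ := exists_delta S hT N i
  have hP' : Projective ((LF S).obj T.X₂) := (LF S).projective_obj T.X₂
  have hΦδ : ∀ e : Ext T.X₁ N i, (hT.extClass.comp e (add_comm 1 i)).mapExactFunctor (LF S) =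
      δ'.comp (e.mapExactFunctor (LF S)) (add_comm 1 i) := by
    intro e
    rw [Ext.mapExactFunctor_comp, hδ]
  constructor
  · intro y
    obtain ⟨z, hz⟩ := ex3 y (Ext.eq_zero_of_projective _)
    obtain ⟨e, s, hes⟩ := h1s z
    refine ⟨hT.extClass.comp e (add_comm 1 i), s, ?_⟩
    rw [hΦδ, ← hes, Ext.comp_smul, hz]
  · intro e he
    have h0 : (Ext.mk₀ T.g).comp e (zero_add (i + 1)) = 0 := Ext.eq_zero_of_projective _
    obtain ⟨e', he'⟩ := Ext.contravariant_sequence_exact₃ hT _ e h0 (add_comm 1 i)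
    have h1 : δ'.comp (e'.mapExactFunctor (LF S)) (add_comm 1 i) = 0 := by
      rw [← hΦδ, he', he]
    obtain ⟨w, hw⟩ := ex1 _ h1
    obtain ⟨w₀, t, hw₀⟩ := h2s w
    have h2 : ((t : R) • e' - (Ext.mk₀ T.f).comp w₀ (zero_add i)).mapExactFunctor (LF S)
        = 0 := by
      have := map_sub ((LF S).mapExtAddHom T.X₁ N i) ((t : R) • e')
        ((Ext.mk₀ T.f).comp w₀ (zero_add i))
      simp only [Functor.mapExtAddHom_apply] at this
      rw [this, Phi_smul, Phi_mk₀_comp, ← hw₀, Ext.comp_smul, hw]
      exact sub_self _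
    obtain ⟨s, hs⟩ := h1i _ h2
    refine ⟨s * t, ?_⟩
    rw [smul_sub, sub_eq_zero] at hs
    rw [← he', ← Ext.comp_smul, Submonoid.coe_mul, mul_smul, hs, Ext.comp_smul,
      hT.extClass_comp_assoc, smul_zero]

lemma zero_surj [IsNoetherianRing R] (N : ModuleCat.{u} R)
    (M : Type u) [AddCommGroup M] [Module R M] [Module.Finite R M]
    (g : (ModuleCat.of R M).localizedModule S ⟶ N.localizedModule S) :
    ∃ (h : ModuleCat.of R M ⟶ N) (s : S),
      algebraMap R (Localization S) (s : R) • g = ModuleCat.localizedModuleMap S h := by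
  have hfp : Module.FinitePresentation R M := Module.finitePresentation_of_finite R M
  obtain ⟨h, s, hs⟩ := Module.FinitePresentation.exists_lift_of_isLocalizedModule S
    (N.localizedModuleMkLinearMap S)
    ((g.hom.restrictScalars R).comp ((ModuleCat.of R M).localizedModuleMkLinearMap S))
  refine ⟨ModuleCat.ofHom h, s, ?_⟩
  apply hom_ext_mk
  intro x
  rw [map_mk]
  have h1 : N.localizedModuleMkLinearMap S (h x) =
      (s : R) • g.hom ((ModuleCat.of R M).localizedModuleMkLinearMap S x) := by
    have := LinearMap.congr_fun hs x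
    rw [LinearMap.smul_apply, Submonoid.smul_def] at this
    exact this
  change algebraMap R (Localization S) (s : R) •
    g.hom ((ModuleCat.of R M).localizedModuleMkLinearMap S x) =
    N.localizedModuleMkLinearMap S (h x)
  rw [algebraMap_smul, ← h1]

lemma zero_inj [IsNoetherianRing R] (N : ModuleCat.{u} R)
    (M : Type u) [AddCommGroup M] [Module R M] [Module.Finite R M]
    (f : ModuleCat.of R M ⟶ N) (hf0 : ModuleCat.localizedModuleMap S f = 0) :
    ∃ s : S, (s : R) • f = 0 := by
  have hcomp : (N.localizedModuleMkLinearMap S).comp f.hom =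
      (N.localizedModuleMkLinearMap S).comp (0 : M →ₗ[R] N) := by
    ext x
    have := map_mk S f x
    rw [hf0] at this
    rw [LinearMap.comp_apply, ← this, LinearMap.comp_zero, LinearMap.zero_apply]
    rfl
  obtain ⟨s, hs⟩ := Module.Finite.exists_smul_of_comp_eq_of_isLocalizedModule S
    (N.localizedModuleMkLinearMap S) f.hom 0 hcomp
  refine ⟨s, ?_⟩
  have hs' : (s : R) • f.hom = 0 := by rw [← Submonoid.smul_def, hs, smul_zero]
  apply ModuleCat.hom_ext
  rw [ModuleCat.hom_smul, hs', ModuleCat.hom_zero]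

theorem main [IsNoetherianRing R] (N : ModuleCat.{u} R) (i : ℕ) :
    ∀ (M : Type u) [AddCommGroup M] [Module R M] [Module.Finite R M],
      PS S N i (ModuleCat.of R M) ∧ PI S N i (ModuleCat.of R M) := by
  induction i with
  | zero =>
    intro M _ _ _
    constructor
    · intro y
      obtain ⟨g, rfl⟩ := (Ext.mk₀_bijective _ _).2 y
      obtain ⟨h, s, hs⟩ := zero_surj S N M g
      refine ⟨Ext.mk₀ h, s, ?_⟩
      rw [Ext.mapExactFunctor_mk₀, ← Ext.mk₀_smul]
      exact congrArg Ext.mk₀ hs
    · intro e he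
      obtain ⟨f, rfl⟩ := (Ext.mk₀_bijective _ _).2 e
      rw [Ext.mapExactFunctor_mk₀] at he
      have hf0 : (LF S).map f = 0 :=
        (Ext.mk₀_bijective _ _).1 (he.trans (Ext.mk₀_zero _ _).symm)
      obtain ⟨s, hs⟩ := zero_inj S N M f hf0
      refine ⟨s, ?_⟩
      rw [← Ext.mk₀_smul, hs, Ext.mk₀_zero]
  | succ i ih =>
    intro M _ _ _
    obtain ⟨n, f, hf⟩ := Module.Finite.exists_fin' R M
    have hT : (sesOf (LinearMap.ker f).subtype f (LinearMap.exact_subtype_ker_map f)).ShortExact :=
      sesOf_shortExact _ _ _ (Submodule.injective_subtype _) hf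
    have hproj : Projective
        (sesOf (LinearMap.ker f).subtype f (LinearMap.exact_subtype_ker_map f)).X₂ :=
      (IsProjective.iff_projective (R := R) (Fin n → R)).1 inferInstance
    exact step S hT N i (ih (LinearMap.ker f)).1 (ih (LinearMap.ker f)).2 (ih (Fin n → R)).1

/-- vanishing criterion. -/
theorem subsingleton_iff [IsNoetherianRing R] (N : ModuleCat.{u} R) (i : ℕ)
    (M : Type u) [AddCommGroup M] [Module R M] [Module.Finite R M] :
    Subsingleton (Ext ((LF S).obj (ModuleCat.of R M)) ((LF S).obj N) i) ↔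
      ∀ e : Ext (ModuleCat.of R M) N i, ∃ s : S, (s : R) • e = 0 := by
  obtain ⟨h1, h2⟩ := main S N i M
  unfold PS at h1
  unfold PI at h2
  constructor
  · intro hsub e
    exact h2 e (Subsingleton.elim _ _)
  · intro h
    refine subsingleton_of_forall_eq 0 (fun y => ?_)
    obtain ⟨e, s, hes⟩ := h1 y
    obtain ⟨t, ht⟩ := h e
    have hu : IsUnit (algebraMap R (Localization S) (s : R)) := IsLocalization.map_units _ s
    rw [Phi_eq_zero_of_smul S e t ht] at hes
    exact (hu.smul_eq_zero).1 hes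

end Groth.Agent.Lib.Helper4.ExtLoc
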