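import Mathlib
import Groth.Agent.Lib.Helper4.FaltKills
import Groth.Agent.Lib.Helper4.LC2

/-!
# Faltings' annihilator theorem: the case `depth M_p = 0`, `ht((a+p)/p) = 1` (helper4)

If `p ∈ Ass M`, `b ⊄ p`, `a ⊄ p`, and `q ⊇ a + p` is a prime with no prime strictly between
`p` and `q`, then no power of `b` kills `H^1_a(M)`.
-/

set_option autoImplicit false
set_option linter.style.haveILetI false
set_option linter.unusedSectionVars false
set_option linter.unusedVariables false
set_option maxHeartbeats 800000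

open CategoryTheory Limits Opposite Abelian Pointwise

universe u

namespace Groth.Agent.Lib.Helper4.Falt

open Groth.Agent.Lib.Helper4.LC Groth.Agent.Lib.Helper20

variable {R : Type u} [CommRing R] [IsNoetherianRing R]

/-- `c` kills the `a`-torsion of `N/x^jN` when `c` kills `H^1_a(N)`, `x` is `N`-regular and
`Γ_a(N) = 0`. -/
lemma smul_torsion_quotSMulTop_eq_zero (a : Ideal R) (N : Type u) [AddCommGroup N] [Module R N]
    (h0 : Subsingleton (HH a (ModuleCat.of R N) 0)) (y : R) (hy : IsSMulRegular N y) (c : R)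
    (hc : ∀ w : HH a (ModuleCat.of R N) 1, c • w = 0) (t : QuotSMulTop y N)
    (ht : t ∈ DRing.torsionSub a (QuotSMulTop y N)) : c • t = 0 := by
  have hS := smulSES_shortExact N y hy
  obtain ⟨w, hw⟩ := exists_HH0_eq a (ModuleCat.of R (QuotSMulTop y N)) t ht
  have h1 : HH.δ a hS 0 (c • w) = 0 := by
    rw [map_smul]
    exact hc _
  have h2 : c • w = 0 := HH.δ_injective a hS 0 h0 (by rw [h1, map_zero])
  have h3 := congrArg (HH0 a (ModuleCat.of R (QuotSMulTop y N))) h2
  rw [map_smul, hw, map_zero] at h3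
  exact h3

/-- the key commutative-algebra step: for `z` killed by `p` and `y ∈ P ∖ p`... there is `u ∉ q`
with `u • z` being `a`-torsion. -/
lemma exists_smul_mem_torsionSub (a : Ideal R) (Y : Type u) [AddCommGroup Y] [Module R Y]
    [Module.Finite R Y] (p q : Ideal R) [p.IsPrime] [q.IsPrime] (haq : a ≤ q)
    (hsat : ∀ P : Ideal R, P.IsPrime → p < P → P ≤ q → P = q)
    (z : Y) (hpz : ∀ r ∈ p, r • z = 0) (x : R) (hxp : x ∉ p) (j : ℕ) (hxz : x ^ j • z = 0) :
    ∃ u : R, u ∉ q ∧ u • z ∈ DRing.torsionSub a Y := by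
  by_contra hcon
  push Not at hcon
  let T : Submodule R Y := DRing.torsionSub a Y
  let zb : Y ⧸ T := T.mkQ z
  have hAq : (Submodule.span R {zb}).annihilator ≤ q := by
    intro u hu
    rw [Submodule.mem_annihilator_span_singleton] at hu
    by_contra huq
    apply hcon u huq
    have h2 : T.mkQ (u • z) = 0 := by
      rw [map_smul]
      exact hu
    exact (Submodule.Quotient.mk_eq_zero T).1 h2
  obtain ⟨P, hPmin, hPq⟩ := Ideal.exists_minimalPrimes_le hAq
  have hPprime : P.IsPrime := hPmin.1.1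
  have hAP : (Submodule.span R {zb}).annihilator ≤ P := hPmin.1.2
  have hpP : p ≤ P := by
    intro r hr
    apply hAP
    rw [Submodule.mem_annihilator_span_singleton]
    change r • T.mkQ z = 0
    rw [← map_smul, hpz r hr, map_zero]
  have hxP : x ∈ P := by
    apply hPprime.mem_of_pow_mem j
    apply hAP
    rw [Submodule.mem_annihilator_span_singleton]
    change x ^ j • T.mkQ z = 0
    rw [← map_smul, hxz, map_zero]
  have hPeq : P = q :=
    hsat P hPprime (lt_of_le_of_ne hpP (fun h => hxp (h ▸ hxP))) hPq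
  rw [hPeq] at hPmin
  have hqass : q ∈ associatedPrimes R (Y ⧸ T) := by
    have h1 := Module.associatedPrimes.minimalPrimes_annihilator_subset_associatedPrimes R
      (Submodule.span R {zb}) hPmin
    exact associatedPrimes.subset_of_injective (f := (Submodule.span R {zb}).subtype)
      (Submodule.injective_subtype _) h1
  obtain ⟨_, w, hw⟩ := isAssociatedPrime_iff.1 (AssociatedPrimes.mem_iff.1 hqass)
  have hwt : w ∈ DRing.torsionSub a (Y ⧸ T) := by
    refine ⟨1, fun r hr => ?_⟩
    rw [pow_one] at hr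
    have := haq hr
    rw [hw, Submodule.mem_colon_singleton, Submodule.mem_bot] at this
    exact this
  rw [LCFinite.torsionSub_quotient_eq_bot, Submodule.mem_bot] at hwt
  apply (inferInstance : q.IsPrime).ne_top
  rw [hw, hwt, eq_top_iff]
  intro r _
  rw [Submodule.mem_colon_singleton, smul_zero]
  exact Submodule.zero_mem _

/-- Krull intersection at `q`: if for every `j` some multiple `u_j • m` with `u_j ∉ q` lies in
`x^j N` (`x ∈ q`), then `m` is killed by an element outside `q`. -/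
lemma exists_smul_eq_zero_of_forall_mem (N : Type u) [AddCommGroup N] [Module R N]
    [Module.Finite R N] (q : Ideal R) [q.IsPrime] (x : R) (hxq : x ∈ q) (m : N)
    (h : ∀ j : ℕ, ∃ u : R, u ∉ q ∧ u • m ∈ (x ^ j) • (⊤ : Submodule R N)) :
    ∃ v : R, v ∉ q ∧ v • m = 0 := by
  let Rq := Localization.AtPrime q
  let L := LocalizedModule q.primeCompl N
  let ξ : Rq := algebraMap R Rq x
  have hξ : Ideal.span {ξ} ≠ (⊤ : Ideal Rq) := by
    intro htop
    have hu : IsUnit ξ := Ideal.span_singleton_eq_top.mp htop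
    have hxm : ξ ∈ IsLocalRing.maximalIdeal Rq := by
      rw [IsLocalization.AtPrime.to_map_mem_maximal_iff Rq q]
      exact hxq
    exact (IsLocalRing.mem_maximalIdeal _).1 hxm hu
  have hkrull := Ideal.iInf_pow_smul_eq_bot_of_isLocalRing (M := L) (Ideal.span {ξ}) hξ
  have hμ : LocalizedModule.mkLinearMap q.primeCompl N m ∈
      ⨅ i : ℕ, (Ideal.span {ξ}) ^ i • (⊤ : Submodule Rq L) := by
    rw [Submodule.mem_iInf]
    intro j
    obtain ⟨u, huq, hu'⟩ := h j
    rw [Submodule.mem_smul_pointwise_iff_exists] at hu'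
    obtain ⟨m', -, hm'⟩ := hu'
    have heq : LocalizedModule.mkLinearMap q.primeCompl N m =
        ξ ^ j • (LocalizedModule.mk m' (⟨u, huq⟩ : q.primeCompl) : L) := by
      rw [LocalizedModule.mkLinearMap_apply]
      change _ = (algebraMap R Rq x) ^ j • _
      rw [← map_pow, algebraMap_smul, LocalizedModule.smul'_mk, hm', LocalizedModule.mk_eq]
      refine ⟨1, ?_⟩
      rw [one_smul, one_smul, one_smul]
      rfl
    rw [heq]
    exact Submodule.smul_mem_smul (Ideal.pow_mem_pow (Ideal.mem_span_singleton_self ξ) j)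
      Submodule.mem_top
  rw [hkrull, Submodule.mem_bot] at hμ
  obtain ⟨v, hv⟩ := (IsLocalizedModule.eq_zero_iff q.primeCompl
    (LocalizedModule.mkLinearMap q.primeCompl N)).1 hμ
  exact ⟨v, v.2, hv⟩

/-- **Brodmann–Sharp 9.3.4 (core)**. -/
theorem not_kills_H1 (a b : Ideal R) (M : Type u) [AddCommGroup M] [Module R M]
    [Module.Finite R M] (p q : Ideal R) [hpp : p.IsPrime] [hqp : q.IsPrime]
    (hp : p ∈ associatedPrimes R M) (hb : ¬ b ≤ p) (hap : ¬ a ≤ p) (haq : a ≤ q) (hpq : p ≤ q)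
    (hsat : ∀ P : Ideal R, P.IsPrime → p < P → P ≤ q → P = q) :
    ¬ Kills b (HH a (ModuleCat.of R M) 1) := by
  intro hK
  obtain ⟨_, m₀, hm₀⟩ := isAssociatedPrime_iff.1 (AssociatedPrimes.mem_iff.1 hp)
  have hm₀' : ∀ r : R, r ∈ p ↔ r • m₀ = 0 := by
    intro r
    rw [hm₀, Submodule.mem_colon_singleton, Submodule.mem_bot]
  obtain ⟨za, hza, hzap⟩ := SetLike.not_le_iff_exists.1 hap
  obtain ⟨zb, hzb, hzbp⟩ := SetLike.not_le_iff_exists.1 hb
  let T : Submodule R M := DRing.torsionSub a M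
  let mb : M ⧸ T := T.mkQ m₀
  have hmb : ∀ r : R, r • mb = 0 ↔ r ∈ p := by
    intro r
    constructor
    · intro h
      have h1 : r • m₀ ∈ T := by
        have h2 : T.mkQ (r • m₀) = 0 := by
          rw [map_smul]
          exact h
        exact (Submodule.Quotient.mk_eq_zero T).1 h2
      obtain ⟨n, hn⟩ := h1
      have h2 := hn (za ^ n) (Ideal.pow_mem_pow hza n)
      rw [← mul_smul, ← hm₀'] at h2
      rcases hpp.mem_or_mem h2 with h3 | h3
      · exact absurd (hpp.mem_of_pow_mem n h3) hzap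
      · exact h3
    · intro h
      change r • T.mkQ m₀ = 0
      rw [← map_smul, (hm₀' r).1 h, map_zero]
  have hmb0 : mb ≠ 0 := by
    intro h0
    have h1 : (1 : R) ∈ p := (hmb 1).1 (by rw [h0, smul_zero])
    exact hpp.ne_top ((Ideal.eq_top_iff_one p).2 h1)
  haveI : Nontrivial (M ⧸ T) := ⟨⟨mb, 0, hmb0⟩⟩
  obtain ⟨x, hxa, hxreg⟩ := LCFinite.exists_regular_of_torsionSub_eq_bot a (M ⧸ T)
    (LCFinite.torsionSub_quotient_eq_bot a M)
  have hxp : x ∉ p := by
    intro hxp
    have h1 : x • mb = 0 := (hmb x).2 hxp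
    exact hmb0 (hxreg (by change x • mb = x • 0; rw [h1, smul_zero]))
  have hKb : Kills b (HH a (ModuleCat.of R (M ⧸ T)) 1) :=
    Kills.of_surjective (LCFinite.quotEquiv a M 0).toLinearMap
      (LCFinite.quotEquiv a M 0).surjective hK
  obtain ⟨k, hk⟩ := hKb
  have hck : zb ^ k ∈ b ^ k := Ideal.pow_mem_pow hzb k
  have hcp : zb ^ k ∉ p := fun h => hzbp (hpp.mem_of_pow_mem k h)
  have h0 : Subsingleton (HH a (ModuleCat.of R (M ⧸ T)) 0) :=
    LCFinite.subsingleton_HH_zero_quot a M
  -- for every `j` a multiple of `c • mb` outside `q` lies in `x^j (M/T)`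
  have hu : ∀ j : ℕ, ∃ u : R, u ∉ q ∧
      u • (zb ^ k • mb) ∈ (x ^ j) • (⊤ : Submodule R (M ⧸ T)) := by
    intro j
    let W : Submodule R (M ⧸ T) := (x ^ j) • (⊤ : Submodule R (M ⧸ T))
    let z : QuotSMulTop (x ^ j) (M ⧸ T) := W.mkQ mb
    have hpz : ∀ r ∈ p, r • z = 0 := by
      intro r hr
      change r • W.mkQ mb = 0
      rw [← map_smul, (hmb r).2 hr, map_zero]
    have hxz : x ^ j • z = 0 := by
      change x ^ j • W.mkQ mb = 0
      rw [← map_smul]
      exact (Submodule.Quotient.mk_eq_zero W).2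
        ((Submodule.mem_smul_pointwise_iff_exists _ _ _).2 ⟨mb, Submodule.mem_top, rfl⟩)
    obtain ⟨u, huq, hut⟩ := exists_smul_mem_torsionSub a (QuotSMulTop (x ^ j) (M ⧸ T)) p q haq
      hsat z hpz x hxp j hxz
    refine ⟨u, huq, ?_⟩
    have h2 := smul_torsion_quotSMulTop_eq_zero a (M ⧸ T) h0 (x ^ j) (hxreg.pow j) (zb ^ k)
      (fun w => hk _ hck w) (u • z) hut
    have h3 : W.mkQ (u • (zb ^ k • mb)) = 0 := by
      rw [map_smul, map_smul, smul_comm]
      exact h2
    exact (Submodule.Quotient.mk_eq_zero W).1 h3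
  obtain ⟨v, hvq, hv⟩ := exists_smul_eq_zero_of_forall_mem (M ⧸ T) q x (haq hxa)
    (zb ^ k • mb) hu
  have h1 : (v * zb ^ k) • mb = 0 := by
    rw [mul_smul]
    exact hv
  have h2 := (hmb _).1 h1
  rcases hpp.mem_or_mem h2 with h3 | h3
  · exact hvq (hpq h3)
  · exact hcp h3

end Groth.Agent.Lib.Helper4.Falt
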