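import Mathlib

/-!
# Relative heights `ht(s/p)` of primes and chains of primes (helper4)

Ingredients for Faltings' annihilator theorem (first inequality).
-/

set_option autoImplicit false
set_option linter.style.haveILetI false
set_option linter.unusedSectionVars false
set_option maxHeartbeats 400000

universe u

namespace Groth.Agent.Lib.Helper4.Falt

section order

lemma height_head_add_length_le {α : Type*} [Preorder α] (l : LTSeries α) :
    Order.height l.head + (l.length : ℕ∞) ≤ Order.height l.last := by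
  have key : ∀ (i : ℕ) (hi : i < l.length + 1),
      Order.height l.head + (i : ℕ∞) ≤ Order.height (l ⟨i, hi⟩) := by
    intro i
    induction i with
    | zero =>
      intro hi
      simp only [Nat.cast_zero, add_zero]
      exact le_of_eq rfl
    | succ i ih =>
      intro hi
      have h1 := ih (Nat.lt_of_succ_lt hi)
      have hlt : l ⟨i, Nat.lt_of_succ_lt hi⟩ < l ⟨i + 1, hi⟩ :=
        l.strictMono (by simp [Fin.lt_def])
      have h2 := Order.height_add_one_le hlt
      calc Order.height l.head + ((i + 1 : ℕ) : ℕ∞)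
          = (Order.height l.head + (i : ℕ∞)) + 1 := by push_cast; ring
        _ ≤ Order.height (l ⟨i, Nat.lt_of_succ_lt hi⟩) + 1 := by gcongr
        _ ≤ _ := h2
  exact key l.length (Nat.lt_succ_self _)

end order

section ring

variable {A : Type*} [CommRing A] {B : Type*} [CommRing B]

/-- For a surjection `φ : A → B` and a prime `Q ⊇ ker φ`: `ht(ker φ) + ht(φ(Q)) ≤ ht(Q)`. -/
theorem height_ker_add_height_map_le (φ : A →+* B) (hφ : Function.Surjective φ) (Q : Ideal A)
    [Q.IsPrime] (hQ : RingHom.ker φ ≤ Q) :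
    (RingHom.ker φ).height + (Q.map φ).height ≤ Q.height := by
  haveI hQ' : (Q.map φ).IsPrime := Ideal.map_isPrime_of_surjective hφ hQ
  have hsm : StrictMono (PrimeSpectrum.comap φ) := by
    intro x y hxy
    refine lt_of_le_of_ne (Ideal.comap_mono hxy.le) (fun h => hxy.ne ?_)
    exact PrimeSpectrum.ext (Ideal.comap_injective_of_surjective φ hφ
      (congrArg PrimeSpectrum.asIdeal h))
  have key : ∀ n : ℕ, (n : ℕ∞) ≤ (Q.map φ).height → (RingHom.ker φ).height + n ≤ Q.height := by
    intro n hn
    let P' : PrimeSpectrum B := ⟨Q.map φ, hQ'⟩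
    have hP' : (Q.map φ).height = Order.height P' := PrimeSpectrum.height_eq_orderHeight P'
    rw [hP'] at hn
    obtain ⟨l, hlast, hlen⟩ := Order.exists_series_of_le_height P' hn
    have h1 := height_head_add_length_le (l.map (PrimeSpectrum.comap φ) hsm)
    rw [LTSeries.head_map, LTSeries.last_map, hlast] at h1
    have hlen' : (l.map (PrimeSpectrum.comap φ) hsm).length = n := hlen
    rw [hlen'] at h1
    have h2 : (PrimeSpectrum.comap φ P').asIdeal = Q := by
      change (Q.map φ).comap φ = Q
      rw [Ideal.comap_map_of_surjective φ hφ Q]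
      exact sup_eq_left.mpr hQ
    have h3 : Order.height (PrimeSpectrum.comap φ P') = Q.height := by
      rw [← PrimeSpectrum.height_eq_orderHeight, h2]
    have h4 : (RingHom.ker φ).height ≤ Order.height (PrimeSpectrum.comap φ l.head) := by
      rw [← PrimeSpectrum.height_eq_orderHeight]
      apply Ideal.height_mono
      change RingHom.ker φ ≤ (l.head.asIdeal).comap φ
      exact Ideal.comap_mono bot_le
    rw [h3] at h1
    exact le_trans (add_le_add_left h4 _) h1
  by_cases htop : (Q.map φ).height = ⊤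
  · have hQtop : Q.height = ⊤ := by
      rw [ENat.eq_top_iff_forall_ge]
      intro n
      exact le_trans le_add_self (key n (by rw [htop]; exact le_top))
    rw [hQtop]
    exact le_top
  · obtain ⟨n, hn⟩ := ENat.ne_top_iff_exists.mp htop
    rw [← hn]
    exact key n (by rw [hn])

end ring

section rel

variable {R : Type u} [CommRing R]

/-- `ht(s/p) + ht(q/s) ≤ ht(q/p)` for primes `p ≤ s ≤ q`. -/
theorem relHeight_add_le (p s q : Ideal R) [p.IsPrime] [s.IsPrime] [q.IsPrime] (hps : p ≤ s)
    (hsq : s ≤ q) :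
    (s.map (Ideal.Quotient.mk p)).height + (q.map (Ideal.Quotient.mk s)).height ≤
      (q.map (Ideal.Quotient.mk p)).height := by
  have hpq : p ≤ q := hps.trans hsq
  haveI : (q.map (Ideal.Quotient.mk p)).IsPrime :=
    Ideal.map_isPrime_of_surjective Ideal.Quotient.mk_surjective (by rw [Ideal.mk_ker]; exact hpq)
  have h := height_ker_add_height_map_le (Ideal.Quotient.factor hps)
    (Ideal.Quotient.factor_surjective hps) (q.map (Ideal.Quotient.mk p))
    (by rw [Ideal.Quotient.factor_ker hps]; exact Ideal.map_mono hsq)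
  rw [Ideal.Quotient.factor_ker hps, Ideal.map_map, Ideal.Quotient.factor_comp_mk] at h
  exact h

/-- `ht(s/p) ≥ 1` if `p < s`. -/
theorem one_le_relHeight (p s : Ideal R) [p.IsPrime] (hps : p < s) :
    1 ≤ (s.map (Ideal.Quotient.mk p)).height := by
  rw [ENat.one_le_iff_ne_zero]
  intro h0
  rw [Ideal.height_eq_zero_iff_eq_bot, Ideal.map_eq_bot_iff_le_ker, Ideal.mk_ker] at h0
  exact (not_le_of_gt hps) h0

/-- `ht(p/p) = 0`. -/
theorem relHeight_self (p : Ideal R) [p.IsPrime] :
    (p.map (Ideal.Quotient.mk p)).height = 0 := by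
  rw [Ideal.height_eq_zero_iff_eq_bot, Ideal.map_eq_bot_iff_le_ker, Ideal.mk_ker]

/-- a prime `q ⊇ a + p` realising `ht((a+p)/p)`. -/
theorem exists_prime_relHeight_eq (a p : Ideal R) [p.IsPrime] (h : ℕ)
    (hh : ((a ⊔ p).map (Ideal.Quotient.mk p)).height = h) :
    ∃ q : Ideal R, q.IsPrime ∧ a ⊔ p ≤ q ∧ (q.map (Ideal.Quotient.mk p)).height = h := by
  obtain ⟨P, hP, hle, hPh⟩ := Ideal.exists_isPrime_height_eq hh
  refine ⟨P.comap (Ideal.Quotient.mk p), Ideal.IsPrime.comap _, Ideal.map_le_iff_le_comap.mp hle, ?_⟩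
  rw [Ideal.map_comap_of_surjective _ Ideal.Quotient.mk_surjective]
  exact hPh

/-- if `ht(q/p) = 1` there is no prime strictly between `p` and `q`. -/
theorem eq_of_relHeight_eq_one (p q : Ideal R) [p.IsPrime] [q.IsPrime]
    (h1 : (q.map (Ideal.Quotient.mk p)).height = 1) (P : Ideal R) (hP : P.IsPrime) (hpP : p < P)
    (hPq : P ≤ q) : P = q := by
  by_contra hne
  have hlt : P < q := lt_of_le_of_ne hPq hne
  haveI := hP
  have h2 := relHeight_add_le p P q hpP.le hPq
  have h3 := one_le_relHeight p P hpP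
  have h4 := one_le_relHeight P q hlt
  rw [h1] at h2
  have : (1 : ℕ∞) + 1 ≤ 1 := le_trans (add_le_add h3 h4) h2
  exact absurd this (by decide)

variable [IsNoetherianRing R]

/-- **Prime avoidance + Krull**: if `ht(q/p) ≥ 2` and `b ⊄ p`, there is a prime `s` with
`p < s ≤ q` and `b ⊄ s`. -/
theorem exists_prime_between (b p q : Ideal R) [p.IsPrime] [q.IsPrime] (hpq : p ≤ q)
    (h2 : 2 ≤ (q.map (Ideal.Quotient.mk p)).height) (hb : ¬ b ≤ p) :
    ∃ s : Ideal R, s.IsPrime ∧ p < s ∧ s ≤ q ∧ ¬ b ≤ s := by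
  classical
  have hqp : ¬ q ≤ p := by
    intro hle
    have : q = p := le_antisymm hle hpq
    rw [this, relHeight_self] at h2
    exact absurd h2 (by decide)
  have hfin := Ideal.finite_minimalPrimes_of_isNoetherianRing R (b ⊔ p)
  let T : Finset (Ideal R) := insert p (hfin.toFinset.filter (fun P => ¬ q ≤ P))
  have hT : ∀ P ∈ T, P.IsPrime ∧ ¬ q ≤ P := by
    intro P hP
    rcases Finset.mem_insert.mp hP with rfl | hP
    · exact ⟨inferInstance, hqp⟩
    · rw [Finset.mem_filter, Set.Finite.mem_toFinset] at hP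
      exact ⟨hP.1.1.1, hP.2⟩
  have hnot : ¬ ((q : Set R) ⊆ ⋃ P ∈ (T : Set (Ideal R)), ((fun P => P) P : Set R)) := by
    intro hsub
    obtain ⟨P, hPT, hqP⟩ := (Ideal.subset_union_prime (f := fun P : Ideal R => P) p p
      (fun P hP _ _ => (hT P hP).1)).mp hsub
    exact (hT P hPT).2 hqP
  rw [Set.not_subset] at hnot
  obtain ⟨y, hyq, hy⟩ := hnot
  have hyT : ∀ P ∈ T, y ∉ P := by
    intro P hP hyP
    apply hy
    simp only [Set.mem_iUnion]
    exact ⟨P, hP, hyP⟩
  have hyp : y ∉ p := hyT p (Finset.mem_insert_self _ _)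
  have hle : p ⊔ Ideal.span {y} ≤ q :=
    sup_le hpq ((Ideal.span_singleton_le_iff_mem q).mpr hyq)
  obtain ⟨s, hs, hsq⟩ := Ideal.exists_minimalPrimes_le hle
  haveI hsP : s.IsPrime := hs.1.1
  have hps : p ≤ s := le_sup_left.trans hs.1.2
  have hys : y ∈ s := hs.1.2 (le_sup_right (a := p) (Ideal.mem_span_singleton_self y))
  have hpslt : p < s := lt_of_le_of_ne hps (fun h => hyp (h ▸ hys))
  have hs1 : (s.map (Ideal.Quotient.mk p)).height ≤ 1 :=
    Ideal.map_height_le_one_of_mem_minimalPrimes hs
  refine ⟨s, hsP, hpslt, hsq, ?_⟩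
  intro hbs
  -- then `s` is a minimal prime of `b ⊔ p` not containing `q`
  have hqs : ¬ q ≤ s := by
    intro hqs
    have : (q.map (Ideal.Quotient.mk p)).height ≤ 1 :=
      le_trans (Ideal.height_mono (Ideal.map_mono hqs)) hs1
    exact absurd (le_trans h2 this) (by decide)
  have hsmin : s ∈ (b ⊔ p).minimalPrimes := by
    refine ⟨⟨hsP, sup_le hbs hps⟩, ?_⟩
    rintro P' ⟨hP', hbP'⟩ hP's
    have hpP' : p ≤ P' := le_sup_right.trans hbP'
    have hne : p ≠ P' := by
      rintro rfl
      exact hb (le_sup_left.trans hbP')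
    have hlt : p < P' := lt_of_le_of_ne hpP' hne
    by_contra hcon
    have hlt2 : P' < s := lt_of_le_of_ne hP's (fun h => hcon (h ▸ le_rfl))
    haveI := hP'
    have e1 := relHeight_add_le p P' s hpP' hP's
    have e2 := one_le_relHeight p P' hlt
    have e3 := one_le_relHeight P' s hlt2
    have : (1 : ℕ∞) + 1 ≤ 1 := le_trans (le_trans (add_le_add e2 e3) e1) hs1
    exact absurd this (by decide)
  have hsT : s ∈ T := by
    apply Finset.mem_insert_of_mem
    rw [Finset.mem_filter, Set.Finite.mem_toFinset]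
    exact ⟨hsmin, hqs⟩
  exact hyT s hsT hys

end rel

end Groth.Agent.Lib.Helper4.Falt
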