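import Groth.Agent.Lib.Helper4.CM

/-!
# `depth M ≤ grade(p, M) + dim R/p`
-/

set_option autoImplicit false

universe u v

open RingTheory.Sequence

namespace Groth.Agent.Lib.Helper4

variable {R : Type u} [CommRing R] [Small.{v} R] [IsNoetherianRing R] [IsLocalRing R]
  {M : Type v} [AddCommGroup M] [Module R M] [Module.Finite R M]

/-- Over a Noetherian local ring, for a nonzero finite module `M` and a prime `p`:
`depth M ≤ depth_p M + dim R/p`, in natural-number form. -/
theorem depth_le_idealDepth_add_ringKrullDim_quotient [Nontrivial M] (p : Ideal R) [p.IsPrime]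
    {b f e : ℕ} (hb : LocCoh.depth R M = b) (hf : LocCoh.idealDepth p M = f)
    (he : ringKrullDim (R ⧸ p) = ((e : ℕ∞) : WithBot ℕ∞)) : b ≤ f + e := by
  have hpm : p ≤ IsLocalRing.maximalIdeal R := IsLocalRing.le_maximalIdeal (Ideal.IsPrime.ne_top ‹_›)
  have hmM : IsLocalRing.maximalIdeal R • (⊤ : Submodule R M) ≠ ⊤ := maximalIdeal_smul_top_ne_top
  have hpM : p • (⊤ : Submodule R M) ≠ ⊤ := fun h =>
    hmM (eq_top_iff.mpr (h.ge.trans (Submodule.smul_mono_left hpm)))
  obtain ⟨xs, hlen, hmem, hreg⟩ := exists_isWeaklyRegular_of_le_idealDepth p hpM f hf.ge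
  have hmem' : ∀ r ∈ xs, r ∈ IsLocalRing.maximalIdeal R := fun r hr => hpm (hmem r hr)
  have hxsM : Ideal.ofList xs • (⊤ : Submodule R M) ≠ ⊤ := fun h =>
    hmM (eq_top_iff.mpr (h.ge.trans (Submodule.smul_mono_left (Ideal.span_le.mpr hmem'))))
  have hnt : Nontrivial (M ⧸ (Ideal.ofList xs • ⊤ : Submodule R M)) :=
    Submodule.Quotient.nontrivial_iff.mpr hxsM
  have hpM' : p • (⊤ : Submodule R (M ⧸ (Ideal.ofList xs • ⊤ : Submodule R M))) ≠ ⊤ := fun h =>
    maximalIdeal_smul_top_ne_top (M := M ⧸ (Ideal.ofList xs • ⊤ : Submodule R M))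
      (eq_top_iff.mpr (h.ge.trans (Submodule.smul_mono_left hpm)))
  have h1 := idealDepth_quot_ofList_add_length p hreg hmem
  have h2 := idealDepth_quot_ofList_add_length (IsLocalRing.maximalIdeal R) hreg hmem'
  obtain ⟨f', hf'⟩ := ENat.ne_top_iff_exists.mp (idealDepth_ne_top p hpM')
  obtain ⟨b', hb'⟩ := exists_nat_depth (R := R) (M := M ⧸ (Ideal.ofList xs • ⊤ : Submodule R M))
  rw [← hf', hf, hlen] at h1
  have hf0 : f' = 0 := by
    have : f' + f = f := by exact_mod_cast h1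
    omega
  change LocCoh.depth R _ + _ = LocCoh.depth R M at h2
  rw [hb', hb, hlen] at h2
  have hbb : b' + f = b := by exact_mod_cast h2
  have h0 : LocCoh.idealDepth p (M ⧸ (Ideal.ofList xs • ⊤ : Submodule R M)) = 0 := by
    rw [← hf', hf0]; rfl
  obtain ⟨q, hq, hpq⟩ := (idealDepth_eq_zero_iff_exists_le_associatedPrime p hpM').mp h0
  have h3 := depth_le_ringKrullDim_quotient hq
  have hq' : q.IsPrime := hq.isPrime
  have h4 : ringKrullDim (R ⧸ q) ≤ ringKrullDim (R ⧸ p) :=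
    ringKrullDim_le_of_surjective (Ideal.Quotient.factor hpq) (Ideal.Quotient.factor_surjective hpq)
  rw [hb'] at h3
  rw [he] at h4
  have h6 : ((b' : ℕ∞) : WithBot ℕ∞) ≤ ((e : ℕ∞) : WithBot ℕ∞) := h3.trans h4
  have h7 : b' ≤ e := by exact_mod_cast h6
  omega

end Groth.Agent.Lib.Helper4
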