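import Groth.Agent.Lib.Helper4.FiniteExt
import Groth.Agent.Lib.Helper4.CM
import Mathlib.RingTheory.Regular.Flat
import Mathlib.RingTheory.Ideal.Height

/-!
# Localizing twice; grade of `pR_s` on `M_s` versus depth of `M_p`
-/

set_option autoImplicit false

universe u v

open RingTheory.Sequence

namespace Groth.Agent.Lib.Helper4

section trans

variable {R : Type*} [CommRing R] {S T : Submonoid R}
  {M M' N : Type*} [AddCommGroup M] [AddCommGroup M'] [AddCommGroup N]
  [Module R M] [Module R M'] [Module R N]

/-- Localizing at `S ≤ T` and then at `T` is localizing at `T`. -/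
theorem isLocalizedModule_comp_of_le (hST : S ≤ T) (f : M →ₗ[R] M') [IsLocalizedModule S f]
    (h : M' →ₗ[R] N) [IsLocalizedModule T h] : IsLocalizedModule T (h ∘ₗ f) where
  map_units t := IsLocalizedModule.map_units h t
  surj y := by
    obtain ⟨⟨x, t⟩, hx⟩ := IsLocalizedModule.surj T h y
    obtain ⟨⟨m, s⟩, hm⟩ := IsLocalizedModule.surj S f x
    refine ⟨⟨m, t * ⟨s, hST s.2⟩⟩, ?_⟩
    change (t * ⟨(s : R), hST s.2⟩ : T) • y = h (f m)
    have hm' : (s : R) • x = f m := hm
    have hx' : (t : R) • y = h x := hx
    rw [← hm', h.map_smul, ← hx', Submonoid.smul_def, Submonoid.coe_mul, mul_smul, smul_comm]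
  exists_of_eq {m1 m2} hm := by
    obtain ⟨t, ht⟩ := IsLocalizedModule.exists_of_eq (S := T) (f := h) hm
    have ht' : f ((t : R) • m1) = f ((t : R) • m2) := by
      rw [f.map_smul, f.map_smul]
      exact ht
    obtain ⟨s, hs⟩ := IsLocalizedModule.exists_of_eq (S := S) (f := f) ht'
    refine ⟨⟨(s : R), hST s.2⟩ * t, ?_⟩
    have hs' : (s : R) • (t : R) • m1 = (s : R) • (t : R) • m2 := hs
    change ((s : R) * (t : R)) • m1 = ((s : R) * (t : R)) • m2
    rw [mul_smul, mul_smul, hs']

end trans

section iso

variable {R : Type u} [CommRing R] (M : Type u) [AddCommGroup M] [Module R M]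

/-- `(M_s)_p ≅ M_p` for primes `p ≤ s`. -/
noncomputable def locLocEquiv (p s : Ideal R) [p.IsPrime] [s.IsPrime] (hps : p ≤ s) :
    LocalizedModule p.primeCompl (LocalizedModule s.primeCompl M) ≃ₗ[Localization.AtPrime p]
      LocalizedModule p.primeCompl M :=
  haveI : IsLocalizedModule p.primeCompl
      ((LocalizedModule.mkLinearMap p.primeCompl (LocalizedModule s.primeCompl M)) ∘ₗ
        (LocalizedModule.mkLinearMap s.primeCompl M)) :=
    isLocalizedModule_comp_of_le (S := s.primeCompl) (T := p.primeCompl)
      (fun x hx hxp => hx (hps hxp)) _ _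
  (IsLocalizedModule.linearEquiv p.primeCompl
    ((LocalizedModule.mkLinearMap p.primeCompl (LocalizedModule s.primeCompl M)) ∘ₗ
      (LocalizedModule.mkLinearMap s.primeCompl M))
    (LocalizedModule.mkLinearMap p.primeCompl M)).extendScalarsOfIsLocalization p.primeCompl
      (Localization.AtPrime p)

end iso

section lemmaB

variable {A : Type u} [CommRing A] {B : Type u} [CommRing B] [Algebra A B]
  [IsNoetherianRing B]

/-- Regular sequences in an extended ideal `IB` of a localization `B = S⁻¹A` can be taken to come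
from `I`. -/
theorem exists_isWeaklyRegular_map_of_le_idealDepth (S : Submonoid A) [IsLocalization S B]
    (I : Ideal A) :
    ∀ (n : ℕ) (N : Type u) [AddCommGroup N] [Module B N] [Module.Finite B N],
      (I.map (algebraMap A B)) • (⊤ : Submodule B N) ≠ ⊤ →
      (n : ℕ∞) ≤ LocCoh.idealDepth (I.map (algebraMap A B)) N →
      ∃ rs : List A, (∀ r ∈ rs, r ∈ I) ∧ rs.length = n ∧
        IsWeaklyRegular N (rs.map (algebraMap A B)) := by
  intro n
  induction n with
  | zero =>
    intro N _ _ _ _ _
    exact ⟨[], by simp, rfl, by simpa using IsWeaklyRegular.nil B N⟩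
  | succ n ih =>
    intro N _ _ _ hIN hn
    have hn' : (n : ℕ∞) + 1 ≤ LocCoh.idealDepth (I.map (algebraMap A B)) N := by
      exact_mod_cast hn
    have h1 : 1 ≤ LocCoh.idealDepth (I.map (algebraMap A B)) N := le_trans (by simp) hn'
    obtain ⟨x, hx, hreg⟩ := (one_le_idealDepth_iff _ hIN).mp h1
    obtain ⟨⟨a, t⟩, hat⟩ := (IsLocalization.mem_map_algebraMap_iff S B).mp hx
    have hy : algebraMap A B (a : A) ∈ I.map (algebraMap A B) := Ideal.mem_map_of_mem _ a.2
    have hyreg : IsSMulRegular N (algebraMap A B (a : A)) := by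
      rw [← hat]
      exact hreg.mul ((IsLocalization.map_units B t).isSMulRegular N)
    have h2 := le_idealDepth_quotSMulTop_of_succ_le _ n hy hyreg hn'
    obtain ⟨rs, hmem, hlen, hrs⟩ := ih (QuotSMulTop (algebraMap A B (a : A)) N)
      (smul_top_quotSMulTop_ne_top _ hy hIN) h2
    refine ⟨(a : A) :: rs, ?_, by simp [hlen], ?_⟩
    · intro r hr
      rcases List.mem_cons.mp hr with rfl | hr
      · exact a.2
      · exact hmem r hr
    · rw [List.map_cons, isWeaklyRegular_cons_iff]
      exact ⟨hyreg, hrs⟩

end lemmaB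

section lemmaC

variable {R : Type u} [CommRing R] [IsNoetherianRing R] (M : Type u) [AddCommGroup M] [Module R M]
  [Module.Finite R M]

/-- The grade of `pR_s` on `M_s` is at most the depth of `M_p`. -/
theorem natCast_le_depth_of_le_idealDepth_map (p s : Ideal R) [p.IsPrime] [s.IsPrime]
    (hps : p ≤ s) [Nontrivial (LocalizedModule p.primeCompl M)] (n : ℕ)
    (hpM : (p.map (algebraMap R (Localization.AtPrime s))) •
      (⊤ : Submodule (Localization.AtPrime s) (LocalizedModule s.primeCompl M)) ≠ ⊤)
    (hn : (n : ℕ∞) ≤ LocCoh.idealDepth (p.map (algebraMap R (Localization.AtPrime s)))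
      (LocalizedModule s.primeCompl M)) :
    (n : ℕ∞) ≤ LocCoh.depth (Localization.AtPrime p) (LocalizedModule p.primeCompl M) := by
  obtain ⟨rs, hmem, hlen, hrs⟩ := exists_isWeaklyRegular_map_of_le_idealDepth s.primeCompl p n
    (LocalizedModule s.primeCompl M) hpM hn
  rw [isWeaklyRegular_map_algebraMap_iff] at hrs
  let e := locLocEquiv M p s hps
  haveI : Nontrivial (LocalizedModule p.primeCompl (LocalizedModule s.primeCompl M)) :=
    e.toEquiv.nontrivial
  haveI : Module.Finite (Localization.AtPrime p)
      (LocalizedModule p.primeCompl (LocalizedModule s.primeCompl M)) :=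
    Module.Finite.equiv e.symm
  have hreg := hrs.isRegular_of_isLocalizedModule_of_mem (Localization.AtPrime p) p
    (LocalizedModule.mkLinearMap p.primeCompl (LocalizedModule s.primeCompl M)) hmem
  have hle := length_le_idealDepth (IsLocalRing.maximalIdeal (Localization.AtPrime p)) _
    hreg.toIsWeaklyRegular (by
      intro r hr
      obtain ⟨a, ha, rfl⟩ := List.mem_map.mp hr
      rw [IsLocalization.AtPrime.to_map_mem_maximal_iff (Localization.AtPrime p) p]
      exact hmem a ha)
  rw [List.length_map, hlen] at hle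
  unfold LocCoh.depth
  rwa [← idealDepth_congr _ e]

end lemmaC

section dim

variable {R : Type u} [CommRing R]

/-- `dim R_s/pR_s ≤ ht(s/p)`. -/
theorem ringKrullDim_quotient_map_le_height (p s : Ideal R) [p.IsPrime] [s.IsPrime] :
    ringKrullDim (Localization.AtPrime s ⧸ p.map (algebraMap R (Localization.AtPrime s))) ≤
      (((s.map (Ideal.Quotient.mk p)).height : ℕ∞) : WithBot ℕ∞) := by
  have hle : p ≤ (p.map (algebraMap R (Localization.AtPrime s))).comap
      (algebraMap R (Localization.AtPrime s)) := Ideal.le_comap_map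
  let φ : R ⧸ p →+* Localization.AtPrime s ⧸ p.map (algebraMap R (Localization.AtPrime s)) :=
    Ideal.quotientMap _ (algebraMap R (Localization.AtPrime s)) hle
  have hφ : ∀ x : R, φ (Ideal.Quotient.mk p x) =
      Ideal.Quotient.mk (p.map (algebraMap R (Localization.AtPrime s)))
        (algebraMap R (Localization.AtPrime s) x) := fun x => Ideal.quotientMap_mk
  have hinj : Function.Injective (Ideal.comap φ) := by
    intro P1 P2 h
    have h' : (P1.comap φ).comap (Ideal.Quotient.mk p) =
        (P2.comap φ).comap (Ideal.Quotient.mk p) := by rw [h]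
    rw [Ideal.comap_comap, Ideal.comap_comap] at h'
    have hcomp : φ.comp (Ideal.Quotient.mk p) =
        (Ideal.Quotient.mk (p.map (algebraMap R (Localization.AtPrime s)))).comp
          (algebraMap R (Localization.AtPrime s)) := by
      ext x
      exact hφ x
    rw [hcomp, ← Ideal.comap_comap, ← Ideal.comap_comap] at h'
    have h2 : P1.comap (Ideal.Quotient.mk (p.map (algebraMap R (Localization.AtPrime s)))) =
        P2.comap (Ideal.Quotient.mk (p.map (algebraMap R (Localization.AtPrime s)))) := by
      rw [← IsLocalization.map_under s.primeCompl (Localization.AtPrime s) (P1.comap _),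
        ← IsLocalization.map_under s.primeCompl (Localization.AtPrime s) (P2.comap _)]
      exact congrArg (Ideal.map (algebraMap R (Localization.AtPrime s))) h'
    exact Ideal.comap_injective_of_surjective _ Ideal.Quotient.mk_surjective h2
  rw [ringKrullDim, Order.krullDim_eq_iSup_height]
  apply iSup_le
  intro P
  have hsm : StrictMono (PrimeSpectrum.comap φ) := by
    intro a b hab
    refine lt_of_le_of_ne (Ideal.comap_mono hab.le) (fun h => hab.ne ?_)
    exact PrimeSpectrum.ext (hinj (congrArg PrimeSpectrum.asIdeal h))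
  have h1 : Order.height P ≤ Order.height (PrimeSpectrum.comap φ P) :=
    Order.height_le_height_apply_of_strictMono _ hsm P
  have h2 : (PrimeSpectrum.comap φ P).asIdeal ≤ s.map (Ideal.Quotient.mk p) := by
    intro x hx
    obtain ⟨x, rfl⟩ := Ideal.Quotient.mk_surjective x
    have hx' : φ (Ideal.Quotient.mk p x) ∈ P.asIdeal := hx
    rw [hφ] at hx'
    apply Ideal.mem_map_of_mem
    by_contra hxs
    have hu : IsUnit (algebraMap R (Localization.AtPrime s) x) :=
      IsLocalization.map_units (Localization.AtPrime s) (⟨x, hxs⟩ : s.primeCompl)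
    exact P.2.ne_top (Ideal.eq_top_of_isUnit_mem _ hx' (hu.map _))
  have h3 : Order.height (PrimeSpectrum.comap φ P) =
      (PrimeSpectrum.comap φ P).asIdeal.height :=
    (PrimeSpectrum.height_eq_orderHeight _).symm
  have h4 := Ideal.height_mono h2
  exact_mod_cast (h1.trans (h3.le.trans h4))

end dim

end Groth.Agent.Lib.Helper4
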