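import Mathlib
import Groth.Agent.Lib.Helper4.FaltHt
import Groth.Agent.Lib.Helper4.FaltKills
import Groth.Agent.Lib.Helper4.FaltBase
import Groth.Agent.Lib.Helper4.Sk
import Groth.Agent.Lib.Helper28.DepthLoc
import Groth.Agent.S11650

/-!
# Faltings' annihilator theorem, first inequality `f_a^b(M) ≤ λ_a^b(M)` (helper4)

Main statement `not_KK`: if `b ⊄ p`, `depth M_p = t` and `ht((a+p)/p) = h` then no power of `b`
kills all of `H^i_a(M)`, `i ≤ t + h`.
-/

set_option autoImplicit false
set_option linter.style.haveILetI false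
set_option linter.unusedSectionVars false
set_option linter.unusedVariables false
set_option maxHeartbeats 800000

open CategoryTheory Limits Opposite Abelian Pointwise

universe u

namespace Groth.Agent.Lib.Helper4.Falt

open Groth.Agent.Lib.Helper4.LC Groth.Agent.Lib.Helper20

lemma enat_arith (α β τ η : ℕ∞) (h : ℕ) (e1 : α + β ≤ (h : ℕ∞)) (e2 : 1 ≤ α) (e3 : τ ≤ 0 + α)
    (e4 : η ≤ β) : ∃ τ' η' : ℕ, τ = τ' ∧ η = η' ∧ η' < h ∧ τ' + η' ≤ h := by
  have hα : α ≠ ⊤ := ne_top_of_le_ne_top (ENat.coe_ne_top h) (le_trans le_self_add e1)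
  have hβ : β ≠ ⊤ := ne_top_of_le_ne_top (ENat.coe_ne_top h) (le_trans le_add_self e1)
  lift α to ℕ using hα
  lift β to ℕ using hβ
  have hτ : τ ≠ ⊤ := ne_top_of_le_ne_top (by simp) e3
  have hη : η ≠ ⊤ := ne_top_of_le_ne_top (ENat.coe_ne_top β) e4
  lift τ to ℕ using hτ
  lift η to ℕ using hη
  refine ⟨τ, η, rfl, rfl, ?_, ?_⟩
  · norm_cast at e1 e2 e3 e4
    omega
  · norm_cast at e1 e2 e3 e4
    omega

lemma enat_succ_cancel (d : ℕ∞) (t : ℕ) (h : d + 1 = ((t + 1 : ℕ) : ℕ∞)) : d = t := by
  have hd : d ≠ ⊤ := by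
    rintro rfl
    rw [top_add] at h
    exact ENat.top_ne_coe _ h
  lift d to ℕ using hd
  norm_cast at h ⊢
  omega

variable {R : Type u} [CommRing R] [IsNoetherianRing R]

/-- **Faltings' annihilator theorem, first inequality (core)**. -/
theorem not_KK (a : Ideal R) : ∀ (h t : ℕ) (b : Ideal R) (M : Type u) [AddCommGroup M]
    [Module R M] [Module.Finite R M] (p : Ideal R) [p.IsPrime], ¬ b ≤ p →
    LocCoh.depth (Localization.AtPrime p) (LocalizedModule p.primeCompl M) = (t : ℕ∞) →
    ((a ⊔ p).map (Ideal.Quotient.mk p)).height = (h : ℕ∞) → ¬ KK a b M (t + h) := by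
  intro h
  induction h using Nat.strong_induction_on with
  | _ h IHh =>
  intro t
  induction t with
  | zero =>
    intro b M _ _ _ p hpp hb hdep hht hKK
    rw [Nat.zero_add] at hKK
    have hpass : p ∈ associatedPrimes R M :=
      (Groth.Agent.Lib.Helper4.depth_localizedModule_eq_zero_iff p).1 (by rw [hdep, Nat.cast_zero])
    rcases Nat.lt_or_ge h 2 with hlt | hge
    · interval_cases h
      · -- `h = 0`: `a ⊆ p`, and `Γ_a(M)` contains a copy of `R/p`
        have hap : a ≤ p := by
          rw [Nat.cast_zero, Ideal.height_eq_zero_iff_eq_bot, Ideal.map_eq_bot_iff_le_ker,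
            Ideal.mk_ker] at hht
          exact le_sup_left.trans hht
        obtain ⟨_, m₀, hm₀⟩ := isAssociatedPrime_iff.1 (AssociatedPrimes.mem_iff.1 hpass)
        have hm₀t : m₀ ∈ DRing.torsionSub a (ModuleCat.of R M) := ⟨1, fun r hr => by
          rw [pow_one] at hr
          have := hap hr
          rw [hm₀, Submodule.mem_colon_singleton, Submodule.mem_bot] at this
          exact this⟩
        obtain ⟨w, hw⟩ := exists_HH0_eq a (ModuleCat.of R M) m₀ hm₀t
        obtain ⟨k, hk⟩ := hKK 0 (Nat.zero_le _)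
        obtain ⟨zb, hzb, hzbp⟩ := SetLike.not_le_iff_exists.1 hb
        have h1 : zb ^ k • w = 0 := hk _ (Ideal.pow_mem_pow hzb k) w
        have h2 := congrArg (HH0 a (ModuleCat.of R M)) h1
        rw [map_smul, hw, map_zero] at h2
        have h3 : zb ^ k ∈ p := by
          rw [hm₀, Submodule.mem_colon_singleton, Submodule.mem_bot]
          exact h2
        exact hzbp (hpp.mem_of_pow_mem k h3)
      · -- `h = 1`
        obtain ⟨q, hqP, haq, hq1⟩ := exists_prime_relHeight_eq a p 1 hht
        haveI := hqP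
        have hpq : p ≤ q := le_sup_right.trans haq
        have hap : ¬ a ≤ p := by
          intro hap
          rw [sup_eq_right.mpr hap, relHeight_self, Nat.cast_one] at hht
          exact zero_ne_one hht
        have hq1' : (q.map (Ideal.Quotient.mk p)).height = 1 := by rw [hq1, Nat.cast_one]
        exact not_kills_H1 a b M p q hpass hb hap (le_sup_left.trans haq) hpq
          (fun P hP hpP hPq => eq_of_relHeight_eq_one p q hq1' P hP hpP hPq) (hKK 1 le_rfl)
    · -- `h ≥ 2`
      obtain ⟨q, hqP, haq, hqh⟩ := exists_prime_relHeight_eq a p h hht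
      haveI := hqP
      have hpq : p ≤ q := le_sup_right.trans haq
      obtain ⟨s, hsP, hps, hsq, hbs⟩ := exists_prime_between b p q hpq
        (by rw [hqh]; exact_mod_cast hge) hb
      haveI := hsP
      have e1 := relHeight_add_le p s q hps.le hsq
      have e2 := one_le_relHeight p s hps
      have e3 := Groth.Agent.S11650.result R M p s hps.le
      have e4 : ((a ⊔ s).map (Ideal.Quotient.mk s)).height ≤
          (q.map (Ideal.Quotient.mk s)).height :=
        Ideal.height_mono (Ideal.map_mono (sup_le (le_sup_left.trans haq) hsq))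
      rw [hqh] at e1
      rw [hdep, Nat.cast_zero] at e3
      obtain ⟨τ, η, hτ, hη, hηh, hle⟩ := enat_arith _ _ _ _ h e1 e2 e3 e4
      exact IHh η hηh τ b M s hbs hτ hη (hKK.mono hle)
  | succ t IHt =>
    intro b M _ _ _ p hpp hb hdep hht hKK
    classical
    have hpnot : p ∉ associatedPrimes R M := by
      intro hpa
      have h0 := (Groth.Agent.Lib.Helper4.depth_localizedModule_eq_zero_iff p).2 hpa
      rw [hdep] at h0
      exact absurd h0 (by norm_cast)
    let Aout : Finset (Ideal R) :=
      (associatedPrimes.finite R M).toFinset.filter (fun P => ¬ P ≤ p)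
    let c : Ideal R := b * ∏ P ∈ Aout, P
    have hcb : c ≤ b := Ideal.mul_le_left
    have hcp : ¬ c ≤ p := by
      intro hc
      rcases (Ideal.IsPrime.mul_le hpp).1 hc with h1 | h1
      · exact hb h1
      · obtain ⟨P, hP, hPp⟩ := (Ideal.IsPrime.prod_le hpp).1 h1
        exact (Finset.mem_filter.1 hP).2 hPp
    have hcout : ∀ P ∈ associatedPrimes R M, ¬ P ≤ p → c ≤ P := by
      intro P hP hPp
      have hmem : P ∈ Aout := Finset.mem_filter.2 ⟨(Set.Finite.mem_toFinset _).2 hP, hPp⟩
      exact Ideal.mul_le_right.trans (Ideal.prod_le_inf.trans (Finset.inf_le hmem))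
    have hKK2 : KK a c (M ⧸ DRing.torsionSub c M) (t + 1 + h) :=
      KK.quot_torsionSub a c c M le_rfl _ (hKK.of_le hcb)
    have hNloc := torsionSub_local c M p hcp
    have hdep2 : LocCoh.depth (Localization.AtPrime p)
        (LocalizedModule p.primeCompl (M ⧸ DRing.torsionSub c M)) = ((t + 1 : ℕ) : ℕ∞) := by
      rw [depth_quot_eq p _ hNloc, hdep]
    have hreg : ∃ x ∈ p, IsSMulRegular (M ⧸ DRing.torsionSub c M) x := by
      by_contra hcon
      push Not at hcon
      have hfin := associatedPrimes.finite R (M ⧸ DRing.torsionSub c M)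
      have hsub : (p : Set R) ⊆ ⋃ P ∈ (hfin.toFinset : Set (Ideal R)),
          ((fun P : Ideal R => P) P : Set R) := by
        intro x hx
        have hx' : x ∈ ⋃ P ∈ associatedPrimes R (M ⧸ DRing.torsionSub c M), (P : Set R) := by
          rw [biUnion_associatedPrimes_eq_compl_regular R (M ⧸ DRing.torsionSub c M)]
          exact hcon x hx
        simp only [Set.mem_iUnion] at hx' ⊢
        obtain ⟨P, hP, hxP⟩ := hx'
        exact ⟨P, by simpa using hP, hxP⟩
      obtain ⟨P, hP, hpP⟩ := (Ideal.subset_union_prime (f := fun P : Ideal R => P) p p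
        (fun P hP _ _ => ((Set.Finite.mem_toFinset _).1 hP).isPrime)).1 hsub
      have hP' : P ∈ associatedPrimes R (M ⧸ DRing.torsionSub c M) :=
        (Set.Finite.mem_toFinset _).1 hP
      obtain ⟨hPM, hcP⟩ := assoc_quot_torsionSub c M P hP'
      have hPp : P ≤ p := by
        by_contra hPp
        exact hcP (hcout P hPM hPp)
      have hPeq : P = p := le_antisymm hPp hpP
      exact hpnot (hPeq ▸ hPM)
    obtain ⟨x, hxp, hxreg⟩ := hreg
    have hdep3 : LocCoh.depth (Localization.AtPrime p) (LocalizedModule p.primeCompl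
        (QuotSMulTop x (M ⧸ DRing.torsionSub c M))) = (t : ℕ∞) := by
      have h0 := Groth.Agent.Lib.Helper28.depth_localization_quotSMulTop p hxp hxreg
      rw [hdep2] at h0
      exact enat_succ_cancel _ t h0
    have hKK3 : KK a c (QuotSMulTop x (M ⧸ DRing.torsionSub c M)) (t + h) :=
      KK.quotSMulTop a c _ x hxreg _ (hKK2.mono (by omega))
    exact IHt c (QuotSMulTop x (M ⧸ DRing.torsionSub c M)) p hcp hdep3 hht hKK3

/-- **Faltings' annihilator theorem, first inequality**: `f_a^b(M) ≤ λ_a^b(M)`. -/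
theorem finDimRel_le_adjDepth (a b : Ideal R) (M : Type u) [AddCommGroup M] [Module R M]
    [Module.Finite R M] (p : PrimeSpectrum R) (hb : ¬ b ≤ p.asIdeal) :
    LocCoh.finDimRel a b M ≤ LocCoh.adjDepth a M p := by
  haveI := p.2
  unfold LocCoh.adjDepth
  by_cases h1 : LocCoh.depth (Localization.AtPrime p.asIdeal)
      (LocalizedModule p.asIdeal.primeCompl M) = ⊤
  · rw [h1, top_add]
    exact le_top
  by_cases h2 : ((a ⊔ p.asIdeal).map (Ideal.Quotient.mk p.asIdeal)).height = ⊤
  · rw [h2, add_top]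
    exact le_top
  obtain ⟨t, ht⟩ := ENat.ne_top_iff_exists.mp h1
  obtain ⟨h, hh⟩ := ENat.ne_top_iff_exists.mp h2
  have hnot := not_KK a h t b M p.asIdeal hb ht.symm hh.symm
  unfold KK at hnot
  push Not at hnot
  obtain ⟨i, hi, hiK⟩ := hnot
  have hi' := not_le_radical_of_not_kills a b M i hiK
  rw [← ht, ← hh]
  unfold LocCoh.finDimRel
  refine le_trans (iInf₂_le i hi') ?_
  exact_mod_cast hi

end Groth.Agent.Lib.Helper4.Falt
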