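import Mathlib
import Groth.Agent.Lib.Helper4.Depth
import Groth.Agent.S0563

/-!
# Projective dimension versus depth over a regular local ring (helper4)

`pd N + depth N ≤ dim A` for a finite module over a regular local ring `A` (the inequality half of
Auslander–Buchsbaum, obtained from Serre's bound `pd ≤ dim A` and `pd (N/xN) = pd N + 1`).
-/

set_option autoImplicit false
set_option linter.style.haveILetI false
set_option linter.unusedSectionVars false
set_option linter.unusedVariables false
set_option maxHeartbeats 400000

open CategoryTheory Limits Opposite Abelian Pointwise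

universe u

namespace Groth.Agent.Lib.Helper4.Falt

open Groth.Agent.Lib.Helper4 IsLocalRing

/-- Over a regular local ring of dimension `d`, a finite module of depth `≥ k` has projective
dimension `≤ e` as soon as `d ≤ k + e`. -/
theorem hasProjectiveDimensionLE_of_depth (A : Type u) [CommRing A] [IsRegularLocalRing A] (d : ℕ)
    (hd : ringKrullDim A = d) : ∀ (k : ℕ) (N : Type u) [AddCommGroup N] [Module A N]
    [Module.Finite A N] (e : ℕ), (k : ℕ∞) ≤ LocCoh.depth A N → d ≤ k + e →
    HasProjectiveDimensionLE (ModuleCat.of A N) e := by
  intro k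
  induction k with
  | zero =>
    intro N _ _ _ e _ hde
    haveI h := Groth.Agent.S0563.result A d hd N
    exact hasProjectiveDimensionLT_of_ge _ (d + 1) (e + 1) (by omega)
  | succ k ih =>
    intro N _ _ _ e hk hde
    by_cases hsub : Subsingleton N
    · have hz : IsZero (ModuleCat.of A N) := ModuleCat.isZero_of_subsingleton _
      haveI := hz.hasProjectiveDimensionLT_zero
      exact hasProjectiveDimensionLT_of_ge _ 0 (e + 1) (by omega)
    · haveI : Nontrivial N := not_subsingleton_iff_nontrivial.1 hsub
      have hmN : maximalIdeal A • (⊤ : Submodule A N) ≠ ⊤ := maximalIdeal_smul_top_ne_top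
      have h1 : 1 ≤ LocCoh.idealDepth (maximalIdeal A) N := by
        refine le_trans ?_ hk
        exact_mod_cast Nat.succ_le_succ (Nat.zero_le k)
      obtain ⟨x, hxm, hxreg⟩ := (one_le_idealDepth_iff _ hmN).1 h1
      have hq : LocCoh.idealDepth (maximalIdeal A) (QuotSMulTop x N) + 1 =
          LocCoh.idealDepth (maximalIdeal A) N :=
        idealDepth_quotSMulTop_add_one _ x hxm hxreg
      have hk' : (k : ℕ∞) ≤ LocCoh.depth A (QuotSMulTop x N) := by
        unfold LocCoh.depth at hk ⊢
        rw [← hq] at hk
        push_cast at hk
        exact (ENat.add_le_add_iff_right (by simp)).mp hk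
      have hIH := ih (QuotSMulTop x N) (e + 1) hk' (by omega)
      have hpd := ModuleCat.projectiveDimension_quotSMulTop_eq_succ_of_isSMulRegular
        (ModuleCat.of A N) x hxreg hxm
      have h2 : projectiveDimension (ModuleCat.of A (QuotSMulTop x N)) ≤ ((e + 1 : ℕ) : WithBot ℕ∞) :=
        (projectiveDimension_le_iff _ _).2 hIH
      have h3 : projectiveDimension (ModuleCat.of A N) + 1 ≤ ((e + 1 : ℕ) : WithBot ℕ∞) := by
        rw [← hpd]; exact h2
      rw [Nat.cast_add, Nat.cast_one, ENat.WithBot.add_le_add_one_right_iff] at h3
      exact (projectiveDimension_le_iff _ _).1 h3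

end Groth.Agent.Lib.Helper4.Falt
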