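import Groth.Agent.Lib.Helper4.LC10

/-!
# Local cohomology commutes with localization at an element; image of `H_{a+bR} → H_a` (helper4)
-/

set_option autoImplicit false
set_option linter.style.haveILetI false
set_option linter.unusedSectionVars false
set_option maxHeartbeats 400000

open CategoryTheory Limits Opposite Abelian

universe u

namespace Groth.Agent.Lib.Helper4.LC

variable {R : Type u} [CommRing R]

section localization

variable [IsNoetherianRing R] (a : Ideal R) (b : R)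

lemma HH.map_comm {A B C D : ModuleCat.{u} R} (f : A ⟶ B) (g : B ⟶ D) (f' : A ⟶ C) (g' : C ⟶ D)
    (h : f ≫ g = f' ≫ g') (i : ℕ) (x : HH a A i) :
    HH.map a g i (HH.map a f i x) = HH.map a g' i (HH.map a f' i x) := by
  rw [← HH.map_comp, ← HH.map_comp, h]

lemma HH.map_locHom_δ {S : ShortComplex (ModuleCat.{u} R)} (hS : S.ShortExact) (i : ℕ)
    (z : HH a S.X₃ i) :
    HH.map a (locHom b S.X₁) (i + 1) (HH.δ a hS i z) =
      HH.δ a (locSES_shortExact b hS) i (HH.map a (locHom b S.X₃) i z) :=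
  HH.map_δ a hS (locSES_shortExact b hS) (locSESHom b hS) i z

lemma HH.map_locHom_map_g {S : ShortComplex (ModuleCat.{u} R)} (hS : S.ShortExact) (i : ℕ)
    (v : HH a S.X₂ i) :
    HH.map a (locHom b S.X₃) i (HH.map a S.g i v) =
      HH.map a (locSES b hS).g i (HH.map a (locHom b S.X₂) i v) :=
  HH.map_comm a S.g (locHom b S.X₃) (locHom b S.X₂) (locSES b hS).g
    ((locSESHom b hS).comm₂₃).symm i v

lemma HH.loc_step {S : ShortComplex (ModuleCat.{u} R)} (hS : S.ShortExact) [Injective S.X₂]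
    (i : ℕ)
    (ih2 : ∀ y : HH a (locObj b S.X₂) i, ∃ (n : ℕ) (x : HH a S.X₂ i),
      HH.map a (locHom b S.X₂) i x = b ^ n • y)
    (ih3 : (∀ x : HH a S.X₃ i, HH.map a (locHom b S.X₃) i x = 0 → ∃ n : ℕ, b ^ n • x = 0) ∧
      (∀ y : HH a (locObj b S.X₃) i, ∃ (n : ℕ) (x : HH a S.X₃ i),
        HH.map a (locHom b S.X₃) i x = b ^ n • y)) :
    (∀ x : HH a S.X₁ (i + 1), HH.map a (locHom b S.X₁) (i + 1) x = 0 →
      ∃ n : ℕ, b ^ n • x = 0) ∧
    (∀ y : HH a (locObj b S.X₁) (i + 1), ∃ (n : ℕ) (x : HH a S.X₁ (i + 1)),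
      HH.map a (locHom b S.X₁) (i + 1) x = b ^ n • y) := by
  have hSb := locSES_shortExact b hS
  have hE : Subsingleton (HH a S.X₂ (i + 1)) := HH.subsingleton_of_injective a S.X₂ i
  have hEb : Subsingleton (HH a (locSES b hS).X₂ (i + 1)) :=
    HH.subsingleton_loc_of_injective a b S.X₂ i
  constructor
  · intro x hx
    obtain ⟨z, hz⟩ := HH.δ_surjective a hS i hE x
    have hx' : HH.δ a hSb i (HH.map a (locHom b S.X₃) i z) = 0 := by
      rw [← HH.map_locHom_δ a b hS i z, hz]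
      exact hx
    obtain ⟨v, hv⟩ := HH.exact₃ a hSb i _ hx'
    obtain ⟨n, v', hv'⟩ := ih2 v
    have h1 : HH.map a (locHom b S.X₃) i (b ^ n • z - HH.map a S.g i v') = 0 := by
      rw [map_sub, map_smul, HH.map_locHom_map_g a b hS i v', hv', map_smul]
      exact sub_eq_zero.2 (congrArg (fun t => b ^ n • t) hv.symm)
    obtain ⟨m, hm⟩ := ih3.1 _ h1
    refine ⟨m + n, ?_⟩
    have h2 : b ^ m • b ^ n • z = b ^ m • HH.map a S.g i v' := by
      rw [smul_sub, sub_eq_zero] at hm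
      exact hm
    rw [← hz, ← map_smul, pow_add, mul_smul, h2, ← map_smul, HH.δ_map_g]
  · intro y
    obtain ⟨z, hz⟩ := HH.δ_surjective a hSb i hEb y
    obtain ⟨n, w, hw⟩ := ih3.2 z
    refine ⟨n, HH.δ a hS i w, ?_⟩
    rw [HH.map_locHom_δ a b hS i w, hw, map_smul]
    exact congrArg (fun t => b ^ n • t) hz

/-- `H^i_a(M) → H^i_a(M_b)`: kernel is `b`-power torsion and the cokernel too. -/
theorem HH.loc_aux (i : ℕ) : ∀ (M : ModuleCat.{u} R),
    (∀ x : HH a M i, HH.map a (locHom b M) i x = 0 → ∃ n : ℕ, b ^ n • x = 0) ∧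
    (∀ y : HH a (locObj b M) i, ∃ (n : ℕ) (x : HH a M i),
      HH.map a (locHom b M) i x = b ^ n • y) := by
  induction i with
  | zero => exact fun M => HH.loc_zero a b M
  | succ i ih =>
    intro M
    exact HH.loc_step a b (injSES_shortExact M) i (ih (injSES M).X₂).2 (ih (injSES M).X₃)

/-- **local cohomology commutes with localization at an element**: `H^i_a(M) → H^i_a(M_b)` is the
localization at the powers of `b`. -/
theorem HH.isLocalizedModule_map_locHom (M : ModuleCat.{u} R) (i : ℕ) :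
    IsLocalizedModule (Submonoid.powers b) (HH.map a (locHom b M) i) where
  map_units s := by
    obtain ⟨n, hn⟩ := (Submonoid.mem_powers_iff _ _).1 s.2
    have hb : IsUnit (algebraMap R (Module.End R (HH a (locObj b M) i)) b) :=
      (Module.End.isUnit_iff _).2 (HH.smul_bijective_loc b a M i)
    rw [← hn, map_pow]
    exact hb.pow n
  surj y := by
    obtain ⟨n, x, hx⟩ := (HH.loc_aux a b i M).2 y
    exact ⟨⟨x, ⟨b ^ n, n, rfl⟩⟩, hx.symm⟩
  exists_of_eq {x₁ x₂} h := by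
    have h0 : HH.map a (locHom b M) i (x₁ - x₂) = 0 := by rw [map_sub, h, sub_self]
    obtain ⟨n, hn⟩ := (HH.loc_aux a b i M).1 _ h0
    refine ⟨⟨b ^ n, n, rfl⟩, ?_⟩
    rw [smul_sub, sub_eq_zero] at hn
    exact hn

end localization

/-! ### the image of `H^i_{a+bR}(M) → H^i_a(M)` -/

section image

variable [IsNoetherianRing R] (a : Ideal R) (b : R)

lemma HH.pow_smul_ofLE_eq_zero (M : ModuleCat.{u} R) (i : ℕ)
    (z : HH (a ⊔ Ideal.span {b}) M i) :
    ∃ n : ℕ, b ^ n • HH.ofLE (le_sup_left : a ≤ a ⊔ Ideal.span {b}) M i z = 0 := by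
  obtain ⟨n, hn⟩ := HH.exists_pow_smul_eq_zero (a ⊔ Ideal.span {b}) b
    (Ideal.mem_sup_right (Ideal.mem_span_singleton_self b)) z
  exact ⟨n, by rw [← map_smul, hn, map_zero]⟩

lemma HH.exists_ofLE_eq_zero (M : ModuleCat.{u} R) (x : HH a M 0) (n : ℕ) (hn : b ^ n • x = 0) :
    ∃ z : HH (a ⊔ Ideal.span {b}) M 0,
      HH.ofLE (le_sup_left : a ≤ a ⊔ Ideal.span {b}) M 0 z = x := by
  have hm : HH0 a M x ∈ DRing.torsionSub (a ⊔ Ideal.span {b}) M := by
    rw [mem_torsionSub_sup_iff]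
    refine ⟨HH0_mem a M x, mem_torsionSub_span_of_pow_smul_eq_zero b n ?_⟩
    rw [← map_smul, hn, map_zero]
  obtain ⟨z, hz⟩ := exists_HH0_eq (a ⊔ Ideal.span {b}) M _ hm
  exact ⟨z, HH0_injective a M (by rw [HH0_ofLE, hz])⟩

set_option maxHeartbeats 4000000 in
lemma HH.exists_ofLE_eq_step {S : ShortComplex (ModuleCat.{u} R)} (hS : S.ShortExact)
    [Injective S.X₂] (i : ℕ)
    (ih : ∀ (w : HH a S.X₃ i) (k : ℕ), b ^ k • w = 0 →
      ∃ z : HH (a ⊔ Ideal.span {b}) S.X₃ i,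
        HH.ofLE (le_sup_left : a ≤ a ⊔ Ideal.span {b}) S.X₃ i z = w)
    (x : HH a S.X₁ (i + 1)) (n : ℕ) (hn : b ^ n • x = 0) :
    ∃ z : HH (a ⊔ Ideal.span {b}) S.X₁ (i + 1),
      HH.ofLE (le_sup_left : a ≤ a ⊔ Ideal.span {b}) S.X₁ (i + 1) z = x := by
  have hE : Subsingleton (HH a S.X₂ (i + 1)) := HH.subsingleton_of_injective a S.X₂ i
  obtain ⟨w, hw⟩ := HH.δ_surjective a hS i hE x
  have h1 : HH.δ a hS i (b ^ n • w) = 0 := by rw [map_smul, hw, hn]
  obtain ⟨v, hv⟩ := HH.exact₃ a hS i (b ^ n • w) h1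
  obtain ⟨w', k, hw'δ, hw'k⟩ : ∃ (w' : HH a S.X₃ i) (k : ℕ),
      HH.δ a hS i w' = x ∧ b ^ k • w' = 0 := by
    cases i with
    | zero =>
      haveI : Injective (ModuleCat.of R S.X₂) := inferInstanceAs (Injective S.X₂)
      haveI : Module.Injective R S.X₂ := Module.injective_module_of_injective_object R S.X₂
      haveI : Module.Injective R (DRing.torsionSub a S.X₂) := injective_torsionSub a S.X₂
      obtain ⟨e₁, m, hm⟩ := exists_pow_smul_sub_eq_zero (DRing.torsionSub a S.X₂) b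
        (HH0Equiv a S.X₂ v) n
      have hv₁ : b ^ m • (b ^ n • (HH0Equiv a S.X₂).symm e₁ - v) = 0 := by
        apply (HH0Equiv a S.X₂).injective
        rw [map_smul, map_sub, map_smul, LinearEquiv.apply_symm_apply, map_zero]
        exact hm
      refine ⟨w - HH.map a S.g 0 ((HH0Equiv a S.X₂).symm e₁), n + m, ?_, ?_⟩
      · rw [map_sub, HH.δ_map_g, sub_zero, hw]
      · have h2 : b ^ n • (w - HH.map a S.g 0 ((HH0Equiv a S.X₂).symm e₁)) =
            HH.map a S.g 0 (v - b ^ n • (HH0Equiv a S.X₂).symm e₁) := by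
          rw [smul_sub, ← hv, map_sub, map_smul]
        have h3 : b ^ m • (v - b ^ n • (HH0Equiv a S.X₂).symm e₁) = 0 := by
          have h4 : v - b ^ n • (HH0Equiv a S.X₂).symm e₁ =
              -(b ^ n • (HH0Equiv a S.X₂).symm e₁ - v) := by abel
          rw [h4, smul_neg, hv₁, neg_zero]
        rw [pow_add, mul_comm, mul_smul, h2, ← map_smul, h3, map_zero]
    | succ j =>
      have hE' : Subsingleton (HH a S.X₂ (j + 1)) := HH.subsingleton_of_injective a S.X₂ j
      refine ⟨w, n, hw, ?_⟩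
      rw [← hv, Subsingleton.elim v 0, map_zero]
  obtain ⟨z', hz'⟩ := ih w' k hw'k
  refine ⟨HH.δ (a ⊔ Ideal.span {b}) hS i z', ?_⟩
  rw [HH.ofLE_δ, hz', hw'δ]

/-- the image of `H^i_{a+bR}(M) → H^i_a(M)` is the `b`-power torsion. -/
theorem HH.exists_ofLE_eq_iff (i : ℕ) : ∀ (M : ModuleCat.{u} R) (x : HH a M i),
    (∃ z : HH (a ⊔ Ideal.span {b}) M i,
      HH.ofLE (le_sup_left : a ≤ a ⊔ Ideal.span {b}) M i z = x) ↔ ∃ n : ℕ, b ^ n • x = 0 := by
  have key : ∀ (M : ModuleCat.{u} R) (x : HH a M i) (n : ℕ), b ^ n • x = 0 →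
      ∃ z : HH (a ⊔ Ideal.span {b}) M i,
        HH.ofLE (le_sup_left : a ≤ a ⊔ Ideal.span {b}) M i z = x := by
    induction i with
    | zero => exact fun M x n hn => HH.exists_ofLE_eq_zero a b M x n hn
    | succ i ih =>
      intro M x n hn
      exact HH.exists_ofLE_eq_step a b (injSES_shortExact M) i (ih (injSES M).X₃) x n hn
  intro M x
  constructor
  · rintro ⟨z, rfl⟩
    exact HH.pow_smul_ofLE_eq_zero a b M i z
  · rintro ⟨n, hn⟩
    exact key M x n hn

/-- exactness of `H^i_{a+bR}(M) → H^i_a(M) → H^i_a(M_b)`. -/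
theorem HH.exact_ofLE_map_locHom (M : ModuleCat.{u} R) (i : ℕ) :
    Function.Exact (HH.ofLE (le_sup_left : a ≤ a ⊔ Ideal.span {b}) M i)
      (HH.map a (locHom b M) i) := by
  intro x
  rw [Set.mem_range, HH.exists_ofLE_eq_iff a b i M x]
  constructor
  · intro hx
    exact (HH.loc_aux a b i M).1 x hx
  · rintro ⟨n, hn⟩
    apply HH.pow_smul_injective_loc b a M i n
    rw [← map_smul, hn, map_zero]

end image

end Groth.Agent.Lib.Helper4.LC
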