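import Mathlib
import Groth.Agent.Lib.Helper4.FaltPd
import Groth.Agent.Lib.Helper4.FaltHt
import Groth.Agent.Lib.Helper4.FaltKills
import Groth.Agent.Lib.Helper4.LC10b
import Groth.Agent.Lib.Helper4.RegCM
import Groth.Agent.Lib.Helper4.SkRing
import Groth.Agent.Lib.Helper4.CM
import Groth.Agent.Lib.Helper28.DepthLoc
import Groth.Agent.Lib.Helper20.LCFactor2
import Groth.Prelude.Def_W4bk5brsh7111920

/-!
# Faltings' annihilator theorem over a regular ring: `λ_a^b(M) ≤ f_a^b(M)` (helper4)
-/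

set_option autoImplicit false
set_option linter.style.haveILetI false
set_option linter.unusedSectionVars false
set_option linter.unusedVariables false
set_option maxHeartbeats 800000

open CategoryTheory Limits Opposite Abelian Pointwise

universe u

namespace Groth.Agent.Lib.Helper4.Falt

open Groth.Agent.Lib.Helper4 Groth.Agent.Lib.Helper4.LC Groth.Agent.Lib.Helper20 IsLocalRing

/-- in a regular ring, `grade a ≥ ht a`. -/
theorem height_le_idealDepth_self (S : Type u) [CommRing S] [IsRegularRing S] (a : Ideal S) (h : ℕ)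
    (hh : (h : ℕ∞) ≤ a.height) : (h : ℕ∞) ≤ LocCoh.idealDepth a S := by
  apply Groth.Agent.Lib.Helper28.le_idealDepth_of_forall_localization a h
  intro P _ haP _
  rw [depth_localizedModule_self]
  have h1 := RegCM.depth_eq_ringKrullDim (Localization.AtPrime P)
  rw [IsLocalization.AtPrime.ringKrullDim_eq_height P (Localization.AtPrime P)] at h1
  have h2 : LocCoh.depth (Localization.AtPrime P) (Localization.AtPrime P) = P.height := by
    exact_mod_cast h1
  rw [h2]
  exact hh.trans (Ideal.height_mono haP)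

lemma arith1 (δ ρ' ρ : ℕ∞) (d' h i : ℕ) (hadj : (i : ℕ∞) < δ + ρ') (hρ : ρ' ≤ ρ)
    (hsum : (d' : ℕ∞) + ρ ≤ h) (hih : i < h) :
    ∃ k : ℕ, (k : ℕ∞) ≤ δ ∧ d' ≤ k + (h - 1 - i) := by
  have hρt : ρ ≠ ⊤ := by
    rintro rfl
    rw [add_top] at hsum
    exact ENat.coe_ne_top _ (top_le_iff.mp hsum)
  lift ρ to ℕ using hρt
  have hρ't : ρ' ≠ ⊤ := ne_top_of_le_ne_top (ENat.coe_ne_top ρ) hρ
  lift ρ' to ℕ using hρ't
  induction δ using ENat.recTopCoe with
  | top => exact ⟨d', le_top, by omega⟩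
  | coe k =>
    refine ⟨k, le_rfl, ?_⟩
    norm_cast at hadj hρ hsum
    omega

lemma arith2 (δ ρ' ρ : ℕ∞) (d' h i : ℕ) (hadj : (i : ℕ∞) < δ + ρ') (hρ : ρ' ≤ ρ)
    (hsum : (d' : ℕ∞) + ρ ≤ h) (hih : h ≤ i) : (d' : ℕ∞) < δ := by
  have hρt : ρ ≠ ⊤ := by
    rintro rfl
    rw [add_top] at hsum
    exact ENat.coe_ne_top _ (top_le_iff.mp hsum)
  lift ρ to ℕ using hρt
  have hρ't : ρ' ≠ ⊤ := ne_top_of_le_ne_top (ENat.coe_ne_top ρ) hρ
  lift ρ' to ℕ using hρ't
  induction δ using ENat.recTopCoe with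
  | top => exact ENat.coe_lt_top _
  | coe k =>
    norm_cast at hadj hρ hsum ⊢
    omega

/-- the adjusted depth is monotone in the ideal `a`. -/
lemma adjDepth_mono {R : Type u} [CommRing R] {a a' : Ideal R} (h : a ≤ a') (N : Type u)
    [AddCommGroup N] [Module R N] (p : PrimeSpectrum R) :
    LocCoh.adjDepth a N p ≤ LocCoh.adjDepth a' N p := by
  unfold LocCoh.adjDepth
  exact add_le_add le_rfl (Ideal.height_mono (Ideal.map_mono (sup_le_sup_right h _)))

/-- **Core of the second inequality** over a regular ring: if every prime `p ⊉ b` has `a`-adjusted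
depth `> i`, a power of `b` kills `H^i_a(N)`. -/
theorem kills_of_lt_adjDepth (S : Type u) [CommRing S] [IsRegularRing S] (a : Ideal S) :
    ∀ (N : Type u) [AddCommGroup N] [Module S N] [Module.Finite S N] (b : Ideal S) (i : ℕ),
      (∀ p : PrimeSpectrum S, ¬ b ≤ p.asIdeal → (i : ℕ∞) < LocCoh.adjDepth a N p) →
      Kills b (HH a (ModuleCat.of S N) i) := by
  refine IsNoetherian.induction (P := fun a : Ideal S => ∀ (N : Type u) [AddCommGroup N]
    [Module S N] [Module.Finite S N] (b : Ideal S) (i : ℕ),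
      (∀ p : PrimeSpectrum S, ¬ b ≤ p.asIdeal → (i : ℕ∞) < LocCoh.adjDepth a N p) →
      Kills b (HH a (ModuleCat.of S N) i)) ?_ a
  intro (a : Ideal S) IH
  intro N _ _ _ b i hH
  by_cases hatop : a = ⊤
  · refine ⟨0, fun r _ y => ?_⟩
    obtain ⟨n, hn⟩ := HH.exists_pow_smul_eq_zero (I := a) (1 : S) (by rw [hatop]; trivial) y
    rw [one_pow, one_smul] at hn
    rw [hn, smul_zero]
  -- a prime `q ⊇ a` of height `ht a`
  obtain ⟨h, hh⟩ : ∃ h : ℕ, a.height = (h : ℕ∞) :=
    ⟨_, (ENat.natCast_toNat (Ideal.height_ne_top hatop)).symm⟩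
  obtain ⟨q, hqP, haq, hqh⟩ := Ideal.exists_isPrime_height_eq hh
  haveI := hqP
  have hgrade : (h : ℕ∞) ≤ LocCoh.idealDepth a S := height_le_idealDepth_self S a h hh.ge
  -- key claim
  have hstar : ∀ (p : Ideal S) (hp : p.IsPrime), p ≤ q → ¬ b ≤ p →
      ∃ s : S, s ∉ p ∧ ∀ y : HH a (ModuleCat.of S N) i, s • y = 0 := by
    intro p hp hpq hbp
    haveI := hp
    have hadj : (i : ℕ∞) < LocCoh.depth (Localization.AtPrime p) (LocalizedModule p.primeCompl N) +
        ((a ⊔ p).map (Ideal.Quotient.mk p)).height := hH ⟨p, hp⟩ hbp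
    have hρ : ((a ⊔ p).map (Ideal.Quotient.mk p)).height ≤ (q.map (Ideal.Quotient.mk p)).height :=
      Ideal.height_mono (Ideal.map_mono (sup_le haq hpq))
    have hsum := height_ker_add_height_map_le (Ideal.Quotient.mk p) Ideal.Quotient.mk_surjective q
      (by rw [Ideal.mk_ker]; exact hpq)
    rw [Ideal.mk_ker, hqh] at hsum
    obtain ⟨d', hd'⟩ : ∃ d' : ℕ, p.height = (d' : ℕ∞) := by
      have hne : p.height ≠ ⊤ := by
        intro htop
        rw [htop, top_add] at hsum
        exact ENat.coe_ne_top _ (top_le_iff.mp hsum)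
      exact ⟨_, (ENat.natCast_toNat hne).symm⟩
    rw [hd'] at hsum
    have hdim : ringKrullDim (Localization.AtPrime p) = (d' : WithBot ℕ∞) := by
      rw [IsLocalization.AtPrime.ringKrullDim_eq_height p (Localization.AtPrime p), hd']
      rfl
    by_cases hih : i < h
    · obtain ⟨k, hk, hle⟩ := arith1 _ _ _ d' h i hadj hρ hsum hih
      have hpd := hasProjectiveDimensionLE_of_depth (Localization.AtPrime p) d' hdim k
        (LocalizedModule p.primeCompl N) (h - 1 - i) hk hle
      obtain ⟨s, hsp, hs⟩ := LCFactor.exists_smul_eq_zero_of_pd p (h - 1 - i) N hpd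
      refine ⟨s, hsp, fun y => hs a i ?_ y⟩
      refine lt_of_lt_of_le ?_ hgrade
      exact_mod_cast (by omega : i + (h - 1 - i) < h)
    · have hlt := arith2 _ _ _ d' h i hadj hρ hsum (not_lt.mp hih)
      have hsubs : Subsingleton (LocalizedModule p.primeCompl N) := by
        by_contra hns
        haveI : Nontrivial (LocalizedModule p.primeCompl N) := not_subsingleton_iff_nontrivial.1 hns
        have h1 := depth_le_supportDim (R := Localization.AtPrime p)
          (M := LocalizedModule p.primeCompl N)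
        have h2 := h1.trans (Module.supportDim_le_ringKrullDim (R := Localization.AtPrime p)
          (M := LocalizedModule p.primeCompl N))
        rw [hdim] at h2
        have h3 : LocCoh.depth (Localization.AtPrime p) (LocalizedModule p.primeCompl N) ≤
            (d' : ℕ∞) := by exact_mod_cast h2
        exact absurd (lt_of_lt_of_le hlt h3) (lt_irrefl _)
      have hns : (⟨p, hp⟩ : PrimeSpectrum S) ∉ Module.support S N := by
        rw [Module.notMem_support_iff]
        exact hsubs
      rw [Module.mem_support_iff_of_finite] at hns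
      obtain ⟨s, hsann, hsp⟩ := SetLike.not_le_iff_exists.1 hns
      exact ⟨s, hsp, fun y => smul_HH_eq_zero a _ i s
        (fun m => Module.mem_annihilator.1 hsann m) y⟩
  classical
  set 𝔰 : Ideal S := Module.annihilator S (HH a (ModuleCat.of S N) i) with h𝔰
  have hstar' : ∀ (p : Ideal S), p.IsPrime → p ≤ q → ¬ b ≤ p → ¬ 𝔰 ≤ p := by
    intro p hp hpq hbp hle
    obtain ⟨s, hsp, hs⟩ := hstar p hp hpq hbp
    exact hsp (hle (Module.mem_annihilator.2 hs))
  let T : Finset (Ideal S) :=
    (Ideal.finite_minimalPrimes_of_isNoetherianRing S 𝔰).toFinset.filter (fun P => ¬ b ≤ P)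
  have hTq : ¬ (∏ P ∈ T, P) ≤ q := by
    intro hle
    obtain ⟨P, hPT, hPq⟩ := (Ideal.IsPrime.prod_le hqP).1 hle
    have hPmin : P ∈ 𝔰.minimalPrimes :=
      (Set.Finite.mem_toFinset _).1 (Finset.mem_filter.1 hPT).1
    have hbP := (Finset.mem_filter.1 hPT).2
    exact hstar' P hPmin.1.1 hPq hbP hPmin.1.2
  obtain ⟨x, hxT, hxq⟩ := SetLike.not_le_iff_exists.1 hTq
  have hxb : Ideal.span {x} * b ≤ 𝔰.radical := by
    rw [← Ideal.sInf_minimalPrimes]
    refine le_sInf fun P hP => ?_
    by_cases hbP : b ≤ P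
    · exact Ideal.mul_le_right.trans hbP
    · have hPT : P ∈ T := Finset.mem_filter.2 ⟨(Set.Finite.mem_toFinset _).2 hP, hbP⟩
      refine Ideal.mul_le_left.trans ?_
      rw [Ideal.span_singleton_le_iff_mem]
      exact (Ideal.prod_le_inf.trans (Finset.inf_le hPT)) hxT
  obtain ⟨m, hm⟩ := Ideal.exists_pow_le_of_le_radical_of_fg hxb
    (IsNoetherian.noetherian (Ideal.span {x} * b))
  have hkill1 : ∀ r ∈ b ^ m, ∀ y : HH a (ModuleCat.of S N) i, x ^ m • (r • y) = 0 := by
    intro r hr y
    have h1 : x ^ m * r ∈ (Ideal.span {x} * b) ^ m := by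
      rw [mul_pow]
      exact Ideal.mul_mem_mul (Ideal.pow_mem_pow (Ideal.mem_span_singleton_self x) m) hr
    have h2 := Module.mem_annihilator.1 (hm h1) y
    rwa [mul_smul] at h2
  have hlt : a < a ⊔ Ideal.span {x} := by
    refine lt_of_le_of_ne le_sup_left (fun heq => hxq (haq ?_))
    rw [heq]
    exact (le_sup_right : Ideal.span {x} ≤ a ⊔ Ideal.span {x}) (Ideal.mem_span_singleton_self x)
  obtain ⟨m', hm'⟩ := IH (a ⊔ Ideal.span {x}) hlt N b i
    (fun p hbp => lt_of_lt_of_le (hH p hbp) (adjDepth_mono le_sup_left N p))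
  refine ⟨m + m', fun r hr y => ?_⟩
  rw [pow_add] at hr
  refine Submodule.mul_induction_on (C := fun r => r • y = 0) hr ?_ ?_
  · intro r1 hr1 r2 hr2
    change (r1 * r2) • y = 0
    obtain ⟨z, hz⟩ := (HH.exists_ofLE_eq_iff a x i (ModuleCat.of S N) (r1 • y)).2
      ⟨m, hkill1 r1 hr1 y⟩
    rw [mul_comm, mul_smul, ← hz, ← map_smul, hm' r2 hr2 z, map_zero]
  · intro r s hr hs
    change (r + s) • y = 0
    rw [add_smul, hr, hs, add_zero]

/-- **Faltings' annihilator theorem, second inequality, over a regular ring.** -/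
theorem minAdjDepth_le_finDimRel_of_isRegularRing (S : Type u) [CommRing S] [IsRegularRing S]
    (a b : Ideal S) (M : Type u) [AddCommGroup M] [Module S M] [Module.Finite S M] :
    LocCoh.minAdjDepth a b M ≤ LocCoh.finDimRel a b M := by
  unfold LocCoh.finDimRel
  refine le_iInf₂ fun i hi => ?_
  by_contra hlt
  push Not at hlt
  apply hi
  rw [← kills_iff_le_radical]
  exact kills_of_lt_adjDepth S a M b i (fun p hp => lt_of_lt_of_le hlt (iInf₂_le p hp))

end Groth.Agent.Lib.Helper4.Falt
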