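import Mathlib
import Groth.Agent.Lib.Helper4.FaltReg
import Groth.Agent.Lib.Helper4.FaltRing
import Groth.Agent.Lib.Helper4.FaltMain
import Groth.Agent.Lib.Helper20.LCFinite

/-!
# Finiteness of local cohomology via Faltings' annihilator theorem (helper4)

`H^i_I(M)` finite for all `i ≤ n`  ⇔  `n < f_I^I(M)`  ⇔ (images of regular rings) `n < λ_I^I(M)`.
-/

set_option autoImplicit false
set_option linter.style.haveILetI false
set_option linter.unusedSectionVars false
set_option linter.unusedVariables false
set_option maxHeartbeats 400000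

open CategoryTheory Limits Opposite Abelian Pointwise

universe u

namespace Groth.Agent.Lib.Helper4.Falt

open Groth.Agent.Lib.Helper4 Groth.Agent.Lib.Helper4.LC Groth.Agent.Lib.Helper20 IsLocalRing

section general

variable {A : Type u} [CommRing A] [IsNoetherianRing A]

/-- a common exponent for `KK`. -/
lemma KK.exists_common {a b : Ideal A} {M : Type u} [AddCommGroup M] [Module A M] :
    ∀ {n : ℕ}, KK a b M n →
      ∃ N : ℕ, ∀ i : ℕ, i ≤ n → ∀ r ∈ b ^ N, ∀ y : HH a (ModuleCat.of A M) i, r • y = 0 := by
  intro n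
  induction n with
  | zero =>
    intro h
    obtain ⟨k, hk⟩ := h 0 le_rfl
    refine ⟨k, fun i hi r hr y => ?_⟩
    obtain rfl : i = 0 := by omega
    exact hk r hr y
  | succ n ih =>
    intro h
    obtain ⟨N, hN⟩ := ih (h.mono (Nat.le_succ n))
    obtain ⟨k, hk⟩ := h (n + 1) le_rfl
    refine ⟨max N k, fun i hi r hr y => ?_⟩
    rcases Nat.lt_or_ge i (n + 1) with hlt | hge
    · exact hN i (by omega) r (Ideal.pow_le_pow_right (le_max_left N k) hr) y
    · obtain rfl : i = n + 1 := by omega
      exact hk r (Ideal.pow_le_pow_right (le_max_right N k) hr) y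

/-- finiteness of `H^i_I(M)` for `i ≤ n` is annihilation by a power of `I`. -/
theorem finite_iff_KK (I : Ideal A) (M : Type u) [AddCommGroup M] [Module A M] [Module.Finite A M]
    (n : ℕ) : (∀ i : ℕ, i ≤ n → Module.Finite A (LocCoh.H I i M)) ↔ KK I I M n := by
  constructor
  · intro h i hi
    haveI := h i hi
    haveI : Module.Finite A (HH I (ModuleCat.of A M) i) :=
      Module.Finite.equiv (lcEquiv I (ModuleCat.of A M) i)
    obtain ⟨N, hN⟩ := LCFinite.exists_pow_annihilates_of_finite I (ModuleCat.of A M) i
    exact ⟨N, hN⟩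
  · intro h i hi
    obtain ⟨N, hN⟩ := h.exists_common
    haveI := LCFinite.finite_of_annihilated I n M N hN i hi
    exact Module.Finite.equiv (lcEquiv I (ModuleCat.of A M) i).symm

/-- `KK a b M n ↔ n < f_a^b(M)`. -/
theorem KK_iff_lt_finDimRel (a b : Ideal A) (M : Type u) [AddCommGroup M] [Module A M] (n : ℕ) :
    KK a b M n ↔ (n : ℕ∞) < LocCoh.finDimRel a b M := by
  constructor
  · intro h
    have h1 : ((n + 1 : ℕ) : ℕ∞) ≤ LocCoh.finDimRel a b M := by
      unfold LocCoh.finDimRel
      refine le_iInf₂ fun i hi => ?_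
      have : ¬ i ≤ n := fun hle => hi ((kills_iff_le_radical a b M i).1 (h i hle))
      exact_mod_cast (by omega : n + 1 ≤ i)
    exact lt_of_lt_of_le (by exact_mod_cast Nat.lt_succ_self n) h1
  · intro h i hi
    by_contra hk
    have h1 := not_le_radical_of_not_kills a b M i hk
    have h2 : LocCoh.finDimRel a b M ≤ (i : ℕ∞) := by
      unfold LocCoh.finDimRel
      exact iInf₂_le i h1
    have h3 : (n : ℕ∞) < (i : ℕ∞) := lt_of_lt_of_le h h2
    have h4 : n < i := by exact_mod_cast h3
    omega

theorem finite_iff_lt_finDimRel (I : Ideal A) (M : Type u) [AddCommGroup M] [Module A M]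
    [Module.Finite A M] (n : ℕ) :
    (∀ i : ℕ, i ≤ n → Module.Finite A (LocCoh.H I i M)) ↔ (n : ℕ∞) < LocCoh.finDimRel I I M :=
  (finite_iff_KK I M n).trans (KK_iff_lt_finDimRel I I M n)

end general

section regular

variable (R : Type u) [CommRing R] [IsRegularRing R] (A : Type u) [CommRing A] [IsNoetherianRing A]
  (π : R →+* A) (hπ : Function.Surjective π)

include hπ in
/-- **Faltings' annihilator theorem** for homomorphic images of regular rings. -/
theorem finDimRel_eq_minAdjDepth (a b : Ideal A) (M : Type u) [AddCommGroup M] [Module A M]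
    [Module.Finite A M] : LocCoh.finDimRel a b M = LocCoh.minAdjDepth a b M := by
  apply le_antisymm
  · unfold LocCoh.minAdjDepth
    exact le_iInf₂ (fun p hp => finDimRel_le_adjDepth a b M p hp)
  · letI : Algebra R A := π.toAlgebra
    have hsurj : Function.Surjective (algebraMap R A) := hπ
    letI : Module R M := Module.compHom M π
    haveI : IsScalarTower R A M := IsScalarTower.of_algebraMap_smul (fun _ _ => rfl)
    haveI : Module.Finite R A := Module.Finite.of_surjective (Algebra.linearMap R A) hsurj
    haveI : Module.Finite R M := Module.Finite.trans A M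
    have ha : (a.comap (algebraMap R A)).map (algebraMap R A) = a :=
      Ideal.map_comap_of_surjective _ hsurj a
    have hb : (b.comap (algebraMap R A)).map (algebraMap R A) = b :=
      Ideal.map_comap_of_surjective _ hsurj b
    have h1 := minAdjDepth_eq_of_surjective hsurj M
      (a.comap (algebraMap R A)) (b.comap (algebraMap R A))
    have h2 := minAdjDepth_le_finDimRel_of_isRegularRing R
      (a.comap (algebraMap R A)) (b.comap (algebraMap R A)) M
    have h3 := finDimRel_le_of_surjective hsurj M
      (a.comap (algebraMap R A)) (b.comap (algebraMap R A))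
    rw [ha, hb] at h1 h3
    rw [← h1]
    exact h2.trans h3

include hπ in
/-- finiteness of `H^i_I(M)`, `i ≤ n`, over an image of a regular ring: `n < λ_I^I(M)`. -/
theorem finite_iff_lt_minAdjDepth (I : Ideal A) (M : Type u) [AddCommGroup M] [Module A M]
    [Module.Finite A M] (n : ℕ) :
    (∀ i : ℕ, i ≤ n → Module.Finite A (LocCoh.H I i M)) ↔
      (n : ℕ∞) < LocCoh.minAdjDepth I I M := by
  rw [finite_iff_lt_finDimRel, finDimRel_eq_minAdjDepth R A π hπ]

/-- unfolding `n < λ_a^b(M)`. -/
theorem lt_minAdjDepth_iff {A : Type u} [CommRing A] [IsNoetherianRing A] (a b : Ideal A)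
    (M : Type u) [AddCommGroup M] [Module A M] (n : ℕ) :
    (n : ℕ∞) < LocCoh.minAdjDepth a b M ↔
      ∀ p : PrimeSpectrum A, ¬ b ≤ p.asIdeal → (n : ℕ∞) < LocCoh.adjDepth a M p := by
  constructor
  · intro h p hp
    exact lt_of_lt_of_le h (iInf₂_le p hp)
  · intro h
    have h1 : ((n + 1 : ℕ) : ℕ∞) ≤ LocCoh.minAdjDepth a b M := by
      unfold LocCoh.minAdjDepth
      refine le_iInf₂ fun p hp => ?_
      have := h p hp
      exact_mod_cast Order.add_one_le_of_lt this
    exact lt_of_lt_of_le (by exact_mod_cast Nat.lt_succ_self n) h1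

end regular

end Groth.Agent.Lib.Helper4.Falt
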