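import Mathlib
import Groth.Agent.Lib.Helper4.FaltFin
import Groth.Agent.Lib.Helper4.RelCodim
import Groth.Agent.S11650

/-!
# Adjusted depths in terms of `SGA2.relCodim`; the codimension-one reduction (helper4)
-/

set_option autoImplicit false
set_option linter.style.haveILetI false
set_option linter.unusedSectionVars false
set_option linter.unusedVariables false
set_option maxHeartbeats 400000

open CategoryTheory Limits Opposite Abelian Pointwise

universe u

namespace Groth.Agent.Lib.Helper4.Falt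

open Groth.Agent.Lib.Helper4 IsLocalRing

variable {A : Type u} [CommRing A]

/-- `c(p) = ht((I+p)/p)`. -/
theorem relCodim_eq_height (I : Ideal A) (p : PrimeSpectrum A) :
    SGA2.relCodim I p = ((I ⊔ p.asIdeal).map (Ideal.Quotient.mk p.asIdeal)).height := by
  haveI := p.2
  apply le_antisymm
  · by_cases htop : ((I ⊔ p.asIdeal).map (Ideal.Quotient.mk p.asIdeal)).height = ⊤
    · rw [htop]; exact le_top
    · obtain ⟨h, hh⟩ : ∃ h : ℕ, ((I ⊔ p.asIdeal).map (Ideal.Quotient.mk p.asIdeal)).height =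
          (h : ℕ∞) := ⟨_, (ENat.natCast_toNat htop).symm⟩
      obtain ⟨q, hqP, hle, hqh⟩ := exists_prime_relHeight_eq I p.asIdeal h hh
      rw [hh, ← hqh]
      have hpq : p ≤ (⟨q, hqP⟩ : PrimeSpectrum A) := le_sup_right.trans hle
      unfold SGA2.relCodim
      refine (iInf_le _ (⟨⟨q, hqP⟩, hpq, le_sup_left.trans hle⟩ :
        {q : PrimeSpectrum A // p ≤ q ∧ I ≤ q.asIdeal})).trans ?_
      rw [height_Ici_eq p ⟨q, hqP⟩ hpq]
  · unfold SGA2.relCodim
    refine le_iInf fun q => ?_
    obtain ⟨q, hpq, hIq⟩ := q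
    rw [height_Ici_eq p q hpq]
    exact Ideal.height_mono (Ideal.map_mono (sup_le hIq hpq))

theorem adjDepth_eq_depth_add_relCodim (I : Ideal A) (M : Type u) [AddCommGroup M] [Module A M]
    (p : PrimeSpectrum A) :
    LocCoh.adjDepth I M p =
      LocCoh.depth (Localization.AtPrime p.asIdeal) (LocalizedModule p.asIdeal.primeCompl M) +
        SGA2.relCodim I p := by
  rw [relCodim_eq_height]
  rfl

/-- `ht(q/p) ≤ 1` when `q` covers `p`. -/
theorem relHeight_le_one_of_covBy (p q : PrimeSpectrum A) (h : p ⋖ q) :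
    (q.asIdeal.map (Ideal.Quotient.mk p.asIdeal)).height ≤ 1 := by
  rw [← height_Ici_eq p q h.le]
  have h1 : Order.height (⟨q, h.le⟩ : Set.Ici p) ≤ ((1 : ℕ) : ℕ∞) := by
    rw [Order.height_le_coe_iff]
    intro y hy
    have hy1 : p ≤ y.1 := y.2
    have hy2 : y.1 < q := hy
    have hyp : y.1 = p := by
      rcases h.eq_or_eq hy1 hy2.le with h' | h'
      · exact h'
      · exact absurd h' hy2.ne
    have hmin : IsMin y := by
      intro z hz
      have hz1 : p ≤ z.1 := z.2
      change y.1 ≤ z.1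
      rw [hyp]
      exact hz1
    rw [Order.height_eq_zero.2 hmin]
    exact_mod_cast Nat.zero_lt_one
  exact_mod_cast h1

/-- `q` covers `p` when `ht(q/p) = 1`. -/
theorem covBy_of_relHeight_eq_one (p q : PrimeSpectrum A) (hlt : p < q)
    (h1 : (q.asIdeal.map (Ideal.Quotient.mk p.asIdeal)).height = 1) : p ⋖ q := by
  haveI := p.2
  haveI := q.2
  refine ⟨hlt, fun t hpt htq => ?_⟩
  have := eq_of_relHeight_eq_one p.asIdeal q.asIdeal h1 t.asIdeal t.2
    ((PrimeSpectrum.asIdeal_lt_asIdeal _ _).2 hpt) htq.le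
  exact htq.ne (PrimeSpectrum.ext this)

variable [IsNoetherianRing A]

/-- **codimension-one reduction**: `n < depth M_p + c(p)` for all `p ⊉ I` iff `n ≤ depth M_p`
for the `p ⊉ I` covered by a prime containing `I`. -/
theorem lt_adjDepth_iff_codim_one (I : Ideal A) (M : Type u) [AddCommGroup M] [Module A M]
    [Module.Finite A M] (n : ℕ) :
    (∀ p : PrimeSpectrum A, ¬ I ≤ p.asIdeal → (n : ℕ∞) < LocCoh.adjDepth I M p) ↔
      (∀ p q : PrimeSpectrum A, ¬ I ≤ p.asIdeal → I ≤ q.asIdeal → p ⋖ q →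
        (n : ℕ∞) ≤ LocCoh.depth (Localization.AtPrime p.asIdeal)
          (LocalizedModule p.asIdeal.primeCompl M)) := by
  constructor
  · intro h p q hp hq hcov
    have h1 := h p hp
    unfold LocCoh.adjDepth at h1
    have h2 : ((I ⊔ p.asIdeal).map (Ideal.Quotient.mk p.asIdeal)).height ≤ 1 :=
      (Ideal.height_mono (Ideal.map_mono (sup_le hq hcov.le))).trans
        (relHeight_le_one_of_covBy p q hcov)
    exact Order.le_of_lt_add_one (lt_of_lt_of_le h1 (add_le_add le_rfl h2))
  · intro h p hp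
    rw [adjDepth_eq_depth_add_relCodim]
    by_cases htop : SGA2.relCodim I p = ⊤
    · rw [htop, add_top]
      exact ENat.coe_lt_top _
    obtain ⟨c, hc⟩ : ∃ c : ℕ, SGA2.relCodim I p = (c : ℕ∞) :=
      ⟨_, (ENat.natCast_toNat htop).symm⟩
    obtain ⟨p', hpp', hIp', hc1, hht⟩ := exists_relCodim_eq_one I p hp c hc
    haveI := p.2
    haveI := p'.2
    rw [relCodim_eq_height] at hc1
    obtain ⟨q', hq'P, hle, hq'1⟩ := exists_prime_relHeight_eq I p'.asIdeal 1
      (by rw [hc1]; rfl)
    have hlt : p' < (⟨q', hq'P⟩ : PrimeSpectrum A) := by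
      refine lt_of_le_of_ne (le_sup_right.trans hle) ?_
      rintro rfl
      exact hIp' (le_sup_left.trans hle)
    have hcov : p' ⋖ (⟨q', hq'P⟩ : PrimeSpectrum A) :=
      covBy_of_relHeight_eq_one p' ⟨q', hq'P⟩ hlt (by rw [hq'1]; rfl)
    have h1 := h p' ⟨q', hq'P⟩ hIp' (le_sup_left.trans hle) hcov
    have h2 := Groth.Agent.S11650.result A M p.asIdeal p'.asIdeal hpp'
    rw [height_Ici_eq p p' hpp'] at hht
    rw [hc]
    have h3 := h1.trans h2
    generalize LocCoh.depth (Localization.AtPrime p.asIdeal)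
      (LocalizedModule p.asIdeal.primeCompl M) = δ at h3 ⊢
    generalize (p'.asIdeal.map (Ideal.Quotient.mk p.asIdeal)).height = η at h3 hht
    have hη : η ≠ ⊤ := by
      rintro rfl
      rw [top_add] at hht
      exact ENat.coe_ne_top _ hht.symm
    lift η to ℕ using hη
    induction δ using ENat.recTopCoe with
    | top => rw [top_add]; exact ENat.coe_lt_top _
    | coe k =>
      norm_cast at h3 hht ⊢
      omega

end Groth.Agent.Lib.Helper4.Falt
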