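import Mathlib
import Groth.Agent.Lib.Helper4.FaltCodim
import Groth.Agent.Lib.Helper4.CMChain
import Groth.Agent.Lib.Helper4.Sk
import Groth.Agent.Lib.Helper4.RegCM

/-!
# The dimension formula in regular rings and their quotients (helper4)
-/

set_option autoImplicit false
set_option linter.style.haveILetI false
set_option linter.unusedSectionVars false
set_option linter.unusedVariables false
set_option maxHeartbeats 400000

open CategoryTheory Limits Opposite Abelian Pointwise

universe u

namespace Groth.Agent.Lib.Helper4.Falt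

open Groth.Agent.Lib.Helper4 IsLocalRing

section loc

variable {R : Type u} [CommRing R]

/-- `dim R_s/pR_s = ht(s/p)`. -/
theorem ringKrullDim_quotient_map_eq_height (p s : Ideal R) [p.IsPrime] [s.IsPrime] (hps : p ≤ s) :
    ringKrullDim (Localization.AtPrime s ⧸ p.map (algebraMap R (Localization.AtPrime s))) =
      (((s.map (Ideal.Quotient.mk p)).height : ℕ∞) : WithBot ℕ∞) := by
  haveI hsp : (s.map (Ideal.Quotient.mk p)).IsPrime :=
    Ideal.map_isPrime_of_surjective Ideal.Quotient.mk_surjective (by rw [Ideal.mk_ker]; exact hps)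
  have hsub : Algebra.algebraMapSubmonoid (R ⧸ p) s.primeCompl =
      (s.map (Ideal.Quotient.mk p)).primeCompl := by
    ext x
    constructor
    · rintro ⟨r, hr, rfl⟩
      show (Ideal.Quotient.mk p r) ∉ s.map (Ideal.Quotient.mk p)
      rw [Ideal.mem_quotient_iff_mem hps]
      exact hr
    · intro hx
      obtain ⟨r, rfl⟩ := Ideal.Quotient.mk_surjective x
      refine ⟨r, ?_, rfl⟩
      show r ∉ s
      intro hr
      exact hx ((Ideal.mem_quotient_iff_mem hps).2 hr)
  haveI h1 : IsLocalization (Algebra.algebraMapSubmonoid (R ⧸ p) s.primeCompl)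
      (Localization.AtPrime s ⧸ p.map (algebraMap R (Localization.AtPrime s))) := inferInstance
  rw [hsub] at h1
  haveI : IsLocalization.AtPrime
      (Localization.AtPrime s ⧸ p.map (algebraMap R (Localization.AtPrime s)))
      (s.map (Ideal.Quotient.mk p)) := h1
  exact IsLocalization.AtPrime.ringKrullDim_eq_height (s.map (Ideal.Quotient.mk p)) _

end loc

section regular

variable (R : Type u) [CommRing R] [IsRegularRing R]

/-- the dimension formula `ht Q = ht P + ht(Q/P)` in a regular ring. -/
theorem height_eq_add_relHeight (P Q : Ideal R) [P.IsPrime] [Q.IsPrime] (hPQ : P ≤ Q) :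
    Q.height = P.height + (Q.map (Ideal.Quotient.mk P)).height := by
  have hdisj : Disjoint (Q.primeCompl : Set R) (P : Set R) := by
    rw [Set.disjoint_left]
    intro x hx hxP
    exact hx (hPQ hxP)
  haveI hprime : (P.map (algebraMap R (Localization.AtPrime Q))).IsPrime :=
    IsLocalization.isPrime_of_isPrime_disjoint Q.primeCompl _ _ ‹_› hdisj
  have hsupp : Module.support (Localization.AtPrime Q) (Localization.AtPrime Q) = Set.univ := by
    rw [Module.support_of_algebra]
    have hk : RingHom.ker (algebraMap (Localization.AtPrime Q) (Localization.AtPrime Q)) = ⊥ :=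
      (RingHom.injective_iff_ker_eq_bot _).mp (fun a b h => h)
    rw [hk]
    simp
  have h1 := cm_height_add_ringKrullDim_quotient
    (RegCM.isCohenMacaulayModule_self (Localization.AtPrime Q)) hsupp
    ⟨P.map (algebraMap R (Localization.AtPrime Q)), hprime⟩
  simp only at h1
  rw [IsLocalization.height_map_of_disjoint Q.primeCompl P hdisj,
    ringKrullDim_quotient_map_eq_height P Q hPQ,
    IsLocalization.AtPrime.ringKrullDim_eq_height Q (Localization.AtPrime Q)] at h1
  exact_mod_cast h1.symm

variable {R}

theorem height_ne_top_of_isPrime (Q : Ideal R) [Q.IsPrime] : Q.height ≠ ⊤ :=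
  Ideal.height_ne_top (Ideal.IsPrime.ne_top ‹_›)

/-- additivity of relative heights along `P₀ ≤ P ≤ Q` in a regular ring. -/
theorem relHeight_add_eq (P₀ P Q : Ideal R) [P₀.IsPrime] [P.IsPrime] [Q.IsPrime] (h1 : P₀ ≤ P)
    (h2 : P ≤ Q) :
    (Q.map (Ideal.Quotient.mk P₀)).height =
      (P.map (Ideal.Quotient.mk P₀)).height + (Q.map (Ideal.Quotient.mk P)).height := by
  have e1 := height_eq_add_relHeight R P₀ Q (h1.trans h2)
  have e2 := height_eq_add_relHeight R P Q h2
  have e3 := height_eq_add_relHeight R P₀ P h1
  have hQ := height_ne_top_of_isPrime Q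
  have hP := height_ne_top_of_isPrime P
  have hP₀ := height_ne_top_of_isPrime P₀
  generalize Q.height = a at *
  generalize P.height = b at *
  generalize P₀.height = c at *
  generalize (Q.map (Ideal.Quotient.mk P₀)).height = x at *
  generalize (P.map (Ideal.Quotient.mk P₀)).height = y at *
  generalize (Q.map (Ideal.Quotient.mk P)).height = z at *
  lift a to ℕ using hQ
  lift b to ℕ using hP
  lift c to ℕ using hP₀
  have hx : x ≠ ⊤ := by
    rintro rfl
    rw [add_top] at e1
    exact ENat.coe_ne_top _ e1
  have hy : y ≠ ⊤ := by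
    rintro rfl
    rw [add_top] at e3
    exact ENat.coe_ne_top _ e3
  have hz : z ≠ ⊤ := by
    rintro rfl
    rw [add_top] at e2
    exact ENat.coe_ne_top _ e2
  lift x to ℕ using hx
  lift y to ℕ using hy
  lift z to ℕ using hz
  norm_cast at e1 e2 e3 ⊢
  omega

end regular

section quotient

variable (R : Type u) [CommRing R] [IsRegularRing R] (A : Type u) [CommRing A]
  (π : R →+* A) (hπ : Function.Surjective π)

include hπ in
/-- additivity of relative heights in a homomorphic image of a regular ring. -/
theorem relHeight_add_eq_of_surjective (p₀ p q : Ideal A) [p₀.IsPrime] [p.IsPrime] [q.IsPrime]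
    (h1 : p₀ ≤ p) (h2 : p ≤ q) :
    (q.map (Ideal.Quotient.mk p₀)).height =
      (p.map (Ideal.Quotient.mk p₀)).height + (q.map (Ideal.Quotient.mk p)).height := by
  letI : Algebra R A := π.toAlgebra
  have hsurj : Function.Surjective (algebraMap R A) := hπ
  have key : ∀ (s t : Ideal A) [s.IsPrime] [t.IsPrime], s ≤ t →
      ((t.comap (algebraMap R A)).map (Ideal.Quotient.mk (s.comap (algebraMap R A)))).height =
        (t.map (Ideal.Quotient.mk s)).height := by
    intro s t _ _ hst
    have h := height_map_comap hsurj s (t.comap (algebraMap R A))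
    rw [Ideal.map_comap_of_surjective _ hsurj, sup_eq_left.mpr hst,
      sup_eq_left.mpr (Ideal.comap_mono hst)] at h
    exact h
  rw [← key p₀ q (h1.trans h2), ← key p₀ p h1, ← key p q h2]
  exact relHeight_add_eq _ _ _ (Ideal.comap_mono h1) (Ideal.comap_mono h2)

end quotient

section cm

variable {A : Type u} [CommRing A] [IsNoetherianRing A] {M : Type u} [AddCommGroup M] [Module A M]
  [Module.Finite A M]

/-- for `M_p` Cohen–Macaulay and `p₀ ∈ Supp M` below `p`: `ht(p/p₀) ≤ depth M_p`. -/
theorem relHeight_le_depth_of_cm (p₀ p : Ideal A) [hp₀ : p₀.IsPrime] [p.IsPrime] (h : p₀ ≤ p)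
    (hsupp : (⟨p₀, hp₀⟩ : PrimeSpectrum A) ∈ Module.support A M)
    (hcm : LocCoh.IsCohenMacaulayModule (Localization.AtPrime p) (LocalizedModule p.primeCompl M)) :
    (p.map (Ideal.Quotient.mk p₀)).height ≤
      LocCoh.depth (Localization.AtPrime p) (LocalizedModule p.primeCompl M) := by
  have hdisj : Disjoint (p.primeCompl : Set A) (p₀ : Set A) := by
    rw [Set.disjoint_left]
    intro x hx hxP
    exact hx (h hxP)
  have hprime : (p₀.map (algebraMap A (Localization.AtPrime p))).IsPrime :=
    IsLocalization.isPrime_of_isPrime_disjoint p.primeCompl _ _ ‹_› hdisj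
  have hcomap : (p₀.map (algebraMap A (Localization.AtPrime p))).comap
      (algebraMap A (Localization.AtPrime p)) = p₀ :=
    IsLocalization.comap_map_of_isPrime_disjoint p.primeCompl _ ‹_› hdisj
  have hmem : (⟨p₀.map (algebraMap A (Localization.AtPrime p)), hprime⟩ :
      PrimeSpectrum (Localization.AtPrime p)) ∈
      Module.support (Localization.AtPrime p) (LocalizedModule p.primeCompl M) := by
    apply mem_support_localizedModule_of_comap_mem
    have : PrimeSpectrum.comap (algebraMap A (Localization.AtPrime p))
        ⟨p₀.map (algebraMap A (Localization.AtPrime p)), hprime⟩ = ⟨p₀, hp₀⟩ :=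
      PrimeSpectrum.ext hcomap
    rw [this]
    exact hsupp
  have h1 := ringKrullDim_quotient_le_supportDim hmem
  simp only at h1
  rw [ringKrullDim_quotient_map_eq_height p₀ p h, hcm] at h1
  exact_mod_cast h1

end cm

end Groth.Agent.Lib.Helper4.Falt
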