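import Groth.Agent.Lib.Helper4.Depth
import Mathlib.RingTheory.Flat.Basic
import Mathlib.RingTheory.Flat.Equalizer
import Mathlib.RingTheory.FiniteLength
import Mathlib.RingTheory.Filtration
import Mathlib.RingTheory.Ideal.KrullsHeightTheorem
import Mathlib.LinearAlgebra.TensorProduct.Quotient
import Mathlib.RingTheory.SimpleModule.Basic
import Groth.Agent.Lib.Helper8.LocalCriterion3

/-!
# Flat local homomorphisms: regular elements on the closed fibre lift (helper4)

`R → S` a local homomorphism of Noetherian local rings, `N` a finite `S`-module flat over `R`,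
`y ∈ S` a non-zero-divisor on `N / 𝔪_R N`.  Then `y` is a non-zero-divisor on `N ⊗[R] M` for every
finite `R`-module `M`, and `N / y N` is again flat over `R`.
-/

set_option autoImplicit false

universe u

open TensorProduct

namespace Groth.Agent.Lib.Helper4

section pure

variable {R : Type u} [CommRing R] {N : Type u} [AddCommGroup N] [Module R N]

/-- Injectivity of `φ ⊗ L` from injectivity of `φ ⊗ L'` and `φ ⊗ L/L'`, for flat `N`. -/
lemma rTensor_injective_of_submodule_quotient [Module.Flat R N] (φ : N →ₗ[R] N)
    {L : Type u} [AddCommGroup L] [Module R L] (L' : Submodule R L)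
    (h1 : Function.Injective (φ.rTensor L')) (h2 : Function.Injective (φ.rTensor (L ⧸ L'))) :
    Function.Injective (φ.rTensor L) := by
  rw [injective_iff_map_eq_zero]
  intro x hx
  have hex : Function.Exact (L'.subtype.lTensor N) (L'.mkQ.lTensor N) :=
    Module.Flat.lTensor_exact N (LinearMap.exact_subtype_mkQ L')
  have hinj : Function.Injective (L'.subtype.lTensor N) :=
    Module.Flat.lTensor_preserves_injective_linearMap _ L'.subtype_injective
  have c1 : ∀ z, (φ.rTensor (L ⧸ L')) ((L'.mkQ.lTensor N) z) =
      (L'.mkQ.lTensor N) ((φ.rTensor L) z) := fun z => by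
    rw [← LinearMap.comp_apply, ← LinearMap.comp_apply, LinearMap.rTensor_comp_lTensor,
      LinearMap.lTensor_comp_rTensor]
  have c2 : ∀ z, (φ.rTensor L) ((L'.subtype.lTensor N) z) =
      (L'.subtype.lTensor N) ((φ.rTensor L') z) := fun z => by
    rw [← LinearMap.comp_apply, ← LinearMap.comp_apply, LinearMap.rTensor_comp_lTensor,
      LinearMap.lTensor_comp_rTensor]
  have hπ : (L'.mkQ.lTensor N) x = 0 := by
    apply h2
    rw [map_zero, c1, hx, map_zero]
  obtain ⟨x', rfl⟩ := (hex x).mp hπ
  have : (φ.rTensor L') x' = 0 := by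
    apply hinj
    rw [map_zero, ← c2, hx]
  rw [h1 (this.trans (map_zero _).symm), map_zero]

/-- Transport of injectivity of `φ ⊗ Q` along an isomorphism of `Q`. -/
lemma rTensor_injective_of_equiv (φ : N →ₗ[R] N) {Q Q' : Type u} [AddCommGroup Q] [Module R Q]
    [AddCommGroup Q'] [Module R Q'] (e : Q ≃ₗ[R] Q')
    (h : Function.Injective (φ.rTensor Q')) : Function.Injective (φ.rTensor Q) := by
  have c : ∀ z, (φ.rTensor Q') ((e.toLinearMap.lTensor N) z) =
      (e.toLinearMap.lTensor N) ((φ.rTensor Q) z) := fun z => by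
    rw [← LinearMap.comp_apply, ← LinearMap.comp_apply, LinearMap.rTensor_comp_lTensor,
      LinearMap.lTensor_comp_rTensor]
  have hinj : Function.Injective (e.toLinearMap.lTensor N) := (LinearEquiv.lTensor N e).injective
  intro a b hab
  apply hinj
  apply h
  rw [c, c, hab]

/-- Over a local ring: if `φ ⊗ (R/𝔪)` is injective then `φ ⊗ L` is injective for every `L` of
finite length (`N` flat). -/
theorem rTensor_injective_of_isFiniteLength [IsLocalRing R] [Module.Flat R N] (φ : N →ₗ[R] N)
    (h0 : Function.Injective (φ.rTensor (R ⧸ IsLocalRing.maximalIdeal R)))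
    {L : Type u} [AddCommGroup L] [Module R L] (hL : IsFiniteLength R L) :
    Function.Injective (φ.rTensor L) := by
  induction hL with
  | @of_subsingleton L₀ _ _ _ =>
    intro a b _
    have : ∀ z : N ⊗[R] L₀, z = 0 := fun z => by
      induction z using TensorProduct.induction_on with
      | zero => rfl
      | tmul n l => rw [Subsingleton.elim l 0, TensorProduct.tmul_zero]
      | add a b ha hb => rw [ha, hb, add_zero]
    rw [this a, this b]
  | @of_simple_quotient L _ _ L' hs _ ih =>
    refine rTensor_injective_of_submodule_quotient φ L' ih ?_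
    obtain ⟨I, hI, ⟨e⟩⟩ := isSimpleModule_iff_quot_maximal.mp hs
    have hIm : I = IsLocalRing.maximalIdeal R := IsLocalRing.eq_maximalIdeal hI
    subst hIm
    exact rTensor_injective_of_equiv φ e h0

end pure

section finlen

variable {R : Type u} [CommRing R] [IsLocalRing R] [IsNoetherianRing R]

/-- `M / 𝔪^n M` has finite length for a finite module over a Noetherian local ring. -/
lemma isFiniteLength_quotient_pow_smul_top (M : Type u) [AddCommGroup M] [Module R M]
    [Module.Finite R M] (n : ℕ) :
    IsFiniteLength R (M ⧸ ((IsLocalRing.maximalIdeal R) ^ n • (⊤ : Submodule R M))) := by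
  rw [isFiniteLength_iff_isNoetherian_isArtinian]
  refine ⟨inferInstance, ?_⟩
  cases n with
  | zero =>
    have : Subsingleton (M ⧸ ((IsLocalRing.maximalIdeal R) ^ 0 • (⊤ : Submodule R M))) := by
      rw [pow_zero, Ideal.one_eq_top, Submodule.top_smul]
      infer_instance
    infer_instance
  | succ n =>
    have hmin : IsLocalRing.maximalIdeal R ∈
        ((IsLocalRing.maximalIdeal R) ^ (n + 1)).minimalPrimes := by
      refine ⟨⟨inferInstance, Ideal.pow_le_self (Nat.succ_ne_zero n)⟩, fun q hq _ => ?_⟩
      have := hq.1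
      exact Ideal.IsPrime.le_of_pow_le hq.2
    have : IsArtinianRing (R ⧸ (IsLocalRing.maximalIdeal R) ^ (n + 1)) :=
      IsLocalRing.quotient_artinian_of_mem_minimalPrimes_of_isLocalRing _ hmin
    have : IsScalarTower R (R ⧸ (IsLocalRing.maximalIdeal R) ^ (n + 1))
        (M ⧸ ((IsLocalRing.maximalIdeal R) ^ (n + 1) • (⊤ : Submodule R M))) :=
      (Module.isTorsionBySet_quotient_ideal_smul M
        ((IsLocalRing.maximalIdeal R) ^ (n + 1))).isScalarTower (S := R)
    have : Module.Finite (R ⧸ (IsLocalRing.maximalIdeal R) ^ (n + 1))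
        (M ⧸ ((IsLocalRing.maximalIdeal R) ^ (n + 1) • (⊤ : Submodule R M))) :=
      Module.Finite.of_restrictScalars_finite R _ _
    exact isArtinian_of_surjective_algebraMap
      (R := R ⧸ (IsLocalRing.maximalIdeal R) ^ (n + 1)) (S := R) Ideal.Quotient.mk_surjective

end finlen

section fibre

variable {R S : Type u} [CommRing R] [CommRing S] [Algebra R S]
  {N : Type u} [AddCommGroup N] [Module S N] [Module R N] [IsScalarTower R S N]

/-- The `S`-action on `N ⊗[R] M` through `N` is `(y • ·) ⊗ M`. -/
lemma smul_eq_rTensor (y : S) {M : Type u} [AddCommGroup M] [Module R M] (x : N ⊗[R] M) :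
    y • x = ((DistribSMul.toLinearMap R N y).rTensor M) x := by
  induction x using TensorProduct.induction_on with
  | zero => rw [smul_zero, map_zero]
  | tmul n m => rw [TensorProduct.smul_tmul', LinearMap.rTensor_tmul]; rfl
  | add a b ha hb => rw [smul_add, map_add, ha, hb]

variable (R S N) in
/-- `N ⊗[R] (R/I) ≃ N / (IS)N`. -/
noncomputable def tensorQuotEquivQuotMapSMul (I : Ideal R) :
    N ⊗[R] (R ⧸ I) ≃ₗ[R] N ⧸ (I.map (algebraMap R S) • (⊤ : Submodule S N)) :=
  (tensorQuotEquivQuotSMul N I).trans ((Submodule.quotEquivOfEq _ _ (by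
    rw [Ideal.smul_restrictScalars, Submodule.restrictScalars_top])).trans
    (Submodule.Quotient.restrictScalarsEquiv R (I.map (algebraMap R S) • (⊤ : Submodule S N))))

lemma tensorQuotEquivQuotMapSMul_tmul (I : Ideal R) (n : N) (r : R) :
    tensorQuotEquivQuotMapSMul R S N I (n ⊗ₜ[R] Ideal.Quotient.mk I r) =
      Submodule.Quotient.mk (r • n) := by
  simp [tensorQuotEquivQuotMapSMul]

lemma tensorQuotEquivQuotMapSMul_rTensor (I : Ideal R) (y : S) (z : N ⊗[R] (R ⧸ I)) :
    tensorQuotEquivQuotMapSMul R S N I (((DistribSMul.toLinearMap R N y).rTensor _) z) =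
      y • tensorQuotEquivQuotMapSMul R S N I z := by
  induction z using TensorProduct.induction_on with
  | zero => simp
  | tmul n r =>
    obtain ⟨r, rfl⟩ := Ideal.Quotient.mk_surjective r
    rw [LinearMap.rTensor_tmul, tensorQuotEquivQuotMapSMul_tmul, tensorQuotEquivQuotMapSMul_tmul,
      ← Submodule.Quotient.mk_smul, DistribSMul.toLinearMap_apply, smul_comm]
  | add a b ha hb => rw [map_add, map_add, ha, hb, map_add, smul_add]

/-- If `y` is a non-zero-divisor on `N/(IS)N` then `(y • ·) ⊗ R/I` is injective. -/
lemma rTensor_quotient_injective (I : Ideal R) (y : S)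
    (hy : IsSMulRegular (N ⧸ (I.map (algebraMap R S) • (⊤ : Submodule S N))) y) :
    Function.Injective ((DistribSMul.toLinearMap R N y).rTensor (R ⧸ I)) := by
  rw [injective_iff_map_eq_zero]
  intro z hz
  have h := tensorQuotEquivQuotMapSMul_rTensor I y z
  rw [hz, map_zero] at h
  have h0 : tensorQuotEquivQuotMapSMul R S N I z = 0 :=
    hy (show y • _ = y • (0 : N ⧸ _) by rw [smul_zero]; exact h.symm)
  exact (LinearEquiv.map_eq_zero_iff _).mp h0

end fibre

section localHom

variable {R S : Type u} [CommRing R] [CommRing S] [IsLocalRing R] [IsLocalRing S]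
  [IsNoetherianRing R] [IsNoetherianRing S] [Algebra R S] [IsLocalHom (algebraMap R S)]
  {N : Type u} [AddCommGroup N] [Module S N] [Module R N] [IsScalarTower R S N]
  [Module.Finite S N] [Module.Flat R N]

/-- **Lifting regular elements from the closed fibre** (tensor form): if `y` is a non-zero-divisor
on `N/𝔪_R N` then `(y • ·) ⊗ M` is injective for every finite `R`-module `M`. -/
theorem rTensor_injective_of_fibre (y : S)
    (hy : IsSMulRegular (N ⧸ ((IsLocalRing.maximalIdeal R).map (algebraMap R S) •
      (⊤ : Submodule S N))) y)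
    (M : Type u) [AddCommGroup M] [Module R M] [Module.Finite R M] :
    Function.Injective ((DistribSMul.toLinearMap R N y).rTensor M) := by
  have h0 := rTensor_quotient_injective (IsLocalRing.maximalIdeal R) y hy
  rw [injective_iff_map_eq_zero]
  intro x hx
  have : Module.Finite S (N ⊗[R] M) := Groth.Agent.Lib.Helper8.finite_tensor N M
  have hne : (IsLocalRing.maximalIdeal R).map (algebraMap R S) ≠ ⊤ :=
    ne_top_of_le_ne_top (IsLocalRing.maximalIdeal.isMaximal S).ne_top
      (IsLocalRing.map_maximalIdeal_le (algebraMap R S))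
  have hbot := Ideal.iInf_pow_smul_eq_bot_of_isLocalRing (R := S) (M := N ⊗[R] M)
    ((IsLocalRing.maximalIdeal R).map (algebraMap R S)) hne
  have hmem : x ∈ (⨅ i : ℕ, ((IsLocalRing.maximalIdeal R).map (algebraMap R S)) ^ i •
      (⊤ : Submodule S (N ⊗[R] M))) := by
    rw [Submodule.mem_iInf]
    intro n
    have hinj := rTensor_injective_of_isFiniteLength (DistribSMul.toLinearMap R N y) h0
      (isFiniteLength_quotient_pow_smul_top M n)
    have c1 : ∀ z, ((DistribSMul.toLinearMap R N y).rTensor
          (M ⧸ ((IsLocalRing.maximalIdeal R) ^ n • (⊤ : Submodule R M))))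
          ((((IsLocalRing.maximalIdeal R) ^ n • (⊤ : Submodule R M)).mkQ.lTensor N) z) =
        (((IsLocalRing.maximalIdeal R) ^ n • (⊤ : Submodule R M)).mkQ.lTensor N)
          (((DistribSMul.toLinearMap R N y).rTensor M) z) := fun z => by
      rw [← LinearMap.comp_apply, ← LinearMap.comp_apply, LinearMap.rTensor_comp_lTensor,
        LinearMap.lTensor_comp_rTensor]
    have hπ : (((IsLocalRing.maximalIdeal R) ^ n • (⊤ : Submodule R M)).mkQ.lTensor N) x = 0 := by
      apply hinj
      rw [map_zero, c1, hx, map_zero]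
    have hex := Module.Flat.lTensor_exact N
      (LinearMap.exact_subtype_mkQ ((IsLocalRing.maximalIdeal R) ^ n • (⊤ : Submodule R M)))
    have hrange : ∀ t, (((IsLocalRing.maximalIdeal R) ^ n • (⊤ : Submodule R M)).subtype.lTensor N) t
        ∈ (((IsLocalRing.maximalIdeal R).map (algebraMap R S)) ^ n •
          (⊤ : Submodule S (N ⊗[R] M))) := by
      intro t
      induction t using TensorProduct.induction_on with
      | zero => rw [map_zero]; exact Submodule.zero_mem _
      | tmul n' z =>
        rw [LinearMap.lTensor_tmul]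
        have key : ∀ w ∈ ((IsLocalRing.maximalIdeal R) ^ n • (⊤ : Submodule R M)),
            n' ⊗ₜ[R] w ∈ (((IsLocalRing.maximalIdeal R).map (algebraMap R S)) ^ n •
              (⊤ : Submodule S (N ⊗[R] M))) := by
          intro w hw
          refine Submodule.smul_induction_on hw ?_ ?_
          · intro a ha m' _
            rw [TensorProduct.tmul_smul, ← algebraMap_smul S a (n' ⊗ₜ[R] m')]
            refine Submodule.smul_mem_smul ?_ Submodule.mem_top
            rw [← Ideal.map_pow]
            exact Ideal.mem_map_of_mem _ ha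
          · intro w1 w2 h1 h2
            rw [TensorProduct.tmul_add]
            exact Submodule.add_mem _ h1 h2
        exact key z.1 z.2
      | add a b ha hb => rw [map_add]; exact Submodule.add_mem _ ha hb
    obtain ⟨t, ht⟩ := (hex x).mp hπ
    rw [← ht]
    exact hrange t
  rw [hbot] at hmem
  exact (Submodule.mem_bot S).mp hmem

/-- `y` is a non-zero-divisor on `N ⊗[R] M`. -/
theorem isSMulRegular_tensor_of_fibre (y : S)
    (hy : IsSMulRegular (N ⧸ ((IsLocalRing.maximalIdeal R).map (algebraMap R S) •
      (⊤ : Submodule S N))) y)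
    (M : Type u) [AddCommGroup M] [Module R M] [Module.Finite R M] :
    IsSMulRegular (N ⊗[R] M) y := by
  intro a b hab
  apply rTensor_injective_of_fibre y hy M
  rw [← smul_eq_rTensor, ← smul_eq_rTensor]
  exact hab

open Pointwise in
/-- `N/yN` is flat over `R`. -/
theorem flat_quotSMulTop_of_fibre (y : S)
    (hy : IsSMulRegular (N ⧸ ((IsLocalRing.maximalIdeal R).map (algebraMap R S) •
      (⊤ : Submodule S N))) y) :
    Module.Flat R (QuotSMulTop y N) := by
  rw [Module.Flat.iff_lTensor_injective']
  intro I
  set φ : N →ₗ[R] N := DistribSMul.toLinearMap R N y with hφ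
  set π : N →ₗ[R] QuotSMulTop y N :=
    (Submodule.mkQ (y • (⊤ : Submodule S N))).restrictScalars R with hπdef
  have hπφ : π ∘ₗ φ = 0 := by
    ext n
    simp only [LinearMap.comp_apply, LinearMap.zero_apply, hπdef, hφ,
      LinearMap.restrictScalars_apply, Submodule.mkQ_apply, DistribSMul.toLinearMap_apply]
    exact (Submodule.Quotient.mk_eq_zero _).mpr
      (Submodule.smul_mem_pointwise_smul n y ⊤ Submodule.mem_top)
  have hexact : Function.Exact φ π := by
    intro n
    constructor
    · intro h
      have hn : n ∈ (y • (⊤ : Submodule S N)) := (Submodule.Quotient.mk_eq_zero _).mp h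
      obtain ⟨n', -, rfl⟩ := (Submodule.mem_smul_pointwise_iff_exists _ _ _).mp hn
      exact ⟨n', rfl⟩
    · rintro ⟨n', rfl⟩
      exact LinearMap.congr_fun hπφ n'
  have hπsurj : Function.Surjective π := Submodule.mkQ_surjective _
  rw [injective_iff_map_eq_zero]
  intro t ht
  obtain ⟨t', rfl⟩ := LinearMap.rTensor_surjective I hπsurj t
  have c1 : (π.rTensor R) ((I.subtype.lTensor N) t') = 0 := by
    rw [← ht, ← LinearMap.comp_apply, ← LinearMap.comp_apply, LinearMap.rTensor_comp_lTensor,
      LinearMap.lTensor_comp_rTensor]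
  obtain ⟨u, hu⟩ := ((_root_.rTensor_exact R hexact hπsurj) _).mp c1
  have hinjI := rTensor_injective_of_fibre y hy (R ⧸ I)
  have c2 : (I.mkQ.lTensor N) u = 0 := by
    apply hinjI
    have hz : I.mkQ ∘ₗ I.subtype = 0 := by
      ext a
      simp only [LinearMap.comp_apply, Submodule.subtype_apply, Submodule.mkQ_apply,
        LinearMap.zero_apply]
      exact (Submodule.Quotient.mk_eq_zero _).mpr a.2
    rw [map_zero, ← LinearMap.comp_apply, LinearMap.rTensor_comp_lTensor,
      ← LinearMap.lTensor_comp_rTensor, LinearMap.comp_apply, hu, ← LinearMap.comp_apply,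
      ← LinearMap.lTensor_comp, hz, LinearMap.lTensor_zero, LinearMap.zero_apply]
  obtain ⟨t₁, rfl⟩ := ((Module.Flat.lTensor_exact N (LinearMap.exact_subtype_mkQ I)) u).mp c2
  have hinjN : Function.Injective (I.subtype.lTensor N) :=
    Module.Flat.lTensor_preserves_injective_linearMap _ I.subtype_injective
  have e : t' = (φ.rTensor I) t₁ := by
    apply hinjN
    rw [← hu, ← LinearMap.comp_apply, ← LinearMap.comp_apply, LinearMap.rTensor_comp_lTensor,
      LinearMap.lTensor_comp_rTensor]
  rw [e, ← LinearMap.comp_apply, ← LinearMap.rTensor_comp, hπφ, LinearMap.rTensor_zero,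
    LinearMap.zero_apply]

end localHom

end Groth.Agent.Lib.Helper4
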