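import Mathlib
import Groth.Agent.Lib.Helper4.FaltCodim
import Groth.Agent.Lib.Helper4.FlatLocal
import Groth.Agent.Lib.Helper26.RegularRing

/-!
# Faltings-type finiteness over local rings: finite length of `H^i_m(M)` (helper4)
-/

set_option autoImplicit false
set_option linter.style.haveILetI false
set_option linter.unusedSectionVars false
set_option linter.unusedVariables false
set_option maxHeartbeats 400000

open CategoryTheory Limits Opposite Abelian Pointwise

universe u

namespace Groth.Agent.Lib.Helper4.Falt

open Groth.Agent.Lib.Helper4 Groth.Agent.Lib.Helper4.LC Groth.Agent.Lib.Helper20 IsLocalRing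

variable {A : Type u} [CommRing A] [IsLocalRing A] [IsNoetherianRing A]

/-- a finite module killed by a power of the maximal ideal has finite length. -/
theorem isFiniteLength_of_finite_of_kills (H : Type u) [AddCommGroup H] [Module A H]
    [Module.Finite A H] (h : Kills (maximalIdeal A) H) : IsFiniteLength A H := by
  obtain ⟨N, hN⟩ := h
  have hbot : (maximalIdeal A) ^ N • (⊤ : Submodule A H) = ⊥ := by
    rw [eq_bot_iff]
    intro x hx
    refine Submodule.smul_induction_on hx ?_ ?_
    · intro r hr y _
      rw [Submodule.mem_bot]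
      exact hN r hr y
    · intro y z hy hz
      exact add_mem hy hz
  exact (Submodule.quotEquivOfEqBot _ hbot).isFiniteLength
    (isFiniteLength_quotient_pow_smul_top H N)

/-- `H^i_m(M)` has finite length iff it is finitely generated. -/
theorem isFiniteLength_iff_finite (M : Type u) [AddCommGroup M] [Module A M] (i : ℕ) :
    IsFiniteLength A (LocCoh.H (maximalIdeal A) i M) ↔
      Module.Finite A (LocCoh.H (maximalIdeal A) i M) := by
  constructor
  · intro h
    haveI := (isFiniteLength_iff_isNoetherian_isArtinian.1 h).1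
    infer_instance
  · intro h
    haveI := h
    haveI : Module.Finite A (HH (maximalIdeal A) (ModuleCat.of A M) i) :=
      Module.Finite.equiv (lcEquiv (maximalIdeal A) (ModuleCat.of A M) i)
    obtain ⟨N, hN⟩ := LCFinite.exists_pow_annihilates_of_finite (maximalIdeal A)
      (ModuleCat.of A M) i
    have hk : Kills (maximalIdeal A) (HH (maximalIdeal A) (ModuleCat.of A M) i) := ⟨N, hN⟩
    exact isFiniteLength_of_finite_of_kills _
      (Kills.of_surjective (lcEquiv (maximalIdeal A) (ModuleCat.of A M) i).symm.toLinearMap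
        (lcEquiv (maximalIdeal A) (ModuleCat.of A M) i).symm.surjective hk)

/-- `ht(m/p) = dim A/p` in a local ring. -/
theorem relHeight_maximalIdeal (p : Ideal A) [p.IsPrime] :
    (((maximalIdeal A).map (Ideal.Quotient.mk p)).height : WithBot ℕ∞) =
      ringKrullDim (A ⧸ p) := by
  haveI : Nontrivial (A ⧸ p) := Ideal.Quotient.nontrivial_iff.mpr (Ideal.IsPrime.ne_top ‹_›)
  haveI : IsLocalRing (A ⧸ p) :=
    IsLocalRing.of_surjective' (Ideal.Quotient.mk p) Ideal.Quotient.mk_surjective
  have hmax : ((maximalIdeal A).map (Ideal.Quotient.mk p)).IsMaximal :=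
    Ideal.IsMaximal.map_of_surjective_of_ker_le Ideal.Quotient.mk_surjective
      (by rw [Ideal.mk_ker]; exact IsLocalRing.le_maximalIdeal (Ideal.IsPrime.ne_top ‹_›))
  rw [IsLocalRing.eq_maximalIdeal hmax]
  exact IsLocalRing.maximalIdeal_height_eq_ringKrullDim

/-- the `m`-adjusted depth at `p` is `depth M_p + dim A/p`. -/
theorem adjDepth_maximalIdeal (M : Type u) [AddCommGroup M] [Module A M] (p : PrimeSpectrum A)
    (e : ℕ) (he : ringKrullDim (A ⧸ p.asIdeal) = e) :
    LocCoh.adjDepth (maximalIdeal A) M p =
      LocCoh.depth (Localization.AtPrime p.asIdeal) (LocalizedModule p.asIdeal.primeCompl M) + e := by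
  haveI := p.2
  unfold LocCoh.adjDepth
  rw [sup_eq_left.mpr (IsLocalRing.le_maximalIdeal p.2.ne_top)]
  have h1 := relHeight_maximalIdeal p.asIdeal
  rw [he] at h1
  have h2 : ((maximalIdeal A).map (Ideal.Quotient.mk p.asIdeal)).height = (e : ℕ∞) := by
    exact_mod_cast h1
  rw [h2]

theorem exists_nat_ringKrullDim_quotient (p : Ideal A) [p.IsPrime] :
    ∃ e : ℕ, ringKrullDim (A ⧸ p) = e := by
  have h1 := relHeight_maximalIdeal p
  have hne : ((maximalIdeal A).map (Ideal.Quotient.mk p)).height ≠ ⊤ := by
    apply Ideal.height_ne_top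
    have hmax : ((maximalIdeal A).map (Ideal.Quotient.mk p)).IsMaximal :=
      Ideal.IsMaximal.map_of_surjective_of_ker_le Ideal.Quotient.mk_surjective
        (by rw [Ideal.mk_ker]; exact IsLocalRing.le_maximalIdeal (Ideal.IsPrime.ne_top ‹_›))
    exact hmax.ne_top
  refine ⟨((maximalIdeal A).map (Ideal.Quotient.mk p)).height.toNat, ?_⟩
  rw [← h1]
  have := ENat.natCast_toNat hne
  exact_mod_cast congrArg (fun x : ℕ∞ => (x : WithBot ℕ∞)) this.symm

theorem not_maximalIdeal_le_iff (p : PrimeSpectrum A) :
    ¬ maximalIdeal A ≤ p.asIdeal ↔ p.asIdeal ≠ maximalIdeal A := by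
  constructor
  · intro h heq
    exact h heq.ge
  · intro h hle
    exact h ((IsLocalRing.maximalIdeal.isMaximal A).eq_of_le p.2.ne_top hle).symm

end Groth.Agent.Lib.Helper4.Falt
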