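import Mathlib
import Groth.Agent.Lib.Helper4.ExtLoc
import Groth.Agent.Lib.Helper4.LD7
import Groth.Agent.Lib.Helper4.FaltLocal
import Groth.Agent.Lib.Helper4.FaltCat
import Groth.Agent.Lib.Helper1.Matlis
import Groth.Agent.Lib.Helper1.InjHullLib
import Groth.Agent.Lib.Helper26.RegularRing

/-!
# Stalkwise local cohomology vanishing via local duality and localization of `Ext`
-/

set_option autoImplicit false
set_option linter.style.haveILetI false
set_option linter.unusedSectionVars false
set_option linter.unusedVariables false
set_option maxHeartbeats 800000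

open CategoryTheory Limits Opposite Abelian IsLocalRing

universe u

namespace Groth.Agent.Lib.Helper4.StalkDual

open Groth.Agent.Lib.Helper4 Groth.Agent.Lib.Helper4.LC Groth.Agent.Lib.Helper4.Falt

/-! ### local duality over a regular local ring -/

section regular

variable (B : Type u) [CommRing B] [IsRegularLocalRing B]

/-- local duality over a regular local ring, `Abelian.Ext` form. -/
theorem regular_duality (n : ℕ) (hn : ringKrullDim B = n) :
    ∃ (E : Type u) (_ : AddCommGroup E) (_ : Module B E) (f : ResidueField B →ₗ[B] E),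
      InjHull.IsInjectiveHull f ∧
      ∀ (k j : ℕ), j + k = n → ∀ (X : Type u) [AddCommGroup X] [Module B X] [Module.Finite B X],
        Nonempty (HH (maximalIdeal B) (ModuleCat.of B X) j ≃ₗ[B]
          (Ext.{u} (ModuleCat.of B X) (ModuleCat.of B B) k →ₗ[B] E)) := by
  obtain ⟨E, _, _, f, hf⟩ :=
    Groth.Agent.Lib.Helper1.InjHullLib.exists_injective_hull B (ResidueField B)
  refine ⟨E, inferInstance, inferInstance, f, hf, ?_⟩
  haveI := hf.isInjective
  obtain ⟨g, hg⟩ := exists_isInjectiveHull_H_top B n hn
  obtain ⟨e, _⟩ := Groth.Agent.S0302.result B (ResidueField B) E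
    (LocCoh.H (maximalIdeal B) n B) f hf g hg
  have eK : (B →ₗ[B] E) ≃ₗ[B] HH (maximalIdeal B) (ModuleCat.of B B) n :=
    ((LinearMap.ringLmapEquivSelf B B E).trans e).trans
      (lcEquiv (maximalIdeal B) (ModuleCat.of B B) n)
  intro k j hjk X _ _ _
  exact nonempty_duality n hn (fun j hj => HH_self_subsingleton_of_lt B n hn j hj) E B eK k j hjk X

/-- vanishing of `H^j_m(X)` is vanishing of `Ext^{n-j}(X, B)`. -/
theorem regular_vanishing_iff (n : ℕ) (hn : ringKrullDim B = n) (X : Type u) [AddCommGroup X]
    [Module B X] [Module.Finite B X] (j k : ℕ) (hjk : j + k = n) :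
    Subsingleton (HH (maximalIdeal B) (ModuleCat.of B X) j) ↔
      Subsingleton (Ext.{u} (ModuleCat.of B X) (ModuleCat.of B B) k) := by
  obtain ⟨E, _, _, f, hf, hdual⟩ := regular_duality B n hn
  obtain ⟨e⟩ := hdual k j hjk X
  constructor
  · intro h
    refine subsingleton_of_forall_eq 0 (fun x => ?_)
    by_contra hx
    obtain ⟨φ, hφ⟩ := Groth.Agent.Lib.Helper1.Matlis.exists_hom_apply_ne_zero f hf _ x hx
    apply hφ
    have h0 : φ = 0 := e.symm.injective (Subsingleton.elim _ _)
    rw [h0, LinearMap.zero_apply]
  · intro h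
    exact e.toEquiv.subsingleton

end regular

/-! ### localization of `Ext` at a multiplicative set, concrete form -/

section extloc

variable {R : Type u} [CommRing R] [IsNoetherianRing R] (S : Submonoid R)

/-- `(LF S).obj (of R N) ≅ of (Localization S) (LocalizedModule S N)`. -/
noncomputable def lfIso (N : Type u) [AddCommGroup N] [Module R N] :
    (ExtLoc.LF S).obj (ModuleCat.of R N) ≅
      ModuleCat.of (Localization S) (LocalizedModule S N) :=
  (Shrink.linearEquiv (Localization S) (LocalizedModule S N)).toModuleIso

/-- `S⁻¹R` as a localized module of `R`. -/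
noncomputable def selfEquiv : LocalizedModule S R ≃ₗ[Localization S] Localization S :=
  (IsLocalizedModule.iso S (Algebra.linearMap R (Localization S))).extendScalarsOfIsLocalization S
    (Localization S)

/-- `(LF S).obj (of R R) ≅ of (Localization S) (Localization S)`. -/
noncomputable def lfIsoSelf :
    (ExtLoc.LF S).obj (ModuleCat.of R R) ≅ ModuleCat.of (Localization S) (Localization S) :=
  lfIso S R ≪≫ (selfEquiv S).toModuleIso

theorem subsingleton_ext_localization_iff (N : Type u) [AddCommGroup N] [Module R N]
    [Module.Finite R N] (k : ℕ) :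
    Subsingleton (Ext.{u} (ModuleCat.of (Localization S) (LocalizedModule S N))
      (ModuleCat.of (Localization S) (Localization S)) k) ↔
      ∀ e : Ext.{u} (ModuleCat.of R N) (ModuleCat.of R R) k, ∃ s : S, (s : R) • e = 0 := by
  rw [← ExtLoc.subsingleton_iff S (ModuleCat.of R R) k N]
  exact ((extCongrLeft (lfIso S N) _ k).trans
    (extCongrRight _ (lfIsoSelf S) k)).symm.toEquiv.subsingleton_congr

theorem subsingleton_ext_localization_of_le (P P' : Ideal R) [P.IsPrime] [P'.IsPrime]
    (hPP' : P ≤ P') (N : Type u) [AddCommGroup N] [Module R N] [Module.Finite R N] (k : ℕ)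
    (h : Subsingleton (Ext.{u}
      (ModuleCat.of (Localization.AtPrime P') (LocalizedModule P'.primeCompl N))
      (ModuleCat.of (Localization.AtPrime P') (Localization.AtPrime P')) k)) :
    Subsingleton (Ext.{u}
      (ModuleCat.of (Localization.AtPrime P) (LocalizedModule P.primeCompl N))
      (ModuleCat.of (Localization.AtPrime P) (Localization.AtPrime P)) k) := by
  have h' := (subsingleton_ext_localization_iff P'.primeCompl N k).1 h
  refine (subsingleton_ext_localization_iff P.primeCompl N k).2 (fun e => ?_)
  obtain ⟨s, hs⟩ := h' e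
  exact ⟨⟨(s : R), fun hsP => s.2 (hPP' hsP)⟩, hs⟩

end extloc

/-! ### the key descent along a specialization in a regular ring -/

section descent

variable (R : Type u) [CommRing R] [IsRegularRing R]

theorem ringKrullDim_atPrime_eq (P : Ideal R) [P.IsPrime] (n : ℕ) (hn : P.height = n) :
    ringKrullDim (Localization.AtPrime P) = n := by
  rw [IsLocalization.AtPrime.ringKrullDim_eq_height P, hn]
  rfl

theorem exists_height_eq (P : Ideal R) [P.IsPrime] : ∃ n : ℕ, P.height = n :=
  ⟨_, (ENat.coe_toNat (height_ne_top_of_isPrime P)).symm⟩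

theorem HH_stalk_vanishing_of_le (N : Type u) [AddCommGroup N] [Module R N] [Module.Finite R N]
    (P P' : Ideal R) [P.IsPrime] [P'.IsPrime] (hPP' : P ≤ P') (j d : ℕ)
    (hd : (P'.map (Ideal.Quotient.mk P)).height = d)
    (h : Subsingleton (HH (maximalIdeal (Localization.AtPrime P'))
      (ModuleCat.of (Localization.AtPrime P') (LocalizedModule P'.primeCompl N)) (j + d))) :
    Subsingleton (HH (maximalIdeal (Localization.AtPrime P))
      (ModuleCat.of (Localization.AtPrime P) (LocalizedModule P.primeCompl N)) j) := by
  obtain ⟨nP, hnP⟩ := exists_height_eq R P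
  have hdimP := ringKrullDim_atPrime_eq R P nP hnP
  have hsum : P'.height = ((nP + d : ℕ) : ℕ∞) := by
    rw [height_eq_add_relHeight R P P' hPP', hnP, hd]
    push_cast
    rfl
  have hdimP' := ringKrullDim_atPrime_eq R P' (nP + d) hsum
  by_cases hj : j ≤ nP
  · have h1 := (regular_vanishing_iff (Localization.AtPrime P') (nP + d) hdimP'
      (LocalizedModule P'.primeCompl N) (j + d) (nP - j) (by omega)).1 h
    have h2 := subsingleton_ext_localization_of_le P P' hPP' N (nP - j) h1
    exact (regular_vanishing_iff (Localization.AtPrime P) nP hdimP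
      (LocalizedModule P.primeCompl N) j (nP - j) (by omega)).2 h2
  · refine HH.subsingleton_of_ringKrullDim_lt _ _ j ?_
    rw [hdimP]
    exact_mod_cast (not_le.1 hj)

end descent

end Groth.Agent.Lib.Helper4.StalkDual
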