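import Mathlib
import Groth.Agent.Lib.Helper4.StalkDual
import Groth.Agent.Lib.Helper4.FaltRing
import Groth.Agent.Lib.Helper4.RelCodim
import Groth.Agent.Lib.Helper20.LCIndep2

/-!
# Stalkwise local cohomology vanishing: transfer along a surjection from a regular ring
-/

set_option autoImplicit false
set_option linter.style.haveILetI false
set_option linter.unusedSectionVars false
set_option linter.unusedVariables false
set_option maxHeartbeats 800000

open CategoryTheory Limits Opposite Abelian IsLocalRing

universe u

namespace Groth.Agent.Lib.Helper4.StalkDual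

open Groth.Agent.Lib.Helper4 Groth.Agent.Lib.Helper4.LC Groth.Agent.Lib.Helper4.Falt

section transfer

variable {S R : Type u} [CommRing S] [CommRing R] [Algebra S R] [IsNoetherianRing S]
  [IsNoetherianRing R] (hsurj : Function.Surjective (algebraMap S R))
  (M : Type u) [AddCommGroup M] [Module S M] [Module R M] [IsScalarTower S R M]

include hsurj in
/-- the local cohomology of the stalk at `p` can be computed over `S_P`, `P` the preimage of
`p`. -/
theorem HH_localization_comap_iff (p : Ideal R) [p.IsPrime] (k : ℕ) :
    Subsingleton (HH (maximalIdeal (Localization.AtPrime (p.comap (algebraMap S R))))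
      (ModuleCat.of (Localization.AtPrime (p.comap (algebraMap S R)))
        (LocalizedModule (p.comap (algebraMap S R)).primeCompl M)) k) ↔
    Subsingleton (HH (maximalIdeal (Localization.AtPrime p))
      (ModuleCat.of (Localization.AtPrime p) (LocalizedModule p.primeCompl M)) k) := by
  set P := p.comap (algebraMap S R) with hP
  letI : Algebra (Localization.AtPrime P) (Localization.AtPrime p) :=
    (Localization.localRingHom P p (algebraMap S R) rfl).toAlgebra
  haveI : IsLocalHom (algebraMap (Localization.AtPrime P) (Localization.AtPrime p)) :=
    Localization.isLocalHom_localRingHom P p (algebraMap S R) rfl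
  have hsurj' : Function.Surjective
      (algebraMap (Localization.AtPrime P) (Localization.AtPrime p)) := by
    intro z
    obtain ⟨r, t, rfl⟩ := IsLocalization.exists_mk'_eq p.primeCompl z
    obtain ⟨s, rfl⟩ := hsurj r
    obtain ⟨u, hu⟩ := hsurj (t : R)
    have huP : u ∈ P.primeCompl := by
      show u ∉ P
      rw [hP, Ideal.mem_comap, hu]
      exact t.2
    refine ⟨IsLocalization.mk' _ s ⟨u, huP⟩, ?_⟩
    change Localization.localRingHom P p (algebraMap S R) rfl _ = _
    rw [Localization.localRingHom_mk']
    congr 1
    exact Subtype.ext hu
  letI modSPN' : Module (Localization.AtPrime P) (LocalizedModule p.primeCompl M) :=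
    Module.compHom (LocalizedModule p.primeCompl M)
      (algebraMap (Localization.AtPrime P) (Localization.AtPrime p))
  haveI : IsScalarTower (Localization.AtPrime P) (Localization.AtPrime p)
      (LocalizedModule p.primeCompl M) :=
    IsScalarTower.of_algebraMap_smul (fun _ _ => rfl)
  haveI : IsScalarTower S (Localization.AtPrime P) (LocalizedModule p.primeCompl M) := by
    refine IsScalarTower.of_algebraMap_smul (fun s n => ?_)
    rw [← algebraMap_smul R s n]
    change (Localization.localRingHom P p (algebraMap S R) rfl
      (algebraMap S (Localization.AtPrime P) s)) • n = (algebraMap S R s) • n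
    rw [Localization.localRingHom_to_map, algebraMap_smul]
  have hsub : Algebra.algebraMapSubmonoid R P.primeCompl = p.primeCompl := by
    ext r
    constructor
    · rintro ⟨s, hs, rfl⟩
      exact hs
    · intro hr
      obtain ⟨s, rfl⟩ := hsurj r
      exact ⟨s, hr, rfl⟩
  haveI hloc : IsLocalizedModule (Algebra.algebraMapSubmonoid R P.primeCompl)
      (LocalizedModule.mkLinearMap p.primeCompl M) := by
    rw [hsub]
    infer_instance
  haveI := IsLocalizedModule.restrictScalars (R := S) (A := R) P.primeCompl
    (LocalizedModule.mkLinearMap p.primeCompl M)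
  let e0 : LocalizedModule P.primeCompl M ≃ₗ[S] LocalizedModule p.primeCompl M :=
    IsLocalizedModule.iso P.primeCompl
      ((LocalizedModule.mkLinearMap p.primeCompl M).restrictScalars S)
  let e : LocalizedModule P.primeCompl M ≃ₗ[Localization.AtPrime P]
      LocalizedModule p.primeCompl M :=
    e0.extendScalarsOfIsLocalization P.primeCompl (Localization.AtPrime P)
  -- the independence theorem
  obtain ⟨φ, -⟩ := Groth.Agent.Lib.Helper20.LCIndep2.exists_addEquiv
    (R := Localization.AtPrime P) (Localization.AtPrime p)
    (maximalIdeal (Localization.AtPrime P)) (LocalizedModule p.primeCompl M) k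
  have hmem : ∀ a : Localization.AtPrime P,
      algebraMap (Localization.AtPrime P) (Localization.AtPrime p) a ∈
        maximalIdeal (Localization.AtPrime p) ↔ a ∈ maximalIdeal (Localization.AtPrime P) := by
    intro a
    rw [IsLocalRing.mem_maximalIdeal, IsLocalRing.mem_maximalIdeal, mem_nonunits_iff,
      mem_nonunits_iff]
    exact not_congr (isUnit_map_iff _ a)
  have hmap : (maximalIdeal (Localization.AtPrime P)).map
      (algebraMap (Localization.AtPrime P) (Localization.AtPrime p)) =
      maximalIdeal (Localization.AtPrime p) := by
    apply le_antisymm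
    · rw [Ideal.map_le_iff_le_comap]
      intro a ha
      exact (hmem a).2 ha
    · intro x hx
      obtain ⟨y, rfl⟩ := hsurj' x
      exact Ideal.mem_map_of_mem _ ((hmem y).1 hx)
  rw [hmap] at φ
  have ψ := HH.mapIso (maximalIdeal (Localization.AtPrime P)) e.toModuleIso k
  exact ψ.toEquiv.subsingleton_congr.trans φ.toEquiv.subsingleton_congr.symm

end transfer

section quotient

variable (R : Type u) [CommRing R] [IsRegularRing R] (A : Type u) [CommRing A] [IsNoetherianRing A]
  (π : R →+* A) (hπ : Function.Surjective π)
  (M : Type u) [AddCommGroup M] [Module A M] [Module.Finite A M]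

include hπ in
/-- **descent of stalkwise vanishing along a specialization** in a quotient of a regular ring. -/
theorem H_stalk_vanishing_of_le (p p' : Ideal A) [p.IsPrime] [p'.IsPrime] (hpp' : p ≤ p')
    (j d : ℕ) (hd : (p'.map (Ideal.Quotient.mk p)).height = d)
    (h : Subsingleton (LocCoh.H (maximalIdeal (Localization.AtPrime p')) (j + d)
      (LocalizedModule p'.primeCompl M))) :
    Subsingleton (LocCoh.H (maximalIdeal (Localization.AtPrime p)) j
      (LocalizedModule p.primeCompl M)) := by
  letI : Algebra R A := π.toAlgebra
  have hsurj : Function.Surjective (algebraMap R A) := hπ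
  letI : Module R M := Module.compHom M π
  haveI : IsScalarTower R A M := IsScalarTower.of_algebraMap_smul (fun _ _ => rfl)
  haveI : Module.Finite R A := Module.Finite.of_surjective (Algebra.linearMap R A) hsurj
  haveI : Module.Finite R M := Module.Finite.trans A M
  rw [subsingleton_H_iff] at h ⊢
  rw [← HH_localization_comap_iff hsurj M p' (j + d)] at h
  rw [← HH_localization_comap_iff hsurj M p j]
  have hd' : ((p'.comap (algebraMap R A)).map
      (Ideal.Quotient.mk (p.comap (algebraMap R A)))).height = d := by
    have h1 := height_map_comap hsurj p (p'.comap (algebraMap R A))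
    rw [Ideal.map_comap_of_surjective _ hsurj, sup_eq_left.mpr hpp',
      sup_eq_left.mpr (Ideal.comap_mono hpp')] at h1
    rw [h1, hd]
  exact HH_stalk_vanishing_of_le R M (p.comap (algebraMap R A)) (p'.comap (algebraMap R A))
    (Ideal.comap_mono hpp') j d hd' h

end quotient

end Groth.Agent.Lib.Helper4.StalkDual
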