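import Mathlib
import Groth.Agent.Lib.Helper4.StalkDual2

/-!
# Finite length of `H^i_m(M)` over a quotient of a regular local ring, stalkwise criterion
-/

set_option autoImplicit false
set_option linter.style.haveILetI false
set_option linter.unusedSectionVars false
set_option linter.unusedVariables false
set_option maxHeartbeats 800000

open CategoryTheory Limits Opposite Abelian IsLocalRing

universe u

namespace Groth.Agent.Lib.Helper4.StalkDual

open Groth.Agent.Lib.Helper4 Groth.Agent.Lib.Helper4.LC Groth.Agent.Lib.Helper4.Falt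

section loc

variable {A : Type u} [CommRing A] [IsLocalRing A]

/-- a module of finite length over a local ring is killed by a power of the maximal ideal. -/
lemma kills_of_isFiniteLength (X : Type*) [AddCommGroup X] [Module A X]
    (h : IsFiniteLength A X) : Kills (maximalIdeal A) X := by
  induction h with
  | @of_subsingleton M _ _ _ => exact Kills.of_subsingleton
  | @of_simple_quotient M _ _ N hsimple hN ih =>
    obtain ⟨k, hk⟩ := ih
    obtain ⟨I, hI, ⟨e⟩⟩ := isSimpleModule_iff_quot_maximal.mp hsimple
    have hIm : I = maximalIdeal A := IsLocalRing.eq_maximalIdeal hI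
    have hmem : ∀ b ∈ maximalIdeal A, ∀ y : M, b • y ∈ N := by
      intro b hb y
      rw [← Submodule.Quotient.mk_eq_zero, Submodule.Quotient.mk_smul]
      apply e.injective
      rw [map_smul, map_zero]
      obtain ⟨a, ha⟩ := Ideal.Quotient.mk_surjective (e (Submodule.Quotient.mk y))
      rw [← ha, Algebra.smul_def, Ideal.Quotient.algebraMap_eq, ← map_mul,
        Ideal.Quotient.eq_zero_iff_mem]
      exact I.mul_mem_right a (hIm ▸ hb)
    refine ⟨k + 1, fun r hr y => ?_⟩
    rw [pow_succ] at hr
    refine Submodule.mul_induction_on hr ?_ ?_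
    · intro a ha b hb
      have := hk a ha ⟨b • y, hmem b hb y⟩
      rw [mul_smul]
      exact congrArg Subtype.val this
    · intro a b ha hb
      rw [add_smul, ha, hb, add_zero]

variable [IsNoetherianRing A]

/-- a finite module over a Noetherian local ring has finite length iff it vanishes locally at
every non-maximal prime. -/
theorem isFiniteLength_iff_forall_prime (X : Type u) [AddCommGroup X] [Module A X]
    [Module.Finite A X] :
    IsFiniteLength A X ↔ ∀ (P : Ideal A) [P.IsPrime], P ≠ maximalIdeal A →
      ∀ x : X, ∃ s : P.primeCompl, (s : A) • x = 0 := by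
  constructor
  · intro h P _ hP x
    obtain ⟨k, hk⟩ := kills_of_isFiniteLength X h
    obtain ⟨t, htm, htP⟩ : ∃ t ∈ maximalIdeal A, t ∉ P := by
      by_contra hcon
      push_neg at hcon
      exact hP ((IsLocalRing.maximalIdeal.isMaximal A).eq_of_le (Ideal.IsPrime.ne_top ‹_›)
        hcon).symm
    exact ⟨⟨t ^ k, fun h' => htP (Ideal.IsPrime.mem_of_pow_mem ‹_› k h')⟩,
      hk _ (Ideal.pow_mem_pow htm k) x⟩
  · intro h
    refine isFiniteLength_of_finite_of_kills X (Kills.iff_le_radical_annihilator.2 ?_)
    rw [Ideal.radical_eq_sInf]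
    refine le_sInf (fun Q hQ => ?_)
    obtain ⟨hQa, hQp⟩ := hQ
    haveI := hQp
    by_contra hle
    have hQm : Q ≠ maximalIdeal A := fun heq => hle (heq ▸ le_rfl)
    obtain ⟨s, hs⟩ := (Module.Finite.fg_top : (⊤ : Submodule A X).FG)
    choose t ht using h Q hQm
    have hprod : (∏ x ∈ s, (t x : A)) ∈ Q.primeCompl :=
      Q.primeCompl.prod_mem (fun x _ => (t x).2)
    apply hprod
    apply hQa
    rw [Module.mem_annihilator]
    intro y
    have hy : y ∈ Submodule.span A (s : Set X) := by rw [hs]; exact Submodule.mem_top
    induction hy using Submodule.span_induction with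
    | mem x hx =>
      obtain ⟨c, hc⟩ := Finset.dvd_prod_of_mem (fun x => (t x : A)) hx
      rw [hc, mul_comm, mul_smul, ht x, smul_zero]
    | zero => rw [smul_zero]
    | add a b _ _ ha hb => rw [smul_add, ha, hb, add_zero]
    | smul a b _ hb => rw [smul_comm, hb, smul_zero]

variable {E : Type u} [AddCommGroup E] [Module A E] (f : ResidueField A →ₗ[A] E)
  (hf : InjHull.IsInjectiveHull f)

include hf in
/-- Matlis: `Hom(X, E)` has finite length iff the finite module `X` has. -/
theorem isFiniteLength_hom_iff (X : Type u) [AddCommGroup X] [Module A X] [Module.Finite A X] :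
    IsFiniteLength A (X →ₗ[A] E) ↔ IsFiniteLength A X := by
  constructor
  · intro h
    obtain ⟨k, hk⟩ := kills_of_isFiniteLength _ h
    refine isFiniteLength_of_finite_of_kills X ⟨k, fun r hr x => ?_⟩
    by_contra hx
    obtain ⟨φ, hφ⟩ := Groth.Agent.Lib.Helper1.Matlis.exists_hom_apply_ne_zero f hf X (r • x) hx
    apply hφ
    rw [map_smul, ← LinearMap.smul_apply, hk r hr φ, LinearMap.zero_apply]
  · intro h
    rw [← Module.length_ne_top_iff,
      Groth.Agent.Lib.Helper1.Matlis.length_hom_eq_of_isFiniteLength f hf X h,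
      Module.length_ne_top_iff]
    exact h

end loc

/-- finite length transfers along an additive equivalence semilinear over a surjection. -/
theorem isFiniteLength_iff_of_addEquiv {R A : Type u} [CommRing R] [CommRing A] [Algebra R A]
    (hsurj : Function.Surjective (algebraMap R A))
    {X Y : Type u} [AddCommGroup X] [Module A X] [AddCommGroup Y] [Module R Y] (φ : X ≃+ Y)
    (hφ : ∀ (r : R) (x : X), φ (algebraMap R A r • x) = r • φ x) :
    IsFiniteLength A X ↔ IsFiniteLength R Y := by
  letI : Module R X := Module.compHom X (algebraMap R A)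
  haveI : IsScalarTower R A X := IsScalarTower.of_algebraMap_smul (fun _ _ => rfl)
  let ψ : X ≃ₗ[R] Y := { φ with map_smul' := fun r x => hφ r x }
  have h1 : IsFiniteLength A X ↔ IsFiniteLength R X := by
    rw [← Module.length_ne_top_iff, ← Module.length_ne_top_iff,
      Module.length_eq_of_surjective hsurj]
  rw [h1]
  exact ⟨ψ.isFiniteLength, ψ.symm.isFiniteLength⟩

section flr

variable (R : Type u) [CommRing R] [IsRegularLocalRing R]

/-- **finite length of `H^i_m(N)` over a regular local ring**, stalkwise. -/
theorem isFiniteLength_HH_iff (N : Type u) [AddCommGroup N] [Module R N] [Module.Finite R N]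
    (i : ℕ) :
    IsFiniteLength R (HH (maximalIdeal R) (ModuleCat.of R N) i) ↔
      ∀ (P : Ideal R) [P.IsPrime], P ≠ maximalIdeal R → ∀ (e j : ℕ),
        ((maximalIdeal R).map (Ideal.Quotient.mk P)).height = e → j + e = i →
        Subsingleton (HH (maximalIdeal (Localization.AtPrime P))
          (ModuleCat.of (Localization.AtPrime P) (LocalizedModule P.primeCompl N)) j) := by
  haveI : IsRegularRing R :=
    Groth.Agent.Lib.Helper26.RegularRing.isRegularRing_of_isRegularLocalRing R
  obtain ⟨n, hm⟩ := exists_height_eq R (maximalIdeal R)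
  have hn : ringKrullDim R = n := by
    rw [← IsLocalRing.maximalIdeal_height_eq_ringKrullDim, hm]
    rfl
  -- facts at a prime
  have hprime : ∀ (P : Ideal R) [P.IsPrime], ∃ nP e₀ : ℕ, P.height = nP ∧
      ((maximalIdeal R).map (Ideal.Quotient.mk P)).height = e₀ ∧ n = nP + e₀ := by
    intro P _
    obtain ⟨nP, hnP⟩ := exists_height_eq R P
    have hadd := height_eq_add_relHeight R P (maximalIdeal R)
      (IsLocalRing.le_maximalIdeal (Ideal.IsPrime.ne_top ‹_›))
    rw [hm, hnP] at hadd
    have hrel_ne : ((maximalIdeal R).map (Ideal.Quotient.mk P)).height ≠ ⊤ := by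
      intro htop
      rw [htop, add_top] at hadd
      exact ENat.coe_ne_top n hadd
    obtain ⟨e₀, he₀⟩ : ∃ e₀ : ℕ, ((maximalIdeal R).map (Ideal.Quotient.mk P)).height = e₀ :=
      ⟨_, (ENat.coe_toNat hrel_ne).symm⟩
    rw [he₀] at hadd
    exact ⟨nP, e₀, hnP, he₀, by exact_mod_cast hadd⟩
  by_cases hin : i ≤ n
  · obtain ⟨k, hk⟩ : ∃ k, i + k = n := ⟨n - i, by omega⟩
    obtain ⟨E, _, _, f, hf, hdual⟩ := regular_duality R n hn
    obtain ⟨eD⟩ := hdual k i hk N
    have h1 : IsFiniteLength R (HH (maximalIdeal R) (ModuleCat.of R N) i) ↔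
        IsFiniteLength R (Ext.{u} (ModuleCat.of R N) (ModuleCat.of R R) k) :=
      ⟨fun h => (isFiniteLength_hom_iff f hf _).1 (eD.isFiniteLength h),
        fun h => eD.symm.isFiniteLength ((isFiniteLength_hom_iff f hf _).2 h)⟩
    rw [h1, isFiniteLength_iff_forall_prime]
    refine forall_congr' (fun P => ?_)
    refine forall_congr' (fun hPprime => ?_)
    refine forall_congr' (fun hPne => ?_)
    haveI := hPprime
    rw [← subsingleton_ext_localization_iff P.primeCompl N k]
    obtain ⟨nP, e₀, hnP, he₀, hne⟩ := hprime P
    have hdimP := ringKrullDim_atPrime_eq R P nP hnP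
    constructor
    · intro hExt e j he hje
      have hee : e = e₀ := by
        rw [he₀] at he
        exact_mod_cast he.symm
      exact (regular_vanishing_iff (Localization.AtPrime P) nP hdimP
        (LocalizedModule P.primeCompl N) j k (by omega)).2 hExt
    · intro hH
      by_cases hkP : k ≤ nP
      · have := hH e₀ (nP - k) he₀ (by omega)
        exact (regular_vanishing_iff (Localization.AtPrime P) nP hdimP
          (LocalizedModule P.primeCompl N) (nP - k) k (by omega)).1 this
      · exact subsingleton_ext_of_gt (Localization.AtPrime P) nP hdimP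
          (LocalizedModule P.primeCompl N) (ModuleCat.of _ _) k (not_le.1 hkP)
  · have hsub : Subsingleton (HH (maximalIdeal R) (ModuleCat.of R N) i) := by
      refine HH.subsingleton_of_ringKrullDim_lt _ _ i ?_
      rw [hn]
      exact_mod_cast (not_le.1 hin)
    constructor
    · intro _ P _ hPne e j he hje
      obtain ⟨nP, e₀, hnP, he₀, hne⟩ := hprime P
      have hdimP := ringKrullDim_atPrime_eq R P nP hnP
      have hee : e = e₀ := by
        rw [he₀] at he
        exact_mod_cast he.symm
      refine HH.subsingleton_of_ringKrullDim_lt _ _ j ?_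
      rw [hdimP]
      have : nP < j := by omega
      exact_mod_cast this
    · intro _
      exact IsFiniteLength.of_subsingleton

end flr

section localquot

variable {R A : Type u} [CommRing R] [CommRing A] [IsLocalRing R] [IsLocalRing A]
  [IsNoetherianRing A] [Algebra R A] (hsurj : Function.Surjective (algebraMap R A))

include hsurj

lemma mem_maximalIdeal_map_iff (a : R) :
    algebraMap R A a ∈ maximalIdeal A ↔ a ∈ maximalIdeal R := by
  haveI : IsLocalHom (algebraMap R A) := IsLocalHom.of_surjective _ hsurj
  rw [mem_maximalIdeal, mem_maximalIdeal, mem_nonunits_iff, mem_nonunits_iff]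
  exact not_congr (isUnit_map_iff (algebraMap R A) a)

lemma map_maximalIdeal_eq : (maximalIdeal R).map (algebraMap R A) = maximalIdeal A := by
  apply le_antisymm
  · rw [Ideal.map_le_iff_le_comap]
    intro a ha
    exact (mem_maximalIdeal_map_iff hsurj a).2 ha
  · intro x hx
    obtain ⟨y, rfl⟩ := hsurj x
    exact Ideal.mem_map_of_mem _ ((mem_maximalIdeal_map_iff hsurj y).1 hx)

lemma comap_maximalIdeal_eq : (maximalIdeal A).comap (algebraMap R A) = maximalIdeal R :=
  Ideal.ext (fun a => mem_maximalIdeal_map_iff hsurj a)

lemma relHeight_maximalIdeal_comap (p : Ideal A) [p.IsPrime] :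
    ((((maximalIdeal R).map (Ideal.Quotient.mk (p.comap (algebraMap R A)))).height : ℕ∞) :
      WithBot ℕ∞) = ringKrullDim (A ⧸ p) := by
  have h1 := height_map_comap hsurj p (maximalIdeal R)
  have hA : maximalIdeal A ⊔ p = maximalIdeal A :=
    sup_eq_left.mpr (le_maximalIdeal (Ideal.IsPrime.ne_top ‹p.IsPrime›))
  have hR : maximalIdeal R ⊔ p.comap (algebraMap R A) = maximalIdeal R :=
    sup_eq_left.mpr (le_maximalIdeal
      (Ideal.IsPrime.ne_top (inferInstance : (p.comap (algebraMap R A)).IsPrime)))
  rw [map_maximalIdeal_eq hsurj, hA, hR] at h1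
  rw [h1]
  exact relHeight_maximalIdeal p

end localquot

end Groth.Agent.Lib.Helper4.StalkDual
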