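import Mathlib
import Groth.Agent.Lib.Helper4.LD7
import Groth.Agent.Lib.Helper4.LD4
import Groth.Agent.Lib.Helper4.StalkDual3
import Groth.Agent.Lib.Helper20.GorCM
import Groth.Agent.Lib.Helper9.SemiLocal
import Groth.Agent.S0341

/-!
# Top local cohomology of a Gorenstein local ring is an injective hull of the residue field
(helper4)

* `nonempty_ext_chain`: iterated Rees isomorphism `Hom(N, M/(rs)M) ≃ Ext^{|rs|}(N, M)`;
* `ext_finiteLength_mul`: `length Ext^n(M, G) = length M * length Ext^n(k, G)` for `M` of finite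
  length when `Ext^i(k, G) = 0` for `i ≠ n`;
* `gor_length_ext_residue`: a Gorenstein local ring has type one;
* `gor_exists_isInjectiveHull_H_top`.
-/

set_option autoImplicit false
set_option linter.style.haveILetI false
set_option linter.unusedSectionVars false
set_option linter.unusedVariables false
set_option maxHeartbeats 800000

open CategoryTheory Limits Opposite Abelian IsLocalRing

universe u

namespace Groth.Agent.Lib.Helper4.LC

open Groth.Agent.Lib.Helper4

section arith

lemma enat_eq_one_of_mul (l r : ℕ∞) (h : l = l * r) (h0 : l ≠ 0) (ht : l ≠ ⊤) : r = 1 := by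
  obtain ⟨a, rfl⟩ := ENat.ne_top_iff_exists.1 ht
  induction r with
  | top =>
    exfalso
    rw [ENat.mul_top h0] at h
    exact ENat.coe_ne_top a h
  | coe b =>
    have h1 : a = a * b := by exact_mod_cast h
    have ha : a ≠ 0 := by exact_mod_cast h0
    have h2 : a * 1 = a * b := by rw [mul_one]; exact h1
    have h3 : b = 1 := (Nat.eq_of_mul_eq_mul_left (Nat.pos_of_ne_zero ha) h2).symm
    rw [h3]
    rfl

lemma withBot_le_zero_of_add_eq (x : WithBot ℕ∞) (n : ℕ)
    (h : x + (n : WithBot ℕ∞) = (n : WithBot ℕ∞)) : x ≤ 0 := by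
  induction x with
  | bot => exact bot_le
  | coe a =>
    induction a with
    | top =>
      exfalso
      have h1 : (((⊤ : ℕ∞) + (n : ℕ∞) : ℕ∞) : WithBot ℕ∞) = (((n : ℕ) : ℕ∞) : WithBot ℕ∞) := by
        exact_mod_cast h
      rw [WithBot.coe_inj, top_add] at h1
      exact ENat.top_ne_coe _ h1
    | coe a =>
      have h1 : ((a + n : ℕ) : WithBot ℕ∞) = ((n : ℕ) : WithBot ℕ∞) := by exact_mod_cast h
      have h2 : a + n = n := by exact_mod_cast h1
      have h3 : a = 0 := by omega
      rw [h3]
      simp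

end arith

section general

variable {R : Type u} [CommRing R] [IsLocalRing R] [IsNoetherianRing R]

lemma support_subset_of_kills (N : Type u) [AddCommGroup N] [Module R N] [Module.Finite R N]
    (k : ℕ) (hk : ∀ r ∈ maximalIdeal R ^ k, ∀ y : N, r • y = 0) :
    Module.support R N ⊆ PrimeSpectrum.zeroLocus (maximalIdeal R : Set R) := by
  intro p hp
  rw [Module.support_eq_zeroLocus, PrimeSpectrum.mem_zeroLocus] at hp
  rw [PrimeSpectrum.mem_zeroLocus]
  have h1 : maximalIdeal R ^ k ≤ p.asIdeal := fun r hr =>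
    hp (Module.mem_annihilator.2 (hk r hr))
  exact Ideal.IsPrime.le_of_pow_le h1

/-- iterated Rees isomorphism along a regular sequence killing `N`. -/
theorem nonempty_ext_chain (N : Type u) [AddCommGroup N] [Module R N] [Module.Finite R N]
    (hsupp : Module.support R N ⊆ PrimeSpectrum.zeroLocus (maximalIdeal R : Set R)) :
    ∀ (rs : List R) (M : Type u) [AddCommGroup M] [Module R M] [Module.Finite R M],
    (∀ r ∈ rs, r ∈ maximalIdeal R) → (∀ r ∈ rs, r ∈ Module.annihilator R N) →
    RingTheory.Sequence.IsRegular M rs →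
    Nonempty (Ext.{u} (ModuleCat.of R N)
        (ModuleCat.of R (M ⧸ Ideal.ofList rs • (⊤ : Submodule R M))) 0 ≃ₗ[R]
      Ext.{u} (ModuleCat.of R N) (ModuleCat.of R M) rs.length) := by
  intro rs
  induction rs with
  | nil =>
    intro M _ _ _ _ _ _
    have hbot : (Ideal.ofList ([] : List R) • (⊤ : Submodule R M)) = ⊥ := by
      rw [Ideal.ofList_nil, Submodule.bot_smul]
    exact ⟨extCongrRight _ (Submodule.quotEquivOfEqBot _ hbot).toModuleIso 0⟩
  | cons a rs ih =>
    intro M _ _ _ hmem hann hreg
    obtain ⟨hareg, hrs⟩ := (RingTheory.Sequence.isRegular_cons_iff M a rs).1 hreg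
    obtain ⟨e1⟩ := ih (QuotSMulTop a M) (fun r hr => hmem r (List.mem_cons_of_mem a hr))
      (fun r hr => hann r (List.mem_cons_of_mem a hr)) hrs
    have hlen : ((a :: rs).length : ℕ∞) ≤ LocCoh.idealDepth (maximalIdeal R) M :=
      length_le_idealDepth (maximalIdeal R) (a :: rs) hreg.toIsWeaklyRegular hmem
    have h0 : Subsingleton (Ext.{u} (ModuleCat.of R N) (ModuleCat.of R M) rs.length) := by
      apply subsingleton_ext_of_lt_idealDepth (maximalIdeal R) _ hsupp
        (ModuleCat.of R M) rs.length
      refine lt_of_lt_of_le ?_ hlen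
      rw [List.length_cons]
      exact_mod_cast Nat.lt_succ_self _
    have ha : a ∈ Module.annihilator R (ModuleCat.of R N) := hann a List.mem_cons_self
    obtain ⟨e2⟩ := nonempty_ext_quotSMulTop_equiv
      (N := ModuleCat.of R N) (M := ModuleCat.of R M) a ha hareg rs.length h0
    have e3 := (Submodule.quotOfListConsSMulTopEquivQuotSMulTopInner M a rs).toModuleIso
    exact ⟨(extCongrRight _ e3 0).trans (e1.trans e2)⟩

/-- `Ext^i(M, G) = 0` for `i ≠ n` and `length Ext^n(M, G) = length M * length Ext^n(k, G)` for `M`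
of finite length, when `Ext^i(k, G) = 0` for `i ≠ n`. -/
theorem ext_finiteLength_mul (G : ModuleCat.{u} R) (n : ℕ)
    (hv : ∀ i, i ≠ n → Subsingleton (Ext.{u} (ModuleCat.of R (R ⧸ maximalIdeal R)) G i))
    (M : Type u) [AddCommGroup M] [Module R M] (hM : IsFiniteLength R M) :
    (∀ i : ℕ, i ≠ n → Subsingleton (Ext.{u} (ModuleCat.of R M) G i)) ∧
      Module.length R (Ext.{u} (ModuleCat.of R M) G n) = Module.length R M *
        Module.length R (Ext.{u} (ModuleCat.of R (R ⧸ maximalIdeal R)) G n) := by
  induction hM with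
  | @of_subsingleton M _ _ _ =>
    have h1 : (1 : R) ∈ Module.annihilator R (ModuleCat.of R M) := by
      rw [Module.mem_annihilator]
      intro m
      exact Subsingleton.elim _ _
    have h0 : (0 : R) ∈ Module.annihilator R G := Submodule.zero_mem _
    have hall : ∀ i, Subsingleton (Ext.{u} (ModuleCat.of R M) G i) := fun i =>
      subsingleton_ext_of_annihilators h1 h0 (by ring) i
    refine ⟨fun i _ => hall i, ?_⟩
    haveI := hall n
    rw [Module.length_eq_zero, Module.length_eq_zero, zero_mul]
  | @of_simple_quotient M _ _ N hsimple hN ih =>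
    obtain ⟨ihv, ihl⟩ := ih
    have hex : Function.Exact N.subtype N.mkQ := LinearMap.exact_subtype_mkQ N
    have hS : (sesOf N.subtype N.mkQ hex).ShortExact :=
      sesOf_shortExact _ _ hex (Submodule.injective_subtype _) (Submodule.mkQ_surjective _)
    set S := sesOf N.subtype N.mkQ hex with hSdef
    obtain ⟨I, hI, ⟨eq⟩⟩ := isSimpleModule_iff_quot_maximal.1 hsimple
    have hIm : I = maximalIdeal R := IsLocalRing.eq_maximalIdeal hI
    subst hIm
    have eQ : ∀ i, Ext.{u} (ModuleCat.of R (M ⧸ N)) G i ≃ₗ[R]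
        Ext.{u} (ModuleCat.of R (R ⧸ maximalIdeal R)) G i := fun i =>
      extCongrLeft eq.toModuleIso _ i
    have hQv : ∀ i, i ≠ n → Subsingleton (Ext.{u} S.X₃ G i) := by
      intro i hi
      haveI := hv i hi
      exact (eQ i).toEquiv.subsingleton
    have hQl : Module.length R (Ext.{u} S.X₃ G n) =
        Module.length R (Ext.{u} (ModuleCat.of R (R ⧸ maximalIdeal R)) G n) :=
      (eQ n).length_eq
    have hNv : ∀ i, i ≠ n → Subsingleton (Ext.{u} S.X₁ G i) := ihv
    constructor
    · intro i hi
      haveI := hQv i hi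
      haveI := hNv i hi
      refine ⟨fun a b => ?_⟩
      have key : ∀ x₂ : Ext.{u} S.X₂ G i, x₂ = 0 := by
        intro x₂
        obtain ⟨x₁, hx₁⟩ := Ext.contravariant_sequence_exact₂ hS G x₂
          (Subsingleton.elim _ _)
        rw [← hx₁, Subsingleton.elim x₁ 0, Ext.comp_zero]
      exact (key a).trans (key b).symm
    · let α : Ext.{u} S.X₃ G n →ₗ[R] Ext.{u} S.X₂ G n :=
        Ext.precompOfLinear (Ext.mk₀ S.g) R G (zero_add n)
      let β : Ext.{u} S.X₂ G n →ₗ[R] Ext.{u} S.X₁ G n :=
        Ext.precompOfLinear (Ext.mk₀ S.f) R G (zero_add n)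
      have hα : Function.Injective α := by
        rw [injective_iff_map_eq_zero]
        intro x₃ hx₃
        change (Ext.mk₀ S.g).comp x₃ (zero_add n) = 0 at hx₃
        cases n with
        | zero =>
          haveI : Epi S.g := hS.epi_g
          exact Ext.precomp_mk₀_injective_of_epi G S.g
            (hx₃.trans (map_zero _).symm)
        | succ n' =>
          obtain ⟨x₁, hx₁⟩ := Ext.contravariant_sequence_exact₃ hS G x₃ hx₃
            (add_comm 1 n')
          haveI := hNv n' (Nat.ne_of_lt (Nat.lt_succ_self n'))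
          rw [← hx₁, Subsingleton.elim x₁ 0, Ext.comp_zero]
      have hβ : Function.Surjective β := by
        intro x₁
        haveI := hQv (1 + n) (by omega)
        exact Ext.contravariant_sequence_exact₁ hS G x₁ rfl
          (Subsingleton.elim _ _)
      have hαβ : Function.Exact α β := by
        intro y
        constructor
        · intro hy
          obtain ⟨x, hx⟩ := Ext.contravariant_sequence_exact₂ hS G y hy
          exact ⟨x, hx⟩
        · rintro ⟨x, rfl⟩
          change (Ext.mk₀ S.f).comp ((Ext.mk₀ S.g).comp x (zero_add n)) (zero_add n) = 0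
          rw [Ext.mk₀_comp_mk₀_assoc, S.zero, Ext.mk₀_zero, Ext.zero_comp]
      have h1 := Module.length_eq_add_of_exact α β hα hβ hαβ
      have h2 := Module.length_eq_add_of_exact N.subtype N.mkQ (Submodule.injective_subtype _)
        (Submodule.mkQ_surjective _) hex
      have h3 : Module.length R (M ⧸ N) = 1 := Module.length_eq_one R _
      have h4 : Module.length R (Ext.{u} S.X₁ G n) = Module.length R N *
          Module.length R (Ext.{u} (ModuleCat.of R (R ⧸ maximalIdeal R)) G n) := ihl
      change Module.length R (Ext.{u} S.X₂ G n) = _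
      rw [h1, h2, hQl, h4, h3]
      ring

end general

section gorenstein

variable (R : Type u) [CommRing R] [LocCoh.IsGorensteinLocalRing R] (n : ℕ)
  (hn : ringKrullDim R = n)

include hn in
lemma gor_depth_eq : LocCoh.depth R R = n := by
  haveI : LocCoh.IsCohenMacaulayLocalRing R := Groth.Agent.S0341.result R
  have hcm := LocCoh.IsCohenMacaulayLocalRing.supportDim_eq_depth (R := R)
  rw [Module.supportDim_self_eq_ringKrullDim, hn] at hcm
  exact_mod_cast hcm.symm

include hn in
lemma gor_HH_self_subsingleton_of_lt (i : ℕ) (hi : i < n) :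
    Subsingleton (HH (maximalIdeal R) (ModuleCat.of R R) i) := by
  apply HH.subsingleton_of_lt_idealDepth (I := maximalIdeal R) R i
  change (i : ℕ∞) < LocCoh.depth R R
  rw [gor_depth_eq R n hn]
  exact_mod_cast hi

include hn in
/-- over a Gorenstein local ring of dimension `n`, `Ext^i(N, R) = 0` for `i > n`, `N` finite. -/
lemma gor_ext_self_subsingleton_of_gt (N : Type u) [AddCommGroup N] [Module R N]
    [Module.Finite R N] (i : ℕ) (hi : n < i) :
    Subsingleton (Ext.{u} (ModuleCat.of R N) (ModuleCat.of R R) i) := by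
  obtain ⟨N₀, hN₀⟩ := LocCoh.IsGorensteinLocalRing.exists_hasInjectiveDimensionLT (A := R)
  haveI : Module.Finite R (ModuleCat.of R R) := inferInstanceAs (Module.Finite R R)
  exact Groth.Agent.Lib.Helper20.GorCM.subsingleton_ext_of_gt_depth (ModuleCat.of R R) n
    (gor_depth_eq R n hn) N₀
    (fun j hj => HasInjectiveDimensionLT.subsingleton (ModuleCat.of R R) N₀ j hj _) N i hi

include hn in
lemma gor_ext_residue_subsingleton (i : ℕ) (hi : i ≠ n) :
    Subsingleton (Ext.{u} (ModuleCat.of R (R ⧸ maximalIdeal R)) (ModuleCat.of R R) i) := by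
  rcases lt_or_gt_of_ne hi with h | h
  · apply subsingleton_ext_of_lt_idealDepth (maximalIdeal R) _ support_residue_subset
      (ModuleCat.of R R) i
    change (i : ℕ∞) < LocCoh.depth R R
    rw [gor_depth_eq R n hn]
    exact_mod_cast h
  · exact gor_ext_self_subsingleton_of_gt R n hn _ i h

include hn in
/-- **A Gorenstein local ring has type one.** -/
theorem gor_length_ext_residue :
    Module.length R (Ext.{u} (ModuleCat.of R (R ⧸ maximalIdeal R)) (ModuleCat.of R R) n) = 1 := by
  have hIM := maximalIdeal_smul_top_ne_top (R := R) (M := R)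
  have hdep := gor_depth_eq R n hn
  have hv := gor_ext_residue_subsingleton R n hn
  obtain ⟨rs, hlen, hmem, hreg⟩ :=
    (le_idealDepth_iff_exists_isRegular (maximalIdeal R) hIM n).1
      (by change (n : ℕ∞) ≤ LocCoh.depth R R; rw [hdep])
  subst hlen
  have hsd := Module.supportDim_add_length_eq_supportDim_of_isRegular rs hreg
  rw [Module.supportDim_self_eq_ringKrullDim, hn] at hsd
  have hsd0 : Module.supportDim R (R ⧸ Ideal.ofList rs • (⊤ : Submodule R R)) ≤ 0 :=
    withBot_le_zero_of_add_eq _ rs.length hsd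
  have hfl : IsFiniteLength R (R ⧸ Ideal.ofList rs • (⊤ : Submodule R R)) :=
    Groth.Agent.Lib.Helper9.isFiniteLength_of_supportDim_le_zero hsd0
  obtain ⟨k, hk⟩ := Groth.Agent.Lib.Helper4.StalkDual.kills_of_isFiniteLength _ hfl
  have hsupp := support_subset_of_kills (R ⧸ Ideal.ofList rs • (⊤ : Submodule R R)) k hk
  have hann : ∀ r ∈ rs, r ∈ Module.annihilator R
      (R ⧸ Ideal.ofList rs • (⊤ : Submodule R R)) := by
    intro r hr
    rw [Module.mem_annihilator]
    intro y
    obtain ⟨x, rfl⟩ := Submodule.Quotient.mk_surjective _ y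
    rw [← Submodule.Quotient.mk_smul, Submodule.Quotient.mk_eq_zero]
    exact Submodule.smul_mem_smul (Ideal.subset_span hr) Submodule.mem_top
  obtain ⟨e1⟩ := nonempty_ext_chain (R ⧸ Ideal.ofList rs • (⊤ : Submodule R R)) hsupp rs R
    hmem hann hreg
  have e2 : Ext.{u} (ModuleCat.of R (R ⧸ Ideal.ofList rs • (⊤ : Submodule R R)))
      (ModuleCat.of R (R ⧸ Ideal.ofList rs • (⊤ : Submodule R R))) 0 ≃ₗ[R]
      (R ⧸ Ideal.ofList rs • (⊤ : Submodule R R)) :=
    (Ext.linearEquiv₀ (R := R)).trans ((ModuleCat.homLinearEquiv (S := R)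
      (M := ModuleCat.of R (R ⧸ Ideal.ofList rs • (⊤ : Submodule R R)))
      (N := ModuleCat.of R (R ⧸ Ideal.ofList rs • (⊤ : Submodule R R)))).trans
      (endQuotEquiv (Ideal.ofList rs • (⊤ : Submodule R R))))
  obtain ⟨-, hlen2⟩ := ext_finiteLength_mul (ModuleCat.of R R) rs.length hv
    (R ⧸ Ideal.ofList rs • (⊤ : Submodule R R)) hfl
  have h3 : Module.length R (Ext.{u} (ModuleCat.of R (R ⧸ Ideal.ofList rs • (⊤ : Submodule R R)))
      (ModuleCat.of R R) rs.length) =
      Module.length R (R ⧸ Ideal.ofList rs • (⊤ : Submodule R R)) :=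
    (e1.symm.trans e2).length_eq
  have hne0 : Module.length R (R ⧸ Ideal.ofList rs • (⊤ : Submodule R R)) ≠ 0 := by
    rw [Ne, Module.length_eq_zero_iff, Submodule.Quotient.subsingleton_iff]
    exact fun h => hreg.top_ne_smul h.symm
  have hnetop : Module.length R (R ⧸ Ideal.ofList rs • (⊤ : Submodule R R)) ≠ ⊤ :=
    Module.length_ne_top_iff.2 hfl
  exact enat_eq_one_of_mul _ _ (h3.symm.trans hlen2) hne0 hnetop

include hn in
theorem gor_injective_HH_top :
    Module.Injective R (HH (maximalIdeal R) (ModuleCat.of R R) n) := by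
  obtain ⟨_, hb⟩ := ext_HH_top (maximalIdeal R) (R ⧸ maximalIdeal R)
    (isPowerTorsion_quotient_self (maximalIdeal R)) n R
    (fun i hi => gor_HH_self_subsingleton_of_lt R n hn i hi)
  apply injective_of_ext_one_residue _ (isPowerTorsion_HH _ _ _)
  exact hb (gor_ext_self_subsingleton_of_gt R n hn (R ⧸ maximalIdeal R) (n + 1)
    (Nat.lt_succ_self n))

include hn in
theorem gor_isSimpleModule_hom_residue_HH_top :
    IsSimpleModule R ((R ⧸ maximalIdeal R) →ₗ[R] HH (maximalIdeal R) (ModuleCat.of R R) n) := by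
  obtain ⟨⟨ea⟩, _⟩ := ext_HH_top (maximalIdeal R) (R ⧸ maximalIdeal R)
    (isPowerTorsion_quotient_self (maximalIdeal R)) n R
    (fun i hi => gor_HH_self_subsingleton_of_lt R n hn i hi)
  have e : ((R ⧸ maximalIdeal R) →ₗ[R] HH (maximalIdeal R) (ModuleCat.of R R) n) ≃ₗ[R]
      Ext.{u} (ModuleCat.of R (R ⧸ maximalIdeal R)) (ModuleCat.of R R) n :=
    (ModuleCat.homLinearEquiv (S := R) (M := ModuleCat.of R (R ⧸ maximalIdeal R))
      (N := ModuleCat.of R (HH (maximalIdeal R) (ModuleCat.of R R) n))).symm.trans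
      ((Ext.linearEquiv₀ (R := R)).symm.trans ea)
  have hl := gor_length_ext_residue R n hn
  rw [← e.length_eq] at hl
  exact Module.length_eq_one_iff.1 hl

include hn in
/-- `H^n_m(R)` is an injective hull of the residue field of a Gorenstein local ring. -/
theorem gor_exists_isInjectiveHull_H_top :
    ∃ f : ResidueField R →ₗ[R] LocCoh.H (maximalIdeal R) n R, InjHull.IsInjectiveHull f := by
  have e : LocCoh.H (maximalIdeal R) n R ≃ₗ[R] HH (maximalIdeal R) (ModuleCat.of R R) n :=
    lcEquiv (maximalIdeal R) (ModuleCat.of R R) n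
  refine Matlis.exists_isInjectiveHull_iff.2 ⟨?_, ?_, ?_⟩
  · haveI := gor_injective_HH_top R n hn
    exact Groth.Agent.Lib.Helper1.InjHullLib.injective_of_linearEquiv e.symm
  · exact isPowerTorsion_of_injective (maximalIdeal R) e.toLinearMap e.injective
      (isPowerTorsion_HH _ _ _)
  · haveI := gor_isSimpleModule_hom_residue_HH_top R n hn
    exact IsSimpleModule.congr
      (LinearEquiv.arrowCongr (Groth.Agent.Lib.Helper1.Matlis.quotEquivResidueField (R := R)).symm e)

end gorenstein

end Groth.Agent.Lib.Helper4.LC
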