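import Mathlib
import Groth.Agent.Lib.Helper4.StalkDual2
import Groth.Agent.Lib.Helper4.GorTop
import Groth.Agent.Lib.Helper20.LCNonVanish
import Groth.Agent.S0342

/-!
# Openness of the Cohen–Macaulay locus of a quotient of a finite-dimensional regular ring (helper4)

For `S = P/I` with `P` regular of finite Krull dimension, the stalk `S_q` is Cohen–Macaulay iff
exactly one local cohomology module `H^j(S_q)` is nonzero, iff (local duality over `P_Q`) the
prime `Q` lies in the support of exactly one `Ext^i_P(S, P)`.  The bad locus is a finite union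
of closed sets.
-/

set_option autoImplicit false
set_option linter.style.haveILetI false
set_option linter.unusedSectionVars false
set_option linter.unusedVariables false
set_option maxHeartbeats 800000

open CategoryTheory Limits Opposite Abelian IsLocalRing

universe u

namespace Groth.Agent.Lib.Helper4.CMOpen

open Groth.Agent.Lib.Helper4 Groth.Agent.Lib.Helper4.LC Groth.Agent.Lib.Helper4.StalkDual

section loc

variable (A : Type u) [CommRing A] [IsNoetherianRing A] [IsLocalRing A]

/-- a Noetherian local ring is Cohen–Macaulay iff its local cohomology is concentrated in a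
single degree. -/
theorem cmLocalRing_iff_HH :
    LocCoh.IsCohenMacaulayLocalRing A ↔
      ∀ j j' : ℕ, ¬ Subsingleton (HH (maximalIdeal A) (ModuleCat.of A A) j) →
        ¬ Subsingleton (HH (maximalIdeal A) (ModuleCat.of A A) j') → j = j' := by
  obtain ⟨n, hn⟩ := exists_nat_supportDim (R := A) (M := A)
  have hdle := depth_le_supportDim (R := A) (M := A)
  rw [hn] at hdle
  have hdle' : LocCoh.depth A A ≤ (n : ℕ∞) := by exact_mod_cast hdle
  obtain ⟨d, hd⟩ := ENat.ne_top_iff_exists.mp (ne_top_of_le_ne_top (ENat.coe_ne_top n) hdle')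
  have hdn : d ≤ n := by
    rw [← hd] at hdle'
    exact_mod_cast hdle'
  have hdnt : Nontrivial (HH (maximalIdeal A) (ModuleCat.of A A) d) :=
    HH.nontrivial_of_idealDepth_eq (I := maximalIdeal A) d A maximalIdeal_smul_top_ne_top
      (by unfold LocCoh.depth at hd; exact hd.symm)
  have hnnt : Nontrivial (HH (maximalIdeal A) (ModuleCat.of A A) n) :=
    Groth.Agent.Lib.Helper20.LCNonVanish.nontrivial_top n A (by rw [hn]; rfl)
  have hlow : ∀ j : ℕ, ¬ Subsingleton (HH (maximalIdeal A) (ModuleCat.of A A) j) → d ≤ j := by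
    intro j hj
    by_contra hlt
    rw [not_le] at hlt
    apply hj
    apply HH.subsingleton_of_lt_idealDepth (I := maximalIdeal A) A j
    change (j : ℕ∞) < LocCoh.depth A A
    rw [← hd]
    exact_mod_cast hlt
  have hhigh : ∀ j : ℕ, ¬ Subsingleton (HH (maximalIdeal A) (ModuleCat.of A A) j) → j ≤ n := by
    intro j hj
    by_contra hlt
    rw [not_le] at hlt
    apply hj
    apply HH.subsingleton_of_supportDim_lt (maximalIdeal A) (ModuleCat.of A A) j
    change Module.supportDim A A < _
    rw [hn]
    exact_mod_cast hlt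
  constructor
  · intro hcm j j' hj hj'
    have h1 := hcm.supportDim_eq_depth
    rw [hn, ← hd] at h1
    have hdn' : n = d := by exact_mod_cast h1
    have h2 := hlow j hj
    have h3 := hhigh j hj
    have h4 := hlow j' hj'
    have h5 := hhigh j' hj'
    omega
  · intro h
    have hdn' : d = n := h d n (not_subsingleton_iff_nontrivial.mpr hdnt)
      (not_subsingleton_iff_nontrivial.mpr hnnt)
    exact { supportDim_eq_depth := by rw [hn, ← hd, hdn'] }

end loc

section transfer

variable {P S : Type u} [CommRing P] [CommRing S] [Algebra P S] [IsNoetherianRing P]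
  [IsNoetherianRing S] (hsurj : Function.Surjective (algebraMap P S))

include hsurj in
/-- the local cohomology of `S_q` over itself and of `S_Q` over `P_Q`. -/
theorem HH_self_iff (q : Ideal S) [q.IsPrime] (j : ℕ) :
    Subsingleton (HH (maximalIdeal (Localization.AtPrime q))
      (ModuleCat.of (Localization.AtPrime q) (Localization.AtPrime q)) j) ↔
    Subsingleton (HH (maximalIdeal (Localization.AtPrime (q.comap (algebraMap P S))))
      (ModuleCat.of (Localization.AtPrime (q.comap (algebraMap P S)))
        (LocalizedModule (q.comap (algebraMap P S)).primeCompl S)) j) := by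
  rw [HH_localization_comap_iff hsurj S q j]

end transfer

section reg

variable (P : Type u) [CommRing P] [IsRegularRing P]
  (N : Type u) [AddCommGroup N] [Module P N] [Module.Finite P N]

theorem not_mem_support_iff (Q : PrimeSpectrum P) (i : ℕ) :
    Q ∉ Module.support P (Ext.{u} (ModuleCat.of P N) (ModuleCat.of P P) i) ↔
      Subsingleton (Ext.{u}
        (ModuleCat.of (Localization.AtPrime Q.asIdeal) (LocalizedModule Q.asIdeal.primeCompl N))
        (ModuleCat.of (Localization.AtPrime Q.asIdeal) (Localization.AtPrime Q.asIdeal)) i) := by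
  rw [subsingleton_ext_localization_iff Q.asIdeal.primeCompl N i, Module.notMem_support_iff']
  constructor
  · intro h e
    obtain ⟨r, hr, hre⟩ := h e
    exact ⟨⟨r, hr⟩, hre⟩
  · intro h e
    obtain ⟨s, hs⟩ := h e
    exact ⟨s, s.2, hs⟩

/-- nonvanishing of the local cohomology of the stalk in terms of supports of `Ext`. -/
theorem not_subsingleton_HH_iff (Q : PrimeSpectrum P) (r : ℕ) (hr : Q.asIdeal.height = r)
    (j : ℕ) :
    ¬ Subsingleton (HH (maximalIdeal (Localization.AtPrime Q.asIdeal))
      (ModuleCat.of (Localization.AtPrime Q.asIdeal)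
        (LocalizedModule Q.asIdeal.primeCompl N)) j) ↔
      j ≤ r ∧ Q ∈ Module.support P (Ext.{u} (ModuleCat.of P N) (ModuleCat.of P P) (r - j)) := by
  have hdim := ringKrullDim_atPrime_eq P Q.asIdeal r hr
  by_cases hj : j ≤ r
  · rw [regular_vanishing_iff (Localization.AtPrime Q.asIdeal) r hdim
      (LocalizedModule Q.asIdeal.primeCompl N) j (r - j) (by omega),
      ← not_mem_support_iff P N Q (r - j), not_not]
    exact ⟨fun h => ⟨hj, h⟩, fun h => h.2⟩
  · constructor
    · intro h
      exfalso
      apply h
      refine HH.subsingleton_of_ringKrullDim_lt _ _ j ?_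
      rw [hdim]
      exact_mod_cast (not_le.1 hj)
    · intro h
      exact absurd h.1 hj

theorem le_height_of_mem_support (Q : PrimeSpectrum P) (r : ℕ) (hr : Q.asIdeal.height = r)
    (i : ℕ) (hi : Q ∈ Module.support P (Ext.{u} (ModuleCat.of P N) (ModuleCat.of P P) i)) :
    i ≤ r := by
  by_contra hlt
  rw [not_le] at hlt
  have hdim := ringKrullDim_atPrime_eq P Q.asIdeal r hr
  haveI : LocCoh.IsGorensteinLocalRing (Localization.AtPrime Q.asIdeal) :=
    Groth.Agent.S0342.result _
  have h := gor_ext_self_subsingleton_of_gt (Localization.AtPrime Q.asIdeal) r hdim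
    (LocalizedModule Q.asIdeal.primeCompl N) i hlt
  exact ((not_mem_support_iff P N Q i).2 h) hi

end reg

section main

variable (P : Type u) [CommRing P] [IsRegularRing P] (n : ℕ)
  (S : Type u) [CommRing S] [Algebra P S]

/-- the non-Cohen–Macaulay locus, in `Spec P`. -/
def bad : Set (PrimeSpectrum P) :=
  ⋃ x ∈ ((Finset.range (n + 1) ×ˢ Finset.range (n + 1)).filter
      (fun x : ℕ × ℕ => x.1 ≠ x.2)),
    Module.support P (Ext.{u} (ModuleCat.of P S) (ModuleCat.of P P) x.1) ∩
    Module.support P (Ext.{u} (ModuleCat.of P S) (ModuleCat.of P P) x.2)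

lemma mem_bad_iff (Q : PrimeSpectrum P) :
    Q ∈ bad P n S ↔ ∃ i i' : ℕ, i ≤ n ∧ i' ≤ n ∧ i ≠ i' ∧
      Q ∈ Module.support P (Ext.{u} (ModuleCat.of P S) (ModuleCat.of P P) i) ∧
      Q ∈ Module.support P (Ext.{u} (ModuleCat.of P S) (ModuleCat.of P P) i') := by
  unfold bad
  rw [Set.mem_iUnion₂]
  constructor
  · rintro ⟨⟨i, i'⟩, hx, h1, h2⟩
    rw [Finset.mem_filter, Finset.mem_product, Finset.mem_range, Finset.mem_range] at hx
    exact ⟨i, i', by omega, by omega, hx.2, h1, h2⟩
  · rintro ⟨i, i', hi, hi', hne, h1, h2⟩
    refine ⟨(i, i'), ?_, h1, h2⟩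
    rw [Finset.mem_filter, Finset.mem_product, Finset.mem_range, Finset.mem_range]
    exact ⟨⟨by omega, by omega⟩, hne⟩

lemma isClosed_bad [Module.Finite P S] : IsClosed (bad P n S) := by
  haveI : Module.Finite P (ModuleCat.of P S) := inferInstanceAs (Module.Finite P S)
  haveI : Module.Finite P (ModuleCat.of P P) := inferInstanceAs (Module.Finite P P)
  unfold bad
  refine isClosed_biUnion_finset (fun x _ => ?_)
  exact (Module.isClosed_support).inter Module.isClosed_support

variable (hn : ringKrullDim P ≤ n) (hsurj : Function.Surjective (algebraMap P S))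

include hn hsurj in
theorem cm_iff_not_mem_bad (q : PrimeSpectrum S) :
    LocCoh.IsCohenMacaulayLocalRing (Localization.AtPrime q.asIdeal) ↔
      PrimeSpectrum.comap (algebraMap P S) q ∉ bad P n S := by
  haveI : IsNoetherianRing S := isNoetherianRing_of_surjective P S (algebraMap P S) hsurj
  haveI : Module.Finite P S := Module.Finite.of_surjective (Algebra.linearMap P S) hsurj
  obtain ⟨r, hr⟩ := exists_height_eq P (PrimeSpectrum.comap (algebraMap P S) q).asIdeal
  have hrn : r ≤ n := by
    have h1 : ((PrimeSpectrum.comap (algebraMap P S) q).asIdeal.height : WithBot ℕ∞) ≤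
        ringKrullDim P :=
      Ideal.height_le_ringKrullDim_of_ne_top (PrimeSpectrum.comap (algebraMap P S) q).2.ne_top
    rw [hr] at h1
    have h2 := h1.trans hn
    exact_mod_cast h2
  have key : ∀ j : ℕ, ¬ Subsingleton (HH (maximalIdeal (Localization.AtPrime q.asIdeal))
      (ModuleCat.of (Localization.AtPrime q.asIdeal) (Localization.AtPrime q.asIdeal)) j) ↔
      j ≤ r ∧ PrimeSpectrum.comap (algebraMap P S) q ∈
        Module.support P (Ext.{u} (ModuleCat.of P S) (ModuleCat.of P P) (r - j)) := by
    intro j
    rw [HH_self_iff hsurj q.asIdeal j]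
    exact not_subsingleton_HH_iff P S (PrimeSpectrum.comap (algebraMap P S) q) r hr j
  rw [cmLocalRing_iff_HH, mem_bad_iff]
  constructor
  · rintro h ⟨i, i', hi, hi', hne, h1, h2⟩
    have hir := le_height_of_mem_support P S _ r hr i h1
    have hir' := le_height_of_mem_support P S _ r hr i' h2
    have e1 : r - (r - i) = i := by omega
    have e2 : r - (r - i') = i' := by omega
    have h3 := h (r - i) (r - i') ((key _).2 ⟨by omega, by rw [e1]; exact h1⟩)
      ((key _).2 ⟨by omega, by rw [e2]; exact h2⟩)
    apply hne
    omega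
  · intro hbad j j' hj hj'
    obtain ⟨hjr, h1⟩ := (key j).1 hj
    obtain ⟨hjr', h2⟩ := (key j').1 hj'
    by_contra hne
    apply hbad
    exact ⟨r - j, r - j', by omega, by omega, by omega, h1, h2⟩

include hn hsurj in
/-- **The Cohen–Macaulay locus of a quotient of a finite-dimensional regular ring is open.** -/
theorem isOpen_cmLocus :
    IsOpen {q : PrimeSpectrum S |
      LocCoh.IsCohenMacaulayLocalRing (Localization.AtPrime q.asIdeal)} := by
  haveI : Module.Finite P S := Module.Finite.of_surjective (Algebra.linearMap P S) hsurj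
  have h : {q : PrimeSpectrum S |
      LocCoh.IsCohenMacaulayLocalRing (Localization.AtPrime q.asIdeal)} =
      (PrimeSpectrum.comap (algebraMap P S)) ⁻¹' (bad P n S)ᶜ := by
    ext q
    exact cm_iff_not_mem_bad P n S hn hsurj q
  rw [h]
  exact (isClosed_bad P n S).isOpen_compl.preimage (PrimeSpectrum.continuous_comap _)

end main

end Groth.Agent.Lib.Helper4.CMOpen
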