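import Mathlib
import Groth.Agent.Lib.Helper4.FlatFibre
import Groth.Agent.Lib.Helper22.CMGlue
import Groth.Agent.Lib.Helper28.TakCancel

/-!
# Cohen–Macaulay homomorphisms of local rings (helper4)

* `cm_iff_of_flat`: for a flat local homomorphism `A → B` of Noetherian local rings,
  `B` is CM iff `A` and `B/𝔪_A B` are.
* `cm_quot_iff`, `cm_quot_comp_iff`: the relative version for `A → B → C` with only the fibre
  rings Noetherian.
-/

set_option autoImplicit false
set_option linter.style.haveILetI false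
set_option linter.unusedSectionVars false
set_option linter.unusedVariables false
set_option maxHeartbeats 800000

universe u

open IsLocalRing

namespace Groth.Agent.Lib.Helper4.CMHom

open Groth.Agent.Lib.Helper4 Groth.Agent.Lib.Helper4.FlatRing Groth.Agent.Lib.Helper4.FlatFibre
open Groth.Agent.Lib.Helper22

lemma enat_add_eq_iff (d₁ d₂ n₁ n₂ : ℕ∞) (h₁ : d₁ ≤ n₁) (h₂ : d₂ ≤ n₂) (hn₁ : n₁ ≠ ⊤)
    (hn₂ : n₂ ≠ ⊤) : n₁ + n₂ = d₁ + d₂ ↔ n₁ = d₁ ∧ n₂ = d₂ := by
  lift n₁ to ℕ using hn₁
  lift n₂ to ℕ using hn₂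
  lift d₁ to ℕ using ne_top_of_le_ne_top (ENat.coe_ne_top _) h₁
  lift d₂ to ℕ using ne_top_of_le_ne_top (ENat.coe_ne_top _) h₂
  norm_cast at h₁ h₂ ⊢
  omega

lemma height_maximalIdeal_ne_top (X : Type u) [CommRing X] [IsLocalRing X] [IsNoetherianRing X] :
    (maximalIdeal X).height ≠ ⊤ :=
  Ideal.height_ne_top (IsLocalRing.maximalIdeal.isMaximal X).ne_top

section star

variable {A B : Type u} [CommRing A] [CommRing B] [IsLocalRing A] [IsLocalRing B]
  [IsNoetherianRing A] [IsNoetherianRing B] [Algebra A B] [IsLocalHom (algebraMap A B)]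
  [Module.Flat A B]

/-- for a flat local homomorphism of Noetherian local rings, the target is Cohen–Macaulay iff
the source and the closed fibre are. -/
theorem cm_iff_of_flat (I : Ideal B) (hI : I = (maximalIdeal A).map (algebraMap A B)) :
    LocCoh.IsCohenMacaulayLocalRing B ↔
      LocCoh.IsCohenMacaulayLocalRing A ∧ LocCoh.IsCohenMacaulayLocalRing (B ⧸ I) := by
  have hIle : I ≤ maximalIdeal B := by
    rw [hI]
    exact IsLocalRing.map_maximalIdeal_le (algebraMap A B)
  have hIne : I ≠ ⊤ := ne_top_of_le_ne_top (IsLocalRing.maximalIdeal.isMaximal B).ne_top hIle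
  haveI : Nontrivial (B ⧸ I) := Ideal.Quotient.nontrivial_iff.mpr hIne
  haveI : IsLocalRing (B ⧸ I) :=
    IsLocalRing.of_surjective' (Ideal.Quotient.mk I) Ideal.Quotient.mk_surjective
  have hd := depth_eq_add_of_eq (A := A) I hI
  have hh := height_eq_add_of_eq (A := A) I hI
  have key := enat_add_eq_iff (LocCoh.depth A A) (LocCoh.depth (B ⧸ I) (B ⧸ I))
    (maximalIdeal A).height (maximalIdeal (B ⧸ I)).height depth_self_le_height
    depth_self_le_height (height_maximalIdeal_ne_top A) (height_maximalIdeal_ne_top (B ⧸ I))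
  rw [isCohenMacaulayLocalRing_iff_closedCM B, isCohenMacaulayLocalRing_iff_closedCM A,
    isCohenMacaulayLocalRing_iff_closedCM (B ⧸ I)]
  constructor
  · intro h
    have h' : (maximalIdeal B).height = LocCoh.depth B B := h
    rw [hh, hd] at h'
    obtain ⟨h1, h2⟩ := key.mp h'
    exact ⟨h1, h2⟩
  · rintro ⟨h1, h2⟩
    have h1' : (maximalIdeal A).height = LocCoh.depth A A := h1
    have h2' : (maximalIdeal (B ⧸ I)).height = LocCoh.depth (B ⧸ I) (B ⧸ I) := h2
    intro _
    rw [hh, hd]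
    exact key.mpr ⟨h1', h2'⟩

end star

section trans

variable {B' C' : Type u} [CommRing B'] [CommRing C'] [IsLocalRing B'] [IsLocalRing C']
  [Algebra B' C'] [IsLocalHom (algebraMap B' C')] [Module.Flat B' C']

/-- relative version: only the quotients are assumed Noetherian. -/
theorem cm_quot_iff (I : Ideal B') (hIne : I ≠ ⊤)
    [IsNoetherianRing (B' ⧸ I)] [IsNoetherianRing (C' ⧸ I.map (algebraMap B' C'))]
    [IsNoetherianRing (C' ⧸ (maximalIdeal B').map (algebraMap B' C'))] :
    LocCoh.IsCohenMacaulayLocalRing (C' ⧸ I.map (algebraMap B' C')) ↔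
      LocCoh.IsCohenMacaulayLocalRing (B' ⧸ I) ∧
      LocCoh.IsCohenMacaulayLocalRing (C' ⧸ (maximalIdeal B').map (algebraMap B' C')) := by
  have hIle : I ≤ maximalIdeal B' := IsLocalRing.le_maximalIdeal hIne
  haveI : Nontrivial (B' ⧸ I) := Ideal.Quotient.nontrivial_iff.mpr hIne
  haveI : IsLocalRing (B' ⧸ I) :=
    IsLocalRing.of_surjective' (Ideal.Quotient.mk I) Ideal.Quotient.mk_surjective
  have hKle : (maximalIdeal B').map (algebraMap B' C') ≤ maximalIdeal C' :=
    IsLocalRing.map_maximalIdeal_le _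
  have hJle : I.map (algebraMap B' C') ≤ maximalIdeal C' := (Ideal.map_mono hIle).trans hKle
  haveI : Nontrivial (C' ⧸ I.map (algebraMap B' C')) :=
    Ideal.Quotient.nontrivial_iff.mpr
      (ne_top_of_le_ne_top (IsLocalRing.maximalIdeal.isMaximal C').ne_top hJle)
  haveI : IsLocalRing (C' ⧸ I.map (algebraMap B' C')) :=
    IsLocalRing.of_surjective' (Ideal.Quotient.mk _) Ideal.Quotient.mk_surjective
  haveI : Nontrivial (C' ⧸ (maximalIdeal B').map (algebraMap B' C')) :=
    Ideal.Quotient.nontrivial_iff.mpr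
      (ne_top_of_le_ne_top (IsLocalRing.maximalIdeal.isMaximal C').ne_top hKle)
  haveI : IsLocalRing (C' ⧸ (maximalIdeal B').map (algebraMap B' C')) :=
    IsLocalRing.of_surjective' (Ideal.Quotient.mk _) Ideal.Quotient.mk_surjective
  haveI hflat : Module.Flat (B' ⧸ I) (C' ⧸ I.map (algebraMap B' C')) :=
    Module.Flat.of_linearEquiv
      (Algebra.TensorProduct.quotIdealMapEquivQuotTensor C' I).toLinearEquiv
  have hcomp : (algebraMap (B' ⧸ I) (C' ⧸ I.map (algebraMap B' C'))).comp (Ideal.Quotient.mk I) =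
      (Ideal.Quotient.mk (I.map (algebraMap B' C'))).comp (algebraMap B' C') :=
    RingHom.ext fun x => rfl
  have hmap : (maximalIdeal (B' ⧸ I)).map (algebraMap (B' ⧸ I) (C' ⧸ I.map (algebraMap B' C'))) =
      ((maximalIdeal B').map (algebraMap B' C')).map
        (Ideal.Quotient.mk (I.map (algebraMap B' C'))) := by
    rw [← IsLocalRing.map_maximalIdeal_of_surjective (Ideal.Quotient.mk I)
      Ideal.Quotient.mk_surjective, Ideal.map_map, Ideal.map_map, hcomp]
  haveI hloc : IsLocalHom (algebraMap (B' ⧸ I) (C' ⧸ I.map (algebraMap B' C'))) := by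
    refine ((IsLocalRing.local_hom_TFAE _).out 0 2 rfl rfl).mpr ?_
    rw [hmap, ← IsLocalRing.map_maximalIdeal_of_surjective
      (Ideal.Quotient.mk (I.map (algebraMap B' C'))) Ideal.Quotient.mk_surjective]
    exact Ideal.map_mono (IsLocalRing.map_maximalIdeal_le (algebraMap B' C'))
  have e : ((C' ⧸ I.map (algebraMap B' C')) ⧸ (maximalIdeal (B' ⧸ I)).map
      (algebraMap (B' ⧸ I) (C' ⧸ I.map (algebraMap B' C')))) ≃+*
      (C' ⧸ (maximalIdeal B').map (algebraMap B' C')) :=
    (Ideal.quotEquivOfEq hmap).trans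
      (DoubleQuot.quotQuotEquivQuotOfLE (Ideal.map_mono hIle))
  rw [cm_iff_of_flat (A := B' ⧸ I) (B := C' ⧸ I.map (algebraMap B' C')) _ rfl]
  constructor
  · rintro ⟨h1, h2⟩
    exact ⟨h1, by haveI := h2; exact CMG.isCMLocalRing_of_ringEquiv e⟩
  · rintro ⟨h1, h2⟩
    exact ⟨h1, by haveI := h2; exact CMG.isCMLocalRing_of_ringEquiv e.symm⟩

end trans

section ringHom

variable {A B C : Type u} [CommRing A] [CommRing B] [CommRing C]
  [IsLocalRing A] [IsLocalRing B] [IsLocalRing C]

/-- ring-hom form of `cm_quot_iff`. -/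
theorem cm_quot_comp_iff (φ : A →+* B) (ψ : B →+* C) [IsLocalHom φ] [IsLocalHom ψ]
    (hψ : ψ.Flat)
    (hNB : IsNoetherianRing (B ⧸ (maximalIdeal A).map φ))
    (hNC : IsNoetherianRing (C ⧸ (maximalIdeal A).map (ψ.comp φ)))
    (hNF : IsNoetherianRing (C ⧸ (maximalIdeal B).map ψ)) :
    LocCoh.IsCohenMacaulayLocalRing (C ⧸ (maximalIdeal A).map (ψ.comp φ)) ↔
      LocCoh.IsCohenMacaulayLocalRing (B ⧸ (maximalIdeal A).map φ) ∧
      LocCoh.IsCohenMacaulayLocalRing (C ⧸ (maximalIdeal B).map ψ) := by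
  letI : Algebra B C := ψ.toAlgebra
  haveI : IsLocalHom (algebraMap B C) := ‹IsLocalHom ψ›
  haveI : Module.Flat B C := hψ
  have hJ : (maximalIdeal A).map (ψ.comp φ) =
      ((maximalIdeal A).map φ).map (algebraMap B C) := (Ideal.map_map φ ψ).symm
  have hIne : (maximalIdeal A).map φ ≠ ⊤ :=
    ne_top_of_le_ne_top (IsLocalRing.maximalIdeal.isMaximal B).ne_top
      (IsLocalRing.map_maximalIdeal_le φ)
  haveI : IsNoetherianRing (C ⧸ ((maximalIdeal A).map φ).map (algebraMap B C)) :=
    isNoetherianRing_of_ringEquiv _ (Ideal.quotEquivOfEq hJ)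
  haveI : IsNoetherianRing (C ⧸ (maximalIdeal B).map (algebraMap B C)) := hNF
  have key := cm_quot_iff (B' := B) (C' := C) ((maximalIdeal A).map φ) hIne
  refine Iff.trans ?_ key
  constructor
  · intro h
    haveI := h
    exact CMG.isCMLocalRing_of_ringEquiv (Ideal.quotEquivOfEq hJ)
  · intro h
    haveI := h
    exact CMG.isCMLocalRing_of_ringEquiv (Ideal.quotEquivOfEq hJ.symm)

/-- flatness of the first map from flatness of the composite and flat-locality of the second. -/
theorem flat_of_comp_of_flat (φ : A →+* B) (ψ : B →+* C) [IsLocalHom ψ] (hψ : ψ.Flat)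
    (hc : (ψ.comp φ).Flat) : φ.Flat := by
  letI : Algebra A B := φ.toAlgebra
  letI : Algebra B C := ψ.toAlgebra
  letI : Algebra A C := (ψ.comp φ).toAlgebra
  haveI : IsScalarTower A B C := IsScalarTower.of_algebraMap_eq (fun _ => rfl)
  haveI : Module.Flat B C := hψ
  haveI : Module.Flat A C := hc
  haveI : IsLocalHom (algebraMap B C) := ‹IsLocalHom ψ›
  haveI : Module.FaithfullyFlat B C := Module.FaithfullyFlat.of_flat_of_isLocalHom
  exact Groth.Agent.Lib.Helper28.TakCancel.flat_of_flat_of_faithfullyFlat A B C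

end ringHom

end Groth.Agent.Lib.Helper4.CMHom
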