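import Mathlib
import Groth.Prelude.Def_MoreMor
import Groth.Agent.Lib.Helper4.CMHom
import Groth.Agent.Lib.Helper6.FiberStalkIso

/-!
# Cohen–Macaulay morphisms at a point, in terms of stalk maps (helper4)
-/

set_option autoImplicit false
set_option linter.style.haveILetI false
set_option linter.unusedSectionVars false
set_option linter.unusedVariables false
set_option maxHeartbeats 800000

universe u

open AlgebraicGeometry CategoryTheory IsLocalRing

namespace Groth.Agent.Lib.Helper4.CMHomSch

open Groth.Agent.Lib.Helper6 Groth.Agent.Lib.Helper22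

variable {X Y : Scheme.{u}} (f : X ⟶ Y) (x : X)

/-- `IsCMAt` in terms of the stalk map. -/
theorem isCMAt_iff : MoreMor.IsCMAt f x ↔ (f.stalkMap x).hom.Flat ∧
    LocCoh.IsCohenMacaulayLocalRing (X.presheaf.stalk x ⧸
      (maximalIdeal (Y.presheaf.stalk (f x))).map (f.stalkMap x).hom) := by
  unfold MoreMor.IsCMAt
  refine and_congr Iff.rfl ?_
  constructor
  · intro h
    haveI := h
    exact CMG.isCMLocalRing_of_ringEquiv (fiberStalkEquiv f x)
  · intro h
    haveI : LocCoh.IsCohenMacaulayLocalRing (X.presheaf.stalk x ⧸ fiberIdeal f x) := h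
    exact CMG.isCMLocalRing_of_ringEquiv (fiberStalkEquiv f x).symm

theorem isNoetherianRing_quot_of_fiber (hN : IsLocallyNoetherian (f.fiber (f x))) :
    IsNoetherianRing (X.presheaf.stalk x ⧸
      (maximalIdeal (Y.presheaf.stalk (f x))).map (f.stalkMap x).hom) := by
  haveI := hN
  exact isNoetherianRing_of_ringEquiv _ (fiberStalkEquiv f x)

theorem stalkMap_comp_hom {Z : Scheme.{u}} (g : Y ⟶ Z) :
    ((f ≫ g).stalkMap x).hom = (f.stalkMap x).hom.comp (g.stalkMap (f x)).hom := by
  rw [Scheme.Hom.stalkMap_comp]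
  rfl

end Groth.Agent.Lib.Helper4.CMHomSch
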