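import Mathlib
import Groth.Agent.Lib.Helper4.LocLoc
import Groth.Agent.Lib.Helper4.Sk
import Groth.Agent.Lib.Helper28.DepthLoc

/-!
# Dimension and depth under restriction of scalars along `A → B` for a `B`-module finite over `A`
(helper4)
-/

set_option autoImplicit false
set_option linter.style.haveILetI false
set_option linter.unusedSectionVars false
set_option linter.unusedVariables false
set_option maxHeartbeats 800000

universe u

open RingTheory.Sequence IsLocalRing

namespace Groth.Agent.Lib.Helper4.FinRes

open Groth.Agent.Lib.Helper4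

section height

variable {R : Type u} [CommRing R] {M : Type u} [AddCommGroup M] [Module R M]

/-- `dim M_p` is the height of `p` in the poset `Supp M`. -/
theorem supportDim_localizedModule_eq_height (p : Ideal R) [p.IsPrime]
    (hp : (⟨p, inferInstance⟩ : PrimeSpectrum R) ∈ Module.support R M) :
    Module.supportDim (Localization.AtPrime p) (LocalizedModule p.primeCompl M) =
      ((Order.height (⟨⟨p, inferInstance⟩, hp⟩ : Module.support R M) : ℕ∞) : WithBot ℕ∞) := by
  rw [Order.height_eq_krullDim_Iic, Module.supportDim]
  have hmax : Ideal.comap (algebraMap R (Localization.AtPrime p))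
      (maximalIdeal (Localization.AtPrime p)) = p := Localization.AtPrime.under_maximalIdeal
  apply le_antisymm
  · refine Order.krullDim_le_of_strictMono
      (fun c => ⟨⟨PrimeSpectrum.comap (algebraMap R (Localization.AtPrime p)) c.1,
        comap_mem_support_of_mem_support_localizedModule p c.1 c.2⟩, ?_⟩) ?_
    · have h1 : c.1.asIdeal ≤ maximalIdeal (Localization.AtPrime p) :=
        IsLocalRing.le_maximalIdeal c.1.2.ne_top
      have h2 := Ideal.comap_mono (f := algebraMap R (Localization.AtPrime p)) h1
      rw [hmax] at h2
      exact h2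
    · intro c c' h
      have hle : c.1.asIdeal ≤ c'.1.asIdeal := (show c.1 ≤ c'.1 from le_of_lt h)
      have hne : c.1 ≠ c'.1 := fun e => (ne_of_lt h) (Subtype.ext e)
      show PrimeSpectrum.comap (algebraMap R (Localization.AtPrime p)) c.1 <
        PrimeSpectrum.comap (algebraMap R (Localization.AtPrime p)) c'.1
      refine lt_of_le_of_ne (Ideal.comap_mono hle) (fun e => hne ?_)
      exact PrimeSpectrum.localization_comap_injective (Localization.AtPrime p) p.primeCompl e
  · have hdisj : ∀ x : Set.Iic (⟨⟨p, inferInstance⟩, hp⟩ : Module.support R M),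
        Disjoint (p.primeCompl : Set R) (x.1.1.asIdeal : Set R) := fun x =>
      Set.disjoint_left.mpr fun a ha hax => ha ((show x.1.1.asIdeal ≤ p from x.2) hax)
    have hcm : ∀ x : Set.Iic (⟨⟨p, inferInstance⟩, hp⟩ : Module.support R M),
        Ideal.comap (algebraMap R (Localization.AtPrime p))
          (x.1.1.asIdeal.map (algebraMap R (Localization.AtPrime p))) = x.1.1.asIdeal := fun x =>
      IsLocalization.under_map_of_isPrime_disjoint p.primeCompl _ x.1.1.2 (hdisj x)
    let g : Set.Iic (⟨⟨p, inferInstance⟩, hp⟩ : Module.support R M) →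
        Module.support (Localization.AtPrime p) (LocalizedModule p.primeCompl M) := fun x =>
      ⟨⟨x.1.1.asIdeal.map (algebraMap R (Localization.AtPrime p)),
        IsLocalization.isPrime_of_isPrime_disjoint p.primeCompl _ _ x.1.1.2 (hdisj x)⟩,
        mem_support_localizedModule_of_comap_mem p _ (by
          have : PrimeSpectrum.comap (algebraMap R (Localization.AtPrime p))
              ⟨x.1.1.asIdeal.map (algebraMap R (Localization.AtPrime p)),
                IsLocalization.isPrime_of_isPrime_disjoint p.primeCompl _ _ x.1.1.2 (hdisj x)⟩ =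
              x.1.1 := PrimeSpectrum.ext (hcm x)
          rw [this]
          exact x.1.2)⟩
    refine Order.krullDim_le_of_strictMono g ?_
    intro x y h
    have hle : x.1.1.asIdeal ≤ y.1.1.asIdeal := (show x.1.1 ≤ y.1.1 from le_of_lt h)
    have hne : x ≠ y := ne_of_lt h
    show (g x).1 < (g y).1
    refine lt_of_le_of_ne (Ideal.map_mono hle) (fun e => hne ?_)
    have e' : (g x).1.asIdeal = (g y).1.asIdeal := congrArg PrimeSpectrum.asIdeal e
    have e'' : x.1.1.asIdeal = y.1.1.asIdeal := by
      rw [← hcm x, ← hcm y]
      exact congrArg _ e'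
    exact Subtype.ext (Subtype.ext (PrimeSpectrum.ext e''))

end height

section integral

variable {A B : Type u} [CommRing A] [CommRing B] [Algebra A B] [IsNoetherianRing A]
  (M : Type u) [AddCommGroup M] [Module B M] [Module A M] [IsScalarTower A B M]
  [Module.Finite A M]

/-- Cayley–Hamilton: every `b : B` satisfies a monic polynomial over `A` modulo `Ann_B M`. -/
theorem exists_monic_aeval_mem_annihilator (b : B) :
    ∃ p : Polynomial A, p.Monic ∧ Polynomial.aeval b p ∈ Module.annihilator B M := by
  let φ : B →ₐ[A] Module.End A M := Algebra.lsmul A A M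
  obtain ⟨p, hpm, hp⟩ := IsIntegral.of_finite A (φ b)
  refine ⟨p, hpm, ?_⟩
  have h1 : Polynomial.aeval (φ b) p = 0 := by rw [Polynomial.aeval_def]; exact hp
  rw [Polynomial.aeval_algHom_apply] at h1
  rw [Module.mem_annihilator]
  intro m
  have := LinearMap.congr_fun h1 m
  simpa [φ] using this

theorem isIntegral_quotient_annihilator :
    Algebra.IsIntegral A (B ⧸ Module.annihilator B M) := by
  refine ⟨fun x => ?_⟩
  obtain ⟨b, rfl⟩ := Ideal.Quotient.mk_surjective x
  obtain ⟨p, hpm, hp⟩ := exists_monic_aeval_mem_annihilator (A := A) M b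
  refine ⟨p, hpm, ?_⟩
  have h1 := Polynomial.aeval_algHom_apply (Ideal.Quotient.mkₐ A (Module.annihilator B M)) b p
  rw [← Polynomial.aeval_def]
  exact h1.trans (Ideal.Quotient.eq_zero_iff_mem.mpr hp)

theorem annihilator_comap :
    (Module.annihilator B M).comap (algebraMap A B) = Module.annihilator A M := by
  ext a
  simp only [Ideal.mem_comap, Module.mem_annihilator, algebraMap_smul]

theorem comap_mem_support (y : PrimeSpectrum B) (hy : y ∈ Module.support B M) :
    PrimeSpectrum.comap (algebraMap A B) y ∈ Module.support A M := by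
  haveI : Module.Finite B M := Module.Finite.of_restrictScalars_finite A B M
  rw [Module.mem_support_iff_of_finite] at hy ⊢
  rw [← annihilator_comap (A := A) (B := B) M]
  exact Ideal.comap_mono hy

/-- lying over and going up modulo the annihilator. -/
theorem exists_prime_over (x : Ideal A) [x.IsPrime] (J : Ideal B)
    (hIJ : Module.annihilator B M ≤ J) (hJx : J.comap (algebraMap A B) ≤ x) :
    ∃ y : Ideal B, y.IsPrime ∧ J ≤ y ∧ y.comap (algebraMap A B) = x := by
  haveI := isIntegral_quotient_annihilator (A := A) (B := B) M
  have hcomp : algebraMap A (B ⧸ Module.annihilator B M) =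
      (Ideal.Quotient.mk (Module.annihilator B M)).comp (algebraMap A B) := rfl
  have h1 : (J.map (Ideal.Quotient.mk (Module.annihilator B M))).comap
      (algebraMap A (B ⧸ Module.annihilator B M)) ≤ x := by
    rw [hcomp, ← Ideal.comap_comap,
      Ideal.comap_map_of_surjective _ Ideal.Quotient.mk_surjective, ← RingHom.ker_eq_comap_bot,
      Ideal.mk_ker, sup_eq_left.mpr hIJ]
    exact hJx
  obtain ⟨Q, hQJ, hQ, hQx⟩ := Ideal.exists_ideal_over_prime_of_isIntegral x
    (J.map (Ideal.Quotient.mk (Module.annihilator B M))) h1
  refine ⟨Q.comap (Ideal.Quotient.mk (Module.annihilator B M)), Ideal.comap_isPrime _ _, ?_, ?_⟩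
  · exact Ideal.map_le_iff_le_comap.mp hQJ
  · rw [Ideal.comap_comap, ← hcomp]
    exact hQx

/-- incomparability modulo the annihilator. -/
theorem comap_lt_comap {y y' : Ideal B} [y.IsPrime] (hI : Module.annihilator B M ≤ y)
    (hlt : y < y') : y.comap (algebraMap A B) < y'.comap (algebraMap A B) := by
  obtain ⟨r, hr', hr⟩ := SetLike.exists_of_lt hlt
  obtain ⟨p, hpm, hp⟩ := exists_monic_aeval_mem_annihilator (A := A) M r
  refine Ideal.comap_lt_comap_of_root_mem_sdiff hlt.le ⟨hr', hr⟩ (p := p) ?_ ?_
  · exact (hpm.map _).ne_zero
  · rw [← Polynomial.aeval_def]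
    exact hI hp

/-- going up for heights in the supports. -/
theorem exists_over_height_ge [IsNoetherianRing B] (n : ℕ) :
    ∀ (x : Module.support A M), (n : ℕ∞) ≤ Order.height x →
      ∃ y : Module.support B M, PrimeSpectrum.comap (algebraMap A B) y.1 = x.1 ∧
        (n : ℕ∞) ≤ Order.height y := by
  haveI : Module.Finite B M := Module.Finite.of_restrictScalars_finite A B M
  induction n with
  | zero =>
    intro x _
    have hx := x.2
    rw [Module.mem_support_iff_of_finite, ← annihilator_comap (A := A) (B := B) M] at hx
    obtain ⟨y, hyp, hIy, hyx⟩ := exists_prime_over M x.1.asIdeal (Module.annihilator B M)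
      le_rfl hx
    refine ⟨⟨⟨y, hyp⟩, ?_⟩, PrimeSpectrum.ext hyx, by simp⟩
    rw [Module.mem_support_iff_of_finite]
    exact hIy
  | succ n ih =>
    intro x hx
    obtain ⟨l, hlast, hlen⟩ := Order.exists_series_of_le_height x (n := n + 1)
      (by exact_mod_cast hx)
    have hne : l.length ≠ 0 := by omega
    have hlt : l.eraseLast.last < x := by
      have := RelSeries.eraseLast_last_rel_last l hne
      rw [hlast] at this
      exact this
    have hn : (n : ℕ∞) ≤ Order.height l.eraseLast.last := by
      have := Order.length_le_height_last (p := l.eraseLast)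
      have hl : l.eraseLast.length = n := by rw [RelSeries.eraseLast_length, hlen]; rfl
      rw [hl] at this
      exact this
    obtain ⟨y', hy'x', hny'⟩ := ih l.eraseLast.last hn
    have hIy' : Module.annihilator B M ≤ y'.1.asIdeal :=
      (Module.mem_support_iff_of_finite).mp y'.2
    have hcomap : y'.1.asIdeal.comap (algebraMap A B) ≤ x.1.asIdeal := by
      have h1 : (PrimeSpectrum.comap (algebraMap A B) y'.1).asIdeal =
          l.eraseLast.last.1.asIdeal := congrArg PrimeSpectrum.asIdeal hy'x'
      rw [PrimeSpectrum.comap_asIdeal] at h1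
      rw [h1]
      exact (show l.eraseLast.last.1 ≤ x.1 from le_of_lt hlt)
    obtain ⟨y, hyp, hy'y, hyx⟩ := exists_prime_over M x.1.asIdeal y'.1.asIdeal hIy' hcomap
    have hysupp : (⟨y, hyp⟩ : PrimeSpectrum B) ∈ Module.support B M := by
      rw [Module.mem_support_iff_of_finite]
      exact hIy'.trans hy'y
    refine ⟨⟨⟨y, hyp⟩, hysupp⟩, PrimeSpectrum.ext hyx, ?_⟩
    have hlt' : y' < ⟨⟨y, hyp⟩, hysupp⟩ := by
      refine lt_of_le_of_ne (show y'.1.asIdeal ≤ y from hy'y) (fun e => ?_)
      apply ne_of_lt hlt
      apply Subtype.ext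
      rw [← hy'x', e]
      exact PrimeSpectrum.ext hyx
    have h2 := Order.height_add_one_le hlt'
    push_cast
    calc (n : ℕ∞) + 1 ≤ Order.height y' + 1 := by gcongr
      _ ≤ _ := h2

end integral

section dim

variable {A B : Type u} [CommRing A] [CommRing B] [Algebra A B] [IsNoetherianRing A]
  [IsNoetherianRing B]
  (M : Type u) [AddCommGroup M] [Module B M] [Module A M] [IsScalarTower A B M]
  [Module.Finite A M]

lemma withBot_coe_le_of_forall_nat {a : ℕ∞} {b : WithBot ℕ∞}
    (h : ∀ n : ℕ, (n : ℕ∞) ≤ a → (((n : ℕ∞)) : WithBot ℕ∞) ≤ b) : (a : WithBot ℕ∞) ≤ b := by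
  induction b with
  | bot => exact absurd (h 0 (by simp)) (by simp)
  | coe b' =>
    rw [WithBot.coe_le_coe]
    exact ENat.forall_natCast_le_iff_le.mp (fun n hn => WithBot.coe_le_coe.mp (h n hn))

/-- **Dimension under finite restriction of scalars.** -/
theorem supportDim_eq_iSup (p : Ideal A) [p.IsPrime] :
    Module.supportDim (Localization.AtPrime p) (LocalizedModule p.primeCompl M) =
      ⨆ q ∈ {q : PrimeSpectrum B | q.asIdeal.comap (algebraMap A B) = p ∧
          q ∈ Module.support B M},
        Module.supportDim (Localization.AtPrime q.asIdeal)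
          (LocalizedModule q.asIdeal.primeCompl M) := by
  haveI : Module.Finite B M := Module.Finite.of_restrictScalars_finite A B M
  by_cases hp : (⟨p, inferInstance⟩ : PrimeSpectrum A) ∈ Module.support A M
  swap
  · have hsub : Subsingleton (LocalizedModule p.primeCompl M) := Module.notMem_support_iff.mp hp
    rw [Module.supportDim_eq_bot_of_subsingleton, eq_comm, iSup₂_eq_bot]
    rintro q ⟨hq1, hq2⟩
    exfalso
    apply hp
    have := comap_mem_support (A := A) M q hq2
    convert this using 1
    exact PrimeSpectrum.ext hq1.symm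
  · let f : Module.support B M → Module.support A M := fun y =>
      ⟨PrimeSpectrum.comap (algebraMap A B) y.1, comap_mem_support M y.1 y.2⟩
    have hf : StrictMono f := by
      intro y y' h
      show PrimeSpectrum.comap (algebraMap A B) y.1 < PrimeSpectrum.comap (algebraMap A B) y'.1
      exact comap_lt_comap M (Module.mem_support_iff_of_finite.mp y.2)
        (show y.1.asIdeal < y'.1.asIdeal from h)
    rw [supportDim_localizedModule_eq_height p hp]
    apply le_antisymm
    · apply withBot_coe_le_of_forall_nat
      intro n hn
      obtain ⟨y, hyx, hny⟩ := exists_over_height_ge (B := B) M n ⟨⟨p, inferInstance⟩, hp⟩ hn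
      have hyp : y.1.asIdeal.comap (algebraMap A B) = p := congrArg PrimeSpectrum.asIdeal hyx
      refine le_trans ?_ (le_iSup₂_of_le y.1 ⟨hyp, y.2⟩ le_rfl)
      rw [supportDim_localizedModule_eq_height y.1.asIdeal y.2]
      exact WithBot.coe_le_coe.mpr hny
    · refine iSup₂_le fun q hq => ?_
      rw [supportDim_localizedModule_eq_height q.asIdeal hq.2, WithBot.coe_le_coe]
      have := Order.height_le_height_apply_of_strictMono f hf ⟨q, hq.2⟩
      have hfq : f ⟨q, hq.2⟩ = ⟨⟨p, inferInstance⟩, hp⟩ := Subtype.ext (PrimeSpectrum.ext hq.1)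
      rw [hfq] at this
      exact this

end dim

section regular

variable {R : Type u} [CommRing R] (p : Ideal R) [p.IsPrime] {M : Type u} [AddCommGroup M]
  [Module R M]

lemma mk_eq_zero_iff (m : M) (s : p.primeCompl) :
    LocalizedModule.mk m s = 0 ↔ ∃ t : p.primeCompl, t • m = 0 := by
  rw [← LocalizedModule.zero_mk (1 : p.primeCompl), LocalizedModule.mk_eq]
  constructor
  · rintro ⟨u, hu⟩
    exact ⟨u, by simpa using hu⟩
  · rintro ⟨c, hc⟩
    exact ⟨c, by simp [hc]⟩

/-- criterion for `x/1` to be a nonzerodivisor on `M_p`. -/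
lemma isSMulRegular_localizedModule_iff (x : R) :
    IsSMulRegular (LocalizedModule p.primeCompl M) (algebraMap R (Localization.AtPrime p) x) ↔
      ∀ m : M, (∃ t : p.primeCompl, t • x • m = 0) → ∃ t : p.primeCompl, t • m = 0 := by
  rw [isSMulRegular_iff_right_eq_zero_of_smul]
  constructor
  · rintro h m ⟨t, ht⟩
    have h1 := h (LocalizedModule.mk m 1) (by
      rw [algebraMap_smul, LocalizedModule.smul'_mk, mk_eq_zero_iff]
      exact ⟨t, ht⟩)
    exact (mk_eq_zero_iff p m 1).mp h1
  · intro h z hz
    induction z using LocalizedModule.induction_on with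
    | h m s =>
      rw [algebraMap_smul, LocalizedModule.smul'_mk, mk_eq_zero_iff] at hz
      rw [mk_eq_zero_iff]
      exact h m hz

theorem subsingleton_localizedModule_quotSMulTop (x : R)
    (h : Subsingleton (LocalizedModule p.primeCompl M)) :
    Subsingleton (LocalizedModule p.primeCompl (QuotSMulTop x M)) := by
  rw [LocalizedModule.subsingleton_iff] at h ⊢
  intro y
  obtain ⟨m, rfl⟩ := Submodule.Quotient.mk_surjective _ y
  obtain ⟨r, hr, hrm⟩ := h m
  exact ⟨r, hr, by rw [← Submodule.Quotient.mk_smul, hrm, Submodule.Quotient.mk_zero]⟩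

theorem depth_localizedModule_congr {N N' : Type u} [AddCommGroup N] [Module R N]
    [AddCommGroup N'] [Module R N'] (e : N ≃ₗ[R] N') :
    LocCoh.depth (Localization.AtPrime p) (LocalizedModule p.primeCompl N) =
      LocCoh.depth (Localization.AtPrime p) (LocalizedModule p.primeCompl N') :=
  idealDepth_congr _ (IsLocalizedModule.mapEquiv p.primeCompl
    (LocalizedModule.mkLinearMap p.primeCompl N) (LocalizedModule.mkLinearMap p.primeCompl N')
    (Localization.AtPrime p) e)

variable [IsNoetherianRing R] [Module.Finite R M]

/-- `depth (M/xM)_p + 1 = depth M_p` when `x ∈ p` is a nonzerodivisor on `M_p`. -/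
theorem depth_quotSMulTop_add_one' {x : R} (hxp : x ∈ p)
    (hx : IsSMulRegular (LocalizedModule p.primeCompl M)
      (algebraMap R (Localization.AtPrime p) x)) :
    LocCoh.depth (Localization.AtPrime p) (LocalizedModule p.primeCompl (QuotSMulTop x M)) + 1 =
      LocCoh.depth (Localization.AtPrime p) (LocalizedModule p.primeCompl M) := by
  unfold LocCoh.depth
  rw [Groth.Agent.Lib.Helper28.idealDepth_congr
    (Groth.Agent.Lib.Helper28.quotSMulTopLocalizedEquiv p x)]
  refine idealDepth_quotSMulTop_add_one _ _ ?_ hx
  rw [← IsLocalization.mk'_one (M := p.primeCompl) (Localization.AtPrime p) x,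
    IsLocalization.AtPrime.mk'_mem_maximal_iff (Localization.AtPrime p) p]
  exact hxp

/-- positive depth of `M_p` is witnessed by an element of `p`. -/
theorem exists_mem_isSMulRegular_of_one_le_depth
    [Nontrivial (LocalizedModule p.primeCompl M)]
    (h : 1 ≤ LocCoh.depth (Localization.AtPrime p) (LocalizedModule p.primeCompl M)) :
    ∃ a ∈ p, IsSMulRegular (LocalizedModule p.primeCompl M)
      (algebraMap R (Localization.AtPrime p) a) := by
  have hmax : p.map (algebraMap R (Localization.AtPrime p)) =
      maximalIdeal (Localization.AtPrime p) := Localization.AtPrime.map_eq_maximalIdeal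
  have hne : (p.map (algebraMap R (Localization.AtPrime p))) •
      (⊤ : Submodule (Localization.AtPrime p) (LocalizedModule p.primeCompl M)) ≠ ⊤ := by
    rw [hmax]
    exact maximalIdeal_smul_top_ne_top
  have h' : ((1 : ℕ) : ℕ∞) ≤ LocCoh.idealDepth (p.map (algebraMap R (Localization.AtPrime p)))
      (LocalizedModule p.primeCompl M) := by
    rw [hmax]
    exact_mod_cast h
  obtain ⟨rs, hmem, hlen, hrs⟩ := exists_isWeaklyRegular_map_of_le_idealDepth p.primeCompl p 1
    (LocalizedModule p.primeCompl M) hne h'
  match rs, hlen with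
  | [a], _ =>
    exact ⟨a, hmem a (by simp), (isWeaklyRegular_singleton_iff _ _).mp (by simpa using hrs)⟩

end regular

section overS

variable {A B : Type u} [CommRing A] [CommRing B] [Algebra A B]

section basic

variable (M : Type u) [AddCommGroup M] [Module B M] [Module A M] [IsScalarTower A B M]
  (p : Ideal A) [p.IsPrime] (q : Ideal B) [q.IsPrime] (hq : q.comap (algebraMap A B) = p)

include hq

theorem isSMulRegular_of_over (a : A)
    (h : IsSMulRegular (LocalizedModule p.primeCompl M)
      (algebraMap A (Localization.AtPrime p) a)) :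
    IsSMulRegular (LocalizedModule q.primeCompl M)
      (algebraMap B (Localization.AtPrime q) (algebraMap A B a)) := by
  rw [isSMulRegular_localizedModule_iff] at h ⊢
  rintro m ⟨u, hu⟩
  have hu' : (u : B) • algebraMap A B a • m = 0 := hu
  have h1 : ∃ t : p.primeCompl, t • a • ((u : B) • m) = 0 :=
    ⟨1, by rw [one_smul, smul_comm a (u : B) m, ← algebraMap_smul B a m]; exact hu'⟩
  obtain ⟨t, ht⟩ := h ((u : B) • m) h1
  have ht' : (t : A) • (u : B) • m = 0 := ht
  have htq : algebraMap A B (t : A) ∉ q := fun hmem => by
    have h2 : (t : A) ∈ q.comap (algebraMap A B) := hmem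
    rw [hq] at h2
    exact t.2 h2
  refine ⟨⟨algebraMap A B t, htq⟩ * u, ?_⟩
  show (algebraMap A B (t : A) * (u : B)) • m = 0
  rw [mul_smul, algebraMap_smul]
  exact ht'

theorem nontrivial_localizedModule_of_over
    (h : Nontrivial (LocalizedModule q.primeCompl M)) :
    Nontrivial (LocalizedModule p.primeCompl M) := by
  by_contra hns
  rw [not_nontrivial_iff_subsingleton, LocalizedModule.subsingleton_iff] at hns
  have : Subsingleton (LocalizedModule q.primeCompl M) := by
    rw [LocalizedModule.subsingleton_iff]
    intro m
    obtain ⟨r, hr, hrm⟩ := hns m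
    refine ⟨algebraMap A B r, fun hmem => ?_, by rw [algebraMap_smul]; exact hrm⟩
    have h2 : r ∈ q.comap (algebraMap A B) := hmem
    rw [hq] at h2
    exact hr h2
  exact false_of_nontrivial_of_subsingleton (LocalizedModule q.primeCompl M)

end basic

variable [IsNoetherianRing A] [IsNoetherianRing B]

/-- an associated prime of `M` over `A` is the contraction of an associated prime over `B`. -/
theorem exists_associatedPrime_over (M : Type u) [AddCommGroup M] [Module B M] [Module A M]
    [IsScalarTower A B M] (p : Ideal A) (hp : p ∈ associatedPrimes A M) :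
    ∃ q : Ideal B, q ∈ associatedPrimes B M ∧ q.comap (algebraMap A B) = p := by
  obtain ⟨hpp, m, hm⟩ := isAssociatedPrime_iff.mp hp
  let 𝒮 : Set (Ideal B) :=
    {J | ∃ x : M, (∀ a : A, a • x = 0 ↔ a ∈ p) ∧ J = (⊥ : Submodule B M).colon {x}}
  have hne : 𝒮.Nonempty := ⟨_, m, fun a => by
    rw [hm, Submodule.mem_colon_singleton, Submodule.mem_bot], rfl⟩
  obtain ⟨q, ⟨x₀, hx₀, rfl⟩, hmax⟩ :=
    set_has_maximal_iff_noetherian.mpr (inferInstance : IsNoetherian B B) 𝒮 hne
  have memq : ∀ (x : M) (b : B), b ∈ (⊥ : Submodule B M).colon {x} ↔ b • x = 0 := fun x b => by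
    rw [Submodule.mem_colon_singleton, Submodule.mem_bot]
  have hcomap : ((⊥ : Submodule B M).colon {x₀}).comap (algebraMap A B) = p := by
    ext a
    rw [Ideal.mem_comap, memq, algebraMap_smul]
    exact hx₀ a
  have hx₀ne : x₀ ≠ 0 := by
    intro h0
    have : (1 : A) ∈ p := (hx₀ 1).mp (by rw [h0, smul_zero])
    exact hpp.ne_top ((Ideal.eq_top_iff_one p).mpr this)
  -- maximality usage
  have hmax' : ∀ (x : M), (∀ a : A, a • x = 0 ↔ a ∈ p) →
      (⊥ : Submodule B M).colon {x₀} ≤ (⊥ : Submodule B M).colon {x} →
      ∀ c : B, c • x = 0 → c • x₀ = 0 := by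
    intro x hx hle c hc
    by_contra hcx
    apply hmax _ ⟨x, hx, rfl⟩
    refine SetLike.lt_iff_le_and_exists.mpr ⟨hle, c, (memq x c).mpr hc, fun h => hcx ((memq x₀ c).mp h)⟩
  have hprime : ((⊥ : Submodule B M).colon {x₀}).IsPrime := by
    refine ⟨fun htop => ?_, fun {b c} hbc => ?_⟩
    · have : (1 : B) ∈ (⊥ : Submodule B M).colon {x₀} := by rw [htop]; trivial
      rw [memq, one_smul] at this
      exact hx₀ne this
    · rw [memq, mul_smul] at hbc
      by_contra hcon
      push Not at hcon
      obtain ⟨hb, hc⟩ := hcon
      rw [memq] at hb hc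
      by_cases hA : ∀ a : A, a • (c • x₀) = 0 ↔ a ∈ p
      · apply hb
        refine hmax' (c • x₀) hA ?_ b hbc
        intro u hu
        rw [memq] at hu ⊢
        rw [smul_comm, hu, smul_zero]
      · push Not at hA
        obtain ⟨t, ht⟩ := hA
        have hpz : ∀ a : A, a ∈ p → a • (c • x₀) = 0 := fun a ha => by
          rw [smul_comm, (hx₀ a).mpr ha, smul_zero]
        have htp : t ∉ p := by
          intro htp
          rcases ht with ⟨h1, h2⟩ | ⟨h1, h2⟩
          · exact h2 htp
          · exact h1 (hpz t htp)
        have htz : t • (c • x₀) = 0 := by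
          rcases ht with ⟨h1, h2⟩ | ⟨h1, h2⟩
          · exact h1
          · exact absurd h2 htp
        have hx₂ : ∀ a : A, a • (t • x₀) = 0 ↔ a ∈ p := by
          intro a
          rw [← mul_smul, hx₀]
          constructor
          · intro h
            rcases hpp.mem_or_mem h with h | h
            · exact h
            · exact absurd h htp
          · intro h
            exact p.mul_mem_right _ h
        apply hc
        refine hmax' (t • x₀) hx₂ ?_ c ?_
        · intro u hu
          rw [memq] at hu ⊢
          rw [smul_comm, hu, smul_zero]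
        · rw [smul_comm, htz]
  exact ⟨_, isAssociatedPrime_iff.mpr ⟨hprime, x₀, rfl⟩, hcomap⟩

/-- **Depth under finite restriction of scalars**, inductive form. -/
theorem natCast_le_depth_iff (p : Ideal A) [p.IsPrime] (n : ℕ) :
    ∀ (M : Type u) [AddCommGroup M] [Module B M] [Module A M] [IsScalarTower A B M]
      [Module.Finite A M],
      (n : ℕ∞) ≤ LocCoh.depth (Localization.AtPrime p) (LocalizedModule p.primeCompl M) ↔
        ∀ (q : Ideal B) [q.IsPrime], q.comap (algebraMap A B) = p →
          Nontrivial (LocalizedModule q.primeCompl M) →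
          (n : ℕ∞) ≤ LocCoh.depth (Localization.AtPrime q) (LocalizedModule q.primeCompl M) := by
  induction n with
  | zero => intro M _ _ _ _ _; simp
  | succ n ih =>
    intro M _ _ _ _ _
    haveI : Module.Finite B M := Module.Finite.of_restrictScalars_finite A B M
    by_cases hMp : Nontrivial (LocalizedModule p.primeCompl M)
    swap
    · constructor
      · intro _ q _ hq hnt
        exact absurd (nontrivial_localizedModule_of_over M p q hq hnt) hMp
      · intro _
        rw [not_nontrivial_iff_subsingleton] at hMp
        rw [depth_eq_top_of_subsingleton]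
        exact le_top
    have key : ∀ a ∈ p, IsSMulRegular (LocalizedModule p.primeCompl M)
        (algebraMap A (Localization.AtPrime p) a) →
        ((n : ℕ∞) + 1 ≤ LocCoh.depth (Localization.AtPrime p) (LocalizedModule p.primeCompl M) ↔
          ∀ (q : Ideal B) [q.IsPrime], q.comap (algebraMap A B) = p →
            Nontrivial (LocalizedModule q.primeCompl M) →
            (n : ℕ∞) + 1 ≤
              LocCoh.depth (Localization.AtPrime q) (LocalizedModule q.primeCompl M)) := by
      intro a hap hreg
      haveI : Module.Finite A (QuotSMulTop (algebraMap A B a) M) :=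
        Module.Finite.equiv (quotSMulTopRestrictEquiv (B := B) M a)
      have hA : LocCoh.depth (Localization.AtPrime p)
          (LocalizedModule p.primeCompl (QuotSMulTop (algebraMap A B a) M)) + 1 =
          LocCoh.depth (Localization.AtPrime p) (LocalizedModule p.primeCompl M) := by
        rw [← depth_quotSMulTop_add_one' p hap hreg,
          depth_localizedModule_congr p (quotSMulTopRestrictEquiv (B := B) M a)]
      have hB : ∀ (q : Ideal B) [q.IsPrime], q.comap (algebraMap A B) = p →
          LocCoh.depth (Localization.AtPrime q)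
            (LocalizedModule q.primeCompl (QuotSMulTop (algebraMap A B a) M)) + 1 =
          LocCoh.depth (Localization.AtPrime q) (LocalizedModule q.primeCompl M) := by
        intro q _ hq
        exact depth_quotSMulTop_add_one' q (by rw [← hq] at hap; exact hap)
          (isSMulRegular_of_over M p q hq a hreg)
      rw [← hA, ENat.add_le_add_iff_right ENat.one_ne_top,
        ih (QuotSMulTop (algebraMap A B a) M)]
      constructor
      · intro H q _ hq hnt
        rw [← hB q hq]
        by_cases hnt' : Nontrivial (LocalizedModule q.primeCompl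
            (QuotSMulTop (algebraMap A B a) M))
        · have := H q hq hnt'
          gcongr
        · rw [not_nontrivial_iff_subsingleton] at hnt'
          rw [depth_eq_top_of_subsingleton]
          simp
      · intro H q _ hq hnt'
        have hnt : Nontrivial (LocalizedModule q.primeCompl M) := by
          by_contra hns
          rw [not_nontrivial_iff_subsingleton] at hns
          have := subsingleton_localizedModule_quotSMulTop q (algebraMap A B a) hns
          exact false_of_nontrivial_of_subsingleton
            (LocalizedModule q.primeCompl (QuotSMulTop (algebraMap A B a) M))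
        have := H q hq hnt
        rw [← hB q hq] at this
        exact (ENat.add_le_add_iff_right ENat.one_ne_top).mp this
    push_cast
    constructor
    · intro h
      obtain ⟨a, hap, hreg⟩ := exists_mem_isSMulRegular_of_one_le_depth p
        (le_trans (by simp) h)
      exact (key a hap hreg).mp h
    · intro H
      have h1 : 1 ≤ LocCoh.depth (Localization.AtPrime p) (LocalizedModule p.primeCompl M) := by
        by_contra hcon
        have h0 : LocCoh.depth (Localization.AtPrime p) (LocalizedModule p.primeCompl M) = 0 := by
          rwa [Order.one_le_iff_ne_zero, not_not] at hcon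
        rw [depth_localizedModule_eq_zero_iff] at h0
        obtain ⟨q, hqass, hq⟩ := exists_associatedPrime_over (B := B) M p h0
        haveI := hqass.isPrime
        have hd0 : LocCoh.depth (Localization.AtPrime q) (LocalizedModule q.primeCompl M) = 0 :=
          (depth_localizedModule_eq_zero_iff q).mpr hqass
        have hnt : Nontrivial (LocalizedModule q.primeCompl M) := by
          by_contra hns
          rw [not_nontrivial_iff_subsingleton] at hns
          rw [depth_eq_top_of_subsingleton] at hd0
          exact ENat.top_ne_zero hd0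
        have := H q hq hnt
        rw [hd0] at this
        simp at this
      obtain ⟨a, hap, hreg⟩ := exists_mem_isSMulRegular_of_one_le_depth p h1
      exact (key a hap hreg).mpr H

/-- **Depth under finite restriction of scalars.** -/
theorem depth_eq_iInf (M : Type u) [AddCommGroup M] [Module B M] [Module A M]
    [IsScalarTower A B M] [Module.Finite A M] (p : Ideal A) [p.IsPrime] :
    LocCoh.depth (Localization.AtPrime p) (LocalizedModule p.primeCompl M) =
      ⨅ q ∈ {q : PrimeSpectrum B | q.asIdeal.comap (algebraMap A B) = p ∧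
          q ∈ Module.support B M},
        LocCoh.depth (Localization.AtPrime q.asIdeal) (LocalizedModule q.asIdeal.primeCompl M) := by
  refine ENat.eq_of_forall_natCast_le_iff fun n => ?_
  rw [natCast_le_depth_iff (B := B) p n M, le_iInf₂_iff]
  constructor
  · rintro H q ⟨hq1, hq2⟩
    exact H q.asIdeal hq1 (Module.mem_support_iff.mp hq2)
  · intro H q _ hq hnt
    exact H ⟨q, inferInstance⟩ ⟨hq, Module.mem_support_iff.mpr hnt⟩

end overS

end Groth.Agent.Lib.Helper4.FinRes
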