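import Groth.Agent.Lib.Helper4.LocLoc
import Groth.Agent.Lib.Helper4.Sk
import Groth.Agent.Lib.Helper28.DepthLoc

/-!
# Lower semicontinuity of depth along `V(p)`
-/

set_option autoImplicit false

universe u

open RingTheory.Sequence

namespace Groth.Agent.Lib.Helper4

section

variable {R : Type u} [CommRing R]

lemma exists_notMem_forall_smul_eq_zero (N : Type u) [AddCommGroup N] [Module R N]
    [Module.Finite R N] (p : Ideal R) [p.IsPrime] (h : ∀ m : N, ∃ r ∉ p, r • m = 0) :
    ∃ g ∉ p, ∀ m : N, g • m = 0 := by
  have hp : (⟨p, inferInstance⟩ : PrimeSpectrum R) ∉ Module.support R N :=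
    Module.notMem_support_iff'.mpr h
  rw [Module.mem_support_iff_of_finite] at hp
  obtain ⟨g, hg, hgp⟩ := SetLike.not_le_iff_exists.mp hp
  exact ⟨g, hgp, fun m => Module.mem_annihilator.mp hg m⟩

variable {M : Type u} [AddCommGroup M] [Module R M]

/-- `x/1` is regular on `M_q` as soon as the kernel of `x` on `M` is killed by some `g ∉ q`. -/
lemma isSMulRegular_localizedModule_of_ker (q : Ideal R) [q.IsPrime] (x g : R) (hg : g ∉ q)
    (hK : ∀ m : M, x • m = 0 → g • m = 0) :
    IsSMulRegular (LocalizedModule q.primeCompl M)
      (algebraMap R (Localization.AtPrime q) x) := by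
  refine IsSMulRegular.of_right_eq_zero_of_smul fun y hy => ?_
  induction y using LocalizedModule.induction_on with
  | h m s =>
    rw [algebraMap_smul, LocalizedModule.smul'_mk, ← LocalizedModule.zero_mk s,
      LocalizedModule.mk_eq] at hy
    obtain ⟨u, hu⟩ := hy
    rw [← LocalizedModule.zero_mk s, LocalizedModule.mk_eq]
    have hu' : (u : R) • (s : R) • x • m = 0 := by
      simpa [Submonoid.smul_def] using hu
    have h1 : x • ((u : R) • (s : R) • m) = 0 := by
      rw [smul_comm x, smul_comm x]
      exact hu'
    have h2 := hK _ h1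
    refine ⟨⟨g, hg⟩ * u, ?_⟩
    simp only [Submonoid.smul_def, Submonoid.coe_mul, smul_zero]
    rw [mul_smul]
    exact h2

variable [IsNoetherianRing R] [Module.Finite R M]

/-- If `x/1` is `M_p`-regular then the kernel of `x` on `M` is killed by some `g ∉ p`. -/
lemma exists_notMem_smul_ker_eq_zero (p : Ideal R) [p.IsPrime] (x : R)
    (hreg : IsSMulRegular (LocalizedModule p.primeCompl M)
      (algebraMap R (Localization.AtPrime p) x)) :
    ∃ g ∉ p, ∀ m : M, x • m = 0 → g • m = 0 := by
  have h : ∀ k : LinearMap.ker (LinearMap.lsmul R M x), ∃ r ∉ p, r • k = 0 := by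
    intro k
    have hk : x • (k : M) = 0 := k.2
    have h0 : LocalizedModule.mkLinearMap p.primeCompl M (k : M) = 0 := by
      apply hreg.right_eq_zero_of_smul
      rw [algebraMap_smul, ← LinearMap.map_smul, hk, map_zero]
    obtain ⟨r, hr⟩ := (IsLocalizedModule.eq_zero_iff p.primeCompl
      (LocalizedModule.mkLinearMap p.primeCompl M)).mp h0
    exact ⟨r, r.2, Subtype.ext (by simpa [Submonoid.smul_def] using hr)⟩
  obtain ⟨g, hg, hgK⟩ := exists_notMem_forall_smul_eq_zero _ p h
  exact ⟨g, hg, fun m hm => congrArg Subtype.val (hgK ⟨m, hm⟩)⟩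

end

section main

variable {R : Type u} [CommRing R] [IsNoetherianRing R]

/-- Lower semicontinuity of the `I`-depth along `V(p)`. -/
theorem exists_notMem_forall_le_idealDepth (I : Ideal R) (p : Ideal R) [p.IsPrime] (hIp : I ≤ p) :
    ∀ (e : ℕ) (M : Type u) [AddCommGroup M] [Module R M] [Module.Finite R M],
      (e : ℕ∞) ≤ LocCoh.idealDepth (I.map (algebraMap R (Localization.AtPrime p)))
        (LocalizedModule p.primeCompl M) →
      ∃ f ∉ p, ∀ (q : Ideal R) [q.IsPrime], p ≤ q → f ∉ q →
        (e : ℕ∞) ≤ LocCoh.idealDepth (I.map (algebraMap R (Localization.AtPrime q)))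
          (LocalizedModule q.primeCompl M) := by
  intro e
  induction e with
  | zero =>
    intro M _ _ _ _
    exact ⟨1, (Ideal.ne_top_iff_one p).mp (Ideal.IsPrime.ne_top ‹_›), fun q _ _ _ => by simp⟩
  | succ e ih =>
    intro M _ _ _ he
    by_cases hIM : (I.map (algebraMap R (Localization.AtPrime p))) •
        (⊤ : Submodule (Localization.AtPrime p) (LocalizedModule p.primeCompl M)) = ⊤
    · have hsub : Subsingleton (LocalizedModule p.primeCompl M) := by
        by_contra hnt
        rw [not_subsingleton_iff_nontrivial] at hnt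
        have hle : I.map (algebraMap R (Localization.AtPrime p)) ≤
            IsLocalRing.maximalIdeal (Localization.AtPrime p) := by
          rw [Ideal.map_le_iff_le_comap]
          exact hIp.trans
            (IsLocalization.AtPrime.under_maximalIdeal (Localization.AtPrime p) p).ge
        exact maximalIdeal_smul_top_ne_top (R := Localization.AtPrime p)
          (M := LocalizedModule p.primeCompl M)
          (eq_top_iff.mpr (hIM.ge.trans (Submodule.smul_mono_left hle)))
      obtain ⟨f, hf, hfM⟩ := exists_notMem_forall_smul_eq_zero M p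
        (Module.notMem_support_iff'.mp
          ((Module.notMem_support_iff (p := ⟨p, inferInstance⟩)).mpr hsub))
      refine ⟨f, hf, fun q _ _ hfq => ?_⟩
      have hsubq : Subsingleton (LocalizedModule q.primeCompl M) :=
        (Module.notMem_support_iff (p := ⟨q, inferInstance⟩)).mp
          (Module.notMem_support_iff'.mpr fun m => ⟨f, hfq, hfM m⟩)
      rw [idealDepth_of_smul_top_eq _ (Subsingleton.elim _ _)]
      exact le_top
    · have he' : (e : ℕ∞) + 1 ≤ LocCoh.idealDepth (I.map (algebraMap R (Localization.AtPrime p)))
          (LocalizedModule p.primeCompl M) := by exact_mod_cast he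
      obtain ⟨rs, hmem, hlen, hrs⟩ := exists_isWeaklyRegular_map_of_le_idealDepth p.primeCompl I 1
        (LocalizedModule p.primeCompl M) hIM (le_trans (by simp) he')
      match rs, hlen, hmem, hrs with
      | [x], _, hmem, hrs =>
        have hxI : x ∈ I := hmem x (by simp)
        have hreg : IsSMulRegular (LocalizedModule p.primeCompl M)
            (algebraMap R (Localization.AtPrime p) x) := by
          simpa [isWeaklyRegular_singleton_iff] using hrs
        have h2 := le_idealDepth_quotSMulTop_of_succ_le _ e (Ideal.mem_map_of_mem _ hxI) hreg he'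
        rw [← idealDepth_congr _ (Groth.Agent.Lib.Helper28.quotSMulTopLocalizedEquiv p x)] at h2
        obtain ⟨f', hf', hf'q⟩ := ih (QuotSMulTop x M) h2
        obtain ⟨g, hg, hgK⟩ := exists_notMem_smul_ker_eq_zero p x hreg
        refine ⟨f' * g, p.primeCompl.mul_mem hf' hg, fun q _ hpq hfq => ?_⟩
        have hf'q' : f' ∉ q := fun h => hfq (q.mul_mem_right g h)
        have hgq : g ∉ q := fun h => hfq (q.mul_mem_left f' h)
        have hregq := isSMulRegular_localizedModule_of_ker q x g hgq hgK
        have h3 := hf'q q hpq hf'q'
        rw [idealDepth_congr _ (Groth.Agent.Lib.Helper28.quotSMulTopLocalizedEquiv q x)] at h3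
        rw [← idealDepth_quotSMulTop_add_one _ _ (Ideal.mem_map_of_mem _ hxI) hregq]
        push_cast
        gcongr

/-- Lower semicontinuity of depth along `V(p)`, with finiteness of the locus where the depth
does not jump. -/
theorem exists_notMem_depth (p : Ideal R) [p.IsPrime] :
    ∀ (e : ℕ) (M : Type u) [AddCommGroup M] [Module R M] [Module.Finite R M],
      LocCoh.depth (Localization.AtPrime p) (LocalizedModule p.primeCompl M) = e →
      ∃ f ∉ p, (∀ (q : Ideal R) [q.IsPrime], p ≤ q → f ∉ q →
        (e : ℕ∞) ≤ LocCoh.depth (Localization.AtPrime q) (LocalizedModule q.primeCompl M)) ∧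
        {q : PrimeSpectrum R | p ≤ q.asIdeal ∧ f ∉ q.asIdeal ∧
          LocCoh.depth (Localization.AtPrime q.asIdeal)
            (LocalizedModule q.asIdeal.primeCompl M) = e}.Finite := by
  intro e
  induction e with
  | zero =>
    intro M _ _ _ _
    refine ⟨1, (Ideal.ne_top_iff_one p).mp (Ideal.IsPrime.ne_top ‹_›), fun q _ _ _ => by simp, ?_⟩
    have hfin : {q : PrimeSpectrum R | q.asIdeal ∈ associatedPrimes R M}.Finite :=
      (associatedPrimes.finite R M).preimage (fun a _ b _ h => PrimeSpectrum.ext h)
    refine hfin.subset ?_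
    rintro q ⟨-, -, hq⟩
    exact (depth_localizedModule_eq_zero_iff q.asIdeal).mp (by simpa using hq)
  | succ e ih =>
    intro M _ _ _ he
    have hnt : Nontrivial (LocalizedModule p.primeCompl M) := by
      by_contra h
      rw [not_nontrivial_iff_subsingleton] at h
      rw [depth_eq_top_of_subsingleton] at he
      exact absurd he.symm (ENat.coe_ne_top _)
    have hmM := maximalIdeal_smul_top_ne_top (R := Localization.AtPrime p)
      (M := LocalizedModule p.primeCompl M)
    have hmap : p.map (algebraMap R (Localization.AtPrime p)) =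
        IsLocalRing.maximalIdeal (Localization.AtPrime p) :=
      IsLocalization.AtPrime.map_eq_maximalIdeal p _
    unfold LocCoh.depth at he
    have he' : (e : ℕ∞) + 1 ≤ LocCoh.idealDepth (p.map (algebraMap R (Localization.AtPrime p)))
        (LocalizedModule p.primeCompl M) := by
      rw [hmap, he]
      push_cast
      exact le_rfl
    obtain ⟨rs, hmem, hlen, hrs⟩ := exists_isWeaklyRegular_map_of_le_idealDepth p.primeCompl p 1
      (LocalizedModule p.primeCompl M) (by rw [hmap]; exact hmM) (le_trans (by simp) he')
    match rs, hlen, hmem, hrs with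
    | [x], _, hmem, hrs =>
      have hxp : x ∈ p := hmem x (by simp)
      have hreg : IsSMulRegular (LocalizedModule p.primeCompl M)
          (algebraMap R (Localization.AtPrime p) x) := by
        simpa [isWeaklyRegular_singleton_iff] using hrs
      have hmemq : ∀ (q : Ideal R) [q.IsPrime], p ≤ q →
          algebraMap R (Localization.AtPrime q) x ∈
            IsLocalRing.maximalIdeal (Localization.AtPrime q) := fun q _ hpq =>
        (IsLocalization.AtPrime.to_map_mem_maximal_iff _ q x).mpr (hpq hxp)
      have h2 := idealDepth_quotSMulTop_add_one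
        (IsLocalRing.maximalIdeal (Localization.AtPrime p)) _ (hmemq p le_rfl) hreg
      rw [he] at h2
      have h2' : LocCoh.idealDepth (IsLocalRing.maximalIdeal (Localization.AtPrime p))
          (QuotSMulTop (algebraMap R (Localization.AtPrime p) x)
            (LocalizedModule p.primeCompl M)) = e := by
        push_cast at h2
        exact (ENat.add_left_injective_of_ne_top (by simp)) h2
      have h2'' : LocCoh.depth (Localization.AtPrime p)
          (LocalizedModule p.primeCompl (QuotSMulTop x M)) = e := by
        unfold LocCoh.depth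
        rw [idealDepth_congr _ (Groth.Agent.Lib.Helper28.quotSMulTopLocalizedEquiv p x)]
        exact h2'
      obtain ⟨f', hf', hf'q, hfin⟩ := ih (QuotSMulTop x M) h2''
      obtain ⟨g, hg, hgK⟩ := exists_notMem_smul_ker_eq_zero p x hreg
      have key : ∀ (q : Ideal R) [q.IsPrime], p ≤ q → g ∉ q →
          LocCoh.depth (Localization.AtPrime q)
            (LocalizedModule q.primeCompl (QuotSMulTop x M)) + 1 =
          LocCoh.depth (Localization.AtPrime q) (LocalizedModule q.primeCompl M) := by
        intro q _ hpq hgq
        have hregq := isSMulRegular_localizedModule_of_ker q x g hgq hgK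
        unfold LocCoh.depth
        rw [idealDepth_congr _ (Groth.Agent.Lib.Helper28.quotSMulTopLocalizedEquiv q x)]
        exact idealDepth_quotSMulTop_add_one _ _ (hmemq q hpq) hregq
      refine ⟨f' * g, p.primeCompl.mul_mem hf' hg, fun q _ hpq hfq => ?_, ?_⟩
      · have hf'q' : f' ∉ q := fun h => hfq (q.mul_mem_right g h)
        have hgq : g ∉ q := fun h => hfq (q.mul_mem_left f' h)
        rw [← key q hpq hgq]
        push_cast
        gcongr
        exact hf'q q hpq hf'q'
      · refine hfin.subset ?_
        rintro q ⟨hpq, hfq, hq⟩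
        have hf'q' : f' ∉ q.asIdeal := fun h => hfq (q.asIdeal.mul_mem_right g h)
        have hgq : g ∉ q.asIdeal := fun h => hfq (q.asIdeal.mul_mem_left f' h)
        refine ⟨hpq, hf'q', ?_⟩
        have hk := key q.asIdeal hpq hgq
        rw [hq] at hk
        push_cast at hk
        exact (ENat.add_left_injective_of_ne_top (by simp)) hk

end main

end Groth.Agent.Lib.Helper4
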