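import Mathlib
import Groth.Prelude.Def_CAlg
import Groth.Agent.Lib.Helper4.FaltRing
import Groth.Agent.Lib.Helper4.Depth
import Groth.Agent.Lib.Helper28.Reflexive
import Groth.Agent.Lib.Helper28.DepthLoc
import Groth.Agent.Lib.Helper4.Sk
import Groth.Agent.Lib.Helper4.RelCodim

/-!
# Transfer of depth and dimension through a localization of a localization (helper4)

* `supportDim_eq_of_bijective`: `dim Supp` is invariant under a ring isomorphism.
* `depth_supportDim_of_isLocalizedModule`: depth and dimension of *any* model `(L, N')` of the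
  localization of `M` at a prime `q` agree with those of `(R_q, M_q)`.
* `isLocalizedModule_comp_localization`: `M → S₀⁻¹M → (S₀⁻¹M)_Q` is the localization of `M` at the
  contraction of `Q`.
* `depth_supportDim_locLoc`: `depth (S₀⁻¹M)_Q = depth M_q`, `dim (S₀⁻¹M)_Q = dim M_q`.
* `depth_supportDim_quot_ofList_localized`: behaviour of depth and dimension of `(N/(rs)N)_Q`.
-/

set_option autoImplicit false
set_option linter.style.haveILetI false
set_option linter.unusedSectionVars false
set_option linter.unusedVariables false
set_option maxHeartbeats 800000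

universe u

open RingTheory.Sequence

namespace Groth.Agent.Lib.Helper4.LocTrans

open Groth.Agent.Lib.Helper4

theorem supportDim_eq_of_bijective {A A' : Type u} [CommRing A] [CommRing A'] [Algebra A A']
    (hbij : Function.Bijective (algebraMap A A')) (N : Type u) [AddCommGroup N] [Module A N]
    [Module A' N] [IsScalarTower A A' N] [Module.Finite A' N] :
    Module.supportDim A N = Module.supportDim A' N := by
  let σ : A ≃+* A' := RingEquiv.ofBijective (algebraMap A A') hbij
  haveI : Module.Finite A A' := Module.Finite.of_surjective (Algebra.linearMap A A') hbij.2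
  haveI : Module.Finite A N := Module.Finite.trans A' N
  rw [Module.supportDim_eq_ringKrullDim_quotient_annihilator,
    Module.supportDim_eq_ringKrullDim_quotient_annihilator]
  have hann : Module.annihilator A' N = (Module.annihilator A N).map (σ : A →+* A') := by
    ext b
    obtain ⟨a, rfl⟩ := hbij.2 b
    constructor
    · intro h
      refine Ideal.mem_map_of_mem (σ : A →+* A') (x := a) ?_
      rw [Module.mem_annihilator]
      intro n
      rw [← algebraMap_smul A' a n]
      exact Module.mem_annihilator.mp h n
    · intro h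
      obtain ⟨a', ha', hEq⟩ := (Ideal.mem_map_iff_of_surjective (σ : A →+* A') σ.surjective).mp h
      have hEq' : algebraMap A A' a' = algebraMap A A' a := hEq
      have : a' = a := hbij.1 hEq'
      subst this
      rw [Module.mem_annihilator]
      intro n
      rw [algebraMap_smul]
      exact Module.mem_annihilator.mp ha' n
  exact ringKrullDim_eq_of_ringEquiv (Ideal.quotientEquiv _ _ σ hann)

theorem depth_supportDim_of_isLocalizedModule {R : Type u} [CommRing R] (q : Ideal R) [q.IsPrime]
    (L : Type u) [CommRing L] [Algebra R L] [IsLocalization.AtPrime L q] [IsLocalRing L]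
    {M : Type u} [AddCommGroup M] [Module R M] [Module.Finite R M]
    (N' : Type u) [AddCommGroup N'] [Module R N'] [Module L N'] [IsScalarTower R L N']
    (g : M →ₗ[R] N') [IsLocalizedModule q.primeCompl g] :
    LocCoh.depth L N' =
        LocCoh.depth (Localization.AtPrime q) (LocalizedModule q.primeCompl M) ∧
      Module.supportDim L N' =
        Module.supportDim (Localization.AtPrime q) (LocalizedModule q.primeCompl M) := by
  let σ : Localization.AtPrime q ≃ₐ[R] L := IsLocalization.algEquiv q.primeCompl _ _
  letI : Algebra (Localization.AtPrime q) L := (σ : Localization.AtPrime q →+* L).toAlgebra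
  have halg : ∀ a, algebraMap (Localization.AtPrime q) L a = σ a := fun a => rfl
  haveI : IsScalarTower R (Localization.AtPrime q) L :=
    IsScalarTower.of_algebraMap_eq (fun r => by rw [halg, σ.commutes])
  letI : Module (Localization.AtPrime q) N' :=
    Module.compHom N' (algebraMap (Localization.AtPrime q) L)
  have hsm : ∀ (a : Localization.AtPrime q) (n : N'),
      a • n = algebraMap (Localization.AtPrime q) L a • n := fun _ _ => rfl
  haveI : IsScalarTower (Localization.AtPrime q) L N' := ⟨fun a l n => by
    rw [hsm, Algebra.smul_def, mul_smul]⟩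
  haveI : IsScalarTower R (Localization.AtPrime q) N' := ⟨fun r a n => by
    rw [hsm, hsm, Algebra.smul_def r a, map_mul, mul_smul,
      ← IsScalarTower.algebraMap_apply R (Localization.AtPrime q) L, algebraMap_smul]⟩
  let e₀ : LocalizedModule q.primeCompl M ≃ₗ[R] N' := IsLocalizedModule.iso q.primeCompl g
  let e : LocalizedModule q.primeCompl M ≃ₗ[Localization.AtPrime q] N' :=
    e₀.extendScalarsOfIsLocalization q.primeCompl (Localization.AtPrime q)
  haveI : Module.Finite L N' := Module.Finite.of_isLocalizedModule q.primeCompl g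
  haveI : IsLocalHom (algebraMap (Localization.AtPrime q) L) := ⟨fun a ha => by
    have h1 := ha.map σ.symm
    rw [halg] at h1
    simpa using h1⟩
  constructor
  · rw [← Falt.depth_eq_of_surjective (A := Localization.AtPrime q) (A' := L) σ.surjective N']
    unfold LocCoh.depth
    exact (idealDepth_congr _ e).symm
  · rw [← supportDim_eq_of_bijective (A := Localization.AtPrime q) (A' := L) σ.bijective N']
    exact (Module.supportDim_eq_of_equiv e).symm

theorem isLocalizedModule_comp_localization {R : Type*} [CommRing R] (S₀ : Submonoid R)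
    {B : Type*} [CommRing B] [Algebra R B] [IsLocalization S₀ B] (Q : Ideal B) [hQ : Q.IsPrime]
    {M N N' : Type*} [AddCommGroup M] [AddCommGroup N] [AddCommGroup N']
    [Module R M] [Module R N] [Module B N] [IsScalarTower R B N]
    [Module R N'] [Module B N'] [IsScalarTower R B N']
    (f : M →ₗ[R] N) [IsLocalizedModule S₀ f] (h : N →ₗ[B] N')
    [IsLocalizedModule Q.primeCompl h] :
    IsLocalizedModule (Q.comap (algebraMap R B)).primeCompl ((h.restrictScalars R) ∘ₗ f) := by
  have hunit : ∀ s : S₀, algebraMap R B (s : R) ∉ Q := fun s hmem =>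
    hQ.ne_top (Ideal.eq_top_of_isUnit_mem _ hmem (IsLocalization.map_units B s))
  have hnum : ∀ (u : Q.primeCompl) (a : R) (s' : S₀),
      (u : B) * algebraMap R B (s' : R) = algebraMap R B a → algebraMap R B a ∉ Q := by
    intro u a s' has hmem
    rw [← has] at hmem
    rcases hQ.mem_or_mem hmem with h1 | h1
    · exact u.2 h1
    · exact hunit s' h1
  have hprod : ∀ (a b : R), algebraMap R B a ∉ Q → algebraMap R B b ∉ Q →
      a * b ∈ (Q.comap (algebraMap R B)).primeCompl := by
    intro a b ha hb hmem
    have hmem' : algebraMap R B (a * b) ∈ Q := hmem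
    rw [map_mul] at hmem'
    rcases hQ.mem_or_mem hmem' with h1 | h1
    · exact ha h1
    · exact hb h1
  refine ⟨?_, ?_, ?_⟩
  · intro t
    have ht : algebraMap R B (t : R) ∈ Q.primeCompl := t.2
    have hu := IsLocalizedModule.map_units h ⟨algebraMap R B (t : R), ht⟩
    rw [Module.End.isUnit_iff] at hu ⊢
    convert hu using 1
    ext x
    simp [algebraMap_smul]
  · intro y
    obtain ⟨⟨n, u⟩, hn⟩ := IsLocalizedModule.surj Q.primeCompl h y
    obtain ⟨⟨m, s⟩, hm⟩ := IsLocalizedModule.surj S₀ f n
    obtain ⟨⟨a, s'⟩, has⟩ := IsLocalization.surj S₀ (u : B)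
    have haQ := hnum u a s' has
    refine ⟨⟨(s' : R) • m, ⟨a * (s : R), hprod a s haQ (hunit s)⟩⟩, ?_⟩
    show (a * (s : R)) • y = h (f ((s' : R) • m))
    have hn' : (u : B) • y = h n := hn
    have hm' : (s : R) • n = f m := hm
    calc (a * (s : R)) • y = (s : R) • (a • y) := by rw [mul_comm, mul_smul]
      _ = (s : R) • ((algebraMap R B a) • y) := by rw [algebraMap_smul]
      _ = (s : R) • (((u : B) * algebraMap R B (s' : R)) • y) := by rw [has]
      _ = (s : R) • ((algebraMap R B (s' : R)) • ((u : B) • y)) := by rw [mul_comm, mul_smul]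
      _ = (s : R) • ((algebraMap R B (s' : R)) • h n) := by rw [hn']
      _ = (s : R) • ((s' : R) • h n) := by rw [algebraMap_smul]
      _ = h ((s' : R) • ((s : R) • n)) := by
          rw [LinearMap.map_smul_of_tower h, LinearMap.map_smul_of_tower h, smul_comm]
      _ = h (f ((s' : R) • m)) := by rw [hm', f.map_smul]
  · intro m1 m2 hm
    have hm' : h (f m1) = h (f m2) := hm
    obtain ⟨u, hu⟩ := IsLocalizedModule.exists_of_eq (S := Q.primeCompl) (f := h) hm'
    obtain ⟨⟨a, s'⟩, has⟩ := IsLocalization.surj S₀ (u : B)
    have haQ := hnum u a s' has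
    have hu' : (u : B) • f m1 = (u : B) • f m2 := hu
    have h1 : f (a • m1) = f (a • m2) := by
      rw [f.map_smul, f.map_smul, ← algebraMap_smul B a (f m1), ← algebraMap_smul B a (f m2),
        ← has, mul_comm, mul_smul, mul_smul, hu']
    obtain ⟨s, hs⟩ := IsLocalizedModule.exists_of_eq (S := S₀) (f := f) h1
    refine ⟨⟨(s : R) * a, hprod s a (hunit s) haQ⟩, ?_⟩
    show ((s : R) * a) • m1 = ((s : R) * a) • m2
    rw [mul_smul, mul_smul]
    exact hs

theorem depth_supportDim_locLoc {R : Type u} [CommRing R] (S₀ : Submonoid R)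
    (M : Type u) [AddCommGroup M] [Module R M] [Module.Finite R M]
    (Q : Ideal (Localization S₀)) [Q.IsPrime] :
    LocCoh.depth (Localization.AtPrime Q)
        (LocalizedModule Q.primeCompl (LocalizedModule S₀ M)) =
      LocCoh.depth (Localization.AtPrime (Q.comap (algebraMap R (Localization S₀))))
        (LocalizedModule (Q.comap (algebraMap R (Localization S₀))).primeCompl M) ∧
    Module.supportDim (Localization.AtPrime Q)
        (LocalizedModule Q.primeCompl (LocalizedModule S₀ M)) =
      Module.supportDim (Localization.AtPrime (Q.comap (algebraMap R (Localization S₀))))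
        (LocalizedModule (Q.comap (algebraMap R (Localization S₀))).primeCompl M) := by
  haveI := isLocalizedModule_comp_localization S₀ Q (LocalizedModule.mkLinearMap S₀ M)
    (LocalizedModule.mkLinearMap Q.primeCompl (LocalizedModule S₀ M))
  exact depth_supportDim_of_isLocalizedModule (Q.comap (algebraMap R (Localization S₀)))
    (Localization.AtPrime Q) (LocalizedModule Q.primeCompl (LocalizedModule S₀ M))
    (((LocalizedModule.mkLinearMap Q.primeCompl (LocalizedModule S₀ M)).restrictScalars R) ∘ₗ
      (LocalizedModule.mkLinearMap S₀ M))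

section quot

variable {B : Type u} [CommRing B] [IsNoetherianRing B]

theorem depth_supportDim_quot_ofList_localized (Q : Ideal B) [Q.IsPrime] {N : Type u}
    [AddCommGroup N] [Module B N] {rs : List B} (hreg : IsWeaklyRegular N rs) :
    Module.Finite B N → (∀ r ∈ rs, r ∈ Q) →
    LocCoh.depth (Localization.AtPrime Q)
        (LocalizedModule Q.primeCompl (N ⧸ (Ideal.ofList rs • ⊤ : Submodule B N))) + rs.length =
      LocCoh.depth (Localization.AtPrime Q) (LocalizedModule Q.primeCompl N) ∧
    Module.supportDim (Localization.AtPrime Q)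
        (LocalizedModule Q.primeCompl (N ⧸ (Ideal.ofList rs • ⊤ : Submodule B N))) + rs.length =
      Module.supportDim (Localization.AtPrime Q) (LocalizedModule Q.primeCompl N) := by
  induction hreg with
  | nil N =>
    intro _ _
    have e : (N ⧸ (Ideal.ofList ([] : List B) • ⊤ : Submodule B N)) ≃ₗ[B] N :=
      Submodule.quotEquivOfEqBot _ (by rw [Ideal.ofList_nil, Submodule.bot_smul])
    constructor
    · unfold LocCoh.depth
      rw [Groth.Agent.Lib.Helper28.idealDepth_congr
        (Groth.Agent.Lib.Helper28.localizedEquiv Q.primeCompl e)]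
      simp
    · rw [Module.supportDim_eq_of_equiv (Groth.Agent.Lib.Helper28.localizedEquiv Q.primeCompl e)]
      simp
  | @cons N _ _ r rs h1 h2 ih =>
    intro hfin hmem
    have e := Submodule.quotOfListConsSMulTopEquivQuotSMulTopInner N r rs
    have ih' := ih inferInstance (fun x hx => hmem x (List.mem_cons_of_mem _ hx))
    have hrQ : r ∈ Q := hmem r List.mem_cons_self
    have hd := Groth.Agent.Lib.Helper28.depth_localization_quotSMulTop Q hrQ h1
    have hreg' := Groth.Agent.Lib.Helper28.isSMulRegular_localizedModule Q h1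
    have hmemmax : algebraMap B (Localization.AtPrime Q) r ∈
        IsLocalRing.maximalIdeal (Localization.AtPrime Q) := by
      rw [← IsLocalization.mk'_one (M := Q.primeCompl) (Localization.AtPrime Q) r,
        IsLocalization.AtPrime.mk'_mem_maximal_iff (Localization.AtPrime Q) Q]
      exact hrQ
    have hs := Module.supportDim_quotSMulTop_succ_eq_supportDim hreg' hmemmax
    rw [← Module.supportDim_eq_of_equiv
      (Groth.Agent.Lib.Helper28.quotSMulTopLocalizedEquiv Q r)] at hs
    constructor
    · unfold LocCoh.depth at ih' hd ⊢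
      rw [Groth.Agent.Lib.Helper28.idealDepth_congr
        (Groth.Agent.Lib.Helper28.localizedEquiv Q.primeCompl e), List.length_cons]
      push_cast
      rw [← add_assoc, ih'.1, hd]
    · rw [Module.supportDim_eq_of_equiv (Groth.Agent.Lib.Helper28.localizedEquiv Q.primeCompl e),
        List.length_cons]
      push_cast
      rw [← add_assoc, ih'.2, hs]

end quot


theorem depth_supportDim_locLoc' {R : Type u} [CommRing R] (S₀ : Submonoid R)
    (M : Type u) [AddCommGroup M] [Module R M] [Module.Finite R M]
    (Q : Ideal (Localization S₀)) [Q.IsPrime] (q : Ideal R) [q.IsPrime]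
    (hq : Q.comap (algebraMap R (Localization S₀)) = q) :
    LocCoh.depth (Localization.AtPrime Q)
        (LocalizedModule Q.primeCompl (LocalizedModule S₀ M)) =
      LocCoh.depth (Localization.AtPrime q) (LocalizedModule q.primeCompl M) ∧
    Module.supportDim (Localization.AtPrime Q)
        (LocalizedModule Q.primeCompl (LocalizedModule S₀ M)) =
      Module.supportDim (Localization.AtPrime q) (LocalizedModule q.primeCompl M) := by
  subst hq
  exact depth_supportDim_locLoc S₀ M Q

section embedded

variable {B : Type u} [CommRing B] [IsNoetherianRing B]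

/-- If `depth N_Q = e < dim N_Q` and `depth N_{Q'} ≥ e` for all primes `Q' ⊇ Q`, then there is an
`N`-regular sequence `rs` of length `e` such that `Q` is an embedded associated prime of
`N/(rs)N`. -/
theorem exists_embedded_prime_of_depth_lt {N : Type u} [AddCommGroup N] [Module B N]
    [Module.Finite B N] (Q : Ideal B) [Q.IsPrime] (e : ℕ)
    (hd : LocCoh.depth (Localization.AtPrime Q) (LocalizedModule Q.primeCompl N) = (e : ℕ∞))
    (hdim : ((e : ℕ) : WithBot ℕ∞) <
      Module.supportDim (Localization.AtPrime Q) (LocalizedModule Q.primeCompl N))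
    (hge : ∀ (Q' : Ideal B) [Q'.IsPrime], Q ≤ Q' →
      (e : ℕ∞) ≤ LocCoh.depth (Localization.AtPrime Q') (LocalizedModule Q'.primeCompl N)) :
    ∃ rs : List B, rs.length = e ∧ IsWeaklyRegular N rs ∧
      ∃ P₀ ∈ associatedPrimes B (N ⧸ (Ideal.ofList rs • ⊤ : Submodule B N)),
        Q ∈ associatedPrimes B (N ⧸ (Ideal.ofList rs • ⊤ : Submodule B N)) ∧
          P₀ ≤ Q ∧ P₀ ≠ Q := by
  have hQN : Q • (⊤ : Submodule B N) ≠ ⊤ := by
    intro h
    haveI := Groth.Agent.Lib.Helper28.subsingleton_localizedModule_of_smul_top_eq Q Q le_rfl h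
    have h1 : LocCoh.depth (Localization.AtPrime Q) (LocalizedModule Q.primeCompl N) = ⊤ := by
      unfold LocCoh.depth
      exact Groth.Agent.Lib.Helper28.idealDepth_eq_top_of_subsingleton _
    rw [hd] at h1
    exact ENat.natCast_ne_top e h1
  have hle : (e : ℕ∞) ≤ LocCoh.idealDepth Q N :=
    Groth.Agent.Lib.Helper28.le_idealDepth_of_forall_localization Q e
      (fun Q' _ hQQ' _ => hge Q' hQQ')
  obtain ⟨rs, hlen, hmem, hreg⟩ := exists_isWeaklyRegular_of_le_idealDepth Q hQN e hle
  have hE := depth_supportDim_quot_ofList_localized Q hreg inferInstance hmem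
  rw [hlen] at hE
  obtain ⟨hE1, hE2⟩ := hE
  refine ⟨rs, hlen, hreg, ?_⟩
  have hdW0 : LocCoh.depth (Localization.AtPrime Q)
      (LocalizedModule Q.primeCompl (N ⧸ (Ideal.ofList rs • ⊤ : Submodule B N))) = 0 := by
    rw [hd] at hE1
    have h5 : LocCoh.depth (Localization.AtPrime Q)
        (LocalizedModule Q.primeCompl (N ⧸ (Ideal.ofList rs • ⊤ : Submodule B N))) + (e : ℕ∞) ≤
          0 + (e : ℕ∞) := by
      rw [zero_add]; exact hE1.le
    exact le_antisymm ((ENat.add_le_add_iff_right (ENat.natCast_ne_top e)).mp h5) zero_le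
  have hQass : Q ∈ associatedPrimes B (N ⧸ (Ideal.ofList rs • ⊤ : Submodule B N)) :=
    (depth_localizedModule_eq_zero_iff Q).mp hdW0
  have hnotmin : Q ∉
      (Module.annihilator B (N ⧸ (Ideal.ofList rs • ⊤ : Submodule B N))).minimalPrimes := by
    intro hmin
    have hle0 := supportDim_localizedModule_le_zero_of_mem_minimalPrimes Q hmin
    have h3 := add_le_add hle0 (le_refl ((e : ℕ) : WithBot ℕ∞))
    rw [hE2, zero_add] at h3
    exact absurd (lt_of_lt_of_le hdim h3) (lt_irrefl _)
  have hAnn : Module.annihilator B (N ⧸ (Ideal.ofList rs • ⊤ : Submodule B N)) ≤ Q := by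
    rw [← Submodule.annihilator_top]
    exact IsAssociatedPrime.annihilator_le hQass
  obtain ⟨P₀, hP₀, hP₀Q⟩ := Ideal.exists_minimalPrimes_le hAnn
  refine ⟨P₀, Module.associatedPrimes.minimalPrimes_annihilator_subset_associatedPrimes B _ hP₀,
    hQass, hP₀Q, ?_⟩
  rintro rfl
  exact hnotmin hP₀

end embedded

section relcodim

/-- `c_a(p) ≤ c_{aB}(P)` for `B = S⁻¹R`, `p = P ∩ R`. -/
theorem relCodim_le_relCodim_localization {R : Type u} [CommRing R] (S : Submonoid R)
    (a : Ideal R) (P : PrimeSpectrum (Localization S)) :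
    SGA2.relCodim a (⟨P.asIdeal.comap (algebraMap R (Localization S)), inferInstance⟩ :
        PrimeSpectrum R) ≤
      SGA2.relCodim (a.map (algebraMap R (Localization S))) P := by
  unfold SGA2.relCodim
  refine le_iInf (fun Q' => ?_)
  obtain ⟨Q', hPQ', haQ'⟩ := Q'
  have hpq' : (⟨P.asIdeal.comap (algebraMap R (Localization S)), inferInstance⟩ :
      PrimeSpectrum R) ≤
      (⟨Q'.asIdeal.comap (algebraMap R (Localization S)), inferInstance⟩ : PrimeSpectrum R) := by
    show P.asIdeal.comap (algebraMap R (Localization S)) ≤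
      Q'.asIdeal.comap (algebraMap R (Localization S))
    exact Ideal.comap_mono hPQ'
  have haq' : a ≤ Q'.asIdeal.comap (algebraMap R (Localization S)) :=
    Ideal.map_le_iff_le_comap.mp haQ'
  refine (iInf_le _ (⟨⟨Q'.asIdeal.comap (algebraMap R (Localization S)), inferInstance⟩,
    hpq', haq'⟩ : {q : PrimeSpectrum R //
      (⟨P.asIdeal.comap (algebraMap R (Localization S)), inferInstance⟩ : PrimeSpectrum R) ≤ q ∧
        a ≤ q.asIdeal})).trans ?_
  show Order.height (⟨⟨Q'.asIdeal.comap (algebraMap R (Localization S)), inferInstance⟩, hpq'⟩ :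
      Set.Ici (⟨P.asIdeal.comap (algebraMap R (Localization S)), inferInstance⟩ :
        PrimeSpectrum R)) ≤ Order.height (⟨Q', hPQ'⟩ : Set.Ici P)
  have hdisj : ∀ x : PrimeSpectrum R,
      x.asIdeal ≤ Q'.asIdeal.comap (algebraMap R (Localization S)) →
      Disjoint (S : Set R) (x.asIdeal : Set R) := by
    intro x hx
    rw [Set.disjoint_left]
    intro s hs hsx
    have h1 : algebraMap R (Localization S) s ∈ Q'.asIdeal := hx hsx
    exact Q'.2.ne_top (Ideal.eq_top_of_isUnit_mem _ h1
      (IsLocalization.map_units (Localization S) (⟨s, hs⟩ : S)))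
  have hcm : ∀ x : PrimeSpectrum R,
      x.asIdeal ≤ Q'.asIdeal.comap (algebraMap R (Localization S)) →
      (x.asIdeal.map (algebraMap R (Localization S))).comap (algebraMap R (Localization S)) =
        x.asIdeal := fun x hx =>
    IsLocalization.under_map_of_isPrime_disjoint S (Localization S) x.2 (hdisj x hx)
  let f : Set.Iic (⟨⟨Q'.asIdeal.comap (algebraMap R (Localization S)), inferInstance⟩, hpq'⟩ :
      Set.Ici (⟨P.asIdeal.comap (algebraMap R (Localization S)), inferInstance⟩ :
        PrimeSpectrum R)) → Set.Iic (⟨Q', hPQ'⟩ : Set.Ici P) := fun x =>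
    ⟨⟨⟨x.1.1.asIdeal.map (algebraMap R (Localization S)),
      IsLocalization.isPrime_of_isPrime_disjoint S (Localization S) _ x.1.1.2
        (hdisj x.1.1 x.2)⟩, by
        show P.asIdeal ≤ x.1.1.asIdeal.map (algebraMap R (Localization S))
        have hx1 : P.asIdeal.comap (algebraMap R (Localization S)) ≤ x.1.1.asIdeal := x.1.2
        exact (IsLocalization.map_comap S (Localization S) P.asIdeal).symm.le.trans
          (Ideal.map_mono hx1)⟩, by
        show x.1.1.asIdeal.map (algebraMap R (Localization S)) ≤ Q'.asIdeal
        exact Ideal.map_le_iff_le_comap.mpr x.2⟩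
  have hf : StrictMono f := by
    intro x y hxy
    have hxy' : x.1.1.asIdeal < y.1.1.asIdeal := hxy
    show x.1.1.asIdeal.map (algebraMap R (Localization S)) <
      y.1.1.asIdeal.map (algebraMap R (Localization S))
    rw [lt_iff_le_not_ge] at hxy' ⊢
    refine ⟨Ideal.map_mono hxy'.1, fun h => hxy'.2 ?_⟩
    have h2 := Ideal.comap_mono (f := algebraMap R (Localization S)) h
    rwa [hcm x.1.1 x.2, hcm y.1.1 y.2] at h2
  have := Order.krullDim_le_of_strictMono f hf
  rw [← Order.height_eq_krullDim_Iic, ← Order.height_eq_krullDim_Iic] at this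
  exact WithBot.coe_le_coe.mp this

end relcodim

end Groth.Agent.Lib.Helper4.LocTrans
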