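import Mathlib
import Groth.Prelude.Def_CAlg
import Groth.Agent.Lib.Helper4.FaltHt
import Groth.Agent.Lib.Helper4.FaltCat
import Groth.Agent.Lib.Helper4.RelCodim
import Groth.Agent.Lib.Helper4.LocTrans

/-!
# Generic additivity of dimension along `V(p)` (helper4)

* `supportDim_of_exact`: `dim N = max (dim M) (dim P)` for `0 → M → N → P → 0`.
* `exists_notMem_height_le_add`: for `J₀ ≤ p`, generically along `V(p)`,
  `ht(q/J₀) ≤ ht(p/J₀) + ht(q/p)`.
* `depth_supportDim_localizedModule_quot`: `(R/I)_q` versus `R_q/IR_q`.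
* `exists_notMem_supportDim_eq`: for a finite module `M`, generically along `V(p)`,
  `dim M_q = dim M_p + dim (R/p)_q`.
-/

set_option autoImplicit false
set_option linter.style.haveILetI false
set_option linter.unusedSectionVars false
set_option linter.unusedVariables false
set_option maxHeartbeats 800000

universe u

namespace Groth.Agent.Lib.Helper4.GenDim

open Groth.Agent.Lib.Helper4

section order

theorem supportDim_of_exact {A : Type u} [CommRing A] {M N P : Type u} [AddCommGroup M]
    [AddCommGroup N] [AddCommGroup P] [Module A M] [Module A N] [Module A P]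
    (f : M →ₗ[A] N) (g : N →ₗ[A] P) (h : Function.Exact f g) (hf : Function.Injective f)
    (hg : Function.Surjective g) :
    Module.supportDim A N = max (Module.supportDim A M) (Module.supportDim A P) := by
  apply le_antisymm
  · unfold Module.supportDim
    rw [Module.support_of_exact h hf hg]
    unfold Order.krullDim
    refine iSup_le (fun l => ?_)
    rcases l.head.2 with hA | hB
    · refine le_trans ?_ (le_max_left _ _)
      let l' : LTSeries (Module.support A M) :=
        { length := l.length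
          toFun := fun i => ⟨(l i).1, Module.mem_support_mono (LTSeries.head_le l i) hA⟩
          step := fun i => l.step i }
      exact le_iSup (fun l : LTSeries (Module.support A M) => (l.length : WithBot ℕ∞)) l'
    · refine le_trans ?_ (le_max_right _ _)
      let l' : LTSeries (Module.support A P) :=
        { length := l.length
          toFun := fun i => ⟨(l i).1, Module.mem_support_mono (LTSeries.head_le l i) hB⟩
          step := fun i => l.step i }
      exact le_iSup (fun l : LTSeries (Module.support A P) => (l.length : WithBot ℕ∞)) l'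
  · exact max_le (Module.supportDim_le_of_injective f hf)
      (Module.supportDim_le_of_surjective g hg)

end order

section RL

variable {R : Type u} [CommRing R] [IsNoetherianRing R]

/-- Generic sub-additivity of heights along `V(p)`, relative to an ideal `J₀ ≤ p`. -/
theorem exists_notMem_height_le_add (J₀ p : Ideal R) [hp : p.IsPrime] (h0 : J₀ ≤ p) :
    ∃ f ∉ p, ∀ (q : Ideal R) [q.IsPrime], p ≤ q → f ∉ q →
      (q.map (Ideal.Quotient.mk J₀)).height ≤
        (p.map (Ideal.Quotient.mk J₀)).height + (q.map (Ideal.Quotient.mk p)).height := by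
  classical
  have hsurj0 : Function.Surjective (Ideal.Quotient.mk J₀) := Ideal.Quotient.mk_surjective
  haveI hP : (p.map (Ideal.Quotient.mk J₀)).IsPrime :=
    Ideal.map_isPrime_of_surjective hsurj0 (by rw [Ideal.mk_ker]; exact h0)
  obtain ⟨s, hsmin, hscard⟩ :=
    Ideal.exists_finset_card_eq_height_of_isNoetherianRing (p.map (Ideal.Quotient.mk J₀))
  have hJP : Ideal.span (s : Set (R ⧸ J₀)) ≤ p.map (Ideal.Quotient.mk J₀) := hsmin.1.2
  have hfin : (Ideal.span (s : Set (R ⧸ J₀))).minimalPrimes.Finite :=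
    Ideal.finite_minimalPrimes_of_isNoetherianRing _ _
  have hK : ¬ ((hfin.toFinset.erase (p.map (Ideal.Quotient.mk J₀))).inf id) ≤
      p.map (Ideal.Quotient.mk J₀) := by
    intro hle
    obtain ⟨P', hP'T, hP'le⟩ := (Ideal.IsPrime.inf_le' hP).mp hle
    rw [Finset.mem_erase, Set.Finite.mem_toFinset] at hP'T
    exact hP'T.1 (le_antisymm hP'le (hsmin.2 hP'T.2.1 hP'le))
  obtain ⟨fbar, hfK, hfP⟩ := SetLike.not_le_iff_exists.mp hK
  obtain ⟨f, rfl⟩ := hsurj0 fbar
  have hfK' : ∀ P' ∈ (Ideal.span (s : Set (R ⧸ J₀))).minimalPrimes,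
      P' ≠ p.map (Ideal.Quotient.mk J₀) → Ideal.Quotient.mk J₀ f ∈ P' := by
    intro P' hP' hne
    exact (Submodule.mem_finsetInf.mp hfK) P' (by
      rw [Finset.mem_erase, Set.Finite.mem_toFinset]; exact ⟨hne, hP'⟩)
  refine ⟨f, fun hfp => hfP (Ideal.mem_map_of_mem _ hfp), ?_⟩
  intro q hq hpq hfq
  have h0q : J₀ ≤ q := h0.trans hpq
  haveI hQ : (q.map (Ideal.Quotient.mk J₀)).IsPrime :=
    Ideal.map_isPrime_of_surjective hsurj0 (by rw [Ideal.mk_ker]; exact h0q)
  have hfQ : Ideal.Quotient.mk J₀ f ∉ q.map (Ideal.Quotient.mk J₀) :=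
    fun h => hfq ((Ideal.mem_quotient_iff_mem h0q).mp h)
  have hPQ : p.map (Ideal.Quotient.mk J₀) ≤ q.map (Ideal.Quotient.mk J₀) := Ideal.map_mono hpq
  have hsQ : (s : Set (R ⧸ J₀)) ⊆ q.map (Ideal.Quotient.mk J₀) :=
    fun x hx => hPQ (hJP (Ideal.subset_span hx))
  have h1 := Ideal.height_le_height_add_encard_of_subset (s : Set (R ⧸ J₀)) hsQ
  rw [Set.encard_coe_eq_coe_finsetCard, hscard] at h1
  refine h1.trans ?_
  rw [add_comm]
  refine add_le_add le_rfl ?_
  have hJsQ : Ideal.span (s : Set (R ⧸ J₀)) ≤ q.map (Ideal.Quotient.mk J₀) := hJP.trans hPQ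
  have hsurjJ : Function.Surjective (Ideal.Quotient.mk (Ideal.span (s : Set (R ⧸ J₀)))) :=
    Ideal.Quotient.mk_surjective
  haveI hQ' : ((q.map (Ideal.Quotient.mk J₀)).map
      (Ideal.Quotient.mk (Ideal.span (s : Set (R ⧸ J₀))))).IsPrime :=
    Ideal.map_isPrime_of_surjective hsurjJ (by rw [Ideal.mk_ker]; exact hJsQ)
  have hcQ : ((q.map (Ideal.Quotient.mk J₀)).map
      (Ideal.Quotient.mk (Ideal.span (s : Set (R ⧸ J₀))))).comap
      (Ideal.Quotient.mk (Ideal.span (s : Set (R ⧸ J₀)))) = q.map (Ideal.Quotient.mk J₀) := by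
    rw [Ideal.comap_map_of_surjective _ hsurjJ, ← RingHom.ker_eq_comap_bot, Ideal.mk_ker]
    exact sup_eq_left.mpr hJsQ
  have hcq : (q.map (Ideal.Quotient.mk J₀)).comap (Ideal.Quotient.mk J₀) = q := by
    rw [Ideal.comap_map_of_surjective _ hsurj0, ← RingHom.ker_eq_comap_bot, Ideal.mk_ker]
    exact sup_eq_left.mpr h0q
  have hcp : (p.map (Ideal.Quotient.mk J₀)).comap (Ideal.Quotient.mk J₀) = p := by
    rw [Ideal.comap_map_of_surjective _ hsurj0, ← RingHom.ker_eq_comap_bot, Ideal.mk_ker]
    exact sup_eq_left.mpr h0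
  let pS : PrimeSpectrum R := ⟨p, hp⟩
  let qS : PrimeSpectrum R := ⟨q, hq⟩
  have hpqS : pS ≤ qS := hpq
  let Q'S : PrimeSpectrum ((R ⧸ J₀) ⧸ Ideal.span (s : Set (R ⧸ J₀))) := ⟨_, hQ'⟩
  have key : ∀ x : PrimeSpectrum ((R ⧸ J₀) ⧸ Ideal.span (s : Set (R ⧸ J₀))), x ≤ Q'S →
      p ≤ (x.asIdeal.comap (Ideal.Quotient.mk (Ideal.span (s : Set (R ⧸ J₀))))).comap
        (Ideal.Quotient.mk J₀) ∧
      (x.asIdeal.comap (Ideal.Quotient.mk (Ideal.span (s : Set (R ⧸ J₀))))).comap
        (Ideal.Quotient.mk J₀) ≤ q := by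
    intro x hx
    have hx' : x.asIdeal ≤ (q.map (Ideal.Quotient.mk J₀)).map
      (Ideal.Quotient.mk (Ideal.span (s : Set (R ⧸ J₀)))) := hx
    have hzQ : x.asIdeal.comap (Ideal.Quotient.mk (Ideal.span (s : Set (R ⧸ J₀)))) ≤
        q.map (Ideal.Quotient.mk J₀) := (Ideal.comap_mono hx').trans hcQ.le
    have hJz : Ideal.span (s : Set (R ⧸ J₀)) ≤
        x.asIdeal.comap (Ideal.Quotient.mk (Ideal.span (s : Set (R ⧸ J₀)))) := by
      intro y hy
      rw [Ideal.mem_comap, Ideal.Quotient.eq_zero_iff_mem.mpr hy]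
      exact Ideal.zero_mem _
    obtain ⟨P', hP'min, hP'z⟩ := Ideal.exists_minimalPrimes_le hJz
    have hP'eq : P' = p.map (Ideal.Quotient.mk J₀) := by
      by_contra hne
      exact hfQ (hzQ (hP'z (hfK' P' hP'min hne)))
    have hPz : p.map (Ideal.Quotient.mk J₀) ≤
        x.asIdeal.comap (Ideal.Quotient.mk (Ideal.span (s : Set (R ⧸ J₀)))) := hP'eq ▸ hP'z
    exact ⟨hcp.ge.trans (Ideal.comap_mono hPz), (Ideal.comap_mono hzQ).trans hcq.le⟩
  let g : Set.Iic Q'S → Set.Iic (⟨qS, hpqS⟩ : Set.Ici pS) := fun x =>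
    ⟨⟨⟨(x.1.asIdeal.comap (Ideal.Quotient.mk (Ideal.span (s : Set (R ⧸ J₀))))).comap
      (Ideal.Quotient.mk J₀), inferInstance⟩, (key x.1 x.2).1⟩, (key x.1 x.2).2⟩
  have hg : StrictMono g := by
    intro x y hxy
    have hxy' : x.1.asIdeal < y.1.asIdeal := hxy
    show (x.1.asIdeal.comap (Ideal.Quotient.mk (Ideal.span (s : Set (R ⧸ J₀))))).comap
        (Ideal.Quotient.mk J₀) <
      (y.1.asIdeal.comap (Ideal.Quotient.mk (Ideal.span (s : Set (R ⧸ J₀))))).comap
        (Ideal.Quotient.mk J₀)
    refine lt_of_le_of_ne (Ideal.comap_mono (Ideal.comap_mono hxy'.le)) (fun h => hxy'.ne ?_)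
    exact Ideal.comap_injective_of_surjective _ hsurjJ
      (Ideal.comap_injective_of_surjective _ hsurj0 h)
  have h2 := Order.krullDim_le_of_strictMono g hg
  rw [← Order.height_eq_krullDim_Iic, ← Order.height_eq_krullDim_Iic] at h2
  have h3 : Order.height Q'S ≤ Order.height (⟨qS, hpqS⟩ : Set.Ici pS) := WithBot.coe_le_coe.mp h2
  rw [height_Ici_eq pS qS hpqS] at h3
  have h4 : ((q.map (Ideal.Quotient.mk J₀)).map
      (Ideal.Quotient.mk (Ideal.span (s : Set (R ⧸ J₀))))).height = Order.height Q'S :=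
    PrimeSpectrum.height_eq_orderHeight Q'S
  rw [h4]
  exact h3

end RL

section quot

variable {R : Type u} [CommRing R] [IsNoetherianRing R]

/-- `(R/I)_q` and `R_q/IR_q` have the same depth and dimension. -/
theorem depth_supportDim_localizedModule_quot (I q : Ideal R) [q.IsPrime] :
    LocCoh.depth (Localization.AtPrime q)
        (Localization.AtPrime q ⧸ I.map (algebraMap R (Localization.AtPrime q))) =
      LocCoh.depth (Localization.AtPrime q) (LocalizedModule q.primeCompl (R ⧸ I)) ∧
    Module.supportDim (Localization.AtPrime q)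
        (Localization.AtPrime q ⧸ I.map (algebraMap R (Localization.AtPrime q))) =
      Module.supportDim (Localization.AtPrime q) (LocalizedModule q.primeCompl (R ⧸ I)) := by
  have hEq := Ideal.localized'_eq_map (Localization.AtPrime q) q.primeCompl I
  let e := Submodule.quotEquivOfEq _ _ hEq
  let g : (R ⧸ I) →ₗ[R]
      (Localization.AtPrime q ⧸ I.map (algebraMap R (Localization.AtPrime q))) :=
    (e.restrictScalars R).toLinearMap ∘ₗ
      (Submodule.toLocalizedQuotient' (Localization.AtPrime q) q.primeCompl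
        (Algebra.linearMap R (Localization.AtPrime q)) I)
  haveI : IsLocalizedModule q.primeCompl g :=
    IsLocalizedModule.of_linearEquiv q.primeCompl _ (e.restrictScalars R)
  exact LocTrans.depth_supportDim_of_isLocalizedModule q (Localization.AtPrime q) _ g

theorem supportDim_localizedModule_quot_prime (p₀ q : Ideal R) [p₀.IsPrime] [q.IsPrime]
    (h : p₀ ≤ q) :
    Module.supportDim (Localization.AtPrime q) (LocalizedModule q.primeCompl (R ⧸ p₀)) =
      (((q.map (Ideal.Quotient.mk p₀)).height : ℕ∞) : WithBot ℕ∞) := by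
  rw [← (depth_supportDim_localizedModule_quot p₀ q).2, Module.supportDim_quotient_eq_ringKrullDim,
    Falt.ringKrullDim_quotient_map_eq_height p₀ q h]

theorem subsingleton_localizedModule_of_kill {N : Type u} [AddCommGroup N] [Module R N]
    (q : Ideal R) [q.IsPrime] (g : R) (hg : g ∉ q) (hk : ∀ n : N, g • n = 0) :
    Subsingleton (LocalizedModule q.primeCompl N) := by
  rw [LocalizedModule.subsingleton_iff]
  intro m
  exact ⟨g, hg, hk m⟩

theorem supportDim_eq_bot_of_kill {N : Type u} [AddCommGroup N] [Module R N]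
    (q : Ideal R) [q.IsPrime] (g : R) (hg : g ∉ q) (hk : ∀ n : N, g • n = 0) :
    Module.supportDim (Localization.AtPrime q) (LocalizedModule q.primeCompl N) = ⊥ := by
  haveI := subsingleton_localizedModule_of_kill q g hg hk
  exact Module.supportDim_eq_bot_of_subsingleton _ _

theorem smul_quot_eq_zero (I : Ideal R) (f : R) (hf : f ∈ I) (y : R ⧸ I) : f • y = 0 := by
  rw [Algebra.smul_def, Ideal.Quotient.algebraMap_eq, Ideal.Quotient.eq_zero_iff_mem.mpr hf,
    zero_mul]

theorem supportDim_localized_of_exact (q : Ideal R) [q.IsPrime] {N₁ N₂ N₃ : Type u}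
    [AddCommGroup N₁] [Module R N₁] [AddCommGroup N₂] [Module R N₂] [AddCommGroup N₃]
    [Module R N₃] (f : N₁ →ₗ[R] N₂) (g : N₂ →ₗ[R] N₃) (hf : Function.Injective f)
    (hg : Function.Surjective g) (hfg : Function.Exact f g) :
    Module.supportDim (Localization.AtPrime q) (LocalizedModule q.primeCompl N₂) =
      max (Module.supportDim (Localization.AtPrime q) (LocalizedModule q.primeCompl N₁))
        (Module.supportDim (Localization.AtPrime q) (LocalizedModule q.primeCompl N₃)) :=
  supportDim_of_exact (LocalizedModule.map q.primeCompl f) (LocalizedModule.map q.primeCompl g)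
    (LocalizedModule.map_exact q.primeCompl f g hfg)
    (LocalizedModule.map_injective q.primeCompl f hf)
    (LocalizedModule.map_surjective q.primeCompl g hg)

/-- Generic additivity of dimension along `V(p)`. -/
theorem exists_notMem_supportDim_eq (p : Ideal R) [hp : p.IsPrime] (M : Type u) [AddCommGroup M]
    [Module R M] [Module.Finite R M] :
    ∃ f ∉ p, ∀ (q : Ideal R) [q.IsPrime], p ≤ q → f ∉ q →
      Module.supportDim (Localization.AtPrime q) (LocalizedModule q.primeCompl M) =
        Module.supportDim (Localization.AtPrime p) (LocalizedModule p.primeCompl M) +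
          Module.supportDim (Localization.AtPrime q)
            (LocalizedModule q.primeCompl (R ⧸ p)) := by
  have h1p : (1 : R) ∉ p := (Ideal.ne_top_iff_one p).mp hp.ne_top
  refine IsNoetherianRing.induction_on_isQuotientEquivQuotientPrime R
    (inferInstance : Module.Finite R M)
    (motive := fun (N : Type u) [AddCommGroup N] [Module R N] [Module.Finite R N] =>
      ∃ f ∉ p, ∀ (q : Ideal R) [q.IsPrime], p ≤ q → f ∉ q →
        Module.supportDim (Localization.AtPrime q) (LocalizedModule q.primeCompl N) =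
          Module.supportDim (Localization.AtPrime p) (LocalizedModule p.primeCompl N) +
            Module.supportDim (Localization.AtPrime q)
              (LocalizedModule q.primeCompl (R ⧸ p))) ?_ ?_ ?_
  · intro N _ _ _ _
    refine ⟨1, h1p, fun q hq _ hfq => ?_⟩
    have hk : ∀ n : N, (1 : R) • n = 0 := fun n => by rw [one_smul]; exact Subsingleton.elim _ _
    rw [supportDim_eq_bot_of_kill q 1 hfq hk, supportDim_eq_bot_of_kill p 1 h1p hk,
      WithBot.bot_add]
  · intro N _ _ _ p₀ e
    haveI := p₀.2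
    by_cases hle : p₀.asIdeal ≤ p
    · obtain ⟨f, hf, H⟩ := exists_notMem_height_le_add p₀.asIdeal p hle
      refine ⟨f, hf, fun q hq hpq hfq => ?_⟩
      rw [Module.supportDim_eq_of_equiv (Groth.Agent.Lib.Helper28.localizedEquiv q.primeCompl e),
        Module.supportDim_eq_of_equiv (Groth.Agent.Lib.Helper28.localizedEquiv p.primeCompl e),
        supportDim_localizedModule_quot_prime p₀.asIdeal q (hle.trans hpq),
        supportDim_localizedModule_quot_prime p₀.asIdeal p hle,
        supportDim_localizedModule_quot_prime p q hpq]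
      have h3 := le_antisymm (H q hpq hfq) (Falt.relHeight_add_le p₀.asIdeal p q hle hpq)
      rw [h3]
      exact WithBot.coe_add _ _
    · obtain ⟨f, hf₀, hfp⟩ := SetLike.not_le_iff_exists.mp hle
      have hkill : ∀ n : N, f • n = 0 := by
        intro n
        apply e.injective
        rw [map_smul, map_zero]
        exact smul_quot_eq_zero p₀.asIdeal f hf₀ (e n)
      refine ⟨f, hfp, fun q hq hpq hfq => ?_⟩
      rw [supportDim_eq_bot_of_kill q f hfq hkill, supportDim_eq_bot_of_kill p f hfp hkill,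
        WithBot.bot_add]
  · intro N₁ _ _ _ N₂ _ _ _ N₃ _ _ _ f g hf hg hfg ih₁ ih₃
    obtain ⟨f₁, hf₁, H₁⟩ := ih₁
    obtain ⟨f₃, hf₃, H₃⟩ := ih₃
    refine ⟨f₁ * f₃, fun h => (hp.mem_or_mem h).elim hf₁ hf₃, fun q hq hpq hfq => ?_⟩
    have hf₁q : f₁ ∉ q := fun h => hfq (q.mul_mem_right f₃ h)
    have hf₃q : f₃ ∉ q := fun h => hfq (q.mul_mem_left f₁ h)
    rw [supportDim_localized_of_exact q f g hf hg hfg,
      supportDim_localized_of_exact p f g hf hg hfg,
      H₁ q hpq hf₁q, H₃ q hpq hf₃q, max_add_add_right]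

end quot

end Groth.Agent.Lib.Helper4.GenDim
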