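import Mathlib
import Groth.Prelude.Def_CAlg
import Groth.Agent.Lib.Helper4.GenDim
import Groth.Agent.Lib.Helper4.DepthOpen
import Groth.Agent.Lib.Helper4.Sk
import Groth.Agent.Lib.Helper20.NormFlat
import Groth.Agent.Lib.Helper28.DepthLoc
import Groth.Agent.Lib.Helper28.Reflexive

/-!
# Generic additivity of depth along `V(p)` (helper4)

* `idealDepth_eq_of_ses_lt`: in `0 → N' → N → N'' → 0` with `depth N' = t < depth N''`,
  `depth N = t`.
* `exists_notMem_depth_eq_of_pow_kill`: if `p^k N = 0` then generically along `V(p)`,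
  `N_q = 0` or `depth N_q = depth (R/p)_q`.
* `exists_notMem_depth_eq`: for a finite module `M` with `M_p ≠ 0`, generically along `V(p)`,
  `depth M_q = depth M_p + depth (R/p)_q` (EGA IV 6.10.6).
-/

set_option autoImplicit false
set_option linter.style.haveILetI false
set_option linter.unusedSectionVars false
set_option linter.unusedVariables false
set_option maxHeartbeats 800000

universe u

open RingTheory.Sequence

namespace Groth.Agent.Lib.Helper4.GenDepth

open Groth.Agent.Lib.Helper4

section ses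

variable {R : Type u} [CommRing R] [IsNoetherianRing R]

theorem idealDepth_eq_of_ses_lt (J : Ideal R) (t : ℕ∞) {N' N N'' : Type u}
    [AddCommGroup N'] [Module R N'] [Module.Finite R N']
    [AddCommGroup N] [Module R N] [Module.Finite R N]
    [AddCommGroup N''] [Module R N''] [Module.Finite R N'']
    (f : N' →ₗ[R] N) (g : N →ₗ[R] N'') (hf : Function.Injective f)
    (hg : Function.Surjective g) (hfg : Function.Exact f g)
    (h' : LocCoh.idealDepth J N' = t) (h'' : t < LocCoh.idealDepth J N'') :
    LocCoh.idealDepth J N = t := by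
  obtain ⟨h1, -, h3⟩ := idealDepth_shortExact J f g hf hg hfg
  rw [h'] at h1 h3
  apply le_antisymm
  · by_contra hlt
    rw [not_le] at hlt
    exact absurd h3 (not_le.mpr (lt_min hlt (lt_of_lt_of_le h'' le_self_add)))
  · rw [min_eq_left h''.le] at h1
    exact h1

theorem exists_nat_le_of_lt_top (x : WithBot ℕ∞) (h : x < ⊤) :
    ∃ d : ℕ, x ≤ (d : WithBot ℕ∞) := by
  induction x with
  | bot => exact ⟨0, bot_le⟩
  | coe a =>
    induction a with
    | top => exact absurd h (lt_irrefl _)
    | coe k => exact ⟨k, by exact_mod_cast le_refl (k : WithBot ℕ∞)⟩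

theorem supportDim_quotient_congr_zeroLocus {B : Type u} [CommRing B] (J₁ J₂ : Ideal B)
    (h : PrimeSpectrum.zeroLocus (J₁ : Set B) = PrimeSpectrum.zeroLocus (J₂ : Set B)) :
    Module.supportDim B (B ⧸ J₁) = Module.supportDim B (B ⧸ J₂) := by
  unfold Module.supportDim
  rw [Module.support_eq_zeroLocus, Module.support_eq_zeroLocus, Ideal.annihilator_quotient,
    Ideal.annihilator_quotient, h]

end ses

section basics

variable {R : Type u} [CommRing R] [IsNoetherianRing R]

theorem nontrivial_localized_of_colon (p q : Ideal R) [q.IsPrime] (hpq : p ≤ q) (L : Type u)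
    [AddCommGroup L] [Module R L] (w : L) (hw : ∀ r : R, r • w = 0 → r ∈ p) :
    Nontrivial (LocalizedModule q.primeCompl L) := by
  refine ⟨⟨LocalizedModule.mk w (1 : q.primeCompl), 0, fun h => ?_⟩⟩
  rw [← LocalizedModule.zero_mk (1 : q.primeCompl), LocalizedModule.mk_eq] at h
  obtain ⟨t, ht⟩ := h
  simp only [one_smul, smul_zero] at ht
  exact t.2 (hpq (hw t ht))

theorem nontrivial_localizedModule_quot (I q : Ideal R) [q.IsPrime] (hIq : I ≤ q) :
    Nontrivial (LocalizedModule q.primeCompl (R ⧸ I)) := by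
  refine nontrivial_localized_of_colon I q hIq (R ⧸ I) 1 (fun r hr => ?_)
  rw [Algebra.smul_def, mul_one, Ideal.Quotient.algebraMap_eq,
    Ideal.Quotient.eq_zero_iff_mem] at hr
  exact hr

theorem depth_localized_ne_top (q : Ideal R) [q.IsPrime] (L : Type u) [AddCommGroup L]
    [Module R L] [Module.Finite R L] [Nontrivial (LocalizedModule q.primeCompl L)] :
    LocCoh.depth (Localization.AtPrime q) (LocalizedModule q.primeCompl L) ≠ ⊤ :=
  idealDepth_ne_top _ (maximalIdeal_smul_top_ne_top (R := Localization.AtPrime q)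
    (M := LocalizedModule q.primeCompl L))

variable {M : Type u} [AddCommGroup M] [Module R M] [Module.Finite R M]

theorem depth_localized_quotSMulTop_add_one (q : Ideal R) [q.IsPrime] (x : R) (hxq : x ∈ q)
    (hreg : IsSMulRegular (LocalizedModule q.primeCompl M)
      (algebraMap R (Localization.AtPrime q) x)) :
    LocCoh.depth (Localization.AtPrime q) (LocalizedModule q.primeCompl (QuotSMulTop x M)) + 1 =
      LocCoh.depth (Localization.AtPrime q) (LocalizedModule q.primeCompl M) := by
  unfold LocCoh.depth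
  rw [idealDepth_congr _ (Groth.Agent.Lib.Helper28.quotSMulTopLocalizedEquiv q x)]
  exact idealDepth_quotSMulTop_add_one _ _
    ((IsLocalization.AtPrime.to_map_mem_maximal_iff _ q x).mpr hxq) hreg

theorem supportDim_localized_quotSMulTop_add_one (q : Ideal R) [q.IsPrime] (x : R) (hxq : x ∈ q)
    (hreg : IsSMulRegular (LocalizedModule q.primeCompl M)
      (algebraMap R (Localization.AtPrime q) x)) :
    Module.supportDim (Localization.AtPrime q)
        (LocalizedModule q.primeCompl (QuotSMulTop x M)) + 1 =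
      Module.supportDim (Localization.AtPrime q) (LocalizedModule q.primeCompl M) := by
  rw [Module.supportDim_eq_of_equiv (Groth.Agent.Lib.Helper28.quotSMulTopLocalizedEquiv q x)]
  exact Module.supportDim_quotSMulTop_succ_eq_supportDim hreg
    ((IsLocalization.AtPrime.to_map_mem_maximal_iff _ q x).mpr hxq)

theorem nontrivial_localized_quotSMulTop (q : Ideal R) [q.IsPrime] (x : R) (hxq : x ∈ q)
    [Nontrivial (LocalizedModule q.primeCompl M)] :
    Nontrivial (LocalizedModule q.primeCompl (QuotSMulTop x M)) := by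
  haveI : Nontrivial (QuotSMulTop (algebraMap R (Localization.AtPrime q) x)
      (LocalizedModule q.primeCompl M)) :=
    nontrivial_quotSMulTop_of_mem_maximalIdeal (LocalizedModule q.primeCompl M)
      ((IsLocalization.AtPrime.to_map_mem_maximal_iff _ q x).mpr hxq)
  exact (Groth.Agent.Lib.Helper28.quotSMulTopLocalizedEquiv q x).toEquiv.nontrivial

end basics

section powKill

variable {R : Type u} [CommRing R] [IsNoetherianRing R]

/-- If `p^k N = 0`, then generically along `V(p)`, `N_q = 0` or
`depth N_q = depth (R/p)_q`. -/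
theorem exists_notMem_depth_eq_of_pow_kill (p : Ideal R) [hp : p.IsPrime] (k : ℕ) (N : Type u)
    [AddCommGroup N] [Module R N] [Module.Finite R N] (hk : ∀ a ∈ p ^ k, ∀ n : N, a • n = 0) :
    ∃ f ∉ p, ∀ (q : Ideal R) [q.IsPrime], p ≤ q → f ∉ q →
      Subsingleton (LocalizedModule q.primeCompl N) ∨
      LocCoh.depth (Localization.AtPrime q) (LocalizedModule q.primeCompl N) =
        LocCoh.depth (Localization.AtPrime q) (LocalizedModule q.primeCompl (R ⧸ p)) := by
  have h1p : (1 : R) ∉ p := (Ideal.ne_top_iff_one p).mp hp.ne_top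
  refine (IsNoetherianRing.induction_on_isQuotientEquivQuotientPrime R
    (inferInstance : Module.Finite R N)
    (motive := fun (N : Type u) [AddCommGroup N] [Module R N] [Module.Finite R N] =>
      (∀ a ∈ p ^ k, ∀ n : N, a • n = 0) →
      ∃ f ∉ p, ∀ (q : Ideal R) [q.IsPrime], p ≤ q → f ∉ q →
        Subsingleton (LocalizedModule q.primeCompl N) ∨
        LocCoh.depth (Localization.AtPrime q) (LocalizedModule q.primeCompl N) =
          LocCoh.depth (Localization.AtPrime q) (LocalizedModule q.primeCompl (R ⧸ p)))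
    ?_ ?_ ?_) hk
  · intro N _ _ _ _ _
    refine ⟨1, h1p, fun q hq _ hfq => Or.inl ?_⟩
    exact GenDim.subsingleton_localizedModule_of_kill q 1 hfq (fun n => Subsingleton.elim _ _)
  · intro N _ _ _ p₀ e hkN
    haveI := p₀.2
    have hpp₀ : p ≤ p₀.asIdeal := by
      intro a ha
      have h2 := hkN (a ^ k) (Ideal.pow_mem_pow ha k) (e.symm 1)
      have h3 : (a ^ k) • (1 : R ⧸ p₀.asIdeal) = 0 := by
        have := congrArg e h2
        rwa [map_smul, e.apply_symm_apply, map_zero] at this
      rw [Algebra.smul_def, mul_one, Ideal.Quotient.algebraMap_eq,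
        Ideal.Quotient.eq_zero_iff_mem] at h3
      exact p₀.2.mem_of_pow_mem k h3
    by_cases hle : p₀.asIdeal ≤ p
    · have heq : p₀.asIdeal = p := le_antisymm hle hpp₀
      let e' : N ≃ₗ[R] (R ⧸ p) := e.trans (Submodule.quotEquivOfEq _ _ heq)
      refine ⟨1, h1p, fun q hq _ _ => Or.inr ?_⟩
      unfold LocCoh.depth
      exact Groth.Agent.Lib.Helper28.idealDepth_congr
        (Groth.Agent.Lib.Helper28.localizedEquiv q.primeCompl e') _
    · obtain ⟨f, hf₀, hfp⟩ := SetLike.not_le_iff_exists.mp hle
      have hkill : ∀ n : N, f • n = 0 := by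
        intro n
        apply e.injective
        rw [map_smul, map_zero]
        exact GenDim.smul_quot_eq_zero p₀.asIdeal f hf₀ (e n)
      exact ⟨f, hfp, fun q hq _ hfq =>
        Or.inl (GenDim.subsingleton_localizedModule_of_kill q f hfq hkill)⟩
  · intro N₁ _ _ _ N₂ _ _ _ N₃ _ _ _ f g hf hg hfg ih₁ ih₃ hk₂
    have hk₁ : ∀ a ∈ p ^ k, ∀ n : N₁, a • n = 0 := by
      intro a ha n
      apply hf
      rw [map_smul, map_zero]
      exact hk₂ a ha (f n)
    have hk₃ : ∀ a ∈ p ^ k, ∀ n : N₃, a • n = 0 := by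
      intro a ha n
      obtain ⟨n₂, rfl⟩ := hg n
      rw [← map_smul, hk₂ a ha n₂, map_zero]
    obtain ⟨f₁, hf₁, H₁⟩ := ih₁ hk₁
    obtain ⟨f₃, hf₃, H₃⟩ := ih₃ hk₃
    refine ⟨f₁ * f₃, fun h => (hp.mem_or_mem h).elim hf₁ hf₃, fun q hq hpq hfq => ?_⟩
    have hf₁q : f₁ ∉ q := fun h => hfq (q.mul_mem_right f₃ h)
    have hf₃q : f₃ ∉ q := fun h => hfq (q.mul_mem_left f₁ h)
    by_cases hs : Subsingleton (LocalizedModule q.primeCompl N₂)
    · exact Or.inl hs
    · rw [not_subsingleton_iff_nontrivial] at hs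
      have h1 := H₁ q hpq hf₁q
      have h3 := H₃ q hpq hf₃q
      unfold LocCoh.depth at h1 h3 ⊢
      exact Or.inr (Groth.Agent.Lib.Helper20.NormFlat.idealDepth_eq_of_ses _ _
        (LocalizedModule.map q.primeCompl f) (LocalizedModule.map q.primeCompl g)
        (LocalizedModule.map_injective q.primeCompl f hf)
        (LocalizedModule.map_surjective q.primeCompl g hg)
        (LocalizedModule.map_exact q.primeCompl f g hfg) h1 h3)

end powKill

section main

variable {R : Type u} [CommRing R] [IsNoetherianRing R]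

/-- Generic additivity of depth along `V(p)` for `M`. -/
def GF (p : Ideal R) [p.IsPrime] (M : Type u) [AddCommGroup M] [Module R M] : Prop :=
  ∃ f ∉ p, ∀ (q : Ideal R) [q.IsPrime], p ≤ q → f ∉ q →
    LocCoh.depth (Localization.AtPrime q) (LocalizedModule q.primeCompl M) =
      LocCoh.depth (Localization.AtPrime p) (LocalizedModule p.primeCompl M) +
        LocCoh.depth (Localization.AtPrime q) (LocalizedModule q.primeCompl (R ⧸ p))

def PP (p : Ideal R) [p.IsPrime] (s : ℕ) : Prop :=
  ∀ (M : Type u) [AddCommGroup M] [Module R M] [Module.Finite R M],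
    Nontrivial (LocalizedModule p.primeCompl M) →
    Module.supportDim (Localization.AtPrime p) (LocalizedModule p.primeCompl M) ≤
      (s : WithBot ℕ∞) →
    GF p M

def QQ (p : Ideal R) [p.IsPrime] (s : ℕ) : Prop :=
  ∀ (M : Type u) [AddCommGroup M] [Module R M] [Module.Finite R M],
    Nontrivial (LocalizedModule p.primeCompl M) →
    Module.supportDim (Localization.AtPrime p) (LocalizedModule p.primeCompl M) ≤
      (s : WithBot ℕ∞) →
    1 ≤ LocCoh.depth (Localization.AtPrime p) (LocalizedModule p.primeCompl M) →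
    GF p M

theorem QQ_zero (p : Ideal R) [hp : p.IsPrime] : QQ p 0 := by
  intro M _ _ _ hnt hs hd
  exfalso
  have h1 := Groth.Agent.Lib.Helper28.depth_le_supportDim (R := Localization.AtPrime p)
    (M := LocalizedModule p.primeCompl M)
  have h2 : ((1 : ℕ∞) : WithBot ℕ∞) ≤ (((0 : ℕ) : ℕ∞) : WithBot ℕ∞) :=
    (WithBot.coe_le_coe.mpr hd).trans (h1.trans hs)
  have h3 : (1 : ℕ∞) ≤ ((0 : ℕ) : ℕ∞) := WithBot.coe_le_coe.mp h2
  simp at h3

theorem QQ_succ_of_PP (p : Ideal R) [hp : p.IsPrime] (s : ℕ) (hP : PP p s) : QQ p (s + 1) := by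
  intro M _ _ _ hnt hs hd
  have hmM := maximalIdeal_smul_top_ne_top (R := Localization.AtPrime p)
    (M := LocalizedModule p.primeCompl M)
  have hmap : p.map (algebraMap R (Localization.AtPrime p)) =
      IsLocalRing.maximalIdeal (Localization.AtPrime p) :=
    IsLocalization.AtPrime.map_eq_maximalIdeal p _
  have hd2 := hd
  unfold LocCoh.depth at hd2
  have hd' : ((1 : ℕ) : ℕ∞) ≤ LocCoh.idealDepth (p.map (algebraMap R (Localization.AtPrime p)))
      (LocalizedModule p.primeCompl M) := by
    rw [hmap]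
    exact_mod_cast hd2
  obtain ⟨rs, hmem, hlen, hrs⟩ := exists_isWeaklyRegular_map_of_le_idealDepth p.primeCompl p 1
    (LocalizedModule p.primeCompl M) (by rw [hmap]; exact hmM) hd'
  match rs, hlen, hmem, hrs with
  | [x], _, hmem, hrs =>
    have hxp : x ∈ p := hmem x (by simp)
    have hreg : IsSMulRegular (LocalizedModule p.primeCompl M)
        (algebraMap R (Localization.AtPrime p) x) := by
      simpa [isWeaklyRegular_singleton_iff] using hrs
    haveI hnt₁ : Nontrivial (LocalizedModule p.primeCompl (QuotSMulTop x M)) :=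
      nontrivial_localized_quotSMulTop p x hxp
    have hdim₁ := supportDim_localized_quotSMulTop_add_one p x hxp hreg
    have hs₁ : Module.supportDim (Localization.AtPrime p)
        (LocalizedModule p.primeCompl (QuotSMulTop x M)) ≤ (s : WithBot ℕ∞) := by
      rw [← hdim₁, Nat.cast_add, Nat.cast_one] at hs
      exact ENat.WithBot.add_le_add_one_right_iff.mp hs
    obtain ⟨f₁, hf₁, H₁⟩ := hP (QuotSMulTop x M) hnt₁ hs₁
    obtain ⟨g, hg, hgK⟩ := exists_notMem_smul_ker_eq_zero p x hreg
    refine ⟨f₁ * g, fun h => (hp.mem_or_mem h).elim hf₁ hg, fun q hq hpq hfq => ?_⟩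
    have hf₁q : f₁ ∉ q := fun h => hfq (q.mul_mem_right g h)
    have hgq : g ∉ q := fun h => hfq (q.mul_mem_left f₁ h)
    have hregq := isSMulRegular_localizedModule_of_ker (M := M) q x g hgq hgK
    have h3 := H₁ q hpq hf₁q
    rw [← depth_localized_quotSMulTop_add_one q x (hpq hxp) hregq,
      ← depth_localized_quotSMulTop_add_one p x hxp hreg, h3]
    exact add_right_comm _ _ _

/-- the submodule of elements killed by `I` -/
def killed (I : Ideal R) (M : Type u) [AddCommGroup M] [Module R M] : Submodule R M where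
  carrier := {m | ∀ a ∈ I, a • m = 0}
  add_mem' := by
    intro x y hx hy a ha
    rw [smul_add, hx a ha, hy a ha, add_zero]
  zero_mem' := fun a _ => smul_zero a
  smul_mem' := by
    intro c x hx a ha
    rw [smul_comm, hx a ha, smul_zero]

theorem GF_of_submodule (p : Ideal R) [hp : p.IsPrime] (s : ℕ) (hQ : QQ p s) (M : Type u)
    [AddCommGroup M] [Module R M] [Module.Finite R M]
    (hs : Module.supportDim (Localization.AtPrime p) (LocalizedModule p.primeCompl M) ≤
      (s : WithBot ℕ∞))
    (hd0 : LocCoh.depth (Localization.AtPrime p) (LocalizedModule p.primeCompl M) = 0)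
    (N : Submodule R M) (k : ℕ) (hNk : ∀ a ∈ p ^ k, ∀ n ∈ N, a • n = 0)
    (w : M) (hwN : w ∈ N) (hw : ∀ r : R, r • w = 0 → r ∈ p)
    (hnotass : p ∉ associatedPrimes R (M ⧸ N)) : GF p M := by
  obtain ⟨f₁, hf₁, H₁⟩ := exists_notMem_depth_eq_of_pow_kill p k N
    (fun a ha n => Subtype.ext (hNk a ha n.1 n.2))
  have hC : ∃ f₂ ∉ p, ∀ (q : Ideal R) [q.IsPrime], p ≤ q → f₂ ∉ q →
      LocCoh.depth (Localization.AtPrime q) (LocalizedModule q.primeCompl (R ⧸ p)) <
        LocCoh.depth (Localization.AtPrime q) (LocalizedModule q.primeCompl (M ⧸ N)) := by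
    by_cases hnt' : Nontrivial (LocalizedModule p.primeCompl (M ⧸ N))
    · have hd' : 1 ≤ LocCoh.depth (Localization.AtPrime p)
          (LocalizedModule p.primeCompl (M ⧸ N)) := by
        rw [Order.one_le_iff_ne_zero]
        intro h0
        exact hnotass ((depth_localizedModule_eq_zero_iff p).mp h0)
      have hs' : Module.supportDim (Localization.AtPrime p)
          (LocalizedModule p.primeCompl (M ⧸ N)) ≤ (s : WithBot ℕ∞) :=
        (Module.supportDim_le_of_surjective (LocalizedModule.map p.primeCompl N.mkQ)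
          (LocalizedModule.map_surjective p.primeCompl N.mkQ N.mkQ_surjective)).trans hs
      obtain ⟨f₂, hf₂, H₂⟩ := hQ (M ⧸ N) hnt' hs' hd'
      refine ⟨f₂, hf₂, fun q hq hpq hfq => ?_⟩
      haveI := nontrivial_localizedModule_quot p q hpq
      have ht := depth_localized_ne_top q (R ⧸ p)
      rw [H₂ q hpq hfq]
      calc LocCoh.depth (Localization.AtPrime q) (LocalizedModule q.primeCompl (R ⧸ p))
          < LocCoh.depth (Localization.AtPrime q) (LocalizedModule q.primeCompl (R ⧸ p)) + 1 :=
            (ENat.lt_add_one_iff ht).mpr le_rfl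
        _ ≤ LocCoh.depth (Localization.AtPrime q) (LocalizedModule q.primeCompl (R ⧸ p)) +
            LocCoh.depth (Localization.AtPrime p) (LocalizedModule p.primeCompl (M ⧸ N)) :=
            add_le_add le_rfl hd'
        _ = _ := add_comm _ _
    · rw [not_nontrivial_iff_subsingleton] at hnt'
      obtain ⟨f₂, hf₂, hkill⟩ := exists_notMem_forall_smul_eq_zero (M ⧸ N) p
        (Module.notMem_support_iff'.mp
          ((Module.notMem_support_iff (p := ⟨p, inferInstance⟩)).mpr hnt'))
      refine ⟨f₂, hf₂, fun q hq hpq hfq => ?_⟩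
      haveI := nontrivial_localizedModule_quot p q hpq
      have ht := depth_localized_ne_top q (R ⧸ p)
      haveI := GenDim.subsingleton_localizedModule_of_kill q f₂ hfq hkill
      rw [depth_eq_top_of_subsingleton (R := Localization.AtPrime q)
        (M := LocalizedModule q.primeCompl (M ⧸ N))]
      exact lt_top_iff_ne_top.mpr ht
  obtain ⟨f₂, hf₂, H₂⟩ := hC
  refine ⟨f₁ * f₂, fun h => (hp.mem_or_mem h).elim hf₁ hf₂, fun q hq hpq hfq => ?_⟩
  have hf₁q : f₁ ∉ q := fun h => hfq (q.mul_mem_right f₂ h)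
  have hf₂q : f₂ ∉ q := fun h => hfq (q.mul_mem_left f₁ h)
  haveI hNq : Nontrivial (LocalizedModule q.primeCompl N) :=
    nontrivial_localized_of_colon p q hpq N ⟨w, hwN⟩
      (fun r hr => hw r (congrArg Subtype.val hr))
  have hN1 : LocCoh.depth (Localization.AtPrime q) (LocalizedModule q.primeCompl N) =
      LocCoh.depth (Localization.AtPrime q) (LocalizedModule q.primeCompl (R ⧸ p)) := by
    rcases H₁ q hpq hf₁q with h | h
    · exact absurd h (not_subsingleton _)
    · exact h
  have h2 := H₂ q hpq hf₂q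
  rw [hd0, zero_add]
  unfold LocCoh.depth at hN1 h2 ⊢
  exact idealDepth_eq_of_ses_lt _ _ (LocalizedModule.map q.primeCompl N.subtype)
    (LocalizedModule.map q.primeCompl N.mkQ)
    (LocalizedModule.map_injective q.primeCompl N.subtype N.injective_subtype)
    (LocalizedModule.map_surjective q.primeCompl N.mkQ N.mkQ_surjective)
    (LocalizedModule.map_exact q.primeCompl N.subtype N.mkQ (LinearMap.exact_subtype_mkQ N))
    hN1 h2

theorem PP_of_QQ (p : Ideal R) [hp : p.IsPrime] (s : ℕ) (hQ : QQ p s) : PP p s := by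
  intro M _ _ _ hnt hs
  by_cases hd : 1 ≤ LocCoh.depth (Localization.AtPrime p) (LocalizedModule p.primeCompl M)
  · exact hQ M hnt hs hd
  have hd0 : LocCoh.depth (Localization.AtPrime p) (LocalizedModule p.primeCompl M) = 0 := by
    rw [Order.one_le_iff_ne_zero, not_not] at hd
    exact hd
  have hass : p ∈ associatedPrimes R M := (depth_localizedModule_eq_zero_iff p).mp hd0
  obtain ⟨-, m₀, hm₀⟩ := isAssociatedPrime_iff.mp hass
  have hm₀' : ∀ r : R, r • m₀ = 0 ↔ r ∈ p := by
    intro r
    conv_rhs => rw [hm₀]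
    rw [Submodule.mem_colon_singleton, Submodule.mem_bot]
  have hmono : Monotone (fun j : ℕ => killed (p ^ j) M) := by
    intro i j hij m hm a ha
    exact hm a (Ideal.pow_le_pow_right hij ha)
  obtain ⟨k₀, hk₀⟩ := monotone_stabilizes_iff_noetherian.mpr (inferInstance : IsNoetherian R M)
    ⟨fun j : ℕ => killed (p ^ j) M, hmono⟩
  have h1 : killed (p ^ k₀) M = killed (p ^ (k₀ + 1)) M := hk₀ (k₀ + 1) (Nat.le_succ _)
  have h2 : killed (p ^ k₀) M = killed (p ^ (k₀ + 1 + 1)) M := hk₀ (k₀ + 1 + 1) (by omega)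
  have hstab : killed (p ^ (k₀ + 1 + 1)) M = killed (p ^ (k₀ + 1)) M := h2.symm.trans h1
  refine GF_of_submodule p s hQ M hs hd0 (killed (p ^ (k₀ + 1)) M) (k₀ + 1)
    (fun a ha n hn => hn a ha) m₀ ?_ (fun r hr => (hm₀' r).mp hr) ?_
  · intro a ha
    exact (hm₀' a).mpr (Ideal.pow_le_self (Nat.succ_ne_zero k₀) ha)
  · intro hass'
    obtain ⟨-, mbar, hmbar⟩ := isAssociatedPrime_iff.mp hass'
    obtain ⟨m, rfl⟩ := Submodule.mkQ_surjective _ mbar
    have hmb : ∀ r : R, r ∈ p ↔ r • m ∈ killed (p ^ (k₀ + 1)) M := by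
      intro r
      conv_lhs => rw [hmbar]
      rw [Submodule.mem_colon_singleton, Submodule.mem_bot, ← map_smul, Submodule.mkQ_apply,
        Submodule.Quotient.mk_eq_zero]
    have hmem : m ∈ killed (p ^ (k₀ + 1)) M := by
      rw [← hstab]
      intro c hc
      rw [pow_succ] at hc
      refine Submodule.mul_induction_on (C := fun c => c • m = 0) hc
        (fun b hb a ha => ?_) (fun x y hx hy => ?_)
      · show (b * a) • m = 0
        rw [mul_smul]
        exact (hmb a).mp ha b hb
      · show (x + y) • m = 0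
        rw [add_smul, hx, hy, add_zero]
    have h1p : (1 : R) ∈ p := (hmb 1).mpr (by rw [one_smul]; exact hmem)
    exact hp.ne_top ((Ideal.eq_top_iff_one p).mpr h1p)

theorem PP_all (p : Ideal R) [hp : p.IsPrime] : ∀ s : ℕ, PP p s := by
  intro s
  induction s with
  | zero => exact PP_of_QQ p 0 (QQ_zero p)
  | succ s ih => exact PP_of_QQ p (s + 1) (QQ_succ_of_PP p s ih)

/-- Generic additivity of depth along `V(p)` (EGA IV 6.10.6). -/
theorem exists_notMem_depth_eq (p : Ideal R) [hp : p.IsPrime] (M : Type u) [AddCommGroup M]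
    [Module R M] [Module.Finite R M] [hnt : Nontrivial (LocalizedModule p.primeCompl M)] :
    ∃ f ∉ p, ∀ (q : Ideal R) [q.IsPrime], p ≤ q → f ∉ q →
      LocCoh.depth (Localization.AtPrime q) (LocalizedModule q.primeCompl M) =
        LocCoh.depth (Localization.AtPrime p) (LocalizedModule p.primeCompl M) +
          LocCoh.depth (Localization.AtPrime q) (LocalizedModule q.primeCompl (R ⧸ p)) := by
  have hlt : Module.supportDim (Localization.AtPrime p) (LocalizedModule p.primeCompl M) < ⊤ :=
    lt_of_le_of_lt (Module.supportDim_le_ringKrullDim _ _) ringKrullDim_lt_top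
  obtain ⟨s, hs⟩ := exists_nat_le_of_lt_top _ hlt
  exact PP_all p s M hnt hs

end main

end Groth.Agent.Lib.Helper4.GenDepth
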