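import Mathlib

/-!
# A variant of Nagata's openness criterion (helper4)

In a Noetherian quasi-sober space, the set of specializations of points of a set `B` is closed as
soon as every point `p` having no generization in `B` has an open neighbourhood `O` such that
`O ∩ closure {p}` misses `B`.
-/

set_option autoImplicit false

open TopologicalSpace Set

namespace Groth.Agent.Lib.Helper4.NagataGen

variable {α : Type*} [TopologicalSpace α]

theorem isClosed_specClosure [NoetherianSpace α] [QuasiSober α] (B : Set α)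
    (hL : ∀ p : α, (∀ q' ∈ B, ¬ q' ⤳ p) →
      ∃ O : Set α, IsOpen O ∧ p ∈ O ∧ ∀ y ∈ O ∩ closure {p}, y ∉ B) :
    IsClosed {q | ∃ q' ∈ B, q' ⤳ q} := by
  classical
  obtain ⟨S, hSfin, hSc, hSi, hSU⟩ :=
    NoetherianSpace.exists_finite_set_isClosed_irreducible (isClosed_closure (s := B))
  have hgp : ∀ t ∈ S, ∃ ξ, closure {ξ} = t := fun t ht =>
    ⟨(hSi t ht).genericPoint, (hSi t ht).closure_genericPoint (hSc t ht)⟩
  obtain ⟨S'', hS''⟩ : ∃ S'' : Set (Set α),
      ∀ t, t ∈ S'' ↔ (t ∈ S ∧ ∀ ξ, closure {ξ} = t → ∀ q' ∈ B, ¬ q' ⤳ ξ) :=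
    ⟨{t | t ∈ S ∧ ∀ ξ, closure {ξ} = t → ∀ q' ∈ B, ¬ q' ⤳ ξ}, fun t => Iff.rfl⟩
  have hS''fin : S''.Finite := hSfin.subset (fun t ht => ((hS'' t).mp ht).1)
  have hempty : S'' = ∅ := by
    by_contra hne
    rw [← Ne, ← Set.nonempty_iff_ne_empty] at hne
    obtain ⟨t, htmax⟩ := hS''fin.exists_maximal hne
    obtain ⟨htS, hU⟩ := (hS'' t).mp htmax.1
    obtain ⟨ξ, hξ⟩ := hgp t htS
    obtain ⟨O, hO, hξO, hOG⟩ := hL ξ (hU ξ hξ)
    have hclosed : IsClosed (⋃₀ (S \ {t})) := by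
      rw [Set.sUnion_eq_biUnion]
      exact (hSfin.subset Set.diff_subset).isClosed_biUnion (fun s hs => hSc s hs.1)
    have hξt : ξ ∈ t := hξ ▸ subset_closure (Set.mem_singleton ξ)
    have hξnot : ξ ∉ ⋃₀ (S \ {t}) := by
      rintro ⟨s, ⟨hsS, hst⟩, hξs⟩
      have hts : t ⊆ s := by
        rw [← hξ]
        exact (hSc s hsS).closure_subset_iff.mpr (Set.singleton_subset_iff.mpr hξs)
      have hs'' : s ∈ S'' := by
        refine (hS'' s).mpr ⟨hsS, fun ξs hξs' q' hq' hsp => hU ξ hξ q' hq' (hsp.trans ?_)⟩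
        rw [specializes_iff_mem_closure, hξs']
        exact hξs
      exact hst (Set.Subset.antisymm (htmax.2 hs'' hts) hts)
    have hξcl : ξ ∈ closure B := by
      rw [hSU]
      exact ⟨t, htS, hξt⟩
    obtain ⟨y, ⟨hyO, hynot⟩, hyB⟩ := mem_closure_iff.mp hξcl (O ∩ (⋃₀ (S \ {t}))ᶜ)
      (hO.inter hclosed.isOpen_compl) ⟨hξO, hξnot⟩
    have hycl : y ∈ closure B := subset_closure hyB
    rw [hSU] at hycl
    obtain ⟨s, hsS, hys⟩ := hycl
    have hst : s = t := by
      by_contra hne'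
      exact hynot ⟨s, ⟨hsS, hne'⟩, hys⟩
    have hyt : y ∈ closure {ξ} := by
      rw [hξ, ← hst]
      exact hys
    exact hOG y ⟨hyO, hyt⟩ hyB
  have heq : {q | ∃ q' ∈ B, q' ⤳ q} = closure B := by
    apply Set.Subset.antisymm
    · rintro q ⟨q', hq', hsp⟩
      exact closure_mono (Set.singleton_subset_iff.mpr hq') (specializes_iff_mem_closure.mp hsp)
    · intro q hq
      rw [hSU] at hq
      obtain ⟨t, htS, hqt⟩ := hq
      have hnot : t ∉ S'' := by
        rw [hempty]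
        exact Set.notMem_empty t
      have h2 : ¬ ∀ ξ, closure {ξ} = t → ∀ q' ∈ B, ¬ q' ⤳ ξ := fun h => hnot ((hS'' t).mpr ⟨htS, h⟩)
      push Not at h2
      obtain ⟨ξ, hξ, q', hq', hsp⟩ := h2
      refine ⟨q', hq', hsp.trans ?_⟩
      rw [specializes_iff_mem_closure, hξ]
      exact hqt
  rw [heq]
  exact isClosed_closure

end Groth.Agent.Lib.Helper4.NagataGen
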