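import Groth.Agent.Lib.Helper4.CM2
import Groth.Agent.S5765
import Mathlib.RingTheory.Regular.Flat
import Mathlib.RingTheory.Localization.Finiteness

/-!
# Cohen–Macaulay modules localize (helper4)
-/

set_option autoImplicit false

universe u

open RingTheory.Sequence CategoryTheory Abelian

namespace Groth.Agent.Lib.Helper4

section

variable {A : Type u} [CommRing A] [IsLocalRing A] [IsNoetherianRing A]
  {M : Type u} [AddCommGroup M] [Module A M] [Module.Finite A M]

/-- Data package: for a CM module `M` and `p ∈ Supp M`, with `n = depth_p M`: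
`dim M_p = n = depth M_p` and `dim M = dim M/pM + n`. -/
theorem cm_localization_aux (hM : LocCoh.IsCohenMacaulayModule A M) (p : PrimeSpectrum A)
    (hp : p ∈ Module.support A M) :
    ∃ n : ℕ, Module.supportDim (Localization.AtPrime p.asIdeal)
        (LocalizedModule p.asIdeal.primeCompl M) = ((n : ℕ∞) : WithBot ℕ∞) ∧
      LocCoh.depth (Localization.AtPrime p.asIdeal) (LocalizedModule p.asIdeal.primeCompl M) = n ∧
      Module.supportDim A M =
        Module.supportDim A (M ⧸ (p.asIdeal • (⊤ : Submodule A M))) + ((n : ℕ∞) : WithBot ℕ∞) := by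
  have hMnt := cm_nontrivial hM
  have hI : p.asIdeal ≠ ⊤ := p.2.ne_top
  have hIM := smul_top_ne_top_of_ne_top (M := M) p.asIdeal hI
  have hne := idealDepth_ne_top p.asIdeal hIM
  obtain ⟨n, hn⟩ := ENat.ne_top_iff_exists.mp hne
  have hformula := cm_supportDim_eq_add_idealDepth p.asIdeal hI hM
  rw [← hn] at hformula
  obtain ⟨xs, hlen, hmem, hreg⟩ :=
    exists_isWeaklyRegular_of_le_idealDepth p.asIdeal hIM n (by rw [← hn])
  -- localize the sequence
  have hMpnt : Nontrivial (LocalizedModule p.asIdeal.primeCompl M) := hp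
  have hregp : IsRegular (LocalizedModule p.asIdeal.primeCompl M)
      (xs.map (algebraMap A (Localization.AtPrime p.asIdeal))) :=
    hreg.isRegular_of_isLocalizedModule_of_mem (Localization.AtPrime p.asIdeal) p.asIdeal
      (LocalizedModule.mkLinearMap p.asIdeal.primeCompl M) hmem
  have hmemp : ∀ y ∈ xs.map (algebraMap A (Localization.AtPrime p.asIdeal)),
      y ∈ IsLocalRing.maximalIdeal (Localization.AtPrime p.asIdeal) := by
    intro y hy
    obtain ⟨x, hx, rfl⟩ := List.mem_map.mp hy
    exact (IsLocalization.AtPrime.to_map_mem_maximal_iff _ p.asIdeal x).mpr (hmem x hx)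
  have h1 : (n : ℕ∞) ≤ LocCoh.depth (Localization.AtPrime p.asIdeal)
      (LocalizedModule p.asIdeal.primeCompl M) := by
    have := length_le_idealDepth (IsLocalRing.maximalIdeal (Localization.AtPrime p.asIdeal))
      (xs.map (algebraMap A (Localization.AtPrime p.asIdeal))) hregp.toIsWeaklyRegular hmemp
    rwa [List.length_map, hlen] at this
  have h2 := depth_le_supportDim (R := Localization.AtPrime p.asIdeal)
    (M := LocalizedModule p.asIdeal.primeCompl M)
  have h3 := Groth.Agent.S5765.result A M p.asIdeal
  obtain ⟨a, ha⟩ := exists_nat_supportDim (R := Localization.AtPrime p.asIdeal)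
    (M := LocalizedModule p.asIdeal.primeCompl M)
  obtain ⟨e, he⟩ := exists_nat_depth (R := Localization.AtPrime p.asIdeal)
    (M := LocalizedModule p.asIdeal.primeCompl M)
  have hQnt : Nontrivial (M ⧸ (p.asIdeal • (⊤ : Submodule A M))) :=
    Submodule.Quotient.nontrivial_iff.mpr hIM
  obtain ⟨c, hc⟩ := exists_nat_supportDim (R := A) (M := M ⧸ (p.asIdeal • (⊤ : Submodule A M)))
  rw [he] at h1 h2
  rw [ha] at h2 h3
  rw [hc] at h3 hformula
  rw [hformula] at h3
  have h1' : n ≤ e := by exact_mod_cast h1
  have h2' : e ≤ a := by exact_mod_cast h2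
  have h3' : a + c ≤ c + n := by exact_mod_cast h3
  have hae : a = n := by omega
  have hen : e = n := by omega
  refine ⟨n, by rw [ha, hae], by rw [he, hen], by rw [hformula, hc]⟩

/-- Localizations of Cohen–Macaulay modules at primes of the support are Cohen–Macaulay. -/
theorem cm_localizedModule (hM : LocCoh.IsCohenMacaulayModule A M) (p : PrimeSpectrum A)
    (hp : p ∈ Module.support A M) :
    LocCoh.IsCohenMacaulayModule (Localization.AtPrime p.asIdeal)
      (LocalizedModule p.asIdeal.primeCompl M) := by
  obtain ⟨n, h1, h2, -⟩ := cm_localization_aux hM p hp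
  rw [LocCoh.IsCohenMacaulayModule, h1, h2]

/-- `dim M = dim M/pM + dim M_p` for Cohen–Macaulay `M` and `p ∈ Supp M`. -/
theorem cm_supportDim_eq_add_localizedModule (hM : LocCoh.IsCohenMacaulayModule A M)
    (p : PrimeSpectrum A) (hp : p ∈ Module.support A M) :
    Module.supportDim A M =
      Module.supportDim A (M ⧸ (p.asIdeal • (⊤ : Submodule A M))) +
        Module.supportDim (Localization.AtPrime p.asIdeal)
          (LocalizedModule p.asIdeal.primeCompl M) := by
  obtain ⟨n, h1, -, h3⟩ := cm_localization_aux hM p hp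
  rw [h1, h3]

end

end Groth.Agent.Lib.Helper4
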