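import Mathlib
import Groth.Prelude.Def_CAlg
import Groth.Prelude.Def_EGA4b
import Groth.Agent.Lib.Helper4.GenDepth
import Groth.Agent.Lib.Helper4.NagataGen
import Groth.Agent.Lib.Helper4.FinRes
import Groth.Agent.Lib.Helper4.RegCM
import Groth.Agent.Lib.Helper22.S1Open
import Groth.Agent.Lib.Helper22.CMGlue
import Groth.Agent.S2616

/-!
# Openness of the `(S_n)` locus and of the loci `codepth ≤ n` (EGA IV 6.11) (helper4)

* `hasSkAt_iff`: `(S_n)` at `p` means the `(S_n)` inequality at every generization of `p`.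
* `isOpen_hasSkAt`: if the integral quotients `A/p₀` generically satisfy the `(S_n)` inequality,
  the `(S_n)` locus of every finite module is open.
* `isOpen_codepth`: if the integral quotients `A/p₀` are generically Cohen–Macaulay, the loci
  `codepth ≤ n` of every finite module are open.
* `genCM_of_surjective_regular`: quotients of regular rings have generically Cohen–Macaulay integral
  quotients.
-/

set_option autoImplicit false
set_option linter.style.haveILetI false
set_option linter.unusedSectionVars false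
set_option linter.unusedVariables false
set_option maxHeartbeats 800000

universe u

namespace Groth.Agent.Lib.Helper4.SkOpen

open Groth.Agent.Lib.Helper4

section arith

theorem min_add_le_withBot (n : ℕ) (a' c' e e' : ℕ∞)
    (h1 : min ((n : ℕ) : WithBot ℕ∞) ((a' : ℕ∞) : WithBot ℕ∞) ≤ ((e : ℕ∞) : WithBot ℕ∞))
    (h2 : min ((n : ℕ) : WithBot ℕ∞) ((c' : ℕ∞) : WithBot ℕ∞) ≤ ((e' : ℕ∞) : WithBot ℕ∞)) :
    min ((n : ℕ) : WithBot ℕ∞) (((a' : ℕ∞) : WithBot ℕ∞) + ((c' : ℕ∞) : WithBot ℕ∞)) ≤
      (((e + e' : ℕ∞)) : WithBot ℕ∞) := by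
  have hn : ((n : ℕ) : WithBot ℕ∞) = (((n : ℕ∞)) : WithBot ℕ∞) := rfl
  rw [hn, ← WithBot.coe_min, WithBot.coe_le_coe] at h1 h2
  rw [hn, ← WithBot.coe_add, ← WithBot.coe_min, WithBot.coe_le_coe]
  rcases le_total (n : ℕ∞) a' with h | h
  · rw [min_eq_left h] at h1
    exact (min_le_left _ _).trans (h1.trans le_self_add)
  · rcases le_total (n : ℕ∞) c' with h' | h'
    · rw [min_eq_left h'] at h2
      exact (min_le_left _ _).trans (h2.trans le_add_self)
    · rw [min_eq_right h] at h1
      rw [min_eq_right h'] at h2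
      exact (min_le_right _ _).trans (add_le_add h1 h2)

end arith

section Sk

variable {A : Type u} [CommRing A] [IsNoetherianRing A] (M : Type u) [AddCommGroup M] [Module A M]
  [Module.Finite A M]

/-- `(S_n)` at `p`: the `(S_n)` inequality at every generization of `p`. -/
theorem hasSkAt_iff (n : ℕ) (p : Ideal A) [p.IsPrime] :
    EGA4.HasSkAt n A M p ↔ ∀ (q : Ideal A) [q.IsPrime], q ≤ p →
      min (n : WithBot ℕ∞)
          (Module.supportDim (Localization.AtPrime q) (LocalizedModule q.primeCompl M)) ≤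
        ((LocCoh.depth (Localization.AtPrime q) (LocalizedModule q.primeCompl M) : ℕ∞) :
          WithBot ℕ∞) := by
  unfold EGA4.HasSkAt LocCoh.HasSk
  constructor
  · intro h q hq hqp
    haveI := Groth.Agent.Lib.Helper22.S1Open.map_isPrime' p q hqp
    have hc := Groth.Agent.Lib.Helper22.S1Open.comap_map' p q hqp
    have h1 := h (q.map (algebraMap A (Localization.AtPrime p)))
    have h2 := LocTrans.depth_supportDim_locLoc' p.primeCompl M
      (q.map (algebraMap A (Localization.AtPrime p))) q hc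
    rw [h2.1, h2.2] at h1
    exact h1
  · intro h Q hQ
    have hle := Groth.Agent.Lib.Helper22.S1Open.comap_le p Q
    have h2 := LocTrans.depth_supportDim_locLoc p.primeCompl M Q
    rw [h2.1, h2.2]
    exact h (Q.comap (algebraMap A (Localization.AtPrime p))) hle

end Sk

section surj

/-- Depth and dimension of localizations under restriction of scalars along a surjection. -/
theorem depth_supportDim_of_surjective {A B : Type u} [CommRing A] [CommRing B] [Algebra A B]
    [IsNoetherianRing A] [IsNoetherianRing B] (hs : Function.Surjective (algebraMap A B))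
    (N : Type u) [AddCommGroup N] [Module B N] [Module A N] [IsScalarTower A B N]
    [Module.Finite A N] (q : Ideal A) [q.IsPrime] (qb : Ideal B) [qb.IsPrime]
    (hq : qb.comap (algebraMap A B) = q) [hnt : Nontrivial (LocalizedModule qb.primeCompl N)] :
    Module.supportDim (Localization.AtPrime q) (LocalizedModule q.primeCompl N) =
        Module.supportDim (Localization.AtPrime qb) (LocalizedModule qb.primeCompl N) ∧
      LocCoh.depth (Localization.AtPrime q) (LocalizedModule q.primeCompl N) =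
        LocCoh.depth (Localization.AtPrime qb) (LocalizedModule qb.primeCompl N) := by
  have hmem : (⟨qb, inferInstance⟩ : PrimeSpectrum B) ∈
      {q' : PrimeSpectrum B | q'.asIdeal.comap (algebraMap A B) = q ∧
        q' ∈ Module.support B N} :=
    ⟨hq, Module.mem_support_iff.mpr hnt⟩
  have huniq : ∀ q' ∈ {q' : PrimeSpectrum B | q'.asIdeal.comap (algebraMap A B) = q ∧
      q' ∈ Module.support B N}, q' = ⟨qb, inferInstance⟩ := by
    rintro q' ⟨h1, -⟩
    exact PrimeSpectrum.ext (Ideal.comap_injective_of_surjective _ hs (h1.trans hq.symm))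
  constructor
  · rw [FinRes.supportDim_eq_iSup (A := A) (B := B) N q]
    apply le_antisymm
    · refine iSup₂_le fun q' hq' => ?_
      obtain rfl : q' = ⟨qb, inferInstance⟩ := huniq q' hq'
      exact le_rfl
    · exact le_iSup₂_of_le (⟨qb, inferInstance⟩ : PrimeSpectrum B) hmem le_rfl
  · rw [FinRes.depth_eq_iInf (A := A) (B := B) N q]
    apply le_antisymm
    · exact iInf₂_le_of_le (⟨qb, inferInstance⟩ : PrimeSpectrum B) hmem le_rfl
    · refine le_iInf₂ fun q' hq' => ?_
      obtain rfl : q' = ⟨qb, inferInstance⟩ := huniq q' hq'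
      exact le_rfl

end surj

section quot

variable {A : Type u} [CommRing A] [IsNoetherianRing A]

theorem comap_map_mk (p₀ q : Ideal A) (h : p₀ ≤ q) :
    (q.map (Ideal.Quotient.mk p₀)).comap (Ideal.Quotient.mk p₀) = q := by
  rw [Ideal.comap_map_of_surjective _ Ideal.Quotient.mk_surjective, ← RingHom.ker_eq_comap_bot,
    Ideal.mk_ker]
  exact sup_eq_left.mpr h

/-- From `(S_n)` of the ring `A/p₀` at `q̄` to the `(S_n)` inequality for the `A`-module `A/p₀`
at the prime `q` below `q̄`. -/
theorem min_le_depth_quot_of_hasSkAt (n : ℕ) (p₀ : Ideal A) [p₀.IsPrime] (qb : Ideal (A ⧸ p₀))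
    [qb.IsPrime] (h : EGA4.HasSkAt n (A ⧸ p₀) (A ⧸ p₀) qb) (q : Ideal A) [q.IsPrime]
    (hq : qb.comap (Ideal.Quotient.mk p₀) = q) :
    min (n : WithBot ℕ∞)
        (Module.supportDim (Localization.AtPrime q) (LocalizedModule q.primeCompl (A ⧸ p₀))) ≤
      ((LocCoh.depth (Localization.AtPrime q) (LocalizedModule q.primeCompl (A ⧸ p₀)) : ℕ∞) :
        WithBot ℕ∞) := by
  haveI : Nontrivial (LocalizedModule qb.primeCompl (A ⧸ p₀)) :=
    GenDepth.nontrivial_localized_of_colon qb qb le_rfl (A ⧸ p₀) 1 (fun r hr => by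
      rw [smul_eq_mul, mul_one] at hr
      rw [hr]
      exact zero_mem _)
  have h1 := (hasSkAt_iff (A := A ⧸ p₀) (A ⧸ p₀) n qb).mp h qb le_rfl
  have h2 := depth_supportDim_of_surjective (A := A) (B := A ⧸ p₀)
    Ideal.Quotient.mk_surjective (A ⧸ p₀) q qb hq
  rw [h2.1, h2.2]
  exact h1

/-- From Cohen–Macaulayness of the ring `(A/p₀)_q̄` to `dim = depth` for the `A_q`-module
`(A/p₀)_q`. -/
theorem supportDim_eq_depth_quot_of_cm (p₀ : Ideal A) [p₀.IsPrime] (qb : Ideal (A ⧸ p₀))
    [qb.IsPrime] [LocCoh.IsCohenMacaulayLocalRing (Localization.AtPrime qb)] (q : Ideal A)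
    [q.IsPrime] (hq : q = qb.comap (Ideal.Quotient.mk p₀)) :
    Module.supportDim (Localization.AtPrime q) (LocalizedModule q.primeCompl (A ⧸ p₀)) =
      ((LocCoh.depth (Localization.AtPrime q) (LocalizedModule q.primeCompl (A ⧸ p₀)) : ℕ∞) :
        WithBot ℕ∞) := by
  have h := Groth.Agent.Lib.Helper22.CMG.cmAt_of_isCMLocalRing p₀ qb q hq
  unfold Groth.Agent.Lib.Helper22.CMG.CMat LocCoh.IsCohenMacaulayModule at h
  rw [(GenDim.depth_supportDim_localizedModule_quot p₀ q).1,
    (GenDim.depth_supportDim_localizedModule_quot p₀ q).2] at h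
  exact h

theorem exists_notMem_of_isOpen (p₀ : Ideal A) [p₀.IsPrime] (U : Set (PrimeSpectrum (A ⧸ p₀)))
    (hU : IsOpen U) (hne : U.Nonempty) :
    ∃ g ∉ p₀, ∀ (qb : PrimeSpectrum (A ⧸ p₀)), Ideal.Quotient.mk p₀ g ∉ qb.asIdeal → qb ∈ U := by
  obtain ⟨s, hs⟩ := (PrimeSpectrum.isOpen_iff U).mp hU
  obtain ⟨x, hx⟩ := hne
  have hx' : x ∉ PrimeSpectrum.zeroLocus s := by
    rw [← hs]
    exact fun h => h hx
  rw [PrimeSpectrum.mem_zeroLocus, Set.not_subset] at hx'
  obtain ⟨gb, hgs, hgx⟩ := hx'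
  obtain ⟨g, rfl⟩ := Ideal.Quotient.mk_surjective gb
  refine ⟨g, fun hg => hgx ?_, fun qb hqb => ?_⟩
  · rw [Ideal.Quotient.eq_zero_iff_mem.mpr hg]
    exact zero_mem x.asIdeal
  · by_contra hnot
    have h1 : qb ∈ PrimeSpectrum.zeroLocus s := by
      rw [← hs]
      exact hnot
    exact hqb ((PrimeSpectrum.mem_zeroLocus _ _).mp h1 hgs)

end quot

section main

variable (A : Type u) [CommRing A] [IsNoetherianRing A]

/-- The integral quotients of `A` generically satisfy the `(S_n)` inequality. -/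
def GenSk (n : ℕ) : Prop :=
  ∀ (p₀ : Ideal A) [p₀.IsPrime], ∃ g ∉ p₀, ∀ (q : Ideal A) [q.IsPrime], p₀ ≤ q → g ∉ q →
    min (n : WithBot ℕ∞)
        (Module.supportDim (Localization.AtPrime q) (LocalizedModule q.primeCompl (A ⧸ p₀))) ≤
      ((LocCoh.depth (Localization.AtPrime q) (LocalizedModule q.primeCompl (A ⧸ p₀)) : ℕ∞) :
        WithBot ℕ∞)

/-- The integral quotients of `A` are generically Cohen–Macaulay. -/
def GenCM : Prop :=
  ∀ (p₀ : Ideal A) [p₀.IsPrime], ∃ g ∉ p₀, ∀ (q : Ideal A) [q.IsPrime], p₀ ≤ q → g ∉ q →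
    Module.supportDim (Localization.AtPrime q) (LocalizedModule q.primeCompl (A ⧸ p₀)) =
      ((LocCoh.depth (Localization.AtPrime q) (LocalizedModule q.primeCompl (A ⧸ p₀)) : ℕ∞) :
        WithBot ℕ∞)

variable {A}

theorem GenCM.genSk (h : GenCM A) (n : ℕ) : GenSk A n := by
  intro p₀ _
  obtain ⟨g, hg, Hg⟩ := h p₀
  refine ⟨g, hg, fun q hq hpq hgq => ?_⟩
  rw [← Hg q hpq hgq]
  exact min_le_right _ _

theorem genSk_of_open (n : ℕ)
    (h : ∀ (p : Ideal A) [p.IsPrime], ∃ U : Set (PrimeSpectrum (A ⧸ p)), IsOpen U ∧ U.Nonempty ∧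
      ∀ q ∈ U, EGA4.HasSkAt n (A ⧸ p) (A ⧸ p) q.asIdeal) : GenSk A n := by
  intro p₀ _
  obtain ⟨U, hU, hne, hS⟩ := h p₀
  obtain ⟨g, hg, Hg⟩ := exists_notMem_of_isOpen p₀ U hU hne
  refine ⟨g, hg, fun q hq hpq hgq => ?_⟩
  haveI hqb : (q.map (Ideal.Quotient.mk p₀)).IsPrime :=
    Ideal.map_isPrime_of_surjective Ideal.Quotient.mk_surjective (by rw [Ideal.mk_ker]; exact hpq)
  have hmem : (⟨q.map (Ideal.Quotient.mk p₀), hqb⟩ : PrimeSpectrum (A ⧸ p₀)) ∈ U :=
    Hg _ (fun hmem => hgq ((Ideal.mem_quotient_iff_mem hpq).mp hmem))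
  exact min_le_depth_quot_of_hasSkAt n p₀ (q.map (Ideal.Quotient.mk p₀)) (hS _ hmem) q
    (comap_map_mk p₀ q hpq)

theorem genCM_of_open
    (h : ∀ (p : Ideal A) [p.IsPrime], ∃ U : Set (PrimeSpectrum (A ⧸ p)), IsOpen U ∧ U.Nonempty ∧
      ∀ q ∈ U, LocCoh.IsCohenMacaulayLocalRing (Localization.AtPrime q.asIdeal)) : GenCM A := by
  intro p₀ _
  obtain ⟨U, hU, hne, hS⟩ := h p₀
  obtain ⟨g, hg, Hg⟩ := exists_notMem_of_isOpen p₀ U hU hne
  refine ⟨g, hg, fun q hq hpq hgq => ?_⟩
  haveI hqb : (q.map (Ideal.Quotient.mk p₀)).IsPrime :=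
    Ideal.map_isPrime_of_surjective Ideal.Quotient.mk_surjective (by rw [Ideal.mk_ker]; exact hpq)
  have hmem : (⟨q.map (Ideal.Quotient.mk p₀), hqb⟩ : PrimeSpectrum (A ⧸ p₀)) ∈ U :=
    Hg _ (fun hmem => hgq ((Ideal.mem_quotient_iff_mem hpq).mp hmem))
  haveI : LocCoh.IsCohenMacaulayLocalRing
      (Localization.AtPrime (q.map (Ideal.Quotient.mk p₀))) := hS _ hmem
  exact supportDim_eq_depth_quot_of_cm p₀ (q.map (Ideal.Quotient.mk p₀)) q
    (comap_map_mk p₀ q hpq).symm

variable (M : Type u) [AddCommGroup M] [Module A M] [Module.Finite A M]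

/-- the primes at which the `(S_n)` inequality holds -/
def goodSk (n : ℕ) : Set (PrimeSpectrum A) :=
  {x | min (n : WithBot ℕ∞)
      (Module.supportDim (Localization.AtPrime x.asIdeal)
        (LocalizedModule x.asIdeal.primeCompl M)) ≤
    ((LocCoh.depth (Localization.AtPrime x.asIdeal)
      (LocalizedModule x.asIdeal.primeCompl M) : ℕ∞) : WithBot ℕ∞)}

theorem mem_goodSk (n : ℕ) (x : PrimeSpectrum A) : x ∈ goodSk M n ↔
    min (n : WithBot ℕ∞)
      (Module.supportDim (Localization.AtPrime x.asIdeal)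
        (LocalizedModule x.asIdeal.primeCompl M)) ≤
    ((LocCoh.depth (Localization.AtPrime x.asIdeal)
      (LocalizedModule x.asIdeal.primeCompl M) : ℕ∞) : WithBot ℕ∞) := Iff.rfl

/-- the primes at which the codepth is at most `n` -/
def goodCodepth (n : ℕ) : Set (PrimeSpectrum A) :=
  {x | Module.supportDim (Localization.AtPrime x.asIdeal)
      (LocalizedModule x.asIdeal.primeCompl M) ≤
    ((LocCoh.depth (Localization.AtPrime x.asIdeal)
      (LocalizedModule x.asIdeal.primeCompl M) : ℕ∞) : WithBot ℕ∞) + n}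

theorem mem_goodCodepth (n : ℕ) (x : PrimeSpectrum A) : x ∈ goodCodepth M n ↔
    Module.supportDim (Localization.AtPrime x.asIdeal)
      (LocalizedModule x.asIdeal.primeCompl M) ≤
    ((LocCoh.depth (Localization.AtPrime x.asIdeal)
      (LocalizedModule x.asIdeal.primeCompl M) : ℕ∞) : WithBot ℕ∞) + n := Iff.rfl

theorem notMem_mul₃ (x : PrimeSpectrum A) {a b c : A} (ha : a ∉ x.asIdeal) (hb : b ∉ x.asIdeal)
    (hc : c ∉ x.asIdeal) : a * b * c ∉ x.asIdeal := by
  intro h
  rcases x.isPrime.mem_or_mem h with h | h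
  · rcases x.isPrime.mem_or_mem h with h | h
    · exact ha h
    · exact hb h
  · exact hc h

/-- **EGA IV 6.11.6**: the `(S_n)` locus of a finite module is open when the integral quotients
generically satisfy `(S_n)`. -/
theorem isOpen_hasSkAt (n : ℕ) (hG : GenSk A n) :
    IsOpen {x : PrimeSpectrum A | EGA4.HasSkAt n A M x.asIdeal} := by
  have hset : {x : PrimeSpectrum A | EGA4.HasSkAt n A M x.asIdeal} =
      {q | ∃ q' ∈ (goodSk M n)ᶜ, q' ⤳ q}ᶜ := by
    ext x
    rw [Set.mem_setOf_eq, hasSkAt_iff M n x.asIdeal, Set.mem_compl_iff, Set.mem_setOf_eq]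
    constructor
    · rintro h ⟨q', hq'G, hsp⟩
      exact hq'G (h q'.asIdeal ((PrimeSpectrum.le_iff_specializes q' x).mpr hsp))
    · intro h q hq hqx
      by_contra hbad
      exact h ⟨⟨q, hq⟩, hbad, (PrimeSpectrum.le_iff_specializes ⟨q, hq⟩ x).mp hqx⟩
  rw [hset, isOpen_compl_iff]
  apply NagataGen.isClosed_specClosure
  intro x hx
  have hxG : x ∈ goodSk M n := by
    by_contra h
    exact hx x h specializes_rfl
  by_cases hnt : Nontrivial (LocalizedModule x.asIdeal.primeCompl M)
  · obtain ⟨fD, hfD, HD⟩ := GenDepth.exists_notMem_depth_eq x.asIdeal M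
    obtain ⟨fE, hfE, HE⟩ := GenDim.exists_notMem_supportDim_eq x.asIdeal M
    obtain ⟨g, hg, Hg⟩ := hG x.asIdeal
    refine ⟨(PrimeSpectrum.basicOpen (fD * fE * g) : Set (PrimeSpectrum A)),
      (PrimeSpectrum.basicOpen (fD * fE * g)).isOpen, notMem_mul₃ x hfD hfE hg, ?_⟩
    rintro y ⟨hyO, hycl⟩ hbad
    apply hbad
    have hxy : x.asIdeal ≤ y.asIdeal :=
      (PrimeSpectrum.le_iff_specializes x y).mpr (specializes_iff_mem_closure.mpr hycl)
    have hy : fD * fE * g ∉ y.asIdeal := hyO
    have hfDy : fD ∉ y.asIdeal := fun h => hy (y.asIdeal.mul_mem_right g (y.asIdeal.mul_mem_right fE h))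
    have hfEy : fE ∉ y.asIdeal := fun h => hy (y.asIdeal.mul_mem_right g (y.asIdeal.mul_mem_left fD h))
    have hgy : g ∉ y.asIdeal := fun h => hy (y.asIdeal.mul_mem_left (fD * fE) h)
    rw [mem_goodSk, HE y.asIdeal hxy hfEy, HD y.asIdeal hxy hfDy]
    haveI := GenDepth.nontrivial_localizedModule_quot x.asIdeal y.asIdeal hxy
    obtain ⟨a', ha'⟩ := WithBot.ne_bot_iff_exists.mp
      (Module.supportDim_ne_bot_of_nontrivial (Localization.AtPrime x.asIdeal)
        (LocalizedModule x.asIdeal.primeCompl M))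
    obtain ⟨c', hc'⟩ := WithBot.ne_bot_iff_exists.mp
      (Module.supportDim_ne_bot_of_nontrivial (Localization.AtPrime y.asIdeal)
        (LocalizedModule y.asIdeal.primeCompl (A ⧸ x.asIdeal)))
    have h1 := hxG
    rw [mem_goodSk, ← ha'] at h1
    have h2 := Hg y.asIdeal hxy hgy
    rw [← hc'] at h2
    rw [← ha', ← hc']
    exact min_add_le_withBot n a' c' _ _ h1 h2
  · rw [not_nontrivial_iff_subsingleton] at hnt
    obtain ⟨f, hf, hkill⟩ := exists_notMem_forall_smul_eq_zero M x.asIdeal
      (Module.notMem_support_iff'.mp ((Module.notMem_support_iff (R := A) (M := M) (p := x)).mpr hnt))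
    refine ⟨(PrimeSpectrum.basicOpen f : Set (PrimeSpectrum A)),
      (PrimeSpectrum.basicOpen f).isOpen, hf, ?_⟩
    rintro y ⟨hyO, -⟩ hbad
    apply hbad
    have hy : f ∉ y.asIdeal := hyO
    rw [mem_goodSk, GenDim.supportDim_eq_bot_of_kill y.asIdeal f hy hkill, min_bot_right]
    exact bot_le

theorem goodCodepth_stable (n : ℕ) : StableUnderGeneralization (goodCodepth (A := A) M n) := by
  intro x y hyx hx
  have hle : y.asIdeal ≤ x.asIdeal := (PrimeSpectrum.le_iff_specializes y x).mpr hyx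
  by_cases hnt : Nontrivial (LocalizedModule y.asIdeal.primeCompl M)
  swap
  · rw [not_nontrivial_iff_subsingleton] at hnt
    rw [mem_goodCodepth, Module.supportDim_eq_bot_of_subsingleton]
    exact bot_le
  haveI hntx : Nontrivial (LocalizedModule x.asIdeal.primeCompl M) :=
    Module.mem_support_iff.mp (Module.mem_support_mono hle (Module.mem_support_iff.mpr hnt))
  haveI hP := Groth.Agent.Lib.Helper22.S1Open.map_isPrime' x.asIdeal y.asIdeal hle
  have hc := Groth.Agent.Lib.Helper22.S1Open.comap_map' x.asIdeal y.asIdeal hle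
  have h2 := LocTrans.depth_supportDim_locLoc' x.asIdeal.primeCompl M
    (y.asIdeal.map (algebraMap A (Localization.AtPrime x.asIdeal))) y.asIdeal hc
  haveI hntP : Nontrivial (LocalizedModule
      (y.asIdeal.map (algebraMap A (Localization.AtPrime x.asIdeal))).primeCompl
      (LocalizedModule x.asIdeal.primeCompl M)) := by
    by_contra hsub
    rw [not_nontrivial_iff_subsingleton] at hsub
    have h3 := Module.supportDim_eq_bot_of_subsingleton
      (Localization.AtPrime (y.asIdeal.map (algebraMap A (Localization.AtPrime x.asIdeal))))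
      (LocalizedModule (y.asIdeal.map (algebraMap A (Localization.AtPrime x.asIdeal))).primeCompl
        (LocalizedModule x.asIdeal.primeCompl M))
    rw [h2.2] at h3
    exact Module.supportDim_ne_bot_of_nontrivial _ _ h3
  have h3 := Groth.Agent.S2616.result (Localization.AtPrime x.asIdeal)
    (LocalizedModule x.asIdeal.primeCompl M)
    (y.asIdeal.map (algebraMap A (Localization.AtPrime x.asIdeal)))
  rw [h2.1, h2.2] at h3
  obtain ⟨a, ha⟩ := exists_nat_supportDim (R := Localization.AtPrime y.asIdeal)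
    (M := LocalizedModule y.asIdeal.primeCompl M)
  obtain ⟨c, hc⟩ := exists_nat_supportDim (R := Localization.AtPrime x.asIdeal)
    (M := LocalizedModule x.asIdeal.primeCompl M)
  obtain ⟨b, hb⟩ := exists_nat_depth (R := Localization.AtPrime x.asIdeal)
    (M := LocalizedModule x.asIdeal.primeCompl M)
  obtain ⟨d, hd⟩ := exists_nat_depth (R := Localization.AtPrime y.asIdeal)
    (M := LocalizedModule y.asIdeal.primeCompl M)
  rw [ha, hb, hc, hd] at h3
  have h3' : a + b ≤ c + d := by exact_mod_cast h3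
  rw [mem_goodCodepth, hc, hb] at hx
  have hx' : c ≤ b + n := by exact_mod_cast hx
  rw [mem_goodCodepth, ha, hd]
  have h4 : a ≤ d + n := by omega
  exact_mod_cast h4

/-- **EGA IV 6.11.2 (i)**: the loci `codepth ≤ n` of a finite module are open when the integral
quotients are generically Cohen–Macaulay. -/
theorem isOpen_codepth (n : ℕ) (hG : GenCM A) : IsOpen (goodCodepth (A := A) M n) := by
  have hset : goodCodepth (A := A) M n = {q | ∃ q' ∈ (goodCodepth (A := A) M n)ᶜ, q' ⤳ q}ᶜ := by
    ext x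
    constructor
    · rintro hx ⟨q', hq', hsp⟩
      exact hq' (goodCodepth_stable M n hsp hx)
    · intro h
      by_contra hx
      exact h ⟨x, hx, specializes_rfl⟩
  rw [hset, isOpen_compl_iff]
  apply NagataGen.isClosed_specClosure
  intro x hx
  have hxG : x ∈ goodCodepth M n := by
    by_contra h
    exact hx x h specializes_rfl
  by_cases hnt : Nontrivial (LocalizedModule x.asIdeal.primeCompl M)
  · obtain ⟨fD, hfD, HD⟩ := GenDepth.exists_notMem_depth_eq x.asIdeal M
    obtain ⟨fE, hfE, HE⟩ := GenDim.exists_notMem_supportDim_eq x.asIdeal M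
    obtain ⟨g, hg, Hg⟩ := hG x.asIdeal
    refine ⟨(PrimeSpectrum.basicOpen (fD * fE * g) : Set (PrimeSpectrum A)),
      (PrimeSpectrum.basicOpen (fD * fE * g)).isOpen, notMem_mul₃ x hfD hfE hg, ?_⟩
    rintro y ⟨hyO, hycl⟩ hbad
    apply hbad
    have hxy : x.asIdeal ≤ y.asIdeal :=
      (PrimeSpectrum.le_iff_specializes x y).mpr (specializes_iff_mem_closure.mpr hycl)
    have hy : fD * fE * g ∉ y.asIdeal := hyO
    have hfDy : fD ∉ y.asIdeal := fun h => hy (y.asIdeal.mul_mem_right g (y.asIdeal.mul_mem_right fE h))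
    have hfEy : fE ∉ y.asIdeal := fun h => hy (y.asIdeal.mul_mem_right g (y.asIdeal.mul_mem_left fD h))
    have hgy : g ∉ y.asIdeal := fun h => hy (y.asIdeal.mul_mem_left (fD * fE) h)
    rw [mem_goodCodepth, HE y.asIdeal hxy hfEy, HD y.asIdeal hxy hfDy, Hg y.asIdeal hxy hgy,
      WithBot.coe_add]
    rw [mem_goodCodepth] at hxG
    calc _ ≤ _ := add_le_add hxG le_rfl
      _ = _ := add_right_comm _ _ _
  · rw [not_nontrivial_iff_subsingleton] at hnt
    obtain ⟨f, hf, hkill⟩ := exists_notMem_forall_smul_eq_zero M x.asIdeal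
      (Module.notMem_support_iff'.mp ((Module.notMem_support_iff (R := A) (M := M) (p := x)).mpr hnt))
    refine ⟨(PrimeSpectrum.basicOpen f : Set (PrimeSpectrum A)),
      (PrimeSpectrum.basicOpen f).isOpen, hf, ?_⟩
    rintro y ⟨hyO, -⟩ hbad
    apply hbad
    have hy : f ∉ y.asIdeal := hyO
    rw [mem_goodCodepth, GenDim.supportDim_eq_bot_of_kill y.asIdeal f hy hkill]
    exact bot_le

end main

section regular

/-- A regular ring has generically Cohen–Macaulay integral quotients. -/
theorem genCM_of_regular (R : Type u) [CommRing R] [IsRegularRing R] : GenCM R := by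
  intro P hP
  have key : ∀ (Q : Ideal R) [Q.IsPrime],
      Module.supportDim (Localization.AtPrime Q) (LocalizedModule Q.primeCompl R) =
        ((LocCoh.depth (Localization.AtPrime Q) (LocalizedModule Q.primeCompl R) : ℕ∞) :
          WithBot ℕ∞) := by
    intro Q _
    have h1 := LocTrans.depth_supportDim_of_isLocalizedModule Q (Localization.AtPrime Q)
      (Localization.AtPrime Q) (Algebra.linearMap R (Localization.AtPrime Q))
    have h2 : LocCoh.IsCohenMacaulayModule (Localization.AtPrime Q) (Localization.AtPrime Q) :=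
      RegCM.isCohenMacaulayModule_self (Localization.AtPrime Q)
    unfold LocCoh.IsCohenMacaulayModule at h2
    rw [← h1.1, ← h1.2]
    exact h2
  have hntR : ∀ (Q : Ideal R) [Q.IsPrime], Nontrivial (LocalizedModule Q.primeCompl R) := by
    intro Q _
    exact GenDepth.nontrivial_localized_of_colon ⊥ Q bot_le R 1 (fun r hr => by
      rw [smul_eq_mul, mul_one] at hr
      rw [hr]
      exact zero_mem _)
  haveI := hntR P
  obtain ⟨fD, hfD, HD⟩ := GenDepth.exists_notMem_depth_eq P R
  obtain ⟨fE, hfE, HE⟩ := GenDim.exists_notMem_supportDim_eq P R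
  refine ⟨fD * fE, fun h => (hP.mem_or_mem h).elim hfD hfE, fun Q hQ hPQ hfQ => ?_⟩
  have hfDQ : fD ∉ Q := fun h => hfQ (Q.mul_mem_right fE h)
  have hfEQ : fE ∉ Q := fun h => hfQ (Q.mul_mem_left fD h)
  haveI := hntR Q
  haveI := GenDepth.nontrivial_localizedModule_quot P Q hPQ
  have hD := HD Q hPQ hfDQ
  have hE := HE Q hPQ hfEQ
  rw [key Q, key P, hD] at hE
  obtain ⟨eP, heP⟩ := exists_nat_depth (R := Localization.AtPrime P)
    (M := LocalizedModule P.primeCompl R)
  obtain ⟨c', hc'⟩ := exists_nat_depth (R := Localization.AtPrime Q)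
    (M := LocalizedModule Q.primeCompl (R ⧸ P))
  obtain ⟨c'', hc''⟩ := exists_nat_supportDim (R := Localization.AtPrime Q)
    (M := LocalizedModule Q.primeCompl (R ⧸ P))
  rw [heP, hc', hc''] at hE
  have h3 : eP + c' = eP + c'' := by exact_mod_cast hE
  rw [hc', hc'']
  have h4 : c'' = c' := by omega
  rw [h4]

/-- A quotient of a regular ring has generically Cohen–Macaulay integral quotients. -/
theorem genCM_of_surjective_regular (R A : Type u) [CommRing R] [CommRing A] [IsRegularRing R]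
    [Algebra R A] (hs : Function.Surjective (algebraMap R A)) [IsNoetherianRing A] : GenCM A := by
  intro p₀ hp₀
  haveI hPprime : (p₀.comap (algebraMap R A)).IsPrime := Ideal.IsPrime.comap _
  obtain ⟨f, hf, Hf⟩ := genCM_of_regular R (p₀.comap (algebraMap R A))
  have hsurj' : Function.Surjective (Algebra.linearMap R (A ⧸ p₀)) := by
    intro y
    obtain ⟨a, rfl⟩ := Ideal.Quotient.mk_surjective y
    obtain ⟨r, rfl⟩ := hs a
    exact ⟨r, rfl⟩
  haveI : Module.Finite R (A ⧸ p₀) := Module.Finite.of_surjective _ hsurj'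
  have hker : LinearMap.ker (Algebra.linearMap R (A ⧸ p₀)) = p₀.comap (algebraMap R A) := by
    ext r
    rw [LinearMap.mem_ker, Algebra.linearMap_apply, IsScalarTower.algebraMap_apply R A (A ⧸ p₀),
      Ideal.Quotient.algebraMap_eq, Ideal.Quotient.eq_zero_iff_mem, Ideal.mem_comap]
  let e : (R ⧸ p₀.comap (algebraMap R A)) ≃ₗ[R] (A ⧸ p₀) :=
    (Submodule.quotEquivOfEq _ _ hker.symm).trans
      ((Algebra.linearMap R (A ⧸ p₀)).quotKerEquivOfSurjective hsurj')
  refine ⟨algebraMap R A f, fun h => hf h, fun q hq hpq hfq => ?_⟩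
  haveI hQprime : (q.comap (algebraMap R A)).IsPrime := Ideal.IsPrime.comap _
  have hPQ : p₀.comap (algebraMap R A) ≤ q.comap (algebraMap R A) := Ideal.comap_mono hpq
  have h1 := Hf (q.comap (algebraMap R A)) hPQ (fun h => hfq h)
  haveI := GenDepth.nontrivial_localizedModule_quot p₀ q hpq
  have h2 := depth_supportDim_of_surjective (A := R) (B := A) hs (A ⧸ p₀)
    (q.comap (algebraMap R A)) q rfl
  rw [Module.supportDim_eq_of_equiv (Groth.Agent.Lib.Helper28.localizedEquiv
    (q.comap (algebraMap R A)).primeCompl e)] at h1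
  unfold LocCoh.depth at h1 h2 ⊢
  rw [Groth.Agent.Lib.Helper28.idealDepth_congr (Groth.Agent.Lib.Helper28.localizedEquiv
    (q.comap (algebraMap R A)).primeCompl e)] at h1
  rw [← h2.1, ← h2.2]
  exact h1

end regular

end Groth.Agent.Lib.Helper4.SkOpen
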