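import Groth.Agent.Lib.Helper4.JacobsonLift

/-!
# Stably free modules: two-out-of-three and lifting modulo the Jacobson radical (helper4)
-/

set_option autoImplicit false

universe u v w

open TensorProduct Module

namespace Groth.Agent.Lib.Helper4

section twoOfThree

variable (R : Type u) [CommRing R]

/-- shuffle of products -/
def prodShuffle (X Y A B : Type*) [AddCommGroup X] [Module R X] [AddCommGroup Y] [Module R Y]
    [AddCommGroup A] [Module R A] [AddCommGroup B] [Module R B] :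
    (Y × ((X × A) × B)) ≃ₗ[R] (((X × Y) × B) × A) where
  toFun p := (((p.2.1.1, p.1), p.2.2), p.2.1.2)
  invFun q := (q.1.1.2, ((q.1.1.1, q.2), q.1.2))
  map_add' _ _ := rfl
  map_smul' _ _ := rfl
  left_inv _ := rfl
  right_inv _ := rfl

variable (X : Type v) (Y : Type w) [AddCommGroup X] [Module R X] [AddCommGroup Y] [Module R Y]

theorem isStablyFree_prod [IsStablyFree R X] [IsStablyFree R Y] : IsStablyFree R (X × Y) := by
  obtain ⟨F₁, _, _, _, _, hF₁⟩ := IsStablyFree.exist_free_prod R X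
  obtain ⟨F₂, _, _, _, _, hF₂⟩ := IsStablyFree.exist_free_prod R Y
  haveI : Module.Free R ((X × Y) × (F₁ × F₂)) :=
    Module.Free.of_equiv (LinearEquiv.prodProdProdComm R X F₁ Y F₂)
  exact IsStablyFree.of_free_prod R (X × Y) (F₁ × F₂)

theorem isStablyFree_of_prod_left [Module.Finite R X] [IsStablyFree R X]
    [IsStablyFree R (X × Y)] : IsStablyFree R Y := by
  obtain ⟨F₁, _, _, _, _, hF₁⟩ := IsStablyFree.exist_free_prod R X
  obtain ⟨F₂, _, _, _, _, hF₂⟩ := IsStablyFree.exist_free_prod R (X × Y)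
  haveI : Module.Free R (Y × ((X × F₁) × F₂)) :=
    Module.Free.of_equiv (prodShuffle R X Y F₁ F₂).symm
  exact IsStablyFree.of_free_prod R Y ((X × F₁) × F₂)

theorem isStablyFree_of_prod_right [Module.Finite R Y] [IsStablyFree R Y]
    [IsStablyFree R (X × Y)] : IsStablyFree R X := by
  haveI : IsStablyFree R (Y × X) := IsStablyFree.equiv (LinearEquiv.prodComm R X Y)
  exact isStablyFree_of_prod_left R Y X

end twoOfThree

section exact

variable {R : Type u} [CommRing R] {P' P P'' : Type u}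
  [AddCommGroup P'] [Module R P'] [Module.Finite R P']
  [AddCommGroup P] [Module R P]
  [AddCommGroup P''] [Module R P''] [Module.Finite R P''] [Module.Projective R P'']

theorem isStablyFree_two_out_of_three (f : P' →ₗ[R] P) (g : P →ₗ[R] P'')
    (hf : Function.Injective f) (hg : Function.Surjective g) (hfg : Function.Exact f g) :
    (IsStablyFree R P' → IsStablyFree R P → IsStablyFree R P'') ∧
    (IsStablyFree R P' → IsStablyFree R P'' → IsStablyFree R P) ∧
    (IsStablyFree R P → IsStablyFree R P'' → IsStablyFree R P') := by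
  obtain ⟨l, hl⟩ := Module.projective_lifting_property g LinearMap.id hg
  have e : P ≃ₗ[R] P' × P'' := (hfg.splitSurjectiveEquiv hf ⟨l, hl⟩).1
  refine ⟨fun h1 h2 => ?_, fun h1 h2 => ?_, fun h1 h2 => ?_⟩
  · haveI : IsStablyFree R (P' × P'') := IsStablyFree.equiv e
    exact isStablyFree_of_prod_left R P' P''
  · haveI : IsStablyFree R (P' × P'') := isStablyFree_prod R P' P''
    exact IsStablyFree.equiv e.symm
  · haveI : IsStablyFree R (P' × P'') := IsStablyFree.equiv e
    exact isStablyFree_of_prod_right R P' P''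

end exact

section lift

variable {R : Type u} [CommRing R] (I : Ideal R)

/-- coordinatewise reduction -/
noncomputable def red (n : ℕ) : (Fin n → R) →ₗ[R] (Fin n → R ⧸ I) :=
  (Algebra.linearMap R (R ⧸ I)).compLeft (Fin n)

lemma red_apply (n : ℕ) (x : Fin n → R) (i : Fin n) :
    red I n x i = Ideal.Quotient.mk I (x i) := rfl

lemma red_surjective (n : ℕ) : Function.Surjective (red I n) := by
  intro y
  refine ⟨fun i => (Ideal.Quotient.mk_surjective (y i)).choose, ?_⟩
  funext i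
  rw [red_apply]
  exact (Ideal.Quotient.mk_surjective (y i)).choose_spec

lemma mem_smul_top_of_red_eq_zero (n : ℕ) (x : Fin n → R) (hx : red I n x = 0) :
    x ∈ I • (⊤ : Submodule R (Fin n → R)) := by
  classical
  have hxi : ∀ i, x i ∈ I := by
    intro i
    have := congrFun hx i
    rw [red_apply] at this
    exact Ideal.Quotient.eq_zero_iff_mem.mp this
  rw [pi_eq_sum_univ' x]
  exact Submodule.sum_mem _ fun i _ => Submodule.smul_mem_smul (hxi i) Submodule.mem_top

variable {I}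

theorem exists_isStablyFree_lift (hI : I ≤ Ideal.jacobson (⊥ : Ideal R)) (E : Type u)
    [AddCommGroup E] [Module (R ⧸ I) E] [Module.Finite (R ⧸ I) E]
    [Module.IsStablyFree (R ⧸ I) E] :
    ∃ (M : Type u) (_ : AddCommGroup M) (_ : Module R M), Module.Finite R M ∧
      Module.IsStablyFree R M ∧ Nonempty ((R ⧸ I) ⊗[R] M ≃ₗ[R ⧸ I] E) := by
  classical
  letI : Module R E := Module.compHom E (Ideal.Quotient.mk I)
  haveI : IsScalarTower R (R ⧸ I) E := ⟨fun r s e => by
    change (r • s) • e = (Ideal.Quotient.mk I r) • (s • e)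
    rw [Algebra.smul_def, mul_smul]
    rfl⟩
  obtain ⟨N, _, _, _, _, hfree⟩ := Module.IsStablyFree.exist_free_prod (R ⧸ I) E
  obtain ⟨a, ⟨eN⟩⟩ : ∃ a : ℕ, Nonempty (N ≃ₗ[R ⧸ I] (Fin a → R ⧸ I)) :=
    ⟨_, ⟨(Module.Free.chooseBasis (R ⧸ I) N).equivFun.trans
      (LinearEquiv.funCongrLeft (R ⧸ I) (R ⧸ I) (Fintype.equivFin _).symm)⟩⟩
  obtain ⟨b, ⟨eEN⟩⟩ : ∃ b : ℕ, Nonempty ((E × N) ≃ₗ[R ⧸ I] (Fin b → R ⧸ I)) :=
    ⟨_, ⟨(Module.Free.chooseBasis (R ⧸ I) (E × N)).equivFun.trans
      (LinearEquiv.funCongrLeft (R ⧸ I) (R ⧸ I) (Fintype.equivFin _).symm)⟩⟩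
  -- the three maps over `R ⧸ I`
  obtain ⟨ιb, hιb⟩ : ∃ ιb : (Fin a → R ⧸ I) →ₗ[R ⧸ I] (Fin b → R ⧸ I),
      ιb = eEN.toLinearMap ∘ₗ LinearMap.inr (R ⧸ I) E N ∘ₗ eN.symm.toLinearMap := ⟨_, rfl⟩
  obtain ⟨πb, hπb⟩ : ∃ πb : (Fin b → R ⧸ I) →ₗ[R ⧸ I] (Fin a → R ⧸ I),
      πb = eN.toLinearMap ∘ₗ LinearMap.snd (R ⧸ I) E N ∘ₗ eEN.symm.toLinearMap := ⟨_, rfl⟩
  obtain ⟨qb, hqb⟩ : ∃ qb : (Fin b → R ⧸ I) →ₗ[R ⧸ I] E,
      qb = LinearMap.fst (R ⧸ I) E N ∘ₗ eEN.symm.toLinearMap := ⟨_, rfl⟩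
  have h_pi : ∀ x, πb (ιb x) = x := by
    intro x
    simp [hπb, hιb]
  have h_qsurj : Function.Surjective qb := by
    intro e
    refine ⟨eEN (e, 0), ?_⟩
    simp [hqb]
  have h_qi : ∀ x, qb (ιb x) = 0 := by
    intro x
    simp [hqb, hιb]
  have h_ex : ∀ y, qb y = 0 → ∃ x, ιb x = y := by
    intro y hy
    refine ⟨eN (eEN.symm y).2, ?_⟩
    have h1 : (eEN.symm y).1 = 0 := by simpa [hqb] using hy
    simp only [hιb, LinearMap.coe_comp, LinearEquiv.coe_coe, Function.comp_apply,
      LinearEquiv.symm_apply_apply, LinearMap.inr_apply]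
    rw [← h1, Prod.mk.eta, LinearEquiv.apply_symm_apply]
  clear hιb hπb hqb
  -- lifts
  obtain ⟨ι, hι⟩ := Module.projective_lifting_property (red I b)
    ((ιb.restrictScalars R) ∘ₗ red I a) (red_surjective I b)
  obtain ⟨π, hπ⟩ := Module.projective_lifting_property (red I a)
    ((πb.restrictScalars R) ∘ₗ red I b) (red_surjective I a)
  have hι' : ∀ x, red I b (ι x) = ιb (red I a x) := fun x => LinearMap.congr_fun hι x
  have hπ' : ∀ y, red I a (π y) = πb (red I b y) := fun y => LinearMap.congr_fun hπ y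
  have hθred : ∀ x, red I a (π (ι x)) = red I a x := by
    intro x
    rw [hπ', hι', h_pi]
  have hθsurj : Function.Surjective (π ∘ₗ ι) := by
    rw [← LinearMap.range_eq_top, eq_top_iff]
    apply Submodule.le_of_le_smul_of_le_jacobson_bot Module.Finite.fg_top hI
    intro x _
    have h1 : x - (π ∘ₗ ι) x ∈ I • (⊤ : Submodule R (Fin a → R)) := by
      apply mem_smul_top_of_red_eq_zero
      rw [map_sub, LinearMap.comp_apply, hθred, sub_self]
    have h2 : x = (π ∘ₗ ι) x + (x - (π ∘ₗ ι) x) := by abel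
    rw [h2]
    exact Submodule.add_mem_sup (LinearMap.mem_range_self _ x) h1
  have hθinj : Function.Injective (π ∘ₗ ι) :=
    OrzechProperty.injective_of_surjective_endomorphism _ hθsurj
  let θe : (Fin a → R) ≃ₗ[R] (Fin a → R) := LinearEquiv.ofBijective (π ∘ₗ ι) ⟨hθinj, hθsurj⟩
  have hρ : (θe.symm.toLinearMap ∘ₗ π) ∘ₗ ι = LinearMap.id := by
    refine LinearMap.ext fun x => ?_
    change θe.symm (π (ι x)) = x
    rw [LinearEquiv.symm_apply_eq]
    rfl
  -- the module
  refine ⟨(Fin b → R) ⧸ LinearMap.range ι, inferInstance, inferInstance, inferInstance, ?_, ?_⟩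
  · have e := ((LinearMap.exact_map_mkQ_range ι).splitInjectiveEquiv
      (Submodule.mkQ_surjective _) ⟨_, hρ⟩).1
    haveI : Module.Free R ((Fin a → R) × ((Fin b → R) ⧸ LinearMap.range ι)) :=
      Module.Free.of_equiv e
    exact IsStablyFree.of_free_prod' R _ (Fin a → R)
  · have hker : LinearMap.range ι ≤ LinearMap.ker ((qb.restrictScalars R) ∘ₗ red I b) := by
      rintro _ ⟨x, rfl⟩
      rw [LinearMap.mem_ker, LinearMap.comp_apply, hι']
      exact h_qi _
    let ψ : ((Fin b → R) ⧸ LinearMap.range ι) →ₗ[R] E :=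
      (LinearMap.range ι).liftQ ((qb.restrictScalars R) ∘ₗ red I b) hker
    have hψ : ∀ y, ψ (Submodule.Quotient.mk y) = qb (red I b y) := fun y => rfl
    refine ⟨LinearEquiv.ofBijective (ψ.liftBaseChange (R ⧸ I)) ⟨?_, ?_⟩⟩
    · rw [← LinearMap.ker_eq_bot, LinearMap.ker_eq_bot']
      intro t ht
      obtain ⟨m, rfl⟩ := mk_one_surjective I _ t
      obtain ⟨y, rfl⟩ := Submodule.Quotient.mk_surjective _ m
      rw [TensorProduct.mk_apply, LinearMap.liftBaseChange_tmul, one_smul, hψ] at ht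
      obtain ⟨xb, hxb⟩ := h_ex _ ht
      obtain ⟨x, rfl⟩ := red_surjective I a xb
      rw [← hι'] at hxb
      have h1 : y - ι x ∈ I • (⊤ : Submodule R (Fin b → R)) := by
        apply mem_smul_top_of_red_eq_zero
        rw [map_sub, hxb, sub_self]
      have h2 : (Submodule.Quotient.mk y : (Fin b → R) ⧸ LinearMap.range ι) =
          Submodule.Quotient.mk (y - ι x) := by
        rw [Submodule.Quotient.mk_sub]
        have : (Submodule.Quotient.mk (ι x) : (Fin b → R) ⧸ LinearMap.range ι) = 0 :=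
          (Submodule.Quotient.mk_eq_zero _).mpr (LinearMap.mem_range_self ι x)
        rw [this, sub_zero]
      rw [TensorProduct.mk_apply, one_tmul_eq_zero_iff, h2]
      have h3 := Submodule.mem_map_of_mem (f := (LinearMap.range ι).mkQ) h1
      rw [Submodule.map_smul''] at h3
      exact Submodule.smul_mono le_rfl le_top h3
    · intro e
      obtain ⟨yb, rfl⟩ := h_qsurj e
      obtain ⟨y, rfl⟩ := red_surjective I b yb
      refine ⟨(1 : R ⧸ I) ⊗ₜ Submodule.Quotient.mk y, ?_⟩
      rw [LinearMap.liftBaseChange_tmul, one_smul, hψ]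

end lift

end Groth.Agent.Lib.Helper4
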