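import Mathlib
import Groth.Agent.Lib.Helper4.StablyFree
import Groth.Agent.Lib.Helper7.SyzFree
import Groth.Agent.Lib.Helper7.AusBuch
import Groth.Agent.Lib.Helper9.RegLocal
import Groth.Agent.S0563

/-!
# Projective base changes of modules of finite projective dimension are stably free;
  Picard group of a localization of a regular local ring (helper4)

* `isStablyFree_baseChange`: `R` Noetherian local, `T` a flat `R`-algebra, `M` a finite `R`-module
  of finite projective dimension with `T ⊗ M` projective: then `T ⊗ M` is stably free.
* `free_of_invertible_of_regular`: `R` regular local, `T` a localization of `R` (at any submonoid):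
  every invertible `T`-module is free.
-/

set_option autoImplicit false
set_option linter.style.haveILetI false
set_option linter.unusedSectionVars false
set_option linter.unusedVariables false
set_option maxHeartbeats 800000

universe u

open CategoryTheory TensorProduct

namespace Groth.Agent.Lib.Helper4.PicRegLoc

section SF

variable {R : Type u} [CommRing R] [IsNoetherianRing R] [IsLocalRing R]
  (T : Type u) [CommRing T] [Algebra R T] [Module.Flat R T]

theorem isStablyFree_baseChange :
    ∀ (n : ℕ) (M : Type u) [AddCommGroup M] [Module R M] [Module.Finite R M],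
      HasProjectiveDimensionLT (ModuleCat.of R M) n → Module.Projective T (T ⊗[R] M) →
      Module.IsStablyFree T (T ⊗[R] M) := by
  intro n
  induction n with
  | zero =>
    intro M _ _ _ h _
    have hz : Limits.IsZero (ModuleCat.of R M) := isZero_of_hasProjectiveDimensionLT_zero _
    haveI : Subsingleton M := ModuleCat.isZero_of_iff_subsingleton.1 hz
    haveI : Module.Free R M := Module.Free.of_subsingleton R M
    infer_instance
  | succ n ih =>
    intro M _ _ _ h hproj
    cases n with
    | zero =>
      haveI : Module.Free R M :=
        Groth.Agent.Lib.Helper7.SyzFree.free_of_hasProjectiveDimensionLT_one R M h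
      infer_instance
    | succ n =>
      obtain ⟨b, p, hp, -⟩ := Groth.Agent.Lib.Helper7.AusBuch.exists_minimal_presentation R M
      let S : ShortComplex (ModuleCat.{u} R) :=
        ModuleCat.shortComplexOfCompEqZero (LinearMap.ker p).subtype p
          (LinearMap.exact_subtype_ker_map p).linearMap_comp_eq_zero
      have hS : S.ShortExact := ModuleCat.shortComplex_shortExact S
        (LinearMap.exact_subtype_ker_map p) (LinearMap.ker p).injective_subtype hp
      haveI : Projective (ModuleCat.of R (Fin b → R)) :=
        (IsProjective.iff_projective (R := R) (Fin b → R)).1 inferInstance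
      have hF : HasProjectiveDimensionLT S.X₂ (n + 1) :=
        hasProjectiveDimensionLT_of_ge (ModuleCat.of R (Fin b → R)) 1 (n + 1) (by omega)
      have hK : HasProjectiveDimensionLT (ModuleCat.of R ↥(LinearMap.ker p)) (n + 1) :=
        hS.hasProjectiveDimensionLT_X₁ (n + 1) hF h
      let f0 : ↥(LinearMap.ker p) →ₗ[R] (Fin b → R) := (LinearMap.ker p).subtype
      have hf0 : Function.Injective f0 := Submodule.injective_subtype _
      have hex : Function.Exact f0 p := LinearMap.exact_subtype_ker_map p
      let f' := f0.baseChange T
      let g' := p.baseChange T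
      have hf' : Function.Injective f' :=
        Module.Flat.lTensor_preserves_injective_linearMap (M := T) f0 hf0
      have hg' : Function.Surjective g' := LinearMap.lTensor_surjective T hp
      have hex' : Function.Exact f' g' := lTensor_exact T hex hp
      haveI := hproj
      obtain ⟨l, hl⟩ := Module.projective_lifting_property g' LinearMap.id hg'
      let e := (hex'.splitSurjectiveEquiv hf' ⟨l, hl⟩).1
      haveI : Module.Projective T (T ⊗[R] ↥(LinearMap.ker p)) :=
        Module.Projective.of_split
          (e.symm.toLinearMap.comp (LinearMap.inl T _ _))
          ((LinearMap.fst T _ _).comp e.toLinearMap)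
          (LinearMap.ext fun x => by simp)
      have hKsf : Module.IsStablyFree T (T ⊗[R] ↥(LinearMap.ker p)) :=
        ih ↥(LinearMap.ker p) hK inferInstance
      have hFsf : Module.IsStablyFree T (T ⊗[R] (Fin b → R)) := inferInstance
      exact (isStablyFree_two_out_of_three f' g' hf' hg' hex').1 hKsf hFsf

end SF

section Reg

variable (R : Type u) [CommRing R] [IsRegularLocalRing R]

/-- finite global dimension of a regular local ring, in existential form. -/
theorem exists_hasProjectiveDimensionLT (M : Type u) [AddCommGroup M] [Module R M] :
    ∃ n : ℕ, HasProjectiveDimensionLT (ModuleCat.of R M) n := by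
  have h1 : ((IsLocalRing.maximalIdeal R).spanFinrank : WithBot ℕ∞) = ringKrullDim R :=
    IsRegularLocalRing.spanFinrank_maximalIdeal
  exact ⟨_, Groth.Agent.S0563.result R _ h1.symm M⟩

/-- Over a localization `T` of a regular local ring every invertible module is free. -/
theorem free_of_invertible_of_regular (S : Submonoid R) (T : Type u) [CommRing T] [Algebra R T]
    [IsLocalization S T] (L : Type u) [AddCommGroup L] [Module T L] [Module.Invertible T L] :
    Module.Free T L := by
  rcases subsingleton_or_nontrivial T with hT | hT
  · exact Module.Free.of_subsingleton' T L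
  haveI : IsDomain R := Groth.Agent.Lib.Helper9.RegLocal.isDomain_of_isRegularLocalRing R
  have hS : S ≤ nonZeroDivisors R := by
    intro s hs
    have hu : IsUnit (algebraMap R T s) := IsLocalization.map_units T ⟨s, hs⟩
    have hs0 : s ≠ 0 := by
      rintro rfl
      rw [map_zero] at hu
      exact not_isUnit_zero hu
    exact mem_nonZeroDivisors_of_ne_zero hs0
  haveI : IsDomain T := IsLocalization.isDomain_of_le_nonZeroDivisors T hS
  haveI : Module.Flat R T := IsLocalization.flat T S
  obtain ⟨Q, ⟨e⟩⟩ := Module.Invertible.exists_linearEquiv_ideal T L
  let I : Ideal R := Q.comap (algebraMap R T)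
  have hQ : I.map (algebraMap R T) = Q := IsLocalization.map_comap S T Q
  let g := Submodule.toLocalized' T S (Algebra.linearMap R T) I
  have hbc : IsBaseChange T g := IsLocalizedModule.isBaseChange S T g
  let e2 : ↥(Submodule.localized' T S (Algebra.linearMap R T) I) ≃ₗ[T] ↥Q :=
    LinearEquiv.ofEq _ _ ((Ideal.localized'_eq_map T S I).trans hQ)
  let E : (T ⊗[R] ↥I) ≃ₗ[T] L := (hbc.equiv.trans e2).trans e.symm
  haveI : Module.Projective T (T ⊗[R] ↥I) := Module.Projective.of_equiv E.symm
  obtain ⟨n, hn⟩ := exists_hasProjectiveDimensionLT R ↥I
  haveI : Module.IsStablyFree T (T ⊗[R] ↥I) := isStablyFree_baseChange T n ↥I hn inferInstance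
  haveI : Module.IsStablyFree T L := Module.IsStablyFree.equiv E
  exact Module.free_of_isStablyFree_of_invertible T L

end Reg

end Groth.Agent.Lib.Helper4.PicRegLoc
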