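import Groth.Agent.Lib.Helper4.FlatLocal
import Groth.Agent.Lib.Helper4.Depth2

/-!
# The depth formula for flat local homomorphisms (helper4)

`depth_S (N ⊗[R] M) = depth_R M + depth_S (N / 𝔪_R N)` for a local homomorphism `R → S` of
Noetherian local rings, `M` a finite `R`-module, `N` a finite `S`-module flat over `R`.
-/

set_option autoImplicit false

universe u

open TensorProduct Pointwise

namespace Groth.Agent.Lib.Helper4

section isos

variable {R S : Type u} [CommRing R] [CommRing S] [Algebra R S]
  {N : Type u} [AddCommGroup N] [Module S N] [Module R N] [IsScalarTower R S N]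
  {M : Type u} [AddCommGroup M] [Module R M]

lemma smul_eq_lTensor (x : R) (w : N ⊗[R] M) :
    x • w = ((DistribSMul.toLinearMap R M x).lTensor N) w := by
  induction w using TensorProduct.induction_on with
  | zero => rw [smul_zero, map_zero]
  | tmul n m => rw [← TensorProduct.tmul_smul, LinearMap.lTensor_tmul]; rfl
  | add a b ha hb => rw [smul_add, map_add, ha, hb]

lemma subsingleton_tensor_of_right [Subsingleton M] : Subsingleton (N ⊗[R] M) := by
  refine ⟨fun a b => ?_⟩
  have : ∀ z : N ⊗[R] M, z = 0 := fun z => by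
    induction z using TensorProduct.induction_on with
    | zero => rfl
    | tmul n l => rw [Subsingleton.elim l 0, TensorProduct.tmul_zero]
    | add a b ha hb => rw [ha, hb, add_zero]
  rw [this a, this b]

lemma subsingleton_tensor_of_left [Subsingleton N] : Subsingleton (N ⊗[R] M) := by
  refine ⟨fun a b => ?_⟩
  have : ∀ z : N ⊗[R] M, z = 0 := fun z => by
    induction z using TensorProduct.induction_on with
    | zero => rfl
    | tmul n l => rw [Subsingleton.elim n 0, TensorProduct.zero_tmul]
    | add a b ha hb => rw [ha, hb, add_zero]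
  rw [this a, this b]

variable (N M) in
/-- `(N ⊗ M)/x(N ⊗ M) ≃ N ⊗ (M/xM)` as `S`-modules. -/
noncomputable def quotSMulTopTensorEquivLeft (x : R) :
    QuotSMulTop (algebraMap R S x) (N ⊗[R] M) ≃ₗ[S] N ⊗[R] (QuotSMulTop x M) := by
  let g : N ⊗[R] M →ₗ[S] N ⊗[R] (QuotSMulTop x M) :=
    AlgebraTensorModule.lTensor S N (Submodule.mkQ (x • (⊤ : Submodule R M)))
  have hg : Function.Surjective g :=
    LinearMap.lTensor_surjective N (Submodule.mkQ_surjective _)
  have hex : Function.Exact (DistribSMul.toLinearMap R M x)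
      (Submodule.mkQ (x • (⊤ : Submodule R M))) := by
    intro m
    rw [Submodule.mkQ_apply, Submodule.Quotient.mk_eq_zero,
      Submodule.mem_smul_pointwise_iff_exists]
    constructor
    · rintro ⟨m', -, rfl⟩; exact ⟨m', rfl⟩
    · rintro ⟨m', rfl⟩; exact ⟨m', Submodule.mem_top, rfl⟩
  have hex' := _root_.lTensor_exact N hex (Submodule.mkQ_surjective _)
  have hker : (algebraMap R S x) • (⊤ : Submodule S (N ⊗[R] M)) = LinearMap.ker g := by
    ext z
    rw [LinearMap.mem_ker, Submodule.mem_smul_pointwise_iff_exists]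
    constructor
    · rintro ⟨w, -, rfl⟩
      rw [algebraMap_smul, smul_eq_lTensor]
      exact (hex' _).mpr ⟨w, rfl⟩
    · intro hz
      obtain ⟨w, hw⟩ := (hex' z).mp hz
      exact ⟨w, Submodule.mem_top, by rw [algebraMap_smul, smul_eq_lTensor, hw]⟩
  exact (Submodule.quotEquivOfEq _ _ hker).trans (LinearMap.quotKerEquivOfSurjective g hg)

variable (N M) in
/-- `(N ⊗ M)/y(N ⊗ M) ≃ (N/yN) ⊗ M` as `S`-modules. -/
noncomputable def quotSMulTopTensorEquivRight (y : S) :
    QuotSMulTop y (N ⊗[R] M) ≃ₗ[S] (QuotSMulTop y N) ⊗[R] M := by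
  let π : N →ₗ[R] QuotSMulTop y N :=
    (Submodule.mkQ (y • (⊤ : Submodule S N))).restrictScalars R
  let g : N ⊗[R] M →ₗ[S] (QuotSMulTop y N) ⊗[R] M :=
    { toFun := π.rTensor M
      map_add' := map_add _
      map_smul' := fun s z => by
        induction z using TensorProduct.induction_on with
        | zero => simp
        | tmul n m =>
          rw [TensorProduct.smul_tmul', LinearMap.rTensor_tmul, LinearMap.rTensor_tmul,
            RingHom.id_apply, TensorProduct.smul_tmul']
          rfl
        | add a b ha hb => simp only [smul_add, map_add, ha, hb] }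
  have hπ : Function.Surjective π := Submodule.mkQ_surjective _
  have hg : Function.Surjective g := LinearMap.rTensor_surjective M hπ
  have hex : Function.Exact (DistribSMul.toLinearMap R N y) π := by
    intro n
    change Submodule.Quotient.mk n = 0 ↔ _
    rw [Submodule.Quotient.mk_eq_zero, Submodule.mem_smul_pointwise_iff_exists]
    constructor
    · rintro ⟨n', -, rfl⟩; exact ⟨n', rfl⟩
    · rintro ⟨n', rfl⟩; exact ⟨n', Submodule.mem_top, rfl⟩
  have hex' := _root_.rTensor_exact M hex hπ
  have hker : y • (⊤ : Submodule S (N ⊗[R] M)) = LinearMap.ker g := by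
    ext z
    rw [LinearMap.mem_ker, Submodule.mem_smul_pointwise_iff_exists]
    constructor
    · rintro ⟨w, -, rfl⟩
      rw [smul_eq_rTensor]
      exact (hex' _).mpr ⟨w, rfl⟩
    · intro hz
      obtain ⟨w, hw⟩ := (hex' z).mp hz
      exact ⟨w, Submodule.mem_top, by rw [smul_eq_rTensor, hw]⟩
  exact (Submodule.quotEquivOfEq _ _ hker).trans (LinearMap.quotKerEquivOfSurjective g hg)

variable (N) in
/-- `(N/yN)/J(N/yN) ≃ (N/JN)/y(N/JN)`. -/
noncomputable def quotQuotSwapEquiv (J : Ideal S) (y : S) :
    ((QuotSMulTop y N) ⧸ (J • (⊤ : Submodule S (QuotSMulTop y N)))) ≃ₗ[S]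
      QuotSMulTop y (N ⧸ (J • (⊤ : Submodule S N))) := by
  have h1 : (J • (⊤ : Submodule S (QuotSMulTop y N))) =
      (J • (⊤ : Submodule S N)).map (y • (⊤ : Submodule S N)).mkQ := by
    rw [Submodule.map_smul'', Submodule.map_top, Submodule.range_mkQ]
  have h2 : (y • (⊤ : Submodule S (N ⧸ (J • (⊤ : Submodule S N))))) =
      (y • (⊤ : Submodule S N)).map (J • (⊤ : Submodule S N)).mkQ := by
    rw [Submodule.map_pointwise_smul, Submodule.map_top, Submodule.range_mkQ]
  exact (Submodule.quotEquivOfEq _ _ h1).trans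
    ((Submodule.quotientQuotientEquivQuotientSup (y • (⊤ : Submodule S N))
        (J • (⊤ : Submodule S N))).trans
      ((Submodule.quotEquivOfEq _ _ (sup_comm _ _)).trans
        ((Submodule.quotientQuotientEquivQuotientSup (J • (⊤ : Submodule S N))
            (y • (⊤ : Submodule S N))).symm.trans
          (Submodule.quotEquivOfEq _ _ h2.symm))))

end isos

section main

variable {R S : Type u} [CommRing R] [CommRing S] [IsLocalRing R] [IsLocalRing S]
  [IsNoetherianRing R] [IsNoetherianRing S] [Algebra R S] [IsLocalHom (algebraMap R S)]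

omit [IsNoetherianRing R] [IsNoetherianRing S] in
lemma map_maximalIdeal_smul_top_ne_top (N : Type u) [AddCommGroup N] [Module S N]
    [Module.Finite S N] [Nontrivial N] :
    (IsLocalRing.maximalIdeal R).map (algebraMap R S) • (⊤ : Submodule S N) ≠ ⊤ := by
  intro h
  apply maximalIdeal_smul_top_ne_top (R := S) (M := N)
  have hle : (IsLocalRing.maximalIdeal R).map (algebraMap R S) • (⊤ : Submodule S N) ≤
      IsLocalRing.maximalIdeal S • (⊤ : Submodule S N) :=
    Submodule.smul_mono_left (IsLocalRing.map_maximalIdeal_le (algebraMap R S))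
  exact top_le_iff.mp (le_trans (le_of_eq h.symm) hle)

omit [IsLocalHom (algebraMap R S)] in
/-- Base case: both depths zero. -/
theorem depth_tensor_base (M : Type u) [AddCommGroup M] [Module R M] [Module.Finite R M]
    (N : Type u) [AddCommGroup N] [Module S N] [Module R N] [IsScalarTower R S N]
    [Module.Finite S N] [Module.Flat R N]
    (hM : LocCoh.depth R M = 0)
    (hN : LocCoh.depth S (N ⧸ ((IsLocalRing.maximalIdeal R).map (algebraMap R S) •
      (⊤ : Submodule S N))) = 0) :
    LocCoh.depth S (N ⊗[R] M) = 0 := by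
  have : Module.Finite S (N ⊗[R] M) := Groth.Agent.Lib.Helper8.finite_tensor N M
  rw [depth_eq_zero_iff_maximalIdeal_mem_associatedPrimes] at hM hN ⊢
  obtain ⟨_, ι, hι⟩ := (isAssociatedPrime_iff_exists_injective_linearMap _ _).mp hM
  obtain ⟨_, nbar, hn⟩ := isAssociatedPrime_iff.mp hN
  obtain ⟨n₀, rfl⟩ := Submodule.Quotient.mk_surjective _ nbar
  refine isAssociatedPrime_iff.mpr ⟨inferInstance, n₀ ⊗ₜ[R] ι 1, ?_⟩
  have hinj : Function.Injective (ι.lTensor N) :=
    Module.Flat.lTensor_preserves_injective_linearMap _ hι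
  ext s
  have e1 : s • (n₀ ⊗ₜ[R] ι 1) =
      (ι.lTensor N) ((s • n₀) ⊗ₜ[R] (1 : R ⧸ IsLocalRing.maximalIdeal R)) := by
    rw [TensorProduct.smul_tmul', LinearMap.lTensor_tmul]
  have e2 : tensorQuotEquivQuotMapSMul R S N (IsLocalRing.maximalIdeal R)
      ((s • n₀) ⊗ₜ[R] (1 : R ⧸ IsLocalRing.maximalIdeal R)) =
        s • Submodule.Quotient.mk n₀ := by
    rw [← map_one (Ideal.Quotient.mk (IsLocalRing.maximalIdeal R)),
      tensorQuotEquivQuotMapSMul_tmul, one_smul, Submodule.Quotient.mk_smul]
  have hs : s ∈ IsLocalRing.maximalIdeal S ↔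
      s • (Submodule.Quotient.mk n₀ : N ⧸ ((IsLocalRing.maximalIdeal R).map (algebraMap R S) •
        (⊤ : Submodule S N))) = 0 := by
    conv_lhs => rw [hn]
    rw [Submodule.mem_colon_singleton, Submodule.mem_bot]
  rw [hs, Submodule.mem_colon_singleton, Submodule.mem_bot, e1, ← e2]
  constructor
  · intro h
    rw [(LinearEquiv.map_eq_zero_iff _).mp h, map_zero]
  · intro h
    rw [(map_eq_zero_iff _ hinj).mp h, map_zero]

theorem depth_tensor_aux (n : ℕ) : ∀ (M : Type u) [AddCommGroup M] [Module R M] [Module.Finite R M]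
    (N : Type u) [AddCommGroup N] [Module S N] [Module R N] [IsScalarTower R S N]
    [Module.Finite S N] [Module.Flat R N],
    LocCoh.depth R M + LocCoh.depth S (N ⧸ ((IsLocalRing.maximalIdeal R).map (algebraMap R S) •
      (⊤ : Submodule S N))) = (n : ℕ∞) →
    LocCoh.depth S (N ⊗[R] M) = (n : ℕ∞) := by
  induction n with
  | zero =>
    intro M _ _ _ N _ _ _ _ _ _ h
    have h' : LocCoh.depth R M + LocCoh.depth S (N ⧸ ((IsLocalRing.maximalIdeal R).map
        (algebraMap R S) • (⊤ : Submodule S N))) = 0 := by exact_mod_cast h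
    rw [add_eq_zero] at h'
    exact_mod_cast depth_tensor_base M N h'.1 h'.2
  | succ n ih =>
    intro M _ _ _ N _ _ _ _ _ _ h
    have : Module.Finite S (N ⊗[R] M) := Groth.Agent.Lib.Helper8.finite_tensor N M
    by_cases hM0 : LocCoh.depth R M = 0
    · rw [hM0, zero_add] at h
      have hIF : IsLocalRing.maximalIdeal S • (⊤ : Submodule S (N ⧸ ((IsLocalRing.maximalIdeal R).map
          (algebraMap R S) • (⊤ : Submodule S N)))) ≠ ⊤ := by
        intro htop
        have := idealDepth_of_smul_top_eq _ htop
        rw [LocCoh.depth, this] at h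
        exact ENat.top_ne_natCast _ h
      have h1 : 1 ≤ LocCoh.depth S (N ⧸ ((IsLocalRing.maximalIdeal R).map
          (algebraMap R S) • (⊤ : Submodule S N))) := by
        rw [h]
        exact_mod_cast Nat.succ_le_succ (Nat.zero_le n)
      obtain ⟨y, hym, hy⟩ := (one_le_idealDepth_iff _ hIF).mp h1
      have hreg := isSMulRegular_tensor_of_fibre y hy M
      have : Module.Flat R (QuotSMulTop y N) := flat_quotSMulTop_of_fibre y hy
      have hF := idealDepth_quotSMulTop_add_one (IsLocalRing.maximalIdeal S) y hym hy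
      have hF' : LocCoh.depth S ((QuotSMulTop y N) ⧸ ((IsLocalRing.maximalIdeal R).map
          (algebraMap R S) • (⊤ : Submodule S (QuotSMulTop y N)))) = (n : ℕ∞) := by
        have e := idealDepth_congr (IsLocalRing.maximalIdeal S)
          (quotQuotSwapEquiv N ((IsLocalRing.maximalIdeal R).map (algebraMap R S)) y)
        unfold LocCoh.depth at h ⊢
        rw [e]
        rw [← hF] at h
        push_cast at h
        exact ENat.add_left_injective_of_ne_top ENat.one_ne_top h
      have hih := ih M (QuotSMulTop y N) (by rw [hM0, zero_add]; exact hF')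
      have hT := idealDepth_quotSMulTop_add_one (IsLocalRing.maximalIdeal S) y hym hreg
      have e2 := idealDepth_congr (IsLocalRing.maximalIdeal S)
        (quotSMulTopTensorEquivRight (R := R) N M y)
      unfold LocCoh.depth at hih ⊢
      rw [← hT, e2, hih]
      push_cast
      rfl
    · have hMtop : LocCoh.depth R M ≠ ⊤ := by
        intro htop
        rw [htop, top_add] at h
        exact ENat.top_ne_natCast _ h
      have hIM : IsLocalRing.maximalIdeal R • (⊤ : Submodule R M) ≠ ⊤ :=
        fun htop => hMtop (idealDepth_of_smul_top_eq _ htop)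
      have h1 : 1 ≤ LocCoh.depth R M := Order.one_le_iff_pos.mpr (pos_iff_ne_zero.mpr hM0)
      obtain ⟨x, hxm, hx⟩ := (one_le_idealDepth_iff _ hIM).mp h1
      have hM1 := idealDepth_quotSMulTop_add_one (IsLocalRing.maximalIdeal R) x hxm hx
      have hreg : IsSMulRegular (N ⊗[R] M) (algebraMap R S x) := by
        intro a b hab
        have hinj : Function.Injective ((DistribSMul.toLinearMap R M x).lTensor N) :=
          Module.Flat.lTensor_preserves_injective_linearMap _ hx
        apply hinj
        rw [← smul_eq_lTensor, ← smul_eq_lTensor, ← algebraMap_smul S x a,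
          ← algebraMap_smul S x b]
        exact hab
      have hxS : algebraMap R S x ∈ IsLocalRing.maximalIdeal S :=
        (IsLocalRing.map_maximalIdeal_le (algebraMap R S)) (Ideal.mem_map_of_mem _ hxm)
      have hT := idealDepth_quotSMulTop_add_one (IsLocalRing.maximalIdeal S) _ hxS hreg
      have e := idealDepth_congr (IsLocalRing.maximalIdeal S)
        (quotSMulTopTensorEquivLeft (S := S) N M x)
      have hsum : LocCoh.depth R (QuotSMulTop x M) +
          LocCoh.depth S (N ⧸ ((IsLocalRing.maximalIdeal R).map (algebraMap R S) •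
            (⊤ : Submodule S N))) = (n : ℕ∞) := by
        unfold LocCoh.depth at h ⊢
        rw [← hM1, add_right_comm] at h
        push_cast at h
        exact ENat.add_left_injective_of_ne_top ENat.one_ne_top h
      have hih := ih (QuotSMulTop x M) N hsum
      unfold LocCoh.depth at hih ⊢
      rw [← hT, e, hih]
      push_cast
      rfl

/-- **Depth formula for flat local homomorphisms.** -/
theorem depth_tensor_eq (M : Type u) [AddCommGroup M] [Module R M] [Module.Finite R M]
    (N : Type u) [AddCommGroup N] [Module S N] [Module R N] [IsScalarTower R S N]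
    [Module.Finite S N] [Module.Flat R N] :
    LocCoh.depth S (N ⊗[R] M) = LocCoh.depth R M +
      LocCoh.depth S (N ⧸ ((IsLocalRing.maximalIdeal R).map (algebraMap R S) •
        (⊤ : Submodule S N))) := by
  by_cases hM : Subsingleton M
  · have : Subsingleton (N ⊗[R] M) := subsingleton_tensor_of_right
    rw [depth_eq_top_of_subsingleton, depth_eq_top_of_subsingleton (M := M), top_add]
  rw [not_subsingleton_iff_nontrivial] at hM
  by_cases hN : Subsingleton N
  · have : Subsingleton (N ⊗[R] M) := subsingleton_tensor_of_left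
    rw [depth_eq_top_of_subsingleton, depth_eq_top_of_subsingleton
      (M := N ⧸ ((IsLocalRing.maximalIdeal R).map (algebraMap R S) • (⊤ : Submodule S N))),
      add_top]
  rw [not_subsingleton_iff_nontrivial] at hN
  have hF : Nontrivial (N ⧸ ((IsLocalRing.maximalIdeal R).map (algebraMap R S) •
      (⊤ : Submodule S N))) :=
    Submodule.Quotient.nontrivial_iff.mpr (map_maximalIdeal_smul_top_ne_top N)
  have h1 : LocCoh.depth R M ≠ ⊤ := idealDepth_ne_top _ maximalIdeal_smul_top_ne_top
  have h2 : LocCoh.depth S (N ⧸ ((IsLocalRing.maximalIdeal R).map (algebraMap R S) •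
      (⊤ : Submodule S N))) ≠ ⊤ := idealDepth_ne_top _ maximalIdeal_smul_top_ne_top
  obtain ⟨a, ha⟩ := ENat.ne_top_iff_exists.mp h1
  obtain ⟨b, hb⟩ := ENat.ne_top_iff_exists.mp h2
  rw [depth_tensor_aux (a + b) M N (by rw [← ha, ← hb]; push_cast; rfl), ← ha, ← hb]
  push_cast
  rfl

/-- A nonzero module of finite length over a Noetherian local ring has depth `0`. -/
theorem depth_eq_zero_of_isFiniteLength (F : Type u) [AddCommGroup F] [Module S F] [Nontrivial F]
    (hF : IsFiniteLength S F) : LocCoh.depth S F = 0 := by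
  obtain ⟨hNoe, hArt⟩ := isFiniteLength_iff_isNoetherian_isArtinian.mp hF
  have : Module.Finite S F := ⟨IsNoetherian.noetherian ⊤⟩
  rw [depth_eq_zero_iff_maximalIdeal_mem_associatedPrimes]
  have : IsAtomic (Submodule S F) := isAtomic_of_orderBot_wellFounded_lt wellFounded_lt
  obtain ⟨K, hK⟩ := IsAtomic.exists_atom (Submodule S F)
  have hs : IsSimpleModule S K := isSimpleModule_iff_isAtom.mpr hK
  obtain ⟨I, hI, ⟨e⟩⟩ := isSimpleModule_iff_quot_maximal.mp hs
  have hIm : I = IsLocalRing.maximalIdeal S := IsLocalRing.eq_maximalIdeal hI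
  subst hIm
  exact (isAssociatedPrime_iff_exists_injective_linearMap _ _).mpr
    ⟨inferInstance, K.subtype ∘ₗ e.symm.toLinearMap,
      K.subtype_injective.comp e.symm.injective⟩

end main

end Groth.Agent.Lib.Helper4
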