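import Mathlib
import Groth.Agent.Lib.Helper4.StalkDual3
import Groth.Agent.Lib.Helper4.CM
import Groth.Agent.Lib.Helper4.Depth2
import Groth.Agent.Lib.Helper9.InjDim
import Groth.Agent.S2935

/-!
# Canonical modules (in the form `Hom(K, E) ≃ H^n_m(R)`): basic consequences of duality
-/

set_option autoImplicit false
set_option linter.style.haveILetI false
set_option linter.unusedSectionVars false
set_option linter.unusedVariables false
set_option maxHeartbeats 800000

open CategoryTheory Limits Opposite Abelian IsLocalRing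

universe u

namespace Groth.Agent.Lib.Helper4.CanonMod

open Groth.Agent.Lib.Helper4 Groth.Agent.Lib.Helper4.LC Groth.Agent.Lib.Helper4.Falt
  Groth.Agent.Lib.Helper4.EW

section general

variable {R : Type u} [CommRing R] [IsLocalRing R] [IsNoetherianRing R]
  {E : Type u} [AddCommGroup E] [Module R E]
  (f : ResidueField R →ₗ[R] E) (hf : InjHull.IsInjectiveHull f)

include hf in
/-- `E` is a cogenerator. -/
lemma subsingleton_dual_iff (X : Type u) [AddCommGroup X] [Module R X] :
    Subsingleton (X →ₗ[R] E) ↔ Subsingleton X := by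
  constructor
  · intro h
    refine subsingleton_of_forall_eq 0 (fun x => ?_)
    by_contra hx
    obtain ⟨φ, hφ⟩ := Groth.Agent.Lib.Helper1.Matlis.exists_hom_apply_ne_zero f hf X x hx
    apply hφ
    rw [Subsingleton.elim φ 0, LinearMap.zero_apply]
  · intro h
    exact ⟨fun φ ψ => LinearMap.ext fun x => by rw [Subsingleton.elim x 0, map_zero, map_zero]⟩

include hf in
/-- `Hom(M, K) = 0` iff `dim M < n`, for a canonical module `K`. -/
theorem hom_subsingleton_iff (n : ℕ) (hn : ringKrullDim R = n) (K : Type u) [AddCommGroup K]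
    [Module R K] (eK : (K →ₗ[R] E) ≃ₗ[R] HH (maximalIdeal R) (ModuleCat.of R R) n)
    (M : Type u) [AddCommGroup M] [Module R M] [Module.Finite R M] :
    Subsingleton (M →ₗ[R] K) ↔ Module.supportDim R M < (n : WithBot ℕ∞) := by
  haveI := hf.isInjective
  obtain ⟨η, -⟩ := exists_top_natIso n hn E K eK
  rw [← subsingleton_dual_iff f hf (M →ₗ[R] K), ← (η M).toEquiv.subsingleton_congr]
  constructor
  · intro h
    by_contra hnot
    have hle : Module.supportDim R M ≤ (n : WithBot ℕ∞) :=
      hn ▸ Module.supportDim_le_ringKrullDim R M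
    have heq : Module.supportDim R M = n := le_antisymm hle (not_lt.1 hnot)
    haveI : Nontrivial M := by
      by_contra hM
      rw [not_nontrivial_iff_subsingleton] at hM
      rw [Module.supportDim_eq_bot_of_subsingleton] at heq
      exact (WithBot.natCast_ne_bot n) heq.symm
    have hnt := Groth.Agent.S2935.result R M n heq
    rw [nontrivial_H_iff] at hnt
    exact not_subsingleton _ h
  · intro h
    exact HH.subsingleton_of_supportDim_lt_finite (maximalIdeal R) n M h

end general

section cmdual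

variable {R : Type u} [CommRing R] [IsLocalRing R] [IsNoetherianRing R]
  {E : Type u} [AddCommGroup E] [Module R E]
  (f : ResidueField R →ₗ[R] E) (hf : InjHull.IsInjectiveHull f)
  (n : ℕ) (K : Type u) [AddCommGroup K] [Module R K]
  (hdual : ∀ (k j : ℕ), j + k = n → ∀ (M : Type u) [AddCommGroup M] [Module R M]
    [Module.Finite R M], Nonempty (HH (maximalIdeal R) (ModuleCat.of R M) j ≃ₗ[R]
      (Ext.{u} (ModuleCat.of R M) (ModuleCat.of R K) k →ₗ[R] E)))

include hf hdual in
lemma ext_subsingleton_iff (M : Type u) [AddCommGroup M] [Module R M] [Module.Finite R M]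
    (k j : ℕ) (hjk : j + k = n) :
    Subsingleton (Ext.{u} (ModuleCat.of R M) (ModuleCat.of R K) k) ↔
      Subsingleton (HH (maximalIdeal R) (ModuleCat.of R M) j) := by
  obtain ⟨e⟩ := hdual k j hjk M
  exact (subsingleton_dual_iff f hf _).symm.trans e.toEquiv.subsingleton_congr.symm

include hf hdual in
/-- `Ext^{n+1}(M, K) = 0` for finite `M` when `n ≥ 1`. -/
lemma ext_succ_subsingleton_of_pos (hn1 : 1 ≤ n)
    (h0 : Subsingleton (HH (maximalIdeal R) (ModuleCat.of R R) 0))
    (M : Type u) [AddCommGroup M] [Module R M] [Module.Finite R M] :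
    Subsingleton (Ext.{u} (ModuleCat.of R M) (ModuleCat.of R K) (n + 1)) := by
  obtain ⟨r, p, hp⟩ := Module.Finite.exists_fin' R M
  have hex := LinearMap.exact_subtype_ker_map p
  have hT : (sesOf (LinearMap.ker p).subtype p hex).ShortExact :=
    sesOf_shortExact _ _ hex (Submodule.injective_subtype _) hp
  haveI hproj : Projective (sesOf (LinearMap.ker p).subtype p hex).X₂ :=
    (IsProjective.iff_projective (R := R) (Fin r → R)).1 inferInstance
  have hF0 : Subsingleton (HH (maximalIdeal R) (sesOf (LinearMap.ker p).subtype p hex).X₂ 0) :=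
    HH.subsingleton_free (maximalIdeal R) 0 h0 r
  have hK0 : Subsingleton (HH (maximalIdeal R) (sesOf (LinearMap.ker p).subtype p hex).X₁ 0) :=
    HH.subsingleton_X₁_zero (maximalIdeal R) hT hF0
  have hExt : Subsingleton (Ext.{u} (sesOf (LinearMap.ker p).subtype p hex).X₁
      (ModuleCat.of R K) n) :=
    (ext_subsingleton_iff f hf n K hdual (LinearMap.ker p) n 0 (zero_add n)).2 hK0
  refine subsingleton_of_forall_eq 0 (fun x => ?_)
  have h0' : (Ext.mk₀ (sesOf (LinearMap.ker p).subtype p hex).g).comp x (zero_add (n + 1)) = 0 :=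
    Ext.eq_zero_of_projective _
  obtain ⟨x₁, hx₁⟩ := Ext.contravariant_sequence_exact₃ hT _ x h0' (add_comm 1 n)
  rw [← hx₁, Subsingleton.elim x₁ 0, Ext.comp_zero]

include hf hdual in
/-- `Ext^n(k, K) ≠ 0`: the injective dimension of `K` is not `< n`. -/
lemma not_hasInjectiveDimensionLT : ¬ HasInjectiveDimensionLT (ModuleCat.of R K) n := by
  intro h
  obtain ⟨e⟩ := hdual n 0 (zero_add n) (R ⧸ maximalIdeal R)
  haveI h1 : Subsingleton (Ext.{u} (ModuleCat.of R (R ⧸ maximalIdeal R)) (ModuleCat.of R K) n) :=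
    HasInjectiveDimensionLT.subsingleton (ModuleCat.of R K) n n le_rfl _
  haveI h2 : Subsingleton (Ext.{u} (ModuleCat.of R (R ⧸ maximalIdeal R)) (ModuleCat.of R K) n
      →ₗ[R] E) := (subsingleton_dual_iff f hf _).2 h1
  haveI h3 : Subsingleton (HH (maximalIdeal R) (ModuleCat.of R (R ⧸ maximalIdeal R)) 0) :=
    e.toEquiv.subsingleton
  have e0 := HH0EquivOfTorsion (maximalIdeal R) (R ⧸ maximalIdeal R)
    (isPowerTorsion_quotient_self (maximalIdeal R))
  haveI : Nontrivial (R ⧸ maximalIdeal R) :=
    Ideal.Quotient.nontrivial_iff.2 (IsLocalRing.maximalIdeal.isMaximal R).ne_top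
  exact not_subsingleton (R ⧸ maximalIdeal R) e0.symm.toEquiv.subsingleton

include hf hdual in
/-- `n ≤ depth K`. -/
lemma le_depth [Module.Finite R K] : (n : ℕ∞) ≤ LocCoh.depth R K := by
  have hN : Module.support R (R ⧸ maximalIdeal R) =
      PrimeSpectrum.zeroLocus (maximalIdeal R : Set R) := by
    rw [Module.support_eq_zeroLocus, Ideal.annihilator_quotient]
  refine le_idealDepth_of_subsingleton_ext (maximalIdeal R)
    (ModuleCat.of R (R ⧸ maximalIdeal R)) hN (ModuleCat.of R K) n (fun i hi => ?_)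
  obtain ⟨j, hj⟩ : ∃ j, n - i = j + 1 := ⟨n - i - 1, by omega⟩
  rw [ext_subsingleton_iff f hf n K hdual (R ⧸ maximalIdeal R) i (n - i) (by omega), hj]
  exact HH.subsingleton_of_isPowerTorsion (maximalIdeal R) j _
    (isPowerTorsion_quotient_self (maximalIdeal R))

end cmdual

section zero

variable {R : Type u} [CommRing R] [IsLocalRing R] [IsNoetherianRing R]
  {E : Type u} [AddCommGroup E] [Module R E]
  (f : ResidueField R →ₗ[R] E) (hf : InjHull.IsInjectiveHull f)

include hf in
/-- in dimension zero, `Ext^1(M, K) = 0` for finite `M`. -/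
lemma ext_one_subsingleton_of_zero (hn : ringKrullDim R = (0 : ℕ)) (K : Type u) [AddCommGroup K]
    [Module R K] (eK : (K →ₗ[R] E) ≃ₗ[R] HH (maximalIdeal R) (ModuleCat.of R R) 0)
    (M : Type u) [AddCommGroup M] [Module R M] [Module.Finite R M] :
    Subsingleton (Ext.{u} (ModuleCat.of R M) (ModuleCat.of R K) 1) := by
  haveI := hf.isInjective
  obtain ⟨η, hη⟩ := exists_top_natIso 0 hn E K eK
  obtain ⟨r, p, hp⟩ := Module.Finite.exists_fin' R M
  have hex := LinearMap.exact_subtype_ker_map p
  have hT : (sesOf (LinearMap.ker p).subtype p hex).ShortExact :=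
    sesOf_shortExact _ _ hex (Submodule.injective_subtype _) hp
  haveI hproj : Projective (sesOf (LinearMap.ker p).subtype p hex).X₂ :=
    (IsProjective.iff_projective (R := R) (Fin r → R)).1 inferInstance
  refine subsingleton_of_forall_eq 0 (fun x => ?_)
  have h0' : (Ext.mk₀ (sesOf (LinearMap.ker p).subtype p hex).g).comp x (zero_add 1) = 0 :=
    Ext.eq_zero_of_projective _
  obtain ⟨x₁, hx₁⟩ := Ext.contravariant_sequence_exact₃ hT _ x h0' (add_zero 1)
  obtain ⟨ψ', rfl⟩ := (Ext.mk₀_bijective _ _).2 x₁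
  have hclaim : ∃ χ : (Fin r → R) →ₗ[R] K, χ ∘ₗ (LinearMap.ker p).subtype = ψ'.hom := by
    by_contra hno
    push_neg at hno
    have hψ : ψ'.hom ∉ LinearMap.range (LinearMap.lcomp R K (LinearMap.ker p).subtype) := by
      rintro ⟨χ, hχ⟩
      exact hno χ hχ
    have hne : (LinearMap.range (LinearMap.lcomp R K (LinearMap.ker p).subtype)).mkQ ψ'.hom
        ≠ 0 := by
      rwa [Ne, Submodule.mkQ_apply, Submodule.Quotient.mk_eq_zero]
    obtain ⟨l₀, hl₀⟩ := Groth.Agent.Lib.Helper1.Matlis.exists_hom_apply_ne_zero f hf _ _ hne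
    have hlρ : (l₀ ∘ₗ (LinearMap.range (LinearMap.lcomp R K (LinearMap.ker p).subtype)).mkQ) ∘ₗ
        (LinearMap.lcomp R K (LinearMap.ker p).subtype) = 0 := by
      apply LinearMap.ext
      intro χ
      change l₀ ((LinearMap.range (LinearMap.lcomp R K (LinearMap.ker p).subtype)).mkQ
        (LinearMap.lcomp R K (LinearMap.ker p).subtype χ)) = 0
      have hmem : LinearMap.lcomp R K (LinearMap.ker p).subtype χ ∈
          LinearMap.range (LinearMap.lcomp R K (LinearMap.ker p).subtype) := ⟨χ, rfl⟩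
      rw [Submodule.mkQ_apply, (Submodule.Quotient.mk_eq_zero _).2 hmem, map_zero]
    obtain ⟨y, hy⟩ : ∃ y, η (LinearMap.ker p) y =
        l₀ ∘ₗ (LinearMap.range (LinearMap.lcomp R K (LinearMap.ker p).subtype)).mkQ :=
      ⟨(η _).symm _, LinearEquiv.apply_symm_apply _ _⟩
    have h1 := hη (LinearMap.ker p) (Fin r → R) (LinearMap.ker p).subtype y
    rw [hy, hlρ] at h1
    have h2 : HH.map (maximalIdeal R) (ModuleCat.ofHom (LinearMap.ker p).subtype) 0 y = 0 :=
      (η (Fin r → R)).injective (h1.trans (map_zero _).symm)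
    have h3 : y = 0 := HH.map_f_injective_zero (maximalIdeal R) hT (h2.trans (map_zero _).symm)
    rw [h3, map_zero] at hy
    apply hl₀
    have h4 := LinearMap.congr_fun hy ψ'.hom
    exact h4.symm
  obtain ⟨χ, hχ⟩ := hclaim
  have hfac : Ext.mk₀ ψ' = (Ext.mk₀ (sesOf (LinearMap.ker p).subtype p hex).f).comp
      (Ext.mk₀ (ModuleCat.ofHom χ)) (zero_add 0) := by
    rw [Ext.mk₀_comp_mk₀]
    congr 1
    apply ModuleCat.hom_ext
    exact hχ.symm
  rw [← hx₁, hfac, hT.extClass_comp_assoc]

end zero

end Groth.Agent.Lib.Helper4.CanonMod
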