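import Mathlib
import Groth.Agent.Lib.Helper4.CanonMod1
import Groth.Agent.Lib.Helper4.FaltKills

/-!
# Canonical modules: `Ext^1` vanishing in codimension two and systems of parameters
-/

set_option autoImplicit false
set_option linter.style.haveILetI false
set_option linter.unusedSectionVars false
set_option linter.unusedVariables false
set_option maxHeartbeats 800000

open CategoryTheory Limits Opposite Abelian IsLocalRing

universe u

namespace Groth.Agent.Lib.Helper4.CanonMod

open Groth.Agent.Lib.Helper4 Groth.Agent.Lib.Helper4.LC Groth.Agent.Lib.Helper4.Falt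
  Groth.Agent.Lib.Helper4.EW

section sop

variable {A : Type u} [CommRing A] [IsLocalRing A] [IsNoetherianRing A]

/-- Krull: if `m` is the radical of an ideal generated by `s ⊆ m`, then `dim A ≤ #s`. -/
lemma ringKrullDim_le_card_of_le_radical (s : Finset A)
    (hsm : ∀ x ∈ s, x ∈ maximalIdeal A)
    (hs : maximalIdeal A ≤ (Ideal.span (s : Set A)).radical) :
    ringKrullDim A ≤ (s.card : WithBot ℕ∞) := by
  have hmin : maximalIdeal A ∈ (Ideal.span (s : Set A)).minimalPrimes := by
    refine ⟨⟨inferInstance, Ideal.span_le.2 hsm⟩, fun Q hQ hQm => ?_⟩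
    exact hs.trans (hQ.1.radical_le_iff.2 hQ.2)
  have h1 := Ideal.height_le_card_of_mem_minimalPrimes_span_finset hmin
  rw [← IsLocalRing.maximalIdeal_height_eq_ringKrullDim]
  exact_mod_cast h1

/-- for a system of parameters `a`, a prime containing `a i` for `i ∈ T` has
`dim R/p ≤ n - #T`. -/
lemma ringKrullDim_quotient_le_of_sop (n : ℕ) (a : Fin n → A)
    (ha : ∀ i, a i ∈ maximalIdeal A)
    (hsop : maximalIdeal A ≤ (Ideal.span (Set.range a)).radical) (T : Finset (Fin n))
    (p : Ideal A) [p.IsPrime] (hp : ∀ i ∈ T, a i ∈ p) :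
    ringKrullDim (A ⧸ p) ≤ ((n - T.card : ℕ) : WithBot ℕ∞) := by
  classical
  haveI : Nontrivial (A ⧸ p) := Ideal.Quotient.nontrivial_iff.2 (Ideal.IsPrime.ne_top ‹_›)
  haveI : IsLocalRing (A ⧸ p) :=
    IsLocalRing.of_surjective' (Ideal.Quotient.mk p) Ideal.Quotient.mk_surjective
  haveI : IsLocalHom (Ideal.Quotient.mk p) :=
    IsLocalHom.of_surjective _ Ideal.Quotient.mk_surjective
  let s : Finset (A ⧸ p) := (Tᶜ).image (fun i => Ideal.Quotient.mk p (a i))
  have hcard : s.card ≤ n - T.card := by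
    refine Finset.card_image_le.trans ?_
    rw [Finset.card_compl, Fintype.card_fin]
  have hlocal : ∀ x : A, Ideal.Quotient.mk p x ∈ maximalIdeal (A ⧸ p) → x ∈ maximalIdeal A := by
    intro x hx
    rw [mem_maximalIdeal, mem_nonunits_iff] at hx ⊢
    exact fun hu => hx (hu.map _)
  have hsm : ∀ y ∈ s, y ∈ maximalIdeal (A ⧸ p) := by
    intro y hy
    obtain ⟨i, -, rfl⟩ := Finset.mem_image.1 hy
    rw [mem_maximalIdeal, mem_nonunits_iff]
    intro hu
    exact (mem_nonunits_iff.1 ((mem_maximalIdeal _).1 (ha i)))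
      ((isUnit_map_iff (Ideal.Quotient.mk p) (a i)).1 hu)
  have hspan : Ideal.span (Set.range a) ≤
      (Ideal.span (s : Set (A ⧸ p))).comap (Ideal.Quotient.mk p) := by
    rw [Ideal.span_le]
    rintro _ ⟨i, rfl⟩
    change Ideal.Quotient.mk p (a i) ∈ Ideal.span (s : Set (A ⧸ p))
    by_cases hi : i ∈ T
    · rw [Ideal.Quotient.eq_zero_iff_mem.2 (hp i hi)]
      exact Ideal.zero_mem _
    · exact Ideal.subset_span (Finset.mem_coe.2 (Finset.mem_image.2
        ⟨i, Finset.mem_compl.2 hi, rfl⟩))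
  have hrad : maximalIdeal (A ⧸ p) ≤ (Ideal.span (s : Set (A ⧸ p))).radical := by
    intro y hy
    obtain ⟨x, rfl⟩ := Ideal.Quotient.mk_surjective y
    obtain ⟨k, hk⟩ := hsop (hlocal x hy)
    exact ⟨k, by rw [← map_pow]; exact hspan hk⟩
  exact (ringKrullDim_le_card_of_le_radical s hsm hrad).trans (by exact_mod_cast hcard)

end sop

section ext1

variable {R : Type u} [CommRing R] [IsLocalRing R] [IsNoetherianRing R]
  {E : Type u} [AddCommGroup E] [Module R E]
  (f : ResidueField R →ₗ[R] E) (hf : InjHull.IsInjectiveHull f)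

include hf in
/-- `Ext^1(M, K) = 0` for a canonical module `K` when `H^{n-1}_m(M) = 0`. -/
lemma ext_one_subsingleton (n : ℕ) (hn : ringKrullDim R = n) (K : Type u) [AddCommGroup K]
    [Module R K] (eK : (K →ₗ[R] E) ≃ₗ[R] HH (maximalIdeal R) (ModuleCat.of R R) n)
    (M : Type u) [AddCommGroup M] [Module R M] [Module.Finite R M]
    (hM : n = 0 ∨ ∃ i, n = i + 1 ∧ Subsingleton (HH (maximalIdeal R) (ModuleCat.of R M) i)) :
    Subsingleton (Ext.{u} (ModuleCat.of R M) (ModuleCat.of R K) 1) := by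
  haveI := hf.isInjective
  obtain ⟨η, hη⟩ := exists_top_natIso n hn E K eK
  obtain ⟨r, p, hp⟩ := Module.Finite.exists_fin' R M
  have hex := LinearMap.exact_subtype_ker_map p
  have hT : (sesOf (LinearMap.ker p).subtype p hex).ShortExact :=
    sesOf_shortExact _ _ hex (Submodule.injective_subtype _) hp
  haveI hproj : Projective (sesOf (LinearMap.ker p).subtype p hex).X₂ :=
    (IsProjective.iff_projective (R := R) (Fin r → R)).1 inferInstance
  have hinj : Function.Injective (HH.map (maximalIdeal R)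
      (sesOf (LinearMap.ker p).subtype p hex).f n) := by
    rcases hM with h0 | ⟨i, hi1, hi⟩
    · subst h0
      exact HH.map_f_injective_zero (maximalIdeal R) hT
    · subst hi1
      exact HH.map_f_injective_succ (maximalIdeal R) hT i hi
  refine subsingleton_of_forall_eq 0 (fun x => ?_)
  have h0' : (Ext.mk₀ (sesOf (LinearMap.ker p).subtype p hex).g).comp x (zero_add 1) = 0 :=
    Ext.eq_zero_of_projective _
  obtain ⟨x₁, hx₁⟩ := Ext.contravariant_sequence_exact₃ hT _ x h0' (add_zero 1)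
  obtain ⟨ψ', rfl⟩ := (Ext.mk₀_bijective _ _).2 x₁
  have hclaim : ∃ χ : (Fin r → R) →ₗ[R] K, χ ∘ₗ (LinearMap.ker p).subtype = ψ'.hom := by
    by_contra hno
    push_neg at hno
    have hψ : ψ'.hom ∉ LinearMap.range (LinearMap.lcomp R K (LinearMap.ker p).subtype) := by
      rintro ⟨χ, hχ⟩
      exact hno χ hχ
    have hne : (LinearMap.range (LinearMap.lcomp R K (LinearMap.ker p).subtype)).mkQ ψ'.hom
        ≠ 0 := by
      rwa [Ne, Submodule.mkQ_apply, Submodule.Quotient.mk_eq_zero]
    obtain ⟨l₀, hl₀⟩ := Groth.Agent.Lib.Helper1.Matlis.exists_hom_apply_ne_zero f hf _ _ hne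
    have hlρ : (l₀ ∘ₗ (LinearMap.range (LinearMap.lcomp R K (LinearMap.ker p).subtype)).mkQ) ∘ₗ
        (LinearMap.lcomp R K (LinearMap.ker p).subtype) = 0 := by
      apply LinearMap.ext
      intro χ
      change l₀ ((LinearMap.range (LinearMap.lcomp R K (LinearMap.ker p).subtype)).mkQ
        (LinearMap.lcomp R K (LinearMap.ker p).subtype χ)) = 0
      have hmem : LinearMap.lcomp R K (LinearMap.ker p).subtype χ ∈
          LinearMap.range (LinearMap.lcomp R K (LinearMap.ker p).subtype) := ⟨χ, rfl⟩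
      rw [Submodule.mkQ_apply, (Submodule.Quotient.mk_eq_zero _).2 hmem, map_zero]
    obtain ⟨y, hy⟩ : ∃ y, η (LinearMap.ker p) y =
        l₀ ∘ₗ (LinearMap.range (LinearMap.lcomp R K (LinearMap.ker p).subtype)).mkQ :=
      ⟨(η _).symm _, LinearEquiv.apply_symm_apply _ _⟩
    have h1 := hη (LinearMap.ker p) (Fin r → R) (LinearMap.ker p).subtype y
    rw [hy, hlρ] at h1
    have h2 : HH.map (maximalIdeal R) (ModuleCat.ofHom (LinearMap.ker p).subtype) n y = 0 :=
      (η (Fin r → R)).injective (h1.trans (map_zero _).symm)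
    have h3 : y = 0 := hinj (h2.trans (map_zero _).symm)
    rw [h3, map_zero] at hy
    apply hl₀
    have h4 := LinearMap.congr_fun hy ψ'.hom
    exact h4.symm
  obtain ⟨χ, hχ⟩ := hclaim
  have hfac : Ext.mk₀ ψ' = (Ext.mk₀ (sesOf (LinearMap.ker p).subtype p hex).f).comp
      (Ext.mk₀ (ModuleCat.ofHom χ)) (zero_add 0) := by
    rw [Ext.mk₀_comp_mk₀]
    congr 1
    apply ModuleCat.hom_ext
    exact hχ.symm
  rw [← hx₁, hfac, hT.extClass_comp_assoc]

include hf in
/-- `Hom(M, K/aK) = 0` when `dim M ≤ n - 2` and `a` is `K`-regular. -/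
lemma hom_quotSMulTop_subsingleton (n : ℕ) (hn : ringKrullDim R = n) (K : Type u)
    [AddCommGroup K] [Module R K]
    (eK : (K →ₗ[R] E) ≃ₗ[R] HH (maximalIdeal R) (ModuleCat.of R R) n)
    (a : R) (hreg : IsSMulRegular K a)
    (M : Type u) [AddCommGroup M] [Module R M] [Module.Finite R M] (i : ℕ) (hi : n = i + 2)
    (hdim : Module.supportDim R M ≤ (i : WithBot ℕ∞)) :
    Subsingleton (M →ₗ[R] QuotSMulTop a K) := by
  have hlt1 : Module.supportDim R M < ((i + 1 : ℕ) : WithBot ℕ∞) :=
    lt_of_le_of_lt hdim (by exact_mod_cast Nat.lt_succ_self i)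
  have hltn : Module.supportDim R M < (n : WithBot ℕ∞) :=
    lt_of_le_of_lt hdim (by rw [hi]; exact_mod_cast (by omega : i < i + 2))
  have hHom : Subsingleton (M →ₗ[R] K) := (hom_subsingleton_iff f hf n hn K eK M).2 hltn
  have hExt1 : Subsingleton (Ext.{u} (ModuleCat.of R M) (ModuleCat.of R K) 1) :=
    ext_one_subsingleton f hf n hn K eK M
      (Or.inr ⟨i + 1, by omega,
        HH.subsingleton_of_supportDim_lt_finite (maximalIdeal R) (i + 1) M hlt1⟩)
  have hS := smulSES_shortExact K a hreg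
  refine subsingleton_of_forall_eq 0 (fun ψ => ?_)
  have h1 : (Ext.mk₀ (ModuleCat.ofHom ψ)).comp hS.extClass (zero_add 1) = 0 :=
    Subsingleton.elim _ _
  obtain ⟨x₂, hx₂⟩ := Ext.covariant_sequence_exact₃ (ModuleCat.of R M) hS
    (Ext.mk₀ (ModuleCat.ofHom ψ)) (zero_add 1) h1
  obtain ⟨φ, rfl⟩ := (Ext.mk₀_bijective _ _).2 x₂
  have hφ : φ = 0 := by
    apply ModuleCat.hom_ext
    exact Subsingleton.elim _ _
  rw [hφ, Ext.mk₀_zero, Ext.zero_comp] at hx₂
  have h2 : ModuleCat.ofHom ψ = 0 := (Ext.mk₀_bijective _ _).1 (hx₂.symm.trans (Ext.mk₀_zero _ _).symm)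
  have h3 := congrArg ModuleCat.Hom.hom h2
  exact h3

end ext1

end Groth.Agent.Lib.Helper4.CanonMod
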