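import Mathlib
import Groth.Agent.Lib.Helper4.CanonMod2

/-!
# Canonical modules: regular elements and reduction modulo a regular sequence (helper4)

For a Cohen–Macaulay module `C` of dimension `d` over a Noetherian local ring with a "dual" `K'`
(i.e. `Hom(K', E) ≃ H^d_m(C)`): an element `a ∈ m` is `C`-regular iff it is `K'`-regular, and then
`Hom(K'/aK', E) ≃ H^{d-1}_m(C/aC)`.
-/

set_option autoImplicit false
set_option linter.style.haveILetI false
set_option linter.unusedSectionVars false
set_option linter.unusedVariables false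
set_option maxHeartbeats 800000

open CategoryTheory Limits Opposite Abelian IsLocalRing Pointwise

universe u

namespace Groth.Agent.Lib.Helper4.CanonMod

open Groth.Agent.Lib.Helper4 Groth.Agent.Lib.Helper4.LC Groth.Agent.Lib.Helper4.Falt
  Groth.Agent.Lib.Helper4.EW

section arith

lemma withBot_eq_of_add_one_eq (s : WithBot ℕ∞) (d : ℕ)
    (h : s + 1 = ((d + 1 : ℕ) : WithBot ℕ∞)) : s = (d : WithBot ℕ∞) := by
  induction s with
  | bot =>
    exfalso
    rw [WithBot.bot_add] at h
    exact (WithBot.natCast_ne_bot (d + 1)) h.symm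
  | coe a =>
    induction a with
    | top =>
      exfalso
      have h1 : (((⊤ : ℕ∞) + 1 : ℕ∞) : WithBot ℕ∞) = (((d + 1 : ℕ) : ℕ∞) : WithBot ℕ∞) := by
        exact_mod_cast h
      rw [WithBot.coe_inj, top_add] at h1
      exact ENat.top_ne_coe _ h1
    | coe a =>
      have h1 : ((a + 1 : ℕ) : WithBot ℕ∞) = ((d + 1 : ℕ) : WithBot ℕ∞) := by exact_mod_cast h
      have h2 : a + 1 = d + 1 := by exact_mod_cast h1
      exact_mod_cast (by omega : a = d)

lemma enat_eq_of_add_one_eq (s : ℕ∞) (d : ℕ) (h : s + 1 = ((d + 1 : ℕ) : ℕ∞)) :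
    s = (d : ℕ∞) := by
  induction s with
  | top =>
    exfalso
    rw [top_add] at h
    exact ENat.top_ne_coe _ h
  | coe a =>
    have h2 : a + 1 = d + 1 := by exact_mod_cast h
    exact_mod_cast (by omega : a = d)

end arith

section general

variable {R : Type u} [CommRing R] [IsLocalRing R] [IsNoetherianRing R]
  {E : Type u} [AddCommGroup E] [Module R E]
  (f : ResidueField R →ₗ[R] E) (hf : InjHull.IsInjectiveHull f)

include hf in
/-- `a` is `X`-regular iff multiplication by `a` is surjective on the Matlis dual of `X`. -/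
lemma isSMulRegular_iff_dual_surjective (X : Type u) [AddCommGroup X] [Module R X] (a : R) :
    IsSMulRegular X a ↔ ∀ φ : X →ₗ[R] E, ∃ ψ : X →ₗ[R] E, a • ψ = φ := by
  haveI hinj : Module.Injective R E := hf.isInjective
  constructor
  · intro hreg φ
    obtain ⟨ψ, hψ⟩ := hinj.out (LinearMap.lsmul R X a) (fun x y h => hreg h) φ
    refine ⟨ψ, LinearMap.ext fun x => ?_⟩
    rw [LinearMap.smul_apply, ← map_smul]
    exact hψ x
  · intro h x y hxy
    by_contra hne
    have hsub : x - y ≠ 0 := sub_ne_zero.2 hne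
    obtain ⟨φ, hφ⟩ := Groth.Agent.Lib.Helper1.Matlis.exists_hom_apply_ne_zero f hf X (x - y) hsub
    obtain ⟨ψ, rfl⟩ := h φ
    apply hφ
    have hxy' : a • x = a • y := hxy
    rw [LinearMap.smul_apply, ← map_smul, smul_sub, hxy', sub_self, map_zero]

omit [IsLocalRing R] [IsNoetherianRing R] in
/-- `a` kills the local cohomology of `C/aC`. -/
lemma smul_HH_quotSMulTop_eq_zero (I : Ideal R) (C : Type u) [AddCommGroup C] [Module R C]
    (a : R) (i : ℕ) (z : HH I (ModuleCat.of R (QuotSMulTop a C)) i) : a • z = 0 := by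
  have h0 : (a • 𝟙 (ModuleCat.of R (QuotSMulTop a C))) = 0 := by
    apply ModuleCat.hom_ext
    apply LinearMap.ext
    intro q
    obtain ⟨c, rfl⟩ := Submodule.mkQ_surjective (a • (⊤ : Submodule R C)) q
    show a • (Submodule.mkQ (a • (⊤ : Submodule R C)) c) = 0
    rw [← map_smul, Submodule.mkQ_apply, Submodule.Quotient.mk_eq_zero]
    exact Submodule.smul_mem_pointwise_smul c a ⊤ Submodule.mem_top
  rw [HH.smul_eq_map, h0, HH.map_zero']

/-- multiplication by a regular element is surjective on the top local cohomology. -/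
lemma smul_surjective_of_regular (C : Type u) [AddCommGroup C] [Module R C] [Module.Finite R C]
    [Nontrivial C] (d : ℕ) (hsd : Module.supportDim R C = d) (a : R) (ha : a ∈ maximalIdeal R)
    (hreg : IsSMulRegular C a) (y : HH (maximalIdeal R) (ModuleCat.of R C) d) :
    ∃ x : HH (maximalIdeal R) (ModuleCat.of R C) d, a • x = y := by
  have hS := IsSMulRegular.smulShortComplex_shortExact (M := ModuleCat.of R C) hreg
  have hdim : Module.supportDim R (QuotSMulTop a C) < (d : WithBot ℕ∞) := by
    apply withBot_lt_of_add_one_le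
    rw [Module.supportDim_quotSMulTop_succ_eq_supportDim hreg ha, hsd]
  have h3 : Subsingleton
      (HH (maximalIdeal R) (ModuleCat.smulShortComplex (ModuleCat.of R C) a).X₃ d) :=
    HH.subsingleton_of_supportDim_lt_finite (maximalIdeal R) d (QuotSMulTop a C) hdim
  obtain ⟨x, hx⟩ := HH.map_f_surjective (maximalIdeal R) hS d h3 y
  exact ⟨x, (HH.smul_eq_map (maximalIdeal R) d a x).trans hx⟩

/-- conversely, if multiplication by `a ∈ m` is surjective on the top local cohomology of a
Cohen–Macaulay module then `a` is regular. -/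
lemma regular_of_smul_surjective (C : Type u) [AddCommGroup C] [Module R C] [Module.Finite R C]
    [Nontrivial C] (d : ℕ) (hsd : Module.supportDim R C = d)
    (hcm : LocCoh.IsCohenMacaulayModule R C) (a : R) (ha : a ∈ maximalIdeal R)
    (hsurj : ∀ y : HH (maximalIdeal R) (ModuleCat.of R C) d,
      ∃ x : HH (maximalIdeal R) (ModuleCat.of R C) d, a • x = y) :
    IsSMulRegular C a := by
  by_contra hnreg
  have hex0 : ∃ x : C, x ≠ 0 ∧ a • x = 0 := by
    by_contra hno
    push Not at hno
    apply hnreg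
    rw [isSMulRegular_iff_right_eq_zero_of_smul]
    intro x hx
    by_contra hx0
    exact hno x hx0 hx
  obtain ⟨x, hx0, hax⟩ := hex0
  obtain ⟨P, hP, hle⟩ := exists_le_isAssociatedPrime_of_isNoetherianRing R x hx0
  have haP : a ∈ P := hle (by
    rw [Submodule.mem_colon_singleton, hax]
    exact Submodule.zero_mem _)
  haveI hPprime : P.IsPrime := hP.isPrime
  have hPass : P ∈ associatedPrimes R C := hP
  have hPdim : ringKrullDim (R ⧸ P) = d := by
    rw [cm_ringKrullDim_quotient_eq hcm hPass, hsd]
  have hPsupp : (⟨P, hPprime⟩ : PrimeSpectrum R) ∈ Module.support R (QuotSMulTop a C) := by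
    rw [Module.support_quotSMulTop]
    refine ⟨mem_support_of_mem_associatedPrimes hPass, ?_⟩
    rw [PrimeSpectrum.mem_zeroLocus, Set.singleton_subset_iff]
    exact haP
  have hsdQ : Module.supportDim R (QuotSMulTop a C) = d := by
    apply le_antisymm
    · rw [← hsd]
      exact Module.supportDim_le_of_surjective (a • (⊤ : Submodule R C)).mkQ
        (Submodule.mkQ_surjective _)
    · rw [← hPdim]
      exact ringKrullDim_quotient_le_supportDim (p := ⟨P, hPprime⟩) hPsupp
  haveI : Nontrivial (QuotSMulTop a C) := by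
    by_contra hsub
    rw [not_nontrivial_iff_subsingleton] at hsub
    rw [Module.supportDim_eq_bot_of_subsingleton] at hsdQ
    exact (WithBot.natCast_ne_bot d) hsdQ.symm
  have hnt := Groth.Agent.S2935.result R (QuotSMulTop a C) d hsdQ
  rw [nontrivial_H_iff] at hnt
  have hex : Function.Exact (a • (⊤ : Submodule R C)).subtype (a • (⊤ : Submodule R C)).mkQ :=
    LinearMap.exact_subtype_mkQ _
  have hS := sesOf_shortExact (a • (⊤ : Submodule R C)).subtype (a • (⊤ : Submodule R C)).mkQ hex
    (Submodule.injective_subtype _) (Submodule.mkQ_surjective _)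
  have h1 : Subsingleton (HH (maximalIdeal R)
      (sesOf (a • (⊤ : Submodule R C)).subtype (a • (⊤ : Submodule R C)).mkQ hex).X₁ (d + 1)) := by
    apply HH.subsingleton_of_supportDim_lt_finite (maximalIdeal R) (d + 1)
      (a • (⊤ : Submodule R C) : Submodule R C)
    refine lt_of_le_of_lt (Module.supportDim_le_of_injective
      (a • (⊤ : Submodule R C)).subtype (Submodule.injective_subtype _)) ?_
    rw [hsd]
    exact_mod_cast Nat.lt_succ_self d
  have hsurj2 := HH.map_g_surjective (maximalIdeal R) hS d h1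
  apply not_subsingleton (HH (maximalIdeal R) (ModuleCat.of R (QuotSMulTop a C)) d)
  apply HH.subsingleton_of_forall_eq_zero
  intro z
  obtain ⟨y, hy⟩ := hsurj2 z
  obtain ⟨w, hw⟩ := hsurj y
  have hz : z = a • (HH.map (maximalIdeal R)
      (sesOf (a • (⊤ : Submodule R C)).subtype (a • (⊤ : Submodule R C)).mkQ hex).g d w) := by
    rw [← map_smul, hw, hy]
  rw [hz]
  exact smul_HH_quotSMulTop_eq_zero (maximalIdeal R) C a d _

/-- reduction of the duality modulo a regular element. -/
lemma nonempty_quotSMulTop_equiv (C K' : Type u) [AddCommGroup C] [Module R C]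
    [AddCommGroup K'] [Module R K'] (d : ℕ)
    (hdep : Subsingleton (HH (maximalIdeal R) (ModuleCat.of R C) d))
    (eK : (K' →ₗ[R] E) ≃ₗ[R] HH (maximalIdeal R) (ModuleCat.of R C) (d + 1))
    (a : R) (hreg : IsSMulRegular C a) :
    Nonempty ((QuotSMulTop a K' →ₗ[R] E) ≃ₗ[R]
      HH (maximalIdeal R) (ModuleCat.of R (QuotSMulTop a C)) d) := by
  have hS := IsSMulRegular.smulShortComplex_shortExact (M := ModuleCat.of R C) hreg
  obtain ⟨δ', hδinj, hδ1, hδ2⟩ : ∃ δ' : HH (maximalIdeal R) (ModuleCat.of R (QuotSMulTop a C)) d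
      →ₗ[R] HH (maximalIdeal R) (ModuleCat.of R C) (d + 1), Function.Injective δ' ∧
      (∀ w, a • δ' w = 0) ∧ (∀ y, a • y = 0 → ∃ w, δ' w = y) :=
    ⟨HH.δ (maximalIdeal R) hS d, HH.δ_injective (maximalIdeal R) hS d hdep,
      fun w => (HH.smul_eq_map (maximalIdeal R) (d + 1) a _).trans
        (HH.map_f_δ (maximalIdeal R) hS d w),
      fun y hy => HH.exact₁ (maximalIdeal R) hS d y
        ((HH.smul_eq_map (maximalIdeal R) (d + 1) a y).symm.trans hy)⟩
  let Φ : (QuotSMulTop a K' →ₗ[R] E) →ₗ[R] (K' →ₗ[R] E) :=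
    LinearMap.lcomp R E (a • (⊤ : Submodule R K')).mkQ
  have hΦinj : Function.Injective Φ :=
    LinearMap.lcomp_injective_of_surjective _ (Submodule.mkQ_surjective _)
  have hΦ : ∀ (φ : QuotSMulTop a K' →ₗ[R] E) (x : K'),
      Φ φ x = φ (Submodule.Quotient.mk x) := fun φ x => rfl
  let θ : (QuotSMulTop a K' →ₗ[R] E) →ₗ[R] HH (maximalIdeal R) (ModuleCat.of R C) (d + 1) :=
    eK.toLinearMap ∘ₗ Φ
  have hθ : ∀ φ, θ φ = eK (Φ φ) := fun φ => rfl
  have hθinj : Function.Injective θ := eK.injective.comp hΦinj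
  have hrange : LinearMap.range θ = LinearMap.range δ' := by
    ext y
    constructor
    · rintro ⟨φ, rfl⟩
      have h1 : a • Φ φ = 0 := by
        apply LinearMap.ext
        intro x
        rw [LinearMap.smul_apply, hΦ, ← map_smul, LinearMap.zero_apply,
          ← Submodule.Quotient.mk_smul]
        have hmem : a • x ∈ a • (⊤ : Submodule R K') :=
          Submodule.smul_mem_pointwise_smul x a ⊤ Submodule.mem_top
        rw [(Submodule.Quotient.mk_eq_zero _).2 hmem, map_zero]
      have h0 : a • θ φ = 0 := by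
        rw [hθ, ← map_smul, h1, map_zero]
      exact LinearMap.mem_range.2 (hδ2 _ h0)
    · rintro ⟨w, rfl⟩
      have h0 : a • δ' w = 0 := hδ1 w
      have h1 : a • eK.symm (δ' w) = 0 := by rw [← map_smul, h0, map_zero]
      have hker : a • (⊤ : Submodule R K') ≤ LinearMap.ker (eK.symm (δ' w)) := by
        intro x hx
        obtain ⟨x', -, rfl⟩ := (Submodule.mem_smul_pointwise_iff_exists _ _ _).1 hx
        rw [LinearMap.mem_ker, map_smul, ← LinearMap.smul_apply, h1, LinearMap.zero_apply]
      refine ⟨(a • (⊤ : Submodule R K')).liftQ (eK.symm (δ' w)) hker, ?_⟩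
      have h2 : Φ ((a • (⊤ : Submodule R K')).liftQ (eK.symm (δ' w)) hker) = eK.symm (δ' w) := by
        apply LinearMap.ext
        intro x
        rw [hΦ]
        exact Submodule.liftQ_apply _ _ _
      rw [hθ, h2, LinearEquiv.apply_symm_apply]
  exact ⟨(LinearEquiv.ofInjective θ hθinj).trans ((LinearEquiv.ofEq _ _ hrange).trans
    (LinearEquiv.ofInjective δ' hδinj).symm)⟩

include hf in
/-- the step: regularity on `C` and on its dual agree, and the duality descends. -/
theorem regular_step (C K' : Type u) [AddCommGroup C] [Module R C] [Module.Finite R C]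
    [Nontrivial C] [AddCommGroup K'] [Module R K'] (d : ℕ)
    (hsd : Module.supportDim R C = d) (hdep : LocCoh.depth R C = d)
    (eK : (K' →ₗ[R] E) ≃ₗ[R] HH (maximalIdeal R) (ModuleCat.of R C) d) (a : R)
    (ha : a ∈ maximalIdeal R) :
    (IsSMulRegular C a ↔ IsSMulRegular K' a) ∧
    (IsSMulRegular C a → ∃ d' : ℕ, d = d' + 1 ∧ Nontrivial (QuotSMulTop a C) ∧
      Module.supportDim R (QuotSMulTop a C) = d' ∧ LocCoh.depth R (QuotSMulTop a C) = d' ∧
      Nonempty ((QuotSMulTop a K' →ₗ[R] E) ≃ₗ[R]
        HH (maximalIdeal R) (ModuleCat.of R (QuotSMulTop a C)) d')) := by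
  have hcm : LocCoh.IsCohenMacaulayModule R C := by
    show Module.supportDim R C = ((LocCoh.depth R C : ℕ∞) : WithBot ℕ∞)
    rw [hsd, hdep]
    rfl
  constructor
  · constructor
    · intro hreg
      rw [isSMulRegular_iff_dual_surjective f hf K' a]
      intro φ
      obtain ⟨x, hx⟩ := smul_surjective_of_regular C d hsd a ha hreg (eK φ)
      refine ⟨eK.symm x, ?_⟩
      rw [← map_smul, hx, LinearEquiv.symm_apply_apply]
    · intro hregK
      have h := (isSMulRegular_iff_dual_surjective f hf K' a).1 hregK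
      apply regular_of_smul_surjective C d hsd hcm a ha
      intro y
      obtain ⟨ψ, hψ⟩ := h (eK.symm y)
      refine ⟨eK ψ, ?_⟩
      rw [← map_smul, hψ, LinearEquiv.apply_symm_apply]
  · intro hreg
    have h0 := idealDepth_quotSMulTop_add_one (maximalIdeal R) a ha hreg
    have hdep' : LocCoh.idealDepth (maximalIdeal R) C = d := hdep
    rw [hdep'] at h0
    cases d with
    | zero =>
      exfalso
      simp at h0
    | succ d' =>
      have hdQ : LocCoh.idealDepth (maximalIdeal R) (QuotSMulTop a C) = (d' : ℕ∞) :=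
        enat_eq_of_add_one_eq _ d' h0
      have hsQ : Module.supportDim R (QuotSMulTop a C) = (d' : WithBot ℕ∞) := by
        apply withBot_eq_of_add_one_eq
        rw [Module.supportDim_quotSMulTop_succ_eq_supportDim hreg ha, hsd]
      have hnt : Nontrivial (QuotSMulTop a C) := by
        by_contra hsub
        rw [not_nontrivial_iff_subsingleton] at hsub
        rw [Module.supportDim_eq_bot_of_subsingleton] at hsQ
        exact (WithBot.natCast_ne_bot d') hsQ.symm
      have hvan : Subsingleton (HH (maximalIdeal R) (ModuleCat.of R C) d') :=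
        HH.subsingleton_of_lt_idealDepth (maximalIdeal R) C d' (by
          rw [hdep']
          exact_mod_cast Nat.lt_succ_self d')
      exact ⟨d', rfl, hnt, hsQ, hdQ, nonempty_quotSMulTop_equiv C K' d' hvan eK a hreg⟩

include hf in
/-- **Regular sequences on a CM module and its dual**, and descent of the duality. -/
theorem weaklyRegular_main : ∀ (as : List R) (d : ℕ) (C K' : Type u) [AddCommGroup C]
    [Module R C] [Module.Finite R C] [Nontrivial C] [AddCommGroup K'] [Module R K'],
    Module.supportDim R C = d → LocCoh.depth R C = d →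
    Nonempty ((K' →ₗ[R] E) ≃ₗ[R] HH (maximalIdeal R) (ModuleCat.of R C) d) →
    (∀ a ∈ as, a ∈ maximalIdeal R) →
    (RingTheory.Sequence.IsWeaklyRegular C as ↔ RingTheory.Sequence.IsWeaklyRegular K' as) ∧
    (RingTheory.Sequence.IsWeaklyRegular C as → as.length ≤ d ∧ ∀ j, j + as.length = d →
      Nonempty (((K' ⧸ (Ideal.ofList as • (⊤ : Submodule R K'))) →ₗ[R] E) ≃ₗ[R]
        HH (maximalIdeal R)
          (ModuleCat.of R (C ⧸ (Ideal.ofList as • (⊤ : Submodule R C)))) j)) := by
  intro as
  induction as with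
  | nil =>
    intro d C K' _ _ _ _ _ _ hsd hdep ⟨eK⟩ has
    refine ⟨⟨fun _ => RingTheory.Sequence.IsWeaklyRegular.nil R K',
      fun _ => RingTheory.Sequence.IsWeaklyRegular.nil R C⟩, fun _ => ⟨Nat.zero_le d, ?_⟩⟩
    intro j hj
    have hjd : j = d := by simpa using hj
    subst hjd
    have e1 : (K' ⧸ (Ideal.ofList ([] : List R) • (⊤ : Submodule R K'))) ≃ₗ[R] K' :=
      Submodule.quotEquivOfEqBot _ (by rw [Ideal.ofList_nil, Submodule.bot_smul])
    have e2 : (C ⧸ (Ideal.ofList ([] : List R) • (⊤ : Submodule R C))) ≃ₗ[R] C :=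
      Submodule.quotEquivOfEqBot _ (by rw [Ideal.ofList_nil, Submodule.bot_smul])
    exact ⟨(LinearEquiv.congrLeft E R e1).trans
      (eK.trans (HH.mapIso (maximalIdeal R) e2.toModuleIso j).symm)⟩
  | cons a as ih =>
    intro d C K' _ _ _ _ _ _ hsd hdep ⟨eK⟩ has
    have ha : a ∈ maximalIdeal R := has a List.mem_cons_self
    have has' : ∀ b ∈ as, b ∈ maximalIdeal R := fun b hb => has b (List.mem_cons_of_mem a hb)
    obtain ⟨hiff, hstep⟩ := regular_step f hf C K' d hsd hdep eK a ha
    have key : IsSMulRegular C a →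
        (RingTheory.Sequence.IsWeaklyRegular (QuotSMulTop a C) as ↔
          RingTheory.Sequence.IsWeaklyRegular (QuotSMulTop a K') as) ∧
        (RingTheory.Sequence.IsWeaklyRegular (QuotSMulTop a C) as →
          as.length + 1 ≤ d ∧ ∀ j, j + (as.length + 1) = d →
          Nonempty ((((QuotSMulTop a K') ⧸
            (Ideal.ofList as • (⊤ : Submodule R (QuotSMulTop a K')))) →ₗ[R] E) ≃ₗ[R]
            HH (maximalIdeal R) (ModuleCat.of R ((QuotSMulTop a C) ⧸
              (Ideal.ofList as • (⊤ : Submodule R (QuotSMulTop a C))))) j)) := by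
      intro hreg
      obtain ⟨d', rfl, hnt, hsd', hdep', ⟨eK'⟩⟩ := hstep hreg
      haveI := hnt
      obtain ⟨h1, h2⟩ := ih d' (QuotSMulTop a C) (QuotSMulTop a K') hsd' hdep' ⟨eK'⟩ has'
      refine ⟨h1, fun hw => ?_⟩
      obtain ⟨hlen, hj⟩ := h2 hw
      exact ⟨Nat.succ_le_succ hlen, fun j hjd => hj j (by omega)⟩
    constructor
    · rw [RingTheory.Sequence.isWeaklyRegular_cons_iff,
        RingTheory.Sequence.isWeaklyRegular_cons_iff]
      constructor
      · rintro ⟨hreg, hw⟩
        exact ⟨hiff.1 hreg, (key hreg).1.1 hw⟩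
      · rintro ⟨hregK, hw⟩
        have hreg := hiff.2 hregK
        exact ⟨hreg, (key hreg).1.2 hw⟩
    · intro hw
      rw [RingTheory.Sequence.isWeaklyRegular_cons_iff] at hw
      obtain ⟨hreg, hw'⟩ := hw
      obtain ⟨hlen, hj⟩ := (key hreg).2 hw'
      refine ⟨by simpa using hlen, fun j hjd => ?_⟩
      obtain ⟨e⟩ := hj j (by simpa using hjd)
      have e1 := Submodule.quotOfListConsSMulTopEquivQuotSMulTopInner K' a as
      have e2 := Submodule.quotOfListConsSMulTopEquivQuotSMulTopInner C a as
      exact ⟨(LinearEquiv.congrLeft E R e1).trans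
        (e.trans (HH.mapIso (maximalIdeal R) e2.toModuleIso j).symm)⟩

end general

end Groth.Agent.Lib.Helper4.CanonMod
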