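import Mathlib
import Groth.Agent.Lib.Helper4.CanonMod3
import Groth.Agent.Lib.Helper9.SemiLocal

/-!
# Canonical modules: endomorphisms (helper4)

For a cyclic Cohen–Macaulay module `C` of dimension `d` with a finite "dual" `K'`
(`Hom(K', E) ≃ H^d_m(C)`), every endomorphism of `K'` is a homothety and `Ann K' = Ann C`.
-/

set_option autoImplicit false
set_option linter.style.haveILetI false
set_option linter.unusedSectionVars false
set_option linter.unusedVariables false
set_option maxHeartbeats 800000

open CategoryTheory Limits Opposite Abelian IsLocalRing Pointwise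

universe u

namespace Groth.Agent.Lib.Helper4.CanonMod

open Groth.Agent.Lib.Helper4 Groth.Agent.Lib.Helper4.LC Groth.Agent.Lib.Helper4.Falt
  Groth.Agent.Lib.Helper4.EW

section general

variable {R : Type u} [CommRing R] [IsLocalRing R] [IsNoetherianRing R]
  {E : Type u} [AddCommGroup E] [Module R E]
  (f : ResidueField R →ₗ[R] E) (hf : InjHull.IsInjectiveHull f)

omit [IsLocalRing R] [IsNoetherianRing R] in
/-- a map into `aX` is divisible by a regular element `a`. -/
lemma exists_eq_smul_of_forall_mem {X Y : Type u} [AddCommGroup X] [Module R X]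
    [AddCommGroup Y] [Module R Y] (a : R) (hreg : IsSMulRegular X a) (g : Y →ₗ[R] X)
    (hg : ∀ y, g y ∈ a • (⊤ : Submodule R X)) : ∃ g' : Y →ₗ[R] X, g = a • g' := by
  have hex : ∀ y, ∃ x : X, a • x = g y := fun y => by
    obtain ⟨x, -, hx⟩ := (Submodule.mem_smul_pointwise_iff_exists _ _ _).1 (hg y)
    exact ⟨x, hx⟩
  choose g0 hg0 using hex
  refine ⟨{ toFun := g0, map_add' := ?_, map_smul' := ?_ }, ?_⟩
  · intro x y
    apply hreg
    show a • g0 (x + y) = a • (g0 x + g0 y)
    rw [smul_add, hg0, hg0, hg0, map_add]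
  · intro r x
    apply hreg
    show a • g0 (r • x) = a • (r • g0 x)
    rw [smul_comm a r, hg0, hg0, map_smul]
  · apply LinearMap.ext
    intro x
    rw [LinearMap.smul_apply]
    exact (hg0 x).symm

include hf in
/-- `r` kills `X` iff it kills the Matlis dual of `X`. -/
lemma forall_smul_eq_zero_iff_dual (X : Type u) [AddCommGroup X] [Module R X] (r : R) :
    (∀ x : X, r • x = 0) ↔ ∀ φ : X →ₗ[R] E, r • φ = 0 := by
  constructor
  · intro h φ
    apply LinearMap.ext
    intro x
    rw [LinearMap.smul_apply, ← map_smul, h x, map_zero, LinearMap.zero_apply]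
  · intro h x
    by_contra hx
    obtain ⟨φ, hφ⟩ := Groth.Agent.Lib.Helper1.Matlis.exists_hom_apply_ne_zero f hf X (r • x) hx
    apply hφ
    rw [map_smul, ← LinearMap.smul_apply, h φ, LinearMap.zero_apply]

omit [IsLocalRing R] [IsNoetherianRing R] in
lemma smul_HH_eq_zero (I : Ideal R) (C : Type u) [AddCommGroup C] [Module R C] (r : R)
    (h : ∀ c : C, r • c = 0) (i : ℕ) (z : HH I (ModuleCat.of R C) i) : r • z = 0 := by
  have h0 : (r • 𝟙 (ModuleCat.of R C)) = 0 := by
    apply ModuleCat.hom_ext
    apply LinearMap.ext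
    intro c
    show r • c = 0
    exact h c
  rw [HH.smul_eq_map, h0, HH.map_zero']

include hf in
lemma smul_eq_zero_of_forall (C K' : Type u) [AddCommGroup C] [Module R C] [AddCommGroup K']
    [Module R K'] (I : Ideal R) (d : ℕ) (eK : (K' →ₗ[R] E) ≃ₗ[R] HH I (ModuleCat.of R C) d)
    (r : R) (h : ∀ c : C, r • c = 0) : ∀ x : K', r • x = 0 := by
  rw [forall_smul_eq_zero_iff_dual f hf K' r]
  intro φ
  apply eK.injective
  rw [map_smul, map_zero]
  exact smul_HH_eq_zero I C r h d _

include hf in
/-- the case where the dual of `K'` is a cyclic module `C`. -/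
lemma endo_base (C K' : Type u) [AddCommGroup C] [Module R C] [AddCommGroup K'] [Module R K']
    (e : (K' →ₗ[R] E) ≃ₗ[R] C) (c0 : C) (hc0 : ∀ c : C, ∃ r : R, r • c0 = c) :
    (∀ r : R, (∀ x : K', r • x = 0) → ∀ c : C, r • c = 0) ∧
    (∀ g : K' →ₗ[R] K', ∃ r : R, g = r • LinearMap.id) := by
  constructor
  · intro r h c
    have h' := (forall_smul_eq_zero_iff_dual f hf K' r).1 h
    rw [← e.apply_symm_apply c, ← map_smul, h' (e.symm c), map_zero]
  · intro g
    obtain ⟨r, hr⟩ := hc0 (e ((e.symm c0).comp g))
    refine ⟨r, ?_⟩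
    have key : ∀ φ : K' →ₗ[R] E, φ.comp g = r • φ := by
      intro φ
      obtain ⟨s, hs⟩ := hc0 (e φ)
      have h1 : φ = s • e.symm c0 := by rw [← map_smul, hs, e.symm_apply_apply]
      have h2 : (e.symm c0).comp g = r • e.symm c0 := by
        apply e.injective
        rw [map_smul, e.apply_symm_apply, hr]
      rw [h1, LinearMap.smul_comp, h2, smul_comm]
    apply LinearMap.ext
    intro x
    by_contra hx
    have hx' : g x - r • x ≠ 0 := sub_ne_zero.2 hx
    obtain ⟨φ, hφ⟩ := Groth.Agent.Lib.Helper1.Matlis.exists_hom_apply_ne_zero f hf K'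
      (g x - r • x) hx'
    apply hφ
    have h3 := congrArg (fun ψ => ψ x) (key φ)
    rw [map_sub, map_smul]
    exact sub_eq_zero.2 h3

include hf in
/-- **Endomorphisms of the dual of a cyclic Cohen–Macaulay module are homotheties**, and the
annihilator of the dual is the annihilator of the module. -/
theorem endo_main : ∀ (d : ℕ) (C K' : Type u) [AddCommGroup C] [Module R C] [Module.Finite R C]
    [Nontrivial C] [AddCommGroup K'] [Module R K'] [Module.Finite R K'],
    Module.supportDim R C = d → LocCoh.depth R C = d →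
    Nonempty ((K' →ₗ[R] E) ≃ₗ[R] HH (maximalIdeal R) (ModuleCat.of R C) d) →
    (∃ c0 : C, ∀ c : C, ∃ r : R, r • c0 = c) →
    (∀ r : R, (∀ x : K', r • x = 0) → ∀ c : C, r • c = 0) ∧
    (∀ g : K' →ₗ[R] K', ∃ r : R, g = r • LinearMap.id) := by
  intro d
  induction d with
  | zero =>
    intro C K' _ _ _ _ _ _ _ hsd hdep ⟨eK⟩ ⟨c0, hc0⟩
    have hfl : IsFiniteLength R C :=
      Groth.Agent.Lib.Helper9.isFiniteLength_of_supportDim_le_zero (by rw [hsd, Nat.cast_zero])
    obtain ⟨k, hk⟩ := Groth.Agent.Lib.Helper4.StalkDual.kills_of_isFiniteLength C hfl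
    have htor : LocCoh.IsPowerTorsion (maximalIdeal R) C := fun c => ⟨k, fun a ha => hk a ha c⟩
    exact endo_base f hf C K' (eK.trans (HH0EquivOfTorsion (maximalIdeal R) C htor)) c0 hc0
  | succ d ih =>
    intro C K' _ _ _ _ _ _ _ hsd hdep ⟨eK⟩ ⟨c0, hc0⟩
    have hIM := maximalIdeal_smul_top_ne_top (R := R) (M := C)
    have h1 : 1 ≤ LocCoh.idealDepth (maximalIdeal R) C := by
      have h2 : LocCoh.idealDepth (maximalIdeal R) C = ((d + 1 : ℕ) : ℕ∞) := hdep
      rw [h2]
      exact_mod_cast Nat.succ_le_succ (Nat.zero_le d)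
    obtain ⟨a, ha, hreg⟩ := (one_le_idealDepth_iff (maximalIdeal R) hIM).1 h1
    obtain ⟨hiff, hstep⟩ := regular_step f hf C K' (d + 1) hsd hdep eK a ha
    have hregK := hiff.1 hreg
    obtain ⟨d', hd', hnt, hsd', hdep', heK'⟩ := hstep hreg
    have hdd : d' = d := by omega
    subst hdd
    haveI := hnt
    obtain ⟨hA, hB⟩ := ih (QuotSMulTop a C) (QuotSMulTop a K') hsd' hdep' heK'
      ⟨Submodule.Quotient.mk c0, fun c => by
        obtain ⟨c', rfl⟩ := Submodule.Quotient.mk_surjective _ c
        obtain ⟨r, hr⟩ := hc0 c'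
        exact ⟨r, by rw [← Submodule.Quotient.mk_smul, hr]⟩⟩
    have hann : ∀ r : R, (∀ c : C, r • c = 0) → ∀ x : K', r • x = 0 := fun r h =>
      smul_eq_zero_of_forall f hf C K' (maximalIdeal R) (d' + 1) eK r h
    constructor
    · have hJI : Module.annihilator R K' ≤ Module.annihilator R C := by
        apply Submodule.le_of_le_smul_of_le_jacobson_bot (I := maximalIdeal R)
          (IsNoetherian.noetherian (Module.annihilator R K'))
          (by rw [IsLocalRing.jacobson_eq_maximalIdeal ⊥ bot_ne_top])
        intro r hr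
        have hrK : ∀ x : K', r • x = 0 := fun x => Module.mem_annihilator.1 hr x
        have hrQ : ∀ q : QuotSMulTop a K', r • q = 0 := by
          intro q
          obtain ⟨x, rfl⟩ := Submodule.Quotient.mk_surjective _ q
          rw [← Submodule.Quotient.mk_smul, hrK x, Submodule.Quotient.mk_zero]
        have hrC := hA r hrQ (Submodule.Quotient.mk c0)
        rw [← Submodule.Quotient.mk_smul, Submodule.Quotient.mk_eq_zero] at hrC
        obtain ⟨c1, -, hc1⟩ := (Submodule.mem_smul_pointwise_iff_exists _ _ _).1 hrC
        obtain ⟨s, hs⟩ := hc0 c1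
        have h0 : (r - a * s) • c0 = 0 := by
          rw [sub_smul, mul_smul, hs, hc1, sub_self]
        have hI : r - a * s ∈ Module.annihilator R C := by
          rw [Module.mem_annihilator]
          intro c
          obtain ⟨t, rfl⟩ := hc0 c
          rw [smul_comm, h0, smul_zero]
        have hIJ : r - a * s ∈ Module.annihilator R K' :=
          Module.mem_annihilator.2 (hann _ (Module.mem_annihilator.1 hI))
        have has : a * s ∈ Module.annihilator R K' := by
          have h3 : a * s = r - (r - a * s) := by ring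
          rw [h3]
          exact (Module.annihilator R K').sub_mem hr hIJ
        have hs' : s ∈ Module.annihilator R K' := by
          rw [Module.mem_annihilator]
          intro x
          apply hregK
          show a • s • x = a • (0 : K')
          rw [smul_zero, ← mul_smul]
          exact Module.mem_annihilator.1 has x
        have h4 : r = (r - a * s) + a * s := by ring
        rw [h4]
        refine Submodule.add_mem_sup hI ?_
        rw [← smul_eq_mul]
        exact Submodule.smul_mem_smul ha hs'
      intro r hr c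
      exact Module.mem_annihilator.1 (hJI (Module.mem_annihilator.2 hr)) c
    · have htop : (⊤ : Submodule R (K' →ₗ[R] K')) ≤
          Submodule.span R {(LinearMap.id : K' →ₗ[R] K')} := by
        apply Submodule.le_of_le_smul_of_le_jacobson_bot (I := maximalIdeal R)
          Module.Finite.fg_top
          (by rw [IsLocalRing.jacobson_eq_maximalIdeal ⊥ bot_ne_top])
        intro g _
        have hmap : a • (⊤ : Submodule R K') ≤ (a • (⊤ : Submodule R K')).comap g := by
          intro x hx
          obtain ⟨x', -, rfl⟩ := (Submodule.mem_smul_pointwise_iff_exists _ _ _).1 hx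
          rw [Submodule.mem_comap, map_smul]
          exact Submodule.smul_mem_pointwise_smul _ a ⊤ Submodule.mem_top
        obtain ⟨r, hr⟩ := hB (Submodule.mapQ _ _ g hmap)
        have hmem : ∀ x, (g - r • (LinearMap.id : K' →ₗ[R] K') : K' →ₗ[R] K') x ∈
            a • (⊤ : Submodule R K') := by
          intro x
          rw [← Submodule.Quotient.mk_eq_zero]
          have h5 := congrArg (fun ψ => ψ (Submodule.Quotient.mk x)) hr
          show Submodule.Quotient.mk (g x - r • x) = 0
          rw [Submodule.Quotient.mk_sub, Submodule.Quotient.mk_smul, sub_eq_zero]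
          exact h5
        obtain ⟨g', hg'⟩ := exists_eq_smul_of_forall_mem a hregK
          (g - r • (LinearMap.id : K' →ₗ[R] K')) hmem
        have h6 : g = r • LinearMap.id + a • g' := by
          rw [← hg']
          abel
        rw [h6]
        exact Submodule.add_mem_sup (Submodule.smul_mem _ r (Submodule.subset_span rfl))
          (Submodule.smul_mem_smul ha Submodule.mem_top)
      intro g
      have hg : g ∈ Submodule.span R {(LinearMap.id : K' →ₗ[R] K')} := htop Submodule.mem_top
      obtain ⟨r, hr⟩ := Submodule.mem_span_singleton.1 hg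
      exact ⟨r, hr.symm⟩

end general

end Groth.Agent.Lib.Helper4.CanonMod
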