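import Mathlib
import Groth.Agent.Lib.Helper4.GorTop
import Groth.Agent.Lib.Helper26.RegularRing
import Groth.Agent.S0340

/-!
# Localization of Gorenstein rings, finite self-injective dimension (helper4)
-/

set_option autoImplicit false
set_option linter.style.haveILetI false
set_option linter.unusedSectionVars false
set_option linter.unusedVariables false
set_option maxHeartbeats 800000

open CategoryTheory Limits Opposite Abelian IsLocalRing

universe u

namespace Groth.Agent.Lib.Helper4.LC

open Groth.Agent.Lib.Helper4

section arith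

lemma exists_nat_le_of_lt_top (x : WithBot ℕ∞) (h : x < ⊤) : ∃ d : ℕ, x ≤ (d : WithBot ℕ∞) := by
  induction x with
  | bot => exact ⟨0, bot_le⟩
  | coe a =>
    induction a with
    | top => exact absurd h (lt_irrefl _)
    | coe k => exact ⟨k, by exact_mod_cast le_refl (k : WithBot ℕ∞)⟩

lemma natCast_lt_top_withBot (n : ℕ) : (n : WithBot ℕ∞) < ⊤ := by
  have h : ((n : ℕ∞) : WithBot ℕ∞) < ((⊤ : ℕ∞) : WithBot ℕ∞) :=
    WithBot.coe_lt_coe.2 (ENat.coe_lt_top n)
  exact h

end arith

section loc

variable {A : Type u} [CommRing A] [IsNoetherianRing A]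

/-- `(A/p)_p ≃ κ(p)` over `A_p`. -/
noncomputable def residueLocEquiv (p : Ideal A) [p.IsPrime] :
    LocalizedModule p.primeCompl (A ⧸ p) ≃ₗ[Localization.AtPrime p]
      IsLocalRing.ResidueField (Localization.AtPrime p) :=
  (IsLocalizedModule.iso p.primeCompl
    (IsScalarTower.toAlgHom A (A ⧸ p) p.ResidueField).toLinearMap).extendScalarsOfIsLocalization
      p.primeCompl (Localization.AtPrime p)

/-- `Ext^i_{A_p}(κ(p), A_p) = 0` if `Ext^i_A(A/p, A) = 0`. -/
lemma subsingleton_ext_residue_localization (p : Ideal A) [p.IsPrime] (i : ℕ)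
    (h : Subsingleton (Ext.{u} (ModuleCat.of A (A ⧸ p)) (ModuleCat.of A A) i)) :
    Subsingleton (Ext.{u} (ModuleCat.of (Localization.AtPrime p)
      (IsLocalRing.ResidueField (Localization.AtPrime p)))
      (ModuleCat.of (Localization.AtPrime p) (Localization.AtPrime p)) i) := by
  haveI h1 : Subsingleton (Ext.{u} (ModuleCat.of (Localization.AtPrime p)
      (LocalizedModule p.primeCompl (A ⧸ p)))
      (ModuleCat.of (Localization.AtPrime p) (Localization.AtPrime p)) i) :=
    (StalkDual.subsingleton_ext_localization_iff p.primeCompl (A ⧸ p) i).2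
      (fun e => ⟨1, by rw [Subsingleton.elim e 0, smul_zero]⟩)
  exact (extCongrLeft (residueLocEquiv p).toModuleIso _ i).symm.toEquiv.subsingleton

/-- localizations of a ring of finite self-injective dimension are Gorenstein local rings. -/
theorem isGorensteinLocalRing_localization_of_injDim (n : ℕ)
    (hA : HasInjectiveDimensionLT (ModuleCat.of A A) n) (p : Ideal A) [p.IsPrime] :
    LocCoh.IsGorensteinLocalRing (Localization.AtPrime p) := by
  rw [Groth.Agent.S0340.result]
  refine ⟨n, fun i hi => ?_⟩
  exact subsingleton_ext_residue_localization p i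
    (HasInjectiveDimensionLT.subsingleton (ModuleCat.of A A) n i hi _)

/-- heights are bounded by the self-injective dimension. -/
theorem height_lt_of_injDim (n : ℕ) (hA : HasInjectiveDimensionLT (ModuleCat.of A A) n)
    (p : Ideal A) [p.IsPrime] : p.height < (n : ℕ∞) := by
  haveI := isGorensteinLocalRing_localization_of_injDim n hA p
  obtain ⟨d, hd0⟩ := exists_nat_supportDim (R := Localization.AtPrime p)
    (M := Localization.AtPrime p)
  have hd : ringKrullDim (Localization.AtPrime p) = d := by
    rw [← Module.supportDim_self_eq_ringKrullDim]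
    exact_mod_cast hd0
  have hl := gor_length_ext_residue (Localization.AtPrime p) d hd
  have h2 := IsLocalization.AtPrime.ringKrullDim_eq_height p (Localization.AtPrime p)
  rw [hd] at h2
  have h3 : (d : ℕ∞) = p.height := by exact_mod_cast h2
  rw [← h3]
  by_contra hcon
  have hnd : n ≤ d := by exact_mod_cast not_lt.1 hcon
  haveI hsub0 := subsingleton_ext_residue_localization p d
    (HasInjectiveDimensionLT.subsingleton (ModuleCat.of A A) n d hnd _)
  haveI hsub : Subsingleton (Ext.{u} (ModuleCat.of (Localization.AtPrime p)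
      (Localization.AtPrime p ⧸ maximalIdeal (Localization.AtPrime p)))
      (ModuleCat.of (Localization.AtPrime p) (Localization.AtPrime p)) d) :=
    (extCongrLeft (Groth.Agent.Lib.Helper1.Matlis.quotEquivResidueField
      (R := Localization.AtPrime p)).toModuleIso _ d).toEquiv.subsingleton
  rw [Module.length_eq_zero] at hl
  exact zero_ne_one hl

/-- an `Ext` class which is locally zero is zero. -/
lemma ext_eq_zero_of_forall_prime {X Y : ModuleCat.{u} A} (i : ℕ) (e : Ext.{u} X Y i)
    (h : ∀ (p : Ideal A) [p.IsPrime], ∃ s : p.primeCompl, (s : A) • e = 0) : e = 0 := by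
  let J : Ideal A :=
    { carrier := {r | r • e = 0}
      add_mem' := by
        intro a b ha hb
        show (a + b) • e = 0
        rw [add_smul, ha, hb, add_zero]
      zero_mem' := zero_smul A e
      smul_mem' := by
        intro c a ha
        show (c • a) • e = 0
        rw [smul_eq_mul, mul_smul, ha, smul_zero] }
  by_contra hne
  have hJ : J ≠ ⊤ := by
    intro htop
    apply hne
    have h1 : (1 : A) ∈ J := by rw [htop]; trivial
    have h2 : (1 : A) • e = 0 := h1
    rwa [one_smul] at h2
  obtain ⟨M, hM, hJM⟩ := Ideal.exists_le_maximal J hJ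
  haveI := hM.isPrime
  obtain ⟨s, hs⟩ := h M
  exact s.2 (hJM hs)

/-- a Gorenstein ring of finite Krull dimension has finite self-injective dimension. -/
theorem hasInjectiveDimensionLT_of_gorenstein (hG : LocCoh.IsGorensteinRing A) (d : ℕ)
    (hd : ringKrullDim A ≤ (d : WithBot ℕ∞)) :
    HasInjectiveDimensionLT (ModuleCat.of A A) (d + 1) := by
  apply Groth.Agent.Lib.Helper9.hasInjectiveDimensionLT_of_cyclic d
  intro I
  have key : ∀ e : Ext.{u} (ModuleCat.of A (A ⧸ I)) (ModuleCat.of A A) (d + 1), e = 0 := by
    intro e
    apply ext_eq_zero_of_forall_prime (d + 1) e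
    intro p hp
    haveI := hG.isGorensteinLocalRing_localization p
    obtain ⟨dp, hdp0⟩ := exists_nat_supportDim (R := Localization.AtPrime p)
      (M := Localization.AtPrime p)
    have hdp : ringKrullDim (Localization.AtPrime p) = dp := by
      rw [← Module.supportDim_self_eq_ringKrullDim]
      exact_mod_cast hdp0
    have hle : dp ≤ d := by
      have h2 := IsLocalization.AtPrime.ringKrullDim_eq_height p (Localization.AtPrime p)
      have h3 : ((p.height : ℕ∞) : WithBot ℕ∞) ≤ (d : WithBot ℕ∞) :=
        (ringKrullDim_le_iff_height_le _).1 hd hp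
      rw [← h2, hdp] at h3
      exact_mod_cast h3
    have hsub := gor_ext_self_subsingleton_of_gt (Localization.AtPrime p) dp hdp
      (LocalizedModule p.primeCompl (A ⧸ I)) (d + 1) (by omega)
    exact (StalkDual.subsingleton_ext_localization_iff p.primeCompl (A ⧸ I) (d + 1)).1 hsub e
  exact ⟨fun a b => (key a).trans (key b).symm⟩

end loc

end Groth.Agent.Lib.Helper4.LC
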