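import Mathlib
import Groth.Agent.Lib.Helper4.StalkDual3
import Groth.Agent.Lib.Helper4.GorLoc
import Groth.Agent.Lib.Helper4.CanonMod4

/-!
# Annihilators of `H^i_m(M)` over quotients of Gorenstein local rings, stalkwise (helper4)
-/

set_option autoImplicit false
set_option linter.style.haveILetI false
set_option linter.unusedSectionVars false
set_option linter.unusedVariables false
set_option maxHeartbeats 800000

open CategoryTheory Limits Opposite Abelian IsLocalRing

universe u

namespace Groth.Agent.Lib.Helper4.StalkDual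

open Groth.Agent.Lib.Helper4 Groth.Agent.Lib.Helper4.LC Groth.Agent.Lib.Helper4.Falt

section arith

lemma exists_nat_of_natCast_add_eq (j i : ℕ) (x : WithBot ℕ∞)
    (h : (j : WithBot ℕ∞) + x = (i : WithBot ℕ∞)) :
    ∃ e : ℕ, x = (e : WithBot ℕ∞) ∧ j + e = i := by
  induction x with
  | bot =>
    exfalso
    rw [WithBot.add_bot] at h
    exact (WithBot.natCast_ne_bot i) h.symm
  | coe a =>
    induction a with
    | top =>
      exfalso
      have h1 : ((((j : ℕ∞) + ⊤ : ℕ∞)) : WithBot ℕ∞) = (((i : ℕ) : ℕ∞) : WithBot ℕ∞) := by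
        exact_mod_cast h
      rw [WithBot.coe_inj, add_top] at h1
      exact ENat.top_ne_coe _ h1
    | coe a =>
      have h1 : ((j + a : ℕ) : WithBot ℕ∞) = ((i : ℕ) : WithBot ℕ∞) := by exact_mod_cast h
      have h2 : j + a = i := by exact_mod_cast h1
      exact ⟨a, by norm_cast, h2⟩

end arith

section finmod

variable {A : Type u} [CommRing A]

/-- a power of `a` kills the finite module `X` iff `X` vanishes at all primes avoiding `a`. -/
theorem exists_pow_smul_eq_zero_iff_forall_prime (X : Type u) [AddCommGroup X] [Module A X]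
    [Module.Finite A X] (a : A) :
    (∃ k : ℕ, ∀ x : X, a ^ k • x = 0) ↔ ∀ (P : Ideal A) [P.IsPrime], a ∉ P →
      ∀ x : X, ∃ s : P.primeCompl, (s : A) • x = 0 := by
  constructor
  · rintro ⟨k, hk⟩ P _ haP x
    exact ⟨⟨a ^ k, fun h' => haP (Ideal.IsPrime.mem_of_pow_mem ‹_› k h')⟩, hk x⟩
  · intro h
    have hrad : a ∈ (Module.annihilator A X).radical := by
      rw [Ideal.radical_eq_sInf, Ideal.mem_sInf]
      intro Q hQ
      obtain ⟨hQa, hQp⟩ := hQ
      haveI := hQp
      by_contra haQ
      obtain ⟨s, hs⟩ := (Module.Finite.fg_top : (⊤ : Submodule A X).FG)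
      choose t ht using h Q haQ
      have hprod : (∏ x ∈ s, (t x : A)) ∈ Q.primeCompl :=
        Q.primeCompl.prod_mem (fun x _ => (t x).2)
      apply hprod
      apply hQa
      rw [Module.mem_annihilator]
      intro y
      have hy : y ∈ Submodule.span A (s : Set X) := by rw [hs]; exact Submodule.mem_top
      induction hy using Submodule.span_induction with
      | mem x hx =>
        obtain ⟨c, hc⟩ := Finset.dvd_prod_of_mem (fun x => (t x : A)) hx
        rw [hc, mul_comm, mul_smul, ht x, smul_zero]
      | zero => rw [smul_zero]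
      | add y1 y2 _ _ h1 h2 => rw [smul_add, h1, h2, add_zero]
      | smul c y1 _ h1 => rw [smul_comm, h1, smul_zero]
    obtain ⟨k, hk⟩ := Ideal.mem_radical_iff.1 hrad
    exact ⟨k, fun x => Module.mem_annihilator.1 hk x⟩

end finmod

section gor

variable (B : Type u) [CommRing B] [LocCoh.IsGorensteinLocalRing B]

/-- local duality over a Gorenstein local ring, `Abelian.Ext` form. -/
theorem gor_duality (n : ℕ) (hn : ringKrullDim B = n) :
    ∃ (E : Type u) (_ : AddCommGroup E) (_ : Module B E) (f : ResidueField B →ₗ[B] E),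
      InjHull.IsInjectiveHull f ∧
      ∀ (k j : ℕ), j + k = n → ∀ (X : Type u) [AddCommGroup X] [Module B X] [Module.Finite B X],
        Nonempty (HH (maximalIdeal B) (ModuleCat.of B X) j ≃ₗ[B]
          (Ext.{u} (ModuleCat.of B X) (ModuleCat.of B B) k →ₗ[B] E)) := by
  obtain ⟨E, _, _, f, hf⟩ :=
    Groth.Agent.Lib.Helper1.InjHullLib.exists_injective_hull B (ResidueField B)
  refine ⟨E, inferInstance, inferInstance, f, hf, ?_⟩
  haveI := hf.isInjective
  obtain ⟨g, hg⟩ := gor_exists_isInjectiveHull_H_top B n hn
  obtain ⟨e, _⟩ := Groth.Agent.S0302.result B (ResidueField B) E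
    (LocCoh.H (maximalIdeal B) n B) f hf g hg
  have eK : (B →ₗ[B] E) ≃ₗ[B] HH (maximalIdeal B) (ModuleCat.of B B) n :=
    ((LinearMap.ringLmapEquivSelf B B E).trans e).trans
      (lcEquiv (maximalIdeal B) (ModuleCat.of B B) n)
  intro k j hjk X _ _ _
  exact nonempty_duality n hn (fun j hj => gor_HH_self_subsingleton_of_lt B n hn j hj) E B eK
    k j hjk X

/-- vanishing of `H^j_m(X)` is vanishing of `Ext^{n-j}(X, B)`. -/
theorem gor_vanishing_iff (n : ℕ) (hn : ringKrullDim B = n) (X : Type u) [AddCommGroup X]
    [Module B X] [Module.Finite B X] (j k : ℕ) (hjk : j + k = n) :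
    Subsingleton (HH (maximalIdeal B) (ModuleCat.of B X) j) ↔
      Subsingleton (Ext.{u} (ModuleCat.of B X) (ModuleCat.of B B) k) := by
  obtain ⟨E, _, _, f, hf, hdual⟩ := gor_duality B n hn
  obtain ⟨e⟩ := hdual k j hjk X
  constructor
  · intro h
    refine subsingleton_of_forall_eq 0 (fun x => ?_)
    by_contra hx
    obtain ⟨φ, hφ⟩ := Groth.Agent.Lib.Helper1.Matlis.exists_hom_apply_ne_zero f hf _ x hx
    apply hφ
    have h0 : φ = 0 := e.symm.injective (Subsingleton.elim _ _)
    rw [h0, LinearMap.zero_apply]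
  · intro h
    exact e.toEquiv.subsingleton

theorem gor_isGorensteinLocalRing_localization (P : Ideal B) [P.IsPrime] :
    LocCoh.IsGorensteinLocalRing (Localization.AtPrime P) := by
  obtain ⟨n, hn⟩ := LocCoh.IsGorensteinLocalRing.exists_hasInjectiveDimensionLT (A := B)
  exact isGorensteinLocalRing_localization_of_injDim n hn P

theorem gor_exists_nat_dim : ∃ n : ℕ, ringKrullDim B = n := by
  obtain ⟨d, hd0⟩ := exists_nat_supportDim (R := B) (M := B)
  refine ⟨d, ?_⟩
  rw [← Module.supportDim_self_eq_ringKrullDim]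
  exact_mod_cast hd0

/-- `ht P + dim B/P = dim B` in a Gorenstein local ring. -/
theorem gor_height_add_ringKrullDim_quotient (P : Ideal B) [P.IsPrime] :
    ((P.height : ℕ∞) : WithBot ℕ∞) + ringKrullDim (B ⧸ P) = ringKrullDim B := by
  haveI : LocCoh.IsCohenMacaulayLocalRing B := Groth.Agent.S0341.result B
  have hcm : LocCoh.IsCohenMacaulayModule B B :=
    LocCoh.IsCohenMacaulayLocalRing.supportDim_eq_depth (R := B)
  have hsupp : Module.support B B = Set.univ := by
    rw [Module.support_of_algebra]
    have hk : RingHom.ker (algebraMap B B) = ⊥ :=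
      (RingHom.injective_iff_ker_eq_bot _).mp (fun a b h => h)
    rw [hk]
    simp
  exact cm_height_add_ringKrullDim_quotient hcm hsupp ⟨P, inferInstance⟩

theorem gor_prime_facts (n : ℕ) (hn : ringKrullDim B = n) (P : Ideal B) [P.IsPrime] :
    ∃ nP e₀ : ℕ, ringKrullDim (Localization.AtPrime P) = nP ∧ ringKrullDim (B ⧸ P) = e₀ ∧
      nP + e₀ = n := by
  have h1 := gor_height_add_ringKrullDim_quotient B P
  rw [hn] at h1
  have hne : P.height ≠ ⊤ := Ideal.height_ne_top (Ideal.IsPrime.ne_top ‹_›)
  obtain ⟨nP, hnP⟩ : ∃ nP : ℕ, P.height = nP := ⟨_, (ENat.coe_toNat hne).symm⟩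
  rw [hnP] at h1
  obtain ⟨e₀, he₀, hsum⟩ := exists_nat_of_natCast_add_eq nP n _ (by exact_mod_cast h1)
  refine ⟨nP, e₀, ?_, he₀, hsum⟩
  rw [IsLocalization.AtPrime.ringKrullDim_eq_height P, hnP]
  rfl

/-- **a power of `a` kills `H^i_m(N)`** over a Gorenstein local ring, stalkwise. -/
theorem gor_pow_kills_HH_iff (N : Type u) [AddCommGroup N] [Module B N] [Module.Finite B N]
    (i : ℕ) (a : B) :
    (∃ k : ℕ, ∀ x : HH (maximalIdeal B) (ModuleCat.of B N) i, a ^ k • x = 0) ↔
      ∀ (P : Ideal B) [P.IsPrime], a ∉ P → ∀ (e j : ℕ), ringKrullDim (B ⧸ P) = e → j + e = i →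
        Subsingleton (HH (maximalIdeal (Localization.AtPrime P))
          (ModuleCat.of (Localization.AtPrime P) (LocalizedModule P.primeCompl N)) j) := by
  obtain ⟨n, hn⟩ := gor_exists_nat_dim B
  by_cases hin : i ≤ n
  · obtain ⟨c, hc⟩ : ∃ c, i + c = n := ⟨n - i, by omega⟩
    obtain ⟨E, _, _, f, hf, hdual⟩ := gor_duality B n hn
    obtain ⟨eD⟩ := hdual c i hc N
    have h1 : (∃ k : ℕ, ∀ x : HH (maximalIdeal B) (ModuleCat.of B N) i, a ^ k • x = 0) ↔
        ∃ k : ℕ, ∀ x : Ext.{u} (ModuleCat.of B N) (ModuleCat.of B B) c, a ^ k • x = 0 := by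
      refine exists_congr (fun k => ?_)
      rw [CanonMod.forall_smul_eq_zero_iff_dual f hf
        (Ext.{u} (ModuleCat.of B N) (ModuleCat.of B B) c) (a ^ k)]
      constructor
      · intro h φ
        have := h (eD.symm φ)
        rw [← map_smul] at this
        exact eD.symm.injective (this.trans (map_zero _).symm)
      · intro h x
        have := h (eD x)
        rw [← map_smul] at this
        exact eD.injective (this.trans (map_zero _).symm)
    rw [h1, exists_pow_smul_eq_zero_iff_forall_prime]
    refine forall_congr' (fun P => ?_)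
    refine forall_congr' (fun hPprime => ?_)
    refine forall_congr' (fun haP => ?_)
    haveI := hPprime
    rw [← subsingleton_ext_localization_iff P.primeCompl N c]
    obtain ⟨nP, e₀, hdimP, he₀, hne⟩ := gor_prime_facts B n hn P
    haveI := gor_isGorensteinLocalRing_localization B P
    constructor
    · intro hExt e j he hje
      have hee : e = e₀ := by
        rw [he₀] at he
        exact_mod_cast he.symm
      exact (gor_vanishing_iff (Localization.AtPrime P) nP hdimP
        (LocalizedModule P.primeCompl N) j c (by omega)).2 hExt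
    · intro hH
      by_cases hkP : c ≤ nP
      · have := hH e₀ (nP - c) he₀ (by omega)
        exact (gor_vanishing_iff (Localization.AtPrime P) nP hdimP
          (LocalizedModule P.primeCompl N) (nP - c) c (by omega)).1 this
      · exact gor_ext_self_subsingleton_of_gt (Localization.AtPrime P) nP hdimP
          (LocalizedModule P.primeCompl N) c (not_le.1 hkP)
  · have hsub : Subsingleton (HH (maximalIdeal B) (ModuleCat.of B N) i) := by
      refine HH.subsingleton_of_ringKrullDim_lt _ _ i ?_
      rw [hn]
      exact_mod_cast (not_le.1 hin)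
    constructor
    · intro _ P _ haP e j he hje
      obtain ⟨nP, e₀, hdimP, he₀, hne⟩ := gor_prime_facts B n hn P
      have hee : e = e₀ := by
        rw [he₀] at he
        exact_mod_cast he.symm
      refine HH.subsingleton_of_ringKrullDim_lt _ _ j ?_
      rw [hdimP]
      have : nP < j := by omega
      exact_mod_cast this
    · intro _
      exact ⟨0, fun x => Subsingleton.elim _ _⟩

end gor

section transfer

variable {B R : Type u} [CommRing B] [LocCoh.IsGorensteinLocalRing B] [CommRing R] [IsLocalRing R]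
  [IsNoetherianRing R] [Algebra B R] (hsurj : Function.Surjective (algebraMap B R))
  (M : Type u) [AddCommGroup M] [Module B M] [Module R M] [IsScalarTower B R M]
  [Module.Finite R M]

include hsurj in
/-- **`J ⊆ rad Ann H^i_m(M)` stalkwise**, for a quotient `R` of a Gorenstein local ring `B`. -/
theorem le_radical_annihilator_H_iff (J : Ideal R) (i : ℕ) :
    J ≤ (Module.annihilator R (LocCoh.H (maximalIdeal R) i M)).radical ↔
      ∀ (p : Ideal R) [p.IsPrime], ¬ J ≤ p → ∀ j : ℕ,
        (j : WithBot ℕ∞) + ringKrullDim (R ⧸ p) = i →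
        Subsingleton (LocCoh.H (maximalIdeal (Localization.AtPrime p)) j
          (LocalizedModule p.primeCompl M)) := by
  classical
  haveI : Module.Finite B R := Module.Finite.of_surjective (Algebra.linearMap B R) hsurj
  haveI : Module.Finite B M := Module.Finite.trans R M
  have hmap := map_maximalIdeal_eq hsurj
  have hcomap := comap_maximalIdeal_eq hsurj
  obtain ⟨φ, hφ⟩ : ∃ φ : HH (maximalIdeal R) (ModuleCat.of R M) i ≃+
      HH (maximalIdeal B) (ModuleCat.of B M) i,
      ∀ (r : B) (x : HH (maximalIdeal R) (ModuleCat.of R M) i),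
        φ (algebraMap B R r • x) = r • φ x := by
    have := Groth.Agent.Lib.Helper20.LCIndep2.exists_addEquiv (R := B) R (maximalIdeal B) M i
    rw [hmap] at this
    exact this
  have hL : J ≤ (Module.annihilator R (LocCoh.H (maximalIdeal R) i M)).radical ↔
      ∀ b : B, algebraMap B R b ∈ J →
        ∃ k : ℕ, ∀ y : HH (maximalIdeal B) (ModuleCat.of B M) i, b ^ k • y = 0 := by
    constructor
    · intro h b hb
      obtain ⟨k, hk⟩ := Ideal.mem_radical_iff.1 (h hb)
      rw [Module.mem_annihilator] at hk
      refine ⟨k, fun y => ?_⟩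
      obtain ⟨x, rfl⟩ := φ.surjective y
      rw [← hφ, map_pow]
      have h0 := hk ((lcEquiv (maximalIdeal R) (ModuleCat.of R M) i).symm x)
      rw [← map_smul] at h0
      have h1 : algebraMap B R b ^ k • x = 0 :=
        (lcEquiv (maximalIdeal R) (ModuleCat.of R M) i).symm.injective
          (h0.trans (map_zero _).symm)
      rw [h1, map_zero]
    · intro h a ha
      obtain ⟨b, rfl⟩ := hsurj a
      obtain ⟨k, hk⟩ := h b ha
      refine Ideal.mem_radical_iff.2 ⟨k, ?_⟩
      rw [Module.mem_annihilator]
      intro x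
      have h0 := hk (φ (lcEquiv (maximalIdeal R) (ModuleCat.of R M) i x))
      rw [← hφ, map_pow] at h0
      have h1 := φ.injective (h0.trans (map_zero φ).symm)
      rw [← map_smul] at h1
      exact (lcEquiv (maximalIdeal R) (ModuleCat.of R M) i).injective
        (h1.trans (map_zero _).symm)
  rw [hL]
  constructor
  · intro h p hp hJp j hj
    haveI := hp
    obtain ⟨a, haJ, hap⟩ := SetLike.not_le_iff_exists.1 hJp
    obtain ⟨b, rfl⟩ := hsurj a
    have hbP : b ∉ p.comap (algebraMap B R) := hap
    obtain ⟨e, he, hje⟩ := exists_nat_of_natCast_add_eq j i _ hj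
    have hdimB : ringKrullDim (B ⧸ p.comap (algebraMap B R)) = e := by
      rw [← relHeight_maximalIdeal (p.comap (algebraMap B R)),
        relHeight_maximalIdeal_comap hsurj p, he]
    have h3 := (gor_pow_kills_HH_iff B M i b).1 (h b haJ) (p.comap (algebraMap B R)) hbP e j
      hdimB hje
    rw [HH_localization_comap_iff hsurj M p j] at h3
    rw [subsingleton_H_iff]
    exact h3
  · intro h b hbJ
    rw [gor_pow_kills_HH_iff B M i b]
    intro P _ hbP e j he hje
    by_cases hker : RingHom.ker (algebraMap B R) ≤ P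
    · have hPprime : (P.map (algebraMap B R)).IsPrime :=
        Ideal.map_isPrime_of_surjective hsurj hker
      have hcm : (P.map (algebraMap B R)).comap (algebraMap B R) = P := by
        rw [Ideal.comap_map_of_surjective _ hsurj]
        exact sup_eq_left.mpr (by rwa [← RingHom.ker_eq_comap_bot])
      obtain ⟨p, hpprime, rfl⟩ : ∃ p : Ideal R, p.IsPrime ∧ p.comap (algebraMap B R) = P :=
        ⟨P.map _, hPprime, hcm⟩
      haveI := hpprime
      have hJp : ¬ J ≤ p := fun hle => hbP (hle hbJ)
      have hdimR : ringKrullDim (R ⧸ p) = e := by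
        rw [← relHeight_maximalIdeal_comap hsurj p,
          relHeight_maximalIdeal (p.comap (algebraMap B R)), he]
      have h3 := h p hJp j (by rw [hdimR]; exact_mod_cast hje)
      rw [subsingleton_H_iff] at h3
      rw [HH_localization_comap_iff hsurj M p j]
      exact h3
    · obtain ⟨s, hsker, hsP⟩ := SetLike.not_le_iff_exists.1 hker
      haveI : Subsingleton (LocalizedModule P.primeCompl M) := by
        rw [LocalizedModule.subsingleton_iff]
        intro m
        refine ⟨s, hsP, ?_⟩
        rw [← algebraMap_smul R s m, (RingHom.mem_ker).1 hsker, zero_smul]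
      exact HH.subsingleton_of_subsingleton _ _ j

end transfer

end Groth.Agent.Lib.Helper4.StalkDual
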