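import Mathlib
import Groth.Agent.Lib.Helper4.GorStalk

/-!
# `ht I + dim S/I = dim S` in a Gorenstein local ring (helper4)
-/

set_option autoImplicit false
set_option linter.style.haveILetI false
set_option linter.unusedSectionVars false
set_option linter.unusedVariables false
set_option maxHeartbeats 800000

open CategoryTheory Limits Opposite Abelian IsLocalRing

universe u

namespace Groth.Agent.Lib.Helper4.StalkDual

open Groth.Agent.Lib.Helper4 Groth.Agent.Lib.Helper4.LC Groth.Agent.Lib.Helper4.Falt

section gordim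

variable (S : Type u) [CommRing S] [LocCoh.IsGorensteinLocalRing S]

/-- `dim S/I + ht I = dim S` for an ideal of a Gorenstein local ring. -/
theorem gor_dim_add_height_eq (I : Ideal S) (g d n : ℕ) (hg : I.height = g)
    (hd : ringKrullDim (S ⧸ I) = d) (hn : ringKrullDim S = n) : d + g = n := by
  obtain ⟨P, hP, hIP, hPg⟩ := Ideal.exists_isPrime_height_eq hg
  haveI := hP
  apply le_antisymm
  · haveI : Nonempty (PrimeSpectrum.zeroLocus (R := S) (I : Set S)) :=
      ⟨⟨⟨P, hP⟩, by rw [PrimeSpectrum.mem_zeroLocus]; exact SetLike.coe_subset_coe.2 hIP⟩⟩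
    have hd0 := hd
    rw [ringKrullDim_quotient, Order.krullDim_eq_iSup_coheight_of_nonempty] at hd0
    have hd' : (⨆ a : PrimeSpectrum.zeroLocus (R := S) (I : Set S), Order.coheight a) =
        (d : ℕ∞) := by
      exact_mod_cast hd0
    obtain ⟨a, ha⟩ := ENat.exists_eq_iSup_of_lt_top
      (f := fun a : PrimeSpectrum.zeroLocus (R := S) (I : Set S) => Order.coheight a)
      (by rw [hd']; exact ENat.coe_lt_top d)
    rw [hd'] at ha
    have h2 : Order.coheight a ≤ Order.coheight a.1 :=
      Order.coheight_le_coheight_apply_of_strictMono Subtype.val (Subtype.strictMono_coe _) a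
    have hIQ : I ≤ a.1.asIdeal := by
      have := a.2
      rw [PrimeSpectrum.mem_zeroLocus] at this
      exact SetLike.coe_subset_coe.1 this
    haveI : a.1.asIdeal.IsPrime := a.1.2
    have h3 := gor_height_add_ringKrullDim_quotient S a.1.asIdeal
    rw [ringKrullDim_quotient_eq_coheight, hn] at h3
    have h4 : a.1.asIdeal.height + Order.coheight a.1 = (n : ℕ∞) := by exact_mod_cast h3
    have h5 : I.height ≤ a.1.asIdeal.height := Ideal.height_mono hIQ
    have h5' : (g : ℕ∞) ≤ a.1.asIdeal.height := by rw [← hg]; exact h5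
    have h2' : (d : ℕ∞) ≤ Order.coheight a.1 := by rw [← ha]; exact h2
    have h6 : (d : ℕ∞) + (g : ℕ∞) ≤ (n : ℕ∞) :=
      calc (d : ℕ∞) + (g : ℕ∞) = (g : ℕ∞) + (d : ℕ∞) := add_comm _ _
        _ ≤ a.1.asIdeal.height + Order.coheight a.1 := add_le_add h5' h2'
        _ = (n : ℕ∞) := h4
    exact_mod_cast h6
  · have h1 := gor_height_add_ringKrullDim_quotient S P
    rw [hn, hPg] at h1
    obtain ⟨e, he, hsum⟩ := exists_nat_of_natCast_add_eq g n _ (by exact_mod_cast h1)
    have hle : ringKrullDim (S ⧸ P) ≤ ringKrullDim (S ⧸ I) :=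
      ringKrullDim_le_of_surjective (Ideal.Quotient.factor hIP)
        (Ideal.Quotient.factor_surjective hIP)
    rw [he, hd] at hle
    have : e ≤ d := by exact_mod_cast hle
    omega

end gordim

end Groth.Agent.Lib.Helper4.StalkDual
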