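import Mathlib
import Groth.Agent.Lib.Helper4.GorDim

/-!
# Existence of canonical modules for quotients of Gorenstein local rings (helper4)
-/

set_option autoImplicit false
set_option linter.style.haveILetI false
set_option linter.unusedSectionVars false
set_option linter.unusedVariables false
set_option maxHeartbeats 800000

open CategoryTheory Limits Opposite Abelian IsLocalRing

universe u

namespace Groth.Agent.Lib.Helper4.QuotCanon

open Groth.Agent.Lib.Helper4 Groth.Agent.Lib.Helper4.LC Groth.Agent.Lib.Helper4.StalkDual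
  Groth.Agent.Lib.Helper1.InjHullLib

section quot

variable {B R : Type u} [CommRing B] [CommRing R] [Algebra B R]

lemma smul_eq_of_map_eq {X : Type u} [AddCommGroup X] [Module B X]
    (hX : ∀ a : B, algebraMap B R a = 0 → ∀ x : X, a • x = 0) {b b' : B}
    (h : algebraMap B R b = algebraMap B R b') (x : X) : b • x = b' • x := by
  have h0 : algebraMap B R (b - b') = 0 := by rw [map_sub, h, sub_self]
  have h1 := hX (b - b') h0 x
  rw [sub_smul, sub_eq_zero] at h1
  exact h1

variable (hsurj : Function.Surjective (algebraMap B R))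

/-- a `B`-module killed by the kernel of the surjection `B → R` is an `R`-module. -/
noncomputable def quotModule (X : Type u) [AddCommGroup X] [Module B X]
    (hX : ∀ a : B, algebraMap B R a = 0 → ∀ x : X, a • x = 0) : Module R X where
  smul r x := Function.surjInv hsurj r • x
  one_smul x := by
    show Function.surjInv hsurj (1 : R) • x = x
    rw [smul_eq_of_map_eq hX (b' := 1) (by rw [Function.surjInv_eq hsurj, map_one]) x, one_smul]
  mul_smul r s x := by
    show Function.surjInv hsurj (r * s) • x =
      Function.surjInv hsurj r • (Function.surjInv hsurj s • x)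
    rw [← mul_smul]
    exact smul_eq_of_map_eq hX (by simp only [map_mul, Function.surjInv_eq hsurj]) x
  smul_zero r := by
    show Function.surjInv hsurj r • (0 : X) = 0
    exact smul_zero _
  smul_add r x y := by
    show Function.surjInv hsurj r • (x + y) =
      Function.surjInv hsurj r • x + Function.surjInv hsurj r • y
    exact smul_add _ x y
  add_smul r s x := by
    show Function.surjInv hsurj (r + s) • x =
      Function.surjInv hsurj r • x + Function.surjInv hsurj s • x
    rw [← add_smul]
    exact smul_eq_of_map_eq hX (by simp only [map_add, Function.surjInv_eq hsurj]) x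
  zero_smul x := by
    show Function.surjInv hsurj (0 : R) • x = 0
    rw [smul_eq_of_map_eq hX (b' := 0) (by rw [Function.surjInv_eq hsurj, map_zero]) x, zero_smul]

lemma quotModule_algebraMap_smul (X : Type u) [AddCommGroup X] [Module B X]
    (hX : ∀ a : B, algebraMap B R a = 0 → ∀ x : X, a • x = 0) (b : B) (x : X) :
    letI := quotModule hsurj X hX
    (algebraMap B R b) • x = b • x :=
  smul_eq_of_map_eq hX (Function.surjInv_eq hsurj _) x

include hsurj in
/-- a `B`-linear map between `R`-modules is `R`-linear. -/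
def linearMapOfTower {X Y : Type u} [AddCommGroup X] [Module B X] [Module R X]
    [IsScalarTower B R X] [AddCommGroup Y] [Module B Y] [Module R Y] [IsScalarTower B R Y]
    (φ : X →ₗ[B] Y) : X →ₗ[R] Y where
  toFun := φ
  map_add' := φ.map_add
  map_smul' r x := by
    obtain ⟨b, rfl⟩ := hsurj r
    rw [RingHom.id_apply, algebraMap_smul, algebraMap_smul, map_smul]

end quot

section hull

variable {B R : Type u} [CommRing B] [CommRing R] [IsLocalRing B] [IsLocalRing R] [Algebra B R]
  (hsurj : Function.Surjective (algebraMap B R))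

/-- the map on residue fields, as a `B`-linear map. -/
noncomputable def residueMapₗ [IsLocalHom (algebraMap B R)] :
    ResidueField B →ₗ[B] ResidueField R where
  toFun := ResidueField.map (algebraMap B R)
  map_add' := map_add _
  map_smul' b x := by
    rw [RingHom.id_apply, Algebra.smul_def, Algebra.smul_def, map_mul]
    congr 1

variable {E : Type u} [AddCommGroup E] [Module R E] [Module B E] [IsScalarTower B R E]
  (f : ResidueField R →ₗ[R] E) (hf : InjHull.IsInjectiveHull f)
  {EB : Type u} [AddCommGroup EB] [Module B EB] (i : E →ₗ[B] EB)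

include hsurj hf in
theorem isInjectiveHull_comp [IsLocalHom (algebraMap B R)] (hi : InjHull.IsInjectiveHull i) :
    InjHull.IsInjectiveHull ((i ∘ₗ f.restrictScalars B) ∘ₗ residueMapₗ (B := B) (R := R)) := by
  refine ⟨(isEssentialInj_iff _).2 ⟨?_, ?_⟩, hi.isInjective⟩
  · intro a b hab
    have h1 : f (ResidueField.map (algebraMap B R) a) = f (ResidueField.map (algebraMap B R) b) :=
      hi.injective hab
    exact (ResidueField.map (algebraMap B R)).injective (hf.injective h1)
  · intro x hx
    obtain ⟨b, hb0, ⟨y, hy⟩⟩ := ((isEssentialInj_iff i).1 hi.toIsEssentialInj).2 x hx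
    have hy0 : y ≠ 0 := by
      rintro rfl
      exact hb0 (by rw [← hy, map_zero])
    obtain ⟨r, hr0, ⟨z, hz⟩⟩ := ((isEssentialInj_iff f).1 hf.toIsEssentialInj).2 y hy0
    obtain ⟨b', rfl⟩ := hsurj r
    obtain ⟨z0, rfl⟩ := IsLocalRing.residue_surjective z
    obtain ⟨c, rfl⟩ := hsurj z0
    have key : (b' * b) • x = i (f (residue R (algebraMap B R c))) :=
      calc (b' * b) • x = b' • (b • x) := mul_smul _ _ _
        _ = b' • i y := by rw [hy]
        _ = i (b' • y) := (map_smul i b' y).symm
        _ = i (algebraMap B R b' • y) := by rw [algebraMap_smul]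
        _ = i (f (residue R (algebraMap B R c))) := by rw [hz]
    refine ⟨b' * b, ?_, ⟨residue B c, ?_⟩⟩
    · rw [key]
      intro h0
      apply hr0
      rw [← hz]
      exact hi.injective (h0.trans (map_zero i).symm)
    · rw [key]
      rfl

include hsurj in
/-- elements of an essential extension of the `R`-injective module `E` killed by the kernel
lie in `E`. -/
theorem mem_range_of_forall_ker_smul (hE : Module.Injective R E) (hi' : InjHull.IsEssentialInj i)
    (x : EB) (hx : ∀ a : B, algebraMap B R a = 0 → a • x = 0) : x ∈ LinearMap.range i := by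
  classical
  let T : Submodule B EB :=
    { carrier := {x | ∀ a : B, algebraMap B R a = 0 → a • x = 0}
      add_mem' := fun {x y} hx hy a ha => by rw [smul_add, hx a ha, hy a ha, add_zero]
      zero_mem' := fun a _ => smul_zero a
      smul_mem' := fun c x hx a ha => by rw [smul_comm, hx a ha, smul_zero] }
  have hT : ∀ a : B, algebraMap B R a = 0 → ∀ t : T, a • t = 0 :=
    fun a ha t => Subtype.ext (t.2 a ha)
  letI : Module R T := quotModule hsurj T hT
  haveI : IsScalarTower B R T :=
    IsScalarTower.of_algebraMap_smul (fun b t => quotModule_algebraMap_smul hsurj T hT b t)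
  let iT : E →ₗ[B] T := i.codRestrict T (fun y a ha => by
    rw [← map_smul, ← algebraMap_smul R a y, ha, zero_smul, map_zero])
  have hiT : Function.Injective iT := fun y y' h => hi'.injective (congrArg Subtype.val h)
  let iR : E →ₗ[R] T := linearMapOfTower hsurj iT
  obtain ⟨ρ, hρ⟩ := hE.out iR hiT LinearMap.id
  have hρ' : ∀ y : E, ρ (iT y) = y := fun y => hρ y
  have hker : ∀ t : T, ρ t = 0 → t = 0 := by
    intro t ht
    by_contra ht0
    have ht0' : (t : EB) ≠ 0 := fun h => ht0 (Subtype.ext h)
    obtain ⟨b, hb0, ⟨y, hy⟩⟩ := ((isEssentialInj_iff i).1 hi').2 (t : EB) ht0'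
    have h1 : iT y = b • t := Subtype.ext hy
    have h2 : ρ (b • t) = 0 := by
      rw [← algebraMap_smul R b t, map_smul, ht, smul_zero]
    rw [← h1, hρ'] at h2
    apply hb0
    rw [← hy, h2, map_zero]
  have hfix : ∀ t : T, iT (ρ t) = t := by
    intro t
    have : ρ (iT (ρ t) - t) = 0 := by rw [map_sub, hρ', sub_self]
    exact sub_eq_zero.1 (hker _ this)
  exact ⟨ρ ⟨x, hx⟩, congrArg Subtype.val (hfix ⟨x, hx⟩)⟩

end hull

/-- the candidate canonical module. -/
abbrev KExt (B R : Type u) [CommRing B] [CommRing R] [Algebra B R] (c : ℕ) : Type u :=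
  Ext.{u} (ModuleCat.of B R) (ModuleCat.of B B) c

section main

variable {B R : Type u} [CommRing B] [LocCoh.IsGorensteinLocalRing B] [CommRing R] [IsLocalRing R]
  [IsNoetherianRing R] [Algebra B R] (hsurj : Function.Surjective (algebraMap B R))
  {E : Type u} [AddCommGroup E] [Module R E] [Module B E] [IsScalarTower B R E]
  (f : ResidueField R →ₗ[R] E) (hf : InjHull.IsInjectiveHull f)

include hsurj hf in
/-- **`Ext^c_B(R, B)` is a canonical module of `R = B/I`**, `B` Gorenstein local,
`c = dim B - dim R`, for any `R`-module structure on it compatible with the `B`-structure. -/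
theorem canonMod_KExt (n : ℕ) (hn : ringKrullDim R = n) (n' : ℕ) (hn' : ringKrullDim B = n')
    (c : ℕ) (hc : n + c = n') [Module R (KExt B R c)] [IsScalarTower B R (KExt B R c)] :
    Nonempty ((KExt B R c →ₗ[R] E) ≃ₗ[R] LocCoh.H (maximalIdeal R) n R) := by
  classical
  haveI : IsLocalHom (algebraMap B R) := IsLocalHom.of_surjective _ hsurj
  haveI : Module.Finite B R := Module.Finite.of_surjective (Algebra.linearMap B R) hsurj
  obtain ⟨EB, _, _, i, hi⟩ := exists_injective_hull B E
  haveI := hi.isInjective
  have hfB := isInjectiveHull_comp hsurj f hf i hi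
  obtain ⟨g, hg⟩ := gor_exists_isInjectiveHull_H_top B n' hn'
  obtain ⟨e, _⟩ := Groth.Agent.S0302.result B (ResidueField B) EB
    (LocCoh.H (maximalIdeal B) n' B) _ hfB g hg
  have eK : (B →ₗ[B] EB) ≃ₗ[B] HH (maximalIdeal B) (ModuleCat.of B B) n' :=
    ((LinearMap.ringLmapEquivSelf B B EB).trans e).trans
      (lcEquiv (maximalIdeal B) (ModuleCat.of B B) n')
  obtain ⟨β⟩ := nonempty_duality n' hn'
    (fun j hj => gor_HH_self_subsingleton_of_lt B n' hn' j hj) EB B eK c n hc R
  have hK : ∀ a : B, algebraMap B R a = 0 → ∀ x : KExt B R c, a • x = 0 := by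
    intro a ha x
    rw [← algebraMap_smul R a x, ha, zero_smul]
  have hmap := map_maximalIdeal_eq hsurj
  obtain ⟨φ, hφ⟩ : ∃ φ : HH (maximalIdeal R) (ModuleCat.of R R) n ≃+
      HH (maximalIdeal B) (ModuleCat.of B R) n,
      ∀ (b : B) (x : HH (maximalIdeal R) (ModuleCat.of R R) n),
        φ (algebraMap B R b • x) = b • φ x := by
    have := Groth.Agent.Lib.Helper20.LCIndep2.exists_addEquiv (R := B) R (maximalIdeal B) R n
    rw [hmap] at this
    exact this
  have hφs : ∀ (b : B) (y : HH (maximalIdeal B) (ModuleCat.of B R) n),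
      φ.symm (b • y) = algebraMap B R b • φ.symm y := by
    intro b y
    rw [AddEquiv.symm_apply_eq, hφ, AddEquiv.apply_symm_apply]
  have hiinj : Function.Injective i := hi.injective
  let α : (KExt B R c →ₗ[R] E) → (KExt B R c →ₗ[B] EB) := fun ψ => i ∘ₗ ψ.restrictScalars B
  have hα_add : ∀ ψ₁ ψ₂, α (ψ₁ + ψ₂) = α ψ₁ + α ψ₂ := by
    intro ψ₁ ψ₂
    apply LinearMap.ext
    intro k
    show i ((ψ₁ + ψ₂) k) = i (ψ₁ k) + i (ψ₂ k)
    rw [LinearMap.add_apply, map_add]
  have hα_smul : ∀ (b : B) ψ, α (algebraMap B R b • ψ) = b • α ψ := by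
    intro b ψ
    apply LinearMap.ext
    intro k
    show i ((algebraMap B R b • ψ) k) = b • i (ψ k)
    rw [LinearMap.smul_apply, algebraMap_smul, map_smul]
  have hα_inj : Function.Injective α := by
    intro ψ₁ ψ₂ h
    apply LinearMap.ext
    intro k
    apply hiinj
    exact LinearMap.congr_fun h k
  have hα_surj : Function.Surjective α := by
    intro θ
    have hθ : ∀ k : KExt B R c, θ k ∈ LinearMap.range i := by
      intro k
      apply mem_range_of_forall_ker_smul hsurj i hf.isInjective hi.toIsEssentialInj
      intro a ha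
      rw [← map_smul, hK a ha k, map_zero]
    let e0 := LinearEquiv.ofInjective i hiinj
    let ψB : KExt B R c →ₗ[B] E :=
      e0.symm.toLinearMap ∘ₗ θ.codRestrict (LinearMap.range i) hθ
    refine ⟨linearMapOfTower hsurj ψB, ?_⟩
    apply LinearMap.ext
    intro k
    show i (e0.symm ⟨θ k, hθ k⟩) = θ k
    have h1 := congrArg Subtype.val (e0.apply_symm_apply ⟨θ k, hθ k⟩)
    rw [LinearEquiv.ofInjective_apply] at h1
    exact h1
  let Φ : (KExt B R c →ₗ[R] E) →ₗ[R] LocCoh.H (maximalIdeal R) n R :=
    { toFun := fun ψ => (lcEquiv (maximalIdeal R) (ModuleCat.of R R) n).symm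
        (φ.symm (β.symm (α ψ)))
      map_add' := fun ψ₁ ψ₂ => by
        rw [hα_add, map_add, map_add, map_add]
      map_smul' := fun r ψ => by
        obtain ⟨b, rfl⟩ := hsurj r
        rw [RingHom.id_apply, hα_smul, map_smul, hφs, map_smul] }
  have hΦ : Function.Bijective Φ := by
    have : (Φ : (KExt B R c →ₗ[R] E) → _) =
        (lcEquiv (maximalIdeal R) (ModuleCat.of R R) n).symm ∘ φ.symm ∘ β.symm ∘ α := rfl
    rw [this]
    exact (lcEquiv (maximalIdeal R) (ModuleCat.of R R) n).symm.bijective.comp
      (φ.symm.bijective.comp (β.symm.bijective.comp ⟨hα_inj, hα_surj⟩))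
  exact ⟨LinearEquiv.ofBijective Φ hΦ⟩


include hsurj in
lemma KExt_smul_eq_zero (c : ℕ) (a : B) (ha : algebraMap B R a = 0) (x : KExt B R c) :
    a • x = 0 := by
  apply ext_smul_eq_zero_of_mem_annihilator_left
  rw [Module.mem_annihilator]
  intro r
  show a • (r : R) = 0
  rw [Algebra.smul_def, ha, zero_mul]

include hsurj in
lemma KExt_finite (c : ℕ) [Module R (KExt B R c)] [IsScalarTower B R (KExt B R c)] :
    Module.Finite R (KExt B R c) := by
  haveI : Module.Finite B R := Module.Finite.of_surjective (Algebra.linearMap B R) hsurj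
  haveI : Module.Finite B (ModuleCat.of B R) := inferInstanceAs (Module.Finite B R)
  haveI : Module.Finite B (ModuleCat.of B B) := inferInstanceAs (Module.Finite B B)
  haveI : Module.Finite B (KExt B R c) := ModuleCat.finite_ext B _ _ c
  exact Module.Finite.of_restrictScalars_finite B R (KExt B R c)

include hsurj hf in
/-- **a quotient of a Gorenstein local ring has a canonical module.** -/
theorem exists_canonMod (n : ℕ) (hn : ringKrullDim R = n) :
    ∃ (K : Type u) (_ : AddCommGroup K) (_ : Module R K), Module.Finite R K ∧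
      Nonempty ((K →ₗ[R] E) ≃ₗ[R] LocCoh.H (maximalIdeal R) n R) := by
  classical
  obtain ⟨n', hn'⟩ := gor_exists_nat_dim B
  have hle : n ≤ n' := by
    have := ringKrullDim_le_of_surjective (algebraMap B R) hsurj
    rw [hn, hn'] at this
    exact_mod_cast this
  obtain ⟨c, hc⟩ : ∃ c, n + c = n' := ⟨n' - n, by omega⟩
  have hK := KExt_smul_eq_zero (R := R) hsurj c
  letI : Module R (KExt B R c) := quotModule hsurj (KExt B R c) hK
  haveI : IsScalarTower B R (KExt B R c) :=
    IsScalarTower.of_algebraMap_smul
      (fun b t => quotModule_algebraMap_smul hsurj (KExt B R c) hK b t)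
  exact ⟨KExt B R c, inferInstance, inferInstance, KExt_finite hsurj c,
    canonMod_KExt hsurj f hf n hn n' hn' c hc⟩

end main

end Groth.Agent.Lib.Helper4.QuotCanon
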