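import Mathlib
import Groth.Agent.Lib.Helper4.QuotCanon
import Groth.Agent.S0340

/-!
# Rees' lemma and Gorenstein rings modulo a regular element (helper4)

For a surjection `A → Q` with kernel generated by a regular element `f` and a finite `Q`-module `N`:
`Ext^i_Q(N, Q) = 0 ↔ Ext^{i+1}_A(N, A) = 0` (`rees`), whence `A` Gorenstein iff `A/(f)` Gorenstein
(`gorenstein_quotient_iff`).
-/

set_option autoImplicit false
set_option linter.style.haveILetI false
set_option linter.unusedSectionVars false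
set_option linter.unusedVariables false
set_option maxHeartbeats 800000

open CategoryTheory Limits Opposite Abelian IsLocalRing

universe u

namespace Groth.Agent.Lib.Helper4.Rees

open Groth.Agent.Lib.Helper4 Groth.Agent.Lib.Helper4.LC Groth.Agent.Lib.Helper4.QuotCanon

section generic

variable {R : Type u} [CommRing R]

lemma subsingleton_ext_of_projective (P Y : ModuleCat.{u} R) [Projective P] (j : ℕ) (hj : 1 ≤ j) :
    Subsingleton (Ext.{u} P Y j) := by
  obtain ⟨k, rfl⟩ : ∃ k, j = k + 1 := ⟨j - 1, by omega⟩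
  exact subsingleton_of_forall_eq 0 (fun e => Ext.eq_zero_of_projective e)

lemma subsingleton_shift {S : ShortComplex (ModuleCat.{u} R)} (hS : S.ShortExact)
    (Y : ModuleCat.{u} R) (j : ℕ)
    (h2 : Subsingleton (Ext.{u} S.X₂ Y j)) (h2' : Subsingleton (Ext.{u} S.X₂ Y (j + 1))) :
    Subsingleton (Ext.{u} S.X₁ Y j) ↔ Subsingleton (Ext.{u} S.X₃ Y (j + 1)) := by
  constructor
  · intro h1
    refine subsingleton_of_forall_eq 0 (fun e => ?_)
    have h0 : (Ext.mk₀ S.g).comp e (zero_add (j + 1)) = 0 := Subsingleton.elim _ _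
    obtain ⟨x₁, hx₁⟩ := Ext.contravariant_sequence_exact₃ hS Y e h0 (add_comm 1 j)
    rw [← hx₁, Subsingleton.elim x₁ 0, Ext.comp_zero]
  · intro h3
    refine subsingleton_of_forall_eq 0 (fun x => ?_)
    have h0 : hS.extClass.comp x (add_comm 1 j) = 0 := Subsingleton.elim _ _
    obtain ⟨x₂, hx₂⟩ := Ext.contravariant_sequence_exact₁ hS Y x (add_comm 1 j) h0
    rw [← hx₂, Subsingleton.elim x₂ 0, Ext.comp_zero]

end generic

section rees

variable {A Q : Type u} [CommRing A] [CommRing Q] [Algebra A Q]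
  (hsurj : Function.Surjective (algebraMap A Q)) (f : A)
  (hker : RingHom.ker (algebraMap A Q) = Ideal.span {f}) (hreg : IsSMulRegular A f)

include hker in
lemma map_f_eq_zero : algebraMap A Q f = 0 := by
  have : f ∈ RingHom.ker (algebraMap A Q) := by
    rw [hker]
    exact Ideal.mem_span_singleton_self f
  exact this

include hker in
lemma fund_exact : Function.Exact (LinearMap.lsmul A A f) (Algebra.linearMap A Q) := by
  intro y
  constructor
  · intro hy
    have h1 : y ∈ RingHom.ker (algebraMap A Q) := RingHom.mem_ker.2 hy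
    rw [hker, Ideal.mem_span_singleton'] at h1
    obtain ⟨a, ha⟩ := h1
    exact ⟨a, by rw [LinearMap.lsmul_apply, smul_eq_mul, mul_comm, ha]⟩
  · rintro ⟨a, rfl⟩
    show algebraMap A Q (f • a) = 0
    rw [smul_eq_mul, map_mul, map_f_eq_zero f hker, zero_mul]

/-- the fundamental sequence `0 → A → A → Q → 0`. -/
noncomputable abbrev fundSes : ShortComplex (ModuleCat.{u} A) :=
  sesOf (LinearMap.lsmul A A f) (Algebra.linearMap A Q) (fund_exact f hker)

include hsurj hreg in
lemma fundSes_shortExact : (fundSes (Q := Q) f hker).ShortExact :=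
  sesOf_shortExact _ _ _ (fun x y h => hreg h) hsurj

/-- the class of the fundamental sequence. -/
noncomputable abbrev eps : Ext.{u} (ModuleCat.of A Q) (ModuleCat.of A A) 1 :=
  (fundSes_shortExact hsurj f hker hreg).extClass

section delta

variable (N : Type u) [AddCommGroup N] [Module A N]

include hreg in
lemma hom_to_A_eq_zero (hN : ∀ n : N, f • n = 0) (ψ : N →ₗ[A] A) : ψ = 0 := by
  apply LinearMap.ext
  intro n
  apply hreg
  show f • ψ n = f • (0 : N →ₗ[A] A) n
  rw [LinearMap.zero_apply, smul_zero, ← map_smul, hN, map_zero]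

lemma delta_eq_zero (hN : ∀ n : N, f • n = 0) (φ : ModuleCat.of A N ⟶ ModuleCat.of A Q)
    (h : (Ext.mk₀ φ).comp (eps hsurj f hker hreg) (zero_add 1) = 0) : φ = 0 := by
  obtain ⟨x₂, hx₂⟩ := Ext.covariant_sequence_exact₃ (ModuleCat.of A N)
    (fundSes_shortExact hsurj f hker hreg) (Ext.mk₀ φ) (zero_add 1) h
  obtain ⟨ψ, rfl⟩ := (Ext.mk₀_bijective _ _).2 x₂
  have hψ : ψ = 0 := by
    apply ModuleCat.hom_ext
    rw [ModuleCat.hom_zero]
    exact hom_to_A_eq_zero f hreg N hN ψ.hom
  rw [hψ, Ext.mk₀_zero, Ext.zero_comp] at hx₂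
  exact (Ext.mk₀_bijective _ _).1 (hx₂.symm.trans (Ext.mk₀_zero _ _).symm)

lemma delta_surjective (hN : ∀ n : N, f • n = 0)
    (e : Ext.{u} (ModuleCat.of A N) (ModuleCat.of A A) 1) :
    ∃ φ : ModuleCat.of A N ⟶ ModuleCat.of A Q,
      (Ext.mk₀ φ).comp (eps hsurj f hker hreg) (zero_add 1) = e := by
  have h1 : (fundSes (Q := Q) f hker).f = f • 𝟙 (ModuleCat.of A A) := by
    apply ModuleCat.hom_ext
    apply LinearMap.ext
    intro x
    rfl
  have h0 : e.comp (Ext.mk₀ (fundSes (Q := Q) f hker).f) (add_zero 1) = 0 := by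
    rw [h1, ← Ext.smul_eq_comp_mk₀]
    apply ext_smul_eq_zero_of_mem_annihilator_left
    rw [Module.mem_annihilator]
    exact hN
  obtain ⟨x₃, hx₃⟩ := Ext.covariant_sequence_exact₁ (ModuleCat.of A N)
    (fundSes_shortExact hsurj f hker hreg) e h0 (zero_add 1)
  obtain ⟨φ, rfl⟩ := (Ext.mk₀_bijective _ _).2 x₃
  exact ⟨φ, hx₃⟩

lemma delta_injective (hN : ∀ n : N, f • n = 0) (φ₁ φ₂ : ModuleCat.of A N ⟶ ModuleCat.of A Q)
    (h : (Ext.mk₀ φ₁).comp (eps hsurj f hker hreg) (zero_add 1) =
      (Ext.mk₀ φ₂).comp (eps hsurj f hker hreg) (zero_add 1)) : φ₁ = φ₂ := by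
  have h0 : (Ext.mk₀ (φ₁ + -φ₂)).comp (eps hsurj f hker hreg) (zero_add 1) = 0 := by
    rw [Ext.mk₀_add, Ext.mk₀_neg, Ext.add_comp, Ext.neg_comp, h, add_neg_cancel]
  have h1 := delta_eq_zero hsurj f hker hreg N hN (φ₁ + -φ₂) h0
  rw [← sub_eq_add_neg, sub_eq_zero] at h1
  exact h1

end delta

section tower

variable (N : Type u) [AddCommGroup N] [Module A N] [Module Q N] [IsScalarTower A Q N]

include hker in
lemma smul_eq_zero_of_tower (n : N) : f • n = 0 := by
  rw [← algebraMap_smul Q f n, map_f_eq_zero f hker, zero_smul]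

include hsurj hker hreg in
theorem claim0 :
    Subsingleton (Ext.{u} (ModuleCat.of Q N) (ModuleCat.of Q Q) 0) ↔
      Subsingleton (Ext.{u} (ModuleCat.of A N) (ModuleCat.of A A) 1) := by
  have hN := smul_eq_zero_of_tower (Q := Q) f hker N
  constructor
  · intro h
    refine subsingleton_of_forall_eq 0 (fun e => ?_)
    obtain ⟨φ, rfl⟩ := delta_surjective hsurj f hker hreg N hN e
    let φQ : ModuleCat.of Q N ⟶ ModuleCat.of Q Q :=
      ModuleCat.ofHom (linearMapOfTower hsurj (φ.hom : N →ₗ[A] Q))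
    have hφQ : Ext.mk₀ φQ = 0 := Subsingleton.elim _ _
    have hφQ0 : φQ = 0 := (Ext.mk₀_bijective _ _).1 (hφQ.trans (Ext.mk₀_zero _ _).symm)
    have hφ0 : φ = 0 := by
      apply ModuleCat.hom_ext
      apply LinearMap.ext
      intro n
      rw [ModuleCat.hom_zero, LinearMap.zero_apply]
      have h2 : φQ.hom n = 0 := by rw [hφQ0, ModuleCat.hom_zero, LinearMap.zero_apply]
      exact h2
    rw [hφ0, Ext.mk₀_zero, Ext.zero_comp]
  · intro h
    refine subsingleton_of_forall_eq 0 (fun e => ?_)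
    obtain ⟨φQ, rfl⟩ := (Ext.mk₀_bijective _ _).2 e
    let φ : ModuleCat.of A N ⟶ ModuleCat.of A Q :=
      ModuleCat.ofHom ((φQ.hom : N →ₗ[Q] Q).restrictScalars A)
    have h0 : (Ext.mk₀ φ).comp (eps hsurj f hker hreg) (zero_add 1) = 0 :=
      @Subsingleton.elim _ h _ _
    have hφ0 := delta_eq_zero hsurj f hker hreg N hN φ h0
    have : φQ = 0 := by
      apply ModuleCat.hom_ext
      apply LinearMap.ext
      intro n
      rw [ModuleCat.hom_zero, LinearMap.zero_apply]
      have h2 : φ.hom n = 0 := by rw [hφ0, ModuleCat.hom_zero, LinearMap.zero_apply]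
      exact h2
    rw [this, Ext.mk₀_zero]

end tower

section ses

variable {N' P N : Type u} [AddCommGroup N'] [Module A N'] [Module Q N'] [IsScalarTower A Q N']
  [AddCommGroup P] [Module A P] [Module Q P] [IsScalarTower A Q P]
  [AddCommGroup N] [Module A N] [Module Q N] [IsScalarTower A Q N]
  (ι : N' →ₗ[Q] P) (g : P →ₗ[Q] N) (hex : Function.Exact ι g)
  (hι : Function.Injective ι) (hg : Function.Surjective g)

noncomputable abbrev sesQ : ShortComplex (ModuleCat.{u} Q) := sesOf ι g hex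

variable (A) in
noncomputable abbrev sesA : ShortComplex (ModuleCat.{u} A) :=
  sesOf (ι.restrictScalars A) (g.restrictScalars A) hex

include hι hg in
lemma sesQ_shortExact : (sesQ ι g hex).ShortExact := sesOf_shortExact _ _ _ hι hg

include hι hg in
variable (A) in
lemma sesA_shortExact : (sesA A ι g hex).ShortExact := sesOf_shortExact _ _ _ hι hg

include hsurj hker hreg hex hι hg in
theorem claim1 (hPQ : Projective (ModuleCat.of Q P))
    (hPA : ∀ j : ℕ, 2 ≤ j → Subsingleton (Ext.{u} (ModuleCat.of A P) (ModuleCat.of A A) j)) :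
    Subsingleton (Ext.{u} (ModuleCat.of Q N) (ModuleCat.of Q Q) 1) ↔
      Subsingleton (Ext.{u} (ModuleCat.of A N) (ModuleCat.of A A) 2) := by
  have hSQ := sesQ_shortExact ι g hex hι hg
  have hSA := sesA_shortExact A ι g hex hι hg
  have hN' := smul_eq_zero_of_tower (Q := Q) f hker N'
  have hP := smul_eq_zero_of_tower (Q := Q) f hker P
  constructor
  · intro h
    refine subsingleton_of_forall_eq 0 (fun e => ?_)
    have h0 : (Ext.mk₀ (sesA A ι g hex).g).comp e (zero_add 2) = 0 :=
      @Subsingleton.elim _ (hPA 2 le_rfl) _ _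
    obtain ⟨x₁, hx₁⟩ := Ext.contravariant_sequence_exact₃ hSA _ e h0 (show 1 + 1 = 2 by norm_num)
    obtain ⟨φ, hφ⟩ := delta_surjective hsurj f hker hreg N' hN' x₁
    let φQ : ModuleCat.of Q N' ⟶ ModuleCat.of Q Q :=
      ModuleCat.ofHom (linearMapOfTower hsurj (φ.hom : N' →ₗ[A] Q))
    have h1 : hSQ.extClass.comp (Ext.mk₀ φQ) (add_zero 1) = 0 := @Subsingleton.elim _ h _ _
    obtain ⟨x₂, hx₂⟩ := Ext.contravariant_sequence_exact₁ hSQ _ (Ext.mk₀ φQ) (add_zero 1) h1
    obtain ⟨ψQ, rfl⟩ := (Ext.mk₀_bijective _ _).2 x₂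
    rw [Ext.mk₀_comp_mk₀] at hx₂
    have hcomp : (sesQ ι g hex).f ≫ ψQ = φQ := (Ext.mk₀_bijective _ _).1 hx₂
    let ψ : ModuleCat.of A P ⟶ ModuleCat.of A Q :=
      ModuleCat.ofHom ((ψQ.hom : P →ₗ[Q] Q).restrictScalars A)
    have hφψ : φ = (sesA A ι g hex).f ≫ ψ := by
      apply ModuleCat.hom_ext
      apply LinearMap.ext
      intro x
      have := congrArg (fun t => t.hom x) hcomp
      exact this.symm
    rw [← hx₁, ← hφ, hφψ, ← Ext.mk₀_comp_mk₀_assoc]
    exact hSA.extClass_comp_assoc _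
  · intro h
    refine subsingleton_of_forall_eq 0 (fun e => ?_)
    have h0 : (Ext.mk₀ (sesQ ι g hex).g).comp e (zero_add 1) = 0 :=
      @Subsingleton.elim _ (subsingleton_ext_of_projective (ModuleCat.of Q P) _ 1 le_rfl) _ _
    obtain ⟨x₁, hx₁⟩ := Ext.contravariant_sequence_exact₃ hSQ _ e h0 (add_zero 1)
    obtain ⟨φQ, rfl⟩ := (Ext.mk₀_bijective _ _).2 x₁
    let φ : ModuleCat.of A N' ⟶ ModuleCat.of A Q :=
      ModuleCat.ofHom ((φQ.hom : N' →ₗ[Q] Q).restrictScalars A)
    have h1 : hSA.extClass.comp ((Ext.mk₀ φ).comp (eps hsurj f hker hreg) (zero_add 1))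
        (show 1 + 1 = 2 by norm_num) = 0 := @Subsingleton.elim _ h _ _
    obtain ⟨y, hy⟩ := Ext.contravariant_sequence_exact₁ hSA _
      ((Ext.mk₀ φ).comp (eps hsurj f hker hreg) (zero_add 1)) (show 1 + 1 = 2 by norm_num) h1
    obtain ⟨ψ, hψ⟩ := delta_surjective hsurj f hker hreg P hP y
    rw [← hψ, Ext.mk₀_comp_mk₀_assoc] at hy
    have hφψ : (sesA A ι g hex).f ≫ ψ = φ := delta_injective hsurj f hker hreg N' hN' _ _ hy
    let ψQ : ModuleCat.of Q P ⟶ ModuleCat.of Q Q :=
      ModuleCat.ofHom (linearMapOfTower hsurj (ψ.hom : P →ₗ[A] Q))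
    have hcomp : φQ = (sesQ ι g hex).f ≫ ψQ := by
      apply ModuleCat.hom_ext
      apply LinearMap.ext
      intro x
      have := congrArg (fun t => t.hom x) hφψ
      exact this.symm
    rw [← hx₁, hcomp, ← Ext.mk₀_comp_mk₀]
    exact hSQ.extClass_comp_assoc _

include hsurj hker hreg hex hι hg in
theorem claimShift (hPQ : Projective (ModuleCat.of Q P))
    (hPA : ∀ j : ℕ, 2 ≤ j → Subsingleton (Ext.{u} (ModuleCat.of A P) (ModuleCat.of A A) j))
    (j : ℕ) (hj : 1 ≤ j)
    (ih : Subsingleton (Ext.{u} (ModuleCat.of Q N') (ModuleCat.of Q Q) j) ↔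
      Subsingleton (Ext.{u} (ModuleCat.of A N') (ModuleCat.of A A) (j + 1))) :
    Subsingleton (Ext.{u} (ModuleCat.of Q N) (ModuleCat.of Q Q) (j + 1)) ↔
      Subsingleton (Ext.{u} (ModuleCat.of A N) (ModuleCat.of A A) (j + 1 + 1)) := by
  have hSQ := sesQ_shortExact ι g hex hι hg
  have hSA := sesA_shortExact A ι g hex hι hg
  have e1 := subsingleton_shift hSQ (ModuleCat.of Q Q) j
    (subsingleton_ext_of_projective (ModuleCat.of Q P) _ j hj)
    (subsingleton_ext_of_projective (ModuleCat.of Q P) _ (j + 1) (by omega))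
  have e2 := subsingleton_shift hSA (ModuleCat.of A A) (j + 1) (hPA (j + 1) (by omega))
    (hPA (j + 1 + 1) (by omega))
  exact e1.symm.trans (ih.trans e2)

end ses

section pi

include hker in
lemma pi_exact (k : ℕ) : Function.Exact (LinearMap.lsmul A (Fin k → A) f)
    ((Algebra.linearMap A Q).compLeft (Fin k)) := by
  intro y
  constructor
  · intro hy
    have h : ∀ i, ∃ a, f • a = y i := fun i => by
      obtain ⟨a, ha⟩ := (fund_exact (Q := Q) f hker (y i)).1 (congrFun hy i)
      exact ⟨a, ha⟩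
    choose a ha using h
    exact ⟨a, funext ha⟩
  · rintro ⟨a, rfl⟩
    funext i
    exact (fund_exact (Q := Q) f hker _).2 ⟨a i, rfl⟩

include hsurj hker hreg in
lemma subsingleton_ext_pi (k : ℕ) (Y : ModuleCat.{u} A) (j : ℕ) (hj : 2 ≤ j) :
    Subsingleton (Ext.{u} (ModuleCat.of A (Fin k → Q)) Y j) := by
  obtain ⟨i, rfl⟩ : ∃ i, j = i + 1 + 1 := ⟨j - 2, by omega⟩
  have hS : (sesOf _ _ (pi_exact (Q := Q) f hker k)).ShortExact :=
    sesOf_shortExact _ _ _ (fun x y h => funext fun t => hreg (congrFun h t))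
      (fun y => ⟨fun t => (hsurj (y t)).choose, funext fun t => (hsurj (y t)).choose_spec⟩)
  haveI : Projective (ModuleCat.of A (Fin k → A)) :=
    (IsProjective.iff_projective (R := A) (Fin k → A)).1 inferInstance
  exact (subsingleton_shift hS Y (i + 1)
    (subsingleton_ext_of_projective (ModuleCat.of A (Fin k → A)) _ _ (by omega))
    (subsingleton_ext_of_projective (ModuleCat.of A (Fin k → A)) _ _ (by omega))).1
    (subsingleton_ext_of_projective (ModuleCat.of A (Fin k → A)) _ _ (by omega))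

end pi

include hsurj hker hreg in
/-- **Rees' lemma** (vanishing form). -/
theorem rees [IsNoetherianRing A] (i : ℕ) :
    ∀ (N : Type u) [AddCommGroup N] [Module A N] [Module Q N] [IsScalarTower A Q N]
      [Module.Finite Q N],
      Subsingleton (Ext.{u} (ModuleCat.of Q N) (ModuleCat.of Q Q) i) ↔
        Subsingleton (Ext.{u} (ModuleCat.of A N) (ModuleCat.of A A) (i + 1)) := by
  haveI : IsNoetherianRing Q := isNoetherianRing_of_surjective A Q (algebraMap A Q) hsurj
  induction i with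
  | zero =>
    intro N _ _ _ _ _
    exact claim0 hsurj f hker hreg N
  | succ i ih =>
    intro N _ _ _ _ _
    obtain ⟨k, g, hg⟩ := Module.Finite.exists_fin' Q N
    have hPQ : Projective (ModuleCat.of Q (Fin k → Q)) :=
      (IsProjective.iff_projective (R := Q) (Fin k → Q)).1 inferInstance
    have hPA := fun j hj => subsingleton_ext_pi hsurj f hker hreg k (ModuleCat.of A A) j hj
    cases i with
    | zero =>
      exact claim1 hsurj f hker hreg (LinearMap.ker g).subtype g
        (LinearMap.exact_subtype_ker_map g) (Submodule.injective_subtype _) hg hPQ hPA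
    | succ j =>
      exact claimShift hsurj f hker hreg (LinearMap.ker g).subtype g
        (LinearMap.exact_subtype_ker_map g) (Submodule.injective_subtype _) hg hPQ hPA
        (j + 1) (by omega) (ih (LinearMap.ker g))

end rees

section final

variable (A : Type u) [CommRing A] [IsLocalRing A] [IsNoetherianRing A] (f : A)

/-- **a Noetherian local ring is Gorenstein iff its quotient by a regular element is.** -/
theorem gorenstein_quotient_iff (hf : f ∈ maximalIdeal A) (hreg : IsSMulRegular A f) :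
    LocCoh.IsGorensteinLocalRing A ↔ LocCoh.IsGorensteinLocalRing (A ⧸ Ideal.span {f}) := by
  classical
  have hIne : Ideal.span {f} ≠ (⊤ : Ideal A) := by
    intro h
    have h1 : Ideal.span {f} ≤ maximalIdeal A := (Ideal.span_singleton_le_iff_mem _).2 hf
    have h2 : (1 : A) ∈ maximalIdeal A := h1 (h ▸ Submodule.mem_top)
    exact (Ideal.ne_top_iff_one _).1 (maximalIdeal.isMaximal A).ne_top h2
  haveI : Nontrivial (A ⧸ Ideal.span {f}) := Ideal.Quotient.nontrivial_iff.mpr hIne
  haveI : IsLocalRing (A ⧸ Ideal.span {f}) :=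
    IsLocalRing.of_surjective' (Ideal.Quotient.mk (Ideal.span {f})) Ideal.Quotient.mk_surjective
  have hsurj : Function.Surjective (algebraMap A (A ⧸ Ideal.span {f})) :=
    Ideal.Quotient.mk_surjective
  have hker : RingHom.ker (algebraMap A (A ⧸ Ideal.span {f})) = Ideal.span {f} := Ideal.mk_ker
  haveI : IsLocalHom (algebraMap A (A ⧸ Ideal.span {f})) := IsLocalHom.of_surjective _ hsurj
  have hbij : Function.Bijective (residueMapₗ (B := A) (R := A ⧸ Ideal.span {f})) := by
    constructor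
    · exact (ResidueField.map (algebraMap A (A ⧸ Ideal.span {f}))).injective
    · intro y
      obtain ⟨q, rfl⟩ := IsLocalRing.residue_surjective y
      obtain ⟨a, rfl⟩ := hsurj q
      exact ⟨IsLocalRing.residue A a, rfl⟩
  let eκ : ModuleCat.of A (ResidueField A) ≅ ModuleCat.of A (ResidueField (A ⧸ Ideal.span {f})) :=
    (LinearEquiv.ofBijective _ hbij).toModuleIso
  have key : ∀ i : ℕ,
      Subsingleton (Ext.{u} (ModuleCat.of (A ⧸ Ideal.span {f}) (ResidueField (A ⧸ Ideal.span {f})))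
        (ModuleCat.of (A ⧸ Ideal.span {f}) (A ⧸ Ideal.span {f})) i) ↔
      Subsingleton (Ext.{u} (ModuleCat.of A (ResidueField A)) (ModuleCat.of A A) (i + 1)) := by
    intro i
    have h1 := rees hsurj f hker hreg i (ResidueField (A ⧸ Ideal.span {f}))
    exact h1.trans ⟨fun h => subsingleton_ext_of_iso_left eκ.symm (i + 1) h,
      fun h => subsingleton_ext_of_iso_left eκ (i + 1) h⟩
  rw [Groth.Agent.S0340.result A, Groth.Agent.S0340.result (A ⧸ Ideal.span {f})]
  constructor
  · rintro ⟨n, hn⟩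
    exact ⟨n, fun i hi => (key i).2 (hn (i + 1) (by omega))⟩
  · rintro ⟨n, hn⟩
    refine ⟨n + 1, fun i hi => ?_⟩
    obtain ⟨j, rfl⟩ : ∃ j, i = j + 1 := ⟨i - 1, by omega⟩
    exact (key j).1 (hn j (by omega))

end final

end Groth.Agent.Lib.Helper4.Rees
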