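import Mathlib
import Groth.Agent.S0343
import Groth.Agent.S0308
import Groth.Agent.S0309
import Groth.Agent.S0299
import Groth.Agent.Lib.Helper4.GorTop
import Groth.Agent.Lib.Helper4.GorStalk
import Groth.Agent.Lib.Helper4.FlatRing
import Groth.Agent.Lib.Helper1.InjHullLib2

/-!
# The Gorenstein property along flat local homomorphisms (helper4)

For a flat local homomorphism `A → B` of Noetherian local rings and a surjection `π : B → F` with
kernel `𝔪_A B`: `B` is Gorenstein iff `A` and `F` are (`main`).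

The proof reduces (via `S0343`, one regular element at a time) to the case
`depth A = depth F = 0`, where everything is Artinian and Gorenstein means
"the socle is nonzero and cyclic" (`Type1`).
-/

set_option autoImplicit false
set_option linter.style.haveILetI false
set_option linter.unusedSectionVars false
set_option linter.unusedVariables false
set_option maxHeartbeats 800000

open CategoryTheory Abelian IsLocalRing

universe u

namespace Groth.Agent.Lib.Helper4.GorFlat

section arith

lemma enat_zero_of_add_eq (a b : ℕ∞) (ha : a ≠ ⊤) (h : a = a + b) : b = 0 := by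
  obtain ⟨n, rfl⟩ := ENat.ne_top_iff_exists.1 ha
  induction b with
  | top =>
    exfalso
    rw [add_top] at h
    exact ENat.coe_ne_top n h
  | coe m =>
    have h1 : n = n + m := by exact_mod_cast h
    have h2 : m = 0 := by omega
    rw [h2]
    rfl

lemma dim_step (x y : WithBot ℕ∞) (N : ℕ) (h0 : 0 ≤ x) (h1 : x + 1 ≤ y)
    (h2 : y ≤ (N : WithBot ℕ∞)) : ∃ n : ℕ, n < N ∧ x ≤ (n : WithBot ℕ∞) := by
  have h3 : x + 1 ≤ (N : WithBot ℕ∞) := h1.trans h2
  induction x with
  | bot => exact absurd h0 (not_le.mpr (WithBot.bot_lt_coe (0 : ℕ∞)))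
  | coe a =>
    induction a with
    | top =>
      exfalso
      have h4 : (((⊤ : ℕ∞) + 1 : ℕ∞) : WithBot ℕ∞) ≤ (((N : ℕ) : ℕ∞) : WithBot ℕ∞) := by
        exact_mod_cast h3
      rw [WithBot.coe_le_coe, top_add] at h4
      exact absurd h4 (not_le.mpr (ENat.natCast_lt_top N))
    | coe a =>
      have h4 : ((a + 1 : ℕ) : WithBot ℕ∞) ≤ ((N : ℕ) : WithBot ℕ∞) := by exact_mod_cast h3
      have h5 : a + 1 ≤ N := by exact_mod_cast h4
      exact ⟨a, by omega, by exact_mod_cast le_refl (a : WithBot ℕ∞)⟩

end arith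

section soc

variable (R : Type u) [CommRing R] [IsLocalRing R]

/-- `z` lies in the socle of the local ring `R`. -/
def IsSoc (z : R) : Prop := ∀ x ∈ maximalIdeal R, x * z = 0

/-- The socle of `R` is nonzero and cyclic. -/
def Type1 : Prop := ∃ z : R, z ≠ 0 ∧ IsSoc R z ∧ ∀ w : R, IsSoc R w → ∃ c : R, w = c * z

variable {R}

lemma mem_maximalIdeal_of_mul_eq_zero {z c : R} (hz0 : z ≠ 0) (h : c * z = 0) :
    c ∈ maximalIdeal R := by
  by_contra hc
  have hu : IsUnit c := IsLocalRing.notMem_maximalIdeal.mp hc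
  exact hz0 (hu.mul_right_eq_zero.mp h)

variable (R)

/-- The linear map `R ⧸ 𝔪 → R` attached to a socle element. -/
noncomputable def socMap (z : R) (hz : IsSoc R z) : (R ⧸ maximalIdeal R) →ₗ[R] R :=
  Submodule.liftQ (maximalIdeal R) (LinearMap.toSpanSingleton R R z) (by
    intro t ht
    rw [LinearMap.mem_ker, LinearMap.toSpanSingleton_apply, smul_eq_mul]
    exact hz t ht)

lemma socMap_one (z : R) (hz : IsSoc R z) : socMap R z hz ((maximalIdeal R).mkQ 1) = z := by
  unfold socMap
  rw [Submodule.mkQ_apply, Submodule.liftQ_apply, LinearMap.toSpanSingleton_apply, one_smul]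

end soc

section gor

variable (R : Type u) [CommRing R] [IsLocalRing R] [IsNoetherianRing R]

/-- `Ext^0(k, R) ≃ Hom(k, R)`. -/
noncomputable def ext0Equiv :
    Ext.{u} (ModuleCat.of R (R ⧸ maximalIdeal R)) (ModuleCat.of R R) 0 ≃ₗ[R]
      ((R ⧸ maximalIdeal R) →ₗ[R] R) :=
  (Ext.linearEquiv₀ (R := R)).trans (ModuleCat.homLinearEquiv (S := R)
    (M := ModuleCat.of R (R ⧸ maximalIdeal R)) (N := ModuleCat.of R R))

/-- A Gorenstein local ring with a nonzero socle element has dimension zero. -/
theorem dim_eq_zero_of_soc (hG : LocCoh.IsGorensteinLocalRing R) (z : R) (hz0 : z ≠ 0)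
    (hz : IsSoc R z) : ringKrullDim R = 0 := by
  haveI := hG
  obtain ⟨n, hn⟩ := StalkDual.gor_exists_nat_dim R
  rcases Nat.eq_zero_or_pos n with h0 | hpos
  · rw [hn, h0, Nat.cast_zero]
  · exfalso
    haveI hsub : Subsingleton
        (Ext.{u} (ModuleCat.of R (R ⧸ maximalIdeal R)) (ModuleCat.of R R) 0) :=
      LC.gor_ext_residue_subsingleton R n hn 0 (by omega)
    haveI hsub' : Subsingleton ((R ⧸ maximalIdeal R) →ₗ[R] R) :=
      (ext0Equiv R).symm.injective.subsingleton
    have h1 := socMap_one R z hz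
    rw [Subsingleton.elim (socMap R z hz) 0, LinearMap.zero_apply] at h1
    exact hz0 h1.symm

/-- A Gorenstein local ring of dimension zero has a nonzero cyclic socle. -/
theorem type1_of_gor (hG : LocCoh.IsGorensteinLocalRing R) (h0 : ringKrullDim R = 0) :
    Type1 R := by
  haveI := hG
  have hlen : Module.length R
      (Ext.{u} (ModuleCat.of R (R ⧸ maximalIdeal R)) (ModuleCat.of R R) 0) = 1 :=
    LC.gor_length_ext_residue R 0 (by rw [h0, Nat.cast_zero])
  rw [(ext0Equiv R).length_eq] at hlen
  haveI hs : IsSimpleModule R ((R ⧸ maximalIdeal R) →ₗ[R] R) := Module.length_eq_one_iff.1 hlen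
  haveI := IsSimpleModule.nontrivial R ((R ⧸ maximalIdeal R) →ₗ[R] R)
  obtain ⟨g, hg⟩ := exists_ne (0 : (R ⧸ maximalIdeal R) →ₗ[R] R)
  have hg1 : g ((maximalIdeal R).mkQ 1) ≠ 0 := by
    intro h
    apply hg
    apply Submodule.linearMap_qext
    apply LinearMap.ext_ring
    rw [LinearMap.comp_apply, LinearMap.comp_apply, LinearMap.zero_apply]
    exact h
  have hsoc : IsSoc R (g ((maximalIdeal R).mkQ 1)) := by
    intro t ht
    rw [← smul_eq_mul, ← LinearMap.map_smul g t, ← LinearMap.map_smul (maximalIdeal R).mkQ t,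
      smul_eq_mul, mul_one]
    have h1 : (maximalIdeal R).mkQ t = 0 := by
      rw [Submodule.mkQ_apply]
      exact (Submodule.Quotient.mk_eq_zero _).mpr ht
    rw [h1, map_zero]
  refine ⟨_, hg1, hsoc, ?_⟩
  intro w hw
  obtain ⟨c, hc⟩ := IsSimpleModule.toSpanSingleton_surjective R hg (socMap R w hw)
  refine ⟨c, ?_⟩
  have h2 := LinearMap.congr_fun hc ((maximalIdeal R).mkQ 1)
  rw [LinearMap.toSpanSingleton_apply, LinearMap.smul_apply, socMap_one] at h2
  rw [← h2, smul_eq_mul]

/-- Noetherian local ring in which no element of the maximal ideal is regular has a nonzero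
socle element. -/
theorem exists_soc (h : ∀ x ∈ maximalIdeal R, ¬ IsSMulRegular R x) :
    ∃ z : R, z ≠ 0 ∧ IsSoc R z := by
  obtain ⟨p, hp, hle⟩ :=
    (forall_not_isSMulRegular_iff_exists_le_associatedPrime (M := R) (maximalIdeal R)).mp h
  obtain ⟨hprime, z, hz⟩ := isAssociatedPrime_iff.mp hp
  have hpe : maximalIdeal R = p :=
    (IsLocalRing.maximalIdeal.isMaximal R).eq_of_le hprime.ne_top hle
  refine ⟨z, ?_, ?_⟩
  · rintro rfl
    apply hprime.ne_top
    rw [hz, Ideal.eq_top_iff_one, Submodule.mem_colon_singleton, smul_zero]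
    exact Submodule.zero_mem _
  · intro t ht
    rw [hpe, hz, Submodule.mem_colon_singleton, Submodule.mem_bot, smul_eq_mul] at ht
    exact ht

theorem artinian_of_dim_le_zero (h : ringKrullDim R ≤ 0) : IsArtinianRing R :=
  isArtinianRing_iff_isNoetherianRing_krullDimLE_zero.mpr
    ⟨inferInstance, Ring.krullDimLE_iff.mpr (by rw [Nat.cast_zero]; exact h)⟩

end gor

section artin

variable {R : Type u} [CommRing R] [IsLocalRing R]

lemma exists_soc_mul : ∀ (N : ℕ) (x : R), x ≠ 0 →
    (∀ t ∈ (maximalIdeal R) ^ N, t * x = 0) → ∃ c : R, c * x ≠ 0 ∧ IsSoc R (c * x) := by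
  intro N
  induction N with
  | zero =>
    intro x hx h
    exfalso
    apply hx
    have h1 := h 1 (by rw [pow_zero, Ideal.one_eq_top]; exact Submodule.mem_top)
    rwa [one_mul] at h1
  | succ N ih =>
    intro x hx h
    by_cases hs : IsSoc R x
    · exact ⟨1, by rwa [one_mul], by rwa [one_mul]⟩
    · unfold IsSoc at hs
      push Not at hs
      obtain ⟨t, ht, htx⟩ := hs
      obtain ⟨c, hc1, hc2⟩ := ih (t * x) htx (fun s hs' => by
        rw [← mul_assoc]
        apply h
        rw [pow_succ]
        exact Ideal.mul_mem_mul hs' ht)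
      refine ⟨c * t, ?_, ?_⟩
      · rwa [mul_assoc]
      · rwa [mul_assoc]

variable (R)

/-- An Artinian local ring with nonzero cyclic socle is Gorenstein (self-injective). -/
theorem gor_of_type1 [IsArtinianRing R] (h : Type1 R) : LocCoh.IsGorensteinLocalRing R := by
  obtain ⟨z, hz0, hzsoc, hzgen⟩ := h
  obtain ⟨E, _, _, f, hf⟩ := Groth.Agent.S0299.result R (ResidueField R)
  have hlenE : Module.length R E = Module.length R R := by
    rw [← Groth.Agent.S0308.result R E f hf R]
    exact (LinearMap.ringLmapEquivSelf R R E).symm.length_eq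
  obtain ⟨e, he⟩ : ∃ e : E, z • e ≠ 0 := by
    by_contra hcon
    push Not at hcon
    have hinj := (Groth.Agent.S0309.result R E f hf R).1
    apply hz0
    apply hinj
    rw [map_zero]
    refine LinearMap.ext fun ψ => ?_
    show ψ z = 0
    have h1 : ψ z = z • ψ 1 := by rw [← LinearMap.map_smul ψ z 1, smul_eq_mul, mul_one]
    rw [h1]
    exact hcon _
  have hfl : IsFiniteLength R R := (isArtinianRing_iff_isFiniteLength R).mp inferInstance
  have hm : ∃ N : ℕ, (maximalIdeal R) ^ N = ⊥ := by
    have h1 := IsArtinianRing.isNilpotent_jacobson_bot (R := R)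
    rw [IsLocalRing.jacobson_eq_maximalIdeal ⊥ bot_ne_top] at h1
    obtain ⟨N, hN⟩ := h1
    exact ⟨N, by rw [hN, Ideal.zero_eq_bot]⟩
  have hφ : Function.Injective (LinearMap.toSpanSingleton R E e) := by
    rw [injective_iff_map_eq_zero]
    intro x hx
    by_contra hx0
    obtain ⟨N, hN⟩ := hm
    obtain ⟨c, hc1, hc2⟩ := exists_soc_mul N x hx0 (fun t ht => by
      rw [hN] at ht
      rw [(Submodule.mem_bot R).mp ht, zero_mul])
    obtain ⟨d, hd⟩ := hzgen (c * x) hc2
    have hdu : IsUnit d := by
      by_contra hnu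
      apply hc1
      rw [hd]
      exact hzsoc d ((IsLocalRing.mem_maximalIdeal d).mpr hnu)
    obtain ⟨u, rfl⟩ := hdu
    apply he
    have hz' : z = ↑u⁻¹ * (c * x) := by rw [hd, ← mul_assoc, Units.inv_mul, one_mul]
    have hxe : x • e = 0 := by rwa [LinearMap.toSpanSingleton_apply] at hx
    rw [hz', mul_smul, mul_smul, hxe, smul_zero, smul_zero]
  have hsurj : Function.Surjective (LinearMap.toSpanSingleton R E e) := by
    have h1 := Module.length_eq_add_of_exact (LinearMap.toSpanSingleton R E e)
      (LinearMap.range (LinearMap.toSpanSingleton R E e)).mkQ hφ (Submodule.mkQ_surjective _)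
      (LinearMap.exact_map_mkQ_range _)
    rw [hlenE] at h1
    have h3 := enat_zero_of_add_eq _ _ (Module.length_ne_top_iff.2 hfl) h1
    rw [Module.length_eq_zero_iff, Submodule.Quotient.subsingleton_iff] at h3
    exact LinearMap.range_eq_top.mp h3
  have e' : R ≃ₗ[R] E := LinearEquiv.ofBijective (LinearMap.toSpanSingleton R E e) ⟨hφ, hsurj⟩
  haveI : Module.Injective R E := hf.isInjective
  haveI : Module.Injective R R :=
    Groth.Agent.Lib.Helper1.InjHullLib.injective_of_linearEquiv e'.symm
  haveI : IsNoetherianRing R := inferInstance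
  haveI : Injective (ModuleCat.of R R) := Module.injective_object_of_injective_module R R
  refine { exists_hasInjectiveDimensionLT := ⟨1, ?_⟩ }
  exact injective_iff_hasInjectiveDimensionLT_one.mp inferInstance

end artin

section flat

variable {A B : Type u} [CommRing A] [CommRing B] [IsLocalRing A] [Algebra A B] [Module.Flat A B]

/-- Flatness: the annihilator of `𝔪_A B` in `B` is generated by the socle of `A`. -/
theorem mem_map_soc [IsNoetherianRing A] (b : B)
    (hb : ∀ t ∈ maximalIdeal A, algebraMap A B t * b = 0) :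
    ∃ (k : ℕ) (α : Fin k → A) (y : Fin k → B), (∀ j, IsSoc A (α j)) ∧
      b = ∑ j, algebraMap A B (α j) * y j := by
  have h0 : (LinearMap.toSpanSingleton A B b) ∘ₗ (maximalIdeal A).subtype = 0 := by
    refine LinearMap.ext fun t => ?_
    rw [LinearMap.comp_apply, Submodule.subtype_apply, LinearMap.toSpanSingleton_apply,
      LinearMap.zero_apply, Algebra.smul_def]
    exact hb t.1 t.2
  obtain ⟨k, a, y, hxy, haf⟩ := Module.Flat.exists_factorization_of_comp_eq_zero_of_free h0
  refine ⟨k, fun j => a 1 j, fun j => y (Finsupp.single j 1), ?_, ?_⟩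
  · intro j t ht
    have h1 : a t = 0 := by
      have h2 := LinearMap.congr_fun haf ⟨t, ht⟩
      rwa [LinearMap.comp_apply, Submodule.subtype_apply, LinearMap.zero_apply] at h2
    have h2 : a t = t • a 1 := by rw [← LinearMap.map_smul a t 1, smul_eq_mul, mul_one]
    rw [h2] at h1
    have h3 := DFunLike.congr_fun h1 j
    rwa [Finsupp.smul_apply, smul_eq_mul, Finsupp.zero_apply] at h3
  · have h2 : a 1 = ∑ j, (a 1 j) • (Finsupp.single j (1 : A) : Fin k →₀ A) := by
      conv_lhs => rw [← Finsupp.sum_single (a 1)]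
      rw [Finsupp.sum_fintype _ _ (fun i => Finsupp.single_zero i)]
      refine Finset.sum_congr rfl fun j _ => ?_
      rw [Finsupp.smul_single_one]
    have h3 : b = y (a 1) := by
      have h4 := LinearMap.congr_fun hxy 1
      rwa [LinearMap.toSpanSingleton_apply, one_smul, LinearMap.comp_apply] at h4
    rw [h3]
    conv_lhs => rw [h2]
    rw [map_sum]
    refine Finset.sum_congr rfl fun j _ => ?_
    rw [LinearMap.map_smul, Algebra.smul_def]

/-- Flatness: relations with coefficients `k`-linearly independent have entries in `𝔪_A B`. -/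
theorem mem_map_of_sum_eq_zero {ι : Type} [Fintype ι] (a : ι → A)
    (hind : ∀ c : ι → A, ∑ i, a i * c i = 0 → ∀ i, c i ∈ maximalIdeal A)
    (b : ι → B) (h : ∑ i, algebraMap A B (a i) * b i = 0) :
    ∀ i, b i ∈ (maximalIdeal A).map (algebraMap A B) := by
  have h' : ∑ i, a i • b i = 0 := by
    rw [← h]
    exact Finset.sum_congr rfl fun i _ => Algebra.smul_def _ _
  obtain ⟨k, α, y, hb, hα⟩ := Module.Flat.isTrivialRelation_of_sum_smul_eq_zero (R := A) (M := B) h'
  intro i
  rw [hb i]
  refine Ideal.sum_mem _ fun j _ => ?_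
  rw [Algebra.smul_def]
  exact Ideal.mul_mem_right _ _ (Ideal.mem_map_of_mem _ (hind (fun i => α i j) (hα j) i))

theorem mem_map_of_mul_eq_zero (a : A) (ha0 : a ≠ 0) (b : B)
    (h : algebraMap A B a * b = 0) : b ∈ (maximalIdeal A).map (algebraMap A B) := by
  refine mem_map_of_sum_eq_zero (ι := Unit) (fun _ => a) ?_ (fun _ => b) ?_ ()
  · intro c hc i
    rw [Fintype.sum_unique] at hc
    exact mem_maximalIdeal_of_mul_eq_zero ha0 (by rw [mul_comm]; exact hc)
  · rw [Fintype.sum_unique]
    exact h

lemma mul_map_eq_zero {a : A} (ha : IsSoc A a) {t : B}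
    (ht : t ∈ (maximalIdeal A).map (algebraMap A B)) : algebraMap A B a * t = 0 := by
  have hle : (maximalIdeal A).map (algebraMap A B) ≤
      LinearMap.ker (LinearMap.mulLeft B (algebraMap A B a)) := by
    rw [Ideal.map_le_iff_le_comap]
    intro s hs
    rw [Ideal.mem_comap]
    show (LinearMap.mulLeft B (algebraMap A B a)) (algebraMap A B s) = 0
    rw [LinearMap.mulLeft_apply, ← map_mul, mul_comm, ha s hs, map_zero]
  have h1 := hle ht
  rw [LinearMap.mem_ker, LinearMap.mulLeft_apply] at h1
  exact h1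

end flat

section G2

variable {A B F : Type u} [CommRing A] [CommRing B] [CommRing F] [IsLocalRing A] [IsLocalRing B]
  [IsLocalRing F] [IsNoetherianRing A] [Algebra A B] [IsLocalHom (algebraMap A B)]
  [Module.Flat A B] (π : B →+* F) (hπ : Function.Surjective π)
  (hker : RingHom.ker π = (maximalIdeal A).map (algebraMap A B))

include hπ hker

lemma soc_mul {a : A} (ha : IsSoc A a) {f : B} (hf : IsSoc F (π f)) :
    IsSoc B (algebraMap A B a * f) := by
  haveI := IsLocalHom.of_surjective π hπ
  intro y hy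
  have h1 : y * f ∈ RingHom.ker π := by
    rw [RingHom.mem_ker, map_mul]
    exact hf (π y) (map_nonunit π y hy)
  rw [hker] at h1
  rw [mul_left_comm]
  exact mul_map_eq_zero ha h1

lemma mul_ne_zero_of {a : A} (ha0 : a ≠ 0) {f : B} (hf : π f ≠ 0) :
    algebraMap A B a * f ≠ 0 := by
  intro h
  apply hf
  have h1 := mem_map_of_mul_eq_zero a ha0 f h
  rw [← hker] at h1
  exact (RingHom.mem_ker).mp h1

/-- If `A` and `F` have nonzero cyclic socles, so does `B`. -/
theorem type1_of_type1 (hA : Type1 A) (hF : Type1 F) : Type1 B := by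
  haveI := IsLocalHom.of_surjective π hπ
  obtain ⟨a, ha0, hasoc, hagen⟩ := hA
  obtain ⟨f', hf0, hfsoc, hfgen⟩ := hF
  obtain ⟨f, rfl⟩ := hπ f'
  refine ⟨algebraMap A B a * f, mul_ne_zero_of π hπ hker ha0 hf0,
    soc_mul π hπ hker hasoc hfsoc, ?_⟩
  intro w hw
  obtain ⟨k, α, y, hα, hwy⟩ := mem_map_soc w
    (fun t ht => hw _ (map_nonunit (algebraMap A B) t ht))
  choose c hc using fun j => hagen (α j) (hα j)
  obtain ⟨b, hwb⟩ : ∃ b : B, w = algebraMap A B a * b := by
    refine ⟨∑ j, algebraMap A B (c j) * y j, ?_⟩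
    rw [hwy, Finset.mul_sum]
    refine Finset.sum_congr rfl fun j _ => ?_
    rw [hc j, map_mul]
    ring
  have hbsoc : IsSoc F (π b) := by
    intro t ht
    obtain ⟨y', rfl⟩ := hπ t
    have hy' : y' ∈ maximalIdeal B := by
      have h1 : y' ∈ (maximalIdeal F).comap π := ht
      rwa [IsLocalRing.maximalIdeal_comap π] at h1
    have h0 : algebraMap A B a * (y' * b) = 0 := by
      rw [mul_left_comm, ← hwb]
      exact hw y' hy'
    have h1 := mem_map_of_mul_eq_zero a ha0 (y' * b) h0
    rw [← hker, RingHom.mem_ker, map_mul] at h1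
    exact h1
  obtain ⟨c', hc'⟩ := hfgen (π b) hbsoc
  obtain ⟨d, rfl⟩ := hπ c'
  refine ⟨d, ?_⟩
  have hk : b - d * f ∈ (maximalIdeal A).map (algebraMap A B) := by
    rw [← hker, RingHom.mem_ker, map_sub, map_mul, hc', sub_self]
  have h2 := mul_map_eq_zero hasoc hk
  rw [mul_sub, sub_eq_zero] at h2
  rw [hwb, h2]
  ring

/-- If `B` has a nonzero cyclic socle and `A`, `F` have nonzero socle elements, then `A` and `F`
have nonzero cyclic socles. -/
theorem type1_of_type1_top (hB : Type1 B) (a : A) (ha0 : a ≠ 0) (hasoc : IsSoc A a)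
    (f : B) (hf0 : π f ≠ 0) (hfsoc : IsSoc F (π f)) : Type1 A ∧ Type1 F := by
  haveI := IsLocalHom.of_surjective π hπ
  obtain ⟨z, hz0, hzsoc, hzgen⟩ := hB
  have hz'0 := mul_ne_zero_of π hπ hker ha0 hf0
  have hz'soc := soc_mul π hπ hker hasoc hfsoc
  have hgen' : ∀ w : B, IsSoc B w → ∃ d : B, w = d * (algebraMap A B a * f) := by
    intro w hw
    obtain ⟨c, hc⟩ := hzgen _ hz'soc
    have hcu : IsUnit c := by
      by_contra hnu
      apply hz'0
      rw [hc]
      exact hzsoc c ((IsLocalRing.mem_maximalIdeal c).mpr hnu)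
    obtain ⟨u, rfl⟩ := hcu
    obtain ⟨d, hd⟩ := hzgen w hw
    refine ⟨d * ↑u⁻¹, ?_⟩
    rw [hc, hd, mul_assoc, ← mul_assoc (↑u⁻¹ : B), Units.inv_mul, one_mul]
  constructor
  · refine ⟨a, ha0, hasoc, ?_⟩
    intro a' ha'
    by_contra hcon
    push Not at hcon
    obtain ⟨d, hd⟩ := hgen' _ (soc_mul π hπ hker ha' hfsoc)
    have hrel : ∑ i : Bool, algebraMap A B ((fun i : Bool => cond i a' a) i) *
        ((fun i : Bool => cond i f (-(d * f))) i) = 0 := by
      rw [Fintype.sum_bool]
      simp only [cond_true, cond_false]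
      rw [hd]
      ring
    have hmem := mem_map_of_sum_eq_zero (fun i : Bool => cond i a' a) ?_
      (fun i : Bool => cond i f (-(d * f))) hrel true
    · apply hf0
      simp only [cond_true] at hmem
      rw [← hker, RingHom.mem_ker] at hmem
      exact hmem
    · intro c hc
      rw [Fintype.sum_bool] at hc
      simp only [cond_true, cond_false] at hc
      have h0 : c true ∈ maximalIdeal A := by
        by_contra hnm
        obtain ⟨u, hu⟩ := IsLocalRing.notMem_maximalIdeal.mp hnm
        apply hcon (-(↑u⁻¹ * c false))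
        have h1 : a' * ↑u = -(a * c false) := by
          rw [hu]
          exact eq_neg_of_add_eq_zero_left hc
        calc a' = a' * ↑u * ↑u⁻¹ := by rw [mul_assoc, Units.mul_inv, mul_one]
          _ = -(↑u⁻¹ * c false) * a := by rw [h1]; ring
      have h1 : c false ∈ maximalIdeal A := by
        have h2 : a' * c true = 0 := by
          rw [mul_comm]
          exact ha' _ h0
        rw [h2, zero_add] at hc
        exact mem_maximalIdeal_of_mul_eq_zero ha0 (by rwa [mul_comm] at hc)
      intro i
      cases i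
      · exact h1
      · exact h0
  · refine ⟨π f, hf0, hfsoc, ?_⟩
    intro g' hg'
    obtain ⟨g, rfl⟩ := hπ g'
    obtain ⟨d, hd⟩ := hgen' _ (soc_mul π hπ hker hasoc hg')
    refine ⟨π d, ?_⟩
    have h0 : algebraMap A B a * (g - d * f) = 0 := by
      rw [mul_sub, hd]
      ring
    have h1 := mem_map_of_mul_eq_zero a ha0 _ h0
    rw [← hker, RingHom.mem_ker, map_sub, map_mul, sub_eq_zero] at h1
    exact h1

end G2

section transport

lemma gor_congr_ideal {R : Type u} [CommRing R] {I J : Ideal R} (h : I = J) :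
    LocCoh.IsGorensteinLocalRing (R ⧸ I) ↔ LocCoh.IsGorensteinLocalRing (R ⧸ J) := by
  subst h
  rfl

lemma dim_congr_ideal {R : Type u} [CommRing R] {I J : Ideal R} (h : I = J) :
    ringKrullDim (R ⧸ I) = ringKrullDim (R ⧸ J) := by
  subst h
  rfl

lemma mem_nzd {R : Type u} [CommRing R] {x : R} (h : IsSMulRegular R x) :
    x ∈ nonZeroDivisors R := by
  have key : ∀ y, x * y = 0 → y = 0 := fun y hy =>
    h (show x • y = x • (0 : R) by rw [smul_eq_mul, hy, smul_zero])
  exact mem_nonZeroDivisors_iff.2 ⟨key, fun y hy => key y (by rwa [mul_comm])⟩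

end transport

section steps

variable {A B F : Type u} [CommRing A] [CommRing B] [CommRing F] [IsLocalRing A]
  [IsNoetherianRing A] [IsLocalRing B] [IsNoetherianRing B] [Algebra A B]
  [IsLocalHom (algebraMap A B)] [Module.Flat A B] (π : B →+* F) (hπ : Function.Surjective π)
  (hker : RingHom.ker π = (maximalIdeal A).map (algebraMap A B))

include hπ hker

/-- `dim B = dim A + dim F`. -/
theorem dim_eq : ringKrullDim B = ringKrullDim A + ringKrullDim F := by
  have hne : (maximalIdeal A).map (algebraMap A B) ≠ ⊤ :=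
    ne_top_of_le_ne_top (IsLocalRing.maximalIdeal.isMaximal B).ne_top
      (IsLocalRing.map_maximalIdeal_le (algebraMap A B))
  haveI : Nontrivial (B ⧸ (maximalIdeal A).map (algebraMap A B)) :=
    Ideal.Quotient.nontrivial_iff.mpr hne
  haveI : IsLocalRing (B ⧸ (maximalIdeal A).map (algebraMap A B)) :=
    IsLocalRing.of_surjective' (Ideal.Quotient.mk _) Ideal.Quotient.mk_surjective
  have e : (B ⧸ (maximalIdeal A).map (algebraMap A B)) ≃+* F :=
    (Ideal.quotEquivOfEq hker.symm).trans (RingHom.quotientKerEquivOfSurjective hπ)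
  rw [FlatRing.dim_eq_add_fibRing A B, ringKrullDim_eq_of_ringEquiv e]

/-- Reduction modulo a proper ideal of `A`. -/
theorem step_quot (I : Ideal A) (hIne : I ≠ ⊤)
    (ih : ∀ (A' B' : Type u) [CommRing A'] [CommRing B'] [IsLocalRing A'] [IsNoetherianRing A']
      [IsLocalRing B'] [IsNoetherianRing B'] [Algebra A' B'] [IsLocalHom (algebraMap A' B')]
      [Module.Flat A' B'] (π' : B' →+* F) (_ : Function.Surjective π')
      (_ : RingHom.ker π' = (maximalIdeal A').map (algebraMap A' B')),
      ringKrullDim B' + 1 ≤ ringKrullDim B →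
      (LocCoh.IsGorensteinLocalRing B' ↔
        LocCoh.IsGorensteinLocalRing A' ∧ LocCoh.IsGorensteinLocalRing F))
    (hd : ringKrullDim (B ⧸ I.map (algebraMap A B)) + 1 ≤ ringKrullDim B) :
    LocCoh.IsGorensteinLocalRing (B ⧸ I.map (algebraMap A B)) ↔
      LocCoh.IsGorensteinLocalRing (A ⧸ I) ∧ LocCoh.IsGorensteinLocalRing F := by
  have hIle : I ≤ maximalIdeal A := IsLocalRing.le_maximalIdeal hIne
  have hIBne : I.map (algebraMap A B) ≠ ⊤ :=
    ne_top_of_le_ne_top (IsLocalRing.maximalIdeal.isMaximal B).ne_top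
      ((Ideal.map_mono hIle).trans (IsLocalRing.map_maximalIdeal_le (algebraMap A B)))
  haveI : Nontrivial (A ⧸ I) := Ideal.Quotient.nontrivial_iff.mpr hIne
  haveI : Nontrivial (B ⧸ I.map (algebraMap A B)) := Ideal.Quotient.nontrivial_iff.mpr hIBne
  haveI : IsLocalRing (A ⧸ I) :=
    IsLocalRing.of_surjective' (Ideal.Quotient.mk I) Ideal.Quotient.mk_surjective
  haveI : IsLocalRing (B ⧸ I.map (algebraMap A B)) :=
    IsLocalRing.of_surjective' (Ideal.Quotient.mk _) Ideal.Quotient.mk_surjective
  haveI hflat : Module.Flat (A ⧸ I) (B ⧸ I.map (algebraMap A B)) :=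
    Module.Flat.of_linearEquiv
      (Algebra.TensorProduct.quotIdealMapEquivQuotTensor B I).toLinearEquiv
  have hcomp : (algebraMap (A ⧸ I) (B ⧸ I.map (algebraMap A B))).comp (Ideal.Quotient.mk I) =
      (Ideal.Quotient.mk (I.map (algebraMap A B))).comp (algebraMap A B) :=
    RingHom.ext fun x => rfl
  have hmap : (maximalIdeal (A ⧸ I)).map (algebraMap (A ⧸ I) (B ⧸ I.map (algebraMap A B))) =
      ((maximalIdeal A).map (algebraMap A B)).map
        (Ideal.Quotient.mk (I.map (algebraMap A B))) := by
    rw [← IsLocalRing.map_maximalIdeal_of_surjective (Ideal.Quotient.mk I)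
      Ideal.Quotient.mk_surjective, Ideal.map_map, Ideal.map_map, hcomp]
  haveI hloc : IsLocalHom (algebraMap (A ⧸ I) (B ⧸ I.map (algebraMap A B))) := by
    refine ((IsLocalRing.local_hom_TFAE _).out 0 2 rfl rfl).mpr ?_
    rw [hmap, ← IsLocalRing.map_maximalIdeal_of_surjective
      (Ideal.Quotient.mk (I.map (algebraMap A B))) Ideal.Quotient.mk_surjective]
    exact Ideal.map_mono (IsLocalRing.map_maximalIdeal_le (algebraMap A B))
  have hle : I.map (algebraMap A B) ≤ RingHom.ker π := by
    rw [hker]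
    exact Ideal.map_mono hIle
  have hker' : RingHom.ker (Ideal.Quotient.lift (I.map (algebraMap A B)) π hle) =
      (maximalIdeal (A ⧸ I)).map (algebraMap (A ⧸ I) (B ⧸ I.map (algebraMap A B))) := by
    rw [hmap, ← hker]
    exact Ideal.ker_quotient_lift π hle
  exact ih (A ⧸ I) (B ⧸ I.map (algebraMap A B)) (Ideal.Quotient.lift _ π hle)
    (Ideal.Quotient.lift_surjective_of_surjective _ hle hπ) hker' hd

/-- Reduction modulo an `A`-regular element of `𝔪_A`. -/
theorem step_base (x : A) (hxm : x ∈ maximalIdeal A) (hxreg : IsSMulRegular A x)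
    (ih : ∀ (A' B' : Type u) [CommRing A'] [CommRing B'] [IsLocalRing A'] [IsNoetherianRing A']
      [IsLocalRing B'] [IsNoetherianRing B'] [Algebra A' B'] [IsLocalHom (algebraMap A' B')]
      [Module.Flat A' B'] (π' : B' →+* F) (_ : Function.Surjective π')
      (_ : RingHom.ker π' = (maximalIdeal A').map (algebraMap A' B')),
      ringKrullDim B' + 1 ≤ ringKrullDim B →
      (LocCoh.IsGorensteinLocalRing B' ↔
        LocCoh.IsGorensteinLocalRing A' ∧ LocCoh.IsGorensteinLocalRing F)) :
    LocCoh.IsGorensteinLocalRing B ↔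
      LocCoh.IsGorensteinLocalRing A ∧ LocCoh.IsGorensteinLocalRing F := by
  have hIne : Ideal.span {x} ≠ ⊤ := by
    rw [Ne, Ideal.span_singleton_eq_top]
    exact (IsLocalRing.mem_maximalIdeal x).mp hxm
  have hreg' : IsSMulRegular B (algebraMap A B x) := hxreg.of_flat
  have hxB : algebraMap A B x ∈ maximalIdeal B := map_nonunit _ x hxm
  have hA := Groth.Agent.S0343.result A x hxm hxreg
  have hB := Groth.Agent.S0343.result B (algebraMap A B x) hxB hreg'
  have hIB : (Ideal.span {x}).map (algebraMap A B) = Ideal.span {algebraMap A B x} := by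
    rw [Ideal.map_span, Set.image_singleton]
  have hd : ringKrullDim (B ⧸ (Ideal.span {x}).map (algebraMap A B)) + 1 ≤ ringKrullDim B := by
    rw [dim_congr_ideal hIB]
    exact ringKrullDim_quotient_succ_le_of_nonZeroDivisor (mem_nzd hreg')
  have key := step_quot π hπ hker (Ideal.span {x}) hIne ih hd
  rw [hB, ← gor_congr_ideal hIB, key, ← hA]

open Pointwise in
/-- Reduction modulo an element of `B` which is regular on the fibre `F`. -/
theorem step_fib [IsLocalRing F] [IsNoetherianRing F] (y : B) (hym : π y ∈ maximalIdeal F)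
    (hyreg : IsSMulRegular F (π y))
    (ih : ∀ (B' F' : Type u) [CommRing B'] [CommRing F'] [IsLocalRing B'] [IsNoetherianRing B']
      [Algebra A B'] [IsLocalHom (algebraMap A B')] [Module.Flat A B'] (π' : B' →+* F')
      (_ : Function.Surjective π')
      (_ : RingHom.ker π' = (maximalIdeal A).map (algebraMap A B')),
      ringKrullDim B' + 1 ≤ ringKrullDim B →
      (LocCoh.IsGorensteinLocalRing B' ↔
        LocCoh.IsGorensteinLocalRing A ∧ LocCoh.IsGorensteinLocalRing F')) :
    LocCoh.IsGorensteinLocalRing B ↔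
      LocCoh.IsGorensteinLocalRing A ∧ LocCoh.IsGorensteinLocalRing F := by
  haveI hlocπ := IsLocalHom.of_surjective π hπ
  have hyB : y ∈ maximalIdeal B := by
    have h1 : y ∈ (maximalIdeal F).comap π := hym
    rwa [IsLocalRing.maximalIdeal_comap π] at h1
  have htop : ((maximalIdeal A).map (algebraMap A B) • (⊤ : Submodule B B)) =
      (maximalIdeal A).map (algebraMap A B) := by
    rw [smul_eq_mul, Ideal.mul_top]
  have hyfib : IsSMulRegular
      (B ⧸ ((maximalIdeal A).map (algebraMap A B) • (⊤ : Submodule B B))) y := by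
    rw [isSMulRegular_iff_right_eq_zero_of_smul]
    intro q hq
    obtain ⟨b, rfl⟩ := Submodule.Quotient.mk_surjective _ q
    rw [← Submodule.Quotient.mk_smul, Submodule.Quotient.mk_eq_zero, htop, ← hker,
      RingHom.mem_ker, smul_eq_mul, map_mul] at hq
    rw [Submodule.Quotient.mk_eq_zero, htop, ← hker, RingHom.mem_ker]
    exact (isSMulRegular_iff_right_eq_zero_of_smul.mp hyreg) (π b)
      (by rw [smul_eq_mul]; exact hq)
  have hyregB : IsSMulRegular B y := isSMulRegular_of_fibre (R := A) (S := B) (N := B) y hyfib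
  haveI hflat' : Module.Flat A (B ⧸ Ideal.span {y}) := by
    haveI h1 := flat_quotSMulTop_of_fibre (R := A) (S := B) (N := B) y hyfib
    have heq : (Ideal.span {y} : Submodule B B) = (y • (⊤ : Submodule B B)) := by
      ext t
      rw [Submodule.mem_smul_pointwise_iff_exists, Ideal.mem_span_singleton']
      constructor
      · rintro ⟨b, rfl⟩
        exact ⟨b, Submodule.mem_top, by rw [smul_eq_mul, mul_comm]⟩
      · rintro ⟨b, -, rfl⟩
        exact ⟨b, by rw [smul_eq_mul, mul_comm]⟩
    exact Module.Flat.of_linearEquiv ((Submodule.quotEquivOfEq _ _ heq).restrictScalars A)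
  haveI : Nontrivial (B ⧸ Ideal.span {y}) := Ideal.Quotient.nontrivial_iff.mpr (by
    rw [Ne, Ideal.span_singleton_eq_top]
    exact (IsLocalRing.mem_maximalIdeal y).mp hyB)
  haveI : IsLocalRing (B ⧸ Ideal.span {y}) :=
    IsLocalRing.of_surjective' (Ideal.Quotient.mk _) Ideal.Quotient.mk_surjective
  have halg : algebraMap A (B ⧸ Ideal.span {y}) =
      (Ideal.Quotient.mk (Ideal.span {y})).comp (algebraMap A B) := rfl
  haveI hloc' : IsLocalHom (algebraMap A (B ⧸ Ideal.span {y})) := by
    refine ((IsLocalRing.local_hom_TFAE _).out 0 2 rfl rfl).mpr ?_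
    rw [halg, ← Ideal.map_map, ← IsLocalRing.map_maximalIdeal_of_surjective
      (Ideal.Quotient.mk (Ideal.span {y})) Ideal.Quotient.mk_surjective]
    exact Ideal.map_mono (IsLocalRing.map_maximalIdeal_le (algebraMap A B))
  have hle' : Ideal.span {y} ≤ (Ideal.span {π y}).comap π := by
    rw [Ideal.span_singleton_le_iff_mem, Ideal.mem_comap]
    exact Ideal.mem_span_singleton_self _
  have hker' : RingHom.ker (Ideal.quotientMap (Ideal.span {π y}) π hle') =
      (maximalIdeal A).map (algebraMap A (B ⧸ Ideal.span {y})) := by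
    apply le_antisymm
    · intro q hq
      obtain ⟨b, rfl⟩ := Ideal.Quotient.mk_surjective q
      rw [RingHom.mem_ker, Ideal.quotientMap_mk, Ideal.Quotient.eq_zero_iff_mem,
        Ideal.mem_span_singleton'] at hq
      obtain ⟨c', hc'⟩ := hq
      obtain ⟨c, rfl⟩ := hπ c'
      have h1 : b - c * y ∈ (maximalIdeal A).map (algebraMap A B) := by
        rw [← hker, RingHom.mem_ker, map_sub, map_mul, hc', sub_self]
      have h2 : Ideal.Quotient.mk (Ideal.span {y}) b =
          Ideal.Quotient.mk (Ideal.span {y}) (b - c * y) := by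
        have h3 : Ideal.Quotient.mk (Ideal.span {y}) y = 0 :=
          Ideal.Quotient.eq_zero_iff_mem.mpr (Ideal.mem_span_singleton_self y)
        rw [map_sub, map_mul, h3, mul_zero, sub_zero]
      rw [h2, halg, ← Ideal.map_map]
      exact Ideal.mem_map_of_mem _ h1
    · rw [Ideal.map_le_iff_le_comap]
      intro t ht
      rw [Ideal.mem_comap, RingHom.mem_ker, halg, RingHom.comp_apply, Ideal.quotientMap_mk]
      have h1 : π (algebraMap A B t) = 0 := by
        rw [← RingHom.mem_ker, hker]
        exact Ideal.mem_map_of_mem _ ht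
      rw [h1, map_zero]
  have hB := Groth.Agent.S0343.result B y hyB hyregB
  have hF := Groth.Agent.S0343.result F (π y) hym hyreg
  have hd : ringKrullDim (B ⧸ Ideal.span {y}) + 1 ≤ ringKrullDim B :=
    ringKrullDim_quotient_succ_le_of_nonZeroDivisor (mem_nzd hyregB)
  have key := ih (B ⧸ Ideal.span {y}) (F ⧸ Ideal.span {π y})
    (Ideal.quotientMap (Ideal.span {π y}) π hle') (Ideal.quotientMap_surjective hπ) hker' hd
  rw [hB, key, ← hF]

end steps

section mainthm

/-- The case `depth A = depth F = 0`. -/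
theorem base_case {A B F : Type u} [CommRing A] [CommRing B] [CommRing F] [IsLocalRing A]
    [IsNoetherianRing A] [IsLocalRing B] [IsNoetherianRing B] [IsLocalRing F]
    [IsNoetherianRing F] [Algebra A B] [IsLocalHom (algebraMap A B)] [Module.Flat A B]
    (π : B →+* F) (hπ : Function.Surjective π)
    (hker : RingHom.ker π = (maximalIdeal A).map (algebraMap A B))
    (a : A) (ha0 : a ≠ 0) (hasoc : IsSoc A a) (f' : F) (hf0 : f' ≠ 0) (hfsoc : IsSoc F f') :
    LocCoh.IsGorensteinLocalRing B ↔
      LocCoh.IsGorensteinLocalRing A ∧ LocCoh.IsGorensteinLocalRing F := by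
  obtain ⟨f, rfl⟩ := hπ f'
  have hdimeq := dim_eq π hπ hker
  constructor
  · intro hB
    have hz0 := mul_ne_zero_of π hπ hker ha0 hf0
    have hzsoc := soc_mul π hπ hker hasoc hfsoc
    have hdB : ringKrullDim B = 0 := dim_eq_zero_of_soc B hB _ hz0 hzsoc
    have hT1 : Type1 B := type1_of_gor B hB hdB
    obtain ⟨hTA, hTF⟩ := type1_of_type1_top π hπ hker hT1 a ha0 hasoc f hf0 hfsoc
    haveI : IsArtinianRing B := artinian_of_dim_le_zero B hdB.le
    haveI : IsArtinianRing F := hπ.isArtinianRing
    have hdA : ringKrullDim A ≤ 0 := by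
      rw [hdimeq] at hdB
      calc ringKrullDim A = ringKrullDim A + 0 := (add_zero _).symm
        _ ≤ ringKrullDim A + ringKrullDim F :=
          add_le_add_right ringKrullDim_nonneg_of_nontrivial _
        _ = 0 := hdB
    haveI : IsArtinianRing A := artinian_of_dim_le_zero A hdA
    exact ⟨gor_of_type1 A hTA, gor_of_type1 F hTF⟩
  · rintro ⟨hA, hF⟩
    have hdA : ringKrullDim A = 0 := dim_eq_zero_of_soc A hA a ha0 hasoc
    have hdF : ringKrullDim F = 0 := dim_eq_zero_of_soc F hF _ hf0 hfsoc
    have hTA : Type1 A := type1_of_gor A hA hdA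
    have hTF : Type1 F := type1_of_gor F hF hdF
    have hdB : ringKrullDim B ≤ 0 := by rw [hdimeq, hdA, hdF, add_zero]
    haveI : IsArtinianRing B := artinian_of_dim_le_zero B hdB
    exact gor_of_type1 B (type1_of_type1 π hπ hker hTA hTF)

/-- **Gorenstein property along flat local homomorphisms**: for a flat local homomorphism
`A → B` of Noetherian local rings and a surjection `π : B → F` with kernel `𝔪_A B`, the ring `B` is
Gorenstein iff `A` and `F` are. -/
theorem main : ∀ (N : ℕ) (A B F : Type u) [CommRing A] [CommRing B] [CommRing F] [IsLocalRing A]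
    [IsNoetherianRing A] [IsLocalRing B] [IsNoetherianRing B] [Algebra A B]
    [IsLocalHom (algebraMap A B)] [Module.Flat A B] (π : B →+* F) (_ : Function.Surjective π)
    (_ : RingHom.ker π = (maximalIdeal A).map (algebraMap A B)),
    ringKrullDim B ≤ (N : WithBot ℕ∞) →
    (LocCoh.IsGorensteinLocalRing B ↔
      LocCoh.IsGorensteinLocalRing A ∧ LocCoh.IsGorensteinLocalRing F) := by
  intro N
  induction N using Nat.strong_induction_on with
  | _ N ih =>
  intro A B F _ _ _ _ _ _ _ _ _ _ π hπ hker hdim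
  have hkne : RingHom.ker π ≠ ⊤ := by
    rw [hker]
    exact ne_top_of_le_ne_top (IsLocalRing.maximalIdeal.isMaximal B).ne_top
      (IsLocalRing.map_maximalIdeal_le (algebraMap A B))
  haveI : Nontrivial F := by
    refine ⟨⟨1, 0, fun h => hkne ?_⟩⟩
    rw [Ideal.eq_top_iff_one, RingHom.mem_ker, map_one]
    exact h
  haveI : IsLocalRing F := IsLocalRing.of_surjective' π hπ
  haveI : IsNoetherianRing F := isNoetherianRing_of_surjective B F π hπ
  by_cases hx : ∃ x ∈ maximalIdeal A, IsSMulRegular A x
  · obtain ⟨x, hxm, hxreg⟩ := hx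
    refine step_base π hπ hker x hxm hxreg ?_
    intro A' B' _ _ _ _ _ _ _ _ _ π' hπ' hker' hd
    obtain ⟨n, hn, hle⟩ := dim_step _ _ N ringKrullDim_nonneg_of_nontrivial hd hdim
    exact ih n hn A' B' F π' hπ' hker' hle
  · by_cases hy : ∃ y' ∈ maximalIdeal F, IsSMulRegular F y'
    · obtain ⟨y', hym, hyreg⟩ := hy
      obtain ⟨y, rfl⟩ := hπ y'
      refine step_fib π hπ hker y hym hyreg ?_
      intro B' F' _ _ _ _ _ _ _ π' hπ' hker' hd
      obtain ⟨n, hn, hle⟩ := dim_step _ _ N ringKrullDim_nonneg_of_nontrivial hd hdim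
      exact ih n hn A B' F' π' hπ' hker' hle
    · push Not at hx hy
      obtain ⟨a, ha0, hasoc⟩ := exists_soc A hx
      obtain ⟨f', hf0, hfsoc⟩ := exists_soc F hy
      exact base_case π hπ hker a ha0 hasoc f' hf0 hfsoc

/-- Version without the dimension bound. -/
theorem gor_flat_iff (A B F : Type u) [CommRing A] [CommRing B] [CommRing F] [IsLocalRing A]
    [IsNoetherianRing A] [IsLocalRing B] [IsNoetherianRing B] [Algebra A B]
    [IsLocalHom (algebraMap A B)] [Module.Flat A B] (π : B →+* F) (hπ : Function.Surjective π)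
    (hker : RingHom.ker π = (maximalIdeal A).map (algebraMap A B)) :
    LocCoh.IsGorensteinLocalRing B ↔
      LocCoh.IsGorensteinLocalRing A ∧ LocCoh.IsGorensteinLocalRing F := by
  obtain ⟨N, hN⟩ := LC.exists_nat_le_of_lt_top (ringKrullDim B) ringKrullDim_lt_top
  exact main N A B F π hπ hker hN

/-- A field is a Gorenstein local ring. -/
theorem gor_field (K : Type u) [Field K] : LocCoh.IsGorensteinLocalRing K := by
  haveI : IsArtinianRing K := inferInstance
  apply gor_of_type1 K
  refine ⟨1, one_ne_zero, ?_, fun w _ => ⟨w, (mul_one w).symm⟩⟩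
  intro x hx
  rw [IsLocalRing.maximalIdeal_eq_bot] at hx
  rw [(Submodule.mem_bot K).mp hx, zero_mul]

/-- The Gorenstein property is invariant under ring isomorphisms. -/
theorem gor_of_ringEquiv {R S : Type u} [CommRing R] [CommRing S] (e : R ≃+* S)
    (hR : LocCoh.IsGorensteinLocalRing R) : LocCoh.IsGorensteinLocalRing S := by
  haveI := hR
  haveI : IsLocalRing S := e.isLocalRing
  haveI : IsNoetherianRing S := isNoetherianRing_of_ringEquiv R e
  letI : Algebra R S := e.toRingHom.toAlgebra
  have halg : algebraMap R S = e.toRingHom := rfl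
  haveI : IsLocalHom (algebraMap R S) := by
    refine ⟨fun a ha => ?_⟩
    have h1 : IsUnit (e.symm (e a)) := (show IsUnit (e a) from ha).map e.symm
    rwa [RingEquiv.symm_apply_apply] at h1
  haveI : Module.Flat R S := by
    let l : S ≃ₗ[R] R :=
      { e.symm.toAddEquiv with
        map_smul' := fun r s => by
          change e.symm (algebraMap R S r * s) = r * e.symm s
          rw [map_mul, halg]
          simp }
    exact Module.Flat.of_linearEquiv l
  have hker : RingHom.ker (IsLocalRing.residue S) = (maximalIdeal R).map (algebraMap R S) := by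
    rw [IsLocalRing.ker_residue, halg]
    exact (IsLocalRing.map_ringEquiv_maximalIdeal e).symm
  exact ((gor_flat_iff R S (ResidueField S) (IsLocalRing.residue S)
    IsLocalRing.residue_surjective hker).mpr ⟨hR, gor_field _⟩)

theorem gor_ringEquiv_iff {R S : Type u} [CommRing R] [CommRing S] (e : R ≃+* S) :
    LocCoh.IsGorensteinLocalRing R ↔ LocCoh.IsGorensteinLocalRing S :=
  ⟨gor_of_ringEquiv e, gor_of_ringEquiv e.symm⟩

end mainthm

end Groth.Agent.Lib.Helper4.GorFlat
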