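import Mathlib
import Groth.Agent.Lib.Helper4.GorFlat
import Groth.Agent.Lib.Helper4.FlatFibre
import Groth.Agent.S0342

/-!
# Gorenstein fibres (helper4)

* `gor_quot_iff`: for a flat local `A → B`, `π : B ↠ F` with kernel `𝔪_A B` and a proper ideal
  `I` of `A`: `B/IB` is Gorenstein iff `A/I` and `F` are.
* `gor_fibLocRing_trans`: transitivity of Gorenstein fibre local rings for `A → B → C`, `B → C` flat.
* `isGorensteinRing_fiber_iff`: the fibre ring `p.Fiber S` is Gorenstein iff all fibre local rings
  over `p` are.
-/

set_option autoImplicit false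
set_option linter.style.haveILetI false
set_option linter.unusedSectionVars false
set_option linter.unusedVariables false
set_option maxHeartbeats 800000

open IsLocalRing

universe u

namespace Groth.Agent.Lib.Helper4.GorFibre

open Groth.Agent.Lib.Helper4.GorFlat Groth.Agent.Lib.Helper4.FlatFibre
  Groth.Agent.Lib.Helper4.FlatRing

section quot

variable {A B F : Type u} [CommRing A] [CommRing B] [CommRing F] [IsLocalRing A]
  [IsNoetherianRing A] [IsLocalRing B] [IsNoetherianRing B] [Algebra A B]
  [IsLocalHom (algebraMap A B)] [Module.Flat A B] (π : B →+* F) (hπ : Function.Surjective π)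
  (hker : RingHom.ker π = (maximalIdeal A).map (algebraMap A B))

include hπ hker in
/-- Reduction modulo a proper ideal of `A`. -/
theorem gor_quot_iff (I : Ideal A) (hIne : I ≠ ⊤) :
    LocCoh.IsGorensteinLocalRing (B ⧸ I.map (algebraMap A B)) ↔
      LocCoh.IsGorensteinLocalRing (A ⧸ I) ∧ LocCoh.IsGorensteinLocalRing F := by
  have hIle : I ≤ maximalIdeal A := IsLocalRing.le_maximalIdeal hIne
  have hIBne : I.map (algebraMap A B) ≠ ⊤ :=
    ne_top_of_le_ne_top (IsLocalRing.maximalIdeal.isMaximal B).ne_top
      ((Ideal.map_mono hIle).trans (IsLocalRing.map_maximalIdeal_le (algebraMap A B)))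
  haveI : Nontrivial (A ⧸ I) := Ideal.Quotient.nontrivial_iff.mpr hIne
  haveI : Nontrivial (B ⧸ I.map (algebraMap A B)) := Ideal.Quotient.nontrivial_iff.mpr hIBne
  haveI : IsLocalRing (A ⧸ I) :=
    IsLocalRing.of_surjective' (Ideal.Quotient.mk I) Ideal.Quotient.mk_surjective
  haveI : IsLocalRing (B ⧸ I.map (algebraMap A B)) :=
    IsLocalRing.of_surjective' (Ideal.Quotient.mk _) Ideal.Quotient.mk_surjective
  haveI hflat : Module.Flat (A ⧸ I) (B ⧸ I.map (algebraMap A B)) :=
    Module.Flat.of_linearEquiv
      (Algebra.TensorProduct.quotIdealMapEquivQuotTensor B I).toLinearEquiv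
  have hcomp : (algebraMap (A ⧸ I) (B ⧸ I.map (algebraMap A B))).comp (Ideal.Quotient.mk I) =
      (Ideal.Quotient.mk (I.map (algebraMap A B))).comp (algebraMap A B) :=
    RingHom.ext fun x => rfl
  have hmap : (maximalIdeal (A ⧸ I)).map (algebraMap (A ⧸ I) (B ⧸ I.map (algebraMap A B))) =
      ((maximalIdeal A).map (algebraMap A B)).map
        (Ideal.Quotient.mk (I.map (algebraMap A B))) := by
    rw [← IsLocalRing.map_maximalIdeal_of_surjective (Ideal.Quotient.mk I)
      Ideal.Quotient.mk_surjective, Ideal.map_map, Ideal.map_map, hcomp]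
  haveI hloc : IsLocalHom (algebraMap (A ⧸ I) (B ⧸ I.map (algebraMap A B))) := by
    refine ((IsLocalRing.local_hom_TFAE _).out 0 2 rfl rfl).mpr ?_
    rw [hmap, ← IsLocalRing.map_maximalIdeal_of_surjective
      (Ideal.Quotient.mk (I.map (algebraMap A B))) Ideal.Quotient.mk_surjective]
    exact Ideal.map_mono (IsLocalRing.map_maximalIdeal_le (algebraMap A B))
  have hle : I.map (algebraMap A B) ≤ RingHom.ker π := by
    rw [hker]
    exact Ideal.map_mono hIle
  have hker' : RingHom.ker (Ideal.Quotient.lift (I.map (algebraMap A B)) π hle) =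
      (maximalIdeal (A ⧸ I)).map (algebraMap (A ⧸ I) (B ⧸ I.map (algebraMap A B))) := by
    rw [hmap, ← hker]
    exact Ideal.ker_quotient_lift π hle
  exact gor_flat_iff (A ⧸ I) (B ⧸ I.map (algebraMap A B)) F (Ideal.Quotient.lift _ π hle)
    (Ideal.Quotient.lift_surjective_of_surjective _ hle hπ) hker'

end quot

section local_

variable {B' C' : Type u} [CommRing B'] [CommRing C'] [IsLocalRing B'] [IsLocalRing C']
  [IsNoetherianRing B'] [IsNoetherianRing C'] [Algebra B' C'] [IsLocalHom (algebraMap B' C')]
  [Module.Flat B' C']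

theorem gor_trans_local (I : Ideal B') (J K : Ideal C') (hJ : J = I.map (algebraMap B' C'))
    (hK : K = (maximalIdeal B').map (algebraMap B' C')) [IsLocalRing (B' ⧸ I)] :
    LocCoh.IsGorensteinLocalRing (C' ⧸ J) ↔
      LocCoh.IsGorensteinLocalRing (B' ⧸ I) ∧ LocCoh.IsGorensteinLocalRing (C' ⧸ K) := by
  subst hJ hK
  have hIne : I ≠ ⊤ := Ideal.Quotient.nontrivial_iff.mp inferInstance
  exact gor_quot_iff (Ideal.Quotient.mk _) Ideal.Quotient.mk_surjective Ideal.mk_ker I hIne

end local_

section global

variable (A B C : Type u) [CommRing A] [CommRing B] [CommRing C] [IsNoetherianRing A]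
  [IsNoetherianRing B] [IsNoetherianRing C] [Algebra A B] [Algebra B C] [Algebra A C]
  [IsScalarTower A B C] [Module.Flat B C] (s : Ideal C) [s.IsPrime]

/-- Transitivity of Gorenstein fibre local rings for `A → B → C` with `B → C` flat. -/
theorem gor_fibLocRing_trans :
    LocCoh.IsGorensteinLocalRing (EGA4.FibLocRing A C s) ↔
      LocCoh.IsGorensteinLocalRing (EGA4.FibLocRing A B (s.comap (algebraMap B C))) ∧
        LocCoh.IsGorensteinLocalRing (EGA4.FibLocRing B C s) := by
  have hcomap : (s.comap (algebraMap B C)).comap (algebraMap A B) = s.comap (algebraMap A C) := by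
    rw [Ideal.comap_comap, ← IsScalarTower.algebraMap_eq]
  haveI : s.LiesOver (s.comap (algebraMap B C)) := ⟨rfl⟩
  letI := Localization.AtPrime.algebraOfLiesOver (s.comap (algebraMap B C)) s
  haveI : IsLocalHom (algebraMap (Localization.AtPrime (s.comap (algebraMap B C)))
      (Localization.AtPrime s)) :=
    Localization.isLocalHom_localRingHom (s.comap (algebraMap B C)) s (algebraMap B C)
      Ideal.LiesOver.over
  have hK : (s.comap (algebraMap B C)).map (algebraMap B (Localization.AtPrime s)) =
      (maximalIdeal (Localization.AtPrime (s.comap (algebraMap B C)))).map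
        (algebraMap (Localization.AtPrime (s.comap (algebraMap B C)))
          (Localization.AtPrime s)) := by
    rw [← Localization.AtPrime.map_eq_maximalIdeal, Ideal.map_map,
      ← IsScalarTower.algebraMap_eq]
  have hJ : (s.comap (algebraMap A C)).map (algebraMap A (Localization.AtPrime s)) =
      (((s.comap (algebraMap B C)).comap (algebraMap A B)).map
        (algebraMap A (Localization.AtPrime (s.comap (algebraMap B C))))).map
          (algebraMap (Localization.AtPrime (s.comap (algebraMap B C)))
            (Localization.AtPrime s)) := by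
    rw [Ideal.map_map, ← IsScalarTower.algebraMap_eq, hcomap]
  exact gor_trans_local _ _ _ hJ hK

end global

section bridge

variable (R S : Type u) [CommRing R] [CommRing S] [IsNoetherianRing R] [IsNoetherianRing S]
  [Algebra R S] (p : Ideal R) [p.IsPrime]

/-- The fibre ring is Gorenstein iff all its fibre local rings are. -/
theorem isGorensteinRing_fiber_iff :
    LocCoh.IsGorensteinRing (p.Fiber S) ↔
      ∀ (r : Ideal S) [r.IsPrime], r.comap (algebraMap R S) = p →
        LocCoh.IsGorensteinLocalRing (EGA4.FibLocRing R S r) := by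
  haveI := isNoetherianRing_fiber R S p
  rw [← forall_fiber_localization_iff R S p (fun X _ => LocCoh.IsGorensteinLocalRing X)
    (fun X Y _ _ e h => gor_of_ringEquiv e h)]
  constructor
  · intro h 𝔮 _
    exact h.isGorensteinLocalRing_localization 𝔮
  · intro h
    exact { isGorensteinLocalRing_localization := fun 𝔮 _ => h 𝔮 }

/-- A regular fibre ring has Gorenstein fibre local rings. -/
theorem gor_fibLocRing_of_isRegularRing (hreg : IsRegularRing (p.Fiber S))
    (r : Ideal S) [r.IsPrime] (hr : r.comap (algebraMap R S) = p) :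
    LocCoh.IsGorensteinLocalRing (EGA4.FibLocRing R S r) := by
  haveI := hreg
  exact (forall_fiber_localization_iff R S p (fun X _ => LocCoh.IsGorensteinLocalRing X)
    (fun X Y _ _ e h => gor_of_ringEquiv e h)).mp
    (fun 𝔮 _ => Groth.Agent.S0342.result (Localization.AtPrime 𝔮)) r hr

end bridge

end Groth.Agent.Lib.Helper4.GorFibre
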