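import Mathlib
import Groth.Agent.Lib.Helper4.GorFibre
import Groth.Agent.Lib.Helper4.CMHom

/-!
# Gorenstein homomorphisms of local rings (helper4)

The Gorenstein analogues of `CMHom`: `gor_iff_of_flat`, `gor_quot_iff'`, `gor_quot_comp_iff`.
-/

set_option autoImplicit false
set_option linter.style.haveILetI false
set_option linter.unusedSectionVars false
set_option linter.unusedVariables false
set_option maxHeartbeats 800000

universe u

open IsLocalRing

namespace Groth.Agent.Lib.Helper4.GorHom

open Groth.Agent.Lib.Helper4 Groth.Agent.Lib.Helper4.GorFlat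

section star

variable {A B : Type u} [CommRing A] [CommRing B] [IsLocalRing A] [IsLocalRing B]
  [IsNoetherianRing A] [IsNoetherianRing B] [Algebra A B] [IsLocalHom (algebraMap A B)]
  [Module.Flat A B]

theorem gor_iff_of_flat (I : Ideal B) (hI : I = (maximalIdeal A).map (algebraMap A B)) :
    LocCoh.IsGorensteinLocalRing B ↔
      LocCoh.IsGorensteinLocalRing A ∧ LocCoh.IsGorensteinLocalRing (B ⧸ I) :=
  gor_flat_iff A B (B ⧸ I) (Ideal.Quotient.mk I) Ideal.Quotient.mk_surjective
    (by rw [Ideal.mk_ker, hI])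

end star

section trans

variable {B' C' : Type u} [CommRing B'] [CommRing C'] [IsLocalRing B'] [IsLocalRing C']
  [Algebra B' C'] [IsLocalHom (algebraMap B' C')] [Module.Flat B' C']

/-- relative version: only the quotients are assumed Noetherian. -/
theorem gor_quot_iff' (I : Ideal B') (hIne : I ≠ ⊤)
    [IsNoetherianRing (B' ⧸ I)] [IsNoetherianRing (C' ⧸ I.map (algebraMap B' C'))] :
    LocCoh.IsGorensteinLocalRing (C' ⧸ I.map (algebraMap B' C')) ↔
      LocCoh.IsGorensteinLocalRing (B' ⧸ I) ∧
      LocCoh.IsGorensteinLocalRing (C' ⧸ (maximalIdeal B').map (algebraMap B' C')) := by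
  have hIle : I ≤ maximalIdeal B' := IsLocalRing.le_maximalIdeal hIne
  haveI : Nontrivial (B' ⧸ I) := Ideal.Quotient.nontrivial_iff.mpr hIne
  haveI : IsLocalRing (B' ⧸ I) :=
    IsLocalRing.of_surjective' (Ideal.Quotient.mk I) Ideal.Quotient.mk_surjective
  have hKle : (maximalIdeal B').map (algebraMap B' C') ≤ maximalIdeal C' :=
    IsLocalRing.map_maximalIdeal_le _
  have hJle : I.map (algebraMap B' C') ≤ maximalIdeal C' := (Ideal.map_mono hIle).trans hKle
  haveI : Nontrivial (C' ⧸ I.map (algebraMap B' C')) :=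
    Ideal.Quotient.nontrivial_iff.mpr
      (ne_top_of_le_ne_top (IsLocalRing.maximalIdeal.isMaximal C').ne_top hJle)
  haveI : IsLocalRing (C' ⧸ I.map (algebraMap B' C')) :=
    IsLocalRing.of_surjective' (Ideal.Quotient.mk _) Ideal.Quotient.mk_surjective
  haveI hflat : Module.Flat (B' ⧸ I) (C' ⧸ I.map (algebraMap B' C')) :=
    Module.Flat.of_linearEquiv
      (Algebra.TensorProduct.quotIdealMapEquivQuotTensor C' I).toLinearEquiv
  have hcomp : (algebraMap (B' ⧸ I) (C' ⧸ I.map (algebraMap B' C'))).comp (Ideal.Quotient.mk I) =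
      (Ideal.Quotient.mk (I.map (algebraMap B' C'))).comp (algebraMap B' C') :=
    RingHom.ext fun x => rfl
  have hmap : (maximalIdeal (B' ⧸ I)).map (algebraMap (B' ⧸ I) (C' ⧸ I.map (algebraMap B' C'))) =
      ((maximalIdeal B').map (algebraMap B' C')).map
        (Ideal.Quotient.mk (I.map (algebraMap B' C'))) := by
    rw [← IsLocalRing.map_maximalIdeal_of_surjective (Ideal.Quotient.mk I)
      Ideal.Quotient.mk_surjective, Ideal.map_map, Ideal.map_map, hcomp]
  haveI hloc : IsLocalHom (algebraMap (B' ⧸ I) (C' ⧸ I.map (algebraMap B' C'))) := by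
    refine ((IsLocalRing.local_hom_TFAE _).out 0 2 rfl rfl).mpr ?_
    rw [hmap, ← IsLocalRing.map_maximalIdeal_of_surjective
      (Ideal.Quotient.mk (I.map (algebraMap B' C'))) Ideal.Quotient.mk_surjective]
    exact Ideal.map_mono (IsLocalRing.map_maximalIdeal_le (algebraMap B' C'))
  have hker : RingHom.ker (Ideal.Quotient.mk ((maximalIdeal B').map (algebraMap B' C'))) =
      (maximalIdeal B').map (algebraMap B' C') := Ideal.mk_ker
  have hle : I.map (algebraMap B' C') ≤
      RingHom.ker (Ideal.Quotient.mk ((maximalIdeal B').map (algebraMap B' C'))) := by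
    rw [hker]
    exact Ideal.map_mono hIle
  have hker' : RingHom.ker (Ideal.Quotient.lift (I.map (algebraMap B' C'))
      (Ideal.Quotient.mk ((maximalIdeal B').map (algebraMap B' C'))) hle) =
      (maximalIdeal (B' ⧸ I)).map (algebraMap (B' ⧸ I) (C' ⧸ I.map (algebraMap B' C'))) := by
    rw [hmap, Ideal.ker_quotient_lift, hker]
  exact gor_flat_iff (B' ⧸ I) (C' ⧸ I.map (algebraMap B' C'))
    (C' ⧸ (maximalIdeal B').map (algebraMap B' C')) (Ideal.Quotient.lift _ _ hle)
    (Ideal.Quotient.lift_surjective_of_surjective _ hle Ideal.Quotient.mk_surjective) hker'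

end trans

section ringHom

variable {A B C : Type u} [CommRing A] [CommRing B] [CommRing C]
  [IsLocalRing A] [IsLocalRing B] [IsLocalRing C]

/-- ring-hom form. -/
theorem gor_quot_comp_iff (φ : A →+* B) (ψ : B →+* C) [IsLocalHom φ] [IsLocalHom ψ]
    (hψ : ψ.Flat)
    (hNB : IsNoetherianRing (B ⧸ (maximalIdeal A).map φ))
    (hNC : IsNoetherianRing (C ⧸ (maximalIdeal A).map (ψ.comp φ))) :
    LocCoh.IsGorensteinLocalRing (C ⧸ (maximalIdeal A).map (ψ.comp φ)) ↔
      LocCoh.IsGorensteinLocalRing (B ⧸ (maximalIdeal A).map φ) ∧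
      LocCoh.IsGorensteinLocalRing (C ⧸ (maximalIdeal B).map ψ) := by
  letI : Algebra B C := ψ.toAlgebra
  haveI : IsLocalHom (algebraMap B C) := ‹IsLocalHom ψ›
  haveI : Module.Flat B C := hψ
  have hJ : (maximalIdeal A).map (ψ.comp φ) =
      ((maximalIdeal A).map φ).map (algebraMap B C) := (Ideal.map_map φ ψ).symm
  have hIne : (maximalIdeal A).map φ ≠ ⊤ :=
    ne_top_of_le_ne_top (IsLocalRing.maximalIdeal.isMaximal B).ne_top
      (IsLocalRing.map_maximalIdeal_le φ)
  haveI : IsNoetherianRing (C ⧸ ((maximalIdeal A).map φ).map (algebraMap B C)) :=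
    isNoetherianRing_of_ringEquiv _ (Ideal.quotEquivOfEq hJ)
  have key := gor_quot_iff' (B' := B) (C' := C) ((maximalIdeal A).map φ) hIne
  exact Iff.trans (gor_ringEquiv_iff (Ideal.quotEquivOfEq hJ)) key

end ringHom

end Groth.Agent.Lib.Helper4.GorHom
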