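import Mathlib
import Groth.Prelude.Def_Dual3
import Groth.Agent.Lib.Helper4.GorHom
import Groth.Agent.Lib.Helper4.CMHomSch

/-!
# Gorenstein morphisms at a point, in terms of stalk maps (helper4)
-/

set_option autoImplicit false
set_option linter.style.haveILetI false
set_option linter.unusedSectionVars false
set_option linter.unusedVariables false
set_option maxHeartbeats 800000

universe u

open AlgebraicGeometry CategoryTheory IsLocalRing

namespace Groth.Agent.Lib.Helper4.GorHomSch

open Groth.Agent.Lib.Helper6 Groth.Agent.Lib.Helper4.GorFlat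

variable {X Y : Scheme.{u}} (f : X ⟶ Y) (x : X)

/-- `IsGorensteinAt` in terms of the stalk map. -/
theorem isGorensteinAt_iff : Dual3.IsGorensteinAt f x ↔ (f.stalkMap x).hom.Flat ∧
    LocCoh.IsGorensteinLocalRing (X.presheaf.stalk x ⧸
      (maximalIdeal (Y.presheaf.stalk (f x))).map (f.stalkMap x).hom) := by
  unfold Dual3.IsGorensteinAt
  exact and_congr Iff.rfl (gor_ringEquiv_iff (fiberStalkEquiv f x))

end Groth.Agent.Lib.Helper4.GorHomSch
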