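import Mathlib
import Groth.Agent.Lib.Helper4.GorFibre
import Groth.Agent.S0343
import Groth.Agent.Lib.Helper14.ConeLES
import Groth.Agent.Lib.Helper14.KoszulTop
import Groth.Agent.Lib.Helper14.KoszulBC2
import Groth.Agent.Lib.Helper14.KoszulLCI

/-!
# Gorenstein rings (global statements) (helper4)

* `gorRing_of_ringEquiv`, `gorRing_of_isLocalization`: transport of `LocCoh.IsGorensteinRing`.
* `gor_atPrime_iff`: for flat `A → B` Noetherian, `B_q` Gorenstein iff `A_{q ∩ A}` and the fibre
  local ring are.
* `gorRing_of_flat`, `gorRing_of_flat_of_fiber`, `gorRing_of_flat_of_regular_fiber`: ascent.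
* `gorRing_fiber_of_flat`: fibres of a flat map with Gorenstein target are Gorenstein.
* `gorRing_of_isRegularRing`, `gorRing_mvPolynomial`, `gorRing_polynomial`.
* `nonempty_quotLocEquiv`: `(R/I)_Q ≃ R_P / I R_P`.
* `gor_quot_of_koszulRegular`: quotient of a Gorenstein local ring by a Koszul-regular sequence
  in the maximal ideal is Gorenstein.
* `koszulRegular_map`: Koszul-regularity is preserved by flat ring maps.
* `gorRing_quot_of_isKoszulRegularIdeal`: quotient of a Gorenstein ring by a Koszul-regular ideal.
-/

set_option autoImplicit false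
set_option linter.style.haveILetI false
set_option linter.unusedSectionVars false
set_option linter.unusedVariables false
set_option maxHeartbeats 800000

open IsLocalRing CategoryTheory CategoryTheory.Limits MonoidalCategory

universe u

namespace Groth.Agent.Lib.Helper4.GorRing

open Groth.Agent.Lib.Helper4.GorFlat Groth.Agent.Lib.Helper4.GorFibre
  Groth.Agent.Lib.Helper4.FlatFibre Groth.Agent.Lib.Helper4.FlatRing

section transport

/-- The Gorenstein property of rings is invariant under ring isomorphisms. -/
theorem gorRing_of_ringEquiv {R S : Type u} [CommRing R] [CommRing S] (e : R ≃+* S)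
    (hR : LocCoh.IsGorensteinRing R) : LocCoh.IsGorensteinRing S := by
  haveI := hR
  haveI : IsNoetherianRing S := isNoetherianRing_of_ringEquiv R e
  refine { isGorensteinLocalRing_localization := fun p _ => ?_ }
  exact gor_of_ringEquiv
    (IsLocalization.ringEquivOfRingEquiv (Localization.AtPrime (p.comap e))
      (Localization.AtPrime p) e (e.map_primeCompl_comap_eq p))
    (hR.isGorensteinLocalRing_localization (p.comap e))

/-- Localizations of Gorenstein rings are Gorenstein. -/
theorem gorRing_of_isLocalization {R : Type u} [CommRing R] (M : Submonoid R) (S : Type u)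
    [CommRing S] [Algebra R S] [IsLocalization M S] (hR : LocCoh.IsGorensteinRing R) :
    LocCoh.IsGorensteinRing S := by
  haveI := hR
  haveI : IsNoetherianRing S := IsLocalization.isNoetherianRing M S inferInstance
  refine { isGorensteinLocalRing_localization := fun Q _ => ?_ }
  haveI : IsLocalization.AtPrime (Localization.AtPrime Q) (Q.comap (algebraMap R S)) :=
    IsLocalization.isLocalization_isLocalization_atPrime_isLocalization M
      (Localization.AtPrime Q) Q
  have e : Localization.AtPrime (Q.comap (algebraMap R S)) ≃ₐ[R] Localization.AtPrime Q :=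
    IsLocalization.algEquiv (Q.comap (algebraMap R S)).primeCompl _ _
  exact gor_of_ringEquiv e.toRingEquiv (hR.isGorensteinLocalRing_localization _)

/-- Localizations at equal primes. -/
theorem gor_atPrime_congr {R : Type u} [CommRing R] (P P' : Ideal R) [P.IsPrime] [P'.IsPrime]
    (h : P = P') :
    LocCoh.IsGorensteinLocalRing (Localization.AtPrime P) ↔
      LocCoh.IsGorensteinLocalRing (Localization.AtPrime P') := by
  subst h
  exact Iff.rfl

/-- A local ring is Gorenstein iff its localization at the maximal ideal is. -/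
theorem gor_atPrime_maximalIdeal_iff (R : Type u) [CommRing R] [IsLocalRing R] :
    LocCoh.IsGorensteinLocalRing (Localization.AtPrime (maximalIdeal R)) ↔
      LocCoh.IsGorensteinLocalRing R := by
  have e : R ≃ₐ[R] Localization.AtPrime (maximalIdeal R) :=
    IsLocalization.atUnits R (maximalIdeal R).primeCompl (fun x hx => by
      by_contra hu
      exact hx ((IsLocalRing.mem_maximalIdeal x).mpr hu))
  exact (gor_ringEquiv_iff e.toRingEquiv).symm

/-- A Gorenstein local ring is a Gorenstein ring. -/
theorem gorRing_of_gor (R : Type u) [CommRing R] (hR : LocCoh.IsGorensteinLocalRing R) :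
    LocCoh.IsGorensteinRing R := by
  haveI := hR
  exact { isGorensteinLocalRing_localization := fun p _ =>
    StalkDual.gor_isGorensteinLocalRing_localization R p }

end transport

section flat

variable (A B : Type u) [CommRing A] [CommRing B] [IsNoetherianRing A] [IsNoetherianRing B]
  [Algebra A B] [Module.Flat A B]

/-- Local flat criterion at a prime of the target. -/
theorem gor_atPrime_iff (q : Ideal B) [q.IsPrime] :
    LocCoh.IsGorensteinLocalRing (Localization.AtPrime q) ↔
      LocCoh.IsGorensteinLocalRing (Localization.AtPrime (q.comap (algebraMap A B))) ∧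
        LocCoh.IsGorensteinLocalRing (EGA4.FibLocRing A B q) := by
  obtain ⟨p, hp⟩ : ∃ p : Ideal A, p = q.comap (algebraMap A B) := ⟨_, rfl⟩
  haveI hpp : p.IsPrime := hp ▸ Ideal.IsPrime.comap _
  haveI : q.LiesOver p := ⟨hp⟩
  letI := Localization.AtPrime.algebraOfLiesOver p q
  haveI : IsLocalHom (algebraMap (Localization.AtPrime p) (Localization.AtPrime q)) :=
    Localization.isLocalHom_localRingHom p q (algebraMap A B) Ideal.LiesOver.over
  have hI : p.map (algebraMap A (Localization.AtPrime q)) =
      (maximalIdeal (Localization.AtPrime p)).map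
        (algebraMap (Localization.AtPrime p) (Localization.AtPrime q)) := by
    rw [← Localization.AtPrime.map_eq_maximalIdeal, Ideal.map_map,
      ← IsScalarTower.algebraMap_eq]
  subst hp
  exact gor_flat_iff (Localization.AtPrime (q.comap (algebraMap A B))) (Localization.AtPrime q)
    (EGA4.FibLocRing A B q) (Ideal.Quotient.mk _) Ideal.Quotient.mk_surjective
    (by rw [Ideal.mk_ker]; exact hI)

/-- Ascent along flat maps with Gorenstein fibre local rings. -/
theorem gorRing_of_flat (hA : LocCoh.IsGorensteinRing A)
    (hfib : ∀ (q : Ideal B) [q.IsPrime],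
      LocCoh.IsGorensteinLocalRing (EGA4.FibLocRing A B q)) :
    LocCoh.IsGorensteinRing B :=
  { isGorensteinLocalRing_localization := fun q _ =>
      (gor_atPrime_iff A B q).mpr ⟨hA.isGorensteinLocalRing_localization _, hfib q⟩ }

/-- Ascent along flat maps with Gorenstein fibre rings. -/
theorem gorRing_of_flat_of_fiber (hA : LocCoh.IsGorensteinRing A)
    (hfib : ∀ (p : Ideal A) [p.IsPrime], LocCoh.IsGorensteinRing (p.Fiber B)) :
    LocCoh.IsGorensteinRing B :=
  gorRing_of_flat A B hA (fun q _ =>
    (isGorensteinRing_fiber_iff A B (q.comap (algebraMap A B))).mp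
      (hfib (q.comap (algebraMap A B))) q rfl)

/-- Ascent along flat maps with regular fibre rings. -/
theorem gorRing_of_flat_of_regular_fiber (hA : LocCoh.IsGorensteinRing A)
    (hfib : ∀ (p : Ideal A) [p.IsPrime], IsRegularRing (p.Fiber B)) :
    LocCoh.IsGorensteinRing B :=
  gorRing_of_flat A B hA (fun q _ =>
    gor_fibLocRing_of_isRegularRing A B (q.comap (algebraMap A B))
      (hfib (q.comap (algebraMap A B))) q rfl)

/-- All fibre local rings of a flat map with Gorenstein target are Gorenstein. -/
theorem gor_fibLocRing_of_flat (hB : LocCoh.IsGorensteinRing B) (q : Ideal B) [q.IsPrime] :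
    LocCoh.IsGorensteinLocalRing (EGA4.FibLocRing A B q) :=
  ((gor_atPrime_iff A B q).mp (hB.isGorensteinLocalRing_localization q)).2

/-- All fibre rings of a flat map with Gorenstein target are Gorenstein. -/
theorem gorRing_fiber_of_flat (hB : LocCoh.IsGorensteinRing B) (p : Ideal A) [p.IsPrime] :
    LocCoh.IsGorensteinRing (p.Fiber B) :=
  (isGorensteinRing_fiber_iff A B p).mpr (fun r _ _ => gor_fibLocRing_of_flat A B hB r)

end flat

section regular

/-- Regular rings are Gorenstein. -/
theorem gorRing_of_isRegularRing (R : Type u) [CommRing R] [IsRegularRing R] :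
    LocCoh.IsGorensteinRing R :=
  { isGorensteinLocalRing_localization := fun p _ =>
      Groth.Agent.S0342.result (Localization.AtPrime p) }

/-- Polynomial rings in finitely many variables over Gorenstein rings are Gorenstein. -/
theorem gorRing_mvPolynomial (A : Type u) [CommRing A] (n : ℕ)
    (hA : LocCoh.IsGorensteinRing A) :
    LocCoh.IsGorensteinRing (MvPolynomial (Fin n) A) := by
  haveI := hA
  refine gorRing_of_flat_of_regular_fiber A (MvPolynomial (Fin n) A) hA (fun p _ => ?_)
  have e : MvPolynomial (Fin n) p.ResidueField ≃+* p.Fiber (MvPolynomial (Fin n) A) :=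
    (MvPolynomial.algebraTensorAlgEquiv A p.ResidueField).symm.toRingEquiv
  exact IsRegularRing.of_ringEquiv (R := MvPolynomial (Fin n) p.ResidueField) e

/-- Polynomial rings over Gorenstein rings are Gorenstein. -/
theorem gorRing_polynomial (A : Type u) [CommRing A] (hA : LocCoh.IsGorensteinRing A) :
    LocCoh.IsGorensteinRing (Polynomial A) := by
  haveI := hA
  refine gorRing_of_flat_of_regular_fiber A (Polynomial A) hA (fun p _ => ?_)
  have e : Polynomial p.ResidueField ≃+* p.Fiber (Polynomial A) :=
    (polyEquivTensor A p.ResidueField).toRingEquiv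
  exact IsRegularRing.of_ringEquiv (R := Polynomial p.ResidueField) e

end regular

section quotloc

variable {R : Type u} [CommRing R]

/-- Localization of a quotient at a prime is the quotient of the localization. -/
theorem nonempty_quotLocEquiv (I : Ideal R) (Q : Ideal (R ⧸ I)) [Q.IsPrime] (P : Ideal R)
    [P.IsPrime] (hP : P = Q.comap (Ideal.Quotient.mk I)) :
    Nonempty (Localization.AtPrime Q ≃+*
      (Localization.AtPrime P ⧸ I.map (algebraMap R (Localization.AtPrime P)))) := by
  have hS : Algebra.algebraMapSubmonoid (R ⧸ I) P.primeCompl = Q.primeCompl := by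
    ext x
    constructor
    · rintro ⟨y, hy, rfl⟩
      intro hmem
      apply hy
      rw [hP]
      exact hmem
    · intro hx
      obtain ⟨y, rfl⟩ := Ideal.Quotient.mk_surjective x
      refine ⟨y, ?_, rfl⟩
      intro hy
      apply hx
      rw [hP] at hy
      exact hy
  have h1 : IsLocalization (Algebra.algebraMapSubmonoid (R ⧸ I) P.primeCompl)
      (Localization.AtPrime P ⧸ I.map (algebraMap R (Localization.AtPrime P))) := inferInstance
  rw [hS] at h1
  haveI := h1
  exact ⟨(IsLocalization.algEquiv Q.primeCompl (Localization.AtPrime Q)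
    (Localization.AtPrime P ⧸ I.map (algebraMap R (Localization.AtPrime P)))).toRingEquiv⟩

end quotloc

section les

variable {C : Type*} [Category C] [Abelian C] {K L : CochainComplex C ℤ} (φ : K ⟶ L)

/-- If `H^n(cone φ) = 0` then `H^n(φ)` is an epimorphism. -/
theorem epi_homologyMap_of_isZero_cone (n : ℤ)
    (hz : IsZero ((CochainComplex.mappingCone φ).homology n)) :
    Epi (HomologicalComplex.homologyMap φ n) :=
  (Groth.Agent.Lib.Helper14.ConeLES.exact₂ φ n).epi_f_iff.mpr (hz.eq_of_tgt _ _)

/-- If `H^n(cone φ) = 0` then `H^{n+1}(φ)` is a monomorphism. -/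
theorem mono_homologyMap_of_isZero_cone (n₀ n₁ : ℤ) (h : n₀ + 1 = n₁)
    (hz : IsZero ((CochainComplex.mappingCone φ).homology n₀)) :
    Mono (HomologicalComplex.homologyMap φ n₁) := by
  have hT := HomotopyCategory.mappingCone_triangleh_distinguished φ
  set F := HomotopyCategory.homologyFunctor C (ComplexShape.up ℤ) 0 with hF
  let eK := (HomotopyCategory.homologyFunctorFactors C (ComplexShape.up ℤ) n₁).app K
  let eL := (HomotopyCategory.homologyFunctorFactors C (ComplexShape.up ℤ) n₁).app L
  let eC := (HomotopyCategory.homologyFunctorFactors C (ComplexShape.up ℤ) n₀).app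
    (CochainComplex.mappingCone φ)
  have h3 : (F.shift n₁).map (CochainComplex.mappingCone.triangleh φ).mor₁ ≫ eL.hom =
      eK.hom ≫ HomologicalComplex.homologyMap φ n₁ :=
    (HomotopyCategory.homologyFunctorFactors C (ComplexShape.up ℤ) n₁).hom.naturality φ
  have ex1 := F.homologySequence_exact₁ _ hT n₀ n₁ h
  have hz' : IsZero ((F.shift n₀).obj (CochainComplex.mappingCone.triangleh φ).obj₃) :=
    IsZero.of_iso hz eC
  haveI hmono : Mono ((F.shift n₁).map (CochainComplex.mappingCone.triangleh φ).mor₁) :=
    ex1.mono_g_iff.mpr (hz'.eq_of_src _ _)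
  haveI h4 : Mono (eK.hom ≫ HomologicalComplex.homologyMap φ n₁) := by
    rw [← h3]
    exact @mono_comp _ _ _ _ _ _ hmono _ inferInstance
  have h5 : HomologicalComplex.homologyMap φ n₁ =
      eK.inv ≫ (eK.hom ≫ HomologicalComplex.homologyMap φ n₁) := by
    rw [Iso.inv_hom_id_assoc]
  rw [h5]
  exact @mono_comp _ _ _ _ _ eK.inv inferInstance _ h4

end les

section koszul

open CohIII Groth.Agent.Lib.Helper14.KoszulFun

variable {A : Type u} [CommRing A]

/-- The terms of the Koszul complex of a finite module are finite. -/
theorem finite_koszulCx_X (M : ModuleCat.{u} A) [Module.Finite A M] :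
    ∀ (l : List A) (i : ℤ), Module.Finite A ((koszulCx M l).X i)
  | [], i => by
    by_cases h : i = 0
    · subst h
      exact Module.Finite.equiv
        (HomologicalComplex.singleObjXSelf (ComplexShape.up ℤ) (0 : ℤ) M).symm.toLinearEquiv
    · haveI : Subsingleton ((koszulCx M []).X i) :=
        ModuleCat.subsingleton_of_isZero
          (HomologicalComplex.isZero_single_obj_X (ComplexShape.up ℤ) (0 : ℤ) M i h)
      infer_instance
  | x :: l, i => by
    haveI h1 := finite_koszulCx_X M l (i + 1)
    haveI h2 := finite_koszulCx_X M l i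
    show Module.Finite A ((CochainComplex.mappingCone (x • 𝟙 (koszulCx M l))).X i)
    let g : ((koszulCx M l).X (i + 1) × (koszulCx M l).X i) →ₗ[A]
        (CochainComplex.mappingCone (x • 𝟙 (koszulCx M l))).X i :=
      ((CochainComplex.mappingCone.inl (x • 𝟙 (koszulCx M l))).v (i + 1) i (by omega)).hom.coprod
        ((CochainComplex.mappingCone.inr (x • 𝟙 (koszulCx M l))).f i).hom
    refine Module.Finite.of_surjective g (fun y => ?_)
    refine ⟨(((CochainComplex.mappingCone.fst (x • 𝟙 (koszulCx M l))).1.v i (i + 1) rfl).hom y,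
      ((CochainComplex.mappingCone.snd (x • 𝟙 (koszulCx M l))).v i i (add_zero i)).hom y), ?_⟩
    have hid := CochainComplex.mappingCone.id_X (x • 𝟙 (koszulCx M l)) i (i + 1) rfl
    have := congrArg (fun t => t.hom y) hid
    simpa [g] using this

/-- Homology of a complex of finite modules over a Noetherian ring is finite. -/
theorem finite_homology [IsNoetherianRing A] (K : CochainComplex (ModuleCat.{u} A) ℤ) (i : ℤ)
    [Module.Finite A (K.X i)] : Module.Finite A (K.homology i) := by
  haveI : IsNoetherian A (K.X i) := isNoetherian_of_isNoetherianRing_of_finite A _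
  haveI : Module.Finite A (K.cycles i) :=
    Module.Finite.of_injective (K.iCycles i).hom
      ((ModuleCat.mono_iff_injective _).mp inferInstance)
  exact Module.Finite.of_surjective (K.homologyπ i).hom
    ((ModuleCat.epi_iff_surjective _).mp inferInstance)

/-- Nakayama: if multiplication by an element of the maximal ideal is an epimorphism on a finite
module, the module vanishes. -/
theorem isZero_of_epi_smul [IsLocalRing A] (H : ModuleCat.{u} A) [Module.Finite A H] (f : A)
    (hf : f ∈ maximalIdeal A) (h : Epi (f • 𝟙 H)) : IsZero H := by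
  have hsurj : Function.Surjective (f • 𝟙 H : H ⟶ H).hom := (ModuleCat.epi_iff_surjective _).mp h
  have htop : (⊤ : Submodule A H) = ⊥ := by
    refine Submodule.eq_bot_of_le_smul_of_le_jacobson_bot (Ideal.span {f}) ⊤
      Module.Finite.fg_top ?_ ?_
    · intro y _
      obtain ⟨z, hz⟩ := hsurj y
      have hz' : f • z = y := hz
      rw [← hz']
      exact Submodule.smul_mem_smul (Ideal.mem_span_singleton_self f) Submodule.mem_top
    · rw [IsLocalRing.jacobson_eq_maximalIdeal ⊥ bot_ne_top]
      exact (Ideal.span_singleton_le_iff_mem _).mpr hf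
  haveI : Subsingleton H := by
    refine ⟨fun a b => ?_⟩
    have ha : a ∈ (⊥ : Submodule A H) := htop ▸ Submodule.mem_top
    have hb : b ∈ (⊥ : Submodule A H) := htop ▸ Submodule.mem_top
    rw [(Submodule.mem_bot A).mp ha, (Submodule.mem_bot A).mp hb]
  exact ModuleCat.isZero_of_subsingleton H

/-- **Koszul-regular sequences in the maximal ideal of a Gorenstein local ring have Gorenstein
quotients.** -/
theorem gor_quot_of_koszulRegular [IsLocalRing A] [IsNoetherianRing A]
    (hA : LocCoh.IsGorensteinLocalRing A) :
    ∀ (l : List A), (∀ x ∈ l, x ∈ maximalIdeal A) →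
      (∀ i : ℤ, i ≠ 0 → IsZero ((koszulCx (ModuleCat.of A A) l).homology i)) →
      LocCoh.IsGorensteinLocalRing (A ⧸ Ideal.ofList l)
  | [], _, _ =>
    gor_of_ringEquiv ((RingEquiv.quotientBot A).symm.trans
      (Ideal.quotEquivOfEq (Ideal.ofList_nil (R := A)).symm)) hA
  | f :: fs, hmem, hK => by
    have hfm : f ∈ maximalIdeal A := hmem f (List.mem_cons_self ..)
    have hmem' : ∀ x ∈ fs, x ∈ maximalIdeal A := fun x hx => hmem x (List.mem_cons_of_mem _ hx)
    have hsmul : ∀ i : ℤ, HomologicalComplex.homologyMap
        (f • 𝟙 (koszulCx (ModuleCat.of A A) fs)) i =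
        f • 𝟙 ((koszulCx (ModuleCat.of A A) fs).homology i) := by
      intro i
      rw [homologyMap_smul, HomologicalComplex.homologyMap_id]
    -- Step 1: the tail is Koszul-regular
    have hK' : ∀ i : ℤ, i ≠ 0 → IsZero ((koszulCx (ModuleCat.of A A) fs).homology i) := by
      intro i hi
      haveI : Module.Finite A ((koszulCx (ModuleCat.of A A) fs).X i) :=
        finite_koszulCx_X (ModuleCat.of A A) fs i
      haveI : Module.Finite A ((koszulCx (ModuleCat.of A A) fs).homology i) :=
        finite_homology _ i
      have hz : IsZero ((CochainComplex.mappingCone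
          (f • 𝟙 (koszulCx (ModuleCat.of A A) fs))).homology i) := hK i hi
      have hepi := epi_homologyMap_of_isZero_cone (f • 𝟙 (koszulCx (ModuleCat.of A A) fs)) i hz
      rw [hsmul] at hepi
      exact isZero_of_epi_smul _ f hfm hepi
    -- Step 2: induction
    have hB : LocCoh.IsGorensteinLocalRing (A ⧸ Ideal.ofList fs) :=
      gor_quot_of_koszulRegular hA fs hmem' hK'
    -- Step 3: `f` is regular on `A/(fs)`
    have hz1 : IsZero ((CochainComplex.mappingCone
        (f • 𝟙 (koszulCx (ModuleCat.of A A) fs))).homology (-1)) := hK (-1) (by norm_num)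
    have hmono := mono_homologyMap_of_isZero_cone (f • 𝟙 (koszulCx (ModuleCat.of A A) fs))
      (-1) 0 (by norm_num) hz1
    rw [hsmul] at hmono
    have hinj : Function.Injective
        (f • 𝟙 ((koszulCx (ModuleCat.of A A) fs).homology 0) :
          (koszulCx (ModuleCat.of A A) fs).homology 0 ⟶ _).hom :=
      (ModuleCat.mono_iff_injective _).mp hmono
    obtain ⟨e⟩ := nonempty_homology_zero_equiv (A := A) A fs
    have hI : (Ideal.ofList fs • (⊤ : Submodule A A)) = Ideal.ofList fs := by
      show Ideal.ofList fs • (⊤ : Ideal A) = Ideal.ofList fs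
      rw [Ideal.smul_eq_mul, Ideal.mul_top]
    have hcolon : ∀ a : A, f * a ∈ Ideal.ofList fs → a ∈ Ideal.ofList fs := by
      intro a ha
      have h1 : f • (Submodule.Quotient.mk a :
          A ⧸ (Ideal.ofList fs • (⊤ : Submodule A A))) = 0 := by
        rw [← Submodule.Quotient.mk_smul, Submodule.Quotient.mk_eq_zero, hI, smul_eq_mul]
        exact ha
      have h2 : (f • 𝟙 ((koszulCx (ModuleCat.of A A) fs).homology 0) :
          (koszulCx (ModuleCat.of A A) fs).homology 0 ⟶ _).hom
            (e.symm (Submodule.Quotient.mk a)) = 0 := by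
        show f • e.symm (Submodule.Quotient.mk a) = 0
        rw [← map_smul, h1, map_zero]
      have h3 : e.symm (Submodule.Quotient.mk a) = 0 := hinj (h2.trans (map_zero _).symm)
      have h4 : (Submodule.Quotient.mk a :
          A ⧸ (Ideal.ofList fs • (⊤ : Submodule A A))) = 0 := by
        have := congrArg e h3
        rwa [LinearEquiv.apply_symm_apply, map_zero] at this
      rw [Submodule.Quotient.mk_eq_zero, hI] at h4
      exact h4
    have hreg : IsSMulRegular (A ⧸ Ideal.ofList fs) (Ideal.Quotient.mk (Ideal.ofList fs) f) := by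
      rw [isSMulRegular_iff_right_eq_zero_of_smul]
      intro b hb
      obtain ⟨a, rfl⟩ := Ideal.Quotient.mk_surjective b
      rw [smul_eq_mul, ← map_mul, Ideal.Quotient.eq_zero_iff_mem] at hb
      exact Ideal.Quotient.eq_zero_iff_mem.mpr (hcolon a hb)
    -- Step 4: the quotient is local and `f` lies in its maximal ideal
    have hne : Ideal.ofList fs ≠ ⊤ := by
      intro h
      have hle : Ideal.ofList fs ≤ maximalIdeal A := Ideal.span_le.mpr (fun x hx => hmem' x hx)
      exact (IsLocalRing.maximalIdeal.isMaximal A).ne_top (top_le_iff.mp (h ▸ hle))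
    haveI : Nontrivial (A ⧸ Ideal.ofList fs) := Ideal.Quotient.nontrivial_iff.mpr hne
    haveI : IsLocalRing (A ⧸ Ideal.ofList fs) :=
      IsLocalRing.of_surjective' (Ideal.Quotient.mk _) Ideal.Quotient.mk_surjective
    have hfm' : Ideal.Quotient.mk (Ideal.ofList fs) f ∈ maximalIdeal (A ⧸ Ideal.ofList fs) := by
      haveI := IsLocalHom.of_surjective (Ideal.Quotient.mk (Ideal.ofList fs))
        Ideal.Quotient.mk_surjective
      rw [IsLocalRing.mem_maximalIdeal, mem_nonunits_iff]
      intro hu
      exact ((IsLocalRing.mem_maximalIdeal f).mp hfm)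
        (isUnit_of_map_unit (Ideal.Quotient.mk (Ideal.ofList fs)) f hu)
    -- Step 5: conclude
    have hB' : LocCoh.IsGorensteinLocalRing ((A ⧸ Ideal.ofList fs) ⧸
        Ideal.span {Ideal.Quotient.mk (Ideal.ofList fs) f}) :=
      (Groth.Agent.S0343.result (A ⧸ Ideal.ofList fs) _ hfm' hreg).mp hB
    have hmap : (Ideal.span {f}).map (Ideal.Quotient.mk (Ideal.ofList fs)) =
        Ideal.span {Ideal.Quotient.mk (Ideal.ofList fs) f} := by
      rw [Ideal.map_span, Set.image_singleton]
    have e1 : ((A ⧸ Ideal.ofList fs) ⧸
        (Ideal.span {f}).map (Ideal.Quotient.mk (Ideal.ofList fs))) ≃+*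
        A ⧸ (Ideal.ofList fs ⊔ Ideal.span {f}) :=
      DoubleQuot.quotQuotEquivQuotSup (Ideal.ofList fs) (Ideal.span {f})
    have hsup : Ideal.ofList fs ⊔ Ideal.span {f} = Ideal.ofList (f :: fs) := by
      rw [Ideal.ofList_cons, sup_comm]
    exact gor_of_ringEquiv
      ((Ideal.quotEquivOfEq hmap.symm).trans (e1.trans (Ideal.quotEquivOfEq hsup))) hB'

/-- Koszul-regularity is preserved by flat ring maps. -/
theorem koszulRegular_map {R R' : Type u} [CommRing R] [CommRing R'] (ψ : R →+* R')
    (hflat : ψ.Flat) (l : List R)
    (h : ∀ i : ℤ, i ≠ 0 → IsZero ((koszulCx (ModuleCat.of R R) l).homology i)) :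
    ∀ i : ℤ, i ≠ 0 → IsZero ((koszulCx (ModuleCat.of R' R') (l.map ψ)).homology i) := by
  intro i hi
  rw [← isZero_homology_koszul_restrictScalars_iff ψ (ModuleCat.of R' R') l i]
  let Y : ModuleCat.{u} R := (ModuleCat.restrictScalars.{u} ψ).obj (ModuleCat.of R' R')
  haveI : Module.Flat R Y := by
    letI := ψ.toAlgebra
    haveI hf : Module.Flat R R' := hflat
    let e : Y ≃ₗ[R] R' :=
      { toFun := fun x => x
        invFun := fun x => x
        map_add' := fun _ _ => rfl
        map_smul' := fun _ _ => rfl
        left_inv := fun _ => rfl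
        right_inv := fun _ => rfl }
    exact Module.Flat.of_linearEquiv e
  have h1 := isZero_homology_koszul_tensorLeft Y (ModuleCat.of R R) l i (h i hi)
  exact h1.of_iso ((HomologicalComplex.homologyFunctor _ _ i).mapIso (koszulIso (ρ_ Y).symm l))

end koszul

section lci

open CohIII Groth.Agent.Lib.Helper14.KoszulFun

/-- The quotient of a Gorenstein ring by a Koszul-regular ideal is Gorenstein. -/
theorem gorRing_quot_of_isKoszulRegularIdeal {P : Type u} [CommRing P]
    (hP : LocCoh.IsGorensteinRing P) (I : Ideal P) (hI : LCI.IsKoszulRegularIdeal I) :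
    LocCoh.IsGorensteinRing (P ⧸ I) := by
  haveI := hP
  refine { isGorensteinLocalRing_localization := fun Q _ => ?_ }
  have hQ'p : (Q.comap (Ideal.Quotient.mk I)).IsPrime := Ideal.comap_isPrime _ _
  generalize hQ' : Q.comap (Ideal.Quotient.mk I) = Q' at hQ'p
  haveI := hQ'p
  obtain ⟨e⟩ := nonempty_quotLocEquiv I Q Q' hQ'.symm
  refine gor_of_ringEquiv e.symm ?_
  have hIQ : I ≤ Q' := by
    intro x hx
    rw [← hQ', Ideal.mem_comap, Ideal.Quotient.eq_zero_iff_mem.mpr hx]
    exact Q.zero_mem
  obtain ⟨g, hg, l, hl, hspan⟩ := hI ⟨Q', hQ'p⟩ hIQ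
  have hg' : g ∈ Q'.primeCompl := hg
  have hu : IsUnit (algebraMap P (Localization.AtPrime Q') g) :=
    IsLocalization.map_units (Localization.AtPrime Q') (⟨g, hg'⟩ : Q'.primeCompl)
  let ψ : Localization.Away g →+* Localization.AtPrime Q' := IsLocalization.Away.lift g hu
  have hψ : ψ.comp (algebraMap P (Localization.Away g)) =
      algebraMap P (Localization.AtPrime Q') := IsLocalization.Away.lift_comp g hu
  have hflat : ψ.Flat := by
    letI := ψ.toAlgebra
    haveI : IsScalarTower P (Localization.Away g) (Localization.AtPrime Q') :=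
      IsScalarTower.of_algebraMap_eq' hψ.symm
    haveI : IsLocalization (Q'.primeCompl.map (algebraMap P (Localization.Away g)))
        (Localization.AtPrime Q') :=
      IsLocalization.isLocalization_of_submonoid_le (Localization.Away g)
        (Localization.AtPrime Q') (Submonoid.powers g) Q'.primeCompl
        (Submonoid.powers_le.mpr hg')
    exact IsLocalization.flat (Localization.AtPrime Q')
      (Q'.primeCompl.map (algebraMap P (Localization.Away g)))
  have hreg := koszulRegular_map ψ hflat l ((isKoszulRegularSeq_iff _ l).mp hl)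
  have hspan' : I.map (algebraMap P (Localization.AtPrime Q')) = Ideal.ofList (l.map ψ) := by
    rw [← hψ, ← Ideal.map_map, hspan]
    exact Ideal.map_ofList ψ l
  have hmem : ∀ x ∈ l.map ψ, x ∈ maximalIdeal (Localization.AtPrime Q') := by
    intro x hx
    have h1 : x ∈ Ideal.ofList (l.map ψ) := Ideal.subset_span hx
    rw [← hspan'] at h1
    have h2 : I.map (algebraMap P (Localization.AtPrime Q')) ≤
        maximalIdeal (Localization.AtPrime Q') := by
      rw [← Localization.AtPrime.map_eq_maximalIdeal]
      exact Ideal.map_mono hIQ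
    exact h2 h1
  have hgor := gor_quot_of_koszulRegular (hP.isGorensteinLocalRing_localization Q')
    (l.map ψ) hmem hreg
  exact gor_of_ringEquiv (Ideal.quotEquivOfEq hspan'.symm) hgor

end lci

end Groth.Agent.Lib.Helper4.GorRing
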