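import Groth.Prelude.Def_ega3

/-!
# Koszul complexes (prelude `CohIII.koszulCx`): multiplication by elements of the ideal is
null-homotopic
-/

set_option autoImplicit false

universe u v w

open CategoryTheory CategoryTheory.Limits CochainComplex HomComplex

namespace Groth.Agent.Lib.Helper4

section cone

variable {A : Type u} [CommRing A] {C : Type v} [Category.{w} C] [Preadditive C]
  [HasBinaryBiproducts C] [Linear A C]

lemma cochain_ofHom_smul {F G : CochainComplex C ℤ} (a : A) (f : F ⟶ G) :
    Cochain.ofHom (a • f) = a • Cochain.ofHom f := by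
  ext p
  simp

/-- Multiplication by `x` on the cone of `x • 𝟙 K` is null-homotopic. -/
noncomputable def mappingConeSMulHomotopy (K : CochainComplex C ℤ) (x : A) :
    Homotopy (x • 𝟙 (mappingCone (x • 𝟙 K))) 0 :=
  mappingCone.descHomotopy (x • 𝟙 K) _ _ 0 (mappingCone.inl (x • 𝟙 K))
    (by simp [cochain_ofHom_smul])
    (by simp [cochain_ofHom_smul])

/-- A null-homotopy of `a • 𝟙 K` induces one of `a • 𝟙` on the cone of `x • 𝟙 K`. -/
noncomputable def mappingConeHomotopyOfHomotopy (K : CochainComplex C ℤ) (x a : A)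
    (s : Homotopy (a • 𝟙 K) 0) : Homotopy (a • 𝟙 (mappingCone (x • 𝟙 K))) 0 :=
  mappingCone.descHomotopy (x • 𝟙 K) _ _
    (-((Cochain.ofHomotopy s).comp (mappingCone.inl (x • 𝟙 K)) (by norm_num : (-1 : ℤ) + -1 = -2)))
    ((Cochain.ofHomotopy s).comp (Cochain.ofHom (mappingCone.inr (x • 𝟙 K))) (add_zero _))
    (by
      rw [δ_neg, δ_comp (Cochain.ofHomotopy s) (mappingCone.inl (x • 𝟙 K))
        (by norm_num : (-1 : ℤ) + -1 = -2) 0 0 (-1) (by norm_num) (by norm_num) (by norm_num)]
      simp [cochain_ofHom_smul])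
    (by simp [cochain_ofHom_smul])

end cone

section koszul

variable {A : Type u} [CommRing A]

/-- Multiplication by a member of the list is null-homotopic on the Koszul complex. -/
theorem koszulCx_smul_homotopic_zero_of_mem (M : ModuleCat.{u} A) :
    ∀ (xs : List A) (x : A), x ∈ xs → Nonempty (Homotopy (x • 𝟙 (CohIII.koszulCx M xs)) 0) := by
  intro xs
  induction xs with
  | nil => intro x hx; exact absurd hx List.not_mem_nil
  | cons y ys ih =>
    intro x hx
    rcases List.mem_cons.mp hx with rfl | hx'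
    · exact ⟨mappingConeSMulHomotopy (CohIII.koszulCx M ys) x⟩
    · obtain ⟨s⟩ := ih x hx'
      exact ⟨mappingConeHomotopyOfHomotopy (CohIII.koszulCx M ys) y x s⟩

/-- Multiplication by an element of the ideal generated by the list is null-homotopic on the
Koszul complex. -/
theorem koszulCx_smul_homotopic_zero (M : ModuleCat.{u} A) (xs : List A) (a : A)
    (ha : a ∈ Ideal.span {x | x ∈ xs}) :
    Nonempty (Homotopy (a • 𝟙 (CohIII.koszulCx M xs)) 0) := by
  induction ha using Submodule.span_induction with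
  | mem x hx => exact koszulCx_smul_homotopic_zero_of_mem M xs x hx
  | zero => exact ⟨Homotopy.ofEq (zero_smul _ _)⟩
  | add a b _ _ ha hb =>
    obtain ⟨sa⟩ := ha
    obtain ⟨sb⟩ := hb
    exact ⟨(Homotopy.ofEq (add_smul a b _)).trans ((sa.add sb).trans (Homotopy.ofEq (add_zero 0)))⟩
  | smul c a _ ha =>
    obtain ⟨sa⟩ := ha
    exact ⟨(Homotopy.ofEq (by rw [smul_eq_mul, mul_smul])).trans
      ((sa.smul c).trans (Homotopy.ofEq (smul_zero c)))⟩

end koszul

end Groth.Agent.Lib.Helper4
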