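import Groth.Prelude.Def_Found
import Groth.Agent.Lib.Helper4.Depth2
import Mathlib.RingTheory.Ideal.KrullsHeightTheorem

/-!
# Catenary Noetherian local rings: coheight along covering relations
-/

set_option autoImplicit false

universe u

namespace Groth.Agent.Lib.Helper4

section series

variable {α : Type*} [Preorder α]

lemma cons_apply_succ (s : LTSeries α) (x : α) (h : x < s.head) (k : ℕ) (hk : k < s.length + 1)
    (hk' : k + 1 < (s.cons x h).length + 1) :
    (s.cons x h) ⟨k + 1, hk'⟩ = s ⟨k, hk⟩ :=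
  RelSeries.cons_cast_succ s x h ⟨k, hk⟩

/-- Saturation of `cons`. -/
lemma saturated_cons (s : LTSeries α) (x : α) (h : x < s.head) (hx : x ⋖ s.head)
    (hs : ∀ i : Fin s.length, s i.castSucc ⋖ s i.succ) :
    ∀ i : Fin (s.cons x h).length, (s.cons x h) i.castSucc ⋖ (s.cons x h) i.succ := by
  intro i
  obtain ⟨j, hj⟩ := i
  have hlen : (s.cons x h).length = s.length + 1 := RelSeries.cons_length _ _ _
  cases j with
  | zero =>
    have e0 : (s.cons x h) (Fin.castSucc ⟨0, hj⟩) = x := rfl
    have e1 : (s.cons x h) (Fin.succ ⟨0, hj⟩) = s.head :=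
      cons_apply_succ s x h 0 (by omega) (by omega)
    rw [e0, e1]
    exact hx
  | succ k =>
    have hk : k < s.length := by omega
    have e0 : (s.cons x h) (Fin.castSucc ⟨k + 1, hj⟩) = s (Fin.castSucc ⟨k, hk⟩) :=
      cons_apply_succ s x h k (by omega) (by omega)
    have e1 : (s.cons x h) (Fin.succ ⟨k + 1, hj⟩) = s (Fin.succ ⟨k, hk⟩) :=
      cons_apply_succ s x h (k + 1) (by omega) (by omega)
    rw [e0, e1]
    exact hs ⟨k, hk⟩

end series

section local_

variable {A : Type u} [CommRing A] [IsLocalRing A] [IsNoetherianRing A]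

/-- In a Noetherian local ring, every prime `x` is the head of a saturated chain of primes ending at
the maximal ideal, of length `coheight x`. -/
theorem exists_saturated_chain_of_coheight : ∀ (n : ℕ) (x : PrimeSpectrum A),
    Order.coheight x = n →
    ∃ s : LTSeries (PrimeSpectrum A), s.head = x ∧ s.last = IsLocalRing.closedPoint A ∧
      s.length = n ∧ ∀ i : Fin s.length, s i.castSucc ⋖ s i.succ := by
  intro n
  induction n with
  | zero =>
    intro x hx
    rw [Nat.cast_zero, Order.coheight_eq_zero] at hx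
    refine ⟨RelSeries.singleton _ x, rfl, ?_, rfl, fun i => i.elim0⟩
    have hle : x ≤ IsLocalRing.closedPoint A := IsLocalRing.le_maximalIdeal x.2.ne_top
    exact le_antisymm hle (hx hle)
  | succ n ih =>
    intro x hx
    rw [Nat.cast_succ, Order.coheight_eq_coe_add_one_iff] at hx
    obtain ⟨-, ⟨y, hxy, hy⟩, hall⟩ := hx
    obtain ⟨s, hhead, hlast, hlen, hsat⟩ := ih y hy
    have hcov : x ⋖ y := by
      refine ⟨hxy, fun w hxw hwy => ?_⟩
      have h1 := hall w hxw
      have h2 := Order.coheight_add_one_le hwy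
      rw [hy] at h2
      have h3 : ((n : ℕ∞) + 1) ≤ n := h2.trans h1
      have : n + 1 ≤ n := by exact_mod_cast h3
      omega
    refine ⟨s.cons x (hhead ▸ hxy), rfl, ?_, ?_, ?_⟩
    · rw [RelSeries.last_cons]
      exact hlast
    · rw [RelSeries.cons_length, hlen]
    · exact saturated_cons s x _ (hhead ▸ hcov) hsat

lemma coheight_ne_top (z : PrimeSpectrum A) : Order.coheight z ≠ ⊤ := by
  intro hz
  have h1 := Order.coheight_le_krullDim z
  rw [hz] at h1
  have h2 : ringKrullDim A < ⊤ := ringKrullDim_lt_top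
  exact (lt_of_le_of_lt h1 h2).ne rfl

/-- In a catenary Noetherian local ring, `dim A/x = dim A/y + 1` whenever `x ⋖ y` are primes. -/
theorem coheight_eq_add_one_of_covBy (hc : CAlg.IsCatenary A) {x y : PrimeSpectrum A}
    (hxy : x ⋖ y) : Order.coheight x = Order.coheight y + 1 := by
  obtain ⟨n, hn⟩ := ENat.ne_top_iff_exists.mp (coheight_ne_top x)
  obtain ⟨m, hm⟩ := ENat.ne_top_iff_exists.mp (coheight_ne_top y)
  obtain ⟨s, hsh, hsl, hslen, hssat⟩ := exists_saturated_chain_of_coheight n x hn.symm
  obtain ⟨t, hth, htl, htlen, htsat⟩ := exists_saturated_chain_of_coheight m y hm.symm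
  have hlt : x < t.head := hth ▸ hxy.lt
  have key := hc.2 s (t.cons x hlt) (by rw [hsh]; rfl) (by rw [hsl, RelSeries.last_cons, htl])
    hssat (saturated_cons t x hlt (hth ▸ hxy) htsat)
  rw [RelSeries.cons_length, hslen, htlen] at key
  rw [← hn, ← hm, key]
  push_cast
  rfl

end local_

end Groth.Agent.Lib.Helper4
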