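import Mathlib
import Groth.Agent.Lib.Helper4.RegCM
import Groth.Agent.Lib.Helper4.SerreNormal
import Groth.Agent.Lib.Helper3.RingSk

/-!
# Hypersurfaces in regular rings are Cohen–Macaulay (helper4)
-/

set_option autoImplicit false
set_option linter.style.haveILetI false
set_option linter.unusedSectionVars false
universe u
open IsLocalRing

namespace Groth.Agent.Lib.Helper4.HypersurfaceCM

open Groth.Agent.Lib.Helper4

variable {A : Type u} [CommRing A]

/-- The kernel of `A_p → (A/f)_q` is generated by `f`. -/
theorem ker_localRingHom_quotient (f : A) (q : Ideal (A ⧸ Ideal.span {f})) [q.IsPrime]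
    (p : Ideal A) [p.IsPrime] (hp : p = q.comap (Ideal.Quotient.mk (Ideal.span {f}))) :
    RingHom.ker (Localization.localRingHom p q (Ideal.Quotient.mk (Ideal.span {f})) hp) =
      Ideal.span {algebraMap A (Localization.AtPrime p) f} := by
  apply le_antisymm
  · intro y hy
    rw [RingHom.mem_ker] at hy
    obtain ⟨⟨a, s⟩, hys⟩ := IsLocalization.surj p.primeCompl y
    have hys' : y * algebraMap A (Localization.AtPrime p) (s : A) =
        algebraMap A (Localization.AtPrime p) a := hys
    have h1 := congrArg (Localization.localRingHom p q (Ideal.Quotient.mk (Ideal.span {f})) hp) hys'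
    rw [map_mul, hy, zero_mul, Localization.localRingHom_to_map] at h1
    obtain ⟨m, hm⟩ := (IsLocalization.map_eq_zero_iff q.primeCompl (Localization.AtPrime q) _).mp
      h1.symm
    obtain ⟨m₀, hm₀⟩ := Ideal.Quotient.mk_surjective (m : A ⧸ Ideal.span {f})
    have hm₀p : m₀ ∈ p.primeCompl := by
      intro h
      rw [SetLike.mem_coe, hp, Ideal.mem_comap, hm₀] at h
      exact m.2 h
    rw [← hm₀, ← map_mul, Ideal.Quotient.eq_zero_iff_mem, Ideal.mem_span_singleton'] at hm
    obtain ⟨g, hg⟩ := hm
    obtain ⟨v, hv⟩ := (IsLocalization.map_units (Localization.AtPrime p)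
      ((s * ⟨m₀, hm₀p⟩ : p.primeCompl))).exists_left_inv
    have hv' : v * algebraMap A (Localization.AtPrime p) ((s : A) * m₀) = 1 := hv
    rw [Ideal.mem_span_singleton']
    refine ⟨algebraMap A _ g * v, ?_⟩
    have h2 : y * algebraMap A (Localization.AtPrime p) ((s : A) * m₀) =
        algebraMap A _ g * algebraMap A _ f := by
      rw [map_mul, ← mul_assoc, hys', ← map_mul, ← map_mul, mul_comm a m₀, hg]
    calc algebraMap A (Localization.AtPrime p) g * v * algebraMap A _ f
        = (algebraMap A _ g * algebraMap A _ f) * v := by ring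
      _ = y * algebraMap A _ ((s : A) * m₀) * v := by rw [h2]
      _ = y * (v * algebraMap A _ ((s : A) * m₀)) := by ring
      _ = y := by rw [hv', mul_one]
  · rw [Ideal.span_le, Set.singleton_subset_iff, SetLike.mem_coe, RingHom.mem_ker,
      Localization.localRingHom_to_map,
      Ideal.Quotient.eq_zero_iff_mem.mpr (Ideal.mem_span_singleton_self f), map_zero]

variable [IsNoetherianRing A]

/-- If all local rings of `A` are regular, then `A/(f)` is Cohen–Macaulay at every prime:
`ht q ≤ depth (A/f)_q`. -/
theorem height_le_depth_quotient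
    (hreg : ∀ (p : Ideal A) (_ : p.IsPrime), IsRegularLocalRing (Localization.AtPrime p))
    (f : A) (q : Ideal (A ⧸ Ideal.span {f})) [q.IsPrime] :
    q.height ≤ LocCoh.depth (Localization.AtPrime q) (Localization.AtPrime q) := by
  obtain ⟨p, hp⟩ : ∃ p : Ideal A, p = q.comap (Ideal.Quotient.mk (Ideal.span {f})) := ⟨_, rfl⟩
  haveI : p.IsPrime := hp ▸ Ideal.IsPrime.comap _
  haveI := hreg p inferInstance
  obtain ⟨π, hπdef⟩ : ∃ π : Localization.AtPrime p →+* Localization.AtPrime q,
      π = Localization.localRingHom p q (Ideal.Quotient.mk (Ideal.span {f})) hp := ⟨_, rfl⟩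
  have hπ : Function.Surjective π := by
    subst hp
    rw [hπdef]
    exact RingHom.surjective_localRingHom_of_surjective _ Ideal.Quotient.mk_surjective q
  have hker : RingHom.ker π = Ideal.span {algebraMap A (Localization.AtPrime p) f} := by
    rw [hπdef]; exact ker_localRingHom_quotient f q p hp
  obtain ⟨d, hd⟩ := RegCM.exists_nat_ringKrullDim (Localization.AtPrime p)
  have hdepth := RegCM.depth_eq_ringKrullDim (Localization.AtPrime p)
  rw [hd] at hdepth
  have hdepth' : LocCoh.depth (Localization.AtPrime p) (Localization.AtPrime p) = d := by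
    exact_mod_cast hdepth
  have hdimq : ringKrullDim (Localization.AtPrime q) = q.height :=
    IsLocalization.AtPrime.ringKrullDim_eq_height q _
  by_cases ht : algebraMap A (Localization.AtPrime p) f = 0
  · have hinj : Function.Injective π := by
      rw [RingHom.injective_iff_ker_eq_bot, hker, ht]
      simp
    obtain ⟨e, he⟩ : ∃ e : Localization.AtPrime p ≃+* Localization.AtPrime q, True :=
      ⟨RingEquiv.ofBijective π ⟨hinj, hπ⟩, trivial⟩
    have h1 := Groth.Agent.Lib.Helper5.Hartogs.depth_le_of_ringEquiv e
    have h2 := ringKrullDim_eq_of_ringEquiv e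
    rw [hd, hdimq] at h2
    have h3 : (d : ℕ∞) = q.height := by exact_mod_cast h2
    rw [← h3, ← hdepth']
    exact h1
  · haveI : IsDomain (Localization.AtPrime p) :=
      Groth.Agent.Lib.Helper9.RegLocal.isDomain_of_isRegularLocalRing _
    have htnzd : algebraMap A (Localization.AtPrime p) f ∈
        nonZeroDivisors (Localization.AtPrime p) := mem_nonZeroDivisors_of_ne_zero ht
    have htm : algebraMap A (Localization.AtPrime p) f ∈ maximalIdeal (Localization.AtPrime p) := by
      rw [IsLocalization.AtPrime.to_map_mem_maximal_iff (Localization.AtPrime p) p, hp,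
        Ideal.mem_comap, Ideal.Quotient.eq_zero_iff_mem.mpr (Ideal.mem_span_singleton_self f)]
      exact zero_mem _
    have h1 := Groth.Agent.Lib.Helper3.depth_add_one_of_surjective π hπ _ htnzd htm hker
    have h2 := Groth.Agent.Lib.Helper3.ringKrullDim_add_one_of_surjective π hπ _ htnzd htm hker
    rw [hd, hdimq] at h2
    rw [hdepth'] at h1
    have h3 : q.height + 1 = (d : ℕ∞) := by exact_mod_cast h2
    have h4 : q.height + 1 =
        LocCoh.depth (Localization.AtPrime q) (Localization.AtPrime q) + 1 := h3.trans h1.symm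
    exact le_of_eq ((ENat.add_left_injective_of_ne_top ENat.one_ne_top) h4)

/-- Hypersurfaces in regular rings satisfy `(S_k)` for every `k`. -/
theorem hasSk_quotient
    (hreg : ∀ (p : Ideal A) (_ : p.IsPrime), IsRegularLocalRing (Localization.AtPrime p))
    (f : A) (k : ℕ) : LocCoh.HasSk k (A ⧸ Ideal.span {f}) (A ⧸ Ideal.span {f}) := by
  rw [hasSk_self_iff']
  intro q _
  exact (min_le_right _ _).trans (height_le_depth_quotient hreg f q)

end Groth.Agent.Lib.Helper4.HypersurfaceCM
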