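import Mathlib
import Groth.Agent.Lib.Helper4.HypersurfaceCM
import Groth.Agent.Lib.Helper4.LocLoc
import Groth.Agent.Lib.Helper4.DepthPrime
import Groth.Agent.Lib.Helper4.CM2

/-!
# `(S_k)` lifts from `A/tA` to `A` (helper4)
-/

set_option autoImplicit false
set_option linter.style.haveILetI false
set_option linter.unusedSectionVars false
universe u
open IsLocalRing

namespace Groth.Agent.Lib.Helper4.SkLift

open Groth.Agent.Lib.Helper4

variable {A : Type u} [CommRing A] [IsNoetherianRing A]

/-- For a prime `P ∋ t` (with `t` a nonzerodivisor): the corresponding prime `q` of `A/t`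
satisfies `ht q + 1 = ht P` and `depth (A/t)_q + 1 = depth A_P`. -/
theorem depth_height_of_mem (t : A) (ht : t ∈ nonZeroDivisors A) (P : Ideal A) [P.IsPrime]
    (htP : t ∈ P) :
    ∃ q : Ideal (A ⧸ Ideal.span {t}), ∃ _ : q.IsPrime,
      q.height + 1 = P.height ∧
      LocCoh.depth (Localization.AtPrime q) (Localization.AtPrime q) + 1 =
        LocCoh.depth (Localization.AtPrime P) (Localization.AtPrime P) := by
  have hle : Ideal.span {t} ≤ P := (Ideal.span_singleton_le_iff_mem P).mpr htP
  obtain ⟨q, hq⟩ : ∃ q : Ideal (A ⧸ Ideal.span {t}),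
      q = P.map (Ideal.Quotient.mk (Ideal.span {t})) := ⟨_, rfl⟩
  have hcomap : P = q.comap (Ideal.Quotient.mk (Ideal.span {t})) := by
    rw [hq, Ideal.comap_map_of_surjective _ Ideal.Quotient.mk_surjective,
      ← RingHom.ker_eq_comap_bot, Ideal.mk_ker, sup_eq_left.mpr hle]
  haveI hqp : q.IsPrime := by
    rw [hq]
    exact Ideal.map_isPrime_of_surjective Ideal.Quotient.mk_surjective
      (by rw [Ideal.mk_ker]; exact hle)
  refine ⟨q, hqp, ?_, ?_⟩
  all_goals
    obtain ⟨π, hπdef⟩ : ∃ π : Localization.AtPrime P →+* Localization.AtPrime q,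
        π = Localization.localRingHom P q (Ideal.Quotient.mk (Ideal.span {t})) hcomap := ⟨_, rfl⟩
    have hker : RingHom.ker π = Ideal.span {algebraMap A (Localization.AtPrime P) t} := by
      rw [hπdef]; exact HypersurfaceCM.ker_localRingHom_quotient t q P hcomap
    have hπ : Function.Surjective π := by
      rw [hπdef]
      clear hker hπdef
      subst hcomap
      exact RingHom.surjective_localRingHom_of_surjective _ Ideal.Quotient.mk_surjective q
    have htnzd : algebraMap A (Localization.AtPrime P) t ∈
        nonZeroDivisors (Localization.AtPrime P) :=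
      IsLocalization.map_nonZeroDivisors_le P.primeCompl (S := Localization.AtPrime P)
        (Submonoid.mem_map_of_mem _ ht)
    have htm : algebraMap A (Localization.AtPrime P) t ∈
        maximalIdeal (Localization.AtPrime P) := by
      rw [IsLocalization.AtPrime.to_map_mem_maximal_iff (Localization.AtPrime P) P]
      exact htP
  · have h2 := Groth.Agent.Lib.Helper3.ringKrullDim_add_one_of_surjective π hπ _ htnzd htm hker
    rw [IsLocalization.AtPrime.ringKrullDim_eq_height q (Localization.AtPrime q),
      IsLocalization.AtPrime.ringKrullDim_eq_height P (Localization.AtPrime P)] at h2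
    exact_mod_cast h2
  · exact Groth.Agent.Lib.Helper3.depth_add_one_of_surjective π hπ _ htnzd htm hker

/-- If `Q` is minimal over `P + (t)` then `depth A_Q ≤ depth A_P + 1`. -/
theorem depth_le_depth_add_one (P Q : Ideal A) [P.IsPrime] [Q.IsPrime] (t : A)
    (hQ : Q ∈ (P ⊔ Ideal.span {t}).minimalPrimes) :
    LocCoh.depth (Localization.AtPrime Q) (Localization.AtPrime Q) ≤
      LocCoh.depth (Localization.AtPrime P) (Localization.AtPrime P) + 1 := by
  have hPQ : P ≤ Q := le_sup_left.trans hQ.1.2
  have hdisj : Disjoint (Q.primeCompl : Set A) (P : Set A) := by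
    rw [Set.disjoint_left]
    intro x hx hxP
    exact hx (hPQ hxP)
  haveI h𝔭 : (P.map (algebraMap A (Localization.AtPrime Q))).IsPrime :=
    IsLocalization.isPrime_of_isPrime_disjoint Q.primeCompl (Localization.AtPrime Q) P
      inferInstance hdisj
  obtain ⟨b, hb⟩ := exists_nat_depth (R := Localization.AtPrime Q) (M := Localization.AtPrime Q)
  have hpM : (P.map (algebraMap A (Localization.AtPrime Q))) •
      (⊤ : Submodule (Localization.AtPrime Q) (Localization.AtPrime Q)) ≠ ⊤ :=
    smul_top_ne_top_of_ne_top _ h𝔭.ne_top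
  obtain ⟨f, hf⟩ := ENat.ne_top_iff_exists.mp (idealDepth_ne_top _ hpM)
  haveI : Nontrivial (Localization.AtPrime Q ⧸ P.map (algebraMap A (Localization.AtPrime Q))) :=
    Ideal.Quotient.nontrivial_iff.mpr h𝔭.ne_top
  have hdimle : ringKrullDim
      (Localization.AtPrime Q ⧸ P.map (algebraMap A (Localization.AtPrime Q))) ≤ 1 := by
    refine (ringKrullDim_quotient_map_le_height P Q).trans ?_
    have h1 : (Q.map (Ideal.Quotient.mk P)).height ≤ 1 := by
      have hmin : Q.map (Ideal.Quotient.mk P) ∈
          (Ideal.span {Ideal.Quotient.mk P t}).minimalPrimes := by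
        have h2 := Ideal.minimalPrimes_map_of_surjective (f := Ideal.Quotient.mk P)
          Ideal.Quotient.mk_surjective (Ideal.span {t})
        rw [Ideal.map_span, Set.image_singleton, Ideal.mk_ker, sup_comm] at h2
        rw [h2]
        exact ⟨Q, hQ, rfl⟩
      exact Ideal.height_le_one_of_isPrincipal_of_mem_minimalPrimes _ _ hmin
    exact_mod_cast h1
  obtain ⟨e, he, he1⟩ : ∃ e : ℕ, ringKrullDim
      (Localization.AtPrime Q ⧸ P.map (algebraMap A (Localization.AtPrime Q))) =
        ((e : ℕ∞) : WithBot ℕ∞) ∧ e ≤ 1 := by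
    have h0 : (0 : WithBot ℕ∞) ≤ ringKrullDim
        (Localization.AtPrime Q ⧸ P.map (algebraMap A (Localization.AtPrime Q))) :=
      ringKrullDim_nonneg_of_nontrivial
    have hne : ringKrullDim
        (Localization.AtPrime Q ⧸ P.map (algebraMap A (Localization.AtPrime Q))) ≠ ⊥ := by
      intro h
      rw [h] at h0
      exact absurd h0 (by simp)
    obtain ⟨x, hx⟩ := WithBot.ne_bot_iff_exists.mp hne
    rw [← hx] at hdimle
    have hx1 : x ≤ 1 := by exact_mod_cast hdimle
    have hxtop : x ≠ ⊤ := ne_top_of_le_ne_top ENat.one_ne_top hx1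
    obtain ⟨e, rfl⟩ := ENat.ne_top_iff_exists.mp hxtop
    exact ⟨e, hx.symm, by exact_mod_cast hx1⟩
  have key := depth_le_idealDepth_add_ringKrullDim_quotient (R := Localization.AtPrime Q)
    (M := Localization.AtPrime Q) (P.map (algebraMap A (Localization.AtPrime Q))) hb hf.symm he
  haveI : Nontrivial (LocalizedModule P.primeCompl A) :=
    (Groth.Agent.Lib.Helper28.localizedSelfEquiv P.primeCompl).toEquiv.nontrivial
  have hf' : (f : ℕ∞) ≤ LocCoh.depth (Localization.AtPrime P) (Localization.AtPrime P) := by
    have h3 := natCast_le_depth_of_le_idealDepth_map (M := A) P Q hPQ f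
      (by
        intro h
        apply hpM
        exact (smul_top_eq_top_congr _
          (Groth.Agent.Lib.Helper28.localizedSelfEquiv Q.primeCompl)).mp h)
      (by
        rw [Groth.Agent.Lib.Helper28.idealDepth_congr
          (Groth.Agent.Lib.Helper28.localizedSelfEquiv Q.primeCompl), ← hf])
    rwa [depth_localizedModule_self] at h3
  rw [hb]
  calc (b : ℕ∞) ≤ ((f + e : ℕ) : ℕ∞) := by exact_mod_cast key
    _ ≤ (f : ℕ∞) + 1 := by
        push_cast
        exact add_le_add_right (by exact_mod_cast he1) _
    _ ≤ LocCoh.depth (Localization.AtPrime P) (Localization.AtPrime P) + 1 :=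
        add_le_add_left hf' 1

/-- `(S_k)` lifts from `A/tA` to `A` for a nonzerodivisor `t` in the maximal ideal of a Noetherian
local ring. -/
theorem hasSk_of_hasSk_quotient [IsLocalRing A] (k : ℕ) (t : A) (htm : t ∈ maximalIdeal A)
    (ht : t ∈ nonZeroDivisors A)
    (hS : LocCoh.HasSk k (A ⧸ Ideal.span {t}) (A ⧸ Ideal.span {t})) : LocCoh.HasSk k A A := by
  rw [hasSk_self_iff'] at hS ⊢
  have hA : ∀ (P : Ideal A) [P.IsPrime], t ∈ P → min ((k : ℕ∞) + 1) P.height ≤
      LocCoh.depth (Localization.AtPrime P) (Localization.AtPrime P) := by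
    intro P _ htP
    obtain ⟨q, hqp, hht, hdep⟩ := depth_height_of_mem t ht P htP
    haveI := hqp
    have h1 := hS q
    rw [← hht, ← hdep, min_add_add_right]
    exact add_le_add_left h1 1
  intro P _
  by_cases htP : t ∈ P
  · exact (min_le_min_right _ le_self_add).trans (hA P htP)
  · have hPt : P ⊔ Ideal.span {t} ≤ maximalIdeal A :=
      sup_le (le_maximalIdeal (Ideal.IsPrime.ne_top inferInstance))
        ((Ideal.span_singleton_le_iff_mem _).mpr htm)
    obtain ⟨Q, hQmin, hQm⟩ := Ideal.exists_minimalPrimes_le hPt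
    haveI hQp : Q.IsPrime := hQmin.1.1
    have hPQ : P ≤ Q := le_sup_left.trans hQmin.1.2
    have htQ : t ∈ Q := hQmin.1.2 (Ideal.mem_sup_right (Ideal.mem_span_singleton_self t))
    have hAQ := hA Q htQ
    have hlt : P < Q := lt_of_le_of_ne hPQ (fun h => htP (h ▸ htQ))
    have hht : P.height + 1 ≤ Q.height := Ideal.height_add_one_le_of_lt_of_isPrime hlt
    have hdep := depth_le_depth_add_one P Q t hQmin
    have h5 : min (k : ℕ∞) P.height + 1 ≤
        LocCoh.depth (Localization.AtPrime P) (Localization.AtPrime P) + 1 := by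
      rw [← min_add_add_right]
      exact (min_le_min_left _ hht).trans (hAQ.trans hdep)
    exact (ENat.add_le_add_iff_right ENat.one_ne_top).mp h5

end Groth.Agent.Lib.Helper4.SkLift
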