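import Mathlib
import Groth.Prelude.Def_EGA4b
import Groth.Agent.Lib.Helper4.SkLift
import Groth.Agent.Lib.Helper4.Catenary
import Groth.Agent.Lib.Helper4.SerreNormal
import Groth.Agent.Lib.Helper5.RegQuot
import Groth.Agent.Lib.Helper14.CatenaryDim
import Groth.Agent.Lib.Helper26.RegularRing

/-!
# `(R_k)` and equidimensionality lift from `A/tA` to `A` (helper4)

For a catenary Noetherian local ring `A` and a nonzerodivisor `t` in the maximal ideal.
-/

set_option autoImplicit false
set_option linter.style.haveILetI false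
set_option linter.unusedSectionVars false
universe u
open IsLocalRing

namespace Groth.Agent.Lib.Helper4.RkLift

open Groth.Agent.Lib.Helper4

section surj

/-- Regularity lifts along a surjection whose kernel is generated by a nonzerodivisor of the
maximal ideal. -/
theorem isRegularLocalRing_of_surjective {R C : Type u} [CommRing R] [IsLocalRing R]
    [IsNoetherianRing R] [CommRing C] (π : R →+* C) (hπ : Function.Surjective π) (t : R)
    (ht : t ∈ nonZeroDivisors R) (htm : t ∈ maximalIdeal R)
    (hker : RingHom.ker π = Ideal.span {t}) [hC : IsRegularLocalRing C] :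
    IsRegularLocalRing R := by
  have e1 : (R ⧸ RingHom.ker π) ≃+* C := RingHom.quotientKerEquivOfSurjective hπ
  have e2 : (R ⧸ RingHom.ker π) ≃+* (R ⧸ Ideal.ofList [t]) :=
    Ideal.quotEquivOfEq (by rw [hker, Ideal.ofList_singleton])
  have hq : IsRegularLocalRing (R ⧸ Ideal.ofList [t]) :=
    IsRegularLocalRing.of_ringEquiv (e1.symm.trans e2)
  refine Groth.Agent.Lib.Helper5.RegQuot.isRegularLocalRing_of_quotient R [t] ?_ hq
  apply RingTheory.Sequence.IsRegular.of_isWeaklyRegular_of_mem_maximalIdeal
  · intro r hr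
    rw [List.mem_singleton] at hr
    rw [hr]
    exact htm
  · rw [RingTheory.Sequence.isWeaklyRegular_singleton_iff, isSMulRegular_iff_right_eq_zero_of_smul]
    intro x hx
    exact (mem_nonZeroDivisors_iff_left.mp ht) x hx

/-- Transport of regularity along an equality of primes. -/
theorem isRegularLocalRing_atPrime_congr {R : Type u} [CommRing R] (P P' : Ideal R) [P.IsPrime]
    [P'.IsPrime] (h : P' = P) (hreg : IsRegularLocalRing (Localization.AtPrime P')) :
    IsRegularLocalRing (Localization.AtPrime P) := by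
  subst h
  exact hreg

/-- If `P ≤ Q` are primes and `R_Q` is regular then so is `R_P`. -/
theorem isRegularLocalRing_atPrime_of_le {R : Type u} [CommRing R] (P Q : Ideal R) [P.IsPrime]
    [Q.IsPrime] (hPQ : P ≤ Q) [IsRegularLocalRing (Localization.AtPrime Q)] :
    IsRegularLocalRing (Localization.AtPrime P) := by
  have hdisj : Disjoint (Q.primeCompl : Set R) (P : Set R) := by
    rw [Set.disjoint_left]
    intro x hx hxP
    exact hx (hPQ hxP)
  haveI h𝔭 : (P.map (algebraMap R (Localization.AtPrime Q))).IsPrime :=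
    IsLocalization.isPrime_of_isPrime_disjoint Q.primeCompl (Localization.AtPrime Q) P
      inferInstance hdisj
  have hcomap : (P.map (algebraMap R (Localization.AtPrime Q))).comap
      (algebraMap R (Localization.AtPrime Q)) = P :=
    IsLocalization.comap_map_of_isPrime_disjoint Q.primeCompl (Localization.AtPrime Q)
      inferInstance hdisj
  haveI := Groth.Agent.Lib.Helper26.RegularRing.isRegularLocalRing_localization_atPrime
    (Localization.AtPrime Q) (P.map (algebraMap R (Localization.AtPrime Q)))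
  have h2 : IsRegularLocalRing (Localization.AtPrime
      ((P.map (algebraMap R (Localization.AtPrime Q))).comap
        (algebraMap R (Localization.AtPrime Q)))) :=
    IsRegularLocalRing.of_ringEquiv
      (IsLocalization.localizationLocalizationAtPrimeIsoLocalization Q.primeCompl
        (P.map (algebraMap R (Localization.AtPrime Q)))).toRingEquiv.symm
  exact isRegularLocalRing_atPrime_congr P _ hcomap h2

end surj

section general

variable {A : Type u} [CommRing A] [IsNoetherianRing A]

lemma comap_map_mk {P I : Ideal A} (h : P ≤ I) :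
    (I.map (Ideal.Quotient.mk P)).comap (Ideal.Quotient.mk P) = I := by
  rw [Ideal.comap_map_of_surjective _ Ideal.Quotient.mk_surjective,
    ← RingHom.ker_eq_comap_bot, Ideal.mk_ker, sup_eq_left.mpr h]

/-- For a prime `P ∋ t` (with `t` a nonzerodivisor): the corresponding prime `q = P/t` of `A/t`
satisfies `ht q + 1 = ht P`, and regularity of `(A/t)_q` implies regularity of `A_P`. -/
theorem regular_height_of_mem_aux (t : A) (ht : t ∈ nonZeroDivisors A) (P : Ideal A) [P.IsPrime]
    (htP : t ∈ P) (q : Ideal (A ⧸ Ideal.span {t}))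
    (hq : q = P.map (Ideal.Quotient.mk (Ideal.span {t}))) :
    ∃ _ : q.IsPrime,
      q.height + 1 = P.height ∧
      (IsRegularLocalRing (Localization.AtPrime q) →
        IsRegularLocalRing (Localization.AtPrime P)) := by
  have hle : Ideal.span {t} ≤ P := (Ideal.span_singleton_le_iff_mem P).mpr htP
  have hcomap : P = q.comap (Ideal.Quotient.mk (Ideal.span {t})) := by
    rw [hq, Ideal.comap_map_of_surjective _ Ideal.Quotient.mk_surjective,
      ← RingHom.ker_eq_comap_bot, Ideal.mk_ker, sup_eq_left.mpr hle]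
  haveI hqp : q.IsPrime := by
    rw [hq]
    exact Ideal.map_isPrime_of_surjective Ideal.Quotient.mk_surjective
      (by rw [Ideal.mk_ker]; exact hle)
  refine ⟨hqp, ?_, ?_⟩
  all_goals
    obtain ⟨π, hπdef⟩ : ∃ π : Localization.AtPrime P →+* Localization.AtPrime q,
        π = Localization.localRingHom P q (Ideal.Quotient.mk (Ideal.span {t})) hcomap := ⟨_, rfl⟩
    have hker : RingHom.ker π = Ideal.span {algebraMap A (Localization.AtPrime P) t} := by
      rw [hπdef]; exact HypersurfaceCM.ker_localRingHom_quotient t q P hcomap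
    have hπ : Function.Surjective π := by
      rw [hπdef]
      clear hker hπdef
      subst hcomap
      exact RingHom.surjective_localRingHom_of_surjective _ Ideal.Quotient.mk_surjective q
    have htnzd : algebraMap A (Localization.AtPrime P) t ∈
        nonZeroDivisors (Localization.AtPrime P) :=
      IsLocalization.map_nonZeroDivisors_le P.primeCompl (S := Localization.AtPrime P)
        (Submonoid.mem_map_of_mem _ ht)
    have htm : algebraMap A (Localization.AtPrime P) t ∈
        maximalIdeal (Localization.AtPrime P) := by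
      rw [IsLocalization.AtPrime.to_map_mem_maximal_iff (Localization.AtPrime P) P]
      exact htP
  · have h2 := Groth.Agent.Lib.Helper3.ringKrullDim_add_one_of_surjective π hπ _ htnzd htm hker
    rw [IsLocalization.AtPrime.ringKrullDim_eq_height q (Localization.AtPrime q),
      IsLocalization.AtPrime.ringKrullDim_eq_height P (Localization.AtPrime P)] at h2
    exact_mod_cast h2
  · intro hreg
    haveI := hreg
    exact isRegularLocalRing_of_surjective π hπ _ htnzd htm hker

theorem regular_height_of_mem (t : A) (ht : t ∈ nonZeroDivisors A) (P : Ideal A) [P.IsPrime]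
    (htP : t ∈ P) :
    ∃ _ : (P.map (Ideal.Quotient.mk (Ideal.span {t}))).IsPrime,
      (P.map (Ideal.Quotient.mk (Ideal.span {t}))).height + 1 = P.height ∧
      (IsRegularLocalRing (Localization.AtPrime (P.map (Ideal.Quotient.mk (Ideal.span {t})))) →
        IsRegularLocalRing (Localization.AtPrime P)) :=
  regular_height_of_mem_aux t ht P htP _ rfl

/-- `(S_k)` on `A/t` gives depth `≥ min(k+1, ht P)` at primes `P ∋ t`. -/
theorem min_succ_height_le_depth (k : ℕ) (t : A) (ht : t ∈ nonZeroDivisors A)
    (hS : LocCoh.HasSk k (A ⧸ Ideal.span {t}) (A ⧸ Ideal.span {t})) (P : Ideal A) [P.IsPrime]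
    (htP : t ∈ P) :
    min ((k : ℕ∞) + 1) P.height ≤
      LocCoh.depth (Localization.AtPrime P) (Localization.AtPrime P) := by
  rw [hasSk_self_iff'] at hS
  obtain ⟨q, hqp, hht, hdep⟩ := SkLift.depth_height_of_mem t ht P htP
  haveI := hqp
  have h1 := hS q
  rw [← hht, ← hdep, min_add_add_right]
  exact add_le_add_left h1 1

/-- If `Q` is minimal over `P + (t)` with `t ∉ P` then there is no prime strictly between `P`
and `Q` (Krull's principal ideal theorem). -/
theorem covBy_of_mem_minimalPrimes (P Q : Ideal A) [hP : P.IsPrime] [hQp : Q.IsPrime] (t : A)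
    (htP : t ∉ P) (hQ : Q ∈ (P ⊔ Ideal.span {t}).minimalPrimes) :
    (⟨P, hP⟩ : PrimeSpectrum A) ⋖ ⟨Q, hQp⟩ := by
  have hPQ : P ≤ Q := le_sup_left.trans hQ.1.2
  have htQ : t ∈ Q := hQ.1.2 (Ideal.mem_sup_right (Ideal.mem_span_singleton_self t))
  have hlt : P < Q := lt_of_le_of_ne hPQ (fun h => htP (h ▸ htQ))
  refine ⟨hlt, ?_⟩
  intro z hPz hzQ
  haveI := z.2
  have hPz' : P < z.asIdeal := hPz
  have hzQ' : z.asIdeal < Q := hzQ
  have h1 : (Q.map (Ideal.Quotient.mk P)).height ≤ 1 := by
    have hmin : Q.map (Ideal.Quotient.mk P) ∈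
        (Ideal.span {Ideal.Quotient.mk P t}).minimalPrimes := by
      have h2 := Ideal.minimalPrimes_map_of_surjective (f := Ideal.Quotient.mk P)
        Ideal.Quotient.mk_surjective (Ideal.span {t})
      rw [Ideal.map_span, Set.image_singleton, Ideal.mk_ker, sup_comm] at h2
      rw [h2]
      exact ⟨Q, hQ, rfl⟩
    exact Ideal.height_le_one_of_isPrincipal_of_mem_minimalPrimes _ _ hmin
  haveI hQ' : (Q.map (Ideal.Quotient.mk P)).IsPrime :=
    Ideal.map_isPrime_of_surjective Ideal.Quotient.mk_surjective
      (by rw [Ideal.mk_ker]; exact hPQ)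
  haveI hz' : (z.asIdeal.map (Ideal.Quotient.mk P)).IsPrime :=
    Ideal.map_isPrime_of_surjective Ideal.Quotient.mk_surjective
      (by rw [Ideal.mk_ker]; exact hPz'.le)
  haveI hbot : (⊥ : Ideal (A ⧸ P)).IsPrime := Ideal.isPrime_bot
  have hlt1 : (⊥ : Ideal (A ⧸ P)) < z.asIdeal.map (Ideal.Quotient.mk P) := by
    rw [bot_lt_iff_ne_bot]
    intro h0
    have h := comap_map_mk hPz'.le
    rw [h0, ← RingHom.ker_eq_comap_bot, Ideal.mk_ker] at h
    exact hPz'.ne h
  have hlt2 : z.asIdeal.map (Ideal.Quotient.mk P) < Q.map (Ideal.Quotient.mk P) := by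
    refine lt_of_le_of_ne (Ideal.map_mono hzQ'.le) ?_
    intro h0
    have e1 := comap_map_mk hPz'.le
    have e2 := comap_map_mk hPQ
    rw [h0, e2] at e1
    exact hzQ'.ne e1.symm
  have h2 := Ideal.height_add_one_le_of_lt_of_isPrime hlt1
  have h3 := Ideal.height_add_one_le_of_lt_of_isPrime hlt2
  have h4 : (z.asIdeal.map (Ideal.Quotient.mk P)).height + 1 ≤ 1 := h3.trans h1
  have h5 : (1 : ℕ∞) ≤ (z.asIdeal.map (Ideal.Quotient.mk P)).height :=
    le_trans le_add_self h2
  have h6 : (1 : ℕ∞) + 1 ≤ 1 := (add_le_add h5 le_rfl).trans h4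
  have h7 : (1 + 1 : ℕ) ≤ 1 := by exact_mod_cast h6
  omega

end general

section local_

variable {A : Type u} [CommRing A] [IsNoetherianRing A] [IsLocalRing A]

/-- In a catenary equidimensional Noetherian local ring, `ht P + dim A/P = dim A`. -/
theorem height_add_coheight_eq_aux (hc : CAlg.IsCatenary A) (heq : EGA4.IsEquidim A) :
    ∀ (n : ℕ) (x : PrimeSpectrum A), x.asIdeal.height = n →
    ((x.asIdeal.height + Order.coheight x : ℕ∞) : WithBot ℕ∞) = ringKrullDim A := by
  intro n
  induction n using Nat.strong_induction_on with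
  | _ n ih =>
    intro x hn
    haveI := x.2
    apply le_antisymm
    · rw [ringKrullDim, Order.krullDim_eq_iSup_height_add_coheight_of_nonempty,
        PrimeSpectrum.height_eq_orderHeight]
      exact WithBot.coe_le_coe.mpr (le_iSup (fun a => Order.height a + Order.coheight a) x)
    · by_cases hmin : x.asIdeal ∈ minimalPrimes A
      · rw [← heq x.asIdeal hmin, Groth.Agent.Lib.Helper14.ringKrullDim_quotient_eq_coheight x]
        exact WithBot.coe_le_coe.mpr le_add_self
      · obtain ⟨q, hq, hqx⟩ :=
          Ideal.exists_minimalPrimes_le (bot_le : (⊥ : Ideal A) ≤ x.asIdeal)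
        have hlt : (⟨q, hq.1.1⟩ : PrimeSpectrum A) < x := by
          refine lt_of_le_of_ne hqx ?_
          intro h
          apply hmin
          rw [← h]
          exact hq
        haveI : WellFoundedGT (PrimeSpectrum A) :=
          Groth.Agent.Lib.Helper14.wellFoundedGT_of_finiteDim
        obtain ⟨y, hy1, hy2⟩ := exists_le_covBy_of_lt hlt
        have h1 := coheight_eq_add_one_of_covBy hc hy2
        haveI := y.2
        have h2 : y.asIdeal.height + 1 ≤ x.asIdeal.height :=
          Ideal.height_add_one_le_of_lt_of_isPrime hy2.lt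
        obtain ⟨m, hm⟩ := ENat.ne_top_iff_exists.mp
          (Ideal.height_ne_top_of_isPrime (I := y.asIdeal))
        have hmn : m < n := by
          rw [← hm, hn] at h2
          have : m + 1 ≤ n := by exact_mod_cast h2
          omega
        have h3 := ih m hmn y hm.symm
        rw [← h3, h1]
        apply WithBot.coe_le_coe.mpr
        calc y.asIdeal.height + (Order.coheight x + 1)
            = (y.asIdeal.height + 1) + Order.coheight x := by ring
          _ ≤ x.asIdeal.height + Order.coheight x := add_le_add h2 le_rfl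

theorem height_add_coheight_eq (hc : CAlg.IsCatenary A) (heq : EGA4.IsEquidim A)
    (x : PrimeSpectrum A) :
    ((x.asIdeal.height + Order.coheight x : ℕ∞) : WithBot ℕ∞) = ringKrullDim A := by
  haveI := x.2
  obtain ⟨m, hm⟩ := ENat.ne_top_iff_exists.mp (Ideal.height_ne_top_of_isPrime (I := x.asIdeal))
  exact height_add_coheight_eq_aux hc heq m x hm.symm

/-- In a catenary equidimensional Noetherian local ring, `ht Q = ht P + 1` when `P ⋖ Q`. -/
theorem height_eq_add_one_of_covBy (hc : CAlg.IsCatenary A) (heq : EGA4.IsEquidim A)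
    {x y : PrimeSpectrum A} (hxy : x ⋖ y) : y.asIdeal.height = x.asIdeal.height + 1 := by
  have h1 := height_add_coheight_eq hc heq x
  have h2 := height_add_coheight_eq hc heq y
  have h3 := coheight_eq_add_one_of_covBy hc hxy
  rw [← h2, h3] at h1
  have h4 : x.asIdeal.height + (Order.coheight y + 1) = y.asIdeal.height + Order.coheight y :=
    WithBot.coe_injective h1
  have hfin := coheight_ne_top y
  obtain ⟨c, hc'⟩ := ENat.ne_top_iff_exists.mp hfin
  haveI := x.2
  haveI := y.2
  obtain ⟨a, ha⟩ := ENat.ne_top_iff_exists.mp (Ideal.height_ne_top_of_isPrime (I := x.asIdeal))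
  obtain ⟨b, hb⟩ := ENat.ne_top_iff_exists.mp (Ideal.height_ne_top_of_isPrime (I := y.asIdeal))
  rw [← hc', ← ha, ← hb] at h4
  rw [← ha, ← hb]
  have h5 : a + (c + 1) = b + c := by exact_mod_cast h4
  have h6 : b = a + 1 := by omega
  exact_mod_cast h6

/-- Equidimensionality lifts from `A/t` to `A` when `A/t` is `(S_1)` and `A` is catenary. -/
theorem isEquidim_of_quotient (hc : CAlg.IsCatenary A) (t : A) (htm : t ∈ maximalIdeal A)
    (ht : t ∈ nonZeroDivisors A)
    (hS1 : LocCoh.HasSk 1 (A ⧸ Ideal.span {t}) (A ⧸ Ideal.span {t}))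
    (heq : EGA4.IsEquidim (A ⧸ Ideal.span {t})) : EGA4.IsEquidim A := by
  intro 𝔭 h𝔭
  haveI h𝔭p : 𝔭.IsPrime := h𝔭.1.1
  have ht𝔭 : t ∉ 𝔭 := fun h =>
    Set.disjoint_left.mp (Ideal.disjoint_nonZeroDivisors_of_mem_minimalPrimes h𝔭) h ht
  have hPt : 𝔭 ⊔ Ideal.span {t} ≤ maximalIdeal A :=
    sup_le (le_maximalIdeal h𝔭p.ne_top) ((Ideal.span_singleton_le_iff_mem _).mpr htm)
  obtain ⟨Q, hQmin, hQm⟩ := Ideal.exists_minimalPrimes_le hPt
  haveI hQp : Q.IsPrime := hQmin.1.1
  have htQ : t ∈ Q := hQmin.1.2 (Ideal.mem_sup_right (Ideal.mem_span_singleton_self t))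
  have hcov := covBy_of_mem_minimalPrimes 𝔭 Q t ht𝔭 hQmin
  have hd1 := min_succ_height_le_depth 1 t ht hS1 Q htQ
  have hd2 := SkLift.depth_le_depth_add_one 𝔭 Q t hQmin
  have hd3 : LocCoh.depth (Localization.AtPrime 𝔭) (Localization.AtPrime 𝔭) = 0 := by
    have h1 := depth_le_supportDim (R := Localization.AtPrime 𝔭) (M := Localization.AtPrime 𝔭)
    rw [Module.supportDim_self_eq_ringKrullDim,
      IsLocalization.AtPrime.ringKrullDim_eq_height 𝔭 (Localization.AtPrime 𝔭),
      Ideal.height_eq_zero_iff.mpr h𝔭] at h1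
    have h2 : LocCoh.depth (Localization.AtPrime 𝔭) (Localization.AtPrime 𝔭) ≤ 0 := by
      exact_mod_cast h1
    exact le_antisymm h2 zero_le
  rw [hd3, zero_add] at hd2
  have hQ1 : Q.height ≤ 1 := by
    have h := hd1.trans hd2
    rcases min_le_iff.mp h with h' | h'
    · exfalso
      have h7 : (1 + 1 : ℕ) ≤ 1 := by exact_mod_cast h'
      omega
    · exact h'
  obtain ⟨hqp, hht, -⟩ := regular_height_of_mem t ht Q htQ
  haveI := hqp
  have hq0 : (Q.map (Ideal.Quotient.mk (Ideal.span {t}))).height = 0 := by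
    rw [← hht] at hQ1
    have h8 : (Q.map (Ideal.Quotient.mk (Ideal.span {t}))).height + 1 ≤ 0 + 1 := by
      rw [zero_add]; exact hQ1
    exact le_antisymm ((ENat.add_le_add_iff_right ENat.one_ne_top).mp h8) zero_le
  have hqmin : Q.map (Ideal.Quotient.mk (Ideal.span {t})) ∈ minimalPrimes (A ⧸ Ideal.span {t}) :=
    Ideal.height_eq_zero_iff.mp hq0
  have h9 := heq _ hqmin
  have hle : Ideal.span {t} ≤ Q := (Ideal.span_singleton_le_iff_mem Q).mpr htQ
  rw [ringKrullDim_eq_of_ringEquiv (DoubleQuot.quotQuotEquivQuotOfLE hle)] at h9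
  have h10 := ringKrullDim_quotient_span_singleton_succ_eq_ringKrullDim_of_mem_nonZeroDivisors ht htm
  have h11 := coheight_eq_add_one_of_covBy hc hcov
  have h12 := Groth.Agent.Lib.Helper14.ringKrullDim_quotient_eq_coheight (⟨𝔭, h𝔭p⟩ : PrimeSpectrum A)
  have h13 := Groth.Agent.Lib.Helper14.ringKrullDim_quotient_eq_coheight (⟨Q, hQp⟩ : PrimeSpectrum A)
  change ringKrullDim (A ⧸ 𝔭) = _ at h12
  change ringKrullDim (A ⧸ Q) = _ at h13
  rw [h12, h11, WithBot.coe_add, ← h13, h9, WithBot.coe_one]
  exact h10

/-- `(R_k)` lifts from `A/t` to `A` for a catenary equidimensional Noetherian local ring. -/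
theorem hasRk_of_hasRk_quotient (hc : CAlg.IsCatenary A) (heqA : EGA4.IsEquidim A) (k : ℕ) (t : A)
    (htm : t ∈ maximalIdeal A) (ht : t ∈ nonZeroDivisors A)
    (hR : LocCoh.HasRk k (A ⧸ Ideal.span {t})) : LocCoh.HasRk k A := by
  have hmem : ∀ (P : Ideal A) [P.IsPrime], t ∈ P → P.height ≤ (k : ℕ∞) + 1 →
      IsRegularLocalRing (Localization.AtPrime P) := by
    intro P _ htP hPk
    obtain ⟨hqp, hht, hreg⟩ := regular_height_of_mem t ht P htP
    haveI := hqp
    apply hreg
    apply hR
    rw [← hht] at hPk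
    exact (ENat.add_le_add_iff_right ENat.one_ne_top).mp hPk
  intro P hPp hPk
  by_cases htP : t ∈ P
  · exact hmem P htP (hPk.trans le_self_add)
  · have hPt : P ⊔ Ideal.span {t} ≤ maximalIdeal A :=
      sup_le (le_maximalIdeal hPp.ne_top) ((Ideal.span_singleton_le_iff_mem _).mpr htm)
    obtain ⟨Q, hQmin, hQm⟩ := Ideal.exists_minimalPrimes_le hPt
    haveI hQp : Q.IsPrime := hQmin.1.1
    have hPQ : P ≤ Q := le_sup_left.trans hQmin.1.2
    have htQ : t ∈ Q := hQmin.1.2 (Ideal.mem_sup_right (Ideal.mem_span_singleton_self t))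
    have hcov := covBy_of_mem_minimalPrimes P Q t htP hQmin
    have hht := height_eq_add_one_of_covBy hc heqA hcov
    have hQk : Q.height ≤ (k : ℕ∞) + 1 := by
      change Q.height = P.height + 1 at hht
      rw [hht]
      exact add_le_add hPk le_rfl
    haveI := hmem Q htQ hQk
    exact isRegularLocalRing_atPrime_of_le P Q hPQ

end local_

end Groth.Agent.Lib.Helper4.RkLift
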