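import Groth.Agent.Lib.Helper4.LC4

/-!
# Local cohomology: dimension shifting, `cd (I + J) ≤ cd I + cd J`, `cd ≤ number of generators`
(helper4)
-/

set_option autoImplicit false
set_option linter.style.haveILetI false
set_option linter.unusedSectionVars false
set_option maxHeartbeats 400000

open CategoryTheory Limits Opposite Abelian

universe u

namespace Groth.Agent.Lib.Helper4.LC

variable {R : Type u} [CommRing R]

/-! ### embedding into an injective -/

section injSES

/-- the short exact sequence `0 → M → E → E/M → 0` with `E` injective. -/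
noncomputable def injSES (M : ModuleCat.{u} R) : ShortComplex (ModuleCat.{u} R) :=
  ShortComplex.mk (Injective.ι M) (cokernel.π (Injective.ι M)) (by simp)

lemma injSES_shortExact (M : ModuleCat.{u} R) : (injSES M).ShortExact where
  exact := ShortComplex.exact_cokernel _
  mono_f := by dsimp [injSES]; infer_instance
  epi_g := by dsimp [injSES]; infer_instance

instance injSES_injective (M : ModuleCat.{u} R) : Injective (injSES M).X₂ := by
  dsimp [injSES]; infer_instance

lemma injSES_moduleInjective (M : ModuleCat.{u} R) : Module.Injective R (injSES M).X₂ := by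
  haveI : Injective (ModuleCat.of R (injSES M).X₂) := inferInstanceAs (Injective (injSES M).X₂)
  exact Module.injective_module_of_injective_object R (injSES M).X₂

end injSES

/-! ### torsion -/

section torsion

lemma mem_torsionSub_sup_iff (I J : Ideal R) {M : Type u} [AddCommGroup M] [Module R M] (x : M) :
    x ∈ DRing.torsionSub (I ⊔ J) M ↔ x ∈ DRing.torsionSub I M ∧ x ∈ DRing.torsionSub J M := by
  constructor
  · rintro ⟨n, hn⟩
    exact ⟨⟨n, fun a ha => hn a (Ideal.pow_right_mono le_sup_left n ha)⟩,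
      ⟨n, fun a ha => hn a (Ideal.pow_right_mono le_sup_right n ha)⟩⟩
  · rintro ⟨⟨n, hn⟩, ⟨m, hm⟩⟩
    refine ⟨n + m, fun a ha => ?_⟩
    have h1 : a ∈ I ^ n ⊔ J ^ m := Ideal.sup_pow_add_le_pow_sup_pow ha
    obtain ⟨b, hb, c, hc, rfl⟩ := Submodule.mem_sup.1 h1
    rw [add_smul, hn b hb, hm c hc, add_zero]

lemma mem_torsionSub_subtype_iff (I : Ideal R) {M : Type u} [AddCommGroup M] [Module R M]
    (N : Submodule R M) (x : N) :
    x ∈ DRing.torsionSub I N ↔ (x : M) ∈ DRing.torsionSub I M := by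
  constructor
  · rintro ⟨n, hn⟩
    exact ⟨n, fun a ha => by rw [← Submodule.coe_smul, hn a ha, Submodule.coe_zero]⟩
  · rintro ⟨n, hn⟩
    exact ⟨n, fun a ha => Subtype.ext (by rw [Submodule.coe_smul, hn a ha, Submodule.coe_zero])⟩

end torsion

/-! ### `Γ` and `H^1` -/

section gamma

variable [IsNoetherianRing R] {S : ShortComplex (ModuleCat.{u} R)} (hS : S.ShortExact)

include hS in
lemma gamma_lift (J : Ideal R) (h1 : Subsingleton (HH J S.X₁ 1)) (c : S.X₃)
    (hc : c ∈ DRing.torsionSub J S.X₃) :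
    ∃ e : S.X₂, e ∈ DRing.torsionSub J S.X₂ ∧ S.g.hom e = c := by
  obtain ⟨z, hz⟩ := exists_HH0_eq J S.X₃ c hc
  obtain ⟨w, hw⟩ := HH.map_g_surjective J hS 0 h1 z
  refine ⟨HH0 J S.X₂ w, HH0_mem J S.X₂ w, ?_⟩
  rw [← HH0_map, hw, hz]

include hS in
lemma HH.subsingleton_one_of_gamma_surjective (K : Ideal R) (h2 : Subsingleton (HH K S.X₂ 1))
    (hsurj : ∀ c : S.X₃, c ∈ DRing.torsionSub K S.X₃ →
      ∃ e : S.X₂, e ∈ DRing.torsionSub K S.X₂ ∧ S.g.hom e = c) :
    Subsingleton (HH K S.X₁ 1) := by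
  apply HH.subsingleton_of_forall_eq_zero
  intro x₁
  obtain ⟨x₃, rfl⟩ := HH.exact₁ K hS 0 x₁ (Subsingleton.elim _ _)
  obtain ⟨e, he, hec⟩ := hsurj (HH0 K S.X₃ x₃) (HH0_mem K S.X₃ x₃)
  obtain ⟨x₂, hx₂⟩ := exists_HH0_eq K S.X₂ e he
  have h3 : HH.map K S.g 0 x₂ = x₃ := by
    apply HH0_injective K S.X₃
    rw [HH0_map, hx₂, hec]
  rw [← h3, HH.δ_map_g]

include hS in
lemma gamma_shortExact (J : Ideal R) (h1 : Subsingleton (HH J S.X₁ 1)) :
    (S.map (DRing.gammaI J)).ShortExact := by
  have hf : Function.Injective S.f.hom := (ModuleCat.mono_iff_injective S.f).1 hS.mono_f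
  have hex : Function.Exact S.f.hom S.g.hom :=
    (ShortComplex.ShortExact.moduleCat_exact_iff_function_exact S).1 hS.exact
  refine ModuleCat.shortComplex_shortExact _ ?_ ?_ ?_
  · intro x
    constructor
    · intro hx
      have hx' : S.g.hom x.1 = 0 := congrArg Subtype.val hx
      obtain ⟨y, hy⟩ := (hex x.1).1 hx'
      have hyt : y ∈ DRing.torsionSub J S.X₁ := by
        obtain ⟨n, hn⟩ := x.2
        refine ⟨n, fun a ha => hf ?_⟩
        rw [map_smul, hy, hn a ha, map_zero]
      exact ⟨⟨y, hyt⟩, Subtype.ext hy⟩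
    · rintro ⟨y, rfl⟩
      apply Subtype.ext
      exact (hex _).2 ⟨y.1, rfl⟩
  · intro a b hab
    exact Subtype.ext (hf (congrArg Subtype.val hab))
  · intro c
    obtain ⟨e, he, hec⟩ := gamma_lift hS J h1 c.1 c.2
    exact ⟨⟨e, he⟩, Subtype.ext hec⟩

end gamma

/-! ### `cd (I ⊔ J) ≤ cd I + cd J` -/

section sup

variable [IsNoetherianRing R]

theorem HH.subsingleton_sup_of_acyclic (I J : Ideal R) (p : ℕ) : ∀ N : ModuleCat.{u} R,
    (∀ q, Subsingleton (HH J N (q + 1))) →
    Subsingleton (HH I ((DRing.gammaI J).obj N) (p + 1)) →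
    Subsingleton (HH (I ⊔ J) N (p + 1)) := by
  induction p with
  | zero =>
    intro N hac h1
    have hS := injSES_shortExact N
    have hΓ := gamma_shortExact hS J (hac 0)
    apply HH.subsingleton_one_of_gamma_surjective hS (I ⊔ J)
      (HH.subsingleton_of_injective (I ⊔ J) (injSES N).X₂ 0)
    intro c hc
    obtain ⟨hcI, hcJ⟩ := (mem_torsionSub_sup_iff I J c).1 hc
    have hcI' : (⟨c, hcJ⟩ : DRing.torsionSub J (injSES N).X₃) ∈
        DRing.torsionSub I (DRing.torsionSub J (injSES N).X₃) :=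
      (mem_torsionSub_subtype_iff I _ _).2 hcI
    obtain ⟨e', he', hec⟩ := gamma_lift hΓ I h1 ⟨c, hcJ⟩ hcI'
    refine ⟨e'.1, (mem_torsionSub_sup_iff I J _).2 ⟨?_, e'.2⟩, congrArg Subtype.val hec⟩
    exact (mem_torsionSub_subtype_iff I _ _).1 he'
  | succ p ih =>
    intro N hac h1
    have hS := injSES_shortExact N
    have hΓ := gamma_shortExact hS J (hac 0)
    have hacC : ∀ q, Subsingleton (HH J (injSES N).X₃ (q + 1)) := fun q =>
      HH.subsingleton_X₃ J hS (q + 1) (HH.subsingleton_of_injective J (injSES N).X₂ q)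
        (hac (q + 1))
    haveI := injSES_moduleInjective N
    haveI hinjΓ : Injective ((injSES N).map (DRing.gammaI J)).X₂ := by
      haveI := injective_torsionSub J (injSES N).X₂
      exact Module.injective_object_of_injective_module R (DRing.torsionSub J (injSES N).X₂)
    have h3 : Subsingleton (HH I ((DRing.gammaI J).obj (injSES N).X₃) (p + 1)) :=
      HH.subsingleton_X₃ I hΓ (p + 1)
        (HH.subsingleton_of_injective I ((injSES N).map (DRing.gammaI J)).X₂ p) h1
    have h4 := ih (injSES N).X₃ hacC h3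
    exact HH.subsingleton_X₁_succ (I ⊔ J) hS (p + 1)
      (HH.subsingleton_of_injective (I ⊔ J) (injSES N).X₂ (p + 1)) h4

theorem HH.subsingleton_sup_of_cd (I J : Ideal R) (a : ℕ)
    (hI : ∀ (M : ModuleCat.{u} R) (i : ℕ), a < i → Subsingleton (HH I M i)) (b : ℕ) :
    ∀ N : ModuleCat.{u} R, (∀ q, b < q → Subsingleton (HH J N q)) →
      ∀ i, a + b < i → Subsingleton (HH (I ⊔ J) N i) := by
  induction b with
  | zero =>
    intro N hN i hi
    obtain ⟨p, rfl⟩ : ∃ p, i = p + 1 := ⟨i - 1, by omega⟩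
    exact HH.subsingleton_sup_of_acyclic I J p N (fun q => hN (q + 1) (by omega))
      (hI _ (p + 1) (by omega))
  | succ b ih =>
    intro N hN i hi
    obtain ⟨p, rfl⟩ : ∃ p, i = p + 1 := ⟨i - 1, by omega⟩
    have hS := injSES_shortExact N
    have hC : ∀ q, b < q → Subsingleton (HH J (injSES N).X₃ q) := by
      intro q hq
      obtain ⟨q', rfl⟩ : ∃ q', q = q' + 1 := ⟨q - 1, by omega⟩
      exact HH.subsingleton_X₃ J hS (q' + 1) (HH.subsingleton_of_injective J (injSES N).X₂ q')
        (hN (q' + 1 + 1) (by omega))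
    have h3 := ih (injSES N).X₃ hC p (by omega)
    obtain ⟨p', rfl⟩ : ∃ p', p = p' + 1 := ⟨p - 1, by omega⟩
    exact HH.subsingleton_X₁_succ (I ⊔ J) hS (p' + 1)
      (HH.subsingleton_of_injective (I ⊔ J) (injSES N).X₂ (p' + 1)) h3

end sup

/-! ### principal ideals -/

section principal

variable [IsNoetherianRing R]

/-- An injective module over a Noetherian ring is `x`-divisible modulo `x`-torsion. -/
lemma exists_pow_smul_sub_eq_zero (E : Type u) [AddCommGroup E] [Module R E]
    [Module.Injective R E] (x : R) (e : E) (n : ℕ) :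
    ∃ (e₁ : E) (m : ℕ), x ^ m • (x ^ n • e₁ - e) = 0 := by
  let ann : ℕ →o Submodule R R :=
    ⟨fun k => LinearMap.ker (LinearMap.lsmul R R (x ^ k)), by
      intro k k' hkk' r hr
      rw [LinearMap.mem_ker, LinearMap.lsmul_apply, smul_eq_mul] at hr ⊢
      obtain ⟨j, rfl⟩ := Nat.exists_eq_add_of_le hkk'
      rw [pow_add, mul_comm (x ^ k), mul_assoc, hr, mul_zero]⟩
  obtain ⟨m, hm⟩ := monotone_stabilizes_iff_noetherian.2 (inferInstance : IsNoetherian R R) ann
  let μ : R →ₗ[R] R := LinearMap.lsmul R R (x ^ (n + m))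
  let ψ : R →ₗ[R] E := (LinearMap.toSpanSingleton R E e).comp (LinearMap.lsmul R R (x ^ m))
  have hker : LinearMap.ker μ ≤ LinearMap.ker ψ := by
    intro r hr
    have h1 : r ∈ ann (n + m) := hr
    rw [← hm (n + m) (by omega)] at h1
    have h2 : x ^ m * r = 0 := by
      have := LinearMap.mem_ker.1 h1
      rwa [LinearMap.lsmul_apply, smul_eq_mul] at this
    rw [LinearMap.mem_ker]
    show (x ^ m • r) • e = 0
    rw [smul_eq_mul, h2, zero_smul]
  let ψ' : (R ⧸ LinearMap.ker μ) →ₗ[R] E := (LinearMap.ker μ).liftQ ψ hker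
  let μ' : (R ⧸ LinearMap.ker μ) →ₗ[R] R := (LinearMap.ker μ).liftQ μ le_rfl
  have hμ' : Function.Injective μ' :=
    LinearMap.ker_eq_bot.1 (Submodule.ker_liftQ_eq_bot _ _ _ le_rfl)
  obtain ⟨h, hh⟩ := Module.Injective.extension_property R E (R ⧸ LinearMap.ker μ) R μ' hμ' ψ'
  refine ⟨h 1, m, ?_⟩
  have h1 : x ^ (n + m) • h 1 = x ^ m • e := by
    have h2 : h (μ' (Submodule.Quotient.mk 1)) = ψ' (Submodule.Quotient.mk 1) :=
      congrArg (fun φ => φ (Submodule.Quotient.mk 1)) hh
    have h3 : μ' (Submodule.Quotient.mk 1) = x ^ (n + m) • (1 : R) := rfl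
    have h4 : ψ' (Submodule.Quotient.mk 1) = (x ^ m • (1 : R)) • e := rfl
    rw [h3, map_smul, h4, smul_eq_mul, mul_one] at h2
    exact h2
  rw [smul_sub, ← mul_smul, ← pow_add, add_comm m n, h1, sub_self]

/-- an auxiliary computation. -/
lemma aux_torsion {E C E' : Type u} [AddCommGroup E] [Module R E] [AddCommGroup C] [Module R C]
    [AddCommGroup E'] [Module R E'] (g₁ : E →ₗ[R] C) (f₂ : C →ₗ[R] E') (x : R) (k m : ℕ)
    (e' : E') (c : C) (e e₁ : E) (hc : f₂ c = x ^ k • e') (he : g₁ e = c)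
    (hm : x ^ m • (x ^ k • e₁ - e) = 0) : x ^ (k + m) • (e' - f₂ (g₁ e₁)) = 0 := by
  have h1 : x ^ k • (e' - f₂ (g₁ e₁)) = f₂ (g₁ (e - x ^ k • e₁)) := by
    rw [smul_sub, ← hc, ← he, ← map_smul, ← map_smul, ← map_sub, ← map_sub]
  have h2 : x ^ m • (e - x ^ k • e₁) = 0 := by
    have : e - x ^ k • e₁ = -(x ^ k • e₁ - e) := by abel
    rw [this, smul_neg, hm, neg_zero]
  rw [pow_add, mul_comm, mul_smul, h1, ← map_smul, ← map_smul, h2, map_zero, map_zero]

/-- `cd (xR) ≤ 1`. -/
theorem HH.subsingleton_span_singleton (x : R) : ∀ (i : ℕ) (N : ModuleCat.{u} R),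
    Subsingleton (HH (Ideal.span {x}) N (i + 2)) := by
  intro i
  induction i with
  | zero =>
    intro N
    have hS₁ := injSES_shortExact N
    have hS₂ := injSES_shortExact (injSES N).X₃
    have hg₁ : Function.Surjective (injSES N).g.hom :=
      (ModuleCat.epi_iff_surjective _).1 hS₁.epi_g
    have hg₂ : Function.Surjective (injSES (injSES N).X₃).g.hom :=
      (ModuleCat.epi_iff_surjective _).1 hS₂.epi_g
    have hex₂ : Function.Exact (injSES (injSES N).X₃).f.hom (injSES (injSES N).X₃).g.hom :=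
      (ShortComplex.ShortExact.moduleCat_exact_iff_function_exact _).1 hS₂.exact
    haveI := injSES_moduleInjective N
    have h3 : Subsingleton (HH (Ideal.span {x}) (injSES N).X₃ 1) := by
      apply HH.subsingleton_one_of_gamma_surjective hS₂ (Ideal.span {x})
        (HH.subsingleton_of_injective (Ideal.span {x}) (injSES (injSES N).X₃).X₂ 0)
      intro c' hc'
      obtain ⟨k, hk⟩ := hc'
      have hxk : x ^ k • c' = 0 :=
        hk _ (Ideal.pow_mem_pow (Ideal.mem_span_singleton_self x) k)
      obtain ⟨e', he'⟩ := hg₂ c'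
      have h0 : (injSES (injSES N).X₃).g.hom (x ^ k • e') = 0 := by
        rw [map_smul, he', hxk]
      obtain ⟨c, hc⟩ := (hex₂ _).1 h0
      obtain ⟨e, he⟩ := hg₁ c
      obtain ⟨e₁, m, hm⟩ := exists_pow_smul_sub_eq_zero (injSES N).X₂ x e k
      refine ⟨e' - (injSES (injSES N).X₃).f.hom ((injSES N).g.hom e₁), ?_, ?_⟩
      · have key : x ^ (k + m) • (e' - (injSES (injSES N).X₃).f.hom ((injSES N).g.hom e₁)) = 0 :=
          aux_torsion (injSES N).g.hom (injSES (injSES N).X₃).f.hom x k m e' c e e₁ hc he hm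
        refine ⟨k + m, fun a ha => ?_⟩
        rw [Ideal.span_singleton_pow, Ideal.mem_span_singleton'] at ha
        obtain ⟨r, rfl⟩ := ha
        rw [mul_smul, key, smul_zero]
      · rw [map_sub, he', hex₂.apply_apply_eq_zero, sub_zero]
    exact HH.subsingleton_X₁_succ (Ideal.span {x}) hS₁ 1
      (HH.subsingleton_of_injective (Ideal.span {x}) (injSES N).X₂ 1) h3
  | succ i ih =>
    intro N
    have hS := injSES_shortExact N
    exact HH.subsingleton_X₁_succ (Ideal.span {x}) hS (i + 2)
      (HH.subsingleton_of_injective (Ideal.span {x}) (injSES N).X₂ (i + 2)) (ih (injSES N).X₃)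

/-- `cd (x₁, …, x_r) ≤ r`. -/
theorem HH.subsingleton_span_finset (s : Finset R) : ∀ (N : ModuleCat.{u} R) (i : ℕ),
    s.card < i → Subsingleton (HH (Ideal.span (s : Set R)) N i) := by
  classical
  induction s using Finset.induction_on with
  | empty =>
    intro N i hi
    rw [Finset.coe_empty, Ideal.span_empty]
    obtain ⟨p, rfl⟩ : ∃ p, i = p + 1 := ⟨i - 1, by simp at hi; omega⟩
    exact HH.subsingleton_of_isPowerTorsion ⊥ p N (fun m => ⟨1, fun a ha => by
      rw [pow_one, Ideal.mem_bot] at ha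
      rw [ha, zero_smul]⟩)
  | insert x s hx ih =>
    intro N i hi
    rw [Finset.coe_insert, Ideal.span_insert]
    rw [Finset.card_insert_of_notMem hx] at hi
    refine HH.subsingleton_sup_of_cd (Ideal.span {x}) (Ideal.span (s : Set R)) 1 ?_ s.card N
      (fun q hq => ih N q hq) i (by omega)
    intro M j hj
    obtain ⟨j', rfl⟩ : ∃ j', j = j' + 2 := ⟨j - 2, by omega⟩
    exact HH.subsingleton_span_singleton x j' M

/-- cohomological dimension is detected on the ring. -/
theorem HH.subsingleton_of_ring (I : Ideal R) (d : ℕ)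
    (hR : ∀ i, d < i → Subsingleton (HH I (ModuleCat.of R R) i)) :
    ∀ (M : ModuleCat.{u} R) (i : ℕ), d < i → Subsingleton (HH I M i) := by
  obtain ⟨s, hs⟩ := (IsNoetherian.noetherian I : I.FG)
  have hcd : ∀ (N : ModuleCat.{u} R) (i : ℕ), s.card < i → Subsingleton (HH I N i) := by
    intro N i hi
    have := HH.subsingleton_span_finset s N i hi
    rwa [show Ideal.span (s : Set R) = I from hs] at this
  have key : ∀ k : ℕ, ∀ i, d < i → s.card < i + k → ∀ M : ModuleCat.{u} R,
      Subsingleton (HH I M i) := by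
    intro k
    induction k with
    | zero =>
      intro i _ hi M
      exact hcd M i (by omega)
    | succ k ih =>
      intro i hdi hi M
      apply HH.subsingleton_of_forall_fg
      intro M' hM'
      have hfin : Module.Finite R M' := Module.Finite.iff_fg.2 hM'
      refine IsNoetherianRing.induction_on_isQuotientEquivQuotientPrime R hfin
        (motive := fun (N : Type u) [AddCommGroup N] [Module R N] [Module.Finite R N] =>
          Subsingleton (HH I (ModuleCat.of R N) i)) ?_ ?_ ?_
      · intro N _ _ _ _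
        exact HH.subsingleton_of_subsingleton I N i
      · intro N _ _ _ p e
        have hex : Function.Exact p.asIdeal.subtype (Submodule.mkQ p.asIdeal) :=
          LinearMap.exact_subtype_mkQ p.asIdeal
        have hS := sesOf_shortExact p.asIdeal.subtype (Submodule.mkQ p.asIdeal) hex
          (Submodule.injective_subtype _) (Submodule.mkQ_surjective _)
        have h3 : Subsingleton (HH I (ModuleCat.of R (R ⧸ p.asIdeal)) i) :=
          HH.subsingleton_X₃ I hS i (hR i hdi) (ih (i + 1) (by omega) (by omega) _)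
        exact ((HH.mapIso I e.toModuleIso i).toEquiv.subsingleton_congr).2 h3
      · intro N₁ _ _ _ N₂ _ _ _ N₃ _ _ _ f g hf hg hfg h1 h3
        exact HH.subsingleton_X₂ I (sesOf_shortExact f g hfg hf hg) i h1 h3
  intro M i hi
  exact key (s.card + 1) i hi (by omega) M

lemma cdLE_HH {I : Ideal R} {a : ℕ} (h : LocCoh.CdLE R I a) (M : ModuleCat.{u} R) (i : ℕ)
    (hi : a < i) : Subsingleton (HH I M i) :=
  (subsingleton_H_iff I M i).1 (h M i hi)

end principal

end Groth.Agent.Lib.Helper4.LC
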