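import Groth.Agent.Lib.Helper4.KosInj
import Groth.Agent.Lib.Helper4.LC5

/-!
# Local cohomology is the direct limit of Koszul cohomology of powers (Noetherian case)

`main fs i M : Nonempty (HH (span fs) M i ≃ₗ TT fs M i)` by dimension shifting, and
`nonempty_localCohomology_equiv` in the form of the prelude's `koszulHLim`.
-/

set_option autoImplicit false
set_option linter.style.haveILetI false
set_option linter.unusedSectionVars false
set_option linter.unusedVariables false
set_option maxHeartbeats 800000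

universe u

open CategoryTheory CategoryTheory.Limits

namespace Groth.Agent.Lib.Helper4.KosComp

open CohIII Groth.Agent.Lib.Helper4.KosLim Groth.Agent.Lib.Helper4.KosBottom
  Groth.Agent.Lib.Helper4.KosInj Groth.Agent.Lib.Helper4.LC

variable {A : Type u} [CommRing A]

/-- the ideal generated by a list. -/
abbrev II (fs : List A) : Ideal A := Ideal.span {a | a ∈ fs}

section zero

variable (fs : List A)

/-- degree zero comparison. -/
noncomputable def e0 (M : ModuleCat.{u} A) : TT fs M 0 ≃ₗ[A] HH (II fs) M 0 :=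
  T0Equiv fs M ≪≫ₗ (HH0Equiv (II fs) M).symm

lemma HH0_e0 (M : ModuleCat.{u} A) (x : TT fs M 0) :
    HH0 (II fs) M (e0 fs M x) = T0 fs M x := by
  have h1 : HH0Equiv (II fs) M (e0 fs M x) = T0Equiv fs M x := by
    simp only [e0, LinearEquiv.trans_apply, LinearEquiv.apply_symm_apply]
  have h := congrArg Subtype.val h1
  rwa [HH0Equiv_apply, T0Equiv_apply] at h

lemma e0_natural {M N : ModuleCat.{u} A} (φ : M ⟶ N) (x : TT fs M 0) :
    e0 fs N (TT.map fs 0 φ x) = HH.map (II fs) φ 0 (e0 fs M x) := by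
  apply HH0_injective (II fs) N
  rw [HH0_e0, HH0_map, HH0_e0, T0_natural]

end zero

theorem HH_nonempty_equiv_coker (I : Ideal A) {S : ShortComplex (ModuleCat.{u} A)}
    (hS : S.ShortExact) (p : ℕ) (h2 : Subsingleton (HH I S.X₂ (p + 1))) :
    Nonempty (HH I S.X₁ (p + 1) ≃ₗ[A] (HH I S.X₃ p ⧸ LinearMap.range (HH.map I S.g p))) := by
  have hker : LinearMap.ker (HH.δ I hS p) = LinearMap.range (HH.map I S.g p) := by
    ext x
    rw [LinearMap.mem_ker, LinearMap.mem_range]
    constructor
    · intro h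
      exact HH.exact₃ I hS p x h
    · rintro ⟨x₂, rfl⟩
      exact HH.δ_map_g I hS p x₂
  exact ⟨((HH.δ I hS p).quotKerEquivOfSurjective (HH.δ_surjective I hS p h2)).symm ≪≫ₗ
    Submodule.quotEquivOfEq _ _ hker⟩

/-- **Comparison theorem** (model form). -/
theorem main [IsNoetherianRing A] (fs : List A) :
    ∀ (i : ℕ) (M : ModuleCat.{u} A), Nonempty (HH (II fs) M i ≃ₗ[A] TT fs M i)
  | 0, M => ⟨(e0 fs M).symm⟩
  | 1, M => by
    have hS := injSES_shortExact M
    haveI : Module.Injective A (injSES M).X₂ := injSES_moduleInjective M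
    have hT : Subsingleton (TT fs (injSES M).X₂ (0 + 1)) :=
      subsingleton_TT_of_injective (injSES M).X₂ fs (0 + 1) (by omega)
    have hH : Subsingleton (HH (II fs) (injSES M).X₂ (0 + 1)) :=
      HH.subsingleton_of_injective (II fs) (injSES M).X₂ 0
    obtain ⟨eT⟩ := TT.nonempty_equiv_coker fs (injSES M) hS 0 hT
    obtain ⟨eH⟩ := HH_nonempty_equiv_coker (II fs) hS 0 hH
    have hmap : Submodule.map (e0 fs (injSES M).X₃).toLinearMap
        (LinearMap.range (TT.map fs 0 (injSES M).g)) =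
        LinearMap.range (HH.map (II fs) (injSES M).g 0) := by
      ext y
      simp only [Submodule.mem_map, LinearMap.mem_range]
      constructor
      · rintro ⟨_, ⟨x, rfl⟩, rfl⟩
        exact ⟨e0 fs (injSES M).X₂ x, (e0_natural fs (injSES M).g x).symm⟩
      · rintro ⟨x, rfl⟩
        refine ⟨TT.map fs 0 (injSES M).g ((e0 fs (injSES M).X₂).symm x), ⟨_, rfl⟩, ?_⟩
        rw [LinearEquiv.coe_coe, e0_natural, LinearEquiv.apply_symm_apply]
    exact ⟨eH ≪≫ₗ (Submodule.Quotient.equiv _ _ (e0 fs (injSES M).X₃) hmap).symm ≪≫ₗ eT.symm⟩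
  | (i + 2), M => by
    have hS := injSES_shortExact M
    haveI : Module.Injective A (injSES M).X₂ := injSES_moduleInjective M
    obtain ⟨eC⟩ := main fs (i + 1) (injSES M).X₃
    have hT1 : Subsingleton (TT fs (injSES M).X₂ (i + 1)) :=
      subsingleton_TT_of_injective (injSES M).X₂ fs (i + 1) (by omega)
    have hT2 : Subsingleton (TT fs (injSES M).X₂ (i + 1 + 1)) :=
      subsingleton_TT_of_injective (injSES M).X₂ fs (i + 1 + 1) (by omega)
    obtain ⟨eT⟩ := TT.nonempty_equiv_succ fs (injSES M) hS (i + 1) hT1 hT2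
    have hH1 : Subsingleton (HH (II fs) (injSES M).X₂ (i + 1)) :=
      HH.subsingleton_of_injective (II fs) (injSES M).X₂ i
    have hH2 : Subsingleton (HH (II fs) (injSES M).X₂ (i + 1 + 1)) :=
      HH.subsingleton_of_injective (II fs) (injSES M).X₂ (i + 1)
    have eH : HH (II fs) (injSES M).X₃ (i + 1) ≃ₗ[A] HH (II fs) (injSES M).X₁ (i + 1 + 1) :=
      LinearEquiv.ofBijective (HH.δ (II fs) hS (i + 1))
        ⟨HH.δ_injective (II fs) hS (i + 1) hH1, HH.δ_surjective (II fs) hS (i + 1) hH2⟩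
    exact ⟨eH.symm ≪≫ₗ eC ≪≫ₗ eT⟩

/-- **Local cohomology is the limit of Koszul cohomology of the powers.** -/
theorem nonempty_localCohomology_equiv [IsNoetherianRing A] (fs : List A) (M : Type u)
    [AddCommGroup M] [Module A M] (i : ℕ) :
    Nonempty (LocCoh.H (Ideal.span {a | a ∈ fs}) i M ≃ₗ[A]
      CohIII.koszulHLim fs (ModuleCat.of A M) i) := by
  obtain ⟨e⟩ := main fs i (ModuleCat.of A M)
  exact ⟨(lcEquiv (II fs) (ModuleCat.of A M) i) ≪≫ₗ e ≪≫ₗ (toTT fs (ModuleCat.of A M) i).symm⟩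

end Groth.Agent.Lib.Helper4.KosComp
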