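import Mathlib
import Groth.Prelude.Def_EGA4b
import Groth.Agent.Lib.Helper4.FlatRing
import Groth.Agent.Lib.Helper4.FlatFibre

/-!
# Flatness over an Artinian local base from `(S₁)`, `(S₂)` of the reduction and codimension-one data
(helper4)

`A` Artinian local, `B` a Noetherian `A`-algebra with `(S₁)`, `B_red` with `(S₂)`, and `B_q` flat over
`A` with reduced fibre for all primes `q` of height `≤ 1`.  Then `𝔪B = nil(B)` and `B` is flat
over `A`.
-/

set_option autoImplicit false
set_option linter.style.haveILetI false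
set_option linter.unusedSectionVars false
universe u
open IsLocalRing TensorProduct

namespace Groth.Agent.Lib.Helper4.ArtinFlat

open Groth.Agent.Lib.Helper4

section general

variable {R : Type u} [CommRing R]

/-- The kernel of `R_p → (R/I)_q` is `I R_p`. -/
theorem ker_localRingHom_quotient (I : Ideal R) (q : Ideal (R ⧸ I)) [q.IsPrime]
    (p : Ideal R) [p.IsPrime] (hp : p = q.comap (Ideal.Quotient.mk I)) :
    RingHom.ker (Localization.localRingHom p q (Ideal.Quotient.mk I) hp) =
      I.map (algebraMap R (Localization.AtPrime p)) := by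
  apply le_antisymm
  · intro y hy
    rw [RingHom.mem_ker] at hy
    obtain ⟨⟨a, s⟩, hys⟩ := IsLocalization.surj p.primeCompl y
    have hys' : y * algebraMap R (Localization.AtPrime p) (s : R) =
        algebraMap R (Localization.AtPrime p) a := hys
    have h1 := congrArg (Localization.localRingHom p q (Ideal.Quotient.mk I) hp) hys'
    rw [map_mul, hy, zero_mul, Localization.localRingHom_to_map] at h1
    obtain ⟨m, hm⟩ := (IsLocalization.map_eq_zero_iff q.primeCompl (Localization.AtPrime q) _).mp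
      h1.symm
    obtain ⟨m₀, hm₀⟩ := Ideal.Quotient.mk_surjective (m : R ⧸ I)
    have hm₀p : m₀ ∈ p.primeCompl := by
      intro h
      rw [SetLike.mem_coe, hp, Ideal.mem_comap, hm₀] at h
      exact m.2 h
    rw [← hm₀, ← map_mul, Ideal.Quotient.eq_zero_iff_mem] at hm
    have hu : IsUnit (algebraMap R (Localization.AtPrime p) ((s : R) * m₀)) :=
      IsLocalization.map_units (Localization.AtPrime p) (s * ⟨m₀, hm₀p⟩ : p.primeCompl)
    rw [← Ideal.mul_unit_mem_iff_mem _ hu]
    have h2 : y * algebraMap R (Localization.AtPrime p) ((s : R) * m₀) =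
        algebraMap R (Localization.AtPrime p) (m₀ * a) := by
      rw [map_mul, ← mul_assoc, hys', ← map_mul, mul_comm a m₀]
    rw [h2]
    exact Ideal.mem_map_of_mem _ hm
  · rw [Ideal.map_le_iff_le_comap]
    intro x hx
    rw [Ideal.mem_comap, RingHom.mem_ker, Localization.localRingHom_to_map,
      Ideal.Quotient.eq_zero_iff_mem.mpr hx, map_zero]

/-- Primes of `R/I` and of `R` correspond for `I ≤ nil(R)`. -/
noncomputable def primeSpectrumQuotientOrderIso (I : Ideal R) (hI : I ≤ nilradical R) :
    PrimeSpectrum (R ⧸ I) ≃o PrimeSpectrum R where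
  toFun q := ⟨q.asIdeal.comap (Ideal.Quotient.mk I), inferInstance⟩
  invFun P := ⟨P.asIdeal.map (Ideal.Quotient.mk I),
    Ideal.map_isPrime_of_surjective Ideal.Quotient.mk_surjective
      (by rw [Ideal.mk_ker]; exact hI.trans (nilradical_le_prime P.asIdeal))⟩
  left_inv q := PrimeSpectrum.ext
    (Ideal.map_comap_of_surjective _ Ideal.Quotient.mk_surjective _)
  right_inv P := PrimeSpectrum.ext (by
    show (P.asIdeal.map (Ideal.Quotient.mk I)).comap (Ideal.Quotient.mk I) = P.asIdeal
    rw [Ideal.comap_map_of_surjective _ Ideal.Quotient.mk_surjective,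
      ← RingHom.ker_eq_comap_bot, Ideal.mk_ker, sup_eq_left]
    exact hI.trans (nilradical_le_prime P.asIdeal))
  map_rel_iff' := by
    intro q q'
    show q.asIdeal.comap (Ideal.Quotient.mk I) ≤ q'.asIdeal.comap (Ideal.Quotient.mk I) ↔ q ≤ q'
    rw [Ideal.comap_le_comap_iff_of_surjective _ Ideal.Quotient.mk_surjective]
    rfl

theorem height_map_mk_of_le_nilradical (I : Ideal R) (hI : I ≤ nilradical R) (P : Ideal R)
    [hP : P.IsPrime] [(P.map (Ideal.Quotient.mk I)).IsPrime] :
    (P.map (Ideal.Quotient.mk I)).height = P.height := by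
  have h := Order.height_orderIso (primeSpectrumQuotientOrderIso I hI).symm ⟨P, hP⟩
  rw [← PrimeSpectrum.height_eq_orderHeight, ← PrimeSpectrum.height_eq_orderHeight] at h
  exact h

/-- Depth of `S ⧸ K` over `S` is the depth of the quotient ring, presented as a surjection. -/
theorem depth_quotient_eq_of_surjective {S T : Type u} [CommRing S] [CommRing T] [IsLocalRing S]
    [IsLocalRing T] [IsNoetherianRing S] (π : S →+* T) (hπ : Function.Surjective π)
    (K : Ideal S) (hK : RingHom.ker π = K) :
    LocCoh.depth S (S ⧸ K) = LocCoh.depth T T := by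
  subst hK
  let e : (S ⧸ RingHom.ker π) ≃+* T := RingHom.quotientKerEquivOfSurjective hπ
  haveI : Nontrivial (S ⧸ RingHom.ker π) := e.toEquiv.nontrivial
  haveI : IsLocalRing (S ⧸ RingHom.ker π) :=
    IsLocalRing.of_surjective' (Ideal.Quotient.mk _) Ideal.Quotient.mk_surjective
  have e1 : (S ⧸ RingHom.ker π) ≃ₗ[S] (S ⧸ (RingHom.ker π • (⊤ : Submodule S S))) :=
    Submodule.quotEquivOfEq _ _ (by rw [smul_eq_mul, Ideal.mul_top])
  have h1 : LocCoh.depth S (S ⧸ RingHom.ker π) =
      LocCoh.depth S (S ⧸ (RingHom.ker π • (⊤ : Submodule S S))) := by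
    unfold LocCoh.depth
    exact idealDepth_congr _ e1
  rw [h1, FlatRing.depth_quotient_ring, FlatFibre.depth_eq_of_ringEquiv e]

theorem one_le_sub_one {d : ℕ∞} (h : 2 ≤ d) : 1 ≤ d - 1 := by
  induction d using ENat.recTopCoe with
  | top => simp
  | coe n =>
    have h' : 2 ≤ n := by exact_mod_cast h
    have h1 : ((n - 1 : ℕ) : ℕ∞) = (n : ℕ∞) - 1 := by
      rw [ENat.natCast_sub, Nat.cast_one]
    rw [← h1]
    exact_mod_cast (by omega : 1 ≤ n - 1)

/-- A radical ideal different from the maximal ideal admits a regular element. -/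
theorem exists_isSMulRegular_quotient_of_isRadical {S : Type u} [CommRing S] [IsLocalRing S]
    [IsNoetherianRing S] (I : Ideal S) (hrad : I.IsRadical) (hle : I ≤ maximalIdeal S)
    (hne : I ≠ maximalIdeal S) :
    ∃ y ∈ maximalIdeal S, IsSMulRegular (S ⧸ I) y := by
  haveI : Nontrivial (S ⧸ I) := Ideal.Quotient.nontrivial_iff.mpr
    (fun h => (maximalIdeal.isMaximal S).ne_top (top_le_iff.mp (h ▸ hle)))
  by_contra hcon
  push Not at hcon
  obtain ⟨p, hp, hmp⟩ :=
    (forall_not_isSMulRegular_iff_exists_le_associatedPrime (M := S ⧸ I) (maximalIdeal S)).mp hcon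
  obtain ⟨hpprime, zb, hpz⟩ := isAssociatedPrime_iff.mp hp
  obtain ⟨z, rfl⟩ := Ideal.Quotient.mk_surjective zb
  have hpeq : p = maximalIdeal S :=
    ((maximalIdeal.isMaximal S).eq_of_le hpprime.ne_top hmp).symm
  have hcolon : ∀ r : S, r ∈ (⊥ : Submodule S (S ⧸ I)).colon {Ideal.Quotient.mk I z} ↔
      r * z ∈ I := by
    intro r
    rw [Submodule.mem_colon_singleton, Submodule.mem_bot, ← Ideal.Quotient.eq_zero_iff_mem,
      Algebra.smul_def, Ideal.Quotient.algebraMap_eq, ← map_mul]
  have hkill : ∀ s ∈ maximalIdeal S, s * z ∈ I := by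
    intro s hs
    rw [← hcolon, ← hpz, hpeq]
    exact hs
  have hzI : z ∉ I := by
    intro hz
    apply hpprime.ne_top
    rw [eq_top_iff]
    intro r _
    rw [hpz, hcolon]
    exact I.mul_mem_left _ hz
  have hzr : z ∉ I.radical := by rwa [hrad.radical]
  rw [Ideal.radical_eq_sInf, Ideal.mem_sInf] at hzr
  push Not at hzr
  obtain ⟨Q, ⟨hIQ, hQ⟩, hzQ⟩ := hzr
  have hmQ : maximalIdeal S ≤ Q := by
    intro s hs
    exact (hQ.mem_or_mem (hIQ (hkill s hs))).resolve_right hzQ
  have hQeq : Q = maximalIdeal S := ((maximalIdeal.isMaximal S).eq_of_le hQ.ne_top hmQ).symm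
  have hzu : IsUnit z := by
    by_contra h
    exact hzQ (hQeq ▸ (IsLocalRing.mem_maximalIdeal z).mpr h)
  apply hne
  apply le_antisymm hle
  intro s hs
  exact (Ideal.mul_unit_mem_iff_mem I hzu).mp (hkill s hs)

/-- An element lies in `I` as soon as it does so locally at all primes where `R_P/IR_P` has
depth zero. -/
theorem mem_of_forall_prime [IsNoetherianRing R] (I : Ideal R) (x : R)
    (h : ∀ (P : Ideal R) [P.IsPrime],
      algebraMap R (Localization.AtPrime P) x ∉ I.map (algebraMap R (Localization.AtPrime P)) →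
      1 ≤ LocCoh.depth (Localization.AtPrime P)
        (Localization.AtPrime P ⧸ I.map (algebraMap R (Localization.AtPrime P)))) : x ∈ I := by
  by_contra hx
  have hx' : Ideal.Quotient.mk I x ≠ 0 := by rwa [Ne, Ideal.Quotient.eq_zero_iff_mem]
  obtain ⟨P, hP, hle⟩ :=
    exists_le_isAssociatedPrime_of_isNoetherianRing R (Ideal.Quotient.mk I x) hx'
  obtain ⟨hPprime, zb, hPz⟩ := isAssociatedPrime_iff.mp hP
  obtain ⟨z, rfl⟩ := Ideal.Quotient.mk_surjective zb
  haveI := hPprime
  have hcolon : ∀ (t r : R), r ∈ (⊥ : Submodule R (R ⧸ I)).colon {Ideal.Quotient.mk I t} ↔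
      r * t ∈ I := by
    intro t r
    rw [Submodule.mem_colon_singleton, Submodule.mem_bot, ← Ideal.Quotient.eq_zero_iff_mem,
      Algebra.smul_def, Ideal.Quotient.algebraMap_eq, ← map_mul]
  have hxS : algebraMap R (Localization.AtPrime P) x ∉
      I.map (algebraMap R (Localization.AtPrime P)) := by
    intro hmem
    rw [IsLocalization.algebraMap_mem_map_algebraMap_iff P.primeCompl] at hmem
    obtain ⟨v, hv, hvx⟩ := hmem
    exact hv (hle ((hcolon x v).mpr hvx))
  have hdepth := h P hxS
  have hne : I.map (algebraMap R (Localization.AtPrime P)) ≠ ⊤ :=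
    fun h' => hxS (h' ▸ Submodule.mem_top)
  haveI : Nontrivial (Localization.AtPrime P ⧸ I.map (algebraMap R (Localization.AtPrime P))) :=
    Ideal.Quotient.nontrivial_iff.mpr hne
  obtain ⟨y, hy, hreg⟩ := (one_le_idealDepth_iff _ maximalIdeal_smul_top_ne_top).mp hdepth
  obtain ⟨⟨a, s⟩, has⟩ := IsLocalization.surj P.primeCompl y
  have has' : y * algebraMap R (Localization.AtPrime P) (s : R) =
      algebraMap R (Localization.AtPrime P) a := has
  have haP : a ∈ P := by
    have h1 : algebraMap R (Localization.AtPrime P) a ∈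
        maximalIdeal (Localization.AtPrime P) := by
      rw [← has']; exact Ideal.mul_mem_right _ _ hy
    exact (IsLocalization.AtPrime.to_map_mem_maximal_iff (Localization.AtPrime P) P a).mp h1
  have haz : a * z ∈ I := by
    rw [← hcolon, ← hPz]
    exact haP
  have hsu : IsUnit (algebraMap R (Localization.AtPrime P) (s : R)) :=
    IsLocalization.map_units _ s
  have h0 : y * algebraMap R (Localization.AtPrime P) z ∈
      I.map (algebraMap R (Localization.AtPrime P)) := by
    rw [← Ideal.mul_unit_mem_iff_mem _ hsu]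
    have h3 : y * algebraMap R (Localization.AtPrime P) z *
        algebraMap R (Localization.AtPrime P) (s : R) =
        algebraMap R (Localization.AtPrime P) (a * z) := by
      rw [map_mul, ← has']; ring
    rw [h3]; exact Ideal.mem_map_of_mem _ haz
  have hz0 : Ideal.Quotient.mk (I.map (algebraMap R (Localization.AtPrime P)))
      (algebraMap R (Localization.AtPrime P) z) = 0 := by
    apply hreg.right_eq_zero_of_smul
    exact (Ideal.Quotient.eq_zero_iff_mem.mpr h0 :
      Ideal.Quotient.mk (I.map (algebraMap R (Localization.AtPrime P)))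
        (y * algebraMap R (Localization.AtPrime P) z) = 0)
  rw [Ideal.Quotient.eq_zero_iff_mem,
    IsLocalization.algebraMap_mem_map_algebraMap_iff P.primeCompl] at hz0
  obtain ⟨v, hv, hvz⟩ := hz0
  have hvP : v ∈ P := by
    rw [hPz, hcolon]
    exact hvz
  exact hv hvP

/-- Depth lemma applied to `0 → S/K₁ --e--> S/K₂ → S/K₃ → 0`. -/
theorem depth_step_aux {S : Type u} [CommRing S] [IsLocalRing S] [IsNoetherianRing S]
    (K1 K2 K3 : Ideal S) (e : S)
    (hwd : ∀ t ∈ K1, e * t ∈ K2) (hinj : ∀ t, e * t ∈ K2 → t ∈ K1)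
    (hK3 : K3 = K2 ⊔ Ideal.span {e})
    (h1 : 1 ≤ LocCoh.depth S (S ⧸ K2)) (h2 : 2 ≤ LocCoh.depth S (S ⧸ K1)) :
    1 ≤ LocCoh.depth S (S ⧸ K3) := by
  have hle : K2 ≤ K3 := hK3 ▸ le_sup_left
  let f : (S ⧸ K1) →ₗ[S] (S ⧸ K2) := Submodule.mapQ K1 K2 (LinearMap.mulLeft S e)
    (fun t ht => by
      rw [Submodule.mem_comap, LinearMap.mulLeft_apply]
      exact hwd t ht)
  let g : (S ⧸ K2) →ₗ[S] (S ⧸ K3) := Submodule.factor hle
  have hfmk : ∀ t : S, f (Submodule.Quotient.mk t) = Submodule.Quotient.mk (e * t) :=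
    fun t => rfl
  have hgmk : ∀ t : S, g (Submodule.Quotient.mk t) = Submodule.Quotient.mk t := fun t => rfl
  have hf : Function.Injective f := by
    rw [← LinearMap.ker_eq_bot, LinearMap.ker_eq_bot']
    intro x hx
    obtain ⟨t, rfl⟩ := Submodule.Quotient.mk_surjective _ x
    rw [hfmk, Submodule.Quotient.mk_eq_zero] at hx
    exact (Submodule.Quotient.mk_eq_zero _).mpr (hinj t hx)
  have hg : Function.Surjective g := Submodule.factor_surjective hle
  have hfg : Function.Exact f g := by
    intro x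
    obtain ⟨t, rfl⟩ := Submodule.Quotient.mk_surjective _ x
    constructor
    · intro hx
      rw [hgmk, Submodule.Quotient.mk_eq_zero, hK3, Submodule.mem_sup] at hx
      obtain ⟨j, hj, z, hz, rfl⟩ := hx
      obtain ⟨c, rfl⟩ := Ideal.mem_span_singleton'.mp hz
      refine ⟨Submodule.Quotient.mk c, ?_⟩
      rw [hfmk, Submodule.Quotient.eq]
      have h3 : e * c - (j + c * e) = -j := by ring
      rw [h3]; exact K2.neg_mem hj
    · rintro ⟨y, hy⟩
      obtain ⟨c, rfl⟩ := Submodule.Quotient.mk_surjective _ y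
      rw [← hy, hfmk, hgmk, Submodule.Quotient.mk_eq_zero, hK3]
      exact Ideal.mem_sup_right (Ideal.mul_mem_right _ _ (Ideal.mem_span_singleton_self e))
  have key := (idealDepth_shortExact (maximalIdeal S) f g hf hg hfg).2.1
  unfold LocCoh.depth at h1 h2 ⊢
  exact le_trans (le_min h1 (one_le_sub_one h2)) key

end general

section artin

variable {A : Type u} [CommRing A] [IsArtinianRing A] [IsLocalRing A]

theorem isNilpotent_of_mem_maximalIdeal {a : A} (ha : a ∈ maximalIdeal A) : IsNilpotent a := by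
  have h := IsArtinianRing.isNilpotent_jacobson_bot (R := A)
  rw [IsLocalRing.jacobson_eq_maximalIdeal ⊥ bot_ne_top] at h
  obtain ⟨n, hn⟩ := h
  refine ⟨n, ?_⟩
  have h1 : a ^ n ∈ maximalIdeal A ^ n := Ideal.pow_mem_pow ha n
  rw [hn] at h1
  rwa [Ideal.zero_eq_bot, Ideal.mem_bot] at h1

theorem map_maximalIdeal_le_nilradical (X : Type u) [CommRing X] [Algebra A X] :
    (maximalIdeal A).map (algebraMap A X) ≤ nilradical X := by
  rw [Ideal.map_le_iff_le_comap]
  intro a ha
  rw [Ideal.mem_comap, mem_nilradical]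
  exact (isNilpotent_of_mem_maximalIdeal ha).map _

theorem isLocalHom_algebraMap (X : Type u) [CommRing X] [Nontrivial X] [Algebra A X] :
    IsLocalHom (algebraMap A X) := by
  constructor
  intro a ha
  by_contra hna
  have hm : a ∈ maximalIdeal A := (IsLocalRing.mem_maximalIdeal a).mpr hna
  obtain ⟨n, hn⟩ := (isNilpotent_of_mem_maximalIdeal hm).map (algebraMap A X)
  have h1 := ha.pow n
  rw [hn] at h1
  exact not_isUnit_zero h1

theorem comap_eq_maximalIdeal {B : Type u} [CommRing B] [Algebra A B] (P : Ideal B)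
    [P.IsPrime] : P.comap (algebraMap A B) = maximalIdeal A :=
  IsLocalRing.eq_maximalIdeal (IsArtinianRing.isMaximal_of_isPrime _)

/-- Data for one step `J' ⋖ J = J' + (ε)` with `𝔪ε ⊆ J'`. -/
structure Step (J' J : Ideal A) (ε : A) : Prop where
  not_mem : ε ∉ J'
  eq_sup : J = J' ⊔ Ideal.span {ε}
  mul_mem : ∀ a ∈ maximalIdeal A, a * ε ∈ J'

theorem exists_step {J' J : Ideal A} (h : J' ⋖ J) : ∃ ε, Step J' J ε := by
  obtain ⟨ε, hεJ, hεJ'⟩ := SetLike.exists_of_lt h.lt
  have hsup : J = J' ⊔ Ideal.span {ε} := by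
    have h1 : J' ≤ J' ⊔ Ideal.span {ε} := le_sup_left
    have h2 : J' ⊔ Ideal.span {ε} ≤ J :=
      sup_le h.le ((Ideal.span_singleton_le_iff_mem _).mpr hεJ)
    rcases h.eq_or_eq h1 h2 with h3 | h3
    · exfalso
      apply hεJ'
      rw [← h3]
      exact Ideal.mem_sup_right (Ideal.mem_span_singleton_self ε)
    · exact h3.symm
  refine ⟨ε, hεJ', hsup, ?_⟩
  have h1 : J' ≤ J' ⊔ maximalIdeal A • J := le_sup_left
  have h2 : J' ⊔ maximalIdeal A • J ≤ J := sup_le h.le Submodule.smul_le_right
  have h3 : J' ⊔ maximalIdeal A • J = J' := by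
    rcases h.eq_or_eq h1 h2 with h3 | h3
    · exact h3
    · exfalso
      have hle : J ≤ J' := Submodule.le_of_le_smul_of_le_jacobson_bot
        (IsNoetherian.noetherian J)
        (by rw [IsLocalRing.jacobson_eq_maximalIdeal ⊥ bot_ne_top]) h3.ge
      exact h.lt.not_ge hle
  intro a ha
  have h4 : a * ε ∈ maximalIdeal A • J := Submodule.smul_mem_smul ha hεJ
  rw [← h3]
  exact Ideal.mem_sup_right h4

theorem step_top : Step (maximalIdeal A) ⊤ (1 : A) where
  not_mem := (Ideal.ne_top_iff_one _).mp (maximalIdeal.isMaximal A).ne_top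
  eq_sup := by rw [Ideal.span_singleton_one, sup_top_eq]
  mul_mem := fun a ha => by rwa [mul_one]

/-- Local version: flat with radical `𝔪S ≠ 𝔪_S` gives positive depth of all `S/JS`. -/
theorem one_le_depth_quotient_of_flat {S : Type u} [CommRing S] [IsLocalRing S]
    [IsNoetherianRing S] [Algebra A S] [Module.Flat A S]
    (hrad : ((maximalIdeal A).map (algebraMap A S)).IsRadical)
    (hne : (maximalIdeal A).map (algebraMap A S) ≠ maximalIdeal S) (J : Ideal A) :
    1 ≤ LocCoh.depth S (S ⧸ J.map (algebraMap A S)) := by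
  haveI : IsLocalHom (algebraMap A S) := isLocalHom_algebraMap S
  have hle : (maximalIdeal A).map (algebraMap A S) ≤ maximalIdeal S :=
    (map_maximalIdeal_le_nilradical S).trans (nilradical_le_prime _)
  obtain ⟨y, hy, hreg⟩ := exists_isSMulRegular_quotient_of_isRadical _ hrad hle hne
  have e0 : (S ⧸ (maximalIdeal A).map (algebraMap A S)) ≃ₗ[S]
      (S ⧸ ((maximalIdeal A).map (algebraMap A S) • (⊤ : Submodule S S))) :=
    Submodule.quotEquivOfEq _ _ (by rw [smul_eq_mul, Ideal.mul_top])
  have hreg0 : IsSMulRegular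
      (S ⧸ ((maximalIdeal A).map (algebraMap A S) • (⊤ : Submodule S S))) y :=
    (e0.isSMulRegular_congr y).mp hreg
  have hreg1 : IsSMulRegular (S ⊗[A] (A ⧸ J)) y :=
    isSMulRegular_tensor_of_fibre y hreg0 (A ⧸ J)
  have hreg2 : IsSMulRegular (S ⧸ (J.map (algebraMap A S) • (⊤ : Submodule S S))) y :=
    (Equiv.isSMulRegular_congr (e := (tensorQuotEquivQuotMapSMul A S S J).toEquiv)
      (r := y) (s := y) (fun x => by
        show tensorQuotEquivQuotMapSMul A S S J (y • x) =
          y • tensorQuotEquivQuotMapSMul A S S J x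
        rw [smul_eq_rTensor]
        exact tensorQuotEquivQuotMapSMul_rTensor J y x)).mp hreg1
  have e1 : (S ⧸ (J.map (algebraMap A S) • (⊤ : Submodule S S))) ≃ₗ[S]
      (S ⧸ J.map (algebraMap A S)) :=
    Submodule.quotEquivOfEq _ _ (by rw [smul_eq_mul, Ideal.mul_top])
  have hreg3 : IsSMulRegular (S ⧸ J.map (algebraMap A S)) y :=
    (e1.isSMulRegular_congr y).mp hreg2
  by_cases hIM : maximalIdeal S • (⊤ : Submodule S (S ⧸ J.map (algebraMap A S))) = ⊤
  · unfold LocCoh.depth
    rw [idealDepth_of_smul_top_eq _ hIM]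
    exact le_top
  · exact (one_le_idealDepth_iff _ hIM).mpr ⟨y, hy, hreg3⟩

end artin

section main

variable (A : Type u) [CommRing A] [IsArtinianRing A] [IsLocalRing A]
  (B : Type u) [CommRing B] [Algebra A B] [IsNoetherianRing B]

/-- The condition `(D₁)` for the ideal `J`: `B/JB` has positive depth at all non-minimal primes. -/
def D1 (J : Ideal A) : Prop :=
  ∀ (P : Ideal B) [P.IsPrime], P.height ≠ 0 →
    1 ≤ LocCoh.depth (Localization.AtPrime P)
      (Localization.AtPrime P ⧸ J.map (algebraMap A (Localization.AtPrime P)))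

/-- The codimension-one hypothesis. -/
def Hcodim : Prop :=
  ∀ (q : Ideal B) [q.IsPrime], q.height ≤ 1 →
    Module.Flat A (Localization.AtPrime q) ∧ IsReduced (EGA4.FibLocRing A B q)

variable {A B}

theorem isRadical_of_hcodim (hc : Hcodim A B) (P : Ideal B) [P.IsPrime] (hP : P.height ≤ 1) :
    ((maximalIdeal A).map (algebraMap A (Localization.AtPrime P))).IsRadical := by
  have h2 := (Ideal.isRadical_iff_quotient_reduced _).mpr (hc P hP).2
  rwa [comap_eq_maximalIdeal P] at h2

theorem map_map_eq (P : Ideal B) [P.IsPrime] (J : Ideal A) :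
    (J.map (algebraMap A B)).map (algebraMap B (Localization.AtPrime P)) =
      J.map (algebraMap A (Localization.AtPrime P)) := by
  rw [Ideal.map_map, ← IsScalarTower.algebraMap_eq]

theorem map_maximalIdeal_ne (P : Ideal B) [P.IsPrime] (hP : P.height ≠ 0) :
    (maximalIdeal A).map (algebraMap A (Localization.AtPrime P)) ≠
      maximalIdeal (Localization.AtPrime P) := by
  intro heq
  apply hP
  rw [Ideal.height_eq_zero_iff]
  show Minimal (fun q : Ideal B => q.IsPrime ∧ ⊥ ≤ q) P
  refine ⟨⟨inferInstance, bot_le⟩, ?_⟩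
  rintro Q ⟨hQ, -⟩ hQP x hx
  have h1 : algebraMap B (Localization.AtPrime P) x ∈ maximalIdeal (Localization.AtPrime P) :=
    (IsLocalization.AtPrime.to_map_mem_maximal_iff (Localization.AtPrime P) P x).mpr hx
  rw [← heq] at h1
  have h2 := map_maximalIdeal_le_nilradical (A := A) (Localization.AtPrime P) h1
  rw [mem_nilradical] at h2
  obtain ⟨n, hn⟩ := h2
  rw [← map_pow, IsLocalization.map_eq_zero_iff P.primeCompl] at hn
  obtain ⟨v, hv⟩ := hn
  have h3 : (v : B) * x ^ n ∈ Q := by rw [hv]; exact Q.zero_mem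
  have hvQ : (v : B) ∉ Q := fun h => v.2 (hQP h)
  exact hQ.mem_of_pow_mem n ((hQ.mem_or_mem h3).resolve_left hvQ)

/-- `ε · nil(B) ⊆ J'B`. -/
theorem smul_mem_of_mem_nilradical (hc : Hcodim A B) {J' J : Ideal A} {ε : A}
    (hs : Step J' J ε) (hD : D1 A B J') {b : B} (hb : b ∈ nilradical B) :
    algebraMap A B ε * b ∈ J'.map (algebraMap A B) := by
  apply mem_of_forall_prime
  intro P _ hnot
  rw [map_map_eq]
  by_cases hP : P.height = 0
  · exfalso
    apply hnot
    rw [map_map_eq]
    have hrad := isRadical_of_hcodim hc P (by rw [hP]; exact zero_le_one)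
    have hb1 : algebraMap B (Localization.AtPrime P) b ∈
        (maximalIdeal A).map (algebraMap A (Localization.AtPrime P)) := by
      obtain ⟨n, hn⟩ := (mem_nilradical.mp hb).map (algebraMap B (Localization.AtPrime P))
      apply hrad
      exact ⟨n, by rw [hn]; exact Ideal.zero_mem _⟩
    have h2 : Ideal.span {ε} * maximalIdeal A ≤ J' := by
      rw [Ideal.span_singleton_mul_le_iff]
      intro z hz
      rw [mul_comm]
      exact hs.mul_mem z hz
    have h3 := Ideal.map_mono (f := algebraMap A (Localization.AtPrime P)) h2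
    rw [Ideal.map_mul] at h3
    apply h3
    rw [map_mul, ← IsScalarTower.algebraMap_apply]
    exact Ideal.mul_mem_mul (Ideal.mem_map_of_mem _ (Ideal.mem_span_singleton_self ε)) hb1
  · exact hD P hP

/-- `(J'B : ε) ⊆ nil(B)`. -/
theorem mem_nilradical_of_smul_mem (hc : Hcodim A B) {J' J : Ideal A} {ε : A}
    (hs : Step J' J ε) {b : B} (hb : algebraMap A B ε * b ∈ J'.map (algebraMap A B)) :
    b ∈ nilradical B := by
  rw [nilradical_eq_sInf, Ideal.mem_sInf]
  intro Q hQ
  haveI : Q.IsPrime := hQ
  obtain ⟨q, hq, hqQ⟩ := Ideal.exists_minimalPrimes_le (I := ⊥) (J := Q) bot_le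
  apply hqQ
  haveI hqp : q.IsPrime := hq.1.1
  by_contra hbq
  have hq' : q ∈ minimalPrimes B := hq
  have hq0 : q.height = 0 := Ideal.height_eq_zero_iff.mpr hq'
  obtain ⟨hflat, -⟩ := hc q (by rw [hq0]; exact zero_le_one)
  haveI := hflat
  haveI : IsLocalHom (algebraMap A (Localization.AtPrime q)) := isLocalHom_algebraMap _
  haveI : Module.FaithfullyFlat A (Localization.AtPrime q) :=
    Module.FaithfullyFlat.of_flat_of_isLocalHom
  have hbu : IsUnit (algebraMap B (Localization.AtPrime q) b) :=
    IsLocalization.map_units _ (⟨b, hbq⟩ : q.primeCompl)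
  have h1 : algebraMap B (Localization.AtPrime q) (algebraMap A B ε * b) ∈
      J'.map (algebraMap A (Localization.AtPrime q)) := by
    rw [← map_map_eq]
    exact Ideal.mem_map_of_mem _ hb
  rw [map_mul, Ideal.mul_unit_mem_iff_mem _ hbu, ← IsScalarTower.algebraMap_apply] at h1
  have h2 : ε ∈ (J'.map (algebraMap A (Localization.AtPrime q))).comap
      (algebraMap A (Localization.AtPrime q)) := h1
  rw [Ideal.comap_map_eq_self_of_faithfullyFlat] at h2
  exact hs.not_mem h2

/-- Localised version of `mem_nilradical_of_smul_mem`. -/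
theorem mem_map_nilradical_of_mul_mem (hc : Hcodim A B) {J' J : Ideal A} {ε : A}
    (hs : Step J' J ε) (P : Ideal B) [P.IsPrime] {s : Localization.AtPrime P}
    (h : algebraMap A (Localization.AtPrime P) ε * s ∈
      J'.map (algebraMap A (Localization.AtPrime P))) :
    s ∈ (nilradical B).map (algebraMap B (Localization.AtPrime P)) := by
  obtain ⟨⟨b, u⟩, hbu⟩ := IsLocalization.surj P.primeCompl s
  have hbu' : s * algebraMap B (Localization.AtPrime P) (u : B) =
      algebraMap B (Localization.AtPrime P) b := hbu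
  have hu : IsUnit (algebraMap B (Localization.AtPrime P) (u : B)) :=
    IsLocalization.map_units _ u
  rw [← Ideal.mul_unit_mem_iff_mem _ hu, hbu']
  have h1 : algebraMap B (Localization.AtPrime P) (algebraMap A B ε * b) ∈
      (J'.map (algebraMap A B)).map (algebraMap B (Localization.AtPrime P)) := by
    rw [map_map_eq, map_mul, ← hbu', ← IsScalarTower.algebraMap_apply, ← mul_assoc]
    exact Ideal.mul_mem_right _ _ h
  rw [IsLocalization.algebraMap_mem_map_algebraMap_iff P.primeCompl] at h1
  obtain ⟨v, hv, hvb⟩ := h1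
  have h2 : v * b ∈ nilradical B := mem_nilradical_of_smul_mem hc hs (by
    have h3 : algebraMap A B ε * (v * b) = v * (algebraMap A B ε * b) := by ring
    rw [h3]; exact hvb)
  have hvu : IsUnit (algebraMap B (Localization.AtPrime P) v) :=
    IsLocalization.map_units _ (⟨v, hv⟩ : P.primeCompl)
  rw [← Ideal.unit_mul_mem_iff_mem _ hvu, ← map_mul]
  exact Ideal.mem_map_of_mem _ h2

/-- The induction step at primes of height `≥ 2`. -/
theorem one_le_depth_step (hc : Hcodim A B) {J' J : Ideal A} {ε : A} (hs : Step J' J ε)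
    (hD : D1 A B J') (P : Ideal B) [P.IsPrime] (hP0 : P.height ≠ 0)
    (h2 : 2 ≤ LocCoh.depth (Localization.AtPrime P)
      (Localization.AtPrime P ⧸ (nilradical B).map (algebraMap B (Localization.AtPrime P)))) :
    1 ≤ LocCoh.depth (Localization.AtPrime P)
      (Localization.AtPrime P ⧸ J.map (algebraMap A (Localization.AtPrime P))) := by
  refine depth_step_aux ((nilradical B).map (algebraMap B (Localization.AtPrime P)))
    (J'.map (algebraMap A (Localization.AtPrime P))) _
    (algebraMap A (Localization.AtPrime P) ε) ?_ ?_ ?_ (hD P hP0) h2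
  · intro t ht
    unfold Ideal.map at ht
    induction ht using Submodule.span_induction with
    | mem t ht =>
      obtain ⟨b, hb, rfl⟩ := ht
      rw [IsScalarTower.algebraMap_apply A B (Localization.AtPrime P), ← map_mul,
        ← map_map_eq]
      exact Ideal.mem_map_of_mem _ (smul_mem_of_mem_nilradical hc hs hD hb)
    | zero => rw [mul_zero]; exact Ideal.zero_mem _
    | add x y _ _ hx hy => rw [mul_add]; exact Ideal.add_mem _ hx hy
    | smul c x _ hx => rw [smul_eq_mul, mul_left_comm]; exact Ideal.mul_mem_left _ _ hx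
  · intro t ht
    exact mem_map_nilradical_of_mul_mem hc hs P ht
  · rw [hs.eq_sup, Ideal.map_sup, Ideal.map_span, Set.image_singleton]

/-- `(S₂)` of `B_red` gives depth `≥ 2` of `B_P / nil(B) B_P` at primes of height `≥ 2`. -/
theorem two_le_depth_nilradical
    (hS2 : LocCoh.HasSk 2 (B ⧸ nilradical B) (B ⧸ nilradical B)) (P : Ideal B) [P.IsPrime]
    (hP : 2 ≤ P.height) :
    2 ≤ LocCoh.depth (Localization.AtPrime P)
      (Localization.AtPrime P ⧸ (nilradical B).map (algebraMap B (Localization.AtPrime P))) := by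
  have hle : nilradical B ≤ P := nilradical_le_prime P
  obtain ⟨q, hq⟩ : ∃ q : Ideal (B ⧸ nilradical B),
      q = P.map (Ideal.Quotient.mk (nilradical B)) := ⟨_, rfl⟩
  have hcomap : P = q.comap (Ideal.Quotient.mk (nilradical B)) := by
    rw [hq, Ideal.comap_map_of_surjective _ Ideal.Quotient.mk_surjective,
      ← RingHom.ker_eq_comap_bot, Ideal.mk_ker, sup_eq_left.mpr hle]
  haveI hqp : q.IsPrime := by
    rw [hq]
    exact Ideal.map_isPrime_of_surjective Ideal.Quotient.mk_surjective
      (by rw [Ideal.mk_ker]; exact hle)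
  have hht : q.height = P.height := by
    subst hq
    exact height_map_mk_of_le_nilradical (nilradical B) le_rfl P
  obtain ⟨π, hπdef⟩ : ∃ π : Localization.AtPrime P →+* Localization.AtPrime q,
      π = Localization.localRingHom P q (Ideal.Quotient.mk (nilradical B)) hcomap := ⟨_, rfl⟩
  have hker : RingHom.ker π =
      (nilradical B).map (algebraMap B (Localization.AtPrime P)) := by
    rw [hπdef]; exact ker_localRingHom_quotient (nilradical B) q P hcomap
  have hπ : Function.Surjective π := by
    rw [hπdef]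
    clear hker hπdef
    subst hcomap
    exact RingHom.surjective_localRingHom_of_surjective _ Ideal.Quotient.mk_surjective q
  rw [depth_quotient_eq_of_surjective π hπ _ hker]
  have h1 := (hasSk_self_iff' 2).mp hS2 q
  rw [hht, min_eq_left (by exact_mod_cast hP)] at h1
  exact_mod_cast h1

/-- `(D₁)` holds for every ideal of `A`. -/
theorem d1_all (hS1 : LocCoh.HasSk 1 B B)
    (hS2 : LocCoh.HasSk 2 (B ⧸ nilradical B) (B ⧸ nilradical B)) (hc : Hcodim A B) :
    ∀ J : Ideal A, D1 A B J := by
  intro J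
  induction J using WellFoundedLT.induction with
  | ind J ih =>
    by_cases hJ : J = ⊥
    · subst hJ
      intro P _ hP
      rw [Ideal.map_bot]
      have e : (Localization.AtPrime P ⧸ (⊥ : Ideal (Localization.AtPrime P)))
          ≃ₗ[Localization.AtPrime P] Localization.AtPrime P :=
        Submodule.quotEquivOfEqBot ⊥ rfl
      have h1 := (hasSk_self_iff' 1).mp hS1 P
      have h2 : ((1 : ℕ) : ℕ∞) ≤ P.height := by
        rw [Nat.cast_one]; exact Order.one_le_iff_ne_zero.mpr hP
      rw [min_eq_left h2] at h1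
      unfold LocCoh.depth at h1 ⊢
      rw [idealDepth_congr _ e]
      exact_mod_cast h1
    · obtain ⟨J', -, hJ'⟩ := exists_le_covBy_of_lt (bot_lt_iff_ne_bot.mpr hJ)
      obtain ⟨ε, hs⟩ := exists_step hJ'
      have hD := ih J' hJ'.lt
      intro P _ hP
      by_cases hP1 : P.height ≤ 1
      · haveI := (hc P hP1).1
        exact one_le_depth_quotient_of_flat (isRadical_of_hcodim hc P hP1)
          (map_maximalIdeal_ne P hP) J
      · have h2 : 2 ≤ P.height := by
          rw [not_le] at hP1
          have h3 := Order.add_one_le_of_lt hP1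
          rwa [one_add_one_eq_two] at h3
        exact one_le_depth_step hc hs hD P hP (two_le_depth_nilradical hS2 P h2)

/-- `𝔪B = nil(B)`. -/
theorem map_maximalIdeal_eq_nilradical (hS1 : LocCoh.HasSk 1 B B)
    (hS2 : LocCoh.HasSk 2 (B ⧸ nilradical B) (B ⧸ nilradical B)) (hc : Hcodim A B) :
    (maximalIdeal A).map (algebraMap A B) = nilradical B := by
  have hD := d1_all hS1 hS2 hc (maximalIdeal A)
  apply le_antisymm
  · exact map_maximalIdeal_le_nilradical B
  · intro b hb
    have h1 := smul_mem_of_mem_nilradical hc step_top hD hb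
    rwa [map_one, one_mul] at h1

/-- The closed fibre is reduced. -/
theorem isReduced_quotient (hS1 : LocCoh.HasSk 1 B B)
    (hS2 : LocCoh.HasSk 2 (B ⧸ nilradical B) (B ⧸ nilradical B)) (hc : Hcodim A B) :
    IsReduced (B ⧸ (maximalIdeal A).map (algebraMap A B)) := by
  rw [← Ideal.isRadical_iff_quotient_reduced, map_maximalIdeal_eq_nilradical hS1 hS2 hc]
  exact Ideal.radical_isRadical _

/-- One step of the flatness induction. -/
theorem injective_step (hc : Hcodim A B) {J' J : Ideal A} {ε : A} (hs : Step J' J ε)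
    (hmN : (maximalIdeal A).map (algebraMap A B) = nilradical B)
    (ih : Function.Injective (TensorProduct.lift ((LinearMap.lsmul A B).comp J'.subtype))) :
    Function.Injective (TensorProduct.lift ((LinearMap.lsmul A B).comp J.subtype)) := by
  have hle : J' ≤ J := by rw [hs.eq_sup]; exact le_sup_left
  have hεJ : ε ∈ J := by
    rw [hs.eq_sup]; exact Ideal.mem_sup_right (Ideal.mem_span_singleton_self ε)
  obtain ⟨φ', hφ'⟩ : ∃ φ' : J' ⊗[A] B →ₗ[A] B,
      φ' = TensorProduct.lift ((LinearMap.lsmul A B).comp J'.subtype) := ⟨_, rfl⟩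
  obtain ⟨φ, hφ⟩ : ∃ φ : J ⊗[A] B →ₗ[A] B,
      φ = TensorProduct.lift ((LinearMap.lsmul A B).comp J.subtype) := ⟨_, rfl⟩
  rw [← hφ'] at ih
  rw [← hφ]
  have hφt : ∀ (j : J) (b : B), φ (j ⊗ₜ[A] b) = algebraMap A B (j : A) * b := by
    intro j b
    rw [hφ, TensorProduct.lift.tmul, LinearMap.comp_apply, Submodule.subtype_apply,
      LinearMap.lsmul_apply, Algebra.smul_def]
  have hφ't : ∀ (j : J') (b : B), φ' (j ⊗ₜ[A] b) = algebraMap A B (j : A) * b := by
    intro j b
    rw [hφ', TensorProduct.lift.tmul, LinearMap.comp_apply, Submodule.subtype_apply,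
      LinearMap.lsmul_apply, Algebra.smul_def]
  obtain ⟨ι, hι⟩ : ∃ ι : J' ⊗[A] B →ₗ[A] J ⊗[A] B,
      ι = LinearMap.rTensor B (Submodule.inclusion hle) := ⟨_, rfl⟩
  have hιt : ∀ (j : J') (b : B), ι (j ⊗ₜ[A] b) = Submodule.inclusion hle j ⊗ₜ[A] b := by
    intro j b
    rw [hι, LinearMap.rTensor_tmul]
  have hφι : ∀ y, φ (ι y) = φ' y := by
    intro y
    induction y using TensorProduct.induction_on with
    | zero => rw [map_zero, map_zero, map_zero]
    | tmul j b => rw [hιt, hφt, hφ't, Submodule.coe_inclusion]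
    | add a b ha hb => rw [map_add, map_add, map_add, ha, hb]
  have hrange : ∀ y, φ' y ∈ J'.map (algebraMap A B) := by
    intro y
    induction y using TensorProduct.induction_on with
    | zero => rw [map_zero]; exact Ideal.zero_mem _
    | tmul j b =>
      rw [hφ't]
      exact Ideal.mul_mem_right _ _ (Ideal.mem_map_of_mem _ j.2)
    | add a b ha hb => rw [map_add]; exact Ideal.add_mem _ ha hb
  have hdecomp : ∀ x : J ⊗[A] B, ∃ (y : J' ⊗[A] B) (b : B),
      x = ι y + (⟨ε, hεJ⟩ : J) ⊗ₜ[A] b := by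
    intro x
    induction x using TensorProduct.induction_on with
    | zero => exact ⟨0, 0, by rw [map_zero, TensorProduct.tmul_zero, add_zero]⟩
    | tmul j b =>
      obtain ⟨j, hj⟩ := j
      have hj2 := hj
      rw [hs.eq_sup, Submodule.mem_sup] at hj2
      obtain ⟨j', hj', z, hz, hjz⟩ := hj2
      obtain ⟨c, rfl⟩ := Ideal.mem_span_singleton'.mp hz
      subst hjz
      refine ⟨(⟨j', hj'⟩ : J') ⊗ₜ[A] b, c • b, ?_⟩
      rw [hιt, ← TensorProduct.smul_tmul, ← TensorProduct.add_tmul]
      congr 1
    | add x₁ x₂ h₁ h₂ =>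
      obtain ⟨y₁, b₁, rfl⟩ := h₁
      obtain ⟨y₂, b₂, rfl⟩ := h₂
      refine ⟨y₁ + y₂, b₁ + b₂, ?_⟩
      rw [map_add, TensorProduct.tmul_add]
      abel
  have hmem : ∀ b ∈ (maximalIdeal A).map (algebraMap A B), ∀ c : B,
      (⟨ε, hεJ⟩ : J) ⊗ₜ[A] (c * b) ∈ LinearMap.range ι := by
    intro b hb
    unfold Ideal.map at hb
    induction hb using Submodule.span_induction with
    | mem b hb =>
      obtain ⟨a, ha, rfl⟩ := hb
      intro c
      refine ⟨(⟨a * ε, hs.mul_mem a ha⟩ : J') ⊗ₜ[A] c, ?_⟩
      have h1 : c * algebraMap A B a = a • c := by rw [Algebra.smul_def, mul_comm]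
      rw [hιt, h1, ← TensorProduct.smul_tmul]
      congr 1
    | zero =>
      intro c
      rw [mul_zero, TensorProduct.tmul_zero]
      exact Submodule.zero_mem _
    | add x y _ _ hx hy =>
      intro c
      rw [mul_add, TensorProduct.tmul_add]
      exact Submodule.add_mem _ (hx c) (hy c)
    | smul r x _ hx =>
      intro c
      rw [smul_eq_mul, ← mul_assoc]
      exact hx (c * r)
  rw [injective_iff_map_eq_zero]
  intro x hx
  obtain ⟨y, b, rfl⟩ := hdecomp x
  have hx0 := hx
  rw [map_add, hφι, hφt] at hx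
  have hb1 : algebraMap A B ε * b ∈ J'.map (algebraMap A B) := by
    have h1 : algebraMap A B ε * b = - φ' y := by
      rw [eq_neg_iff_add_eq_zero, add_comm]; exact hx
    rw [h1]
    exact (Ideal.neg_mem_iff _).mpr (hrange y)
  have hbN : b ∈ nilradical B := mem_nilradical_of_smul_mem hc hs hb1
  rw [← hmN] at hbN
  obtain ⟨y', hy'⟩ := hmem b hbN 1
  rw [one_mul] at hy'
  have hxeq : ι y + (⟨ε, hεJ⟩ : J) ⊗ₜ[A] b = ι (y + y') := by rw [map_add, hy']
  have h0 : φ' (y + y') = 0 := by rw [← hφι, ← hxeq]; exact hx0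
  have h1 : y + y' = 0 := (injective_iff_map_eq_zero φ').mp ih _ h0
  rw [hxeq, h1, map_zero]

/-- `B` is flat over `A`. -/
theorem flat (hS1 : LocCoh.HasSk 1 B B)
    (hS2 : LocCoh.HasSk 2 (B ⧸ nilradical B) (B ⧸ nilradical B)) (hc : Hcodim A B) :
    Module.Flat A B := by
  have hmN := map_maximalIdeal_eq_nilradical hS1 hS2 hc
  have key : ∀ J : Ideal A,
      Function.Injective (TensorProduct.lift ((LinearMap.lsmul A B).comp J.subtype)) := by
    intro J
    induction J using WellFoundedLT.induction with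
    | ind J ih =>
      by_cases hJ : J = ⊥
      · subst hJ
        haveI : Subsingleton ((⊥ : Ideal A) ⊗[A] B) := subsingleton_tensor_of_left
        exact Function.injective_of_subsingleton _
      · obtain ⟨J', -, hJ'⟩ := exists_le_covBy_of_lt (bot_lt_iff_ne_bot.mpr hJ)
        obtain ⟨ε, hs⟩ := exists_step hJ'
        exact injective_step hc hs hmN (ih J' hJ'.lt)
  rw [Module.Flat.iff_lift_lsmul_comp_subtype_injective]
  intro J _
  exact key J

end main

end Groth.Agent.Lib.Helper4.ArtinFlat
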