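import Groth.Agent.Lib.Helper4.RegCM
import Groth.Agent.Lib.Helper4.GorDim
import Groth.Agent.Lib.Helper4.ArtinFlat
import Groth.Agent.S0342

/-!
# Unmixedness in regular rings and saturation of complete intersections (helper4)

* `unmixed_local`: in a regular local ring, `r` elements of the maximal ideal generating an ideal
  of height `≥ r` form a regular sequence with Cohen–Macaulay quotient of dimension `dim A - r`.
* `le_height_of_X_mem`: a prime of `k[x_0..x_n]` containing all variables has height `≥ n+1`.
* `main`: an ideal of `k[x_0..x_n]` of height `r ≤ n` generated by `r` elements is saturated with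
  respect to `(x_0, …, x_n)`.
-/

set_option autoImplicit false
set_option linter.style.haveILetI false
set_option linter.unusedSectionVars false
set_option linter.unusedVariables false
set_option maxHeartbeats 800000

open IsLocalRing RingTheory.Sequence

universe u

namespace Groth.Agent.Lib.Helper4.Unmixed

open Groth.Agent.Lib.Helper4 Groth.Agent.Lib.Helper4.StalkDual

theorem unmixed_local (A : Type u) [CommRing A] [IsRegularLocalRing A] (xs : List A)
    (hxs : ∀ x ∈ xs, x ∈ maximalIdeal A)
    (hht : (xs.length : ℕ∞) ≤ (Ideal.ofList xs).height) :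
    IsWeaklyRegular A xs ∧
      LocCoh.IsCohenMacaulayModule A (A ⧸ Ideal.ofList xs • (⊤ : Submodule A A)) ∧
      Module.supportDim A (A ⧸ Ideal.ofList xs • (⊤ : Submodule A A)) + xs.length =
        ringKrullDim A := by
  haveI : LocCoh.IsGorensteinLocalRing A := Groth.Agent.S0342.result A
  have hCMA : LocCoh.IsCohenMacaulayModule A A := RegCM.isCohenMacaulayModule_self A
  obtain ⟨n, hn⟩ := RegCM.exists_nat_ringKrullDim A
  have hIle : Ideal.ofList xs ≤ maximalIdeal A := by
    change Ideal.span {x | x ∈ xs} ≤ _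
    exact Ideal.span_le.2 (fun x hx => hxs x hx)
  have hItop : Ideal.ofList xs ≠ ⊤ := fun h =>
    (IsLocalRing.maximalIdeal.isMaximal A).ne_top (top_le_iff.1 (h ▸ hIle))
  have hgtop : (Ideal.ofList xs).height ≠ ⊤ := Ideal.height_ne_top hItop
  obtain ⟨g, hg⟩ := ENat.ne_top_iff_exists.mp hgtop
  have hsmul : (Ideal.ofList xs • (⊤ : Submodule A A)) = Ideal.ofList xs := by
    rw [smul_eq_mul, Ideal.mul_top]
  let e : (A ⧸ Ideal.ofList xs • (⊤ : Submodule A A)) ≃ₗ[A] (A ⧸ Ideal.ofList xs) :=
    Submodule.quotEquivOfEq _ _ hsmul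
  haveI : Nontrivial (A ⧸ Ideal.ofList xs) := Ideal.Quotient.nontrivial_iff.mpr hItop
  haveI : Nontrivial (A ⧸ Ideal.ofList xs • (⊤ : Submodule A A)) := e.toEquiv.nontrivial
  obtain ⟨D, hD⟩ := exists_nat_supportDim (R := A)
    (M := A ⧸ Ideal.ofList xs • (⊤ : Submodule A A))
  have hD' : ringKrullDim (A ⧸ Ideal.ofList xs) = D := by
    rw [← Module.supportDim_quotient_eq_ringKrullDim, ← Module.supportDim_eq_of_equiv e, hD]
    rfl
  have hgor : D + g = n := gor_dim_add_height_eq A (Ideal.ofList xs) g D n hg.symm hD' hn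
  have h3 := supportDim_le_supportDim_quot_ofList_add_length (R := A) (M := A) xs hxs
  rw [Module.supportDim_self_eq_ringKrullDim, hn, hD] at h3
  have h3' : n ≤ D + xs.length := by exact_mod_cast h3
  have h4 : xs.length ≤ g := by
    rw [← hg] at hht
    exact_mod_cast hht
  have hlen : D + xs.length = n := by omega
  have hdim : Module.supportDim A (A ⧸ Ideal.ofList xs • (⊤ : Submodule A A)) + xs.length =
      Module.supportDim A A := by
    rw [Module.supportDim_self_eq_ringKrullDim, hn, hD]
    exact_mod_cast hlen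
  have hreg := cm_isWeaklyRegular_of_supportDim hCMA xs hxs hdim
  have hCM := cm_quot_ofList hCMA xs hxs hreg
  exact ⟨hreg, hCM, by rw [hdim, Module.supportDim_self_eq_ringKrullDim]⟩

section chain

variable (k : Type u) [Field k] (n : ℕ)

/-- kill the first `j` variables. -/
noncomputable def phi (j : ℕ) :
    MvPolynomial (Fin (n + 1)) k →ₐ[k] MvPolynomial (Fin (n + 1)) k :=
  MvPolynomial.aeval (fun i : Fin (n + 1) => if (i : ℕ) < j then 0 else MvPolynomial.X i)

lemma phi_X (j : ℕ) (i : Fin (n + 1)) :
    phi k n j (MvPolynomial.X i) = if (i : ℕ) < j then 0 else MvPolynomial.X i := by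
  unfold phi
  rw [MvPolynomial.aeval_X]

lemma phi_comp (j : ℕ) (p : MvPolynomial (Fin (n + 1)) k) :
    phi k n (j + 1) (phi k n j p) = phi k n (j + 1) p := by
  have h : (phi k n (j + 1)).comp (phi k n j) = phi k n (j + 1) := by
    apply MvPolynomial.algHom_ext
    intro i
    rw [AlgHom.comp_apply, phi_X]
    by_cases h : (i : ℕ) < j
    · rw [if_pos h, map_zero, phi_X, if_pos (by omega)]
    · rw [if_neg h]
  exact congrArg (fun F => F p) h

instance ker_phi_isPrime (j : ℕ) : (RingHom.ker (phi k n j)).IsPrime :=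
  RingHom.ker_isPrime (phi k n j)

lemma ker_phi_lt (j : ℕ) (hj : j ≤ n) : RingHom.ker (phi k n j) < RingHom.ker (phi k n (j + 1)) := by
  apply lt_of_le_of_ne
  · intro p hp
    rw [RingHom.mem_ker] at hp ⊢
    rw [← phi_comp, hp, map_zero]
  · intro heq
    have h1 : (MvPolynomial.X (⟨j, by omega⟩ : Fin (n + 1)) : MvPolynomial (Fin (n + 1)) k) ∈
        RingHom.ker (phi k n (j + 1)) := by
      rw [RingHom.mem_ker, phi_X, if_pos (Nat.lt_succ_self j)]
    rw [← heq, RingHom.mem_ker, phi_X, if_neg (lt_irrefl j)] at h1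
    exact MvPolynomial.X_ne_zero _ h1

lemma le_height_ker_phi : ∀ j : ℕ, j ≤ n + 1 → (j : ℕ∞) ≤ (RingHom.ker (phi k n j)).height
  | 0, _ => by simp
  | (j + 1), hj => by
    have ih := le_height_ker_phi j (by omega)
    have h1 := Ideal.height_add_one_le_of_lt_of_isPrime (ker_phi_lt k n j (by omega))
    calc ((j + 1 : ℕ) : ℕ∞) = (j : ℕ∞) + 1 := by push_cast; rfl
      _ ≤ (RingHom.ker (phi k n j)).height + 1 := by gcongr
      _ ≤ _ := h1

theorem le_height_of_X_mem (P : Ideal (MvPolynomial (Fin (n + 1)) k)) [P.IsPrime]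
    (hX : ∀ i, (MvPolynomial.X i : MvPolynomial (Fin (n + 1)) k) ∈ P) :
    ((n + 1 : ℕ) : ℕ∞) ≤ P.height := by
  have hsub : ∀ p : MvPolynomial (Fin (n + 1)) k, p - phi k n (n + 1) p ∈ P := by
    intro p
    induction p using MvPolynomial.induction_on with
    | C a =>
      have h1 : phi k n (n + 1) (MvPolynomial.C a) = MvPolynomial.C a := by
        rw [← MvPolynomial.algebraMap_eq]
        exact AlgHom.commutes _ a
      rw [h1, sub_self]
      exact P.zero_mem
    | add p q hp hq =>
      have h1 : p + q - phi k n (n + 1) (p + q) =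
          (p - phi k n (n + 1) p) + (q - phi k n (n + 1) q) := by
        rw [map_add]; ring
      rw [h1]
      exact P.add_mem hp hq
    | mul_X p i hp =>
      rw [map_mul, phi_X, if_pos i.isLt, mul_zero, sub_zero]
      exact P.mul_mem_left _ (hX i)
  have hle : RingHom.ker (phi k n (n + 1)) ≤ P := by
    intro p hp
    rw [RingHom.mem_ker] at hp
    have := hsub p
    rwa [hp, sub_zero] at this
  exact (le_height_ker_phi k n (n + 1) le_rfl).trans (Ideal.height_mono hle)

end chain

/-- saturation of a complete intersection ideal of `k[x_0..x_n]` of height `r ≤ n`. -/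
theorem main (k : Type u) [Field k] (n r : ℕ) (hr : r ≤ n)
    (f : Fin r → MvPolynomial (Fin (n + 1)) k)
    (hJ : (Ideal.span (Set.range f)).height = r) (g : MvPolynomial (Fin (n + 1)) k)
    (hg : ∀ i : Fin (n + 1), ∃ m : ℕ, MvPolynomial.X i ^ m * g ∈ Ideal.span (Set.range f)) :
    g ∈ Ideal.span (Set.range f) := by
  apply ArtinFlat.mem_of_forall_prime (Ideal.span (Set.range f)) g
  intro P hPprime hgP
  have hX : ∀ i, (MvPolynomial.X i : MvPolynomial (Fin (n + 1)) k) ∈ P := by
    intro i
    by_contra hi
    obtain ⟨m, hm⟩ := hg i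
    apply hgP
    rw [IsLocalization.algebraMap_mem_map_algebraMap_iff P.primeCompl]
    exact ⟨MvPolynomial.X i ^ m, fun h => hi (hPprime.mem_of_pow_mem m h), hm⟩
  have hht := le_height_of_X_mem k n P hX
  have hI : Ideal.ofList (List.ofFn (fun i => algebraMap _ (Localization.AtPrime P) (f i))) =
      (Ideal.span (Set.range f)).map (algebraMap _ (Localization.AtPrime P)) := by
    apply le_antisymm
    · change Ideal.span {x | x ∈ List.ofFn _} ≤ _
      apply Ideal.span_le.2
      intro x hx
      have hx' : x ∈ List.ofFn (fun i => algebraMap _ (Localization.AtPrime P) (f i)) := hx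
      rw [List.mem_ofFn] at hx'
      obtain ⟨i, rfl⟩ := hx'
      exact Ideal.mem_map_of_mem _ (Ideal.subset_span ⟨i, rfl⟩)
    · apply Ideal.map_le_iff_le_comap.2
      apply Ideal.span_le.2
      rintro _ ⟨i, rfl⟩
      change algebraMap _ (Localization.AtPrime P) (f i) ∈ Ideal.span {x | x ∈ List.ofFn _}
      apply Ideal.subset_span
      change _ ∈ List.ofFn _
      rw [List.mem_ofFn]
      exact ⟨i, rfl⟩
  have hJP : Ideal.span (Set.range f) ≤ P := by
    intro j hj
    by_contra hjP
    apply hgP
    rw [IsLocalization.algebraMap_mem_map_algebraMap_iff P.primeCompl]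
    exact ⟨j, hjP, Ideal.mul_mem_right _ _ hj⟩
  have hxs : ∀ x ∈ List.ofFn (fun i => algebraMap _ (Localization.AtPrime P) (f i)),
      x ∈ maximalIdeal (Localization.AtPrime P) := by
    intro x hx
    rw [List.mem_ofFn] at hx
    obtain ⟨i, rfl⟩ := hx
    exact (IsLocalization.AtPrime.to_map_mem_maximal_iff (Localization.AtPrime P) P (f i)).mpr
      (hJP (Ideal.subset_span ⟨i, rfl⟩))
  have hlen : (List.ofFn (fun i => algebraMap _ (Localization.AtPrime P) (f i))).length = r :=
    List.length_ofFn
  have hh : (((List.ofFn (fun i => algebraMap _ (Localization.AtPrime P) (f i))).length : ℕ) : ℕ∞) ≤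
      (Ideal.ofList (List.ofFn (fun i => algebraMap _ (Localization.AtPrime P) (f i)))).height := by
    rw [hI, hlen, ← IsLocalization.height_under P.primeCompl, ← hJ]
    exact Ideal.height_mono Ideal.le_comap_map
  obtain ⟨hreg, hCM, hdim⟩ := unmixed_local (Localization.AtPrime P) _ hxs hh
  have hdA : ringKrullDim (Localization.AtPrime P) = P.height :=
    IsLocalization.AtPrime.ringKrullDim_eq_height P (Localization.AtPrime P)
  rw [hlen, hdA, hCM] at hdim
  have hdep : 1 ≤ LocCoh.depth (Localization.AtPrime P)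
      (Localization.AtPrime P ⧸ Ideal.ofList
        (List.ofFn (fun i => algebraMap _ (Localization.AtPrime P) (f i))) •
          (⊤ : Submodule (Localization.AtPrime P) (Localization.AtPrime P))) := by
    rw [Order.one_le_iff_pos, pos_iff_ne_zero]
    intro h0
    rw [h0] at hdim
    have h5 : ((0 + r : ℕ) : ℕ∞) = P.height := by exact_mod_cast hdim
    rw [zero_add] at h5
    rw [← h5] at hht
    have : n + 1 ≤ r := by exact_mod_cast hht
    omega
  have hsm : (Ideal.ofList (List.ofFn (fun i => algebraMap _ (Localization.AtPrime P) (f i))) •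
      (⊤ : Submodule (Localization.AtPrime P) (Localization.AtPrime P))) =
      (Ideal.span (Set.range f)).map (algebraMap _ (Localization.AtPrime P)) := by
    rw [smul_eq_mul, Ideal.mul_top, hI]
  have e := Submodule.quotEquivOfEq _ _ hsm
  have hcongr := idealDepth_congr (maximalIdeal (Localization.AtPrime P)) e
  have hfinal : LocCoh.depth (Localization.AtPrime P)
      (Localization.AtPrime P ⧸ (Ideal.span (Set.range f)).map
        (algebraMap _ (Localization.AtPrime P))) =
      LocCoh.depth (Localization.AtPrime P)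
      (Localization.AtPrime P ⧸ Ideal.ofList
        (List.ofFn (fun i => algebraMap _ (Localization.AtPrime P) (f i))) •
          (⊤ : Submodule (Localization.AtPrime P) (Localization.AtPrime P))) := hcongr.symm
  rw [hfinal]
  exact hdep

end Groth.Agent.Lib.Helper4.Unmixed
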