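import Groth.Agent.Lib.Helper4.LC10b

/-!
# The kernel of `H^{i+1}_{a+bR}(M) → H^{i+1}_a(M)` is `H^1_{bR}(H^i_a(M))` (helper4)

* `nonempty_ker_ofLE_equiv`: `ker (H^{i+1}_{a+bR}(M) → H^{i+1}_a(M)) ≃ H^1_{bR}(H^i_a(M))`.
* `nonempty_coker_equiv_ker`: `coker (H^i_a(M) → H^i_a(M_b)) ≃ ker (H^{i+1}_{a+bR}(M) → H^{i+1}_a(M))`.
-/

set_option autoImplicit false
set_option linter.style.haveILetI false
set_option linter.unusedSectionVars false
set_option maxHeartbeats 400000

open CategoryTheory Limits Opposite Abelian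

universe u

namespace Groth.Agent.Lib.Helper4.LC

variable {R : Type u} [CommRing R]

/-! ### linear algebra -/

section linalg

/-- a bijection intertwining `f` and `g` up to an injective map induces an equivalence of kernels. -/
lemma nonempty_kerEquiv {A A' B B' : Type*} [AddCommGroup A] [Module R A] [AddCommGroup A']
    [Module R A'] [AddCommGroup B] [Module R B] [AddCommGroup B'] [Module R B']
    (f : A →ₗ[R] B) (g : A' →ₗ[R] B') (e : A →ₗ[R] A') (d : B →ₗ[R] B')
    (he : Function.Bijective e) (hd : Function.Injective d) (hcomm : ∀ x, g (e x) = d (f x)) :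
    Nonempty (LinearMap.ker f ≃ₗ[R] LinearMap.ker g) := by
  have hmem : ∀ x ∈ LinearMap.ker f, e x ∈ LinearMap.ker g := by
    intro x hx
    rw [LinearMap.mem_ker] at hx ⊢
    rw [hcomm, hx, map_zero]
  refine ⟨LinearEquiv.ofBijective (e.restrict hmem) ⟨?_, ?_⟩⟩
  · intro x y hxy
    apply Subtype.ext
    apply he.1
    exact congrArg Subtype.val hxy
  · intro y
    obtain ⟨x, hx⟩ := he.2 (y : A')
    have hxk : x ∈ LinearMap.ker f := by
      rw [LinearMap.mem_ker]
      apply hd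
      rw [← hcomm, hx, map_zero]
      exact LinearMap.mem_ker.1 y.2
    exact ⟨⟨x, hxk⟩, Subtype.ext hx⟩

lemma le_sup_span_left (a : Ideal R) (b : R) : a ≤ a ⊔ Ideal.span {b} := le_sup_left

lemma le_sup_span_right (a : Ideal R) (b : R) : Ideal.span {b} ≤ a ⊔ Ideal.span {b} := le_sup_right

end linalg

/-! ### `H^1_{bR}` is right exact -/

section V

variable [IsNoetherianRing R] (b : R)

lemma HH.subsingleton_one_of_surjective {N N' : Type u} [AddCommGroup N] [Module R N]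
    [AddCommGroup N'] [Module R N'] (φ : N →ₗ[R] N') (hφ : Function.Surjective φ)
    (h : Subsingleton (HH (Ideal.span {b}) (ModuleCat.of R N) 1)) :
    Subsingleton (HH (Ideal.span {b}) (ModuleCat.of R N') 1) := by
  have hex : Function.Exact (LinearMap.ker φ).subtype φ := LinearMap.exact_subtype_ker_map φ
  have hS := sesOf_shortExact _ _ hex (Submodule.injective_subtype _) hφ
  have h2 : Subsingleton (HH (Ideal.span {b}) (sesOf _ _ hex).X₁ (1 + 1)) :=
    HH.subsingleton_span_singleton b 0 _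
  have hsurj := HH.map_g_surjective (Ideal.span {b}) hS 1 h2
  refine ⟨fun x y => ?_⟩
  obtain ⟨x', rfl⟩ := hsurj x
  obtain ⟨y', rfl⟩ := hsurj y
  exact congrArg _ (h.elim x' y')

lemma HH.map_bijective_one_of_surjective {N N' : Type u} [AddCommGroup N] [Module R N]
    [AddCommGroup N'] [Module R N'] (φ : N →ₗ[R] N') (hφ : Function.Surjective φ)
    (h : Subsingleton (HH (Ideal.span {b}) (ModuleCat.of R (LinearMap.ker φ)) 1)) :
    Function.Bijective (HH.map (Ideal.span {b}) (ModuleCat.ofHom φ) 1) := by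
  have hex : Function.Exact (LinearMap.ker φ).subtype φ := LinearMap.exact_subtype_ker_map φ
  have hS := sesOf_shortExact _ _ hex (Submodule.injective_subtype _) hφ
  have h2 : Subsingleton (HH (Ideal.span {b}) (sesOf _ _ hex).X₁ (1 + 1)) :=
    HH.subsingleton_span_singleton b 0 _
  exact ⟨HH.map_g_injective (Ideal.span {b}) hS 1 h, HH.map_g_surjective (Ideal.span {b}) hS 1 h2⟩

lemma HH.subsingleton_one_HH_of_injective (a : Ideal R) (E : ModuleCat.{u} R) [Injective E]
    (i : ℕ) : Subsingleton (HH (Ideal.span {b}) (ModuleCat.of R (HH a E i)) 1) := by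
  cases i with
  | zero =>
    haveI : Injective (ModuleCat.of R E) := inferInstanceAs (Injective E)
    haveI : Module.Injective R E := Module.injective_module_of_injective_object R E
    haveI : Module.Injective R (DRing.torsionSub a E) := injective_torsionSub a E
    haveI : Injective (ModuleCat.of R (DRing.torsionSub a E)) :=
      Module.injective_object_of_injective_module R (DRing.torsionSub a E)
    haveI h1 : Subsingleton (HH (Ideal.span {b}) (ModuleCat.of R (DRing.torsionSub a E)) 1) :=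
      HH.subsingleton_of_injective (Ideal.span {b}) (ModuleCat.of R (DRing.torsionSub a E)) 0
    exact (HH.mapIso (Ideal.span {b}) (HH0Equiv a E).toModuleIso 1).toEquiv.subsingleton
  | succ j =>
    haveI : Subsingleton (HH a E (j + 1)) := HH.subsingleton_of_injective a E j
    exact HH.subsingleton_of_subsingleton (Ideal.span {b}) (HH a E (j + 1)) 1

end V

/-! ### dimension shifting -/

section shift

variable [IsNoetherianRing R] {I I' : Ideal R} (h : I ≤ I')

lemma nonempty_ker_ofLE_shift {S : ShortComplex (ModuleCat.{u} R)} (hS : S.ShortExact)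
    [Injective S.X₂] (j : ℕ) :
    Nonempty (LinearMap.ker (HH.ofLE h S.X₃ (j + 1)) ≃ₗ[R]
      LinearMap.ker (HH.ofLE h S.X₁ (j + 1 + 1))) := by
  have h1 : Subsingleton (HH I' S.X₂ (j + 1)) := HH.subsingleton_of_injective I' S.X₂ j
  have h2 : Subsingleton (HH I' S.X₂ (j + 1 + 1)) := HH.subsingleton_of_injective I' S.X₂ (j + 1)
  have h3 : Subsingleton (HH I S.X₂ (j + 1)) := HH.subsingleton_of_injective I S.X₂ j
  exact nonempty_kerEquiv (HH.ofLE h S.X₃ (j + 1)) (HH.ofLE h S.X₁ (j + 1 + 1))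
    (HH.δ I' hS (j + 1)) (HH.δ I hS (j + 1))
    ⟨HH.δ_injective I' hS (j + 1) h1, HH.δ_surjective I' hS (j + 1) h2⟩
    (HH.δ_injective I hS (j + 1) h3)
    (fun x => HH.ofLE_δ h (j + 1) hS x)

/-- if `Γ_I(G) = 0` then `H^1_{I'}(G) → H^1_I(G)` is injective. -/
lemma HH.ofLE_injective_one_of_torsionFree (G : Type u) [AddCommGroup G] [Module R G]
    (hG : DRing.torsionSub I G = ⊥) :
    Function.Injective (HH.ofLE h (ModuleCat.of R G) 1) := by
  obtain ⟨E, C, _, _, _, _, f, g, hf, hg, hfg, hEinj, hEtf⟩ :=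
    exists_torsionFree_injective_ses I G hG
  have hS : (sesOf f g hfg).ShortExact := sesOf_shortExact f g hfg hf hg
  haveI hinj : CategoryTheory.Injective (sesOf f g hfg).X₂ :=
    Module.injective_object_of_injective_module R E
  have h1 : Subsingleton (HH I' (sesOf f g hfg).X₂ (0 + 1)) :=
    HH.subsingleton_of_injective I' _ 0
  have h0 : Subsingleton (HH I (sesOf f g hfg).X₂ 0) :=
    (HH0_subsingleton_iff I (sesOf f g hfg).X₂).2 hEtf
  rw [injective_iff_map_eq_zero]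
  intro x hx
  obtain ⟨y, hy⟩ := HH.δ_surjective I' hS 0 h1 x
  have h2 : HH.δ I hS 0 (HH.ofLE h (sesOf f g hfg).X₃ 0 y) = 0 := by
    rw [← HH.ofLE_δ h 0 hS y, hy]
    exact hx
  have h3 : HH.ofLE h (sesOf f g hfg).X₃ 0 y = 0 :=
    HH.δ_injective I hS 0 h0 (by rw [h2, map_zero])
  have h4 : y = 0 := HH.ofLE_injective_zero h (sesOf f g hfg).X₃ (by rw [h3, map_zero])
  rw [← hy, h4, map_zero]

end shift

section Gshift

variable [IsNoetherianRing R] (a : Ideal R) (b : R)

lemma nonempty_HH1_HH_shift {S : ShortComplex (ModuleCat.{u} R)} (hS : S.ShortExact)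
    [Injective S.X₂] (j : ℕ) :
    Nonempty (HH (Ideal.span {b}) (ModuleCat.of R (HH a S.X₃ j)) 1 ≃ₗ[R]
      HH (Ideal.span {b}) (ModuleCat.of R (HH a S.X₁ (j + 1))) 1) := by
  have h2 : Subsingleton (HH a S.X₂ (j + 1)) := HH.subsingleton_of_injective a S.X₂ j
  have hδsurj : Function.Surjective (HH.δ a hS j) := HH.δ_surjective a hS j h2
  let ψ : HH a S.X₂ j →ₗ[R] LinearMap.ker (HH.δ a hS j) :=
    (HH.map a S.g j).codRestrict (LinearMap.ker (HH.δ a hS j))
      (fun x => LinearMap.mem_ker.2 (HH.δ_map_g a hS j x))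
  have hψ : Function.Surjective ψ := by
    intro y
    obtain ⟨x, hx⟩ := HH.exact₃ a hS j (y : HH a S.X₃ j) (LinearMap.mem_ker.1 y.2)
    exact ⟨x, Subtype.ext hx⟩
  have hker : Subsingleton
      (HH (Ideal.span {b}) (ModuleCat.of R (LinearMap.ker (HH.δ a hS j))) 1) :=
    HH.subsingleton_one_of_surjective b ψ hψ (HH.subsingleton_one_HH_of_injective b a S.X₂ j)
  exact ⟨LinearEquiv.ofBijective (HH.map (Ideal.span {b}) (ModuleCat.ofHom (HH.δ a hS j)) 1)
    (HH.map_bijective_one_of_surjective b (HH.δ a hS j) hδsurj hker)⟩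

/-- for `a`-power-torsion `X`, `Γ_{a+bR}(X) = Γ_{bR}(X)`. -/
lemma HH.ofLE_right_bijective_zero (X : Type u) [AddCommGroup X] [Module R X]
    (hX : LocCoh.IsPowerTorsion a X) :
    Function.Bijective (HH.ofLE (le_sup_span_right a b) (ModuleCat.of R X) 0) := by
  refine ⟨HH.ofLE_injective_zero _ _, fun y => ?_⟩
  have hm : HH0 (Ideal.span {b}) (ModuleCat.of R X) y ∈
      DRing.torsionSub (a ⊔ Ideal.span {b}) X := by
    rw [mem_torsionSub_sup_iff]
    exact ⟨hX _, HH0_mem (Ideal.span {b}) (ModuleCat.of R X) y⟩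
  obtain ⟨z, hz⟩ := exists_HH0_eq (a ⊔ Ideal.span {b}) (ModuleCat.of R X) _ hm
  exact ⟨z, HH0_injective (Ideal.span {b}) (ModuleCat.of R X) (by rw [HH0_ofLE, hz])⟩

/-- for `a`-power-torsion `N`, `H^1_{a+bR}(N) = H^1_{bR}(N)`. -/
lemma HH.ofLE_right_bijective_one (N : Type u) [AddCommGroup N] [Module R N]
    (hN : LocCoh.IsPowerTorsion a N) :
    Function.Bijective (HH.ofLE (le_sup_span_right a b) (ModuleCat.of R N) 1) := by
  obtain ⟨T, C, _, _, _, _, f, g, hf, hg, hfg, hT, hTt, hCt⟩ := exists_torsion_ses a N hN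
  have hS : (sesOf f g hfg).ShortExact := sesOf_shortExact f g hfg hf hg
  haveI hinj : CategoryTheory.Injective (sesOf f g hfg).X₂ :=
    Module.injective_object_of_injective_module R T
  have hc1 : Subsingleton (HH (a ⊔ Ideal.span {b}) (sesOf f g hfg).X₂ (0 + 1)) :=
    HH.subsingleton_of_injective _ _ 0
  have hB1 : Subsingleton (HH (Ideal.span {b}) (sesOf f g hfg).X₂ (0 + 1)) :=
    HH.subsingleton_of_injective _ _ 0
  have hρC := HH.ofLE_right_bijective_zero a b C hCt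
  have hρT := HH.ofLE_right_bijective_zero a b T hTt
  constructor
  · rw [injective_iff_map_eq_zero]
    intro x hx
    obtain ⟨y, hy⟩ := HH.δ_surjective (a ⊔ Ideal.span {b}) hS 0 hc1 x
    have h2 : HH.δ (Ideal.span {b}) hS 0
        (HH.ofLE (le_sup_span_right a b) (sesOf f g hfg).X₃ 0 y) = 0 := by
      rw [← HH.ofLE_δ (le_sup_span_right a b) 0 hS y, hy]
      exact hx
    obtain ⟨v, hv⟩ := HH.exact₃ (Ideal.span {b}) hS 0 _ h2
    obtain ⟨v', hv'⟩ := hρT.2 v
    have h3 : HH.ofLE (le_sup_span_right a b) (sesOf f g hfg).X₃ 0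
        (HH.map (a ⊔ Ideal.span {b}) (sesOf f g hfg).g 0 v') =
        HH.ofLE (le_sup_span_right a b) (sesOf f g hfg).X₃ 0 y :=
      (HH.ofLE_map (le_sup_span_right a b) 0 (sesOf f g hfg).g v').trans
        ((congrArg (fun t => HH.map (Ideal.span {b}) (sesOf f g hfg).g 0 t) hv').trans hv)
    have h4 : HH.map (a ⊔ Ideal.span {b}) (sesOf f g hfg).g 0 v' = y := hρC.1 h3
    rw [← hy, ← h4]
    exact HH.δ_map_g (a ⊔ Ideal.span {b}) hS 0 v'
  · intro x
    obtain ⟨y, hy⟩ := HH.δ_surjective (Ideal.span {b}) hS 0 hB1 x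
    obtain ⟨y', hy'⟩ := hρC.2 y
    refine ⟨HH.δ (a ⊔ Ideal.span {b}) hS 0 y', ?_⟩
    refine (HH.ofLE_δ (le_sup_span_right a b) 0 hS y').trans ?_
    refine (congrArg (fun t => HH.δ (Ideal.span {b}) hS 0 t) hy').trans hy

/-- the base case: `ker (H^1_{a+bR}(M) → H^1_a(M)) ≃ H^1_{bR}(Γ_a(M))`. -/
lemma nonempty_ker_ofLE_one (M : Type u) [AddCommGroup M] [Module R M] :
    Nonempty (LinearMap.ker (HH.ofLE (le_sup_span_left a b) (ModuleCat.of R M) 1) ≃ₗ[R]
      HH (Ideal.span {b}) (ModuleCat.of R (HH a (ModuleCat.of R M) 0)) 1) := by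
  let Γ : Submodule R M := DRing.torsionSub a M
  have hΓ : LocCoh.IsPowerTorsion a Γ := isPowerTorsion_torsionSub a M
  have hex : Function.Exact Γ.subtype Γ.mkQ := LinearMap.exact_subtype_mkQ Γ
  have hS : (sesOf Γ.subtype Γ.mkQ hex).ShortExact :=
    sesOf_shortExact _ _ hex (Submodule.injective_subtype _) (Submodule.mkQ_surjective _)
  have hΓ1 : Subsingleton (HH a (sesOf Γ.subtype Γ.mkQ hex).X₁ (0 + 1)) :=
    HH.subsingleton_of_isPowerTorsion a 0 Γ hΓ
  have hQtf : DRing.torsionSub a (M ⧸ Γ) = ⊥ := by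
    rw [eq_bot_iff]
    intro q hq
    obtain ⟨e, he, heq⟩ := gamma_lift hS a hΓ1 q hq
    rw [Submodule.mem_bot, ← heq]
    exact (Submodule.Quotient.mk_eq_zero Γ).2 he
  have hQ0 : Subsingleton (HH a (sesOf Γ.subtype Γ.mkQ hex).X₃ 0) :=
    (HH0_subsingleton_iff a _).2 hQtf
  have hQ0c : Subsingleton (HH (a ⊔ Ideal.span {b}) (sesOf Γ.subtype Γ.mkQ hex).X₃ 0) := by
    haveI := hQ0
    exact (HH.ofLE_injective_zero (le_sup_span_left a b)
      (sesOf Γ.subtype Γ.mkQ hex).X₃).subsingleton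
  have hιinj : Function.Injective
      (HH.map (a ⊔ Ideal.span {b}) (sesOf Γ.subtype Γ.mkQ hex).f 1) :=
    HH.map_f_injective_succ _ hS 0 hQ0c
  have hθQ : Function.Injective
      (HH.ofLE (le_sup_span_left a b) (ModuleCat.of R (M ⧸ Γ)) 1) :=
    HH.ofLE_injective_one_of_torsionFree (le_sup_span_left a b) (M ⧸ Γ) hQtf
  have hrange : LinearMap.range (HH.map (a ⊔ Ideal.span {b}) (sesOf Γ.subtype Γ.mkQ hex).f 1) =
      LinearMap.ker (HH.ofLE (le_sup_span_left a b) (ModuleCat.of R M) 1) := by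
    apply le_antisymm
    · rintro _ ⟨x, rfl⟩
      rw [LinearMap.mem_ker]
      refine (HH.ofLE_map (le_sup_span_left a b) 1 (sesOf Γ.subtype Γ.mkQ hex).f x).trans ?_
      have h0 : HH.ofLE (le_sup_span_left a b) (sesOf Γ.subtype Γ.mkQ hex).X₁ 1 x = 0 :=
        hΓ1.elim _ _
      exact (congrArg (fun t => HH.map a (sesOf Γ.subtype Γ.mkQ hex).f 1 t) h0).trans
        (map_zero _)
    · intro x hx
      rw [LinearMap.mem_ker] at hx
      have h2 : HH.map (a ⊔ Ideal.span {b}) (sesOf Γ.subtype Γ.mkQ hex).g 1 x = 0 := by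
        apply hθQ
        rw [map_zero]
        refine (HH.ofLE_map (le_sup_span_left a b) 1 (sesOf Γ.subtype Γ.mkQ hex).g x).trans ?_
        exact (congrArg (fun t => HH.map a (sesOf Γ.subtype Γ.mkQ hex).g 1 t) hx).trans
          (map_zero _)
      obtain ⟨x₁, hx₁⟩ := HH.exact₂ (a ⊔ Ideal.span {b}) hS 1 x h2
      exact ⟨x₁, hx₁⟩
  have e1 : LinearMap.ker (HH.ofLE (le_sup_span_left a b) (ModuleCat.of R M) 1) ≃ₗ[R]
      HH (a ⊔ Ideal.span {b}) (ModuleCat.of R Γ) 1 :=
    (LinearEquiv.ofEq _ _ hrange.symm).trans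
      (LinearEquiv.ofInjective
        (HH.map (a ⊔ Ideal.span {b}) (sesOf Γ.subtype Γ.mkQ hex).f 1) hιinj).symm
  have e2 : HH (a ⊔ Ideal.span {b}) (ModuleCat.of R Γ) 1 ≃ₗ[R]
      HH (Ideal.span {b}) (ModuleCat.of R Γ) 1 :=
    LinearEquiv.ofBijective (HH.ofLE (le_sup_span_right a b) (ModuleCat.of R Γ) 1)
      (HH.ofLE_right_bijective_one a b Γ hΓ)
  have e3 : HH (Ideal.span {b}) (ModuleCat.of R (HH a (ModuleCat.of R Γ) 0)) 1 ≃ₗ[R]
      HH (Ideal.span {b}) (ModuleCat.of R Γ) 1 :=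
    HH.mapIso (Ideal.span {b}) (HH0EquivOfTorsion a Γ hΓ).toModuleIso 1
  have hf0 : Function.Bijective (HH.map a (sesOf Γ.subtype Γ.mkQ hex).f 0) :=
    ⟨HH.map_f_injective_zero a hS, HH.map_f_surjective a hS 0 hQ0⟩
  have e4 : HH (Ideal.span {b}) (ModuleCat.of R (HH a (ModuleCat.of R Γ) 0)) 1 ≃ₗ[R]
      HH (Ideal.span {b}) (ModuleCat.of R (HH a (ModuleCat.of R M) 0)) 1 :=
    HH.mapIso (Ideal.span {b})
      (LinearEquiv.ofBijective (HH.map a (sesOf Γ.subtype Γ.mkQ hex).f 0) hf0).toModuleIso 1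
  exact ⟨e1.trans (e2.trans (e3.symm.trans e4))⟩

lemma nonempty_ker_ofLE_step {S : ShortComplex (ModuleCat.{u} R)} (hS : S.ShortExact)
    [Injective S.X₂] (i : ℕ)
    (ih : Nonempty (LinearMap.ker (HH.ofLE (le_sup_span_left a b) S.X₃ (i + 1)) ≃ₗ[R]
      HH (Ideal.span {b}) (ModuleCat.of R (HH a S.X₃ i)) 1)) :
    Nonempty (LinearMap.ker (HH.ofLE (le_sup_span_left a b) S.X₁ (i + 1 + 1)) ≃ₗ[R]
      HH (Ideal.span {b}) (ModuleCat.of R (HH a S.X₁ (i + 1))) 1) := by
  obtain ⟨e⟩ := ih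
  obtain ⟨e1⟩ := nonempty_ker_ofLE_shift (le_sup_span_left a b) hS i
  obtain ⟨e2⟩ := nonempty_HH1_HH_shift a b hS i
  exact ⟨e1.symm.trans (e.trans e2)⟩

/-- `ker (H^{i+1}_{a+bR}(M) → H^{i+1}_a(M)) ≃ H^1_{bR}(H^i_a(M))`. -/
theorem nonempty_ker_ofLE_equiv (i : ℕ) : ∀ M : ModuleCat.{u} R,
    Nonempty (LinearMap.ker (HH.ofLE (le_sup_span_left a b) M (i + 1)) ≃ₗ[R]
      HH (Ideal.span {b}) (ModuleCat.of R (HH a M i)) 1) := by
  induction i with
  | zero =>
    rintro ⟨M⟩
    exact nonempty_ker_ofLE_one a b M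
  | succ i ih =>
    intro M
    exact nonempty_ker_ofLE_step a b (injSES_shortExact M) i (ih (injSES M).X₃)

/-- `coker (H^i_a(M) → H^i_a(M_b)) ≃ ker (H^{i+1}_{a+bR}(M) → H^{i+1}_a(M))`. -/
theorem nonempty_coker_equiv_ker (M : ModuleCat.{u} R) (i : ℕ) :
    Nonempty ((HH a (locObj b M) i ⧸ LinearMap.range (HH.map a (locHom b M) i)) ≃ₗ[R]
      LinearMap.ker (HH.ofLE (le_sup_span_left a b) M (i + 1))) := by
  obtain ⟨e1⟩ := nonempty_ker_ofLE_equiv a b i M
  obtain ⟨e2⟩ := nonempty_equiv_HH1_span_singleton b (HH a M i)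
  haveI := HH.isLocalizedModule_map_locHom a b M i
  let e := IsLocalizedModule.iso (Submonoid.powers b) (HH.map a (locHom b M) i)
  have hcomp : e.toLinearMap ∘ₗ LocalizedModule.mkLinearMap (Submonoid.powers b) (HH a M i) =
      HH.map a (locHom b M) i := by
    apply LinearMap.ext
    intro x
    exact IsLocalizedModule.iso_mk_one (Submonoid.powers b) (HH.map a (locHom b M) i) x
  have hmap : Submodule.map e.toLinearMap
      (LinearMap.range (LocalizedModule.mkLinearMap (Submonoid.powers b) (HH a M i))) =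
      LinearMap.range (HH.map a (locHom b M) i) := by
    rw [← LinearMap.range_comp, hcomp]
  exact ⟨(Submodule.Quotient.equiv _ _ e hmap).symm.trans (e2.trans e1.symm)⟩

end Gshift

end Groth.Agent.Lib.Helper4.LC
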