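import Groth.Agent.Lib.Helper4.LC9
import Groth.Agent.Lib.Helper20.LCFinite

/-!
# `Ext` from a power-torsion module into the lowest non-vanishing local cohomology (helper4)

* `extCongrRight`, `extCongrLeft`: `Ext` of isomorphic modules.
* `ext_HH_top`: if `H^q_J(G) = 0` for `q < n` and `F` is `J`-power torsion then
  `Hom(F, H^n_J(G)) ≃ Ext^n(F, G)` and `Ext^1(F, H^n_J(G)) ↪ Ext^{n+1}(F, G)`.
-/

set_option autoImplicit false
set_option linter.style.haveILetI false
set_option linter.unusedSectionVars false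
set_option linter.unusedVariables false
set_option maxHeartbeats 400000

open CategoryTheory Limits Opposite Abelian

universe u

namespace Groth.Agent.Lib.Helper4.LC

variable {R : Type u} [CommRing R]

section extCongr

/-- an isomorphism in the second variable induces a linear equivalence on `Ext`. -/
noncomputable def extCongrRight (X : ModuleCat.{u} R) {Y Y' : ModuleCat.{u} R} (e : Y ≅ Y')
    (p : ℕ) : Ext.{u} X Y p ≃ₗ[R] Ext.{u} X Y' p :=
  LinearEquiv.ofLinear (Ext.postcompOfLinear (Ext.mk₀ e.hom) R X (add_zero p))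
    (Ext.postcompOfLinear (Ext.mk₀ e.inv) R X (add_zero p))
    (by
      apply LinearMap.ext
      intro x
      change (x.comp (Ext.mk₀ e.inv) (add_zero p)).comp (Ext.mk₀ e.hom) (add_zero p) = x
      rw [Ext.comp_assoc_of_third_deg_zero, Ext.mk₀_comp_mk₀, e.inv_hom_id, Ext.comp_mk₀_id])
    (by
      apply LinearMap.ext
      intro x
      change (x.comp (Ext.mk₀ e.hom) (add_zero p)).comp (Ext.mk₀ e.inv) (add_zero p) = x
      rw [Ext.comp_assoc_of_third_deg_zero, Ext.mk₀_comp_mk₀, e.hom_inv_id, Ext.comp_mk₀_id])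

lemma extCongrRight_apply (X : ModuleCat.{u} R) {Y Y' : ModuleCat.{u} R} (e : Y ≅ Y') (p : ℕ)
    (x : Ext.{u} X Y p) : extCongrRight X e p x = x.comp (Ext.mk₀ e.hom) (add_zero p) := rfl

/-- an isomorphism in the first variable induces a linear equivalence on `Ext`. -/
noncomputable def extCongrLeft {X X' : ModuleCat.{u} R} (e : X ≅ X') (Y : ModuleCat.{u} R)
    (p : ℕ) : Ext.{u} X Y p ≃ₗ[R] Ext.{u} X' Y p :=
  LinearEquiv.ofLinear (Ext.precompOfLinear (Ext.mk₀ e.inv) R Y (zero_add p))
    (Ext.precompOfLinear (Ext.mk₀ e.hom) R Y (zero_add p))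
    (by
      apply LinearMap.ext
      intro x
      change (Ext.mk₀ e.inv).comp ((Ext.mk₀ e.hom).comp x (zero_add p)) (zero_add p) = x
      rw [Ext.mk₀_comp_mk₀_assoc, e.inv_hom_id, Ext.mk₀_id_comp])
    (by
      apply LinearMap.ext
      intro x
      change (Ext.mk₀ e.hom).comp ((Ext.mk₀ e.inv).comp x (zero_add p)) (zero_add p) = x
      rw [Ext.mk₀_comp_mk₀_assoc, e.hom_inv_id, Ext.mk₀_id_comp])

lemma extCongrLeft_apply {X X' : ModuleCat.{u} R} (e : X ≅ X') (Y : ModuleCat.{u} R) (p : ℕ)
    (x : Ext.{u} X Y p) : extCongrLeft e Y p x = (Ext.mk₀ e.inv).comp x (zero_add p) := rfl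

end extCongr

section top

variable [IsNoetherianRing R]

/-- `Hom(F, Γ_J G) ≃ Hom(F, G)` for power-torsion `F`, in terms of `Ext^0`. -/
lemma bijective_postcomp_torsionSub (J : Ideal R) (F G : Type u) [AddCommGroup F] [Module R F]
    [AddCommGroup G] [Module R G] (hF : LocCoh.IsPowerTorsion J F) :
    Function.Bijective (Ext.postcompOfLinear
      (Ext.mk₀ (ModuleCat.ofHom (DRing.torsionSub J G).subtype)) R (ModuleCat.of R F)
      (add_zero 0)) := by
  constructor
  · rw [injective_iff_map_eq_zero]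
    intro x hx
    obtain ⟨φ, rfl⟩ := (Ext.mk₀_bijective _ _).2 x
    change (Ext.mk₀ φ).comp (Ext.mk₀ (ModuleCat.ofHom (DRing.torsionSub J G).subtype))
      (add_zero 0) = 0 at hx
    rw [Ext.mk₀_comp_mk₀] at hx
    have h1 : φ ≫ ModuleCat.ofHom (DRing.torsionSub J G).subtype = 0 :=
      (Ext.mk₀_bijective _ _).1 (by rw [hx, Ext.mk₀_zero])
    have h2 : φ = 0 := by
      apply ModuleCat.hom_ext
      apply LinearMap.ext
      intro y
      have h3 := congrArg (fun ψ => ψ.hom y) h1
      exact Subtype.ext h3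
    rw [h2, Ext.mk₀_zero]
  · intro y
    obtain ⟨ψ, rfl⟩ := (Ext.mk₀_bijective _ _).2 y
    have hmem : ∀ x : F, ψ.hom x ∈ DRing.torsionSub J G := by
      intro x
      obtain ⟨k, hk⟩ := hF x
      exact ⟨k, fun a ha => by rw [← map_smul, hk a ha, map_zero]⟩
    refine ⟨Ext.mk₀ (ModuleCat.ofHom (LinearMap.codRestrict (DRing.torsionSub J G) ψ.hom hmem)),
      ?_⟩
    change (Ext.mk₀ _).comp (Ext.mk₀ _) (add_zero 0) = _
    rw [Ext.mk₀_comp_mk₀]
    congr 1

/-- The lowest non-vanishing local cohomology and `Ext` from a power-torsion module. -/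
theorem ext_HH_top (J : Ideal R) (F : Type u) [AddCommGroup F] [Module R F]
    (hF : LocCoh.IsPowerTorsion J F) :
    ∀ (n : ℕ) (G : Type u) [AddCommGroup G] [Module R G],
      (∀ i, i < n → Subsingleton (HH J (ModuleCat.of R G) i)) →
      Nonempty (Ext.{u} (ModuleCat.of R F) (ModuleCat.of R (HH J (ModuleCat.of R G) n)) 0 ≃ₗ[R]
          Ext.{u} (ModuleCat.of R F) (ModuleCat.of R G) n) ∧
      (Subsingleton (Ext.{u} (ModuleCat.of R F) (ModuleCat.of R G) (n + 1)) →
        Subsingleton
          (Ext.{u} (ModuleCat.of R F) (ModuleCat.of R (HH J (ModuleCat.of R G) n)) 1)) := by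
  intro n
  induction n with
  | zero =>
    intro G _ _ _
    have e0 : ModuleCat.of R (HH J (ModuleCat.of R G) 0) ≅
        ModuleCat.of R (DRing.torsionSub J G) := (HH0Equiv J (ModuleCat.of R G)).toModuleIso
    refine ⟨⟨(extCongrRight (ModuleCat.of R F) e0 0).trans
      (LinearEquiv.ofBijective _ (bijective_postcomp_torsionSub J F G hF))⟩, fun h1 => ?_⟩
    have hex : Function.Exact (DRing.torsionSub J G).subtype (DRing.torsionSub J G).mkQ :=
      LinearMap.exact_subtype_mkQ _
    have hS : (sesOf _ _ hex).ShortExact :=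
      sesOf_shortExact _ _ hex (Submodule.injective_subtype _) (Submodule.mkQ_surjective _)
    haveI h3 : Subsingleton (Ext.{u} (ModuleCat.of R F) (sesOf _ _ hex).X₃ 0) :=
      ext_zero_subsingleton_of_isPowerTorsion J hF
        (Groth.Agent.Lib.Helper20.LCFinite.torsionSub_quotient_eq_bot J G)
    have key : ∀ x₁ : Ext.{u} (ModuleCat.of R F) (sesOf _ _ hex).X₁ 1, x₁ = 0 := by
      intro x₁
      obtain ⟨x₃, hx₃⟩ := Ext.covariant_sequence_exact₁ (ModuleCat.of R F) hS x₁
        (Subsingleton.elim _ _) rfl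
      rw [← hx₃, Subsingleton.elim x₃ 0, Ext.zero_comp]
    have h4 : Subsingleton (Ext.{u} (ModuleCat.of R F) (ModuleCat.of R (DRing.torsionSub J G)) 1) :=
      ⟨fun a b => (key a).trans (key b).symm⟩
    exact (extCongrRight (ModuleCat.of R F) e0 1).toEquiv.subsingleton_congr.2 h4
  | succ n ih =>
    intro G _ _ h
    have hG : DRing.torsionSub J G = ⊥ :=
      (HH0_subsingleton_iff J (ModuleCat.of R G)).1 (h 0 (Nat.succ_pos n))
    obtain ⟨E, C, _, _, _, _, f, g, hf, hg, hfg, hEinj, hEtf⟩ :=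
      exists_torsionFree_injective_ses J G hG
    have hS : (sesOf f g hfg).ShortExact := sesOf_shortExact f g hfg hf hg
    haveI hinj : CategoryTheory.Injective (sesOf f g hfg).X₂ :=
      Module.injective_object_of_injective_module R E
    have hHHE : ∀ j, Subsingleton (HH J (sesOf f g hfg).X₂ j) := by
      intro j
      cases j with
      | zero => exact (HH0_subsingleton_iff J (sesOf f g hfg).X₂).2 hEtf
      | succ j => exact HH.subsingleton_of_injective J (sesOf f g hfg).X₂ j
    have hExtE : ∀ j, Subsingleton (Ext.{u} (ModuleCat.of R F) (sesOf f g hfg).X₂ j) := by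
      intro j
      cases j with
      | zero => exact ext_zero_subsingleton_of_isPowerTorsion J hF hEtf
      | succ j =>
        exact ⟨fun a b => by rw [Ext.eq_zero_of_injective a, Ext.eq_zero_of_injective b]⟩
    -- the connecting isomorphisms
    have eδ : ∀ j, HH J (ModuleCat.of R C) j ≃ₗ[R] HH J (ModuleCat.of R G) (j + 1) := fun j =>
      LinearEquiv.ofBijective (HH.δ J hS j)
        ⟨HH.δ_injective J hS j (hHHE j), HH.δ_surjective J hS j (hHHE (j + 1))⟩
    have dExt : ∀ p, Ext.{u} (ModuleCat.of R F) (ModuleCat.of R C) p ≃ₗ[R]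
        Ext.{u} (ModuleCat.of R F) (ModuleCat.of R G) (p + 1) := fun p =>
      LinearEquiv.ofBijective
        (Ext.postcompOfLinear hS.extClass R (ModuleCat.of R F) (rfl : p + 1 = p + 1))
        ⟨by
          rw [injective_iff_map_eq_zero]
          intro x₃ hx₃
          obtain ⟨x₂, hx₂⟩ := Ext.covariant_sequence_exact₃ (ModuleCat.of R F) hS x₃ rfl hx₃
          haveI := hExtE p
          rw [← hx₂, Subsingleton.elim x₂ 0, Ext.zero_comp],
        by
          intro x₁
          haveI := hExtE (p + 1)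
          exact Ext.covariant_sequence_exact₁ (ModuleCat.of R F) hS x₁
            (Subsingleton.elim _ _) rfl⟩
    have hC : ∀ i, i < n → Subsingleton (HH J (ModuleCat.of R C) i) := by
      intro i hi
      haveI := h (i + 1) (Nat.succ_lt_succ hi)
      exact (eδ i).toEquiv.subsingleton
    obtain ⟨⟨a'⟩, b'⟩ := ih C hC
    have eH : ModuleCat.of R (HH J (ModuleCat.of R G) (n + 1)) ≅
        ModuleCat.of R (HH J (ModuleCat.of R C) n) := (eδ n).symm.toModuleIso
    refine ⟨⟨(extCongrRight (ModuleCat.of R F) eH 0).trans (a'.trans (dExt n))⟩, fun h1 => ?_⟩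
    have h2 : Subsingleton (Ext.{u} (ModuleCat.of R F) (ModuleCat.of R C) (n + 1)) :=
      (dExt (n + 1)).toEquiv.subsingleton_congr.2 h1
    exact (extCongrRight (ModuleCat.of R F) eH 1).toEquiv.subsingleton_congr.2 (b' h2)

end top

end Groth.Agent.Lib.Helper4.LC
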