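import Groth.Agent.Lib.Helper4.LD5
import Groth.Agent.Lib.Helper4.LD1
import Groth.Agent.Lib.Helper4.LC11

/-!
# Local duality by dimension shifting (helper4)

`R` a Noetherian local ring of dimension `n` with `H^j_m(R) = 0` for `j < n`, `E` an injective
module and `K` a module with `Hom(K, E) ≃ H^n_m(R)`.  Then for every finite module `M` and
`j + k = n`: `H^j_m(M) ≃ Hom(Ext^k(M, K), E)` (`nonempty_duality`).
-/

set_option autoImplicit false
set_option linter.style.haveILetI false
set_option linter.unusedSectionVars false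
set_option linter.unusedVariables false
set_option maxHeartbeats 800000

open CategoryTheory Limits Opposite Abelian IsLocalRing

universe u

namespace Groth.Agent.Lib.Helper4.LC

open Groth.Agent.Lib.Helper4 Groth.Agent.Lib.Helper4.EW

section mapAdd

variable {R : Type u} [CommRing R] (I : Ideal R) {M M' : ModuleCat.{u} R}

lemma HH.map_add (f g : M ⟶ M') (i : ℕ) (x : HH I M i) :
    HH.map I (f + g) i x = HH.map I f i x + HH.map I g i x := by
  obtain ⟨n, y, rfl⟩ := HH.exists_of I M i x
  rw [HH.map_of, HH.map_of, HH.map_of, Ext.mk₀_add, Ext.comp_add, _root_.map_add]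

lemma HH.map_smul' (r : R) (f : M ⟶ M') (i : ℕ) (x : HH I M i) :
    HH.map I (r • f) i x = r • HH.map I f i x := by
  have h : r • f = f ≫ (r • 𝟙 M') := by rw [Linear.comp_smul, Category.comp_id]
  rw [h, HH.map_comp, ← HH.smul_eq_map]

lemma HH.map_sum {ι : Type*} (s : Finset ι) (f : ι → (M ⟶ M')) (i : ℕ) (x : HH I M i) :
    HH.map I (∑ a ∈ s, f a) i x = ∑ a ∈ s, HH.map I (f a) i x := by
  classical
  induction s using Finset.induction_on with
  | empty => rw [Finset.sum_empty, Finset.sum_empty, HH.map_zero']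
  | insert a s ha ih => rw [Finset.sum_insert ha, Finset.sum_insert ha, HH.map_add, ih]

/-- local cohomology of a finite free module vanishes where that of `R` does. -/
lemma HH.subsingleton_free (i : ℕ) (h : Subsingleton (HH I (ModuleCat.of R R) i)) (r : ℕ) :
    Subsingleton (HH I (F (R := R) r) i) := by
  apply HH.subsingleton_of_forall_eq_zero
  intro ξ
  have h1 : ξ = ∑ a : Fin r, HH.map I (inc r a) i (HH.map I (pr r a) i ξ) := by
    conv_lhs => rw [← HH.map_id I i ξ, ← sum_pr_inc r, HH.map_sum]
    apply Finset.sum_congr rfl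
    intro a _
    rw [HH.map_comp]
  rw [h1]
  apply Finset.sum_eq_zero
  intro a _
  rw [Subsingleton.elim (HH.map I (pr r a) i ξ) 0, _root_.map_zero]

end mapAdd

section functors

variable {R : Type u} [CommRing R]

/-- top local cohomology as a right exact functor. -/
noncomputable def hhFun [IsNoetherianRing R] (I : Ideal R) (n : ℕ) (hn : ringKrullDim R = n) :
    RFun R where
  obj M := HH I M n
  map f := HH.map I f n
  map_id M x := HH.map_id I n x
  map_comp f g x := HH.map_comp I f g n x
  map_add f g x := HH.map_add I f g n x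
  map_smul r f x := HH.map_smul' I r f n x
  surj hS := HH.map_g_surjective I hS n (HH.subsingleton_of_ringKrullDim_lt I _ (n + 1)
    (by rw [hn]; exact_mod_cast Nat.lt_succ_self n))
  exact hS x hx := HH.exact₂ I hS n x hx

lemma exists_factor_of_ker_le {X Y Z : Type*} [AddCommGroup X] [Module R X] [AddCommGroup Y]
    [Module R Y] [AddCommGroup Z] [Module R Z] (c : X →ₗ[R] Y) (hc : Function.Surjective c)
    (l : X →ₗ[R] Z) (hle : LinearMap.ker c ≤ LinearMap.ker l) :
    ∃ ν : Y →ₗ[R] Z, ν ∘ₗ c = l := by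
  refine ⟨(LinearMap.ker c).liftQ l hle ∘ₗ (c.quotKerEquivOfSurjective hc).symm.toLinearMap, ?_⟩
  apply LinearMap.ext
  intro x
  have h1 : (c.quotKerEquivOfSurjective hc).symm (c x) = Submodule.Quotient.mk x := by
    rw [LinearEquiv.symm_apply_eq]
    rfl
  rw [LinearMap.comp_apply, LinearMap.comp_apply, LinearEquiv.coe_coe, h1]
  rfl

variable (K E : Type u) [AddCommGroup K] [Module R K] [AddCommGroup E] [Module R E]

lemma lcomp_injective_of_surjective {X Y : Type*} [AddCommGroup X] [Module R X] [AddCommGroup Y]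
    [Module R Y] (g : X →ₗ[R] Y) (hg : Function.Surjective g) :
    Function.Injective (LinearMap.lcomp R K g) := by
  rw [injective_iff_map_eq_zero]
  intro ψ hψ
  apply LinearMap.ext
  intro y
  obtain ⟨x, rfl⟩ := hg y
  exact LinearMap.congr_fun hψ x

/-- the double dual `M ↦ Hom(Hom(M, K), E)` as a right exact functor (`E` injective). -/
noncomputable def ddFun [Module.Injective R E] : RFun R where
  obj M := ((M →ₗ[R] K) →ₗ[R] E)
  map f := LinearMap.lcomp R E (LinearMap.lcomp R K f.hom)
  map_id M x := by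
    apply LinearMap.ext
    intro φ
    change x (φ ∘ₗ (𝟙 M : M ⟶ M).hom) = x φ
    rw [ModuleCat.hom_id, LinearMap.comp_id]
  map_comp f g x := by
    apply LinearMap.ext
    intro φ
    change x (φ ∘ₗ (f ≫ g).hom) = x ((φ ∘ₗ g.hom) ∘ₗ f.hom)
    rw [ModuleCat.hom_comp, LinearMap.comp_assoc]
  map_add f g x := by
    apply LinearMap.ext
    intro φ
    change x (φ ∘ₗ (f + g).hom) = x (φ ∘ₗ f.hom) + x (φ ∘ₗ g.hom)
    rw [ModuleCat.hom_add, LinearMap.comp_add, _root_.map_add]
  map_smul r f x := by
    apply LinearMap.ext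
    intro φ
    change x (φ ∘ₗ (r • f).hom) = r • x (φ ∘ₗ f.hom)
    rw [ModuleCat.hom_smul, LinearMap.comp_smul, _root_.map_smul]
  surj := by
    intro S hS μ
    have hg : Function.Surjective S.g.hom := (ModuleCat.epi_iff_surjective S.g).1 hS.epi_g
    obtain ⟨h, hh⟩ := Module.Injective.extension_property R E _ _
      (LinearMap.lcomp R K S.g.hom) (lcomp_injective_of_surjective K S.g.hom hg) μ
    exact ⟨h, hh⟩
  exact := by
    intro S hS l hl
    have hg : Function.Surjective S.g.hom := (ModuleCat.epi_iff_surjective S.g).1 hS.epi_g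
    have hex := (ShortComplex.moduleCat_exact_iff S).1 hS.exact
    have hl' : ∀ ψ : S.X₃ →ₗ[R] K, l (ψ ∘ₗ S.g.hom) = 0 := fun ψ => LinearMap.congr_fun hl ψ
    have hle : LinearMap.ker (LinearMap.lcomp R K S.f.hom) ≤ LinearMap.ker l := by
      intro φ hφ
      rw [LinearMap.mem_ker] at hφ ⊢
      have hle2 : LinearMap.ker S.g.hom ≤ LinearMap.ker φ := by
        intro x hx
        obtain ⟨y, rfl⟩ := hex x hx
        exact LinearMap.congr_fun hφ y
      obtain ⟨ψ, hψ⟩ := exists_factor_of_ker_le S.g.hom hg φ hle2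
      rw [← hψ]
      exact hl' ψ
    have hι : Function.Injective ((LinearMap.ker (LinearMap.lcomp R K S.f.hom)).liftQ
        (LinearMap.lcomp R K S.f.hom) le_rfl) := by
      rw [← LinearMap.ker_eq_bot]
      exact Submodule.ker_liftQ_eq_bot _ _ _ le_rfl
    obtain ⟨μ, hμ⟩ := Module.Injective.extension_property R E _ _ _ hι
      ((LinearMap.ker (LinearMap.lcomp R K S.f.hom)).liftQ l hle)
    refine ⟨μ, ?_⟩
    apply LinearMap.ext
    intro φ
    have h2 := LinearMap.congr_fun hμ (Submodule.Quotient.mk φ)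
    exact h2

end functors

section duality

variable {R : Type u} [CommRing R] [IsLocalRing R] [IsNoetherianRing R]

/-- `Ext^0(M, K) ≃ Hom(M, K)`. -/
noncomputable def extZeroEquiv (M K : Type u) [AddCommGroup M] [Module R M] [AddCommGroup K]
    [Module R K] : Ext.{u} (ModuleCat.of R M) (ModuleCat.of R K) 0 ≃ₗ[R] (M →ₗ[R] K) :=
  (Ext.linearEquiv₀ (R := R)).trans
    (ModuleCat.homLinearEquiv (S := R) (M := ModuleCat.of R M) (N := ModuleCat.of R K))

lemma extZeroEquiv_symm_apply (M K : Type u) [AddCommGroup M] [Module R M] [AddCommGroup K]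
    [Module R K] (φ : M →ₗ[R] K) :
    (extZeroEquiv M K).symm φ = Ext.mk₀ (ModuleCat.ofHom φ) := rfl

/-- the natural isomorphism `H^n_m(M) ≃ Hom(Hom(M, K), E)` on finite modules. -/
theorem exists_top_natIso (n : ℕ) (hn : ringKrullDim R = n)
    (E : Type u) [AddCommGroup E] [Module R E] [Module.Injective R E]
    (K : Type u) [AddCommGroup K] [Module R K]
    (eK : (K →ₗ[R] E) ≃ₗ[R] HH (maximalIdeal R) (ModuleCat.of R R) n) :
    ∃ η : ∀ (M : Type u) [AddCommGroup M] [Module R M] [Module.Finite R M],
        HH (maximalIdeal R) (ModuleCat.of R M) n ≃ₗ[R] ((M →ₗ[R] K) →ₗ[R] E),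
      ∀ (M N : Type u) [AddCommGroup M] [Module R M] [Module.Finite R M] [AddCommGroup N]
        [Module R N] [Module.Finite R N] (f : M →ₗ[R] N)
        (x : HH (maximalIdeal R) (ModuleCat.of R M) n),
        η N (HH.map (maximalIdeal R) (ModuleCat.ofHom f) n x) =
          (η M x) ∘ₗ (LinearMap.lcomp R K f) := by
  let e : (hhFun (maximalIdeal R) n hn).obj (ModuleCat.of R R) ≃ₗ[R]
      (ddFun K E).obj (ModuleCat.of R R) :=
    eK.symm.trans (LinearEquiv.arrowCongr (LinearMap.ringLmapEquivSelf R R K).symm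
      (LinearEquiv.refl R E))
  refine ⟨fun M _ _ _ => natIso (hhFun (maximalIdeal R) n hn) (ddFun K E) e M, ?_⟩
  intro M N _ _ _ _ _ _ f x
  exact natIso_naturality (hhFun (maximalIdeal R) n hn) (ddFun K E) e M N f x

/-- **Local duality** (abstract form). -/
theorem nonempty_duality (n : ℕ) (hn : ringKrullDim R = n)
    (hdepth : ∀ j, j < n → Subsingleton (HH (maximalIdeal R) (ModuleCat.of R R) j))
    (E : Type u) [AddCommGroup E] [Module R E] [Module.Injective R E]
    (K : Type u) [AddCommGroup K] [Module R K]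
    (eK : (K →ₗ[R] E) ≃ₗ[R] HH (maximalIdeal R) (ModuleCat.of R R) n) :
    ∀ (k j : ℕ), j + k = n → ∀ (M : Type u) [AddCommGroup M] [Module R M] [Module.Finite R M],
      Nonempty (HH (maximalIdeal R) (ModuleCat.of R M) j ≃ₗ[R]
        (Ext.{u} (ModuleCat.of R M) (ModuleCat.of R K) k →ₗ[R] E)) := by
  obtain ⟨η, hη⟩ := exists_top_natIso n hn E K eK
  intro k
  induction k with
  | zero =>
    intro j hj M _ _ _
    rw [add_zero] at hj
    subst hj
    exact ⟨(η M).trans
      (LinearEquiv.arrowCongr (extZeroEquiv M K).symm (LinearEquiv.refl R E))⟩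
  | succ k ih =>
    intro j hj M _ _ _
    -- a presentation of `M`
    obtain ⟨r, p, hp⟩ := Module.Finite.exists_fin' R M
    have hex : Function.Exact (LinearMap.ker p).subtype p := LinearMap.exact_subtype_ker_map p
    have hS : (sesOf (LinearMap.ker p).subtype p hex).ShortExact :=
      sesOf_shortExact _ _ hex (Submodule.injective_subtype _) hp
    set S := sesOf (LinearMap.ker p).subtype p hex with hSdef
    have hFlow : ∀ i, i < n → Subsingleton (HH (maximalIdeal R) S.X₂ i) := fun i hi =>
      HH.subsingleton_free (maximalIdeal R) i (hdepth i hi) r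
    haveI hproj : Projective S.X₂ := by
      have : Module.Projective R (Fin r → R) := Module.Projective.of_free
      exact (IsProjective.iff_projective (R := R) (P := (Fin r → R))).1 this
    have hExtF : ∀ q, Subsingleton (Ext.{u} S.X₂ (ModuleCat.of R K) (q + 1)) := fun q =>
      ⟨fun a b => by rw [Ext.eq_zero_of_projective a, Ext.eq_zero_of_projective b]⟩
    cases k with
    | zero =>
      -- `j + 1 = n`
      have hjn : j + 1 = n := hj
      -- kernel description of `H^j(M)`
      have hδinj : Function.Injective (HH.δ (maximalIdeal R) hS j) :=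
        HH.δ_injective (maximalIdeal R) hS j (hFlow j (by omega))
      subst hjn
      let α₁ : HH (maximalIdeal R) (ModuleCat.of R (LinearMap.ker p)) (j + 1) →ₗ[R]
          HH (maximalIdeal R) (ModuleCat.of R (Fin r → R)) (j + 1) :=
        HH.map (maximalIdeal R) S.f (j + 1)
      let α₂ : (((LinearMap.ker p) →ₗ[R] K) →ₗ[R] E) →ₗ[R] (((Fin r → R) →ₗ[R] K) →ₗ[R] E) :=
        LinearMap.lcomp R E (LinearMap.lcomp R K (LinearMap.ker p).subtype)
      have hα₂ : ∀ (l : ((LinearMap.ker p) →ₗ[R] K) →ₗ[R] E) (ψ : (Fin r → R) →ₗ[R] K),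
          α₂ l ψ = l (ψ ∘ₗ (LinearMap.ker p).subtype) := fun l ψ => rfl
      have hmemA : ∀ x, HH.δ (maximalIdeal R) hS j x ∈ LinearMap.ker α₁ := by
        intro x
        exact LinearMap.mem_ker.2 (HH.map_f_δ (maximalIdeal R) hS j x)
      let eA : HH (maximalIdeal R) (ModuleCat.of R M) j ≃ₗ[R] LinearMap.ker α₁ :=
        LinearEquiv.ofBijective
          (LinearMap.codRestrict (LinearMap.ker α₁) (HH.δ (maximalIdeal R) hS j) hmemA)
          ⟨fun a b hab => hδinj (congrArg Subtype.val hab), by
            rintro ⟨y, hy⟩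
            obtain ⟨x, hx⟩ := HH.exact₁ (maximalIdeal R) hS j y (LinearMap.mem_ker.1 hy)
            exact ⟨x, Subtype.ext hx⟩⟩
      -- the connecting map on `Hom`
      let c : ((LinearMap.ker p) →ₗ[R] K) →ₗ[R] Ext.{u} (ModuleCat.of R M) (ModuleCat.of R K) 1 :=
        (Ext.precompOfLinear hS.extClass R (ModuleCat.of R K) (add_zero 1)) ∘ₗ
          (extZeroEquiv (LinearMap.ker p) K).symm.toLinearMap
      have hc_apply : ∀ φ : (LinearMap.ker p) →ₗ[R] K,
          c φ = hS.extClass.comp (Ext.mk₀ (ModuleCat.ofHom φ)) (add_zero 1) := fun φ => rfl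
      have hc : Function.Surjective c := by
        intro x₃
        haveI := hExtF 0
        obtain ⟨x₁, hx₁⟩ := Ext.contravariant_sequence_exact₃ hS (ModuleCat.of R K) x₃
          (Subsingleton.elim _ _) (add_zero 1)
        obtain ⟨φ, rfl⟩ := (Ext.mk₀_bijective _ _).2 x₁
        refine ⟨φ.hom, ?_⟩
        rw [hc_apply]
        exact hx₁
      have hkerc : ∀ φ : (LinearMap.ker p) →ₗ[R] K, c φ = 0 ↔
          ∃ ψ : (Fin r → R) →ₗ[R] K, ψ ∘ₗ (LinearMap.ker p).subtype = φ := by
        intro φ
        rw [hc_apply]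
        constructor
        · intro h0
          obtain ⟨x₂, hx₂⟩ := Ext.contravariant_sequence_exact₁ hS (ModuleCat.of R K)
            (Ext.mk₀ (ModuleCat.ofHom φ)) (add_zero 1) h0
          obtain ⟨ψ, rfl⟩ := (Ext.mk₀_bijective _ _).2 x₂
          rw [Ext.mk₀_comp_mk₀] at hx₂
          have h2 : S.f ≫ ψ = ModuleCat.ofHom φ := (Ext.mk₀_bijective _ _).1 hx₂
          refine ⟨ψ.hom, ?_⟩
          have h3 := congrArg ModuleCat.Hom.hom h2
          exact h3
        · rintro ⟨ψ, rfl⟩
          have h2 : Ext.mk₀ (ModuleCat.ofHom (ψ ∘ₗ (LinearMap.ker p).subtype)) =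
              (Ext.mk₀ S.f).comp (Ext.mk₀ (ModuleCat.ofHom ψ)) (zero_add 0) := by
            rw [Ext.mk₀_comp_mk₀]
            rfl
          rw [h2]
          exact hS.extClass_comp_assoc _
      -- `Hom(Ext^1(M, K), E) ≃ ker`
      have hmemB : ∀ ν : Ext.{u} (ModuleCat.of R M) (ModuleCat.of R K) 1 →ₗ[R] E,
          ν ∘ₗ c ∈ LinearMap.ker α₂ := by
        intro ν
        refine LinearMap.mem_ker.2 ?_
        apply LinearMap.ext
        intro ψ
        rw [hα₂, LinearMap.zero_apply, LinearMap.comp_apply,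
          (hkerc (ψ ∘ₗ (LinearMap.ker p).subtype)).2 ⟨ψ, rfl⟩, _root_.map_zero]
      let Ψ : (Ext.{u} (ModuleCat.of R M) (ModuleCat.of R K) 1 →ₗ[R] E) →ₗ[R]
          LinearMap.ker α₂ :=
        LinearMap.codRestrict _ (LinearMap.lcomp R E c) hmemB
      have hΨ : Function.Bijective Ψ := by
        constructor
        · intro a b hab
          have h1 : a ∘ₗ c = b ∘ₗ c := congrArg Subtype.val hab
          apply LinearMap.ext
          intro y
          obtain ⟨φ, rfl⟩ := hc y
          exact LinearMap.congr_fun h1 φ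
        · rintro ⟨l, hl0⟩
          have hl : α₂ l = 0 := LinearMap.mem_ker.1 hl0
          have hle : LinearMap.ker c ≤ LinearMap.ker l := by
            intro φ hφ
            rw [LinearMap.mem_ker] at hφ ⊢
            obtain ⟨ψ, rfl⟩ := (hkerc φ).1 hφ
            have h5 := LinearMap.congr_fun hl ψ
            rw [hα₂, LinearMap.zero_apply] at h5
            exact h5
          obtain ⟨ν, hν⟩ := exists_factor_of_ker_le c hc l hle
          exact ⟨ν, Subtype.ext hν⟩
      let eB := LinearEquiv.ofBijective Ψ hΨ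
      -- compare the kernels
      obtain ⟨eAB⟩ := nonempty_kerEquiv α₁ α₂
        (η (LinearMap.ker p)).toLinearMap (η (Fin r → R)).toLinearMap
        (η (LinearMap.ker p)).bijective (η (Fin r → R)).injective
        (fun x => (hη (LinearMap.ker p) (Fin r → R) (LinearMap.ker p).subtype x).symm)
      exact ⟨eA.trans (eAB.trans eB.symm)⟩
    | succ k' =>
      -- `j + (k' + 2) = n`
      obtain ⟨e1⟩ := ih (j + 1) (by omega) (LinearMap.ker p)
      have eδ : HH (maximalIdeal R) (ModuleCat.of R M) j ≃ₗ[R]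
          HH (maximalIdeal R) (ModuleCat.of R (LinearMap.ker p)) (j + 1) :=
        LinearEquiv.ofBijective (HH.δ (maximalIdeal R) hS j)
          ⟨HH.δ_injective (maximalIdeal R) hS j (hFlow j (by omega)),
            HH.δ_surjective (maximalIdeal R) hS j (hFlow (j + 1) (by omega))⟩
      have eExt : Ext.{u} (ModuleCat.of R (LinearMap.ker p)) (ModuleCat.of R K) (k' + 1) ≃ₗ[R]
          Ext.{u} (ModuleCat.of R M) (ModuleCat.of R K) (k' + 1 + 1) :=
        LinearEquiv.ofBijective
          (Ext.precompOfLinear hS.extClass R (ModuleCat.of R K) (add_comm 1 (k' + 1)))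
          ⟨by
            rw [injective_iff_map_eq_zero]
            intro x₁ hx₁
            obtain ⟨x₂, hx₂⟩ := Ext.contravariant_sequence_exact₁ hS (ModuleCat.of R K) x₁
              (add_comm 1 (k' + 1)) hx₁
            haveI := hExtF k'
            rw [← hx₂, Subsingleton.elim x₂ 0, Ext.comp_zero],
          by
            intro x₃
            haveI := hExtF (k' + 1)
            exact Ext.contravariant_sequence_exact₃ hS (ModuleCat.of R K) x₃
              (Subsingleton.elim _ _) (add_comm 1 (k' + 1))⟩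
      exact ⟨eδ.trans (e1.trans (LinearEquiv.arrowCongr eExt (LinearEquiv.refl R E)))⟩

end duality

end Groth.Agent.Lib.Helper4.LC
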