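import Groth.Agent.Lib.Helper4.LC3

/-!
# Local cohomology: Grothendieck vanishing for arbitrary modules (helper4)
-/

set_option autoImplicit false
set_option linter.style.haveILetI false
set_option linter.unusedSectionVars false
set_option maxHeartbeats 400000

open CategoryTheory Limits Opposite Abelian

universe u

namespace Groth.Agent.Lib.Helper4.LC

variable {R : Type u} [CommRing R] (I : Ideal R)

section lemmaA

variable [IsNoetherianRing R]

/-- Over a Noetherian ring, a class in `Ext^i(N, M)` with `N` finite comes from a finitely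
generated submodule of `M`. -/
theorem ext_exists_fg_submodule (i : ℕ) : ∀ (N : Type u) [AddCommGroup N] [Module R N]
    [Module.Finite R N] (M : ModuleCat.{u} R) (ξ : Ext.{u} (ModuleCat.of R N) M i),
    ∃ (M' : Submodule R M) (_ : M'.FG) (ξ' : Ext.{u} (ModuleCat.of R N) (ModuleCat.of R M') i),
      ξ'.comp (Ext.mk₀ (ModuleCat.ofHom M'.subtype : ModuleCat.of R M' ⟶ M)) (add_zero i) = ξ := by
  induction i with
  | zero =>
    intro N _ _ _ M ξ
    obtain ⟨φ, rfl⟩ := (Ext.mk₀_bijective (ModuleCat.of R N) M).2 ξ
    refine ⟨LinearMap.range φ.hom, ?_,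
      Ext.mk₀ (ModuleCat.ofHom φ.hom.rangeRestrict :
        ModuleCat.of R N ⟶ ModuleCat.of R (LinearMap.range φ.hom)), ?_⟩
    · rw [LinearMap.range_eq_map]
      exact (Module.Finite.fg_top (R := R) (M := N)).map φ.hom
    · have h : (ModuleCat.ofHom φ.hom.rangeRestrict :
          ModuleCat.of R N ⟶ ModuleCat.of R (LinearMap.range φ.hom)) ≫
          (ModuleCat.ofHom (LinearMap.range φ.hom).subtype :
            ModuleCat.of R (LinearMap.range φ.hom) ⟶ M) = φ := by
        apply ModuleCat.hom_ext
        apply LinearMap.ext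
        intro x
        rfl
      rw [Ext.mk₀_comp_mk₀, h]
  | succ i ih =>
    intro N _ _ _ M ξ
    obtain ⟨n, f, hf⟩ := Module.Finite.exists_fin' R N
    have hfg : Function.Exact (LinearMap.ker f).subtype f := LinearMap.exact_subtype_ker_map f
    have hS : (sesOf (LinearMap.ker f).subtype f hfg).ShortExact :=
      sesOf_shortExact (LinearMap.ker f).subtype f hfg (Submodule.injective_subtype _) hf
    haveI : Module.Projective R (Fin n → R) := inferInstance
    haveI : CategoryTheory.Projective (sesOf (LinearMap.ker f).subtype f hfg).X₂ :=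
      ModuleCat.projective_of_categoryTheory_projective (ModuleCat.of R (Fin n → R))
    have h0 : (Ext.mk₀ (sesOf (LinearMap.ker f).subtype f hfg).g).comp ξ (zero_add (i + 1)) = 0 :=
      Ext.eq_zero_of_projective _
    obtain ⟨η, hη⟩ := Ext.contravariant_sequence_exact₃ hS M ξ h0 (by omega : 1 + i = i + 1)
    obtain ⟨M', hM', η', hη'⟩ := ih (LinearMap.ker f) M η
    refine ⟨M', hM', hS.extClass.comp η' (by omega : 1 + i = i + 1), ?_⟩
    rw [Ext.comp_assoc_of_third_deg_zero, hη', hη]

/-- If local cohomology vanishes on all finitely generated submodules, it vanishes. -/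
theorem HH.subsingleton_of_forall_fg (M : ModuleCat.{u} R) (i : ℕ)
    (h : ∀ M' : Submodule R M, M'.FG → Subsingleton (HH I (ModuleCat.of R M') i)) :
    Subsingleton (HH I M i) := by
  apply HH.subsingleton_of_forall_eq_zero
  intro z
  obtain ⟨n, y, rfl⟩ := HH.exists_of I M i z
  obtain ⟨M', hM', y', rfl⟩ := ext_exists_fg_submodule i (R ⧸ I ^ n) M y
  have := h M' hM'
  rw [← HH.map_of, Subsingleton.elim (HH.of I (ModuleCat.of R M') i n y') 0, map_zero]

/-- **Grothendieck vanishing** for arbitrary modules. -/
theorem HH.subsingleton_of_supportDim_lt (M : ModuleCat.{u} R) (i : ℕ)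
    (hi : Module.supportDim R M < (i : WithBot ℕ∞)) : Subsingleton (HH I M i) := by
  apply HH.subsingleton_of_forall_fg
  intro M' hM'
  haveI : Module.Finite R M' := Module.Finite.iff_fg.2 hM'
  exact HH.subsingleton_of_supportDim_lt_finite I i M'
    (lt_of_le_of_lt (Module.supportDim_le_of_injective M'.subtype
      (Submodule.injective_subtype M')) hi)

theorem HH.subsingleton_of_ringKrullDim_lt (M : ModuleCat.{u} R) (i : ℕ)
    (hi : ringKrullDim R < (i : WithBot ℕ∞)) : Subsingleton (HH I M i) :=
  HH.subsingleton_of_supportDim_lt I M i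
    (lt_of_le_of_lt (Module.supportDim_le_ringKrullDim R M) hi)

end lemmaA

section topdim

/-- If `f` kills `N` and lies in no top-dimensional minimal prime, then `dim Supp N < dim R`. -/
theorem supportDim_lt_of_forall_smul_eq_zero (d : ℕ) (hd : ringKrullDim R = d) (f : R)
    (hf : ∀ p ∈ minimalPrimes R, ringKrullDim (R ⧸ p) = d → f ∉ p)
    (N : Type u) [AddCommGroup N] [Module R N] (hN : ∀ n : N, f • n = 0) :
    Module.supportDim R N < (d : WithBot ℕ∞) := by
  by_contra hcon
  rw [not_lt] at hcon
  have hcon' : (d : WithBot ℕ∞) ≤ Order.krullDim (Module.support R N) := hcon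
  obtain ⟨l, hl⟩ := Order.le_krullDim_iff.1 hcon'
  have hsupp : ∀ z : Module.support R N, f ∈ z.1.asIdeal := by
    intro z
    obtain ⟨m, hm⟩ := Module.mem_support_iff_exists_annihilator.1 z.2
    exact hm (by rw [Submodule.mem_annihilator_span_singleton]; exact hN m)
  obtain ⟨q, hq, hql⟩ := Ideal.exists_minimalPrimes_le (J := l.head.1.asIdeal) bot_le
  have hqprime : q.IsPrime := hq.1.1
  let q' : PrimeSpectrum R := ⟨q, hqprime⟩
  have hq'le : q' ≤ l.head.1 := hql
  rcases lt_or_eq_of_le hq'le with hlt | heq
  · let L : LTSeries (PrimeSpectrum R) := (l.map Subtype.val (fun _ _ h => h)).cons q' hlt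
    have h1 : (L.length : WithBot ℕ∞) ≤ ringKrullDim R := Order.LTSeries.length_le_krullDim L
    have h2 : L.length = d + 1 := by simp [L, hl]
    rw [h2, hd] at h1
    have : d + 1 ≤ d := by exact_mod_cast h1
    omega
  · have hfq : f ∈ q := by
      have h1 := hsupp l.head
      rw [← heq] at h1
      exact h1
    refine hf q (show q ∈ minimalPrimes R from hq) ?_ hfq
    apply le_antisymm
    · rw [← hd]
      exact ringKrullDim_quotient_le q
    · rw [ringKrullDim_quotient]
      let L : LTSeries (PrimeSpectrum.zeroLocus (R := R) (q : Set R)) :=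
        { length := l.length
          toFun := fun j => ⟨(l j).1, by
            rw [PrimeSpectrum.mem_zeroLocus]
            have h1 : l.head ≤ l j := LTSeries.head_le l j
            have h2 : q' ≤ (l j).1 := heq ▸ h1
            exact h2⟩
          step := fun j => l.step j }
      have h1 := Order.LTSeries.length_le_krullDim L
      have h2 : L.length = d := hl
      rw [h2] at h1
      exact h1

end topdim

section surj

variable [IsNoetherianRing R]

/-- multiplication by an element outside the top-dimensional minimal primes is surjective on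
top local cohomology. -/
theorem HH.smul_surjective_top (d : ℕ) (hd : ringKrullDim R = d) (f : R)
    (hf : ∀ p ∈ minimalPrimes R, ringKrullDim (R ⧸ p) = d → f ∉ p)
    (M : Type u) [AddCommGroup M] [Module R M] :
    Function.Surjective (fun x : HH I (ModuleCat.of R M) d => f • x) := by
  let φ : M →ₗ[R] M := LinearMap.lsmul R M f
  let P : Submodule R M := LinearMap.range φ
  have hex1 : Function.Exact (LinearMap.ker φ).subtype φ.rangeRestrict := by
    rw [LinearMap.exact_iff, LinearMap.ker_rangeRestrict, Submodule.range_subtype]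
  have hS1 := sesOf_shortExact (LinearMap.ker φ).subtype φ.rangeRestrict hex1
    (Submodule.injective_subtype _) φ.surjective_rangeRestrict
  have hex2 : Function.Exact P.subtype P.mkQ := LinearMap.exact_subtype_mkQ P
  have hS2 := sesOf_shortExact P.subtype P.mkQ hex2 (Submodule.injective_subtype _)
    (Submodule.mkQ_surjective _)
  have hK : Subsingleton
      (HH I (sesOf (LinearMap.ker φ).subtype φ.rangeRestrict hex1).X₁ (d + 1)) :=
    HH.subsingleton_of_ringKrullDim_lt I _ (d + 1)
      (by rw [hd]; exact_mod_cast Nat.lt_succ_self d)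
  have hQ : Subsingleton (HH I (sesOf P.subtype P.mkQ hex2).X₃ d) := by
    apply HH.subsingleton_of_supportDim_lt I
    apply supportDim_lt_of_forall_smul_eq_zero d hd f hf
    intro n
    obtain ⟨m, rfl⟩ := Submodule.mkQ_surjective P n
    rw [← map_smul, Submodule.mkQ_apply, Submodule.Quotient.mk_eq_zero]
    exact ⟨m, rfl⟩
  have s1 := HH.map_g_surjective I hS1 d hK
  have s2 := HH.map_f_surjective I hS2 d hQ
  have hcomp : (sesOf (LinearMap.ker φ).subtype φ.rangeRestrict hex1).g ≫
      (sesOf P.subtype P.mkQ hex2).f = f • 𝟙 (ModuleCat.of R M) := by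
    apply ModuleCat.hom_ext
    apply LinearMap.ext
    intro x
    rfl
  intro z
  obtain ⟨w, hw⟩ := s2 z
  obtain ⟨v, hv⟩ := s1 w
  refine ⟨v, ?_⟩
  show f • v = z
  rw [HH.smul_eq_map, ← hcomp, HH.map_comp, hv, hw]

end surj

end Groth.Agent.Lib.Helper4.LC
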