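import Groth.Agent.Lib.Helper4.HomDepth
import Groth.Agent.Lib.Helper4.Sk

/-!
# Serre's conditions `(S_1)`, `(S_2)` pass to `Hom(M, N)` (helper4)
-/

set_option autoImplicit false

universe u v w

namespace Groth.Agent.Lib.Helper4

section suppHom

variable {A : Type u} [CommRing A] {X : Type v} [AddCommGroup X] [Module A X]
  {Y : Type w} [AddCommGroup Y] [Module A Y] [Module.Finite A Y]

lemma support_linearMap_subset : Module.support A (X →ₗ[A] Y) ⊆ Module.support A Y := by
  intro q hq
  rw [Module.mem_support_iff_of_finite]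
  refine le_trans ?_ (Module.annihilator_le_of_mem_support hq)
  intro r hr
  rw [Module.mem_annihilator] at hr ⊢
  intro φ
  ext x
  simpa using hr (φ x)

lemma supportDim_linearMap_le :
    Module.supportDim A (X →ₗ[A] Y) ≤ Module.supportDim A Y :=
  Order.krullDim_le_of_strictMono (fun a => ⟨a.1, support_linearMap_subset a.2⟩)
    (fun {_ _} lt => lt)

end suppHom

section arith

lemma min_two_le_of_imp (d d' : ℕ∞) (h1 : 1 ≤ d → 1 ≤ d') (h2 : 2 ≤ d → 2 ≤ d') :
    min 2 d ≤ d' := by
  by_cases hd2 : 2 ≤ d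
  · exact le_trans (min_le_left _ _) (h2 hd2)
  · by_cases hd1 : 1 ≤ d
    · have hle : d ≤ 1 := by
        have : d < 1 + 1 := by
          rw [one_add_one_eq_two]; exact not_le.mp hd2
        exact Order.le_of_lt_add_one this
      exact le_trans (min_le_right _ _) (le_trans hle (h1 hd1))
    · have h0 : d = 0 := Order.lt_one_iff.mp (not_le.mp hd1)
      rw [h0]
      simp

lemma min_one_le_of_imp (d d' : ℕ∞) (h1 : 1 ≤ d → 1 ≤ d') : min 1 d ≤ d' := by
  by_cases hd1 : 1 ≤ d
  · exact le_trans (min_le_left _ _) (h1 hd1)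
  · have h0 : d = 0 := Order.lt_one_iff.mp (not_le.mp hd1)
    rw [h0]
    simp

/-- abstract `(S_k)` transfer -/
lemma sk_transfer (k : ℕ) (d d' : ℕ∞) (s s' : WithBot ℕ∞) (hs : s' ≤ s)
    (hd : min (k : ℕ∞) d ≤ d') (h : min (k : WithBot ℕ∞) s ≤ ((d : ℕ∞) : WithBot ℕ∞)) :
    min (k : WithBot ℕ∞) s' ≤ ((d' : ℕ∞) : WithBot ℕ∞) := by
  have hk : ((k : ℕ) : WithBot ℕ∞) = (((k : ℕ∞)) : WithBot ℕ∞) := rfl
  have h1 : min (k : WithBot ℕ∞) s' ≤ min (k : WithBot ℕ∞) s := min_le_min le_rfl hs
  have h2 : min (k : WithBot ℕ∞) s ≤ ((min (k : ℕ∞) d : ℕ∞) : WithBot ℕ∞) := by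
    rw [WithBot.coe_min, ← hk]
    exact le_min (min_le_left _ _) h
  exact le_trans h1 (le_trans h2 (WithBot.coe_le_coe.mpr hd))

end arith

section main

variable (R : Type u) [CommRing R] [IsNoetherianRing R] (M N : Type u) [AddCommGroup M]
  [Module R M] [Module.Finite R M] [AddCommGroup N] [Module R N] [Module.Finite R N]

/-- `Hom(M,N)_p ≅ Hom(M_p, N_p)` -/
noncomputable def localizedLinearMapEquiv (p : Ideal R) [p.IsPrime] :
    LocalizedModule p.primeCompl (M →ₗ[R] N) ≃ₗ[Localization.AtPrime p]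
      (LocalizedModule p.primeCompl M →ₗ[Localization.AtPrime p]
        LocalizedModule p.primeCompl N) :=
  haveI : Module.FinitePresentation R M := Module.finitePresentation_of_finite R M
  (IsLocalizedModule.iso p.primeCompl
    (LocalizedModule.map p.primeCompl (M := M) (N := N))).extendScalarsOfIsLocalization
      p.primeCompl (Localization.AtPrime p)

theorem hasSk_linearMap (k : ℕ) (hk : k = 1 ∨ k = 2) (h : LocCoh.HasSk k R N) :
    LocCoh.HasSk k R (M →ₗ[R] N) := by
  intro p _
  have e := localizedLinearMapEquiv R M N p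
  have hdep : LocCoh.depth (Localization.AtPrime p) (LocalizedModule p.primeCompl (M →ₗ[R] N)) =
      LocCoh.idealDepth (IsLocalRing.maximalIdeal (Localization.AtPrime p))
        (LocalizedModule p.primeCompl M →ₗ[Localization.AtPrime p]
          LocalizedModule p.primeCompl N) := idealDepth_congr _ e
  have hdim := Module.supportDim_eq_of_equiv e
  rw [hdep, hdim]
  refine sk_transfer k _ _ _ _ supportDim_linearMap_le ?_ (h p)
  rcases hk with rfl | rfl
  · exact min_one_le_of_imp _ _ (one_le_idealDepth_linearMap _)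
  · exact min_two_le_of_imp _ _ (one_le_idealDepth_linearMap _) (two_le_idealDepth_linearMap _)

end main

end Groth.Agent.Lib.Helper4
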