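import Mathlib
import Groth.Agent.Lib.Helper4.CanonMod4
import Groth.Agent.Lib.Helper4.HomSk
import Groth.Agent.Lib.Helper4.CMChain

/-!
# A canonical module satisfies Serre's condition `(S_2)` (helper4)
-/

set_option autoImplicit false
set_option linter.style.haveILetI false
set_option linter.unusedSectionVars false
set_option linter.unusedVariables false
set_option maxHeartbeats 800000

open CategoryTheory Limits Opposite Abelian IsLocalRing Pointwise

universe u

namespace Groth.Agent.Lib.Helper4.CanonMod

open Groth.Agent.Lib.Helper4 Groth.Agent.Lib.Helper4.LC Groth.Agent.Lib.Helper4.Falt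
  Groth.Agent.Lib.Helper4.EW

section arith

lemma withBot_lt_of_add_natCast_le (s : WithBot ℕ∞) (n j : ℕ) (hs : s ≠ ⊥)
    (h : s + (j : WithBot ℕ∞) ≤ (n : WithBot ℕ∞)) :
    j ≤ n ∧ s < ((n - j + 1 : ℕ) : WithBot ℕ∞) := by
  induction s with
  | bot => exact absurd rfl hs
  | coe a =>
    induction a with
    | top =>
      exfalso
      have h1 : (((⊤ : ℕ∞) + (j : ℕ∞) : ℕ∞) : WithBot ℕ∞) ≤ (((n : ℕ) : ℕ∞) : WithBot ℕ∞) := by
        exact_mod_cast h
      rw [WithBot.coe_le_coe, top_add, top_le_iff] at h1
      exact ENat.natCast_ne_top _ h1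
    | coe k =>
      have h1 : ((k + j : ℕ) : WithBot ℕ∞) ≤ ((n : ℕ) : WithBot ℕ∞) := by exact_mod_cast h
      have h2 : k + j ≤ n := by exact_mod_cast h1
      refine ⟨by omega, ?_⟩
      obtain ⟨m, hm⟩ : ∃ m, m = n - j + 1 := ⟨_, rfl⟩
      rw [← hm]
      have h3 : k < m := by omega
      exact_mod_cast h3

end arith

section loc

variable {R : Type u} [CommRing R]

/-- `ht p + dim R/p ≤ dim R`. -/
lemma height_add_ringKrullDim_quotient_le (p : PrimeSpectrum R) :
    ((p.asIdeal.height : ℕ∞) : WithBot ℕ∞) + ringKrullDim (R ⧸ p.asIdeal) ≤ ringKrullDim R := by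
  rw [ringKrullDim_quotient_eq_coheight, PrimeSpectrum.height_eq_orderHeight]
  have : Nonempty (PrimeSpectrum R) := ⟨p⟩
  rw [ringKrullDim, Order.krullDim_eq_iSup_height_add_coheight_of_nonempty]
  rw [← WithBot.coe_add]
  exact WithBot.coe_le_coe.mpr
    (le_iSup (fun a : PrimeSpectrum R => Order.height a + Order.coheight a) p)

/-- vanishing of `Ext` of localized modules. -/
theorem subsingleton_ext_localizedModule_iff [IsNoetherianRing R] (S : Submonoid R)
    (M N : Type u) [AddCommGroup M] [Module R M] [Module.Finite R M] [AddCommGroup N] [Module R N]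
    (i : ℕ) :
    Subsingleton (Ext.{u} (ModuleCat.of (Localization S) (LocalizedModule S M))
      (ModuleCat.of (Localization S) (LocalizedModule S N)) i) ↔
      ∀ e : Ext.{u} (ModuleCat.of R M) (ModuleCat.of R N) i, ∃ s : S, (s : R) • e = 0 := by
  rw [← ExtLoc.subsingleton_iff S (ModuleCat.of R N) i M]
  exact ((extCongrLeft (StalkDual.lfIso S M) _ i).trans
    (extCongrRight _ (StalkDual.lfIso S N) i)).symm.toEquiv.subsingleton_congr

/-- the support of `(R/p)_p` is the closed point. -/
lemma support_localizedModule_quotient (p : Ideal R) [p.IsPrime] :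
    Module.support (Localization.AtPrime p) (LocalizedModule p.primeCompl (R ⧸ p)) =
      PrimeSpectrum.zeroLocus (maximalIdeal (Localization.AtPrime p) : Set _) := by
  have hsupp : Module.support R (R ⧸ p) = PrimeSpectrum.zeroLocus (p : Set R) := by
    rw [Module.support_eq_zeroLocus, Ideal.annihilator_quotient]
  ext c
  constructor
  · intro hc
    have h1 := comap_mem_support_of_mem_support_localizedModule (M := R ⧸ p) p c hc
    rw [hsupp, PrimeSpectrum.mem_zeroLocus, SetLike.coe_subset_coe] at h1
    rw [PrimeSpectrum.mem_zeroLocus, SetLike.coe_subset_coe,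
      ← Localization.AtPrime.map_eq_maximalIdeal, Ideal.map_le_iff_le_comap]
    exact h1
  · intro hc
    rw [PrimeSpectrum.mem_zeroLocus, SetLike.coe_subset_coe] at hc
    apply mem_support_localizedModule_of_comap_mem
    rw [hsupp, PrimeSpectrum.mem_zeroLocus, SetLike.coe_subset_coe]
    intro r hr
    rw [PrimeSpectrum.comap_asIdeal, Ideal.mem_comap]
    apply hc
    rw [← Localization.AtPrime.map_eq_maximalIdeal]
    exact Ideal.mem_map_of_mem _ hr

end loc

section main

variable {R : Type u} [CommRing R] [IsLocalRing R] [IsNoetherianRing R]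
  {E : Type u} [AddCommGroup E] [Module R E]
  (f : ResidueField R →ₗ[R] E) (hf : InjHull.IsInjectiveHull f)

include hf in
/-- **a canonical module is `(S_2)`.** -/
theorem hasSk_two (n : ℕ) (hn : ringKrullDim R = n) (K : Type u) [AddCommGroup K]
    [Module R K] [Module.Finite R K]
    (eK : (K →ₗ[R] E) ≃ₗ[R] HH (maximalIdeal R) (ModuleCat.of R R) n) :
    LocCoh.HasSk 2 R K := by
  intro p _
  by_cases hnt : Nontrivial (LocalizedModule p.primeCompl K)
  swap
  · rw [not_nontrivial_iff_subsingleton] at hnt
    rw [depth_eq_top_of_subsingleton]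
    exact le_top
  obtain ⟨D, hD⟩ := exists_nat_supportDim (R := Localization.AtPrime p)
    (M := LocalizedModule p.primeCompl K)
  have key : ∀ j : ℕ, (j = 1 ∨ j = 2) → (j : ℕ∞) ≤ (D : ℕ∞) →
      (j : ℕ∞) ≤ LocCoh.depth (Localization.AtPrime p) (LocalizedModule p.primeCompl K) := by
    intro j hj hjD
    have hht : (j : ℕ∞) ≤ p.height := by
      have h1 := Module.supportDim_le_ringKrullDim (Localization.AtPrime p)
        (LocalizedModule p.primeCompl K)
      rw [hD, IsLocalization.AtPrime.ringKrullDim_eq_height p (Localization.AtPrime p)] at h1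
      exact le_trans hjD (WithBot.coe_le_coe.1 h1)
    have hdim : Module.supportDim R (R ⧸ p) + (j : WithBot ℕ∞) ≤ (n : WithBot ℕ∞) := by
      have h1 := height_add_ringKrullDim_quotient_le (⟨p, inferInstance⟩ : PrimeSpectrum R)
      rw [hn] at h1
      rw [Module.supportDim_quotient_eq_ringKrullDim]
      calc ringKrullDim (R ⧸ p) + (j : WithBot ℕ∞)
          ≤ ringKrullDim (R ⧸ p) + ((p.height : ℕ∞) : WithBot ℕ∞) := by
            gcongr
            exact_mod_cast hht
        _ = ((p.height : ℕ∞) : WithBot ℕ∞) + ringKrullDim (R ⧸ p) := add_comm _ _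
        _ ≤ (n : WithBot ℕ∞) := h1
    haveI : Nontrivial (R ⧸ p) := Ideal.Quotient.nontrivial_iff.2 (Ideal.IsPrime.ne_top inferInstance)
    obtain ⟨hjn, hlt⟩ := withBot_lt_of_add_natCast_le _ n j
      (Module.supportDim_ne_bot_of_nontrivial R (R ⧸ p)) hdim
    have hExt : ∀ i < j, Subsingleton (Ext.{u} (ModuleCat.of R (R ⧸ p)) (ModuleCat.of R K) i) := by
      intro i hi
      have hi01 : i = 0 ∨ i = 1 := by rcases hj with rfl | rfl <;> omega
      rcases hi01 with rfl | rfl
      · have hlt' : Module.supportDim R (R ⧸ p) < (n : WithBot ℕ∞) :=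
          lt_of_lt_of_le hlt (by exact_mod_cast (by omega : n - j + 1 ≤ n))
        have hHom := (hom_subsingleton_iff f hf n hn K eK (R ⧸ p)).2 hlt'
        exact ext_zero_subsingleton_of_forall_hom_eq_zero (fun φ => by
          apply ModuleCat.hom_ext
          exact Subsingleton.elim _ _)
      · have hj2 : j = 2 := by omega
        subst hj2
        exact ext_one_subsingleton f hf n hn K eK (R ⧸ p)
          (Or.inr ⟨n - 2 + 1, by omega,
            HH.subsingleton_of_supportDim_lt_finite (maximalIdeal R) (n - 2 + 1) (R ⧸ p) hlt⟩)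
    have hExtLoc : ∀ i < j, Subsingleton (Ext.{u}
        (ModuleCat.of (Localization.AtPrime p) (LocalizedModule p.primeCompl (R ⧸ p)))
        (ModuleCat.of (Localization.AtPrime p) (LocalizedModule p.primeCompl K)) i) := by
      intro i hi
      haveI := hExt i hi
      exact (subsingleton_ext_localizedModule_iff p.primeCompl (R ⧸ p) K i).2
        (fun e => ⟨1, by rw [Subsingleton.elim e 0, smul_zero]⟩)
    haveI : Module.Finite (Localization.AtPrime p)
        (ModuleCat.of (Localization.AtPrime p) (LocalizedModule p.primeCompl (R ⧸ p))) :=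
      inferInstanceAs (Module.Finite (Localization.AtPrime p)
        (LocalizedModule p.primeCompl (R ⧸ p)))
    haveI : Module.Finite (Localization.AtPrime p)
        (ModuleCat.of (Localization.AtPrime p) (LocalizedModule p.primeCompl K)) :=
      inferInstanceAs (Module.Finite (Localization.AtPrime p) (LocalizedModule p.primeCompl K))
    exact le_idealDepth_of_subsingleton_ext (maximalIdeal (Localization.AtPrime p))
      (ModuleCat.of (Localization.AtPrime p) (LocalizedModule p.primeCompl (R ⧸ p)))
      (support_localizedModule_quotient p)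
      (ModuleCat.of (Localization.AtPrime p) (LocalizedModule p.primeCompl K)) j hExtLoc
  rw [hD]
  have h2 : min ((2 : ℕ) : WithBot ℕ∞) (((D : ℕ∞)) : WithBot ℕ∞) =
      ((min (2 : ℕ∞) (D : ℕ∞) : ℕ∞) : WithBot ℕ∞) := by
    rw [WithBot.coe_min]
    rfl
  rw [h2]
  exact WithBot.coe_le_coe.2 (min_two_le_of_imp _ _
    (by exact_mod_cast key 1 (Or.inl rfl)) (by exact_mod_cast key 2 (Or.inr rfl)))

end main

end Groth.Agent.Lib.Helper4.CanonMod
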