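import Groth.Agent.Lib.Helper4.Depth2

/-!
# Davis' lemma (coset prime avoidance) and "depth = number of generators ⇒ regular sequence"
-/

set_option autoImplicit false

universe u v

open RingTheory.Sequence

namespace Groth.Agent.Lib.Helper4

/-- **Davis' lemma** (prime avoidance for a coset `x + I`): if for every prime `p` of a finite set
`s` we do not have both `x ∈ p` and `I ≤ p`, then some element of `x + I` avoids every `p ∈ s`. -/
theorem exists_add_notMem_of_forall_not_le {R : Type*} [CommRing R] (x : R) (I : Ideal R) :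
    ∀ s : Finset (Ideal R), (∀ p ∈ s, p.IsPrime) → (∀ p ∈ s, x ∈ p → ¬ I ≤ p) →
      ∃ z ∈ I, ∀ p ∈ s, x + z ∉ p := by
  classical
  intro s
  induction s using Finset.strongInduction with
  | H s ih =>
    intro hp h
    rcases s.eq_empty_or_nonempty with rfl | hne
    · exact ⟨0, I.zero_mem, by simp⟩
    obtain ⟨p₀, hp₀s, hmin⟩ := s.exists_minimal hne
    have hp₀ : p₀.IsPrime := hp p₀ hp₀s
    obtain ⟨z, hzI, hz⟩ := ih (s.erase p₀) (Finset.erase_ssubset hp₀s)
      (fun p hps => hp p (Finset.mem_of_mem_erase hps))
      (fun p hps => h p (Finset.mem_of_mem_erase hps))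
    by_cases hxz : x + z ∈ p₀
    · -- need to correct by an element of `I ⊓ ⨅ (s.erase p₀)` outside `p₀`
      have hI : ¬ I ≤ p₀ := by
        intro hle
        have hx : x ∈ p₀ := by
          have := p₀.sub_mem hxz (hle hzI)
          simpa using this
        exact h p₀ hp₀s hx hle
      have hJ : ¬ (I ⊓ (s.erase p₀).inf id) ≤ p₀ := by
        rw [hp₀.inf_le, hp₀.inf_le']
        rintro (hle | ⟨q, hq, hle⟩)
        · exact hI hle
        · have hqs : q ∈ s := Finset.mem_of_mem_erase hq
          have : p₀ ≤ q := hmin hqs hle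
          exact (Finset.ne_of_mem_erase hq) (le_antisymm hle this)
      obtain ⟨w, hwJ, hw⟩ := SetLike.not_le_iff_exists.mp hJ
      have hwI : w ∈ I := hwJ.1
      have hwq : ∀ q ∈ s.erase p₀, w ∈ q := fun q hq =>
        (Finset.inf_le hq : (s.erase p₀).inf id ≤ id q) hwJ.2
      refine ⟨z + w, I.add_mem hzI hwI, fun p hps hmem => ?_⟩
      by_cases hpp : p = p₀
      · subst hpp
        apply hw
        have := p.sub_mem hmem hxz
        have e : x + (z + w) - (x + z) = w := by ring
        rwa [e] at this
      · have hpe : p ∈ s.erase p₀ := Finset.mem_erase.mpr ⟨hpp, hps⟩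
        apply hz p hpe
        have := p.sub_mem hmem (hwq p hpe)
        have e : x + (z + w) - w = x + z := by ring
        rwa [e] at this
    · refine ⟨z, hzI, fun p hps => ?_⟩
      by_cases hpp : p = p₀
      · subst hpp; exact hxz
      · exact hz p (Finset.mem_erase.mpr ⟨hpp, hps⟩)

section regular_of_depth

variable {R : Type u} [CommRing R] [Small.{v} R] [IsNoetherianRing R] [IsLocalRing R]

omit [Small.{v} R] [IsNoetherianRing R] [IsLocalRing R] in
/-- Elements of `Ideal.ofList rs` kill `M ⧸ Ideal.ofList rs • ⊤`. -/
lemma smul_quot_ofList_eq_zero {M : Type v} [AddCommGroup M] [Module R M] {rs : List R} {z : R}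
    (hz : z ∈ Ideal.ofList rs) (m : M ⧸ (Ideal.ofList rs • ⊤ : Submodule R M)) : z • m = 0 := by
  obtain ⟨m0, rfl⟩ := Submodule.Quotient.mk_surjective _ m
  rw [← Submodule.Quotient.mk_smul, Submodule.Quotient.mk_eq_zero]
  exact Submodule.smul_mem_smul hz Submodule.mem_top

/-- Generalised form (for the induction): over a Noetherian local ring, if
`(xs) ≤ a ≤ (xs) + Ann M` and `depth_a M = |xs|`, then `xs` is `M`-regular. -/
theorem isWeaklyRegular_of_idealDepth_eq_length_aux :
    ∀ (xs : List R) (M : Type v) [AddCommGroup M] [Module R M] [Module.Finite R M] [Nontrivial M]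
      (a : Ideal R), (∀ x ∈ xs, x ∈ IsLocalRing.maximalIdeal R) → Ideal.ofList xs ≤ a →
      a ≤ Ideal.ofList xs ⊔ Module.annihilator R M →
      LocCoh.idealDepth a M = xs.length → IsWeaklyRegular M xs := by
  intro xs
  induction xs with
  | nil => intro M _ _ _ _ a _ _ _ _; exact IsWeaklyRegular.nil R M
  | cons x xs ih =>
    intro M _ _ _ _ a hmem hle hle' hdepth
    classical
    have hxm : x ∈ IsLocalRing.maximalIdeal R := hmem x List.mem_cons_self
    have hmem' : ∀ y ∈ xs, y ∈ IsLocalRing.maximalIdeal R :=
      fun y hy => hmem y (List.mem_cons_of_mem _ hy)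
    have hxs_le : Ideal.ofList xs ≤ Ideal.ofList (x :: xs) := by
      rw [Ideal.ofList_cons]; exact le_sup_right
    have hx_mem : x ∈ Ideal.ofList (x :: xs) := Ideal.subset_span List.mem_cons_self
    have haM : a • (⊤ : Submodule R M) ≠ ⊤ := by
      intro h
      rw [idealDepth_of_smul_top_eq a h] at hdepth
      exact ENat.top_ne_natCast _ hdepth
    have hne0 : LocCoh.idealDepth a M ≠ 0 := by
      rw [hdepth]; simp
    rw [Ne, idealDepth_eq_zero_iff_exists_le_associatedPrime a haM] at hne0
    -- Davis' lemma
    obtain ⟨z, hz, hy⟩ := exists_add_notMem_of_forall_not_le x (Ideal.ofList xs)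
      (associatedPrimes.finite R M).toFinset
      (fun p hp => ((associatedPrimes.finite R M).mem_toFinset.mp hp).isPrime)
      (fun p hp hxp hle_p => hne0 ⟨p, (associatedPrimes.finite R M).mem_toFinset.mp hp, by
        have hp' := (associatedPrimes.finite R M).mem_toFinset.mp hp
        refine hle'.trans (sup_le ?_ ?_)
        · rw [Ideal.ofList_cons]
          exact sup_le ((Ideal.span_singleton_le_iff_mem p).mpr hxp) hle_p
        · rw [← Submodule.annihilator_top]
          exact IsAssociatedPrime.annihilator_le hp'⟩)
    set y := x + z with hydef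
    have hyreg : IsSMulRegular M y := by
      have : y ∉ ⋃ p ∈ associatedPrimes R M, (p : Set R) := by
        simp only [Set.mem_iUnion, not_exists]
        intro p hp hyp
        exact hy p ((associatedPrimes.finite R M).mem_toFinset.mpr hp) hyp
      rw [biUnion_associatedPrimes_eq_compl_regular] at this
      simpa using this
    have hya : y ∈ a := a.add_mem (hle hx_mem) (hle (hxs_le hz))
    have hym : y ∈ IsLocalRing.maximalIdeal R :=
      (IsLocalRing.maximalIdeal R).add_mem hxm
        ((Ideal.span_le.mpr fun r hr => hmem' r hr : Ideal.ofList xs ≤ _) hz)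
    have hNt : Nontrivial (QuotSMulTop y M) := nontrivial_quotSMulTop_of_mem_maximalIdeal M hym
    have hdepth' : LocCoh.idealDepth a (QuotSMulTop y M) = xs.length := by
      have h1 := idealDepth_quotSMulTop_add_one a y hya hyreg
      rw [hdepth, List.length_cons] at h1
      push_cast at h1
      exact WithTop.add_right_cancel ENat.one_ne_top h1
    have hyann : y ∈ Module.annihilator R (QuotSMulTop y M) := by
      rw [Module.mem_annihilator]
      intro m
      obtain ⟨m0, rfl⟩ := Submodule.Quotient.mk_surjective _ m
      rw [← Submodule.Quotient.mk_smul, Submodule.Quotient.mk_eq_zero]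
      exact Submodule.smul_mem_pointwise_smul m0 y ⊤ Submodule.mem_top
    have hann : Module.annihilator R M ≤ Module.annihilator R (QuotSMulTop y M) :=
      LinearMap.annihilator_le_of_surjective (Submodule.mkQ _) (Submodule.mkQ_surjective _)
    have hreg' : IsWeaklyRegular (QuotSMulTop y M) xs := by
      refine ih (QuotSMulTop y M) a hmem' (hxs_le.trans hle) (hle'.trans (sup_le ?_ ?_)) hdepth'
      · rw [Ideal.ofList_cons]
        refine sup_le ?_ le_sup_left
        rw [Ideal.span_singleton_le_iff_mem]
        have hx : x = y - z := by rw [hydef]; ring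
        rw [hx]
        exact Ideal.sub_mem _ (Ideal.mem_sup_right hyann) (Ideal.mem_sup_left hz)
      · exact hann.trans le_sup_right
    have h1 : IsWeaklyRegular M (y :: xs) := (isWeaklyRegular_cons_iff M y xs).mpr ⟨hyreg, hreg'⟩
    have h2 : IsWeaklyRegular M (xs ++ [y]) :=
      IsLocalRing.isWeaklyRegular_of_perm_of_subset_maximalIdeal h1
        (List.perm_append_singleton y xs).symm (by
          intro r hr
          rcases List.mem_cons.mp hr with rfl | hr
          · exact hym
          · exact hmem' r hr)
    rw [isWeaklyRegular_append_iff] at h2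
    have hyreg2 : IsSMulRegular (M ⧸ (Ideal.ofList xs • ⊤ : Submodule R M)) y :=
      (isWeaklyRegular_singleton_iff _ y).mp h2.2
    have hxreg2 : IsSMulRegular (M ⧸ (Ideal.ofList xs • ⊤ : Submodule R M)) x := by
      intro m1 m2 h
      apply hyreg2
      change y • m1 = y • m2
      change x • m1 = x • m2 at h
      rw [hydef, add_smul, add_smul, h, smul_quot_ofList_eq_zero hz, smul_quot_ofList_eq_zero hz]
    have h3 : IsWeaklyRegular M (xs ++ [x]) := by
      rw [isWeaklyRegular_append_iff]
      exact ⟨h2.1, (isWeaklyRegular_singleton_iff _ x).mpr hxreg2⟩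
    exact IsLocalRing.isWeaklyRegular_of_perm_of_subset_maximalIdeal h3
      (List.perm_append_singleton x xs) (by
        intro r hr
        rcases List.mem_append.mp hr with hr | hr
        · exact hmem' r hr
        · rw [List.mem_singleton] at hr; rw [hr]; exact hxm)

/-- Over a Noetherian local ring, for `xs ⊆ 𝔪`: `depth_{(xs)} M = |xs|` iff `xs` is `M`-regular. -/
theorem idealDepth_ofList_eq_length_iff {M : Type v} [AddCommGroup M] [Module R M]
    [Module.Finite R M] [Nontrivial M] (xs : List R)
    (hxs : ∀ x ∈ xs, x ∈ IsLocalRing.maximalIdeal R) :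
    LocCoh.idealDepth (Ideal.ofList xs) M = xs.length ↔ IsWeaklyRegular M xs := by
  constructor
  · intro h
    exact isWeaklyRegular_of_idealDepth_eq_length_aux xs M (Ideal.ofList xs) hxs le_rfl
      le_sup_left h
  · intro hreg
    have hle : Ideal.ofList xs ≤ IsLocalRing.maximalIdeal R := Ideal.span_le.mpr fun r hr => hxs r hr
    have haM : Ideal.ofList xs • (⊤ : Submodule R M) ≠ ⊤ := fun h =>
      maximalIdeal_smul_top_ne_top (M := M)
        (eq_top_iff.mpr (h.ge.trans (Submodule.smul_mono_left hle)))
    have key := idealDepth_quot_ofList_add_length (Ideal.ofList xs) hreg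
      (fun r hr => Ideal.subset_span hr)
    have hNt : Nontrivial (M ⧸ (Ideal.ofList xs • ⊤ : Submodule R M)) :=
      Submodule.Quotient.nontrivial_iff.mpr haM
    have h0 : LocCoh.idealDepth (Ideal.ofList xs) (M ⧸ (Ideal.ofList xs • ⊤ : Submodule R M)) = 0 := by
      rw [idealDepth_eq_zero_iff]
      · intro z hz hzreg
        obtain ⟨m, hm⟩ := exists_ne (0 : M ⧸ (Ideal.ofList xs • ⊤ : Submodule R M))
        apply hm
        apply hzreg
        change z • m = z • 0
        rw [smul_quot_ofList_eq_zero hz, smul_zero]
      · intro h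
        have : (⊤ : Submodule R (M ⧸ (Ideal.ofList xs • ⊤ : Submodule R M))) = ⊥ := by
          rw [← h, eq_bot_iff]
          refine Submodule.smul_le.mpr fun r hr n _ => ?_
          rw [smul_quot_ofList_eq_zero hr]; exact Submodule.zero_mem _
        exact top_ne_bot this
    rw [← key, h0, zero_add]

end regular_of_depth

end Groth.Agent.Lib.Helper4
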