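import Mathlib
import Groth.Agent.Lib.Helper4.Depth2
import Groth.Agent.Lib.Helper4.Davis
import Groth.Agent.Lib.Helper4.CM2
import Groth.Agent.Lib.Helper4.CMChain
import Groth.Agent.Lib.Helper4.FaltLocal

/-!
# Generators with a regular prefix (helper4)

* `exists_regular_prefix`: in a Noetherian local ring, a generating list `gs` of a proper ideal `J`
  can be modified (each `gs[i]`, `i < k`, by an element of `𝔞 * (gs[i+1], …)`) so that the first
  `k ≤ grade J` members form a regular sequence.
* `exists_generators_regular_prefix`: minimal generating list with a regular prefix of length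
  `grade J`.
* CM facts: `idealDepth_prime_eq_height`, `height_le_length_of_mem_associatedPrimes`.
* `mul_mem_of_sq_mul_mem`: the key colon identity `(J : x²) = (J : x)` for an almost complete
  intersection prime which is generically a complete intersection.
-/

set_option autoImplicit false
set_option linter.style.haveILetI false
set_option linter.unusedSectionVars false
set_option linter.unusedVariables false
set_option maxHeartbeats 800000

universe u

open RingTheory.Sequence

namespace Groth.Agent.Lib.Helper4.RegPrefix

open Groth.Agent.Lib.Helper4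

/-- the quotient module `T/(l)` -/
abbrev QL (T : Type u) [CommRing T] (l : List T) : Type u :=
  T ⧸ (Ideal.ofList l • ⊤ : Submodule T T)

section pre

variable {T : Type u} [CommRing T] [IsNoetherianRing T] [IsLocalRing T]

lemma smul_top_self (J : Ideal T) : (J • ⊤ : Submodule T T) = J := by
  rw [smul_eq_mul, Ideal.mul_top]

theorem exists_regular_prefix (𝔞 : Ideal T) (gs : List T) (hJ : Ideal.ofList gs ≠ ⊤)
    (h𝔞 : Ideal.ofList gs ≤ 𝔞) (k : ℕ)
    (hk : (k : ℕ∞) ≤ LocCoh.idealDepth (Ideal.ofList gs) T) :
    ∃ as : List T, as.length = k ∧ k ≤ gs.length ∧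
      Ideal.ofList (as ++ gs.drop k) = Ideal.ofList gs ∧
      (∀ (i : ℕ) (h1 : i < as.length) (h2 : i < gs.length),
        as[i] - gs[i] ∈ 𝔞 * Ideal.ofList gs) ∧
      IsWeaklyRegular T as := by
  induction k with
  | zero =>
    exact ⟨[], rfl, Nat.zero_le _, by simp, fun i h1 _ => absurd h1 (by simp),
      IsWeaklyRegular.nil T T⟩
  | succ k ih =>
    have hk' : (k : ℕ∞) ≤ LocCoh.idealDepth (Ideal.ofList gs) T :=
      le_trans (by exact_mod_cast Nat.le_succ k) hk
    obtain ⟨as, hlen, hkn, hof, hcong, hreg⟩ := ih hk'
    have hasJ : ∀ a ∈ as, a ∈ Ideal.ofList gs := by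
      intro a ha
      rw [← hof]
      exact Ideal.subset_span (List.mem_append_left _ ha)
    have hJm : Ideal.ofList gs ≤ IsLocalRing.maximalIdeal T := IsLocalRing.le_maximalIdeal hJ
    have hNnt : Nontrivial (QL T as) := by
      apply Submodule.Quotient.nontrivial_iff.mpr
      intro h
      apply maximalIdeal_smul_top_ne_top (R := T) (M := T)
      refine eq_top_iff.mpr (h.ge.trans (Submodule.smul_mono_left ?_))
      exact (Ideal.span_le.mpr fun a ha => hasJ a ha).trans hJm
    have hJN : Ideal.ofList gs • (⊤ : Submodule T (QL T as)) ≠ ⊤ :=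
      smul_top_ne_top_of_ne_top (Ideal.ofList gs) hJ
    have hadd := idealDepth_quot_ofList_add_length (Ideal.ofList gs) hreg hasJ
    have hone : 1 ≤ LocCoh.idealDepth (Ideal.ofList gs) (QL T as) := by
      have hk2 : (1 : ℕ∞) + (k : ℕ∞) ≤ LocCoh.idealDepth (Ideal.ofList gs) (QL T as) + (k : ℕ∞) := by
        calc (1 : ℕ∞) + (k : ℕ∞) = ((k + 1 : ℕ) : ℕ∞) := by push_cast; ring
          _ ≤ LocCoh.idealDepth (Ideal.ofList gs) T := hk
          _ = _ := by rw [← hadd, hlen]
      exact (ENat.add_le_add_iff_right (ENat.coe_ne_top k)).mp hk2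
    have hklt : k < gs.length := by
      by_contra hge
      push Not at hge
      have hdrop : gs.drop k = [] := List.drop_eq_nil_of_le hge
      rw [hdrop, List.append_nil] at hof
      have h0 : LocCoh.idealDepth (Ideal.ofList gs) (QL T as) = 0 := by
        rw [idealDepth_eq_zero_iff (Ideal.ofList gs) hJN]
        intro x hx hxreg
        obtain ⟨m, hm⟩ := exists_ne (0 : QL T as)
        apply hm
        apply hxreg
        show x • m = x • 0
        rw [smul_zero]
        exact smul_quot_ofList_eq_zero (by rw [hof]; exact hx) m
      rw [h0] at hone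
      exact absurd hone (by simp)
    have hdrop : gs.drop k = gs[k] :: gs.drop (k + 1) := List.drop_eq_getElem_cons hklt
    have hfin : (associatedPrimes T (QL T as)).Finite := associatedPrimes.finite T _
    have hrestJ : Ideal.ofList (gs.drop (k + 1)) ≤ Ideal.ofList gs :=
      Ideal.span_mono (fun t ht => List.mem_of_mem_drop ht)
    have hJeq : Ideal.ofList gs =
        Ideal.ofList as ⊔ Ideal.span {gs[k]} ⊔ Ideal.ofList (gs.drop (k + 1)) := by
      conv_lhs => rw [← hof, hdrop, Ideal.ofList_append, Ideal.ofList_cons, ← sup_assoc]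
    obtain ⟨z, hzI, hz⟩ := exists_add_notMem_of_forall_not_le gs[k]
      (𝔞 * Ideal.ofList (gs.drop (k + 1))) hfin.toFinset
      (fun P hP => ((Set.Finite.mem_toFinset hfin).mp hP).isPrime)
      (by
        intro P hP hxP hIP
        have hPass := (Set.Finite.mem_toFinset hfin).mp hP
        have hPprime : P.IsPrime := hPass.isPrime
        have hasP : Ideal.ofList as ≤ P := by
          obtain ⟨_, n, hn⟩ := (isAssociatedPrime_iff).mp hPass
          intro a ha
          rw [hn, Submodule.mem_colon_singleton, Submodule.mem_bot]
          exact smul_quot_ofList_eq_zero ha n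
        have hJP : Ideal.ofList gs ≤ P := by
          rcases (Ideal.IsPrime.mul_le hPprime).mp hIP with h1 | h1
          · exact h𝔞.trans h1
          · rw [hJeq]
            exact sup_le (sup_le hasP ((Ideal.span_singleton_le_iff_mem _).mpr hxP)) h1
        have h0 : LocCoh.idealDepth (Ideal.ofList gs) (QL T as) = 0 :=
          (idealDepth_eq_zero_iff_exists_le_associatedPrime (Ideal.ofList gs) hJN).mpr
            ⟨P, hPass, hJP⟩
        rw [h0] at hone
        exact absurd hone (by simp))
    have hxz : IsSMulRegular (QL T as) (gs[k] + z) := by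
      by_contra hnot
      have hmem : (gs[k] + z) ∈ ⋃ P ∈ associatedPrimes T (QL T as), (P : Set T) := by
        rw [biUnion_associatedPrimes_eq_compl_regular]; exact hnot
      obtain ⟨P, hP, hxzP⟩ := Set.mem_iUnion₂.mp hmem
      exact hz P ((Set.Finite.mem_toFinset hfin).mpr hP) hxzP
    have hzrest : z ∈ Ideal.ofList (gs.drop (k + 1)) :=
      (Ideal.mul_le_right (I := 𝔞) (J := Ideal.ofList (gs.drop (k + 1)))) hzI
    refine ⟨as ++ [gs[k] + z], by simp [hlen], hklt, ?_, ?_, ?_⟩
    · rw [List.append_assoc, List.singleton_append, hJeq, Ideal.ofList_append, Ideal.ofList_cons,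
        ← sup_assoc]
      apply le_antisymm
      · refine sup_le (sup_le (le_sup_left.trans le_sup_left) ?_) le_sup_right
        rw [Ideal.span_singleton_le_iff_mem]
        exact Ideal.add_mem _
          (Ideal.mem_sup_left (Ideal.mem_sup_right (Ideal.mem_span_singleton_self _)))
          (Ideal.mem_sup_right hzrest)
      · refine sup_le (sup_le (le_sup_left.trans le_sup_left) ?_) le_sup_right
        rw [Ideal.span_singleton_le_iff_mem]
        have h3 := Ideal.sub_mem _
          (Ideal.mem_sup_left (Ideal.mem_sup_right (Ideal.mem_span_singleton_self (gs[k] + z))) :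
            gs[k] + z ∈ Ideal.ofList as ⊔ Ideal.span {gs[k] + z} ⊔ Ideal.ofList (gs.drop (k + 1)))
          (Ideal.mem_sup_right hzrest)
        rwa [add_sub_cancel_right] at h3
    · intro i h1 h2
      have h1' : i < k + 1 := by simpa [hlen] using h1
      rcases Nat.lt_succ_iff_lt_or_eq.mp h1' with hi | hi
      · rw [List.getElem_append_left (by rw [hlen]; exact hi)]
        exact hcong i (by rw [hlen]; exact hi) h2
      · obtain rfl : k = i := hi.symm
        rw [List.getElem_append_right (by rw [hlen])]
        simp only [hlen, Nat.sub_self, List.getElem_cons_zero]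
        rw [add_sub_cancel_left]
        exact Ideal.mul_mono_right hrestJ hzI
    · exact (isWeaklyRegular_append_iff T as [gs[k] + z]).mpr
        ⟨hreg, (isWeaklyRegular_singleton_iff _ _).mpr hxz⟩

/-- generators of a proper ideal with a regular prefix of length the grade. -/
theorem exists_generators_regular_prefix (J : Ideal T) (hJ : J ≠ ⊤) (j : ℕ)
    (hj : LocCoh.idealDepth J T = j) :
    j ≤ Submodule.spanFinrank J ∧
      ∃ ts : List T, ts.length = Submodule.spanFinrank J ∧ Ideal.ofList ts = J ∧
        RingTheory.Sequence.IsRegular T (ts.take j) := by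
  classical
  obtain ⟨s, hcard, hspan⟩ :=
    Submodule.FG.exists_span_finset_card_eq_spanFinrank (IsNoetherian.noetherian J)
  have hof : Ideal.ofList s.toList = J := by
    rw [← hspan]
    show Ideal.span {r | r ∈ s.toList} = Ideal.span (s : Set T)
    congr 1
    ext r
    simp
  have hlen : s.toList.length = Submodule.spanFinrank J := by rw [Finset.length_toList, hcard]
  obtain ⟨as, hlas, hjn, hofas, -, hreg⟩ := exists_regular_prefix (⊤ : Ideal T) s.toList
    (by rw [hof]; exact hJ) le_top j (by rw [hof, hj])
  refine ⟨by rw [← hlen]; exact hjn, as ++ s.toList.drop j, ?_, by rw [hofas, hof], ?_⟩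
  · rw [List.length_append, List.length_drop, hlas, hlen]
    rw [hlen] at hjn
    omega
  · rw [List.take_left' hlas]
    refine isRegular_of_isWeaklyRegular_of_mem J (by rw [smul_top_self]; exact hJ) hreg ?_
    intro a ha
    rw [← hof, ← hofas]
    exact Ideal.subset_span (List.mem_append_left _ ha)

end pre

end Groth.Agent.Lib.Helper4.RegPrefix
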