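import Mathlib
import Groth.Prelude.Def_W4c5grrsingularflatDSeq
import Groth.Agent.Lib.Helper4.RegPrefix

/-!
# Almost complete intersection primes are generated by d-sequences (helper4)

`exists_isDSeq`: in a Cohen–Macaulay local ring `T`, a prime `p` with `μ(p) ≤ ht p + 1` and `T_p`
regular is generated by a d-sequence (Huneke).
-/

set_option autoImplicit false
set_option linter.style.haveILetI false
set_option linter.unusedSectionVars false
set_option linter.unusedVariables false
set_option maxHeartbeats 800000

universe u

open RingTheory.Sequence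

namespace Groth.Agent.Lib.Helper4.DSeq

open Groth.Agent.Lib.Helper4 Groth.Agent.Lib.Helper4.RegPrefix

lemma smul_top_self' {T : Type u} [CommRing T] (J : Ideal T) : (J • ⊤ : Submodule T T) = J := by
  rw [smul_eq_mul, Ideal.mul_top]

lemma support_self_eq_univ (A : Type u) [CommRing A] : Module.support A A = Set.univ := by
  rw [Module.support_of_algebra]
  have hk : RingHom.ker (algebraMap A A) = ⊥ :=
    (RingHom.injective_iff_ker_eq_bot _).mp (fun a b h => h)
  rw [hk]
  simp

section general

variable {T : Type u} [CommRing T]

lemma isSMulRegular_getElem_append (as bs : List T)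
    (hreg : IsWeaklyRegular T as) (i : ℕ) (hi : i < as.length) :
    IsSMulRegular (T ⧸ (Ideal.ofList ((as ++ bs).take i) • ⊤ : Submodule T T))
      ((as ++ bs)[i]'(by rw [List.length_append]; omega)) := by
  have h := hreg.regular_mod_prev i hi
  have e1 : (as ++ bs).take i = as.take i := List.take_append_of_le_length hi.le
  have e2 : (as ++ bs)[i]'(by rw [List.length_append]; omega) = as[i] :=
    List.getElem_append_left hi
  rw [e1, e2]
  exact h

lemma colon_mul_eq_of_regular (J : Ideal T) (a b : T)
    (hreg : IsSMulRegular (T ⧸ (J • ⊤ : Submodule T T)) a) :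
    J.colon {b * a} = J.colon {b} := by
  ext y
  rw [Submodule.mem_colon_singleton, Submodule.mem_colon_singleton, smul_eq_mul, smul_eq_mul]
  constructor
  · intro h
    have h0 : a • (Submodule.Quotient.mk (y * b) : T ⧸ (J • ⊤ : Submodule T T)) = a • 0 := by
      rw [smul_zero, ← Submodule.Quotient.mk_smul, Submodule.Quotient.mk_eq_zero, smul_top_self',
        smul_eq_mul]
      have : a * (y * b) = y * (b * a) := by ring
      rw [this]; exact h
    have h1 := hreg h0
    rwa [Submodule.Quotient.mk_eq_zero, smul_top_self'] at h1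
  · intro h
    have : y * (b * a) = (y * b) * a := by ring
    rw [this]
    exact Ideal.mul_mem_right _ _ h

lemma span_subtype_eq_top_iff {L : Type u} [CommRing L] (𝔫 : Ideal L) (s : Set 𝔫) :
    Submodule.span L s = ⊤ ↔ Ideal.span (Subtype.val '' s) = 𝔫 := by
  rw [← (Submodule.map_injective_of_injective (f := 𝔫.subtype) 𝔫.injective_subtype).eq_iff,
    Submodule.map_span, Submodule.map_top, Submodule.range_subtype]
  rfl

end general

section selection

variable {T : Type u} [CommRing T] [IsNoetherianRing T]

theorem exists_eraseIdx_map_eq (p : Ideal T) [p.IsPrime]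
    [IsRegularLocalRing (Localization.AtPrime p)] (h : ℕ) (hh : p.height = h)
    (gs : List T) (hlen : gs.length = h + 1) (hof : Ideal.ofList gs = p) :
    ∃ i₀ : ℕ, i₀ < gs.length ∧
      (Ideal.ofList (gs.eraseIdx i₀)).map (algebraMap T (Localization.AtPrime p)) =
        p.map (algebraMap T (Localization.AtPrime p)) := by
  classical
  have h𝔫 : p.map (algebraMap T (Localization.AtPrime p)) =
      IsLocalRing.maximalIdeal (Localization.AtPrime p) :=
    Localization.AtPrime.map_eq_maximalIdeal
  have hgp : ∀ i : Fin gs.length, gs.get i ∈ p := fun i => by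
    rw [← hof]; exact Ideal.subset_span (List.get_mem gs i)
  let e : Fin gs.length → IsLocalRing.maximalIdeal (Localization.AtPrime p) := fun i =>
    ⟨algebraMap T (Localization.AtPrime p) (gs.get i), by
      rw [← h𝔫]; exact Ideal.mem_map_of_mem _ (hgp i)⟩
  let v : Fin gs.length → IsLocalRing.CotangentSpace (Localization.AtPrime p) := fun i =>
    (IsLocalRing.maximalIdeal (Localization.AtPrime p)).toCotangent (e i)
  -- (A) the family spans
  have hA : Submodule.span (Localization.AtPrime p) (Set.range e) = ⊤ := by
    rw [span_subtype_eq_top_iff]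
    refine Eq.trans ?_ h𝔫
    have hmap : Ideal.map (algebraMap T (Localization.AtPrime p)) p =
        Ideal.map (algebraMap T (Localization.AtPrime p)) (Ideal.ofList gs) :=
      congrArg (Ideal.map (algebraMap T (Localization.AtPrime p))) hof.symm
    rw [hmap, Ideal.map_span]
    congr 1
    ext y
    constructor
    · rintro ⟨_, ⟨i, rfl⟩, rfl⟩
      exact ⟨gs.get i, List.get_mem gs i, rfl⟩
    · rintro ⟨g, hg, rfl⟩
      obtain ⟨i, rfl⟩ := List.mem_iff_get.mp hg
      exact ⟨e i, ⟨i, rfl⟩, rfl⟩
  have hvspan : Submodule.span (IsLocalRing.ResidueField (Localization.AtPrime p)) (Set.range v) =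
      ⊤ := by
    have := (IsLocalRing.CotangentSpace.span_image_eq_top_iff (s := Set.range e)).mpr hA
    rwa [← Set.range_comp] at this
  -- dimension count
  have hfr : Module.finrank (IsLocalRing.ResidueField (Localization.AtPrime p))
      (IsLocalRing.CotangentSpace (Localization.AtPrime p)) = h := by
    have h1 := (IsRegularLocalRing.iff_finrank_cotangentSpace (Localization.AtPrime p)).mp
      inferInstance
    rw [IsLocalization.AtPrime.ringKrullDim_eq_height p (Localization.AtPrime p), hh] at h1
    exact_mod_cast h1
  have hnotLI : ¬ LinearIndependent (IsLocalRing.ResidueField (Localization.AtPrime p)) v := by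
    intro hLI
    have := hLI.fintype_card_le_finrank
    rw [hfr, Fintype.card_fin, hlen] at this
    omega
  rw [linearIndependent_iff_notMem_span] at hnotLI
  push Not at hnotLI
  obtain ⟨i₀, hi₀⟩ := hnotLI
  have hspan' : Submodule.span (IsLocalRing.ResidueField (Localization.AtPrime p))
      (v '' (Set.univ \ {i₀})) = ⊤ := by
    rw [eq_top_iff, ← hvspan]
    apply Submodule.span_le.mpr
    rintro _ ⟨i, rfl⟩
    by_cases hi : i = i₀
    · rw [hi]; exact hi₀
    · exact Submodule.subset_span ⟨i, ⟨Set.mem_univ _, hi⟩, rfl⟩
  have hB : Submodule.span (Localization.AtPrime p) (e '' (Set.univ \ {i₀})) = ⊤ := by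
    apply (IsLocalRing.CotangentSpace.span_image_eq_top_iff (s := e '' (Set.univ \ {i₀}))).mp
    rw [Set.image_image]
    exact hspan'
  rw [span_subtype_eq_top_iff] at hB
  refine ⟨i₀, i₀.2, le_antisymm ?_ ?_⟩
  · apply Ideal.map_mono
    rw [← hof]
    exact Ideal.span_mono (fun t ht => List.mem_of_mem_eraseIdx ht)
  · rw [h𝔫, ← hB, Ideal.map_span]
    apply Ideal.span_mono
    rintro _ ⟨_, ⟨i, ⟨-, hi⟩, rfl⟩, rfl⟩
    refine ⟨gs.get i, ?_, rfl⟩
    show gs.get i ∈ gs.eraseIdx i₀
    rw [List.mem_eraseIdx_iff_getElem]
    refine ⟨i, i.2, ?_, rfl⟩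
    intro hii
    exact hi (Fin.ext hii)

theorem map_ofList_eq_of_congr (p : Ideal T) [p.IsPrime]
    (as gs : List T) (hlen : as.length = gs.length)
    (hcong : ∀ (i : ℕ) (h1 : i < as.length) (h2 : i < gs.length), as[i] - gs[i] ∈ p * p)
    (has : Ideal.ofList as ≤ p)
    (hgs : (Ideal.ofList gs).map (algebraMap T (Localization.AtPrime p)) =
      p.map (algebraMap T (Localization.AtPrime p))) :
    (Ideal.ofList as).map (algebraMap T (Localization.AtPrime p)) =
      p.map (algebraMap T (Localization.AtPrime p)) := by
  haveI : IsNoetherianRing (Localization.AtPrime p) :=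
    IsLocalization.isNoetherianRing p.primeCompl _ inferInstance
  have h𝔫 : p.map (algebraMap T (Localization.AtPrime p)) =
      IsLocalRing.maximalIdeal (Localization.AtPrime p) :=
    Localization.AtPrime.map_eq_maximalIdeal
  apply le_antisymm (Ideal.map_mono has)
  have hle : Ideal.ofList gs ≤ Ideal.ofList as ⊔ p * p := by
    apply Ideal.span_le.mpr
    intro g hg
    obtain ⟨i, hi, rfl⟩ := List.mem_iff_getElem.mp hg
    have h1 : i < as.length := hlen ▸ hi
    have h2 := hcong i h1 hi
    have h3 := Ideal.sub_mem _
      (Ideal.mem_sup_left (Ideal.subset_span (List.getElem_mem h1)) :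
        as[i] ∈ Ideal.ofList as ⊔ p * p) (Ideal.mem_sup_right h2)
    rwa [sub_sub_cancel] at h3
  have hN : p.map (algebraMap T (Localization.AtPrime p)) ≤
      (Ideal.ofList as).map (algebraMap T (Localization.AtPrime p)) ⊔
        p.map (algebraMap T (Localization.AtPrime p)) •
          p.map (algebraMap T (Localization.AtPrime p)) := by
    calc p.map (algebraMap T (Localization.AtPrime p))
        = (Ideal.ofList gs).map (algebraMap T (Localization.AtPrime p)) := hgs.symm
      _ ≤ (Ideal.ofList as ⊔ p * p).map (algebraMap T (Localization.AtPrime p)) :=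
          Ideal.map_mono hle
      _ = _ := by rw [Ideal.map_sup, Ideal.map_mul, smul_eq_mul]
  exact Submodule.le_of_le_smul_of_le_jacobson_bot (IsNoetherian.noetherian _)
    (by rw [h𝔫, IsLocalRing.jacobson_eq_maximalIdeal ⊥ bot_ne_top]) hN

end selection

section CMfacts

variable {T : Type u} [CommRing T] [LocCoh.IsCohenMacaulayLocalRing T]

lemma cm_self : LocCoh.IsCohenMacaulayModule T T :=
  LocCoh.IsCohenMacaulayLocalRing.supportDim_eq_depth (R := T)

theorem idealDepth_prime_eq_height (p : Ideal T) [hp : p.IsPrime] :
    LocCoh.idealDepth p T = p.height := by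
  have hne : p ≠ ⊤ := hp.ne_top
  have hA := cm_supportDim_eq_add_idealDepth p hne (cm_self (T := T))
  have hB : Module.supportDim T (T ⧸ (p • ⊤ : Submodule T T)) = ringKrullDim (T ⧸ p) :=
    supportDim_quot_prime_eq (p := ⟨p, hp⟩) (by rw [support_self_eq_univ]; trivial)
  have hC := cm_height_add_ringKrullDim_quotient (cm_self (T := T)) (support_self_eq_univ T)
    ⟨p, hp⟩
  dsimp only at hC
  obtain ⟨c, hc⟩ := Falt.exists_nat_ringKrullDim_quotient p
  rw [Module.supportDim_self_eq_ringKrullDim, hB, hc] at hA
  rw [hc] at hC
  have h1 : ((p.height : ℕ∞) : WithBot ℕ∞) + (c : WithBot ℕ∞) =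
      ((LocCoh.idealDepth p T : ℕ∞) : WithBot ℕ∞) + (c : WithBot ℕ∞) := by
    rw [hC, hA, add_comm]
  exact (WithBot.coe_inj.mp (ENat.WithBot.add_natCast_cancel.mp h1)).symm

theorem height_le_length_of_mem_associatedPrimes (as : List T)
    (hmem : ∀ a ∈ as, a ∈ IsLocalRing.maximalIdeal T) (hreg : IsWeaklyRegular T as)
    {P : Ideal T} (hP : P ∈ associatedPrimes T (QL T as)) : P.height ≤ as.length := by
  have hPprime : P.IsPrime := hP.isPrime
  have hN := cm_quot_ofList (cm_self (T := T)) as hmem hreg
  have h1 := cm_ringKrullDim_quotient_eq hN hP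
  have h2 := supportDim_le_supportDim_quot_ofList_add_length (M := T) as hmem
  have h3 := cm_height_add_ringKrullDim_quotient (cm_self (T := T)) (support_self_eq_univ T)
    ⟨P, hPprime⟩
  dsimp only at h3
  obtain ⟨c, hc⟩ := Falt.exists_nat_ringKrullDim_quotient P
  rw [Module.supportDim_self_eq_ringKrullDim, ← h1, hc, ← h3, hc] at h2
  rw [add_comm (c : WithBot ℕ∞)] at h2
  have h4 := ENat.WithBot.add_le_add_natCast_right_iff.mp h2
  exact_mod_cast h4

/-- the key colon identity `(J : x²) ⊆ (J : x)`. -/
theorem mul_mem_of_sq_mul_mem (p : Ideal T) [hp : p.IsPrime] (as : List T) (x : T)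
    (hreg : IsWeaklyRegular T as) (hmem : ∀ a ∈ as, a ∈ p)
    (hlen : (as.length : ℕ∞) ≤ p.height)
    (hx : x ∈ p) (hple : p ≤ Ideal.ofList as ⊔ Ideal.span {x})
    (hloc : (Ideal.ofList as).map (algebraMap T (Localization.AtPrime p)) =
      p.map (algebraMap T (Localization.AtPrime p)))
    (y : T) (hy : y * x * x ∈ Ideal.ofList as) : y * x ∈ Ideal.ofList as := by
  by_contra hyx
  have hn : (Submodule.Quotient.mk (y * x) : QL T as) ≠ 0 := by
    intro h0
    apply hyx
    have := (Submodule.Quotient.mk_eq_zero _).mp h0
    rwa [smul_top_self'] at this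
  have hxn : x • (Submodule.Quotient.mk (y * x) : QL T as) = 0 := by
    rw [← Submodule.Quotient.mk_smul, Submodule.Quotient.mk_eq_zero, smul_top_self', smul_eq_mul]
    have : x * (y * x) = y * x * x := by ring
    rw [this]; exact hy
  obtain ⟨P, hPass, hle⟩ := exists_le_isAssociatedPrime_of_isNoetherianRing T
    (⟨Submodule.Quotient.mk (y * x), Submodule.subset_span rfl⟩ :
      Submodule.span T {(Submodule.Quotient.mk (y * x) : QL T as)})
    (fun h => hn (congrArg Subtype.val h))
  obtain ⟨hPprime, z, hz⟩ := isAssociatedPrime_iff.mp hPass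
  obtain ⟨r, hr⟩ := Submodule.mem_span_singleton.mp z.2
  have hcolon : ∀ a : T, a ∈ P ↔ a • (z : QL T as) = 0 := by
    intro a
    rw [hz, Submodule.mem_colon_singleton, Submodule.mem_bot]
    constructor
    · intro h
      rw [← Submodule.coe_smul, h, Submodule.coe_zero]
    · intro h
      apply Subtype.ext
      rw [Submodule.coe_smul, Submodule.coe_zero]
      exact h
  have hPN : P ∈ associatedPrimes T (QL T as) :=
    hPass.map_of_injective (Submodule.span T {(Submodule.Quotient.mk (y * x) : QL T as)}).subtype
      (Submodule.injective_subtype _)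
  have hxP : x ∈ P := by
    rw [hcolon, ← hr, smul_comm, hxn, smul_zero]
  have hJP : Ideal.ofList as ≤ P := by
    intro a ha
    rw [hcolon]
    exact smul_quot_ofList_eq_zero ha _
  have hpP : p ≤ P := hple.trans (sup_le hJP ((Ideal.span_singleton_le_iff_mem _).mpr hxP))
  have hhtP : P.height ≤ as.length :=
    height_le_length_of_mem_associatedPrimes as
      (fun a ha => IsLocalRing.le_maximalIdeal hp.ne_top (hmem a ha)) hreg hPN
  have hPp : P = p := by
    by_contra hne
    have hlt : p < P := lt_of_le_of_ne hpP (Ne.symm hne)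
    have h1 := Ideal.height_strict_mono_of_isPrime hlt
    exact absurd (h1.trans_le (hhtP.trans hlen)) (lt_irrefl _)
  have hw : r * (y * x) ∈ p := Ideal.mul_mem_left _ _ (Ideal.mul_mem_left _ _ hx)
  have hwmap : algebraMap T (Localization.AtPrime p) (r * (y * x)) ∈
      (Ideal.ofList as).map (algebraMap T (Localization.AtPrime p)) := by
    rw [hloc]; exact Ideal.mem_map_of_mem _ hw
  obtain ⟨s, hs, hsJ⟩ :=
    (IsLocalization.algebraMap_mem_map_algebraMap_iff p.primeCompl _ _ _).mp hwmap
  have hsP : s ∈ P := by
    rw [hcolon, ← hr, ← Submodule.Quotient.mk_smul, ← Submodule.Quotient.mk_smul,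
      Submodule.Quotient.mk_eq_zero, smul_top_self']
    simpa [smul_eq_mul] using hsJ
  rw [hPp] at hsP
  exact hs hsP

end CMfacts

section main

variable {T : Type u} [CommRing T] [LocCoh.IsCohenMacaulayLocalRing T]

theorem exists_isDSeq (p : Ideal T) [hp : p.IsPrime]
    (hgen : (Submodule.spanFinrank p : ℕ∞) ≤ p.height + 1)
    [IsRegularLocalRing (Localization.AtPrime p)] :
    ∃ ts : List T, Ideal.ofList ts = p ∧ W4c5grrsingularflat.IsDSeq ts := by
  classical
  have hpne : p ≠ ⊤ := hp.ne_top
  have hfin : p.height ≠ ⊤ := Ideal.height_ne_top hpne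
  obtain ⟨h, hh⟩ := ENat.ne_top_iff_exists.mp hfin
  have hkrull : p.height ≤ (Submodule.spanFinrank p : ℕ∞) := Ideal.height_le_spanFinrank p hpne
  have hc1 : h ≤ Submodule.spanFinrank p := by rw [← hh] at hkrull; exact_mod_cast hkrull
  have hc2 : Submodule.spanFinrank p ≤ h + 1 := by rw [← hh] at hgen; exact_mod_cast hgen
  obtain ⟨s, hcard, hspan⟩ :=
    Submodule.FG.exists_span_finset_card_eq_spanFinrank (IsNoetherian.noetherian p)
  have hof : Ideal.ofList s.toList = p := by
    rw [← hspan]
    show Ideal.span {r | r ∈ s.toList} = Ideal.span (s : Set T)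
    congr 1
    ext r
    simp
  have hlen : s.toList.length = Submodule.spanFinrank p := by rw [Finset.length_toList, hcard]
  have hdepth : ((h : ℕ) : ℕ∞) ≤ LocCoh.idealDepth p T := by
    rw [idealDepth_prime_eq_height, hh]
  -- choose the generating list
  obtain ⟨gs, hgl, hgof, hgloc⟩ : ∃ gs : List T, gs.length = Submodule.spanFinrank p ∧
      Ideal.ofList gs = p ∧ (Submodule.spanFinrank p = h + 1 →
        (Ideal.ofList (gs.take h)).map (algebraMap T (Localization.AtPrime p)) =
          p.map (algebraMap T (Localization.AtPrime p))) := by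
    by_cases hch : Submodule.spanFinrank p = h + 1
    · obtain ⟨i₀, hi₀, hmap⟩ := exists_eraseIdx_map_eq p h hh.symm s.toList
        (by rw [hlen, hch]) hof
      refine ⟨s.toList.eraseIdx i₀ ++ [s.toList[i₀]], ?_, ?_, fun _ => ?_⟩
      · rw [List.length_append, List.length_eraseIdx, if_pos hi₀, List.length_singleton, hlen]
        omega
      · apply le_antisymm
        · apply Ideal.span_le.mpr
          intro t ht
          rw [← hof]
          rcases List.mem_append.mp ht with h1 | h1
          · exact Ideal.subset_span (List.mem_of_mem_eraseIdx h1)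
          · rw [List.mem_singleton] at h1
            rw [h1]
            exact Ideal.subset_span (List.getElem_mem hi₀)
        · have hle : Ideal.ofList s.toList ≤
              Ideal.ofList (s.toList.eraseIdx i₀ ++ [s.toList[i₀]]) := by
            apply Ideal.span_le.mpr
            intro t ht
            obtain ⟨i, hi, rfl⟩ := List.mem_iff_getElem.mp ht
            by_cases hii : i = i₀
            · subst hii
              exact Ideal.subset_span (List.mem_append_right _ (List.mem_singleton_self _))
            · exact Ideal.subset_span (List.mem_append_left _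
                (List.mem_eraseIdx_iff_getElem.mpr ⟨i, hi, hii, rfl⟩))
          rwa [hof] at hle
      · have hte : (s.toList.eraseIdx i₀ ++ [s.toList[i₀]]).take h = s.toList.eraseIdx i₀ := by
          apply List.take_left'
          rw [List.length_eraseIdx, if_pos hi₀, hlen]
          omega
        rw [hte]
        exact hmap
    · exact ⟨s.toList, hlen, hof, fun h' => absurd h' hch⟩
  obtain ⟨as, hlas, hhn, hofas, hcong, hreg⟩ := exists_regular_prefix p gs
    (by rw [hgof]; exact hpne) hgof.le h (by rw [hgof]; exact hdepth)
  rw [hgof] at hofas hcong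
  have hasp : ∀ a ∈ as, a ∈ p := by
    intro a ha
    rw [← hofas]
    exact Ideal.subset_span (List.mem_append_left _ ha)
  have htl : (as ++ gs.drop h).length = Submodule.spanFinrank p := by
    rw [List.length_append, List.length_drop, hlas, hgl]
    omega
  refine ⟨as ++ gs.drop h, hofas, ?_⟩
  unfold W4c5grrsingularflat.IsDSeq
  refine ⟨?_, ?_⟩
  · -- non-redundancy
    intro i hmem
    have hpS : p = Ideal.span (Set.range fun j : {j : Fin (as ++ gs.drop h).length // j ≠ i} =>
        (as ++ gs.drop h)[(j : Fin (as ++ gs.drop h).length)]) := by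
      apply le_antisymm
      · rw [← hofas]
        apply Ideal.span_le.mpr
        intro t ht
        obtain ⟨j, hj, rfl⟩ := List.mem_iff_getElem.mp ht
        by_cases hji : (⟨j, hj⟩ : Fin (as ++ gs.drop h).length) = i
        · subst hji
          exact hmem
        · exact Ideal.subset_span ⟨⟨⟨j, hj⟩, hji⟩, rfl⟩
      · apply Ideal.span_le.mpr
        rintro _ ⟨j, rfl⟩
        rw [← hofas]
        exact Ideal.subset_span (List.getElem_mem _)
    have hSfin : (Set.range fun j : {j : Fin (as ++ gs.drop h).length // j ≠ i} =>
        (as ++ gs.drop h)[(j : Fin (as ++ gs.drop h).length)]).Finite := Set.finite_range _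
    have h1 := Submodule.spanFinrank_span_le_ncard_of_finite (R := T) hSfin
    have h1' : Submodule.spanFinrank p ≤ (Set.range fun j :
        {j : Fin (as ++ gs.drop h).length // j ≠ i} =>
        (as ++ gs.drop h)[(j : Fin (as ++ gs.drop h).length)]).ncard := by
      conv_lhs => rw [hpS]
      exact h1
    have h2 : (Set.range fun j : {j : Fin (as ++ gs.drop h).length // j ≠ i} =>
        (as ++ gs.drop h)[(j : Fin (as ++ gs.drop h).length)]).ncard ≤
        (as ++ gs.drop h).length - 1 := by
      rw [← Set.image_univ]
      refine (Set.ncard_image_le (Set.finite_univ)).trans ?_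
      rw [Set.ncard_univ, Nat.card_eq_fintype_card, Fintype.card_subtype_compl,
        Fintype.card_subtype_eq, Fintype.card_fin]
    have hpos : 0 < (as ++ gs.drop h).length := i.pos
    omega
  · intro i k hk hik
    by_cases hih : i < h
    · have hi' : i < as.length := by rw [hlas]; exact hih
      exact colon_mul_eq_of_regular _ _ _
        (isSMulRegular_getElem_append as (gs.drop h) hreg i hi')
    · push Not at hih
      rw [htl] at hk
      have hch : Submodule.spanFinrank p = h + 1 := by omega
      obtain rfl : h = k := by omega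
      obtain rfl : h = i := by omega
      have hdroplen : (gs.drop h).length = 1 := by
        rw [List.length_drop, hgl, hch]
        omega
      obtain ⟨x, hx⟩ := List.length_eq_one_iff.mp hdroplen
      have hxp : x ∈ p := by
        rw [← hgof]
        apply Ideal.subset_span
        have : x ∈ gs.drop h := by rw [hx]; exact List.mem_singleton_self x
        exact List.mem_of_mem_drop this
      have hple : p ≤ Ideal.ofList as ⊔ Ideal.span {x} := by
        rw [← hofas, hx, Ideal.ofList_append, Ideal.ofList_singleton]
      have hloc : (Ideal.ofList as).map (algebraMap T (Localization.AtPrime p)) =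
          p.map (algebraMap T (Localization.AtPrime p)) := by
        refine map_ofList_eq_of_congr p as (gs.take h) ?_ ?_ ?_ (hgloc hch)
        · rw [List.length_take, hlas, hgl]
          omega
        · intro j h1 h2
          rw [List.getElem_take]
          exact hcong j h1 (by rw [List.length_take] at h2; omega)
        · exact Ideal.span_le.mpr fun a ha => hasp a ha
      have htake : (as ++ gs.drop h).take h = as := List.take_left' hlas
      have hget : (as ++ gs.drop h)[h]'(by rw [htl]; omega) = x := by
        rw [List.getElem_append_right (by rw [hlas])]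
        simp [hlas, hx]
      rw [htake, hget]
      ext y
      rw [Submodule.mem_colon_singleton, Submodule.mem_colon_singleton, smul_eq_mul, smul_eq_mul]
      constructor
      · intro hy
        refine mul_mem_of_sq_mul_mem p as x hreg hasp (by rw [hlas, hh]) hxp hple hloc y ?_
        have : y * x * x = y * (x * x) := by ring
        rw [this]
        exact hy
      · intro hy
        have : y * (x * x) = (y * x) * x := by ring
        rw [this]
        exact Ideal.mul_mem_right _ _ hy

end main

end Groth.Agent.Lib.Helper4.DSeq
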