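import Mathlib
import Groth.Agent.Lib.Helper5.HartogsDepth

/-!
# Connectedness and depth `≥ 2` on locally Noetherian schemes (Hartshorne)
-/

set_option autoImplicit false

universe u

open TopologicalSpace CategoryTheory AlgebraicGeometry Opposite

namespace Groth.Agent.Lib.Helper4.ConnSch

section topology

variable {α : Type*} [TopologicalSpace α]

theorem isOpen_connectedComponent_of_noetherianSpace [NoetherianSpace α] (x : α) :
    IsOpen (connectedComponent x) := by
  classical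
  obtain ⟨S, hS⟩ : ∃ S : Set (Set α),
      S = {Z | Z ∈ irreducibleComponents α ∧ Disjoint Z (connectedComponent x)} := ⟨_, rfl⟩
  have hSfin : S.Finite := by
    refine (NoetherianSpace.finite_irreducibleComponents (α := α)).subset ?_
    intro Z hZ
    rw [hS] at hZ
    exact hZ.1
  have hclosed : IsClosed (⋃₀ S) := by
    rw [Set.sUnion_eq_biUnion]
    refine hSfin.isClosed_biUnion (fun Z hZ => ?_)
    rw [hS] at hZ
    exact isClosed_of_mem_irreducibleComponents Z hZ.1
  have heq : (connectedComponent x)ᶜ = ⋃₀ S := by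
    ext y
    constructor
    · intro hy
      refine ⟨irreducibleComponent y, ?_, mem_irreducibleComponent⟩
      rw [hS]
      refine ⟨irreducibleComponent_mem_irreducibleComponents y, ?_⟩
      rw [Set.disjoint_left]
      intro z hzZ hzC
      apply hy
      have hpre : IsPreconnected (irreducibleComponent y) :=
        isIrreducible_irreducibleComponent.isPreirreducible.isPreconnected
      have hsub := hpre.subset_connectedComponent hzZ
      have heq' : connectedComponent x = connectedComponent z := connectedComponent_eq hzC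
      rw [heq']
      exact hsub mem_irreducibleComponent
    · rintro ⟨Z, hZ, hyZ⟩ hyC
      rw [hS] at hZ
      exact Set.disjoint_left.mp hZ.2 hyZ hyC
  rw [← isClosed_compl_iff, heq]
  exact hclosed

theorem locallyConnectedSpace_of_locally_noetherian
    (h : ∀ x : α, ∃ W : Set α, IsOpen W ∧ x ∈ W ∧ NoetherianSpace W) :
    LocallyConnectedSpace α := by
  rw [locallyConnectedSpace_iff_connectedComponentIn_open]
  intro F hF x hxF
  rw [isOpen_iff_forall_mem_open]
  intro y hy
  have hyF : y ∈ F := connectedComponentIn_subset F x hy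
  obtain ⟨W, hWo, hyW, hWn⟩ := h y
  have hG : IsOpen (F ∩ W) := hF.inter hWo
  have hyG : y ∈ F ∩ W := ⟨hyF, hyW⟩
  have : NoetherianSpace (F ∩ W : Set α) := by
    rw [noetherianSpace_set_iff] at hWn ⊢
    intro t ht
    exact hWn t (ht.trans Set.inter_subset_right)
  refine ⟨connectedComponentIn (F ∩ W) y, ?_, ?_, mem_connectedComponentIn hyG⟩
  · rw [connectedComponentIn_eq hy]
    exact isPreconnected_connectedComponentIn.subset_connectedComponentIn
      (mem_connectedComponentIn hyG)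
      ((connectedComponentIn_subset _ _).trans Set.inter_subset_left)
  · rw [connectedComponentIn_eq_image hyG]
    exact hG.isOpenMap_subtype_val _ (isOpen_connectedComponent_of_noetherianSpace _)

theorem connectedComponentsMap_bijective_of_dense [LocallyConnectedSpace α] (U : Opens α)
    (hd : Dense (U : Set α))
    (hconn : ∀ V : Set α, IsOpen V → IsConnected V → IsPreconnected (V ∩ (U : Set α))) :
    Function.Bijective (Continuous.connectedComponentsMap
      (continuous_subtype_val : Continuous (fun x : U => (x : α)))) := by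
  constructor
  · intro a b hab
    obtain ⟨u, rfl⟩ := ConnectedComponents.surjective_coe a
    obtain ⟨u', rfl⟩ := ConnectedComponents.surjective_coe b
    have h1 : ((u : α) : ConnectedComponents α) = ((u' : α) : ConnectedComponents α) := hab
    rw [ConnectedComponents.coe_eq_coe'] at h1 ⊢
    have hV := hconn (connectedComponent (u' : α)) isOpen_connectedComponent
      isConnected_connectedComponent
    have himg : (fun x : U => (x : α)) '' ((fun x : U => (x : α)) ⁻¹'
        (connectedComponent (u' : α) ∩ (U : Set α))) =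
        connectedComponent (u' : α) ∩ (U : Set α) := by
      ext z
      constructor
      · rintro ⟨w, hw, rfl⟩; exact hw
      · intro hz; exact ⟨⟨z, hz.2⟩, hz, rfl⟩
    have hpre : IsPreconnected ((fun x : U => (x : α)) ⁻¹'
        (connectedComponent (u' : α) ∩ (U : Set α))) := by
      have hind : Topology.IsInducing (fun x : U => (x : α)) := Topology.IsInducing.subtypeVal
      exact (hind.isPreconnected_image).mp (by rw [himg]; exact hV)
    exact hpre.subset_connectedComponent (x := u') ⟨mem_connectedComponent, u'.2⟩ ⟨h1, u.2⟩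
  · intro c
    obtain ⟨x, rfl⟩ := ConnectedComponents.surjective_coe c
    obtain ⟨y, hyC, hyU⟩ := hd.inter_open_nonempty (connectedComponent x)
      isOpen_connectedComponent ⟨x, mem_connectedComponent⟩
    refine ⟨((⟨y, hyU⟩ : U) : ConnectedComponents U), ?_⟩
    change ((y : α) : ConnectedComponents α) = (x : ConnectedComponents α)
    rw [ConnectedComponents.coe_eq_coe']
    exact hyC

end topology

section scheme

open Groth.Agent.Lib.Helper5.Hartogs

variable {X : Scheme.{u}}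

theorem exists_section_one_zero (W₁ W₂ : X.Opens) (h12 : W₁ ⊓ W₂ = ⊥) :
    ∃ t : Γ(X, W₁ ⊔ W₂), rs (le_sup_left : W₁ ≤ W₁ ⊔ W₂) t = 1 ∧
      rs (le_sup_right : W₂ ≤ W₁ ⊔ W₂) t = 0 := by
  haveI hsub : Subsingleton Γ(X, W₁ ⊓ W₂) := by rw [h12]; infer_instance
  have hmem : (((1 : Γ(X, W₁)), (0 : Γ(X, W₂))) : Γ(X, W₁) × Γ(X, W₂)) ∈ RingHom.eqLocus
      (RingHom.comp (X.sheaf.obj.map (homOfLE inf_le_left : W₁ ⊓ W₂ ⟶ W₁).op).hom
        (RingHom.fst (X.sheaf.obj.obj <| op W₁) (X.sheaf.obj.obj <| op W₂)))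
      (RingHom.comp (X.sheaf.obj.map (homOfLE inf_le_right : W₁ ⊓ W₂ ⟶ W₂).op).hom
        (RingHom.snd (X.sheaf.obj.obj <| op W₁) (X.sheaf.obj.obj <| op W₂))) :=
    Subsingleton.elim (α := Γ(X, W₁ ⊓ W₂)) _ _
  refine ⟨(X.sheaf.objSupIsoProdEqLocus W₁ W₂).inv ⟨_, hmem⟩, ?_, ?_⟩
  · exact X.sheaf.objSupIsoProdEqLocus_inv_fst W₁ W₂ ⟨_, hmem⟩
  · exact X.sheaf.objSupIsoProdEqLocus_inv_snd W₁ W₂ ⟨_, hmem⟩

variable [IsLocallyNoetherian X]

theorem locallyConnectedSpace : LocallyConnectedSpace X := by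
  apply locallyConnectedSpace_of_locally_noetherian
  intro x
  obtain ⟨_, ⟨W, hW, rfl⟩, hxW, -⟩ :=
    X.isBasis_affineOpens.exists_subset_of_mem_open (Set.mem_univ x) isOpen_univ
  have : IsNoetherianRing Γ(X, W) := IsLocallyNoetherian.component_noetherian ⟨W, hW⟩
  exact ⟨(W : Set X), W.isOpen, hxW, noetherianSpace_of_isAffineOpen W hW⟩

theorem dense_of_depth (U : X.Opens)
    (h : ∀ z : X, z ∉ U → 2 ≤ LocCoh.depth (X.presheaf.stalk z) (X.presheaf.stalk z)) :
    Dense (U : Set X) := by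
  rw [dense_iff_inter_open]
  intro V' hV' hne
  by_contra hemp
  rw [Set.not_nonempty_iff_eq_empty] at hemp
  obtain ⟨V, hVdef⟩ : ∃ V : X.Opens, V = ⟨V', hV'⟩ := ⟨_, rfl⟩
  have hVU : V ⊓ U = ⊥ := by
    rw [eq_bot_iff]
    intro z hz
    have hz' : z ∈ V' ∩ (U : Set X) := by
      rw [hVdef] at hz
      exact hz
    rw [hemp] at hz'
    exact hz'.elim
  have hbij := bijective_of_depth U h V
  haveI : Subsingleton Γ(X, V ⊓ U) := by rw [hVU]; infer_instance
  have h10 : (1 : Γ(X, V)) = 0 := hbij.1 (Subsingleton.elim _ _)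
  have hV0 : V = ⊥ := by
    calc V = X.basicOpen (1 : Γ(X, V)) := (Scheme.basicOpen_one X).symm
      _ = X.basicOpen (0 : Γ(X, V)) := by rw [h10]
      _ = ⊥ := X.basicOpen_zero V
  obtain ⟨z, hz⟩ := hne
  have hzV : z ∈ V := by rw [hVdef]; exact hz
  rw [hV0] at hzV
  exact hzV.elim

theorem isPreconnected_inter_of_depth (U : X.Opens)
    (h : ∀ z : X, z ∉ U → 2 ≤ LocCoh.depth (X.presheaf.stalk z) (X.presheaf.stalk z))
    (V : X.Opens) (hV : _root_.IsPreconnected (V : Set X)) :
    _root_.IsPreconnected ((V : Set X) ∩ (U : Set X)) := by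
  rw [isPreconnected_iff_subset_of_disjoint]
  intro u v hu hv hsub hdisj
  obtain ⟨W₁, hW₁⟩ : ∃ W₁ : X.Opens, W₁ = (V ⊓ U) ⊓ ⟨u, hu⟩ := ⟨_, rfl⟩
  obtain ⟨W₂, hW₂⟩ : ∃ W₂ : X.Opens, W₂ = (V ⊓ U) ⊓ ⟨v, hv⟩ := ⟨_, rfl⟩
  have hmem₁ : ∀ z : X, z ∈ W₁ ↔ (z ∈ V ∧ z ∈ U) ∧ z ∈ u := by intro z; rw [hW₁]; rfl
  have hmem₂ : ∀ z : X, z ∈ W₂ ↔ (z ∈ V ∧ z ∈ U) ∧ z ∈ v := by intro z; rw [hW₂]; rfl
  have h12 : W₁ ⊓ W₂ = ⊥ := by
    rw [eq_bot_iff]
    intro z hz
    have hz1 := (hmem₁ z).mp hz.1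
    have hz2 := (hmem₂ z).mp hz.2
    have hz3 : z ∈ (V : Set X) ∩ (U : Set X) ∩ (u ∩ v) := ⟨hz1.1, hz1.2, hz2.2⟩
    rw [hdisj] at hz3
    exact hz3.elim
  have hcov : V ⊓ U ≤ W₁ ⊔ W₂ := by
    intro z hz
    have hzVU : z ∈ V ∧ z ∈ U := hz
    rcases hsub hz with hzu | hzv
    · exact Or.inl ((hmem₁ z).mpr ⟨hzVU, hzu⟩)
    · exact Or.inr ((hmem₂ z).mpr ⟨hzVU, hzv⟩)
  have hW₁le : W₁ ≤ V ⊓ U := by rw [hW₁]; exact inf_le_left
  have hW₂le : W₂ ≤ V ⊓ U := by rw [hW₂]; exact inf_le_left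
  obtain ⟨t, ht1, ht2⟩ := exists_section_one_zero W₁ W₂ h12
  have hbij := bijective_of_depth U h V
  obtain ⟨s, hs⟩ := hbij.2 (rs hcov t)
  have hs1 : rs (hW₁le.trans inf_le_left) s = 1 := by
    rw [← rs_rs (inf_le_left : V ⊓ U ≤ V) hW₁le, hs, rs_rs]; exact ht1
  have hs2 : rs (hW₂le.trans inf_le_left) s = 0 := by
    rw [← rs_rs (inf_le_left : V ⊓ U ≤ V) hW₂le, hs, rs_rs]; exact ht2
  have hidem : s * (1 - s) = 0 := by
    apply hbij.1
    rw [map_zero]
    refine X.sheaf.eq_of_locally_eq₂ (homOfLE hW₁le) (homOfLE hW₂le) hcov _ _ ?_ ?_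
    · change rs hW₁le (rs (inf_le_left : V ⊓ U ≤ V) (s * (1 - s))) = rs hW₁le 0
      rw [rs_rs, map_mul, map_sub, map_one, hs1, sub_self, mul_zero, map_zero]
    · change rs hW₂le (rs (inf_le_left : V ⊓ U ≤ V) (s * (1 - s))) = rs hW₂le 0
      rw [rs_rs, map_mul, hs2, zero_mul, map_zero]
  have hcovV : (V : Set X) ⊆ (X.basicOpen s : Set X) ∪ (X.basicOpen (1 - s) : Set X) := by
    intro z hz
    have h1 : X.basicOpen (s + (1 - s)) ≤ X.basicOpen s ⊔ X.basicOpen (1 - s) :=
      X.basicOpen_add_le s (1 - s)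
    rw [add_sub_cancel, Scheme.basicOpen_one] at h1
    exact h1 hz
  have hdisjV : (V : Set X) ∩ ((X.basicOpen s : Set X) ∩ (X.basicOpen (1 - s) : Set X)) = ∅ := by
    rw [Set.eq_empty_iff_forall_notMem]
    rintro z ⟨-, hz⟩
    have hz' : z ∈ X.basicOpen (s * (1 - s)) := by rw [Scheme.basicOpen_mul]; exact hz
    rw [hidem, Scheme.basicOpen_zero] at hz'
    exact hz'
  rcases (isPreconnected_iff_subset_of_disjoint.mp hV) _ _ (X.basicOpen s).isOpen
    (X.basicOpen (1 - s)).isOpen hcovV hdisjV with hVs | hVs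
  · left
    have hW₂bot : W₂ = ⊥ := by
      have h2 : X.basicOpen (rs (hW₂le.trans inf_le_left) s) = W₂ ⊓ X.basicOpen s :=
        X.basicOpen_res s (homOfLE (hW₂le.trans inf_le_left)).op
      rw [hs2, Scheme.basicOpen_zero] at h2
      rw [eq_bot_iff]
      intro z hz
      have hz' : z ∈ W₂ ⊓ X.basicOpen s := ⟨hz, hVs ((hW₂le.trans inf_le_left) hz)⟩
      rw [← h2] at hz'
      exact hz'
    intro z hz
    rcases hsub hz with hzu | hzv
    · exact hzu
    · have hz2 : z ∈ W₂ := (hmem₂ z).mpr ⟨hz, hzv⟩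
      rw [hW₂bot] at hz2
      exact hz2.elim
  · right
    have hW₁bot : W₁ = ⊥ := by
      have h2 : X.basicOpen (rs (hW₁le.trans inf_le_left) (1 - s)) =
          W₁ ⊓ X.basicOpen (1 - s) :=
        X.basicOpen_res (1 - s) (homOfLE (hW₁le.trans inf_le_left)).op
      rw [map_sub, map_one, hs1, sub_self, Scheme.basicOpen_zero] at h2
      rw [eq_bot_iff]
      intro z hz
      have hz' : z ∈ W₁ ⊓ X.basicOpen (1 - s) := ⟨hz, hVs ((hW₁le.trans inf_le_left) hz)⟩
      rw [← h2] at hz'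
      exact hz'
    intro z hz
    rcases hsub hz with hzu | hzv
    · have hz1 : z ∈ W₁ := (hmem₁ z).mpr ⟨hz, hzu⟩
      rw [hW₁bot] at hz1
      exact hz1.elim
    · exact hzv

/-- **Hartshorne's connectedness theorem**, scheme form. -/
theorem connectedComponentsMap_bijective (U : X.Opens)
    (h : ∀ z : X, z ∉ U → 2 ≤ LocCoh.depth (X.presheaf.stalk z) (X.presheaf.stalk z)) :
    Function.Bijective (Continuous.connectedComponentsMap
      (continuous_subtype_val : Continuous (fun x : U => (x : X)))) := by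
  have : LocallyConnectedSpace X := locallyConnectedSpace
  refine connectedComponentsMap_bijective_of_dense (α := X) U (dense_of_depth U h) ?_
  intro V hVo hVc
  exact isPreconnected_inter_of_depth U h ⟨V, hVo⟩ hVc.isPreconnected

end scheme

end Groth.Agent.Lib.Helper4.ConnSch
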