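import Groth.Agent.Lib.Helper4.Depth

/-!
# Depth of `Hom(M, N)`: `depth_I N ≥ k ⇒ depth_I Hom(M, N) ≥ k` for `k = 1, 2`
-/

set_option autoImplicit false

universe u v w

open RingTheory.Sequence

namespace Groth.Agent.Lib.Helper4

section

variable {R : Type u} [CommRing R] {M : Type v} [AddCommGroup M] [Module R M]
  {N : Type w} [AddCommGroup N] [Module R N]

/-- An `N`-regular element is `Hom(M, N)`-regular. -/
lemma isSMulRegular_linearMap {x : R} (hx : IsSMulRegular N x) : IsSMulRegular (M →ₗ[R] N) x := by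
  rw [isSMulRegular_iff_right_eq_zero_of_smul]
  intro φ hφ
  ext m
  have : x • φ m = 0 := by
    have := congrArg (fun ψ : M →ₗ[R] N => ψ m) hφ
    simpa using this
  exact (isSMulRegular_iff_right_eq_zero_of_smul.mp hx) _ this

open Pointwise in
/-- If `x, y` is an `N`-regular sequence then `y` is regular on `Hom(M, N) / x Hom(M, N)`. -/
lemma isSMulRegular_quotSMulTop_linearMap {x y : R} (hx : IsSMulRegular N x)
    (hy : IsSMulRegular (QuotSMulTop x N) y) :
    IsSMulRegular (QuotSMulTop x (M →ₗ[R] N)) y := by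
  rw [isSMulRegular_iff_right_eq_zero_of_smul]
  intro a ha
  obtain ⟨ψ, rfl⟩ := Submodule.Quotient.mk_surjective _ a
  rw [← Submodule.Quotient.mk_smul, Submodule.Quotient.mk_eq_zero,
    Submodule.mem_smul_pointwise_iff_exists] at ha
  obtain ⟨φ, -, hφ⟩ := ha
  -- `ψ m ∈ x N` for all `m`
  have hmem : ∀ m : M, ∃ n : N, x • n = ψ m := by
    intro m
    have h1 : y • (Submodule.Quotient.mk (ψ m) : QuotSMulTop x N) = 0 := by
      rw [← Submodule.Quotient.mk_smul, Submodule.Quotient.mk_eq_zero,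
        Submodule.mem_smul_pointwise_iff_exists]
      refine ⟨φ m, Submodule.mem_top, ?_⟩
      have := congrArg (fun χ : M →ₗ[R] N => χ m) hφ
      simpa using this
    have h2 := (isSMulRegular_iff_right_eq_zero_of_smul.mp hy) _ h1
    rw [Submodule.Quotient.mk_eq_zero, Submodule.mem_smul_pointwise_iff_exists] at h2
    obtain ⟨n, -, hn⟩ := h2
    exact ⟨n, hn⟩
  choose g hg using hmem
  have hxinj : ∀ n₁ n₂ : N, x • n₁ = x • n₂ → n₁ = n₂ := fun n₁ n₂ h => hx h
  let φ' : M →ₗ[R] N :=
    { toFun := g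
      map_add' := fun m₁ m₂ => by
        apply hxinj
        rw [smul_add, hg, hg, hg, map_add]
      map_smul' := fun r m => by
        apply hxinj
        rw [RingHom.id_apply, smul_comm, hg, hg, map_smul] }
  rw [Submodule.Quotient.mk_eq_zero, Submodule.mem_smul_pointwise_iff_exists]
  refine ⟨φ', Submodule.mem_top, ?_⟩
  ext m
  exact hg m

variable [Module.Finite R N]

/-- If `IN = N` then `I Hom(M, N) = Hom(M, N)`. -/
lemma smul_top_linearMap_eq_top (I : Ideal R) (h : I • (⊤ : Submodule R N) = ⊤) :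
    I • (⊤ : Submodule R (M →ₗ[R] N)) = ⊤ := by
  obtain ⟨r, hr1, hr⟩ := Submodule.exists_sub_one_mem_and_smul_eq_zero_of_fg_of_le_smul I
    (⊤ : Submodule R N) Module.Finite.fg_top (by rw [h])
  rw [eq_top_iff]
  intro φ _
  have hrφ : r • φ = 0 := by
    ext m
    exact hr (φ m) Submodule.mem_top
  have : φ = (1 - r) • φ := by rw [sub_smul, one_smul, hrφ, sub_zero]
  rw [this]
  refine Submodule.smul_mem_smul ?_ Submodule.mem_top
  have : 1 - r = -(r - 1) := by ring
  rw [this]
  exact I.neg_mem hr1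

theorem one_le_idealDepth_linearMap (I : Ideal R) (h : 1 ≤ LocCoh.idealDepth I N) :
    1 ≤ LocCoh.idealDepth I (M →ₗ[R] N) := by
  by_cases hIN : I • (⊤ : Submodule R N) = ⊤
  · rw [idealDepth_of_smul_top_eq I (smul_top_linearMap_eq_top I hIN)]; exact le_top
  · obtain ⟨x, hxI, hx⟩ := (one_le_idealDepth_iff I hIN).mp h
    have := length_le_idealDepth (M := M →ₗ[R] N) I [x]
      ((isWeaklyRegular_singleton_iff _ x).mpr (isSMulRegular_linearMap hx)) (by simpa using hxI)
    simpa using this

theorem two_le_idealDepth_linearMap (I : Ideal R) (h : 2 ≤ LocCoh.idealDepth I N) :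
    2 ≤ LocCoh.idealDepth I (M →ₗ[R] N) := by
  by_cases hIN : I • (⊤ : Submodule R N) = ⊤
  · rw [idealDepth_of_smul_top_eq I (smul_top_linearMap_eq_top I hIN)]; exact le_top
  · obtain ⟨rs, hlen, hmem, hreg⟩ := exists_isWeaklyRegular_of_le_idealDepth I hIN 2
      (by exact_mod_cast h)
    obtain ⟨x, y, rfl⟩ : ∃ x y, rs = [x, y] := by
      match rs, hlen with
      | [x, y], _ => exact ⟨x, y, rfl⟩
    rw [isWeaklyRegular_cons_iff, isWeaklyRegular_singleton_iff] at hreg
    have hreg' : IsWeaklyRegular (M →ₗ[R] N) [x, y] := by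
      rw [isWeaklyRegular_cons_iff, isWeaklyRegular_singleton_iff]
      exact ⟨isSMulRegular_linearMap hreg.1, isSMulRegular_quotSMulTop_linearMap hreg.1 hreg.2⟩
    have := length_le_idealDepth (M := M →ₗ[R] N) I [x, y] hreg' hmem
    simpa using this

end

end Groth.Agent.Lib.Helper4
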