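import Groth.Agent.Lib.Helper4.Depth
import Mathlib.RingTheory.Noetherian.Nilpotent
import Mathlib.RingTheory.Localization.AtPrime.Basic
import Mathlib.RingTheory.Ideal.MinimalPrime.Localization

/-!
# Hartshorne's connectedness theorem: the algebraic core
-/

set_option autoImplicit false

universe u v

open RingTheory.Sequence Pointwise

namespace Groth.Agent.Lib.Helper4

section mono

variable {R : Type u} [CommRing R] [Small.{v} R] [IsNoetherianRing R]

/-- The `I`-depth only depends on `V(I)`, monotonically. -/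
theorem idealDepth_le_of_zeroLocus_subset (I J : Ideal R) (M : Type v) [AddCommGroup M]
    [Module R M] [Module.Finite R M]
    (h : PrimeSpectrum.zeroLocus (J : Set R) ⊆ PrimeSpectrum.zeroLocus (I : Set R)) :
    LocCoh.idealDepth I M ≤ LocCoh.idealDepth J M := by
  refine ENat.forall_natCast_le_iff_le.mp fun n hn => ?_
  have hsupp : Module.support R (Shrink.{v} (R ⧸ J)) = PrimeSpectrum.zeroLocus J := by
    rw [(Shrink.linearEquiv R _).support_eq, Module.support_eq_zeroLocus,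
      Ideal.annihilator_quotient]
  have : Module.Finite R (Shrink.{v} (R ⧸ J)) :=
    Module.Finite.equiv (Shrink.linearEquiv R (R ⧸ J)).symm
  refine le_idealDepth_of_subsingleton_ext J (ModuleCat.of R (Shrink.{v} (R ⧸ J))) hsupp
    (ModuleCat.of R M) n fun i hi => ?_
  refine subsingleton_ext_of_lt_idealDepth I _ (hsupp.le.trans h) (ModuleCat.of R M) i
    (lt_of_lt_of_le ?_ hn)
  exact_mod_cast hi

theorem idealDepth_eq_of_zeroLocus_eq (I J : Ideal R) (M : Type v) [AddCommGroup M]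
    [Module R M] [Module.Finite R M]
    (h : PrimeSpectrum.zeroLocus (J : Set R) = PrimeSpectrum.zeroLocus (I : Set R)) :
    LocCoh.idealDepth I M = LocCoh.idealDepth J M :=
  le_antisymm (idealDepth_le_of_zeroLocus_subset I J M h.le)
    (idealDepth_le_of_zeroLocus_subset J I M h.ge)

end mono

section core

variable {R : Type u} [CommRing R] [IsLocalRing R] [IsNoetherianRing R]

/-- Core of Hartshorne's connectedness theorem: if `K₁K₂ = 0` and `K₁ + K₂` has depth `≥ 2` on the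
local ring `R`, then `K₁ = 0` or `K₂ = 0`. -/
theorem hartshorne_core (K1 K2 : Ideal R) (hK : K1 * K2 = ⊥)
    (hd : 2 ≤ LocCoh.idealDepth (K1 ⊔ K2) R) : K1 = ⊥ ∨ K2 = ⊥ := by
  obtain ⟨x, y, hx, hy, hreg⟩ :
      ∃ x y : R, x ∈ K1 ⊔ K2 ∧ y ∈ K1 ⊔ K2 ∧ IsWeaklyRegular R [x, y] := by
    by_cases hIM : (K1 ⊔ K2) • (⊤ : Submodule R R) = ⊤
    · have htop : K1 ⊔ K2 = ⊤ := by rwa [smul_eq_mul, Ideal.mul_top] at hIM
      refine ⟨1, 1, by rw [htop]; exact Submodule.mem_top, by rw [htop]; exact Submodule.mem_top, ?_⟩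
      rw [isWeaklyRegular_cons_iff, isWeaklyRegular_cons_iff]
      exact ⟨IsSMulRegular.one _, IsSMulRegular.one _, IsWeaklyRegular.nil _ _⟩
    · obtain ⟨rs, hlen, hmem, hreg⟩ := exists_isWeaklyRegular_of_le_idealDepth (K1 ⊔ K2) hIM 2
        (by exact_mod_cast hd)
      match rs, hlen, hmem, hreg with
      | [x, y], _, hmem, hreg =>
        exact ⟨x, y, hmem x (by simp), hmem y (by simp), hreg⟩
  rw [isWeaklyRegular_cons_iff] at hreg
  obtain ⟨hxreg, hreg2⟩ := hreg
  rw [isWeaklyRegular_cons_iff] at hreg2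
  have hyreg := hreg2.1
  have key : ∀ z w : R, y * z = x * w → ∃ c, z = x * c := by
    intro z w hzw
    have hle := (isSMulRegular_on_quot_iff_lsmul_comap_le (x • (⊤ : Submodule R R)) y).mp hyreg
    have hz : z ∈ (x • (⊤ : Submodule R R)).comap (LinearMap.lsmul R R y) := by
      rw [Submodule.mem_comap, Submodule.mem_smul_pointwise_iff_exists]
      exact ⟨w, Submodule.mem_top, by simp [hzw]⟩
    obtain ⟨c, -, hc⟩ := (Submodule.mem_smul_pointwise_iff_exists _ _ _).mp (hle hz)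
    exact ⟨c, by simpa using hc.symm⟩
  obtain ⟨a1, ha1, a2, ha2, rfl⟩ := Submodule.mem_sup.mp hx
  obtain ⟨b1, hb1, b2, hb2, rfl⟩ := Submodule.mem_sup.mp hy
  have hz : ∀ u ∈ K1, ∀ v ∈ K2, u * v = 0 := fun u hu v hv => by
    have : u * v ∈ K1 * K2 := Ideal.mul_mem_mul hu hv
    rwa [hK, Ideal.mem_bot] at this
  have h1 := hz a1 ha1 b2 hb2
  have h2 := hz b1 hb1 a2 ha2
  obtain ⟨c, hc⟩ := key a1 b1 (by linear_combination h1 - h2)
  obtain ⟨c', hc'⟩ := key a2 b2 (by linear_combination h2 - h1)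
  have hsum : c + c' = 1 := by
    apply hxreg
    simp only [smul_eq_mul]
    linear_combination -hc - hc'
  rcases IsLocalRing.isUnit_or_isUnit_of_add_one hsum with hu | hu
  · right
    obtain ⟨d, hd⟩ := hu.exists_left_inv
    have hxK1 : a1 + a2 ∈ K1 := by
      have : a1 + a2 = d * a1 := by linear_combination (-(a1 + a2)) * hd - d * hc
      rw [this]
      exact K1.mul_mem_left d ha1
    rw [eq_bot_iff]
    intro v hv
    rw [Ideal.mem_bot]
    exact hxreg.right_eq_zero_of_smul (hz _ hxK1 v hv)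
  · left
    obtain ⟨d, hd⟩ := hu.exists_left_inv
    have hxK2 : a1 + a2 ∈ K2 := by
      have : a1 + a2 = d * a2 := by linear_combination (-(a1 + a2)) * hd - d * hc'
      rw [this]
      exact K2.mul_mem_left d ha2
    rw [eq_bot_iff]
    intro v hv
    rw [Ideal.mem_bot]
    refine hxreg.right_eq_zero_of_smul ?_
    rw [smul_eq_mul, mul_comm]
    exact hz v hv _ hxK2

/-- **Hartshorne's connectedness theorem**, ideal-theoretic local form. -/
theorem hartshorne_local (h2 : 2 ≤ LocCoh.depth R R) (J1 J2 : Ideal R)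
    (hcover : ∀ p : Ideal R, p.IsPrime → J1 ≤ p ∨ J2 ≤ p)
    (hmeet : ∀ p : Ideal R, p.IsPrime → J1 ≤ p → J2 ≤ p → p = IsLocalRing.maximalIdeal R) :
    (∀ p : Ideal R, p.IsPrime → J1 ≤ p → p = IsLocalRing.maximalIdeal R) ∨
    (∀ p : Ideal R, p.IsPrime → J2 ≤ p → p = IsLocalRing.maximalIdeal R) := by
  have hnil : J1 * J2 ≤ nilradical R := by
    rw [nilradical_eq_sInf, le_sInf_iff]
    intro p hp
    rcases hcover p hp with h | h
    · exact Ideal.mul_le_left.trans h
    · exact Ideal.mul_le_right.trans h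
  obtain ⟨n, hn⟩ := IsNoetherianRing.isNilpotent_nilradical R
  have hK : J1 ^ (n + 1) * J2 ^ (n + 1) = ⊥ := by
    rw [← mul_pow, eq_bot_iff]
    calc (J1 * J2) ^ (n + 1) ≤ (nilradical R) ^ (n + 1) := Ideal.pow_right_mono hnil _
      _ ≤ (nilradical R) ^ n := Ideal.pow_le_pow_right (Nat.le_succ n)
      _ = ⊥ := hn
  have hV : ∀ (J p : Ideal R), p.IsPrime → (J ^ (n + 1) ≤ p ↔ J ≤ p) := fun J p hp =>
    hp.pow_le_iff (Nat.succ_ne_zero n)
  have hd : 2 ≤ LocCoh.idealDepth (J1 ^ (n + 1) ⊔ J2 ^ (n + 1)) R := by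
    refine h2.trans (idealDepth_le_of_zeroLocus_subset _ _ R ?_)
    intro p hp
    rw [PrimeSpectrum.mem_zeroLocus, SetLike.coe_subset_coe] at hp ⊢
    have e1 : J1 ≤ p.asIdeal := (hV J1 _ p.2).mp (le_sup_left.trans hp)
    have e2 : J2 ≤ p.asIdeal := (hV J2 _ p.2).mp (le_sup_right.trans hp)
    rw [hmeet _ p.2 e1 e2]
  rcases hartshorne_core _ _ hK hd with h | h
  · right
    intro p hp hJ2
    exact hmeet p hp ((hV J1 p hp).mp (by rw [h]; exact bot_le)) hJ2
  · left
    intro p hp hJ1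
    exact hmeet p hp hJ1 ((hV J2 p hp).mp (by rw [h]; exact bot_le))

end core

section atPrime

variable {A : Type u} [CommRing A] [IsNoetherianRing A]

/-- **Hartshorne's connectedness theorem** at a prime `P` of a Noetherian ring with
`depth A_P ≥ 2`, phrased with ideals and primes of `A`. -/
theorem hartshorne_atPrime (P : Ideal A) [P.IsPrime]
    (h2 : 2 ≤ LocCoh.depth (Localization.AtPrime P) (Localization.AtPrime P)) (J1 J2 : Ideal A)
    (hcover : ∀ Q : Ideal A, Q.IsPrime → Q ≤ P → J1 ≤ Q ∨ J2 ≤ Q)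
    (hmeet : ∀ Q : Ideal A, Q.IsPrime → Q ≤ P → J1 ≤ Q → J2 ≤ Q → Q = P) :
    (∀ Q : Ideal A, Q.IsPrime → Q ≤ P → J1 ≤ Q → Q = P) ∨
    (∀ Q : Ideal A, Q.IsPrime → Q ≤ P → J2 ≤ Q → Q = P) := by
  have key : ∀ J : Ideal A,
      (∀ p : Ideal (Localization.AtPrime P), p.IsPrime →
        J.map (algebraMap A (Localization.AtPrime P)) ≤ p →
          p = IsLocalRing.maximalIdeal (Localization.AtPrime P)) →
      ∀ Q : Ideal A, Q.IsPrime → Q ≤ P → J ≤ Q → Q = P := by
    intro J hJ Q hQ hQP hJQ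
    have hdisj : Disjoint (P.primeCompl : Set A) Q := by
      rw [Set.disjoint_left]
      intro a ha haQ
      exact ha (hQP haQ)
    have hp := IsLocalization.isPrime_of_isPrime_disjoint P.primeCompl (Localization.AtPrime P)
      Q hQ hdisj
    have hcomap := IsLocalization.under_map_of_isPrime_disjoint P.primeCompl
      (Localization.AtPrime P) hQ hdisj
    have := hJ _ hp (Ideal.map_mono hJQ)
    rw [← hcomap, this]
    exact IsLocalization.AtPrime.under_maximalIdeal (Localization.AtPrime P) P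
  have hcomap_le : ∀ p : Ideal (Localization.AtPrime P), p.IsPrime →
      p.comap (algebraMap A (Localization.AtPrime P)) ≤ P := by
    intro p hp
    have h1 : p.comap (algebraMap A (Localization.AtPrime P)) ≤
        (IsLocalRing.maximalIdeal (Localization.AtPrime P)).comap
          (algebraMap A (Localization.AtPrime P)) :=
      Ideal.comap_mono (IsLocalRing.le_maximalIdeal hp.ne_top)
    exact h1.trans (IsLocalization.AtPrime.under_maximalIdeal (Localization.AtPrime P) P).le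
  have := hartshorne_local h2 (J1.map (algebraMap A (Localization.AtPrime P)))
    (J2.map (algebraMap A (Localization.AtPrime P))) ?_ ?_
  · rcases this with h | h
    · left; exact key J1 h
    · right; exact key J2 h
  · intro p hp
    rcases hcover _ (Ideal.comap_isPrime _ p) (hcomap_le p hp) with h | h
    · left; exact Ideal.map_le_iff_le_comap.mpr h
    · right; exact Ideal.map_le_iff_le_comap.mpr h
  · intro p hp e1 e2
    have hQ := hmeet _ (Ideal.comap_isPrime _ p) (hcomap_le p hp)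
      (Ideal.map_le_iff_le_comap.mp e1) (Ideal.map_le_iff_le_comap.mp e2)
    rw [← IsLocalization.map_under P.primeCompl (Localization.AtPrime P) p, Ideal.under, hQ]
    exact IsLocalization.AtPrime.map_eq_maximalIdeal P (Localization.AtPrime P)

/-- Splitting the minimal primes of a Noetherian ring into two disjoint nonempty families, cut out
by ideals `J₁`, `J₂`: at a minimal prime `Q` of `J₁ + J₂` the local ring has depth `< 2`, and `Q`
strictly contains members of both families. -/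
theorem hartshorne_split (P1 P2 : Set (Ideal A)) (hP : P1 ∪ P2 = minimalPrimes A)
    (hdisj : Disjoint P1 P2) (J1 J2 : Ideal A)
    (hJ1 : ∀ Q : Ideal A, Q.IsPrime → (J1 ≤ Q ↔ ∃ q ∈ P1, q ≤ Q))
    (hJ2 : ∀ Q : Ideal A, Q.IsPrime → (J2 ≤ Q ↔ ∃ q ∈ P2, q ≤ Q))
    (Q : Ideal A) [hQp : Q.IsPrime] (hQ : Q ∈ (J1 ⊔ J2).minimalPrimes) :
    (∃ p1 ∈ P1, ∃ p2 ∈ P2, p1 < Q ∧ p2 < Q) ∧
      ¬ (2 ≤ LocCoh.depth (Localization.AtPrime Q) (Localization.AtPrime Q)) := by
  have hle : J1 ⊔ J2 ≤ Q := hQ.1.2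
  obtain ⟨p1, hp1, hp1Q⟩ := (hJ1 Q hQp).mp (le_sup_left.trans hle)
  obtain ⟨p2, hp2, hp2Q⟩ := (hJ2 Q hQp).mp (le_sup_right.trans hle)
  have hp1min : p1 ∈ minimalPrimes A := by rw [← hP]; exact Or.inl hp1
  have hp2min : p2 ∈ minimalPrimes A := by rw [← hP]; exact Or.inr hp2
  have hne : p1 ≠ p2 := fun e => Set.disjoint_left.mp hdisj hp1 (e ▸ hp2)
  have h1Q : p1 < Q := by
    refine lt_of_le_of_ne hp1Q fun e => hne ?_
    exact le_antisymm (hp1min.2 ⟨hp2min.1.1, bot_le⟩ (e ▸ hp2Q)) (e ▸ hp2Q)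
  have h2Q : p2 < Q := by
    refine lt_of_le_of_ne hp2Q fun e => hne ?_
    exact le_antisymm (e ▸ hp1Q) (hp2min.2 ⟨hp1min.1.1, bot_le⟩ (e ▸ hp1Q))
  refine ⟨⟨p1, hp1, p2, hp2, h1Q, h2Q⟩, fun h2 => ?_⟩
  have key := hartshorne_atPrime Q h2 J1 J2 ?_ ?_
  · rcases key with h | h
    · exact h1Q.ne (h p1 hp1min.1.1 hp1Q ((hJ1 p1 hp1min.1.1).mpr ⟨p1, hp1, le_rfl⟩))
    · exact h2Q.ne (h p2 hp2min.1.1 hp2Q ((hJ2 p2 hp2min.1.1).mpr ⟨p2, hp2, le_rfl⟩))
  · intro Q' hQ' _
    obtain ⟨q, hq, hqQ'⟩ := Ideal.exists_minimalPrimes_le (bot_le : (⊥ : Ideal A) ≤ Q')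
    have hq' : q ∈ P1 ∪ P2 := by rw [hP]; exact hq
    rcases hq' with h | h
    · left; exact (hJ1 Q' hQ').mpr ⟨q, h, hqQ'⟩
    · right; exact (hJ2 Q' hQ').mpr ⟨q, h, hqQ'⟩
  · intro Q' hQ' hQ'Q e1 e2
    exact le_antisymm hQ'Q (hQ.2 ⟨hQ', sup_le e1 e2⟩ hQ'Q)

end atPrime

section kernels

variable {R : Type u} [CommRing R]

/-- An element of a minimal prime `q` is nilpotent in `R_q`. -/
lemma exists_mul_pow_eq_zero_of_mem_minimalPrimes {q : Ideal R} (hq : q ∈ minimalPrimes R) {t : R}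
    (ht : t ∈ q) : ∃ (n : ℕ) (s : R), s ∉ q ∧ s * t ^ n = 0 := by
  haveI := hq.1.1
  have hrad := IsLocalization.AtPrime.radical_map_of_mem_minimalPrimes
    (A := Localization.AtPrime q) q ⊥ hq
  rw [Ideal.map_bot] at hrad
  have hmem : algebraMap R (Localization.AtPrime q) t ∈
      (⊥ : Ideal (Localization.AtPrime q)).radical := by
    rw [hrad]
    exact Ideal.mem_map_of_mem _ ht
  obtain ⟨n, hn⟩ := hmem
  rw [Ideal.mem_bot, ← map_pow, IsLocalization.map_eq_zero_iff q.primeCompl] at hn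
  obtain ⟨m, hm⟩ := hn
  exact ⟨n, m, m.2, hm⟩

/-- The intersection of the kernels of `R → R_q`, `q` in a finite set `P` of minimal primes, cuts
out `⋃_{q ∈ P} V(q)`. -/
theorem le_iff_exists_le_of_mem_iff_forall (P : Set (Ideal R)) (hfin : P.Finite)
    (hmin : P ⊆ minimalPrimes R) (a : Ideal R)
    (ha : ∀ r : R, r ∈ a ↔ ∀ p ∈ P, ∃ s : R, s ∉ p ∧ s * r = 0)
    (Q : Ideal R) (hQ : Q.IsPrime) : a ≤ Q ↔ ∃ q ∈ P, q ≤ Q := by
  classical
  constructor
  · intro haQ
    by_contra hcon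
    push Not at hcon
    have hex : ∀ q : Ideal R, ∃ (t : R) (n : ℕ) (s : R), q ∈ P → (t ∉ Q ∧ s ∉ q ∧ s * t ^ n = 0) := by
      intro q
      by_cases hq : q ∈ P
      · obtain ⟨t, htq, htQ⟩ := Set.not_subset.mp (hcon q hq)
        obtain ⟨n, s, hs, hst⟩ := exists_mul_pow_eq_zero_of_mem_minimalPrimes (hmin hq) htq
        exact ⟨t, n, s, fun _ => ⟨htQ, hs, hst⟩⟩
      · exact ⟨0, 0, 0, fun h => absurd h hq⟩
    choose t n s hts using hex
    have hr : (∏ q ∈ hfin.toFinset, t q ^ n q) ∈ a := by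
      rw [ha]
      intro p hp
      refine ⟨s p, (hts p hp).2.1, ?_⟩
      obtain ⟨c, hc⟩ := Finset.dvd_prod_of_mem (fun q => t q ^ n q) (hfin.mem_toFinset.mpr hp)
      rw [hc, ← mul_assoc, (hts p hp).2.2, zero_mul]
    have hrQ := haQ hr
    rw [Ideal.IsPrime.prod_mem_iff] at hrQ
    obtain ⟨q, hq, hqQ⟩ := hrQ
    exact (hts q (hfin.mem_toFinset.mp hq)).1 (hQ.mem_of_pow_mem _ hqQ)
  · rintro ⟨q, hq, hqQ⟩ r hr
    obtain ⟨s, hs, hsr⟩ := (ha r).mp hr q hq
    have hqp : q.IsPrime := (hmin hq).1.1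
    have : s * r ∈ q := by rw [hsr]; exact q.zero_mem
    exact hqQ ((hqp.mem_or_mem this).resolve_left hs)

end kernels

end Groth.Agent.Lib.Helper4
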