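import Groth.Prelude.Def_EGA4c
import Mathlib.AlgebraicGeometry.Modules.Tilde
import Groth.Agent.Lib.Helper4.Hartshorne
import Groth.Agent.Lib.Helper28.DepthLoc
import Groth.Agent.Lib.Helper4.Sk

/-!
# Sections of `M~` over the complement of `V(J)` (helper4)

Pointwise description of the sections of `M~` over `Spec A ∖ V(J)` and the algebraic criteria for
the restriction map from global sections to be injective / surjective (`Z`-pure / `Z`-closed).
-/

set_option autoImplicit false

universe u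

open AlgebraicGeometry CategoryTheory Opposite TopologicalSpace

namespace Groth.Agent.Lib.Helper4

section pointwise

variable {A : Type u} [CommRing A] {M : Type u} [AddCommGroup M] [Module A M]

lemma mk_eq_zero_iff' (p : Ideal A) [p.IsPrime] (m : M) (s : p.primeCompl) :
    LocalizedModule.mk m s = 0 ↔ ∃ u : A, u ∉ p ∧ u • m = 0 := by
  rw [← LocalizedModule.zero_mk (1 : p.primeCompl), LocalizedModule.mk_eq]
  constructor
  · rintro ⟨u, hu⟩
    refine ⟨u.1, u.2, ?_⟩
    simpa [Submonoid.smul_def] using hu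
  · rintro ⟨u, hu, h⟩
    exact ⟨⟨u, hu⟩, by simp [Submonoid.smul_def, h]⟩

lemma mk_one_add (S : Submonoid A) (m m' : M) :
    LocalizedModule.mk (m + m') (1 : S) = LocalizedModule.mk m 1 + LocalizedModule.mk m' 1 :=
  map_add (LocalizedModule.mkLinearMap S M) m m'

lemma mk_one_sub (S : Submonoid A) (m m' : M) :
    LocalizedModule.mk (m - m') (1 : S) = LocalizedModule.mk m 1 - LocalizedModule.mk m' 1 :=
  map_sub (LocalizedModule.mkLinearMap S M) m m'

/-- An element vanishing in `M_x` for all `x ∈ D(e)` is killed by a power of `e`. -/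
lemma exists_pow_smul_eq_zero (e : A) (m : M)
    (h : ∀ x : PrimeSpectrum A, e ∉ x.asIdeal →
      LocalizedModule.mk m (1 : x.asIdeal.primeCompl) = 0) : ∃ k : ℕ, e ^ k • m = 0 := by
  have he : e ∈ ((⊥ : Submodule A M).colon {m}).radical := by
    rw [Ideal.radical_eq_sInf, Submodule.mem_sInf]
    rintro q ⟨hq, hqp⟩
    by_contra hne
    obtain ⟨u, hu, hum⟩ := (mk_eq_zero_iff' q m 1).mp (h ⟨q, hqp⟩ hne)
    exact hu (hq (Submodule.mem_colon_singleton.mpr (by simpa using hum)))
  obtain ⟨k, hk⟩ := he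
  exact ⟨k, by simpa [Submodule.mem_colon_singleton] using hk⟩

lemma eq_zero_of_smul_eq_zero_of_notMem (p : Ideal A) [p.IsPrime] {y : A} (hy : y ∉ p)
    (v : LocalizedModule p.primeCompl M) (h : y • v = 0) : v = 0 := by
  have hinj := IsLocalizedModule.smul_injective (LocalizedModule.mkLinearMap p.primeCompl M)
    (⟨y, hy⟩ : p.primeCompl)
  apply hinj
  change y • v = y • (0 : LocalizedModule p.primeCompl M)
  rw [h, smul_zero]

lemma isSMulRegular_localizedModule' (p : Ideal A) [p.IsPrime] {z : A}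
    (hz : IsSMulRegular M z) : IsSMulRegular (LocalizedModule p.primeCompl M) z := by
  intro v w hvw
  have h0 : z • (v - w) = 0 := by
    rw [smul_sub]
    exact sub_eq_zero.mpr hvw
  suffices hs : v - w = 0 from sub_eq_zero.mp hs
  generalize v - w = t at h0
  induction t using LocalizedModule.induction_on with
  | h m s =>
    rw [LocalizedModule.smul'_mk] at h0
    obtain ⟨u, hu, hum⟩ := (mk_eq_zero_iff' p _ s).mp h0
    rw [smul_comm] at hum
    have hum' : u • m = 0 := hz (show z • (u • m) = z • (0 : M) by rw [smul_zero]; exact hum)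
    exact (mk_eq_zero_iff' p m s).mpr ⟨u, hu, hum'⟩

end pointwise

section sections

variable (A : Type u) [CommRing A] (J : Ideal A) (M : Type u) [AddCommGroup M] [Module A M]

/-- The open set `Spec A ∖ V(J)` as an open of `PrimeSpectrum.Top A`. -/
def DJ : Opens (PrimeSpectrum.Top A) :=
  ⟨(PrimeSpectrum.zeroLocus (J : Set A))ᶜ, (PrimeSpectrum.isClosed_zeroLocus _).isOpen_compl⟩

/-- Sections of `M~` over `Spec A ∖ V(J)`: locally-fraction functions. -/
abbrev Sec : Type u := (structureSheafInType A M).obj.obj (op (DJ A J))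

variable {A J M}

lemma mem_openCompl_iff (x : PrimeSpectrum.Top A) : x ∈ DJ A J ↔ ¬ J ≤ x.asIdeal :=
  not_congr ((PrimeSpectrum.mem_zeroLocus x (J : Set A)).trans SetLike.coe_subset_coe)

lemma toOpenₗ_val (U : Opens (PrimeSpectrum.Top A)) (m : M) (x : U) :
    (StructureSheaf.toOpenₗ A M U m).1 x = LocalizedModule.mk m 1 := rfl

lemma sec_sub_val (s t : Sec A J M) (x : DJ A J) : (s - t).1 x = s.1 x - t.1 x := rfl

lemma basicOpen_le_openCompl {f : A} (hf : f ∈ J) :
    PrimeSpectrum.basicOpen f ≤ DJ A J := by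
  intro x hx
  exact (mem_openCompl_iff x).mpr (fun hJ => hx (hJ hf))

/-- On `D(f)`, `f ∈ J`, a power of `f` times a section is an element of `M`. -/
lemma exists_pow_smul_eq_on_basicOpen (s : Sec A J M) {f : A} (hf : f ∈ J) :
    ∃ (n : ℕ) (m : M), ∀ x : DJ A J, f ∉ x.1.asIdeal →
      f ^ n • s.1 x = LocalizedModule.mk m 1 := by
  obtain ⟨⟨m, ⟨_, n, rfl⟩⟩, h⟩ := IsLocalizedModule.surj (Submonoid.powers f)
    (StructureSheaf.toOpenₗ A M (PrimeSpectrum.basicOpen f))
    ((structureSheafInType A M).obj.map (homOfLE (basicOpen_le_openCompl hf)).op s)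
  refine ⟨n, m, fun x hx => ?_⟩
  have := congrArg (fun t => t.1 ⟨x.1, hx⟩) h
  exact this

set_option backward.isDefEq.respectTransparency.types false in
/-- A section vanishing on `U ∩ D(h)` is killed by a power of `h`. -/
lemma exists_pow_smul_eq_zero_of_vanish [IsNoetherianRing A] (t : Sec A J M) (h : A)
    (ht : ∀ x : DJ A J, h ∉ x.1.asIdeal → t.1 x = 0) :
    ∃ k : ℕ, ∀ x : DJ A J, h ^ k • t.1 x = 0 := by
  have hcomp : IsCompact ((DJ A J : Set (PrimeSpectrum.Top A))) :=
    TopologicalSpace.NoetherianSpace.isCompact (α := PrimeSpectrum A) _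
  have key := hcomp.induction_on
    (p := fun W => ∃ k : ℕ, ∀ x : DJ A J, x.1 ∈ W → h ^ k • t.1 x = 0) ?_ ?_ ?_ ?_
  · obtain ⟨k, hk⟩ := key
    exact ⟨k, fun x => hk x x.2⟩
  · exact ⟨0, fun x hx => absurd hx (Set.notMem_empty _)⟩
  · rintro W W' hWW' ⟨k, hk⟩
    exact ⟨k, fun x hx => hk x (hWW' hx)⟩
  · rintro W W' ⟨k, hk⟩ ⟨k', hk'⟩
    refine ⟨k + k', fun x hx => ?_⟩
    rcases hx with hx | hx
    · rw [pow_add, mul_comm, mul_smul, hk x hx, smul_zero]
    · rw [pow_add, mul_smul, hk' x hx, smul_zero]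
  · intro x hx
    obtain ⟨g, hxg, hgU, r, hconst⟩ := StructureSheaf.exists_const _ t x hx
    have hval : ∀ y (hy : y ∈ PrimeSpectrum.basicOpen g),
        t.1 ⟨y, hgU hy⟩ = LocalizedModule.mk r ⟨g, hy⟩ := by
      intro y hy
      have := congrArg (fun u => u.1 ⟨y, hy⟩) hconst
      exact this.symm
    have hr : ∀ y : PrimeSpectrum A, h * g ∉ y.asIdeal →
        LocalizedModule.mk r (1 : y.asIdeal.primeCompl) = 0 := by
      intro y hy
      have hgy : g ∉ y.asIdeal := fun hg => hy (Ideal.mul_mem_left _ _ hg)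
      have hhy : h ∉ y.asIdeal := fun hh => hy (Ideal.mul_mem_right _ _ hh)
      have h1 := ht ⟨y, hgU hgy⟩ hhy
      rw [hval y hgy] at h1
      obtain ⟨u, hu, hur⟩ := (mk_eq_zero_iff' _ r _).mp h1
      exact (mk_eq_zero_iff' _ r 1).mpr ⟨u, hu, hur⟩
    obtain ⟨k, hk⟩ := exists_pow_smul_eq_zero (h * g) r hr
    refine ⟨((PrimeSpectrum.basicOpen g : Opens (PrimeSpectrum A)) : Set (PrimeSpectrum A)),
      mem_nhdsWithin_of_mem_nhds ((PrimeSpectrum.basicOpen g).2.mem_nhds hxg), k, fun y hy => ?_⟩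
    have hgy : g ∉ y.1.asIdeal := hy
    have hty : t.1 y = LocalizedModule.mk r ⟨g, hgy⟩ := hval y.1 hgy
    rw [hty]
    have hgk : g ^ k ∉ y.1.asIdeal := fun hmem => hgy (Ideal.IsPrime.mem_of_pow_mem inferInstance _ hmem)
    apply eq_zero_of_smul_eq_zero_of_notMem y.1.asIdeal hgk
    rw [LocalizedModule.smul'_mk, LocalizedModule.smul'_mk, ← mul_smul, ← mul_pow, mul_comm g h, hk,
      LocalizedModule.zero_mk]

/-- The ideal of denominators of a section. -/
def denomIdeal (s : Sec A J M) : Ideal A where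
  carrier := {a | ∃ m : M, ∀ x : DJ A J, a • s.1 x = LocalizedModule.mk m 1}
  zero_mem' := ⟨0, fun x => by rw [zero_smul, LocalizedModule.zero_mk]⟩
  add_mem' := by
    rintro a b ⟨m, hm⟩ ⟨m', hm'⟩
    exact ⟨m + m', fun x => by rw [add_smul, hm, hm', mk_one_add]⟩
  smul_mem' := by
    rintro c a ⟨m, hm⟩
    exact ⟨c • m, fun x => by rw [smul_eq_mul, mul_smul, hm, LocalizedModule.smul'_mk]⟩

lemma mem_denomIdeal (s : Sec A J M) (a : A) : a ∈ denomIdeal s ↔
    ∃ m : M, ∀ x : DJ A J, a • s.1 x = LocalizedModule.mk m 1 := Iff.rfl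

lemma le_radical_denomIdeal [IsNoetherianRing A] (s : Sec A J M) :
    J ≤ (denomIdeal s).radical := by
  intro f hf
  obtain ⟨n, m, hnm⟩ := exists_pow_smul_eq_on_basicOpen s hf
  have ht : ∀ x : DJ A J, f ∉ x.1.asIdeal →
      (f ^ n • s - StructureSheaf.toOpenₗ A M _ m : Sec A J M).1 x = 0 := by
    intro x hx
    rw [sec_sub_val, toOpenₗ_val, structureSheafInType.smul_apply, hnm x hx, sub_self]
  obtain ⟨k, hk⟩ := exists_pow_smul_eq_zero_of_vanish _ f ht
  refine ⟨k + n, f ^ k • m, fun x => ?_⟩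
  have := hk x
  rw [sec_sub_val, toOpenₗ_val, structureSheafInType.smul_apply, smul_sub, sub_eq_zero, ← mul_smul,
    ← pow_add, LocalizedModule.smul'_mk] at this
  exact this

end sections

section bridge

variable (A : Type u) [CommRing A] (J : Ideal A) (M : Type u) [AddCommGroup M] [Module A M]

/-- Algebraic form of: restriction of global sections of `M~` to `Spec A ∖ V(J)` is injective. -/
def PInj : Prop := ∀ m : M, (∀ x : PrimeSpectrum A, ¬ J ≤ x.asIdeal →
  LocalizedModule.mk m (1 : x.asIdeal.primeCompl) = 0) → m = 0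

/-- Every section of `M~` over `Spec A ∖ V(J)` comes from an element of `M`. -/
def PSurj : Prop := ∀ s : Sec A J M, ∃ m : M, ∀ x : DJ A J, s.1 x = LocalizedModule.mk m 1

set_option backward.isDefEq.respectTransparency false in
theorem restrCompl_injective_iff :
    Function.Injective (EGA4.restrCompl A J M) ↔ PInj A J M := by
  constructor
  · intro hinj m hm
    have h1 : (EGA4.restrCompl A J M) (StructureSheaf.toOpenₗ A M ⊤ m) =
        (EGA4.restrCompl A J M) (StructureSheaf.toOpenₗ A M ⊤ 0) := by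
      change ((structureSheafInType A M).obj.map (homOfLE (le_top : DJ A J ≤ ⊤)).op
        (StructureSheaf.toOpenₗ A M ⊤ m) : Sec A J M) =
        (structureSheafInType A M).obj.map (homOfLE (le_top : DJ A J ≤ ⊤)).op
          (StructureSheaf.toOpenₗ A M ⊤ 0)
      refine Subtype.ext (funext fun x => ?_)
      change LocalizedModule.mk m (1 : x.1.asIdeal.primeCompl) = LocalizedModule.mk 0 1
      rw [hm x.1 ((mem_openCompl_iff x.1).mp x.2), LocalizedModule.zero_mk]
    exact (StructureSheaf.toOpenₗ_top_bijective (R := A) (M := M)).1 (hinj h1) |>.trans rfl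
  · intro hP a b hab
    obtain ⟨m, rfl⟩ := (StructureSheaf.toOpenₗ_top_bijective (R := A) (M := M)).2 a
    obtain ⟨m', rfl⟩ := (StructureSheaf.toOpenₗ_top_bijective (R := A) (M := M)).2 b
    have h0 : m - m' = 0 := hP (m - m') (fun x hx => by
      have := congrArg (fun t : Sec A J M => t.1 ⟨x, (mem_openCompl_iff x).mpr hx⟩) hab
      change LocalizedModule.mk m (1 : x.asIdeal.primeCompl) = LocalizedModule.mk m' 1 at this
      rw [mk_one_sub, this, sub_self])
    rw [sub_eq_zero.mp h0]

set_option backward.isDefEq.respectTransparency false in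
theorem restrCompl_surjective_iff :
    Function.Surjective (EGA4.restrCompl A J M) ↔ PSurj A J M := by
  constructor
  · intro hs s
    obtain ⟨a, ha⟩ := hs s
    obtain ⟨m, rfl⟩ := (StructureSheaf.toOpenₗ_top_bijective (R := A) (M := M)).2 a
    refine ⟨m, fun x => ?_⟩
    have := congrArg (fun t : Sec A J M => t.1 x) ha
    exact this.symm
  · intro hP s
    obtain ⟨m, hm⟩ := hP s
    refine ⟨StructureSheaf.toOpenₗ A M ⊤ m, ?_⟩
    change ((structureSheafInType A M).obj.map (homOfLE (le_top : DJ A J ≤ ⊤)).op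
        (StructureSheaf.toOpenₗ A M ⊤ m) : Sec A J M) = s
    exact Subtype.ext (funext fun x => (hm x).symm)

end bridge

section criteria

open RingTheory.Sequence

variable {A : Type u} [CommRing A] [IsNoetherianRing A] {J : Ideal A}
  {M : Type u} [AddCommGroup M] [Module A M]

/-- `M → Γ(Spec A ∖ V(J), M~)` is injective iff no associated prime of `M` contains `J`. -/
theorem pInj_iff_forall_associatedPrimes :
    PInj A J M ↔ ∀ p ∈ associatedPrimes A M, ¬ J ≤ p := by
  constructor
  · intro hP p hp hJp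
    obtain ⟨hpp, m, hm⟩ := isAssociatedPrime_iff.mp hp
    have hm0 : m = 0 := hP m (fun x hx => by
      have hpx : ¬ p ≤ x.asIdeal := fun hpx => hx (hJp.trans hpx)
      obtain ⟨u, hup, hux⟩ := SetLike.not_le_iff_exists.mp hpx
      rw [hm, Submodule.mem_colon_singleton, Submodule.mem_bot] at hup
      exact (mk_eq_zero_iff' _ m 1).mpr ⟨u, hux, hup⟩)
    apply hpp.ne_top
    rw [hm, hm0, eq_top_iff]
    intro a _
    rw [Submodule.mem_colon_singleton, smul_zero]
    exact Submodule.zero_mem _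
  · intro h m hm
    by_contra hm0
    have hN : Nontrivial (Submodule.span A {m}) :=
      ⟨⟨⟨m, Submodule.mem_span_singleton_self m⟩, 0, fun h => hm0 (congrArg Subtype.val h)⟩⟩
    obtain ⟨p, hp⟩ := associatedPrimes.nonempty A (Submodule.span A {m})
    have hpM : p ∈ associatedPrimes A M :=
      associatedPrimes.subset_of_injective (Submodule.subtype_injective (Submodule.span A {m})) hp
    obtain ⟨hpp, ⟨n, hn⟩, hpn⟩ := isAssociatedPrime_iff.mp hp
    obtain ⟨a, rfl⟩ := Submodule.mem_span_singleton.mp hn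
    apply h p hpM
    by_contra hJp
    have h0 := hm ⟨p, hpp⟩ hJp
    obtain ⟨u, hu, hum⟩ := (mk_eq_zero_iff' p m 1).mp h0
    apply hu
    rw [hpn, Submodule.mem_colon_singleton, Submodule.mem_bot]
    apply Subtype.ext
    change u • a • m = 0
    rw [smul_comm, hum, smul_zero]

variable [Module.Finite A M]

theorem pInj_of_one_le_idealDepth (h : 1 ≤ LocCoh.idealDepth J M) : PInj A J M := by
  intro m hm
  have key : ∃ y ∈ J, ∀ k : ℕ, y ^ k • m = 0 → m = 0 := by
    by_cases hJM : J • (⊤ : Submodule A M) = ⊤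
    · obtain ⟨a, ha1, ha⟩ := Submodule.exists_sub_one_mem_and_smul_eq_zero_of_fg_of_le_smul J
        (⊤ : Submodule A M) Module.Finite.fg_top (by rw [hJM])
      refine ⟨1 - a, by simpa using J.neg_mem ha1, fun k hk => ?_⟩
      have hb : ∀ n : M, (1 - a) • n = n := fun n => by
        rw [sub_smul, one_smul, ha n Submodule.mem_top, sub_zero]
      have hbk : ∀ k : ℕ, (1 - a) ^ k • m = m := fun k => by
        induction k with
        | zero => rw [pow_zero, one_smul]
        | succ k ih => rw [pow_succ, mul_smul, hb, ih]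
      rw [← hbk k, hk]
    · obtain ⟨y, hyJ, hy⟩ := (one_le_idealDepth_iff J hJM).mp h
      exact ⟨y, hyJ, fun k hk => (hy.pow k)
        (show y ^ k • m = y ^ k • (0 : M) by rw [smul_zero]; exact hk)⟩
  obtain ⟨y, hyJ, hy⟩ := key
  obtain ⟨k, hk⟩ := exists_pow_smul_eq_zero y m (fun x hx => hm x (fun hJx => hx (hJx hyJ)))
  exact hy k hk

/-- If `depth_J M ≥ 2` then every section of `M~` over `Spec A ∖ V(J)` extends to a global
section. -/
theorem pSurj_of_two_le_idealDepth (h2 : 2 ≤ LocCoh.idealDepth J M) : PSurj A J M := by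
  intro s
  have hJ𝔞 := le_radical_denomIdeal s
  have hzl : PrimeSpectrum.zeroLocus ((denomIdeal s : Ideal A) : Set A) ⊆
      PrimeSpectrum.zeroLocus (J : Set A) := by
    rw [← PrimeSpectrum.zeroLocus_radical (denomIdeal s)]
    exact PrimeSpectrum.zeroLocus_anti_mono_ideal hJ𝔞
  have h2' : 2 ≤ LocCoh.idealDepth (denomIdeal s) M :=
    h2.trans (idealDepth_le_of_zeroLocus_subset J (denomIdeal s) M hzl)
  by_cases htop : (denomIdeal s) • (⊤ : Submodule A M) = ⊤
  · obtain ⟨a, ha1, ha⟩ := Submodule.exists_sub_one_mem_and_smul_eq_zero_of_fg_of_le_smul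
      (denomIdeal s) (⊤ : Submodule A M) Module.Finite.fg_top (by rw [htop])
    have hb : 1 - a ∈ denomIdeal s := by simpa using (denomIdeal s).neg_mem ha1
    obtain ⟨m, hm⟩ := (mem_denomIdeal s _).mp hb
    refine ⟨m, fun x => ?_⟩
    rw [← hm x, sub_smul, one_smul]
    have ha0 : ∀ v : LocalizedModule x.1.asIdeal.primeCompl M, a • v = 0 := fun v => by
      induction v using LocalizedModule.induction_on with
      | h n t => rw [LocalizedModule.smul'_mk, ha n Submodule.mem_top, LocalizedModule.zero_mk]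
    rw [ha0, sub_zero]
  · obtain ⟨rs, hlen, hmem, hreg⟩ := exists_isWeaklyRegular_of_le_idealDepth (denomIdeal s) htop 2
      (by exact_mod_cast h2')
    obtain ⟨z1, z2, rfl⟩ := List.length_eq_two.mp hlen
    have hz1 : z1 ∈ denomIdeal s := hmem z1 (by simp)
    have hz2 : z2 ∈ denomIdeal s := hmem z2 (by simp)
    obtain ⟨m1, hm1⟩ := (mem_denomIdeal s z1).mp hz1
    obtain ⟨m2, hm2⟩ := (mem_denomIdeal s z2).mp hz2
    rw [isWeaklyRegular_cons_iff] at hreg
    obtain ⟨hr1, hreg2⟩ := hreg
    rw [isWeaklyRegular_cons_iff] at hreg2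
    obtain ⟨hr2, -⟩ := hreg2
    have hP := pInj_of_one_le_idealDepth (le_trans (by norm_num) h2)
    have hcomm : z2 • m1 = z1 • m2 := by
      rw [← sub_eq_zero]
      apply hP
      intro x hx
      rw [mk_one_sub, ← LocalizedModule.smul'_mk, ← LocalizedModule.smul'_mk,
        ← hm1 ⟨x, (mem_openCompl_iff x).mpr hx⟩, ← hm2 ⟨x, (mem_openCompl_iff x).mpr hx⟩,
        smul_comm, sub_self]
    have hq : (Submodule.Quotient.mk m1 : QuotSMulTop z1 M) = 0 := by
      apply hr2
      change z2 • (Submodule.Quotient.mk m1 : QuotSMulTop z1 M) = z2 • 0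
      rw [smul_zero, ← Submodule.Quotient.mk_smul, hcomm, Submodule.Quotient.mk_eq_zero]
      exact Submodule.smul_mem_pointwise_smul m2 z1 ⊤ Submodule.mem_top
    rw [Submodule.Quotient.mk_eq_zero, Submodule.mem_smul_pointwise_iff_exists] at hq
    obtain ⟨m, -, hm⟩ := hq
    refine ⟨m, fun x => ?_⟩
    have hregx := isSMulRegular_localizedModule' x.1.asIdeal hr1
    apply hregx
    change z1 • s.1 x = z1 • LocalizedModule.mk m 1
    rw [hm1 x, LocalizedModule.smul'_mk, hm]

set_option backward.isDefEq.respectTransparency.types false in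
/-- If sections of `M~` restrict injectively to `Spec A ∖ V(q)` for all primes `q ⊇ p` and
bijectively for `q = p`, then `depth M_p ≥ 2`. -/
theorem two_le_depth_of_closed (p : Ideal A) [p.IsPrime]
    (hinj : ∀ q : Ideal A, q.IsPrime → p ≤ q → PInj A q M) (hsurj : PSurj A p M) :
    2 ≤ LocCoh.depth (Localization.AtPrime p) (LocalizedModule p.primeCompl M) := by
  by_contra hlt
  have hass : ∀ q ∈ associatedPrimes A M, ¬ p ≤ q := fun q hq hpq =>
    (pInj_iff_forall_associatedPrimes.mp (hinj q hq.isPrime hpq)) q hq le_rfl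
  by_cases hnt : Nontrivial M
  swap
  · rw [not_nontrivial_iff_subsingleton] at hnt
    have : Subsingleton (LocalizedModule p.primeCompl M) := by
      refine ⟨fun a b => ?_⟩
      induction a using LocalizedModule.induction_on with
      | h m s =>
        induction b using LocalizedModule.induction_on with
        | h m' s' => rw [Subsingleton.elim m 0, Subsingleton.elim m' 0, LocalizedModule.zero_mk,
            LocalizedModule.zero_mk]
    apply hlt
    rw [depth_eq_top_of_subsingleton]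
    exact le_top
  have hy : ∃ y ∈ p, IsSMulRegular M y := by
    by_contra hcon
    push Not at hcon
    obtain ⟨q, hq, hpq⟩ := (forall_not_isSMulRegular_iff_exists_le_associatedPrime p).mp hcon
    exact hass q hq hpq
  obtain ⟨y1, hy1p, hy1⟩ := hy
  have hd := Groth.Agent.Lib.Helper28.depth_localization_quotSMulTop p hy1p hy1
  have h0 : LocCoh.depth (Localization.AtPrime p)
      (LocalizedModule p.primeCompl (QuotSMulTop y1 M)) = 0 := by
    by_contra hne
    apply hlt
    rw [← hd]
    have h1 : 1 ≤ LocCoh.depth (Localization.AtPrime p)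
        (LocalizedModule p.primeCompl (QuotSMulTop y1 M)) :=
      Order.one_le_iff_pos.mpr (pos_iff_ne_zero.mpr hne)
    calc (2 : ℕ∞) = 1 + 1 := by norm_num
      _ ≤ _ := add_le_add_left h1 1
  have hpass : p ∈ associatedPrimes A (QuotSMulTop y1 M) :=
    (depth_localizedModule_eq_zero_iff p).mp h0
  obtain ⟨_, mbar, hmbar⟩ := isAssociatedPrime_iff.mp hpass
  obtain ⟨m, rfl⟩ := Submodule.Quotient.mk_surjective _ mbar
  have hpm : ∀ a : A, a ∈ p ↔ ∃ n : M, y1 • n = a • m := by
    intro a
    rw [hmbar, Submodule.mem_colon_singleton, Submodule.mem_bot, ← Submodule.Quotient.mk_smul,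
      Submodule.Quotient.mk_eq_zero, Submodule.mem_smul_pointwise_iff_exists]
    constructor
    · rintro ⟨n, -, hn⟩; exact ⟨n, hn⟩
    · rintro ⟨n, hn⟩; exact ⟨n, Submodule.mem_top, hn⟩
  have hex : ∀ x : DJ A p, ∃ (y : A) (n : M), y ∈ p ∧ y ∉ x.1.asIdeal ∧ y1 • n = y • m := by
    intro x
    obtain ⟨y, hyp, hyx⟩ := SetLike.not_le_iff_exists.mp ((mem_openCompl_iff x.1).mp x.2)
    obtain ⟨n, hn⟩ := (hpm y).mp hyp
    exact ⟨y, n, hyp, hyx, hn⟩
  choose Y N hYp hYx hYN using hex
  have hloc : (StructureSheaf.isLocallyFraction A M).pred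
      (fun x : DJ A p => (LocalizedModule.mk (N x) ⟨Y x, hYx x⟩ :
        LocalizedModule x.1.asIdeal.primeCompl M)) := by
    intro x
    refine ⟨DJ A p ⊓ PrimeSpectrum.basicOpen (Y x), ⟨x.2, hYx x⟩, Opens.infLELeft _ _, N x, Y x,
      fun z => ⟨z.2.2, ?_⟩⟩
    change LocalizedModule.mk (N ⟨z.1, z.2.1⟩) ⟨Y ⟨z.1, z.2.1⟩, _⟩ = LocalizedModule.mk (N x) ⟨Y x, _⟩
    rw [LocalizedModule.mk_eq]
    refine ⟨1, ?_⟩
    simp only [one_smul, Submonoid.smul_def]
    apply hy1
    change y1 • (Y x • N ⟨z.1, z.2.1⟩) = y1 • (Y ⟨z.1, z.2.1⟩ • N x)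
    rw [smul_comm, hYN, smul_comm y1, hYN, smul_smul, smul_smul, mul_comm]
  obtain ⟨m', hm'⟩ := hsurj ⟨_, hloc⟩
  have hfin : y1 • m' = m := by
    rw [← sub_eq_zero]
    apply hinj p inferInstance le_rfl
    intro x hx
    have hx' : x ∈ DJ A p := (mem_openCompl_iff x).mpr hx
    have h1 := hm' ⟨x, hx'⟩
    change LocalizedModule.mk (N ⟨x, hx'⟩) ⟨Y ⟨x, hx'⟩, _⟩ = LocalizedModule.mk m' 1 at h1
    rw [mk_one_sub, ← LocalizedModule.smul'_mk, ← h1, LocalizedModule.smul'_mk, hYN,
      ← LocalizedModule.mk_cancel (⟨Y ⟨x, hx'⟩, hYx ⟨x, hx'⟩⟩ : x.asIdeal.primeCompl) m]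
    exact sub_self _
  have h1p : (1 : A) ∈ p := (hpm 1).mpr ⟨m', by rw [hfin, one_smul]⟩
  exact (Ideal.ne_top_iff_one p).mp (Ideal.IsPrime.ne_top inferInstance) h1p

end criteria

section along

variable {A : Type u} [CommRing A] [IsNoetherianRing A] (Z : Set (PrimeSpectrum A))
  (hZ : StableUnderSpecialization Z) (M : Type u) [AddCommGroup M] [Module A M]

include hZ in
lemma zeroLocus_subset_of_mem {p : PrimeSpectrum A} (hp : p ∈ Z) (q : Ideal A)
    (hpq : p.asIdeal ≤ q) : PrimeSpectrum.zeroLocus (q : Set A) ⊆ Z := by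
  intro x hx
  have hqx : q ≤ x.asIdeal := by
    rw [PrimeSpectrum.mem_zeroLocus, SetLike.coe_subset_coe] at hx
    exact hx
  exact hZ ((PrimeSpectrum.le_iff_specializes p x).mp (hpq.trans hqx)) hp

include hZ in
/-- `M` is `Z`-pure iff no associated prime of `M` lies in `Z`. -/
theorem isPureAlong_iff_associatedPrimes :
    EGA4.IsPureAlong Z M ↔
      ∀ p : PrimeSpectrum A, p.asIdeal ∈ associatedPrimes A M → p ∉ Z := by
  constructor
  · intro h p hp hpZ
    have hP := (restrCompl_injective_iff A p.asIdeal M).mp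
      (h p.asIdeal (zeroLocus_subset_of_mem Z hZ hpZ p.asIdeal le_rfl))
    exact pInj_iff_forall_associatedPrimes.mp hP p.asIdeal hp le_rfl
  · intro h J hJ
    refine (restrCompl_injective_iff A J M).mpr (pInj_iff_forall_associatedPrimes.mpr ?_)
    intro q hq hJq
    refine h ⟨q, hq.isPrime⟩ hq (hJ ?_)
    rw [PrimeSpectrum.mem_zeroLocus, SetLike.coe_subset_coe]
    exact hJq

include hZ in
/-- For finite `M`: `Z`-pure iff `depth M_p ≥ 1` on `Z`. -/
theorem isPureAlong_iff_depth [Module.Finite A M] :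
    EGA4.IsPureAlong Z M ↔ ∀ p : PrimeSpectrum A, p ∈ Z →
      (1 : ℕ∞) ≤ LocCoh.depth (Localization.AtPrime p.asIdeal)
        (LocalizedModule p.asIdeal.primeCompl M) := by
  rw [isPureAlong_iff_associatedPrimes Z hZ M]
  constructor
  · intro h p hpZ
    refine Order.one_le_iff_pos.mpr (pos_iff_ne_zero.mpr fun h0 => ?_)
    exact h p ((depth_localizedModule_eq_zero_iff p.asIdeal).mp h0) hpZ
  · intro h p hp hpZ
    have h1 := h p hpZ
    rw [(depth_localizedModule_eq_zero_iff p.asIdeal).mpr hp] at h1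
    exact absurd h1 (by norm_num)

include hZ in
/-- For finite `M`: `Z`-closed iff `depth M_p ≥ 2` on `Z`. -/
theorem isClosedAlong_iff_depth [Module.Finite A M] :
    EGA4.IsClosedAlong Z M ↔ ∀ p : PrimeSpectrum A, p ∈ Z →
      (2 : ℕ∞) ≤ LocCoh.depth (Localization.AtPrime p.asIdeal)
        (LocalizedModule p.asIdeal.primeCompl M) := by
  constructor
  · intro h p hpZ
    refine two_le_depth_of_closed p.asIdeal (fun q hq hpq => ?_) ?_
    · exact (restrCompl_injective_iff A q M).mp (h q (zeroLocus_subset_of_mem Z hZ hpZ q hpq)).1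
    · exact (restrCompl_surjective_iff A p.asIdeal M).mp
        (h p.asIdeal (zeroLocus_subset_of_mem Z hZ hpZ p.asIdeal le_rfl)).2
  · intro h J hJ
    have h2 : (2 : ℕ∞) ≤ LocCoh.idealDepth J M := by
      have := Groth.Agent.Lib.Helper28.le_idealDepth_of_forall_localization (M := M) J 2
        (fun q hq hJq _ => by
          have hqZ : (⟨q, hq⟩ : PrimeSpectrum A) ∈ Z := hJ (by
            rw [PrimeSpectrum.mem_zeroLocus, SetLike.coe_subset_coe]
            exact hJq)
          exact_mod_cast h ⟨q, hq⟩ hqZ)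
      exact_mod_cast this
    exact ⟨(restrCompl_injective_iff A J M).mpr
        (pInj_of_one_le_idealDepth (le_trans (by norm_num) h2)),
      (restrCompl_surjective_iff A J M).mpr (pSurj_of_two_le_idealDepth h2)⟩

end along

end Groth.Agent.Lib.Helper4
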