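import Groth.Agent.Lib.Helper4.DualLoc
import Groth.Agent.Lib.Helper4.HomDepth
import Groth.Agent.Lib.Helper4.SkRing
import Groth.Agent.Lib.Helper4.ZClosed

/-!
# Reflexive modules and depth (helper4)
-/

set_option autoImplicit false

universe u

open Module

namespace Groth.Agent.Lib.Helper4

section assInj

variable {R : Type u} [CommRing R] [IsNoetherianRing R] {M N : Type u} [AddCommGroup M]
  [Module R M] [AddCommGroup N] [Module R N]

/-- A map which is injective after localizing at the associated primes of the source is
injective. -/
theorem injective_of_localization_or_notMem_ass (φ : M →ₗ[R] N)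
    (h : ∀ (p : Ideal R) [p.IsPrime],
      Function.Injective (LocalizedModule.map p.primeCompl φ) ∨ p ∉ associatedPrimes R M) :
    Function.Injective φ := by
  rw [← LinearMap.ker_eq_bot]
  by_contra hne
  haveI : Nontrivial (LinearMap.ker φ) := Submodule.nontrivial_iff_ne_bot.mpr hne
  obtain ⟨p, hp⟩ := associatedPrimes.nonempty R (LinearMap.ker φ)
  have hpM : p ∈ associatedPrimes R M :=
    associatedPrimes.subset_of_injective (f := (LinearMap.ker φ).subtype)
      (Submodule.injective_subtype _) hp
  haveI : p.IsPrime := hp.isPrime
  rcases h p with hinj | hnot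
  · obtain ⟨_, x, hx⟩ := (isAssociatedPrime_iff).mp hp
    have hx0 : LocalizedModule.mk (x : M) (1 : p.primeCompl) = 0 := by
      apply hinj
      rw [LocalizedModule.map_mk, map_zero, LinearMap.mem_ker.mp x.2, LocalizedModule.zero_mk]
    obtain ⟨u, hu, hux⟩ := (mk_eq_zero_iff' p (x : M) 1).mp hx0
    apply hu
    rw [hx, Submodule.mem_colon_singleton, Submodule.mem_bot]
    ext
    simpa using hux
  · exact hnot hpM

omit [IsNoetherianRing R] in
/-- Associated primes of a torsion-free module over a domain are zero. -/
lemma eq_bot_of_mem_associatedPrimes_of_isTorsionFree [IsDomain R] [IsTorsionFree R M]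
    {p : Ideal R} (hp : p ∈ associatedPrimes R M) : p = ⊥ := by
  obtain ⟨hpp, x, hx⟩ := hp
  have hx0 : x ≠ 0 := by
    rintro rfl
    apply hpp.ne_top
    rw [hx, Ideal.eq_top_iff_one]
    refine Ideal.le_radical ?_
    rw [Submodule.mem_colon_singleton]
    simp
  rw [eq_bot_iff]
  intro r hr
  rw [hx] at hr
  obtain ⟨k, hk⟩ := hr
  rw [Submodule.mem_colon_singleton, Submodule.mem_bot] at hk
  rcases smul_eq_zero.mp hk with h | h
  · rw [Ideal.mem_bot]
    exact pow_eq_zero_iff (n := k) (by rintro rfl; simp at h) |>.mp h
  · exact absurd h hx0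

end assInj

section depthRefl

variable (R : Type u) [CommRing R] [IsDomain R] [IsNoetherianRing R] (M : Type u)
  [AddCommGroup M] [Module R M] [Module.Finite R M]

/-- For reflexive `M`, `depth M_p ≥ min(2, depth R_p)`. -/
theorem le_depth_localizedModule_of_isReflexive [IsReflexive R M] (p : Ideal R) [p.IsPrime] :
    (1 ≤ LocCoh.depth (Localization.AtPrime p) (Localization.AtPrime p) →
      1 ≤ LocCoh.depth (Localization.AtPrime p) (LocalizedModule p.primeCompl M)) ∧
    (2 ≤ LocCoh.depth (Localization.AtPrime p) (Localization.AtPrime p) →
      2 ≤ LocCoh.depth (Localization.AtPrime p) (LocalizedModule p.primeCompl M)) := by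
  haveI : IsReflexive (Localization.AtPrime p) (LocalizedModule p.primeCompl M) :=
    (isReflexive_iff_forall_prime R M).mp inferInstance p
  have hd : LocCoh.depth (Localization.AtPrime p) (LocalizedModule p.primeCompl M) =
      LocCoh.idealDepth (IsLocalRing.maximalIdeal (Localization.AtPrime p))
        (Dual (Localization.AtPrime p) (LocalizedModule p.primeCompl M) →ₗ[Localization.AtPrime p]
          Localization.AtPrime p) :=
    idealDepth_congr _ (Module.evalEquiv (Localization.AtPrime p)
      (LocalizedModule p.primeCompl M))
  rw [hd]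
  exact ⟨one_le_idealDepth_linearMap _, two_le_idealDepth_linearMap _⟩

theorem hasS2_of_isReflexive [IsReflexive R M] (hS2 : LocCoh.HasSk 2 R R) :
    LocCoh.HasSk 2 R M := by
  intro p _
  have h1 := (hasSk_self_iff' 2).mp hS2 p
  have hdim : Module.supportDim (Localization.AtPrime p) (LocalizedModule p.primeCompl M) ≤
      ((p.height : ℕ∞) : WithBot ℕ∞) := by
    rw [← IsLocalization.AtPrime.ringKrullDim_eq_height p (Localization.AtPrime p)]
    exact Module.supportDim_le_ringKrullDim _ _
  obtain ⟨l1, l2⟩ := le_depth_localizedModule_of_isReflexive R M p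
  have hdep : min 2 (LocCoh.depth (Localization.AtPrime p) (Localization.AtPrime p)) ≤
      LocCoh.depth (Localization.AtPrime p) (LocalizedModule p.primeCompl M) := by
    by_cases h2 : 2 ≤ LocCoh.depth (Localization.AtPrime p) (Localization.AtPrime p)
    · exact le_trans (min_le_left _ _) (l2 h2)
    · by_cases h1' : 1 ≤ LocCoh.depth (Localization.AtPrime p) (Localization.AtPrime p)
      · have hle : LocCoh.depth (Localization.AtPrime p) (Localization.AtPrime p) ≤ 1 := by
          have : LocCoh.depth (Localization.AtPrime p) (Localization.AtPrime p) < 1 + 1 := by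
            rw [one_add_one_eq_two]; exact not_le.mp h2
          exact Order.le_of_lt_add_one this
        exact le_trans (min_le_right _ _) (le_trans hle (l1 h1'))
      · have h0 : LocCoh.depth (Localization.AtPrime p) (Localization.AtPrime p) = 0 :=
          Order.lt_one_iff.mp (not_le.mp h1')
        rw [h0]
        simp
  have h3 : min (2 : ℕ∞) p.height ≤
      LocCoh.depth (Localization.AtPrime p) (LocalizedModule p.primeCompl M) :=
    le_trans (le_min (min_le_left _ _) h1) hdep
  have hk : ((2 : ℕ) : WithBot ℕ∞) = (((2 : ℕ∞)) : WithBot ℕ∞) := rfl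
  refine le_trans (min_le_min le_rfl hdim) ?_
  rw [hk, ← WithBot.coe_min, WithBot.coe_le_coe]
  exact h3

end depthRefl

section reflCrit

variable (R : Type u) [CommRing R] [IsDomain R] [IsNoetherianRing R] (M : Type u)
  [AddCommGroup M] [Module R M] [Module.Finite R M]

/-- `M` is reflexive iff for each prime either `M_p` is reflexive or `depth M_p ≥ 2`. -/
theorem isReflexive_iff_forall_localization_or_depth :
    IsReflexive R M ↔ ∀ (p : Ideal R) [p.IsPrime],
      IsReflexive (Localization.AtPrime p) (LocalizedModule p.primeCompl M) ∨
        2 ≤ LocCoh.depth (Localization.AtPrime p) (LocalizedModule p.primeCompl M) := by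
  constructor
  · intro h p hp
    exact Or.inl ((isReflexive_iff_forall_prime R M).mp h p)
  · intro h
    have hinj : Function.Injective (Dual.eval R M) := by
      apply injective_of_localization_or_notMem_ass
      intro p hp
      rcases h p with hr | hd
      · exact Or.inl ((isReflexive_localizedModule_iff R M p).mp hr).1
      · refine Or.inr fun hass => ?_
        rw [(depth_localizedModule_eq_zero_iff p).mpr hass] at hd
        exact absurd hd (by norm_num)
    refine ⟨⟨hinj, ?_⟩⟩
    rw [← LinearMap.range_eq_top]
    by_contra hne
    set Q := Dual R (Dual R M) ⧸ LinearMap.range (Dual.eval R M) with hQ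
    haveI : Nontrivial Q := Submodule.Quotient.nontrivial_iff.mpr hne
    obtain ⟨p, hp⟩ := associatedPrimes.nonempty R Q
    haveI : p.IsPrime := hp.isPrime
    have hsupp := mem_support_of_mem_associatedPrimes hp
    have hex : Function.Exact (LocalizedModule.map p.primeCompl (Dual.eval R M))
        (LocalizedModule.map p.primeCompl (LinearMap.range (Dual.eval R M)).mkQ) :=
      LocalizedModule.map_exact p.primeCompl _ _ (LinearMap.exact_map_mkQ_range _)
    have hsurj : Function.Surjective
        (LocalizedModule.map p.primeCompl (LinearMap.range (Dual.eval R M)).mkQ) :=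
      LocalizedModule.map_surjective _ _ (Submodule.mkQ_surjective _)
    rcases h p with hr | hd
    · have hbij := (isReflexive_localizedModule_iff R M p).mp hr
      have hnt : Nontrivial (LocalizedModule p.primeCompl Q) := Module.mem_support_iff.mp hsupp
      obtain ⟨z, hz⟩ := exists_ne (0 : LocalizedModule p.primeCompl Q)
      obtain ⟨w, rfl⟩ := hsurj z
      obtain ⟨v, rfl⟩ := hbij.2 w
      exact hz (hex.apply_apply_eq_zero v)
    · -- `p ≠ ⊥` since `Q` is torsion
      have hpbot : p ≠ ⊥ := by
        obtain ⟨c, hc, -, hcy⟩ := exists_dual_eval_bound R M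
        obtain ⟨_, x, hx⟩ := (isAssociatedPrime_iff).mp hp
        obtain ⟨y, rfl⟩ := Submodule.Quotient.mk_surjective _ x
        intro hpb
        apply hc
        have hcp : c ∈ p := by
          rw [hx, Submodule.mem_colon_singleton, Submodule.mem_bot,
            ← Submodule.Quotient.mk_smul, Submodule.Quotient.mk_eq_zero]
          exact hcy y
        rw [hpb] at hcp
        exact hcp
      have hN : p ∉ associatedPrimes R (Dual R (Dual R M)) := fun hass =>
        hpbot (eq_bot_of_mem_associatedPrimes_of_isTorsionFree hass)
      have hdN : 1 ≤ LocCoh.depth (Localization.AtPrime p)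
          (LocalizedModule p.primeCompl (Dual R (Dual R M))) := by
        refine Order.one_le_iff_pos.mpr (pos_iff_ne_zero.mpr fun h0 => ?_)
        exact hN ((depth_localizedModule_eq_zero_iff p).mp h0)
      have hdQ : LocCoh.depth (Localization.AtPrime p) (LocalizedModule p.primeCompl Q) = 0 :=
        (depth_localizedModule_eq_zero_iff p).mpr hp
      have hlem := (idealDepth_shortExact (IsLocalRing.maximalIdeal (Localization.AtPrime p))
        (LocalizedModule.map p.primeCompl (Dual.eval R M))
        (LocalizedModule.map p.primeCompl (LinearMap.range (Dual.eval R M)).mkQ)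
        (LocalizedModule.map_injective _ _ hinj) hsurj hex).2.1
      have hd1 : 1 ≤ LocCoh.idealDepth (IsLocalRing.maximalIdeal (Localization.AtPrime p))
          (LocalizedModule p.primeCompl M) - 1 := by
        refine ENat.le_sub_of_add_le_right ENat.one_ne_top ?_
        rw [one_add_one_eq_two]
        exact hd
      have : (1 : ℕ∞) ≤ LocCoh.depth (Localization.AtPrime p) (LocalizedModule p.primeCompl Q) :=
        le_trans (le_min hdN hd1) hlem
      rw [hdQ] at this
      exact absurd this (by norm_num)

end reflCrit

end Groth.Agent.Lib.Helper4
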