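import Mathlib
import Groth.Prelude.Def_EGA4b
import Groth.Agent.Lib.Helper4.FlatLocal2
import Groth.Agent.Lib.Helper4.LocTrans
import Groth.Agent.Lib.Helper4.SkOpen
import Groth.Agent.Lib.Helper4.Sk
import Groth.Agent.Lib.Helper4.FlatRing
import Groth.Agent.Lib.Helper22.DimFlat4
import Groth.Agent.Lib.Helper8.LocalCriterion3

/-!
# Serre's condition `(S_k)` for `F ⊗_A E` along a ring map `A → B` with `F` flat over `A` (helper4)

Local formulas `depth (F ⊗ E)_q = depth E_p + depth (F_q / p F_q)` and the same for dimensions,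
and ascent / descent of `(S_k)` (EGA IV 6.4.1 for modules).
-/

set_option autoImplicit false
set_option linter.style.haveILetI false
set_option linter.unusedSectionVars false
set_option linter.unusedVariables false
set_option maxHeartbeats 800000

universe u

open IsLocalRing TensorProduct

namespace Groth.Agent.Lib.Helper4.SkFlatMod

open Groth.Agent.Lib.Helper4

section flatloc

variable {A B : Type u} [CommRing A] [CommRing B] [Algebra A B]
  (F : Type u) [AddCommGroup F] [Module B F] [Module A F] [IsScalarTower A B F]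

/-- A localization (at a submonoid of `B`) of an `A`-flat `B`-module is `A`-flat. -/
theorem flat_localizedModule (S : Submonoid B) [Module.Flat A F] :
    Module.Flat A (LocalizedModule S F) := by
  have H := (Module.Flat.iff_lTensor_injectiveₛ (R := A) (M := F)).mp inferInstance
  rw [Module.Flat.iff_lTensor_injectiveₛ]
  intro P _ _ N
  have key := IsLocalizedModule.map_lTensor (R := A) B S (N := N) (P := P) N.subtype
    (LocalizedModule.mkLinearMap S F)
  rw [← TensorProduct.AlgebraTensorModule.coe_lTensor (A := B), ← key]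
  exact IsLocalizedModule.map_injective S _ _ _ (H N)

/-- `B`-linear version of `tensorQuotEquivQuotMapSMul`. -/
noncomputable def tensorQuotEquiv (I : Ideal A) :
    F ⊗[A] (A ⧸ I) ≃ₗ[B] F ⧸ (I.map (algebraMap A B) • (⊤ : Submodule B F)) :=
  LinearEquiv.ofBijective
    { toFun := tensorQuotEquivQuotMapSMul A B F I
      map_add' := fun x y => map_add _ x y
      map_smul' := fun y z => by
        show tensorQuotEquivQuotMapSMul A B F I (y • z) =
          y • tensorQuotEquivQuotMapSMul A B F I z
        rw [smul_eq_rTensor, tensorQuotEquivQuotMapSMul_rTensor] }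
    (tensorQuotEquivQuotMapSMul A B F I).bijective

/-- An element outside the prime `p'` is regular on `F ⊗ A/p'` when `F` is flat. -/
theorem isSMulRegular_tensor_quot [Module.Flat A F] (p' : Ideal A) [p'.IsPrime] {a : A}
    (ha : a ∉ p') : IsSMulRegular (F ⊗[A] (A ⧸ p')) a := by
  have hinj : Function.Injective (DistribSMul.toLinearMap A (A ⧸ p') a) := by
    intro x y hxy
    have h : a • x = a • y := hxy
    rw [Algebra.smul_def, Algebra.smul_def] at h
    have hne : algebraMap A (A ⧸ p') a ≠ 0 := by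
      rw [Ideal.Quotient.algebraMap_eq, Ne, Ideal.Quotient.eq_zero_iff_mem]
      exact ha
    exact mul_left_cancel₀ hne h
  have h2 := Module.Flat.lTensor_preserves_injective_linearMap (M := F) _ hinj
  intro z z' hzz
  have hzz' : a • z = a • z' := hzz
  apply h2
  rw [← smul_eq_lTensor, ← smul_eq_lTensor]
  exact hzz'

end flatloc

section closed

/-- `(S_k)` of a finite module over a local ring, read at the closed point. -/
theorem closed_of_hasSk {R : Type u} [CommRing R] [IsLocalRing R] (M : Type u) [AddCommGroup M]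
    [Module R M] [Module.Finite R M] (k : ℕ) (h : LocCoh.HasSk k R M) :
    min (k : WithBot ℕ∞) (Module.supportDim R M) ≤ ((LocCoh.depth R M : ℕ∞) : WithBot ℕ∞) := by
  haveI : IsLocalization.AtPrime R (maximalIdeal R) :=
    IsLocalization.of_le_isUnit (fun x hx =>
      (IsUnit.mem_submonoid_iff x).mpr (IsLocalRing.notMem_maximalIdeal.mp hx))
  haveI : IsLocalizedModule (maximalIdeal R).primeCompl (LinearMap.id : M →ₗ[R] M) :=
    isLocalizedModule_id _ M R
  obtain ⟨h1, h2⟩ := LocTrans.depth_supportDim_of_isLocalizedModule (maximalIdeal R) R M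
    (LinearMap.id : M →ₗ[R] M)
  rw [h1, h2]
  exact h (maximalIdeal R)

end closed

section main

variable (A B : Type u) [CommRing A] [CommRing B] [IsNoetherianRing A] [IsNoetherianRing B]
  [Algebra A B]
  (E : Type u) [AddCommGroup E] [Module A E] [Module.Finite A E]
  (F : Type u) [AddCommGroup F] [Module B F] [Module A F] [IsScalarTower A B F]
  [Module.Finite B F] [Module.Flat A F]
  (q : Ideal B) [q.IsPrime]

local notation "Ap" => Localization.AtPrime (Ideal.comap (algebraMap A B) q)
local notation "Bq" => Localization.AtPrime q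
local notation "Ep" => LocalizedModule (Ideal.primeCompl (Ideal.comap (algebraMap A B) q)) E
local notation "Fq" => LocalizedModule (Ideal.primeCompl q) F

/-- The local depth and dimension formulas for `F ⊗_A E` at a prime `q` of `B`. -/
theorem local_formulas :
    (LocCoh.depth Bq (LocalizedModule q.primeCompl (F ⊗[A] E)) =
      LocCoh.depth Ap Ep + LocCoh.depth (EGA4.FibLocRing A B q) (EGA4.FibLocMod A B q F)) ∧
    (Nontrivial Fq → Nontrivial Ep →
      Module.supportDim Bq (LocalizedModule q.primeCompl (F ⊗[A] E)) =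
        Module.supportDim Ap Ep +
          Module.supportDim (EGA4.FibLocRing A B q) (EGA4.FibLocMod A B q F)) ∧
    ((Subsingleton Fq ∨ Subsingleton Ep) →
      Module.supportDim Bq (LocalizedModule q.primeCompl (F ⊗[A] E)) = ⊥) := by
  obtain ⟨p, hp⟩ : ∃ p : Ideal A, p = q.comap (algebraMap A B) := ⟨_, rfl⟩
  haveI hpp : p.IsPrime := hp ▸ Ideal.IsPrime.comap _
  haveI : q.LiesOver p := ⟨hp⟩
  letI := Localization.AtPrime.algebraOfLiesOver p q
  haveI : IsLocalHom (algebraMap (Localization.AtPrime p) (Localization.AtPrime q)) :=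
    Localization.isLocalHom_localRingHom p q (algebraMap A B) Ideal.LiesOver.over
  have hI : p.map (algebraMap A (Localization.AtPrime q)) =
      (maximalIdeal (Localization.AtPrime p)).map
        (algebraMap (Localization.AtPrime p) (Localization.AtPrime q)) := by
    rw [← Localization.AtPrime.map_eq_maximalIdeal, Ideal.map_map,
      ← IsScalarTower.algebraMap_eq]
  subst hp
  letI mAp : Module Ap Fq := Module.compHom Fq (algebraMap Ap Bq)
  haveI t3 : IsScalarTower Ap Bq Fq := IsScalarTower.of_algebraMap_smul fun _ _ => rfl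
  haveI t4 : IsScalarTower A Ap Fq := IsScalarTower.of_algebraMap_smul fun a x => by
    show algebraMap Ap Bq (algebraMap A Ap a) • x = a • x
    rw [← IsScalarTower.algebraMap_apply A Ap Bq, algebraMap_smul]
  haveI flA : Module.Flat A Fq := flat_localizedModule F q.primeCompl
  haveI flAp : Module.Flat Ap Fq :=
    (Module.flat_iff_of_isLocalization Ap (Ideal.comap (algebraMap A B) q).primeCompl Fq).mpr flA
  haveI finT : Module.Finite B (F ⊗[A] E) := Groth.Agent.Lib.Helper8.finite_tensor F E
  have h1 := LocTrans.depth_supportDim_of_isLocalizedModule q Bq (M := F ⊗[A] E) (Fq ⊗[A] E)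
    (AlgebraTensorModule.rTensor A E (LocalizedModule.mkLinearMap q.primeCompl F))
  let e1 : Fq ⊗[Ap] (Ap ⊗[A] E) ≃ₗ[Bq] Fq ⊗[A] E :=
    AlgebraTensorModule.cancelBaseChange A Ap Bq Fq E
  let e2 : Ap ⊗[A] E ≃ₗ[Ap] Ep :=
    (IsLocalizedModule.isBaseChange (Ideal.comap (algebraMap A B) q).primeCompl Ap
      (LocalizedModule.mkLinearMap (Ideal.comap (algebraMap A B) q).primeCompl E)).equiv
  haveI : Module.Finite (EGA4.FibLocRing A B q) (EGA4.FibLocMod A B q F) :=
    Module.Finite.of_restrictScalars_finite Bq _ _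
  refine ⟨?_, ?_, ?_⟩
  · have hD := depth_tensor_eq (R := Ap) (S := Bq) (Ap ⊗[A] E) Fq
    rw [← hI] at hD
    have hFibD := Groth.Agent.Lib.Helper22.DimFlat.depth_quotient_ring_eq
      ((Ideal.comap (algebraMap A B) q).map (algebraMap A Bq)) (EGA4.FibLocMod A B q F)
    rw [← h1.1, hFibD]
    unfold LocCoh.depth at hD ⊢
    rw [← idealDepth_congr _ e1, hD, idealDepth_congr _ e2]
  · intro hF hE
    haveI : Nontrivial (Ap ⊗[A] E) := e2.symm.injective.nontrivial
    have hS := Groth.Agent.Lib.Helper22.DimFlat.supportDim_tensor_eq Ap Bq (Ap ⊗[A] E) Fq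
    rw [← hI] at hS
    rw [← h1.2, ← Module.supportDim_eq_of_equiv e1, hS, Module.supportDim_eq_of_equiv e2,
      Groth.Agent.Lib.Helper22.DimFlat.supportDim_quotient_ring_eq
        ((Ideal.comap (algebraMap A B) q).map (algebraMap A Bq)) (EGA4.FibLocMod A B q F)]
  · rintro (hF | hE)
    · haveI := hF
      haveI : Subsingleton (Fq ⊗[A] E) := subsingleton_tensor_of_left
      rw [← h1.2]
      exact Module.supportDim_eq_bot_of_subsingleton _ _
    · haveI := hE
      haveI : Subsingleton (Ap ⊗[A] E) := e2.injective.subsingleton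
      haveI : Subsingleton (Fq ⊗[Ap] (Ap ⊗[A] E)) := subsingleton_tensor_of_right
      haveI : Subsingleton (Fq ⊗[A] E) := e1.symm.injective.subsingleton
      rw [← h1.2]
      exact Module.supportDim_eq_bot_of_subsingleton _ _

/-- Ascent of `(S_k)`: EGA IV 6.4.1 (ii) for modules. -/
theorem hasSkAt_tensor (k : ℕ)
    (hfib : ∀ (q : Ideal B) [q.IsPrime],
      LocCoh.HasSk k (EGA4.FibLocRing A B q) (EGA4.FibLocMod A B q F))
    (hE : EGA4.HasSkAt k A E (q.comap (algebraMap A B))) :
    EGA4.HasSkAt k B (F ⊗[A] E) q := by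
  haveI : Module.Finite B (F ⊗[A] E) := Groth.Agent.Lib.Helper8.finite_tensor F E
  rw [SkOpen.hasSkAt_iff]
  intro q' _ hq'
  obtain ⟨hD, hS, hbot⟩ := local_formulas A B E F q'
  by_cases hF : Subsingleton (LocalizedModule q'.primeCompl F)
  · rw [hbot (Or.inl hF), min_bot_right]
    exact bot_le
  by_cases hEs : Subsingleton (LocalizedModule (q'.comap (algebraMap A B)).primeCompl E)
  · rw [hbot (Or.inr hEs), min_bot_right]
    exact bot_le
  rw [not_subsingleton_iff_nontrivial] at hF hEs
  rw [hS hF hEs, hD]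
  have hE' := (SkOpen.hasSkAt_iff E k (q.comap (algebraMap A B))).mp hE
    (q'.comap (algebraMap A B)) (Ideal.comap_mono hq')
  haveI : Module.Finite (EGA4.FibLocRing A B q') (EGA4.FibLocMod A B q' F) :=
    Module.Finite.of_restrictScalars_finite (Localization.AtPrime q') _ _
  have hfib' := closed_of_hasSk (EGA4.FibLocMod A B q' F) k (hfib q')
  by_cases ha : Module.supportDim (Localization.AtPrime (q'.comap (algebraMap A B)))
      (LocalizedModule (q'.comap (algebraMap A B)).primeCompl E) = ⊥
  · rw [ha, WithBot.bot_add, min_bot_right]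
    exact bot_le
  by_cases hc : Module.supportDim (EGA4.FibLocRing A B q') (EGA4.FibLocMod A B q' F) = ⊥
  · rw [hc, WithBot.add_bot, min_bot_right]
    exact bot_le
  obtain ⟨a', ha'⟩ := WithBot.ne_bot_iff_exists.mp ha
  obtain ⟨c', hc'⟩ := WithBot.ne_bot_iff_exists.mp hc
  rw [← ha'] at hE' ⊢
  rw [← hc'] at hfib' ⊢
  exact SkOpen.min_add_le_withBot k a' c' _ _ hE' hfib'

/-- A prime `q' ≤ q` of `Supp F` over `p'`, minimal over `Ann (F ⊗ A/p')`. -/
theorem exists_prime_fibre_zero [hq : q.IsPrime]
    (hqF : (⟨q, hq⟩ : PrimeSpectrum B) ∈ Module.support B F)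
    (p' : Ideal A) [p'.IsPrime] (hp' : p' ≤ q.comap (algebraMap A B)) :
    ∃ (q' : Ideal B) (hq' : q'.IsPrime), q' ≤ q ∧ q'.comap (algebraMap A B) = p' ∧
      (⟨q', hq'⟩ : PrimeSpectrum B) ∈ Module.support B F ∧
      q' ∈ (Module.annihilator B (F ⊗[A] (A ⧸ p'))).minimalPrimes := by
  haveI : Module.Finite B (F ⊗[A] (A ⧸ p')) := Groth.Agent.Lib.Helper8.finite_tensor F (A ⧸ p')
  have eB := tensorQuotEquiv (B := B) F p'
  have hqG : (⟨q, hq⟩ : PrimeSpectrum B) ∈
      Module.support B (F ⧸ (p'.map (algebraMap A B) • (⊤ : Submodule B F))) := by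
    rw [Module.support_quotient]
    refine ⟨hqF, ?_⟩
    rw [PrimeSpectrum.mem_zeroLocus, SetLike.coe_subset_coe]
    exact Ideal.map_le_iff_le_comap.mpr hp'
  have hann : Module.annihilator B (F ⊗[A] (A ⧸ p')) ≤ q := by
    rw [eB.annihilator_eq]
    exact Module.mem_support_iff_of_finite.mp hqG
  obtain ⟨q', hq'min, hq'q⟩ := Ideal.exists_minimalPrimes_le hann
  haveI hq'p : q'.IsPrime := hq'min.1.1
  have hq'ann : Module.annihilator B (F ⊗[A] (A ⧸ p')) ≤ q' := hq'min.1.2
  have hq'G : (⟨q', hq'p⟩ : PrimeSpectrum B) ∈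
      Module.support B (F ⧸ (p'.map (algebraMap A B) • (⊤ : Submodule B F))) := by
    rw [Module.mem_support_iff_of_finite, ← eB.annihilator_eq]
    exact hq'ann
  rw [Module.support_quotient] at hq'G
  obtain ⟨hq'F, hq'J⟩ := hq'G
  rw [PrimeSpectrum.mem_zeroLocus, SetLike.coe_subset_coe] at hq'J
  have hle : p' ≤ q'.comap (algebraMap A B) := Ideal.map_le_iff_le_comap.mp hq'J
  refine ⟨q', hq'p, hq'q, le_antisymm ?_ hle, hq'F, hq'min⟩
  intro a haq
  by_contra hap
  have hass : q' ∈ associatedPrimes B (F ⊗[A] (A ⧸ p')) :=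
    Module.associatedPrimes.minimalPrimes_annihilator_subset_associatedPrimes B _ hq'min
  obtain ⟨_, x, hx⟩ := isAssociatedPrime_iff.mp hass
  have hax : algebraMap A B a • x = 0 := by
    have hmem : algebraMap A B a ∈ Submodule.colon (⊥ : Submodule B (F ⊗[A] (A ⧸ p'))) {x} :=
      hx ▸ haq
    rw [Submodule.mem_colon_singleton, Submodule.mem_bot] at hmem
    exact hmem
  rw [algebraMap_smul] at hax
  have hx0 : x = 0 := isSMulRegular_tensor_quot F p' hap (by
    show a • x = a • (0 : F ⊗[A] (A ⧸ p'))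
    rw [hax, smul_zero])
  apply hq'p.ne_top
  rw [hx, hx0, Ideal.eq_top_iff_one, Submodule.mem_colon_singleton, smul_zero]
  exact Submodule.zero_mem _

/-- At such a prime, the fibre module has dimension and depth zero. -/
theorem fibre_zero (hqF : Nontrivial Fq)
    (hmin : q ∈ (Module.annihilator B
      (F ⊗[A] (A ⧸ Ideal.comap (algebraMap A B) q))).minimalPrimes) :
    Module.supportDim (EGA4.FibLocRing A B q) (EGA4.FibLocMod A B q F) = 0 ∧
      LocCoh.depth (EGA4.FibLocRing A B q) (EGA4.FibLocMod A B q F) = 0 := by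
  haveI : Module.Finite B (F ⊗[A] (A ⧸ Ideal.comap (algebraMap A B) q)) :=
    Groth.Agent.Lib.Helper8.finite_tensor F (A ⧸ Ideal.comap (algebraMap A B) q)
  obtain ⟨hD, hS, _⟩ := local_formulas A B (A ⧸ Ideal.comap (algebraMap A B) q) F q
  have hass : q ∈ associatedPrimes B (F ⊗[A] (A ⧸ Ideal.comap (algebraMap A B) q)) :=
    Module.associatedPrimes.minimalPrimes_annihilator_subset_associatedPrimes B _ hmin
  have hd0 := (depth_localizedModule_eq_zero_iff q).mpr hass
  have hs0 := supportDim_localizedModule_le_zero_of_mem_minimalPrimes q hmin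
  have hntE : Nontrivial (LocalizedModule (Ideal.comap (algebraMap A B) q).primeCompl
      (A ⧸ Ideal.comap (algebraMap A B) q)) := by
    have hmem : (⟨Ideal.comap (algebraMap A B) q, inferInstance⟩ : PrimeSpectrum A) ∈
        Module.support A (A ⧸ Ideal.comap (algebraMap A B) q) := by
      rw [Module.mem_support_iff_of_finite, Ideal.annihilator_quotient]
    exact Module.mem_support_iff.mp hmem
  have hntT : Nontrivial (LocalizedModule q.primeCompl
      (F ⊗[A] (A ⧸ Ideal.comap (algebraMap A B) q))) := by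
    have hmem : (⟨q, inferInstance⟩ : PrimeSpectrum B) ∈
        Module.support B (F ⊗[A] (A ⧸ Ideal.comap (algebraMap A B) q)) :=
      Module.mem_support_iff_of_finite.mpr hmin.1.2
    exact Module.mem_support_iff.mp hmem
  have hne := Module.supportDim_ne_bot_of_nontrivial (Localization.AtPrime q)
    (LocalizedModule q.primeCompl (F ⊗[A] (A ⧸ Ideal.comap (algebraMap A B) q)))
  rw [hS hqF hntE] at hs0 hne
  rw [hD] at hd0
  refine ⟨?_, (add_eq_zero.mp hd0).2⟩
  obtain ⟨hx, hy⟩ := WithBot.add_ne_bot.mp hne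
  obtain ⟨a, ha⟩ := WithBot.ne_bot_iff_exists.mp hx
  obtain ⟨c, hc⟩ := WithBot.ne_bot_iff_exists.mp hy
  rw [← ha, ← hc, ← WithBot.coe_add, ← WithBot.coe_zero, WithBot.coe_le_coe] at hs0
  have hc0 : c = 0 := (add_eq_zero.mp (le_antisymm hs0 zero_le)).2
  rw [← hc, hc0]
  rfl

/-- Descent of `(S_k)`: EGA IV 6.4.1 (i) for modules. -/
theorem hasSkAt_base (k : ℕ) (x : PrimeSpectrum B) (hx : x ∈ Module.support B F)
    (h : EGA4.HasSkAt k B (F ⊗[A] E) x.asIdeal) :
    EGA4.HasSkAt k A E (x.asIdeal.comap (algebraMap A B)) := by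
  haveI : Module.Finite B (F ⊗[A] E) := Groth.Agent.Lib.Helper8.finite_tensor F E
  rw [SkOpen.hasSkAt_iff]
  intro p' _ hp'
  by_cases hEs : Subsingleton (LocalizedModule p'.primeCompl E)
  · rw [Module.supportDim_eq_bot_of_subsingleton, min_bot_right]
    exact bot_le
  rw [not_subsingleton_iff_nontrivial] at hEs
  obtain ⟨q', hq'p, hq'q, hcomap, hq'F, hmin⟩ :=
    exists_prime_fibre_zero A B F x.asIdeal hx p' hp'
  haveI := hq'p
  subst hcomap
  have hq'Fnt : Nontrivial (LocalizedModule q'.primeCompl F) := Module.mem_support_iff.mp hq'F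
  obtain ⟨hD, hS, _⟩ := local_formulas A B E F q'
  obtain ⟨hS0, hD0⟩ := fibre_zero A B F q' hq'Fnt hmin
  have hq := (SkOpen.hasSkAt_iff (F ⊗[A] E) k x.asIdeal).mp h q' hq'q
  rw [hS hq'Fnt hEs, hD, hS0, hD0, add_zero, add_zero] at hq
  exact hq

end main

end Groth.Agent.Lib.Helper4.SkFlatMod
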