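import Mathlib
import Groth.Prelude.Def_Found
import Groth.Agent.Lib.Helper12.NagataFin
import Groth.Agent.Lib.Helper12.NagataCrit
import Groth.Agent.Lib.Helper7.ComplLim
import Groth.Agent.Lib.Helper27.NagCompl

/-!
# Finiteness of integral closures from reducedness after a Nagata faithfully flat base change

* `finite_integralClosure_of_isReduced_tensor`: `A → B` faithfully flat with `B` Nagata, `L` a field
  which is the fraction field of a finite `A`-subalgebra `C₀`; if `B ⊗[A] L` is reduced then the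
  integral closure of `A` in `L` is a finite `A`-module.
* `isN2_quotient_of_reduced`: for a Noetherian local ring `A` and a prime `P`, if `L' ⊗ (formal fibre
  at `P`)` is reduced for every finite extension `L'` of `κ(P)` then `A ⧸ P` is N-2.
-/

set_option autoImplicit false
set_option linter.style.haveILetI false
set_option linter.unusedSectionVars false
set_option linter.unusedVariables false
set_option maxHeartbeats 800000
universe u

open TensorProduct Function Polynomial IsLocalRing
open Groth.Agent.Lib.Helper12.N2 Groth.Agent.Lib.Helper12.NagataLoc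

namespace Groth.Agent.Lib.Helper4.NagRed

section cofactor

theorem exists_mul_eq_algebraMap {R K : Type*} [CommRing R] [Field K] [Algebra R K]
    (v : K) (hv0 : v ≠ 0) (hv : IsIntegral R v) :
    ∃ r : R, r ≠ 0 ∧ ∃ w ∈ Algebra.adjoin R {v}, v * w = algebraMap R K r := by
  haveI : Nontrivial R := (algebraMap R K).domain_nontrivial
  obtain ⟨q, hq0, hq⟩ := hv.isAlgebraic.exists_nonzero_coeff_and_aeval_eq_zero
    (mem_nonZeroDivisors_of_ne_zero hv0)
  refine ⟨q.coeff 0, hq0, -(aeval v q.divX),
    Subalgebra.neg_mem _ (aeval_mem_adjoin_singleton R v), ?_⟩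
  have h1 : aeval v (q.divX * X + C (q.coeff 0)) = 0 := by rw [divX_mul_X_add, hq]
  rw [map_add, map_mul, aeval_X, aeval_C] at h1
  linear_combination (-1 : K) * h1

end cofactor

section field

/-- Integral closure of a finite algebra `T` over a Nagata ring `B` in a field which is the
fraction field of the image of `T`. -/
theorem finite_integralClosure_field (B : Type u) [CommRing B] (hB : CAlg.IsNagata B)
    (T : Type u) [CommRing T] [Algebra B T] [Module.Finite B T]
    (K : Type u) [Field K] [Algebra T K]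
    (hK : ∀ x : K, ∃ t₁ t₂ : T, algebraMap T K t₂ ≠ 0 ∧
      x * algebraMap T K t₂ = algebraMap T K t₁) :
    Module.Finite T (integralClosure T K) := by
  classical
  haveI := hB.1
  letI algBK : Algebra B K := ((algebraMap T K).comp (algebraMap B T)).toAlgebra
  haveI : IsScalarTower B T K := IsScalarTower.of_algebraMap_eq (fun _ => rfl)
  haveI hprime : (RingHom.ker (algebraMap B K)).IsPrime := RingHom.ker_isPrime _
  letI algRK : Algebra (B ⧸ RingHom.ker (algebraMap B K)) K :=
    (RingHom.kerLift (algebraMap B K)).toAlgebra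
  haveI : IsScalarTower B (B ⧸ RingHom.ker (algebraMap B K)) K :=
    IsScalarTower.of_algebraMap_eq (fun a => rfl)
  have hinj : Injective (algebraMap (B ⧸ RingHom.ker (algebraMap B K)) K) :=
    RingHom.kerLift_injective _
  have hN2 : N2' (B ⧸ RingHom.ker (algebraMap B K)) :=
    (isN2_iff_N2' _).1 (hB.2 (RingHom.ker (algebraMap B K)))
  have hfg : FinGen (B ⧸ RingHom.ker (algebraMap B K)) K := by
    obtain ⟨τ, hτ⟩ := (Module.finite_def.1 (inferInstance : Module.Finite B T))
    have hspan : ∀ t : T, algebraMap T K t ∈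
        Submodule.span (B ⧸ RingHom.ker (algebraMap B K))
          ((τ.image (algebraMap T K) : Finset K) : Set K) := by
      intro t
      have ht : t ∈ Submodule.span B (τ : Set T) := by rw [hτ]; trivial
      have h1 := Submodule.mem_map_of_mem (f := (IsScalarTower.toAlgHom B T K).toLinearMap) ht
      rw [Submodule.map_span] at h1
      have h2 : ((IsScalarTower.toAlgHom B T K).toLinearMap '' (τ : Set T)) =
          ((τ.image (algebraMap T K) : Finset K) : Set K) := by
        rw [Finset.coe_image]; rfl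
      rw [h2] at h1
      exact Submodule.span_le_restrictScalars B (B ⧸ RingHom.ker (algebraMap B K)) _ h1
    refine ⟨τ.image (algebraMap T K), fun x => ?_⟩
    obtain ⟨t₁, t₂, ht₂, hx⟩ := hK x
    have hint : IsIntegral (B ⧸ RingHom.ker (algebraMap B K)) (algebraMap T K t₂) := by
      have h1 : IsIntegral B t₂ := IsIntegral.of_finite B t₂
      have h2 : IsIntegral B (algebraMap T K t₂) := h1.map (IsScalarTower.toAlgHom B T K)
      exact h2.tower_top
    obtain ⟨r, hr0, w, hw, hvw⟩ := exists_mul_eq_algebraMap (algebraMap T K t₂) ht₂ hint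
    have hwT : ∃ t₃ : T, algebraMap T K t₃ = w := by
      let Tb : Subalgebra (B ⧸ RingHom.ker (algebraMap B K)) K :=
        { (algebraMap T K).range with
          algebraMap_mem' := fun c => by
            obtain ⟨b, rfl⟩ := Ideal.Quotient.mk_surjective c
            exact ⟨algebraMap B T b, rfl⟩ }
      have hle : Algebra.adjoin (B ⧸ RingHom.ker (algebraMap B K)) {algebraMap T K t₂} ≤ Tb :=
        Algebra.adjoin_le (Set.singleton_subset_iff.2 ⟨t₂, rfl⟩)
      exact hle hw
    obtain ⟨t₃, rfl⟩ := hwT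
    refine ⟨r, hr0, ?_⟩
    have hrx : r • x = algebraMap T K (t₃ * t₁) := by
      rw [Algebra.smul_def, ← hvw, map_mul, ← hx]
      ring
    rw [hrx]
    exact hspan _
  have h1 : Module.Finite (B ⧸ RingHom.ker (algebraMap B K))
      (integralClosure (B ⧸ RingHom.ker (algebraMap B K)) K) := hN2 K hinj hfg
  have h2 : Module.Finite B (integralClosure B K) :=
    Groth.Agent.Lib.Helper12.N2Insep.finite_integralClosure_trans B
      (B ⧸ RingHom.ker (algebraMap B K)) K h1
  exact Groth.Agent.Lib.Helper12.NagataCrit.finite_integralClosure_of_finite_base B T K h2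

end field

section units

/-- `Q` reduced, a localization (at elements that become units) of a finite algebra `T` over a
Nagata ring `B`: the integral closure of `T` in `Q` is finite. -/
theorem finite_integralClosure_of_units (B : Type u) [CommRing B] (hB : CAlg.IsNagata B)
    (Q : Type u) [CommRing Q] [Algebra B Q] [IsReduced Q] (T : Subalgebra B Q)
    [Module.Finite B T]
    (hβ : ∀ q : Q, ∃ u : Q, IsUnit u ∧ u ∈ T ∧ u * q ∈ T) :
    Module.Finite T (integralClosure T Q) := by
  classical
  haveI := hB.1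
  haveI : IsNoetherianRing T := Algebra.FiniteType.isNoetherianRing B T
  let M : Submonoid T := Submonoid.comap (algebraMap T Q : T →* Q) (IsUnit.submonoid Q)
  haveI hloc : IsLocalization M Q :=
    { map_units := fun y => y.2
      surj := fun z => by
        obtain ⟨u, hu, huT, huz⟩ := hβ z
        refine ⟨(⟨u * z, huz⟩, ⟨⟨u, huT⟩, hu⟩), ?_⟩
        change z * u = u * z
        exact mul_comm _ _
      exists_of_eq := fun {x y} h => ⟨1, by rw [Subtype.ext h]⟩ }
  haveI : IsNoetherianRing Q := IsLocalization.isNoetherianRing M Q inferInstance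
  haveI : Finite {𝔔 : Ideal Q // 𝔔 ∈ minimalPrimes Q} :=
    (minimalPrimes.finite_of_isNoetherianRing Q).to_subtype
  haveI hpr : ∀ i : {𝔔 : Ideal Q // 𝔔 ∈ minimalPrimes Q}, i.1.IsPrime := fun i => i.2.1.1
  refine Groth.Agent.Lib.Helper12.NagataFin.finite_integralClosure_of_jointly_injective T Q
    (fun 𝔔 : {𝔔 : Ideal Q // 𝔔 ∈ minimalPrimes Q} => FractionRing (Q ⧸ 𝔔.1))
    (fun 𝔔 => IsScalarTower.toAlgHom T Q (FractionRing (Q ⧸ 𝔔.1))) ?_ ?_
  · intro c c' h
    rw [← sub_eq_zero]
    have hmem : c - c' ∈ sInf (minimalPrimes Q) := by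
      rw [Ideal.mem_sInf]
      intro 𝔔 h𝔔
      haveI : 𝔔.IsPrime := h𝔔.1.1
      have h1 : algebraMap Q (FractionRing (Q ⧸ 𝔔)) c = algebraMap Q (FractionRing (Q ⧸ 𝔔)) c' :=
        h ⟨𝔔, h𝔔⟩
      rw [IsScalarTower.algebraMap_apply Q (Q ⧸ 𝔔) (FractionRing (Q ⧸ 𝔔)) c,
        IsScalarTower.algebraMap_apply Q (Q ⧸ 𝔔) (FractionRing (Q ⧸ 𝔔)) c'] at h1
      have h2 := IsFractionRing.injective (Q ⧸ 𝔔) (FractionRing (Q ⧸ 𝔔)) h1
      rw [Ideal.Quotient.algebraMap_eq] at h2
      exact Ideal.Quotient.eq.1 h2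
    have h0 : sInf (minimalPrimes Q) = ⊥ := by
      show sInf (⊥ : Ideal Q).minimalPrimes = ⊥
      rw [Ideal.sInf_minimalPrimes]
      exact nilradical_eq_zero Q
    rw [h0] at hmem
    exact hmem
  · intro 𝔔
    haveI : 𝔔.1.IsPrime := 𝔔.2.1.1
    apply finite_integralClosure_field B hB T (FractionRing (Q ⧸ 𝔔.1))
    intro x
    obtain ⟨a, b, hb, rfl⟩ := IsFractionRing.div_surjective (Q ⧸ 𝔔.1) x
    obtain ⟨qa, rfl⟩ := Ideal.Quotient.mk_surjective a
    obtain ⟨qb, rfl⟩ := Ideal.Quotient.mk_surjective b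
    obtain ⟨ua, hua, huaT, huaq⟩ := hβ qa
    obtain ⟨ub, hub, hubT, hubq⟩ := hβ qb
    let φ : Q →+* FractionRing (Q ⧸ 𝔔.1) :=
      (algebraMap (Q ⧸ 𝔔.1) (FractionRing (Q ⧸ 𝔔.1))).comp (Ideal.Quotient.mk 𝔔.1)
    have hφT : ∀ t : T, algebraMap T (FractionRing (Q ⧸ 𝔔.1)) t = φ (t : Q) := fun t => rfl
    have hφb : φ qb ≠ 0 := by
      intro h
      have h' : Ideal.Quotient.mk 𝔔.1 qb = 0 :=
        (IsFractionRing.injective (Q ⧸ 𝔔.1) (FractionRing (Q ⧸ 𝔔.1))) (by rw [map_zero]; exact h)
      exact nonZeroDivisors.ne_zero hb h'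
    have hφu : ∀ u : Q, IsUnit u → φ u ≠ 0 := fun u hu => (hu.map φ).ne_zero
    refine ⟨⟨ua * qa, huaq⟩ * ⟨ub, hubT⟩, ⟨ub * qb, hubq⟩ * ⟨ua, huaT⟩, ?_, ?_⟩
    · rw [hφT]
      change φ ((ub * qb) * ua) ≠ 0
      rw [map_mul, map_mul]
      exact mul_ne_zero (mul_ne_zero (hφu ub hub) hφb) (hφu ua hua)
    · rw [hφT, hφT]
      change φ qa / φ qb * φ ((ub * qb) * ua) = φ ((ua * qa) * ub)
      rw [map_mul, map_mul, map_mul, map_mul, div_mul_eq_mul_div, div_eq_iff hφb]
      ring

end units

section main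

/-- The core theorem. -/
theorem finite_integralClosure_of_isReduced_tensor
    (A : Type u) [CommRing A] (B : Type u) [CommRing B] [Algebra A B]
    [Module.FaithfullyFlat A B] (hB : CAlg.IsNagata B) (L : Type u) [Field L] [Algebra A L]
    (C₀ : Subalgebra A L) [Module.Finite A C₀]
    (hC₀ : ∀ z : L, ∃ d : A, algebraMap A L d ≠ 0 ∧ d • z ∈ C₀)
    [IsReduced (B ⊗[A] L)] :
    Module.Finite A (integralClosure A L) := by
  classical
  haveI := hB.1
  let ψ : B ⊗[A] C₀ →ₐ[B] B ⊗[A] L := Algebra.TensorProduct.map (AlgHom.id B B) C₀.val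
  let T : Subalgebra B (B ⊗[A] L) := ψ.range
  haveI hTfin : Module.Finite B T :=
    Module.Finite.of_surjective ψ.rangeRestrict.toLinearMap ψ.rangeRestrict_surjective
  let ιL : L →ₐ[A] B ⊗[A] L := Algebra.TensorProduct.includeRight
  have hunit : ∀ d : A, algebraMap A L d ≠ 0 → IsUnit (algebraMap A (B ⊗[A] L) d) := by
    intro d hd
    have h1 : algebraMap A (B ⊗[A] L) d = ιL (algebraMap A L d) := (ιL.commutes d).symm
    rw [h1]
    exact (IsUnit.mk0 _ hd).map ιL
  have hmemT : ∀ d : A, algebraMap A (B ⊗[A] L) d ∈ T := fun d => by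
    rw [IsScalarTower.algebraMap_apply A B (B ⊗[A] L)]
    exact T.algebraMap_mem _
  have hβ : ∀ q : B ⊗[A] L, ∃ u : B ⊗[A] L, IsUnit u ∧ u ∈ T ∧ u * q ∈ T := by
    intro q
    induction q using TensorProduct.induction_on with
    | zero => exact ⟨1, isUnit_one, T.one_mem, by rw [mul_zero]; exact T.zero_mem⟩
    | tmul b l =>
      obtain ⟨d, hd, hdl⟩ := hC₀ l
      refine ⟨algebraMap A (B ⊗[A] L) d, hunit d hd, hmemT d, ?_⟩
      have h1 : algebraMap A (B ⊗[A] L) d * (b ⊗ₜ[A] l) =
          ψ (b ⊗ₜ[A] (⟨d • l, hdl⟩ : C₀)) := by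
        rw [← Algebra.smul_def, ← TensorProduct.tmul_smul]
        rfl
      rw [h1]
      exact ⟨_, rfl⟩
    | add x y hx hy =>
      obtain ⟨u, hu, huT, hux⟩ := hx
      obtain ⟨v, hv, hvT, hvy⟩ := hy
      refine ⟨u * v, hu.mul hv, T.mul_mem huT hvT, ?_⟩
      have h3 : u * v * (x + y) = v * (u * x) + u * (v * y) := by ring
      rw [h3]
      exact T.add_mem (T.mul_mem hvT hux) (T.mul_mem huT hvy)
  have hH : Module.Finite T (integralClosure T (B ⊗[A] L)) :=
    finite_integralClosure_of_units B hB (B ⊗[A] L) T hβ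
  let Θ : B ⊗[A] (integralClosure A L) →ₗ[B] B ⊗[A] L :=
    ((integralClosure A L).val.toLinearMap).baseChange B
  have hΘinj : Injective Θ := by
    change Injective (((integralClosure A L).val.toLinearMap).baseChange B)
    rw [LinearMap.baseChange_eq_ltensor]
    exact Module.Flat.lTensor_preserves_injective_linearMap _ Subtype.val_injective
  have hΘint : ∀ z : B ⊗[A] (integralClosure A L), IsIntegral T (Θ z) := by
    intro z
    induction z using TensorProduct.induction_on with
    | zero => rw [map_zero]; exact isIntegral_zero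
    | tmul b d =>
      have h0 : algebraMap B (B ⊗[A] L) b = b ⊗ₜ[A] (1 : L) := by
        rw [Algebra.TensorProduct.algebraMap_apply]; rfl
      have h1 : Θ (b ⊗ₜ[A] d) = algebraMap B (B ⊗[A] L) b * ιL (d : L) := by
        rw [h0]
        change b ⊗ₜ[A] (d : L) = (b ⊗ₜ[A] (1 : L)) * ((1 : B) ⊗ₜ[A] (d : L))
        rw [Algebra.TensorProduct.tmul_mul_tmul, mul_one, one_mul]
      have h3 : IsIntegral T (algebraMap B (B ⊗[A] L) b) := by
        rw [IsScalarTower.algebraMap_apply B T (B ⊗[A] L)]
        exact isIntegral_algebraMap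
      have h2 : IsIntegral A (ιL (d : L)) :=
        IsIntegral.map ιL (show IsIntegral A (d : L) from d.2)
      rw [h1]
      exact h3.mul h2.tower_top
    | add x y hx hy => rw [map_add]; exact hx.add hy
  have hfgT : (Subalgebra.toSubmodule (integralClosure T (B ⊗[A] L))).FG :=
    Module.Finite.iff_fg.1 hH
  have hfgB := Submodule.FG.restrictScalars (R := B) hfgT
  haveI hNoeth : IsNoetherian B
      ((Subalgebra.toSubmodule (integralClosure T (B ⊗[A] L))).restrictScalars B) :=
    isNoetherian_of_fg_of_noetherian _ hfgB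
  let Θ' : B ⊗[A] (integralClosure A L) →ₗ[B]
      ((Subalgebra.toSubmodule (integralClosure T (B ⊗[A] L))).restrictScalars B) :=
    LinearMap.codRestrict _ Θ hΘint
  have hΘ'inj : Injective Θ' := fun x y h => hΘinj (congrArg Subtype.val h)
  haveI : Module.Finite B (B ⊗[A] (integralClosure A L)) := Module.Finite.of_injective Θ' hΘ'inj
  exact Module.Finite.of_finite_tensorProduct_of_faithfullyFlat B

end main

section localcase

variable (A : Type u) [CommRing A] [IsLocalRing A] [IsNoetherianRing A]

theorem isNagata_completion : CAlg.IsNagata (AdicCompletion (maximalIdeal A) A) := by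
  haveI := Groth.Agent.Lib.Helper7.ComplLim.isNoetherianRing_compl A
  exact Groth.Agent.Lib.Helper27.NagCompl.isNagata_of_complete _

theorem faithfullyFlat_completion :
    Module.FaithfullyFlat A (AdicCompletion (maximalIdeal A) A) :=
  Module.FaithfullyFlat.of_flat_of_isLocalHom

/-- If all finite extensions of `κ(P)` tensored with the formal fibre at `P` are reduced, then
`A ⧸ P` is N-2. -/
theorem isN2_quotient_of_reduced (P : Ideal A) [P.IsPrime]
    (hP : ∀ (L' : Type u) [Field L'] [Algebra P.ResidueField L'],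
      Module.Finite P.ResidueField L' →
      IsReduced (L' ⊗[P.ResidueField] (P.Fiber (AdicCompletion (maximalIdeal A) A)))) :
    CAlg.IsN2 (A ⧸ P) := by
  intro L _ _ _ _ hfd
  haveI := hfd
  haveI := faithfullyFlat_completion A
  letI algAL : Algebra A L := ((algebraMap (A ⧸ P) L).comp (Ideal.Quotient.mk P)).toAlgebra
  haveI : IsScalarTower A (A ⧸ P) L := IsScalarTower.of_algebraMap_eq (fun _ => rfl)
  have hinjL : Injective (algebraMap (A ⧸ P) L) := by
    rw [IsScalarTower.algebraMap_eq (A ⧸ P) (FractionRing (A ⧸ P)) L]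
    exact (algebraMap (FractionRing (A ⧸ P)) L).injective.comp (IsFractionRing.injective _ _)
  letI algκL : Algebra P.ResidueField L :=
    (IsFractionRing.lift hinjL : P.ResidueField →+* L).toAlgebra
  haveI : IsScalarTower (A ⧸ P) P.ResidueField L :=
    IsScalarTower.of_algebraMap_eq (fun x => (IsFractionRing.lift_algebraMap hinjL x).symm)
  haveI : IsScalarTower A P.ResidueField L := IsScalarTower.of_algebraMap_eq (fun a => by
    rw [IsScalarTower.algebraMap_apply A (A ⧸ P) P.ResidueField,
      ← IsScalarTower.algebraMap_apply (A ⧸ P) P.ResidueField L]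
    rfl)
  obtain ⟨s, hs⟩ := finGen_of_finiteDimensional (A ⧸ P) (FractionRing (A ⧸ P)) L
  haveI : Module.Finite P.ResidueField L := by
    refine ⟨⟨s, ?_⟩⟩
    rw [eq_top_iff]
    intro x _
    obtain ⟨d, hd0, hdx⟩ := hs x
    have hd' : algebraMap (A ⧸ P) P.ResidueField d ≠ 0 :=
      (map_ne_zero_iff _ (IsFractionRing.injective (A ⧸ P) P.ResidueField)).2 hd0
    have h1 : d • x ∈ Submodule.span P.ResidueField (s : Set L) :=
      Submodule.span_le_restrictScalars (A ⧸ P) P.ResidueField _ hdx
    have h2 : x = (algebraMap (A ⧸ P) P.ResidueField d)⁻¹ • (d • x) := by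
      rw [← algebraMap_smul P.ResidueField d x, smul_smul, inv_mul_cancel₀ hd', one_smul]
    rw [h2]
    exact Submodule.smul_mem _ _ h1
  haveI hred0 : IsReduced
      (L ⊗[P.ResidueField] (P.Fiber (AdicCompletion (maximalIdeal A) A))) :=
    hP L inferInstance
  haveI : IsReduced (AdicCompletion (maximalIdeal A) A ⊗[A] L) :=
    isReduced_of_injective
      ((Algebra.TensorProduct.comm A (AdicCompletion (maximalIdeal A) A) L).toRingEquiv.trans
        (Algebra.TensorProduct.cancelBaseChange A P.ResidueField P.ResidueField L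
          (AdicCompletion (maximalIdeal A) A)).symm.toRingEquiv)
      (RingEquiv.injective _)
  obtain ⟨B', hB'fg, -, hB'frac⟩ :=
    Groth.Agent.Lib.Helper12.NagataCrit.exists_finite_subalgebra (A ⧸ P)
      (FractionRing (A ⧸ P)) L
  haveI : Module.Finite A (B'.restrictScalars A) := by
    refine (Module.Finite.iff_fg (N := Subalgebra.toSubmodule (B'.restrictScalars A))).2 ?_
    rw [Subalgebra.restrictScalars_toSubmodule]
    exact Submodule.FG.restrictScalars (R := A) hB'fg
  have hC₀ : ∀ z : L, ∃ d : A, algebraMap A L d ≠ 0 ∧ d • z ∈ B'.restrictScalars A := by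
    intro z
    obtain ⟨d, hd0, hdz⟩ := hB'frac z
    obtain ⟨a, rfl⟩ := Ideal.Quotient.mk_surjective d
    refine ⟨a, (map_ne_zero_iff _ hinjL).2 hd0, ?_⟩
    have h1 : a • z = (Ideal.Quotient.mk P a) • z := by
      rw [Algebra.smul_def, Algebra.smul_def]
      rfl
    rw [h1]
    exact hdz
  have hfin := finite_integralClosure_of_isReduced_tensor A (AdicCompletion (maximalIdeal A) A)
    (isNagata_completion A) L (B'.restrictScalars A) hC₀
  exact Groth.Agent.Lib.Helper12.NagataCrit.finite_integralClosure_of_finite_base A (A ⧸ P) L hfin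

end localcase

end Groth.Agent.Lib.Helper4.NagRed
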