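import Mathlib

/-!
# The `k`-module of `resO`-derivations `O → k` of an augmented `k`-algebra (definition only)

Shared definition for D3 (helper18, S12265).
-/

set_option autoImplicit false
universe u

namespace Groth.Agent.Lib.Helper4.DerSub

/-- the `k`-submodule of `resO`-derivations `O → k`:
`δ (a * b) = resO a * δ b + resO b * δ a`. -/
def derSub {k : Type u} [Field k] (O : Type u) [CommRing O] [Algebra k O] (resO : O →ₐ[k] k) :
    Submodule k (O →ₗ[k] k) where
  carrier := {δ | ∀ a b : O, δ (a * b) = resO a * δ b + resO b * δ a}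
  add_mem' := by
    intro δ δ' h h' a b
    rw [LinearMap.add_apply, LinearMap.add_apply, LinearMap.add_apply, h a b, h' a b]
    ring
  zero_mem' := by
    intro a b
    simp
  smul_mem' := by
    intro c δ h a b
    rw [LinearMap.smul_apply, LinearMap.smul_apply, LinearMap.smul_apply, h a b, smul_eq_mul,
      smul_eq_mul, smul_eq_mul]
    ring

theorem mem_derSub {k : Type u} [Field k] {O : Type u} [CommRing O] [Algebra k O]
    {resO : O →ₐ[k] k} (δ : O →ₗ[k] k) :
    δ ∈ derSub O resO ↔ ∀ a b : O, δ (a * b) = resO a * δ b + resO b * δ a := Iff.rfl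

end Groth.Agent.Lib.Helper4.DerSub
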