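import Groth.Agent.Lib.Helper4.LC8b

/-!
# Local cohomology and localization at an element; the image of `H_{a+bR} → H_a` (helper4)

* `locObj b M`, `locHom b M`, `locSES`: localization at the powers of `b`.
* `HH.subsingleton_loc_of_injective`: `E_b` is `Γ_a`-acyclic for injective `E` (Noetherian).
* `HH.isLocalizedModule_map_locHom`: `H^i_a(M) → H^i_a(M_b)` is the localization at `b`.
* `HH.exists_ofLE_eq_iff`: the image of `H^i_{a+bR}(M) → H^i_a(M)` is the `b`-power torsion.
-/

set_option autoImplicit false
set_option linter.style.haveILetI false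
set_option linter.unusedSectionVars false
set_option maxHeartbeats 400000

open CategoryTheory Limits Opposite Abelian

universe u

namespace Groth.Agent.Lib.Helper4.LC

variable {R : Type u} [CommRing R]

/-! ### generalities -/

section general

lemma exists_pow_smul_eq_zero_of_fg {M : Type*} [AddCommGroup M] [Module R M] (b : R)
    (P : Submodule R M) (hP : P.FG) (h : ∀ p ∈ P, ∃ n : ℕ, b ^ n • p = 0) :
    ∃ n : ℕ, ∀ p ∈ P, b ^ n • p = 0 := by
  classical
  obtain ⟨s, hs⟩ := hP
  have key : ∀ t : Finset M, (∀ g ∈ t, ∃ n : ℕ, b ^ n • g = 0) →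
      ∃ n : ℕ, ∀ g ∈ t, b ^ n • g = 0 := by
    intro t
    induction t using Finset.induction_on with
    | empty =>
      intro _
      exact ⟨0, fun g hg => absurd hg (Finset.notMem_empty g)⟩
    | insert x t hx ih =>
      intro ht
      obtain ⟨n, hn⟩ := ih (fun g hg => ht g (Finset.mem_insert_of_mem hg))
      obtain ⟨k, hk⟩ := ht x (Finset.mem_insert_self x t)
      refine ⟨n + k, fun g hg => ?_⟩
      rcases Finset.mem_insert.1 hg with rfl | hg
      · rw [pow_add, mul_smul, hk, smul_zero]
      · rw [pow_add, mul_comm, mul_smul, hn g hg, smul_zero]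
  obtain ⟨n, hn⟩ := key s (fun g hg => h g (hs ▸ Submodule.subset_span hg))
  refine ⟨n, fun p hp => ?_⟩
  rw [← hs] at hp
  induction hp using Submodule.span_induction with
  | mem x hx => exact hn x hx
  | zero => exact smul_zero _
  | add x y _ _ hx hy => rw [smul_add, hx, hy, add_zero]
  | smul r x _ hx => rw [smul_comm, hx, smul_zero]

lemma pow_smul_eq_zero_of_mem_torsionSub_span (b : R) {M : Type u} [AddCommGroup M] [Module R M]
    {m : M} (hm : m ∈ DRing.torsionSub (Ideal.span {b}) M) : ∃ n : ℕ, b ^ n • m = 0 := by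
  obtain ⟨n, hn⟩ := hm
  exact ⟨n, hn _ (Ideal.pow_mem_pow (Ideal.mem_span_singleton_self b) n)⟩

lemma mem_torsionSub_span_of_pow_smul_eq_zero (b : R) {M : Type u} [AddCommGroup M] [Module R M]
    {m : M} (n : ℕ) (hn : b ^ n • m = 0) : m ∈ DRing.torsionSub (Ideal.span {b}) M := by
  refine ⟨n, fun r hr => ?_⟩
  obtain ⟨s, rfl⟩ := mem_span_singleton_pow hr
  rw [mul_smul, hn, smul_zero]

end general

/-! ### localization at the powers of `b` -/

section loc

variable (b : R)

/-- `M_b` as an object. -/
abbrev locObj (M : ModuleCat.{u} R) : ModuleCat.{u} R :=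
  ModuleCat.of R (LocalizedModule (Submonoid.powers b) M)

/-- the localization map `M ⟶ M_b`. -/
noncomputable def locHom (M : ModuleCat.{u} R) : M ⟶ locObj b M :=
  ModuleCat.ofHom (LocalizedModule.mkLinearMap (Submonoid.powers b) M)

/-- the localization of a linear map. -/
noncomputable def locLin {M N : Type u} [AddCommGroup M] [Module R M] [AddCommGroup N] [Module R N]
    (f : M →ₗ[R] N) :
    LocalizedModule (Submonoid.powers b) M →ₗ[R] LocalizedModule (Submonoid.powers b) N :=
  IsLocalizedModule.map (Submonoid.powers b) (LocalizedModule.mkLinearMap (Submonoid.powers b) M)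
    (LocalizedModule.mkLinearMap (Submonoid.powers b) N) f

/-- the localized short complex of a short exact sequence. -/
noncomputable abbrev locSES {S : ShortComplex (ModuleCat.{u} R)} (hS : S.ShortExact) :
    ShortComplex (ModuleCat.{u} R) :=
  sesOf (locLin b S.f.hom) (locLin b S.g.hom)
    (IsLocalizedModule.map_exact (Submonoid.powers b) _ _ _ S.f.hom S.g.hom
      ((ShortComplex.ShortExact.moduleCat_exact_iff_function_exact S).1 hS.exact))

lemma locSES_shortExact {S : ShortComplex (ModuleCat.{u} R)} (hS : S.ShortExact) :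
    (locSES b hS).ShortExact :=
  sesOf_shortExact _ _ _
    (IsLocalizedModule.map_injective (Submonoid.powers b) _ _ S.f.hom
      ((ModuleCat.mono_iff_injective S.f).1 hS.mono_f))
    (IsLocalizedModule.map_surjective (Submonoid.powers b) _ _ S.g.hom
      ((ModuleCat.epi_iff_surjective S.g).1 hS.epi_g))

/-- the localization morphism of short complexes. -/
noncomputable def locSESHom {S : ShortComplex (ModuleCat.{u} R)} (hS : S.ShortExact) :
    S ⟶ locSES b hS :=
  ShortComplex.homMk (locHom b S.X₁) (locHom b S.X₂) (locHom b S.X₃)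
    (by
      apply ModuleCat.hom_ext
      exact IsLocalizedModule.map_comp (Submonoid.powers b) _ _ S.f.hom)
    (by
      apply ModuleCat.hom_ext
      exact IsLocalizedModule.map_comp (Submonoid.powers b) _ _ S.g.hom)

/-- `b` acts bijectively on `H^i_a(M_b)`. -/
lemma HH.smul_bijective_loc (a : Ideal R) (M : ModuleCat.{u} R) (i : ℕ) :
    Function.Bijective (fun y : HH a (locObj b M) i => b • y) := by
  have hbij := smul_bijective_localizedModule b M
  let e : LocalizedModule (Submonoid.powers b) M ≃ₗ[R] LocalizedModule (Submonoid.powers b) M :=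
    LinearEquiv.ofBijective (b • LinearMap.id)
      ⟨fun x y h => hbij.1 (by simpa using h), fun y => by
        obtain ⟨x, hx⟩ := hbij.2 y
        exact ⟨x, by simpa using hx⟩⟩
  have hiso : b • 𝟙 (locObj b M) = e.toModuleIso.hom := by
    apply ModuleCat.hom_ext
    apply LinearMap.ext
    intro x
    rfl
  have h1 : (fun y : HH a (locObj b M) i => b • y) = HH.mapIso a e.toModuleIso i := by
    funext y
    rw [HH.smul_eq_map, hiso]
    rfl
  rw [h1]
  exact (HH.mapIso a e.toModuleIso i).bijective

lemma HH.pow_smul_injective_loc (a : Ideal R) (M : ModuleCat.{u} R) (i : ℕ) (n : ℕ)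
    (y : HH a (locObj b M) i) (hy : b ^ n • y = 0) : y = 0 := by
  induction n with
  | zero => simpa using hy
  | succ n ih =>
    apply ih
    apply (HH.smul_bijective_loc b a M i).1
    show b • (b ^ n • y) = b • 0
    rw [smul_zero, ← mul_smul, ← pow_succ', hy]

end loc

/-! ### localizations of injectives are acyclic -/

section acyclic

variable [IsNoetherianRing R]

/-- an injective module is the sum of its `J`-torsion and a `J`-torsion-free injective submodule. -/
theorem exists_injective_complement (J : Ideal R) (E : Type u) [AddCommGroup E] [Module R E]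
    [hE : Module.Injective R E] :
    ∃ E' : Submodule R E, Module.Injective R E' ∧ DRing.torsionSub J E' = ⊥ ∧
      ∀ e : E, ∃ e' ∈ E', e - e' ∈ DRing.torsionSub J E := by
  let T : Submodule R E := DRing.torsionSub J E
  haveI hT : Module.Injective R T := injective_torsionSub J E
  obtain ⟨r, hr⟩ := Module.Injective.extension_property R T T E T.subtype
    (Submodule.injective_subtype T) LinearMap.id
  have hr' : ∀ t : T, r (t : E) = t := fun t => DFunLike.congr_fun hr t
  have hπ : ∀ e : E, ((LinearMap.id : E →ₗ[R] E) - T.subtype.comp r) e ∈ LinearMap.ker r := by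
    intro e
    show r (e - ((r e : T) : E)) = 0
    rw [map_sub, hr', sub_self]
  let π : E →ₗ[R] LinearMap.ker r :=
    ((LinearMap.id : E →ₗ[R] E) - T.subtype.comp r).codRestrict (LinearMap.ker r) hπ
  have hπE : ∀ e : LinearMap.ker r, π (e : E) = e := by
    intro e
    apply Subtype.ext
    show (e : E) - ((r (e : E) : T) : E) = (e : E)
    have h0 : r (e : E) = 0 := e.2
    rw [h0, Submodule.coe_zero, sub_zero]
  refine ⟨LinearMap.ker r, ⟨fun X Y _ _ _ _ f hf g => ?_⟩, ?_, fun e => ?_⟩
  · obtain ⟨h, hh⟩ := hE.out f hf ((LinearMap.ker r).subtype.comp g)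
    refine ⟨π.comp h, fun x => ?_⟩
    rw [LinearMap.comp_apply, hh x]
    exact hπE (g x)
  · rw [eq_bot_iff]
    intro e he
    rw [Submodule.mem_bot]
    have h1 : (e : E) ∈ T := (mem_torsionSub_subtype_iff J (LinearMap.ker r) e).1 he
    have h2 : r (e : E) = ⟨(e : E), h1⟩ := hr' ⟨(e : E), h1⟩
    have h3 : r (e : E) = 0 := e.2
    rw [h3] at h2
    apply Subtype.ext
    exact (congrArg Subtype.val h2).symm
  · refine ⟨e - ((r e : T) : E), hπ e, ?_⟩
    rw [sub_sub_cancel]
    exact (r e).2

/-- `E_b` is `Γ_a`-acyclic for an injective module `E` over a Noetherian ring. -/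
theorem HH.subsingleton_loc_of_injective (a : Ideal R) (b : R) (E : ModuleCat.{u} R)
    [Injective E] (j : ℕ) : Subsingleton (HH a (locObj b E) (j + 1)) := by
  haveI : Injective (ModuleCat.of R E) := inferInstanceAs (Injective E)
  haveI : Module.Injective R E := Module.injective_module_of_injective_object R E
  obtain ⟨E', hE'inj, hE'tf, hdec⟩ := exists_injective_complement (Ideal.span {b}) E
  have hbninj : ∀ (n : ℕ) (e' : E'), b ^ n • e' = 0 → e' = 0 := by
    intro n e' h0
    have h1 : e' ∈ DRing.torsionSub (Ideal.span {b}) E' :=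
      mem_torsionSub_span_of_pow_smul_eq_zero b n h0
    rw [hE'tf] at h1
    exact (Submodule.mem_bot R).1 h1
  have hbsurj : ∀ (n : ℕ) (e' : E'), ∃ e'' : E', b ^ n • e'' = e' := by
    intro n e'
    obtain ⟨e₁, m, hm⟩ := exists_pow_smul_sub_eq_zero E' b e' n
    exact ⟨e₁, sub_eq_zero.1 (hbninj m _ hm)⟩
  let mk := LocalizedModule.mkLinearMap (Submonoid.powers b) E
  let ψ : E' →ₗ[R] LocalizedModule (Submonoid.powers b) E := mk ∘ₗ E'.subtype
  have hψinj : Function.Injective ψ := by
    rw [injective_iff_map_eq_zero]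
    intro e' h0
    obtain ⟨s, hs⟩ := (IsLocalizedModule.eq_zero_iff (Submonoid.powers b) mk).1 h0
    obtain ⟨n, hn⟩ := s.2
    apply hbninj n
    apply Subtype.ext
    have hs' : (s : R) • (e' : E) = 0 := hs
    rw [Submodule.coe_smul, Submodule.coe_zero]
    rw [← hs']
    congr 1
  have hψsurj : Function.Surjective ψ := by
    intro y
    obtain ⟨⟨e, s⟩, hes⟩ := IsLocalizedModule.surj (Submonoid.powers b) mk y
    obtain ⟨n, hn⟩ := s.2
    obtain ⟨e', he', hdiff⟩ := hdec e
    obtain ⟨e'', he''⟩ := hbsurj n ⟨e', he'⟩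
    refine ⟨e'', ?_⟩
    apply (IsLocalizedModule.smul_inj mk s _ _).1
    have h1 : s • y = mk e := hes
    have h2 : mk (e - e') = 0 := by
      obtain ⟨k, hk⟩ := pow_smul_eq_zero_of_mem_torsionSub_span b hdiff
      exact (IsLocalizedModule.eq_zero_iff (Submonoid.powers b) mk).2
        ⟨⟨b ^ k, k, rfl⟩, hk⟩
    have h3 : mk e = mk e' := by
      rw [map_sub, sub_eq_zero] at h2
      exact h2
    have h4 : s • ψ e'' = mk e' := by
      have h5 : s • ψ e'' = mk ((s : R) • (e'' : E)) := by
        rw [map_smul]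
        rfl
      rw [h5]
      congr 1
      have h6 : ((b ^ n • e'' : E') : E) = e' := congrArg Subtype.val he''
      rw [Submodule.coe_smul] at h6
      rw [← h6]
      congr 1
      exact hn.symm
    rw [h4, h1, h3]
  let eψ : E' ≃ₗ[R] LocalizedModule (Submonoid.powers b) E :=
    LinearEquiv.ofBijective ψ ⟨hψinj, hψsurj⟩
  haveI : CategoryTheory.Injective (ModuleCat.of R E') :=
    Module.injective_object_of_injective_module R E'
  haveI := HH.subsingleton_of_injective a (ModuleCat.of R E') j
  exact (HH.mapIso a eψ.toModuleIso (j + 1)).symm.toEquiv.subsingleton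

end acyclic


/-! ### local cohomology commutes with localization at an element -/

section localization

variable [IsNoetherianRing R] (a : Ideal R) (b : R)

lemma HH.loc_zero (M : ModuleCat.{u} R) :
    (∀ x : HH a M 0, HH.map a (locHom b M) 0 x = 0 → ∃ n : ℕ, b ^ n • x = 0) ∧
    (∀ y : HH a (locObj b M) 0, ∃ (n : ℕ) (x : HH a M 0),
      HH.map a (locHom b M) 0 x = b ^ n • y) := by
  let mk := LocalizedModule.mkLinearMap (Submonoid.powers b) M
  constructor
  · intro x hx
    have h1 : mk (HH0 a M x) = 0 := by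
      have h2 := HH0_map a (locHom b M) x
      rw [hx, map_zero] at h2
      exact h2.symm
    obtain ⟨s, hs⟩ := (IsLocalizedModule.eq_zero_iff (Submonoid.powers b) mk).1 h1
    obtain ⟨n, hn⟩ := (Submonoid.mem_powers_iff _ _).1 s.2
    refine ⟨n, HH0_injective a M ?_⟩
    rw [map_smul, map_zero, hn]
    exact hs
  · intro y
    obtain ⟨⟨m, s⟩, hms⟩ :=
      IsLocalizedModule.surj (Submonoid.powers b) mk (HH0 a (locObj b M) y)
    obtain ⟨n₀, hn₀⟩ := (Submonoid.mem_powers_iff _ _).1 s.2
    have hms' : b ^ n₀ • HH0 a (locObj b M) y = mk m := by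
      rw [hn₀]
      exact hms
    obtain ⟨k, hk⟩ := HH0_mem a (locObj b M) y
    have hPfg : (Submodule.map (LinearMap.toSpanSingleton R M m) (a ^ k)).FG :=
      Submodule.FG.map _ (IsNoetherian.noetherian (a ^ k))
    have hPtors : ∀ p ∈ Submodule.map (LinearMap.toSpanSingleton R M m) (a ^ k),
        ∃ n : ℕ, b ^ n • p = 0 := by
      rintro p ⟨r, hr, rfl⟩
      have h1 : mk (r • m) = 0 := by
        rw [map_smul, ← hms', smul_comm, hk r hr, smul_zero]
      obtain ⟨s', hs'⟩ := (IsLocalizedModule.eq_zero_iff (Submonoid.powers b) mk).1 h1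
      obtain ⟨n, hn⟩ := (Submonoid.mem_powers_iff _ _).1 s'.2
      refine ⟨n, ?_⟩
      rw [LinearMap.toSpanSingleton_apply, hn]
      exact hs'
    obtain ⟨t, ht⟩ := exists_pow_smul_eq_zero_of_fg b _ hPfg hPtors
    have hmem : b ^ t • m ∈ DRing.torsionSub a M := by
      refine ⟨k, fun r hr => ?_⟩
      rw [smul_comm]
      have h1 := ht (r • m) ⟨r, hr, LinearMap.toSpanSingleton_apply R M m r⟩
      exact h1
    obtain ⟨x, hx⟩ := exists_HH0_eq a M _ hmem
    refine ⟨t + n₀, x, HH0_injective a (locObj b M) ?_⟩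
    rw [HH0_map, hx]
    show mk (b ^ t • m) = _
    rw [map_smul, map_smul, ← hms', pow_add, mul_smul]

end localization

end Groth.Agent.Lib.Helper4.LC
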