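import Mathlib
import Groth.Prelude.Def_CohCx
import Groth.Prelude.Def_FreeSh

/-!
# Sections of an injective abelian sheaf are divisible

Sub-lemma (TB) requested by helper13 for S9063.
-/

set_option autoImplicit false
set_option linter.unusedSectionVars false
set_option linter.unusedVariables false
set_option linter.style.haveILetI false

universe u

open CategoryTheory CategoryTheory.Limits Opposite

namespace Groth.Agent.Lib.Helper4.InjDivisible

theorem freeAbelianGroup_nsmul_injective (X : Type u) (n : ℕ) (hn : 0 < n) :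
    Function.Injective (fun x : FreeAbelianGroup X => n • x) := by
  intro x y hxy
  have hxy' : n • x = n • y := hxy
  apply (FreeAbelianGroup.equivFinsupp X).injective
  have h := congrArg (FreeAbelianGroup.equivFinsupp X) hxy'
  rw [map_nsmul, map_nsmul] at h
  ext a
  have ha := DFunLike.congr_fun h a
  rw [Finsupp.smul_apply, Finsupp.smul_apply] at ha
  have hn' : (n : ℤ) ≠ 0 := by exact_mod_cast hn.ne'
  simp only [nsmul_eq_mul] at ha
  exact mul_left_cancel₀ hn' ha

variable {C : Type u} [SmallCategory C] (J : GrothendieckTopology C)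

theorem mono_nsmul_freePre (U : C) (n : ℕ) (hn : 0 < n) :
    Mono (n • 𝟙 (CohFree.freePre U)) := by
  rw [NatTrans.mono_iff_mono_app]
  intro T
  rw [AddCommGrpCat.mono_iff_injective]
  intro x y hxy
  have key : ∀ z : (CohFree.freePre U).obj T,
      ((n • 𝟙 (CohFree.freePre U) : CohFree.freePre U ⟶ CohFree.freePre U).app T).hom z =
        n • z := by
    intro z
    rw [NatTrans.app_nsmul]
    rfl
  rw [key, key] at hxy
  exact freeAbelianGroup_nsmul_injective _ n hn hxy

theorem exists_nsmul_eq_of_injective (I : Sheaf J AddCommGrpCat.{u}) [Injective I] (U : C)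
    (s : I.obj.obj (op U)) (n : ℕ) (hn : 0 < n) : ∃ t : I.obj.obj (op U), n • t = s := by
  haveI : Mono (n • 𝟙 (CohFree.freePre U)) := mono_nsmul_freePre U n hn
  haveI : Mono ((presheafToSheaf J AddCommGrpCat.{u}).map (n • 𝟙 (CohFree.freePre U))) :=
    inferInstance
  let φ : CohCx.freeSheaf J U ⟶ I :=
    Injective.factorThru (CohFree.ofSect J U I s)
      ((presheafToSheaf J AddCommGrpCat.{u}).map (n • 𝟙 (CohFree.freePre U)))
  have hφ : (presheafToSheaf J AddCommGrpCat.{u}).map (n • 𝟙 (CohFree.freePre U)) ≫ φ =
      CohFree.ofSect J U I s := Injective.comp_factorThru _ _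
  have hmap : (presheafToSheaf J AddCommGrpCat.{u}).map (n • 𝟙 (CohFree.freePre U)) =
      n • 𝟙 (CohCx.freeSheaf J U) := by
    rw [CategoryTheory.Functor.map_nsmul, CategoryTheory.Functor.map_id]
  rw [hmap, Preadditive.nsmul_comp, Category.id_comp] at hφ
  refine ⟨CohFree.evalGen J U I φ, ?_⟩
  rw [← map_nsmul, hφ, CohFree.evalGen_ofSect]

end Groth.Agent.Lib.Helper4.InjDivisible
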