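import Mathlib
import Groth.Prelude.Def_GmAct

/-!
# The scaling action of `G_m` on the image of `G_m → A^1`

Sub-lemma (E) requested by helper14 for S19039.
-/

set_option autoImplicit false
set_option linter.unusedSectionVars false
set_option linter.unusedVariables false
set_option linter.style.haveILetI false

universe u

open CategoryTheory CategoryTheory.Limits MonoidalCategory CartesianMonoidalCategory MonObj GrpObj
  AlgebraicGeometry Opposite
open scoped TensorProduct Polynomial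

namespace Groth.Agent.Lib.Helper4.GmActJ

variable (R : Type u) [CommRing R]

/-- the library's braided structure on `algSpec`, at the spelling `CommRingCat.of R`. -/
noncomputable local instance braidedAlgSpecOf' : (algSpec (CommRingCat.of R)).Braided :=
  braidedAlgSpec

/-- the inclusion `G_m → A^1`, `t ↦ t`. -/
noncomputable abbrev j : ThetaS.Gm R ⟶ ThetaS.Line R :=
  CoactBr.pt (ThetaS.linePt (ThetaS.zPow R 1))

theorem act_j :
    lift (fst (ThetaS.Gm R) (ThetaS.Gm R)) (snd (ThetaS.Gm R) (ThetaS.Gm R) ≫ j R) ≫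
      (ThetaS.lineAction R).act = μ[ThetaS.Gm R] ≫ j R := by
  let P := ThetaS.Lau R ⊗[R] ThetaS.Lau R
  let iL : ThetaS.Lau R →ₐ[R] P := Algebra.TensorProduct.includeLeft
  let iR : ThetaS.Lau R →ₐ[R] P := Algebra.TensorProduct.includeRight
  let g₀ : CoactBr.sp R P ⟶ ThetaS.Gm R := CoactBr.pt iL
  let h₀ : CoactBr.sp R P ⟶ ThetaS.Gm R := CoactBr.pt iR
  have hiso : IsIso (lift g₀ h₀) := by
    have h1 := CoactBr.lift_pt_pt (R := R) iL iR
    have h2 : (Algebra.TensorProduct.lift iL iR fun _ _ => .all _ _) = AlgHom.id R P := by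
      apply AlgHom.ext
      intro x
      induction x using TensorProduct.induction_on with
      | zero => simp
      | tmul a b =>
        rw [Algebra.TensorProduct.lift_tmul]
        show (a ⊗ₜ[R] (1 : ThetaS.Lau R)) * ((1 : ThetaS.Lau R) ⊗ₜ[R] b) = a ⊗ₜ[R] b
        rw [Algebra.TensorProduct.tmul_mul_tmul, _root_.mul_one, _root_.one_mul]
      | add x y hx hy => rw [map_add, map_add, hx, hy]
    rw [h2, CoactBr.pt_id] at h1
    have hμ : IsIso (Functor.LaxMonoidal.μ (algSpec (CommRingCat.of R))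
        (op (.of R (ThetaS.Lau R))) (op (.of R (ThetaS.Lau R)))) :=
      (Functor.Monoidal.μIso (algSpec (CommRingCat.of R)) (op (.of R (ThetaS.Lau R)))
        (op (.of R (ThetaS.Lau R)))).isIso_hom
    have hcomp : IsIso (lift (CoactBr.pt iL) (CoactBr.pt iR) ≫
        Functor.LaxMonoidal.μ (algSpec (CommRingCat.of R)) (op (.of R (ThetaS.Lau R)))
          (op (.of R (ThetaS.Lau R)))) := by
      rw [h1]; exact IsIso.id _
    exact @IsIso.of_isIso_comp_right _ _ _ _ _ _ _ hμ hcomp
  rw [← cancel_epi (lift g₀ h₀)]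
  have hj : h₀ ≫ j R = CoactBr.pt (ThetaS.linePt (iR (ThetaS.zPow R 1))) :=
    (CoactBr.pt_comp (ThetaS.linePt (ThetaS.zPow R 1)) iR).symm.trans
      (congrArg CoactBr.pt (Polynomial.algHom_ext (by simp)))
  have hL : lift g₀ h₀ ≫ lift (fst (ThetaS.Gm R) (ThetaS.Gm R))
        (snd (ThetaS.Gm R) (ThetaS.Gm R) ≫ j R) ≫ (ThetaS.lineAction R).act =
      CoactBr.pt (ThetaS.linePt (iL (ThetaS.zPow R 1) * iR (ThetaS.zPow R 1))) := by
    rw [← Category.assoc, comp_lift, lift_fst, lift_snd_assoc, hj]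
    exact ThetaS.lineAction_pt iL (iR (ThetaS.zPow R 1))
  have hR : lift g₀ h₀ ≫ μ[ThetaS.Gm R] ≫ j R =
      CoactBr.pt (ThetaS.linePt (iL (ThetaS.zPow R 1) * iR (ThetaS.zPow R 1))) := by
    rw [← Category.assoc, ← Hom.mul_def]
    have hm : g₀ * h₀ = CoactBr.pt ((Algebra.TensorProduct.lift iL iR fun _ _ => .all _ _).comp
        (Bialgebra.comulAlgHom R (ThetaS.Lau R))) := CoactBr.pt_mul_pt iL iR
    rw [hm]
    refine (CoactBr.pt_comp (ThetaS.linePt (ThetaS.zPow R 1)) _).symm.trans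
      (congrArg CoactBr.pt (Polynomial.algHom_ext ?_))
    simp [Bialgebra.comulAlgHom_apply, iL, iR]
  rw [hL, hR]

/-- the same statement with `j` written out. -/
theorem act_j' :
    lift (fst (ThetaS.Gm R) (ThetaS.Gm R))
        (snd (ThetaS.Gm R) (ThetaS.Gm R) ≫
          (CoactBr.pt (ThetaS.linePt (ThetaS.zPow R 1)) : ThetaS.Gm R ⟶ ThetaS.Line R)) ≫
      (ThetaS.lineAction R).act =
    μ[ThetaS.Gm R] ≫ (CoactBr.pt (ThetaS.linePt (ThetaS.zPow R 1)) : ThetaS.Gm R ⟶ ThetaS.Line R) :=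
  act_j R

end Groth.Agent.Lib.Helper4.GmActJ
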