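import Mathlib
import Groth.Agent.Lib.Helper4.LC4
import Groth.Agent.Lib.Helper18.NormA
import Groth.Prelude.Def_Wider

/-!
# The contravariant δ-functor `T^j(M) = Hom_{D(A)}(M, ω[j])`

Long exact sequence of `Hom_{D(A)}(-, ω[j])` along short exact sequences of modules, in the
language of `ShiftedHom`, finiteness and vanishing for a (normalized) dualizing complex, and
exactness of `Hom_A(-, E)` for an injective module `E` (universe polymorphic).
-/

set_option autoImplicit false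
set_option linter.style.haveILetI false
set_option linter.unusedSectionVars false
set_option linter.unusedVariables false
set_option maxHeartbeats 800000

open CategoryTheory CategoryTheory.Limits CategoryTheory.Pretriangulated DerivedCategory Abelian

universe u

attribute [local instance] HasDerivedCategory.standard

namespace Groth.Agent.Lib.Helper4.DT

section general

variable {C : Type*} [Category C] [Preadditive C] [HasZeroObject C] [HasShift C ℤ]
  [∀ n : ℤ, (shiftFunctor C n).Additive] [Pretriangulated C]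

/-- exactness of `Hom(-, Y)` at the first vertex of a distinguished triangle. -/
lemma yoneda_exact₁ (T : Triangle C) (hT : T ∈ distTriang C) {Y : C} (f : T.obj₁ ⟶ Y)
    (hf : T.mor₃ ≫ (shiftFunctor C (1 : ℤ)).map f = 0) : ∃ g : T.obj₂ ⟶ Y, f = T.mor₁ ≫ g := by
  obtain ⟨G, hG⟩ := Triangle.yoneda_exact₂ T.rotate.rotate
    (rot_of_distTriang _ (rot_of_distTriang _ hT)) ((shiftFunctor C (1 : ℤ)).map f) hf
  let G' : (shiftFunctor C (1 : ℤ)).obj T.obj₂ ⟶ (shiftFunctor C (1 : ℤ)).obj Y := G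
  have hG' : (shiftFunctor C (1 : ℤ)).map f = (-(shiftFunctor C (1 : ℤ)).map T.mor₁) ≫ G' := hG
  refine ⟨-(shiftFunctor C (1 : ℤ)).preimage G', ?_⟩
  apply (shiftFunctor C (1 : ℤ)).map_injective
  rw [hG', CategoryTheory.Functor.map_comp, CategoryTheory.Functor.map_neg,
    CategoryTheory.Functor.map_preimage, Preadditive.neg_comp, Preadditive.comp_neg]

end general

section dual

variable {A : Type u} [CommRing A] {E : Type u} [AddCommGroup E] [Module A E]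

/-- exactness of `Hom_A(-, E)` for injective `E`, elementwise (universe polymorphic). -/
lemma dual_exact [Module.Injective A E] {B C D : Type*} [AddCommGroup B] [Module A B]
    [AddCommGroup C] [Module A C] [AddCommGroup D] [Module A D] (p : B →ₗ[A] C) (q : C →ₗ[A] D)
    (hex : ∀ c, q c = 0 → ∃ b, p b = c) (lam : C →ₗ[A] E) (hlam : lam ∘ₗ p = 0) :
    ∃ μ : D →ₗ[A] E, μ ∘ₗ q = lam := by
  have hle : LinearMap.ker q ≤ LinearMap.ker lam := by
    intro c hc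
    obtain ⟨b, rfl⟩ := hex c (LinearMap.mem_ker.1 hc)
    exact LinearMap.mem_ker.2 (LinearMap.congr_fun hlam b)
  have hinj : Function.Injective ((LinearMap.ker q).liftQ q le_rfl) := by
    rw [← LinearMap.ker_eq_bot]
    exact Submodule.ker_liftQ_eq_bot _ _ _ le_rfl
  obtain ⟨μ, hμ⟩ := Module.Injective.extension_property A E _ _
    ((LinearMap.ker q).liftQ q le_rfl) hinj ((LinearMap.ker q).liftQ lam hle)
  refine ⟨μ, ?_⟩
  ext c
  have h := LinearMap.congr_fun hμ (Submodule.Quotient.mk c)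
  simpa using h

end dual

variable {A : Type u} [CommRing A]

/-- a module as a complex in degree `0`. -/
noncomputable abbrev sg (X : ModuleCat.{u} A) : Dual.D A :=
  (DerivedCategory.singleFunctor (ModuleCat.{u} A) 0).obj X

/-- the map induced by a module map. -/
noncomputable abbrev sgm {X Y : ModuleCat.{u} A} (g : X ⟶ Y) : sg X ⟶ sg Y :=
  (DerivedCategory.singleFunctor (ModuleCat.{u} A) 0).map g

lemma sgm_id (X : ModuleCat.{u} A) : sgm (𝟙 X) = 𝟙 (sg X) := CategoryTheory.Functor.map_id _ _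

lemma sgm_comp {X Y Z : ModuleCat.{u} A} (g : X ⟶ Y) (g' : Y ⟶ Z) :
    sgm (g ≫ g') = sgm g ≫ sgm g' := CategoryTheory.Functor.map_comp _ _ _

lemma sgm_smul {X Y : ModuleCat.{u} A} (r : A) (g : X ⟶ Y) : sgm (r • g) = r • sgm g :=
  CategoryTheory.Functor.map_smul _ _ _

lemma isZero_sg (X : ModuleCat.{u} A) (h : Subsingleton X) : IsZero (sg X) :=
  CategoryTheory.Functor.map_isZero _ (ModuleCat.isZero_of_subsingleton X)

variable (ω : Dual.D A)

lemma subsingleton_hom_of_subsingleton (X : ModuleCat.{u} A) (h : Subsingleton X) (j : ℤ) :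
    Subsingleton (sg X ⟶ ω⟦j⟧) :=
  ⟨fun a b => (isZero_sg X h).eq_of_src a b⟩

/-- `T^j(g)`: precomposition. -/
noncomputable def Tmap {X Y : ModuleCat.{u} A} (g : X ⟶ Y) (j : ℤ) :
    (sg Y ⟶ ω⟦j⟧) →ₗ[A] (sg X ⟶ ω⟦j⟧) :=
  Linear.leftComp A (ω⟦j⟧) (sgm g)

lemma Tmap_apply {X Y : ModuleCat.{u} A} (g : X ⟶ Y) (j : ℤ) (φ : sg Y ⟶ ω⟦j⟧) :
    Tmap ω g j φ = sgm g ≫ φ := rfl

lemma Tmap_id (X : ModuleCat.{u} A) (j : ℤ) (φ : sg X ⟶ ω⟦j⟧) : Tmap ω (𝟙 X) j φ = φ := by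
  rw [Tmap_apply, sgm_id, Category.id_comp]

lemma Tmap_comp {X Y Z : ModuleCat.{u} A} (g : X ⟶ Y) (g' : Y ⟶ Z) (j : ℤ)
    (φ : sg Z ⟶ ω⟦j⟧) : Tmap ω (g ≫ g') j φ = Tmap ω g j (Tmap ω g' j φ) := by
  rw [Tmap_apply, Tmap_apply, Tmap_apply, sgm_comp, Category.assoc]

lemma Tmap_smul_id (X : ModuleCat.{u} A) (r : A) (j : ℤ) (φ : sg X ⟶ ω⟦j⟧) :
    Tmap ω (r • 𝟙 X) j φ = r • φ := by
  rw [Tmap_apply, sgm_smul, sgm_id, Linear.smul_comp, Category.id_comp]

section LES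

variable {S : ShortComplex (ModuleCat.{u} A)} (hS : S.ShortExact)

/-- the connecting map `T^j(X₁) → T^{j+1}(X₃)`: composition with the extension class. -/
noncomputable def Tδ (j j' : ℤ) (h : j + ((1 : ℕ) : ℤ) = j') :
    (sg S.X₁ ⟶ ω⟦j⟧) →ₗ[A] (sg S.X₃ ⟶ ω⟦j'⟧) where
  toFun φ := hS.extClass.hom.comp (φ : ShiftedHom (sg S.X₁) ω j) h
  map_add' φ φ' := ShiftedHom.comp_add _ _ _ _
  map_smul' r φ := ShiftedHom.comp_smul r _ _ _

lemma Tδ_apply (j j' : ℤ) (h : j + ((1 : ℕ) : ℤ) = j') (φ : sg S.X₁ ⟶ ω⟦j⟧) :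
    Tδ ω hS j j' h φ = hS.extClass.hom.comp (φ : ShiftedHom (sg S.X₁) ω j) h := rfl

include hS in
lemma T_exact₂ (j : ℤ) (x₂ : sg S.X₂ ⟶ ω⟦j⟧) (h : Tmap ω S.f j x₂ = 0) :
    ∃ x₃ : sg S.X₃ ⟶ ω⟦j⟧, Tmap ω S.g j x₃ = x₂ := by
  obtain ⟨x₃, hx₃⟩ := Triangle.yoneda_exact₂ _ hS.singleTriangle_distinguished x₂ h
  exact ⟨x₃, hx₃.symm⟩

lemma T_exact₃ (j j' : ℤ) (h : j + ((1 : ℕ) : ℤ) = j') (x₃ : sg S.X₃ ⟶ ω⟦j'⟧)
    (hx : Tmap ω S.g j' x₃ = 0) : ∃ x₁ : sg S.X₁ ⟶ ω⟦j⟧, Tδ ω hS j j' h x₁ = x₃ := by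
  obtain ⟨y, hy⟩ := Triangle.yoneda_exact₃ _ hS.singleTriangle_distinguished x₃ hx
  let y' : (shiftFunctor (Dual.D A) ((1 : ℕ) : ℤ)).obj (sg S.X₁) ⟶ ω⟦j'⟧ := y
  refine ⟨(shiftFunctor (Dual.D A) ((1 : ℕ) : ℤ)).preimage
    (y' ≫ (shiftFunctorAdd' (Dual.D A) j ((1 : ℕ) : ℤ) j' h).hom.app ω), ?_⟩
  rw [Tδ_apply, ShiftedHom.comp, CategoryTheory.Functor.map_preimage, Category.assoc, Iso.hom_inv_id_app,
    Category.comp_id, hS.extClass_hom]
  exact hy.symm

lemma T_exact₁ (j j' : ℤ) (h : j + ((1 : ℕ) : ℤ) = j') (x₁ : sg S.X₁ ⟶ ω⟦j⟧)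
    (hx : Tδ ω hS j j' h x₁ = 0) : ∃ x₂ : sg S.X₂ ⟶ ω⟦j⟧, Tmap ω S.f j x₂ = x₁ := by
  have h1 : hS.singleδ ≫ (shiftFunctor (Dual.D A) (1 : ℤ)).map x₁ = 0 := by
    have h2 : hS.extClass.hom.comp (x₁ : ShiftedHom (sg S.X₁) ω j) h = 0 := hx
    rw [ShiftedHom.comp, hS.extClass_hom] at h2
    have h3 : (hS.singleδ ≫ (shiftFunctor (Dual.D A) ((1 : ℕ) : ℤ)).map x₁) ≫
        (shiftFunctorAdd' (Dual.D A) j ((1 : ℕ) : ℤ) j' h).inv.app ω =
        0 ≫ (shiftFunctorAdd' (Dual.D A) j ((1 : ℕ) : ℤ) j' h).inv.app ω := by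
      rw [Category.assoc, zero_comp]
      exact h2
    exact (cancel_mono _).1 h3
  obtain ⟨x₂, hx₂⟩ := yoneda_exact₁ _ hS.singleTriangle_distinguished x₁ h1
  exact ⟨x₂, hx₂.symm⟩

lemma Tmap_g_Tδ (j j' : ℤ) (h : j + ((1 : ℕ) : ℤ) = j') (φ : sg S.X₁ ⟶ ω⟦j⟧) :
    Tmap ω S.g j' (Tδ ω hS j j' h φ) = 0 := by
  have h0 : sgm S.g ≫ hS.extClass.hom = 0 := by
    rw [hS.extClass_hom]
    exact comp_distTriang_mor_zero₂₃ _ hS.singleTriangle_distinguished
  rw [Tmap_apply, Tδ_apply, ShiftedHom.comp, ← Category.assoc, h0, zero_comp]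

end LES

section dualizing

open Groth.Agent.Lib.Helper18.DR

variable [IsLocalRing A] [IsNoetherianRing A]

lemma subsingleton_HD_inD (M : Type u) [AddCommGroup M] [Module A M] (i : ℤ) (hi : i ≠ 0) :
    Subsingleton (Dual.HD A (Dual.inD A M) i) := by
  rcases lt_or_gt_of_ne hi with h' | h'
  · exact ModuleCat.subsingleton_of_isZero (isZero_of_isGE (Sg 0 (ModuleCat.of A M)) 0 i h')
  · exact ModuleCat.subsingleton_of_isZero (isZero_of_isLE (Sg 0 (ModuleCat.of A M)) 0 i h')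

lemma finite_HD_inD (M : Type u) [AddCommGroup M] [Module A M] [Module.Finite A M] (i : ℤ) :
    Module.Finite A (Dual.HD A (Dual.inD A M) i) := by
  by_cases hi : i = 0
  · subst hi
    exact Module.Finite.equiv (HSg 0 (ModuleCat.of A M)).toLinearEquiv.symm
  · haveI := subsingleton_HD_inD (A := A) M i hi
    infer_instance

variable {ω}

/-- `Hom_{D(A)}(M, ω[j])` is a finite module for finite `M`. -/
lemma T_finite (hω : Dual.IsDualizing A ω) (M : Type u) [AddCommGroup M] [Module A M]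
    [Module.Finite A M] (j : ℤ) : Module.Finite A (Dual.inD A M ⟶ ω⟦j⟧) :=
  finite_hom_shift_of_finiteInjDim (Dual.inD A M) ω (finite_HD_inD (A := A) M) hω.finite_cohomology
    ((hasFiniteInjDim_iff ω).2 hω.finite_injective_dimension) j

/-- `Hom_{D(A)}(M, ω[j]) = 0` for `j > 0` and normalized `ω`. -/
lemma T_pos (hω : Dual.IsDualizing A ω) (hn : Dual.IsNormalized A ω) (M : Type u)
    [AddCommGroup M] [Module A M] (j : ℤ) (hj : 0 < j) : Subsingleton (Dual.inD A M ⟶ ω⟦j⟧) :=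
  Norm.subsingleton_hom_shift_of_normalized ω hω hn (Dual.inD A M)
    (fun i hi => subsingleton_HD_inD (A := A) M i (ne_of_lt hi)) j hj

end dualizing

end Groth.Agent.Lib.Helper4.DT
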