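import Mathlib
import Groth.Agent.Lib.Helper4.DT1
import Groth.Agent.Lib.Helper1.Matlis
import Groth.Agent.Lib.Helper1.MatlisEnd
import Groth.Agent.S0364

/-!
# Finite length dévissage for `T^j` and the trace maps `T^0(A/m^n) → E`
-/

set_option autoImplicit false
set_option linter.style.haveILetI false
set_option linter.unusedSectionVars false
set_option linter.unusedVariables false
set_option maxHeartbeats 800000

open CategoryTheory CategoryTheory.Limits CategoryTheory.Pretriangulated DerivedCategory Abelian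
open IsLocalRing

universe u

attribute [local instance] HasDerivedCategory.standard

namespace Groth.Agent.Lib.Helper4.DT

open Groth.Agent.Lib.Helper4.LC

variable {A : Type u} [CommRing A] [IsLocalRing A]

/-- induction principle for modules of finite length over a local ring, in categorical form. -/
theorem finiteLength_induction (P : ModuleCat.{u} A → Prop)
    (h0 : ∀ X : ModuleCat.{u} A, Subsingleton X → P X)
    (hk : P (ModuleCat.of A (ResidueField A)))
    (hiso : ∀ X Y : ModuleCat.{u} A, (X ≅ Y) → P X → P Y)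
    (hses : ∀ S : ShortComplex (ModuleCat.{u} A), S.ShortExact → P S.X₁ → P S.X₃ → P S.X₂)
    (N : Type u) [AddCommGroup N] [Module A N] (hN : IsFiniteLength A N) :
    P (ModuleCat.of A N) := by
  induction hN with
  | @of_subsingleton N _ _ hsub => exact h0 (ModuleCat.of A N) hsub
  | @of_simple_quotient N _ _ N' hsimple hN' ih =>
    have hS := sesOf_shortExact N'.subtype N'.mkQ (LinearMap.exact_subtype_mkQ N')
      (Submodule.injective_subtype N') (Submodule.mkQ_surjective N')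
    obtain ⟨I, hI, ⟨e⟩⟩ := isSimpleModule_iff_quot_maximal.mp hsimple
    obtain rfl := eq_maximalIdeal hI
    have hq : P (ModuleCat.of A (N ⧸ N')) :=
      hiso _ _ ((e.trans
        Groth.Agent.Lib.Helper1.Matlis.quotEquivResidueField).symm.toModuleIso) hk
    exact hses _ hS ih hq

variable {ω : Dual.D A}

/-- `Hom_{D(A)}(N, ω[j]) = 0` for `j ≠ 0` and `N` of finite length (`ω` normalized). -/
theorem T_subsingleton_of_finiteLength (hn : Dual.IsNormalized A ω) (N : Type u)
    [AddCommGroup N] [Module A N] (hN : IsFiniteLength A N) :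
    ∀ j : ℤ, j ≠ 0 → Subsingleton (sg (ModuleCat.of A N) ⟶ ω⟦j⟧) := by
  refine finiteLength_induction (fun X => ∀ j : ℤ, j ≠ 0 → Subsingleton (sg X ⟶ ω⟦j⟧))
    ?_ ?_ ?_ ?_ N hN
  · intro X hX j _
    exact subsingleton_hom_of_subsingleton ω X hX j
  · intro j hj
    exact hn j hj
  · intro X Y e hX j hj
    haveI := hX j hj
    exact ⟨fun a b => (cancel_epi (sgm e.hom)).1 (Subsingleton.elim _ _)⟩
  · intro S hS h1 h3 j hj
    haveI := h1 j hj
    haveI := h3 j hj
    refine ⟨fun a b => ?_⟩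
    have key : ∀ x : sg S.X₂ ⟶ ω⟦j⟧, x = 0 := by
      intro x
      obtain ⟨x₃, rfl⟩ := T_exact₂ ω hS j x (Subsingleton.elim _ _)
      rw [Subsingleton.elim x₃ 0, map_zero]
    rw [key a, key b]

section trace

variable [IsNoetherianRing A] (ω)

/-- `T^0(A/m^n)`. -/
abbrev T0 (n : ℕ) : Type (u + 1) := (sg (Q (maximalIdeal A) n) ⟶ ω⟦(0 : ℤ)⟧)

/-- transition maps of the system `T^0(A/m^n)`. -/
noncomputable def trT : ∀ n k : ℕ, n ≤ k → (T0 ω n →ₗ[A] T0 ω k) :=
  fun n k h => Tmap ω (qmap (maximalIdeal A) h) 0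

instance : DirectedSystem (fun n : ℕ => T0 ω n) (trT ω · · ·) where
  map_self n x := by
    change Tmap ω (qmap (maximalIdeal A) (le_refl n)) 0 x = x
    rw [qmap_refl, Tmap_id]
  map_map k j n hnj hjk x := by
    change Tmap ω (qmap (maximalIdeal A) hjk) 0 (Tmap ω (qmap (maximalIdeal A) hnj) 0 x) =
      Tmap ω (qmap (maximalIdeal A) (hnj.trans hjk)) 0 x
    rw [← Tmap_comp, qmap_comp]

lemma trT_injective (hn : Dual.IsNormalized A ω) {n k : ℕ} (h : n ≤ k) :
    Function.Injective (trT ω n k h) := by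
  rw [injective_iff_map_eq_zero]
  intro x hx
  let gl : (A ⧸ maximalIdeal A ^ k) →ₗ[A] (A ⧸ maximalIdeal A ^ n) :=
    Submodule.mapQ (maximalIdeal A ^ k) (maximalIdeal A ^ n) LinearMap.id
      (Ideal.pow_le_pow_right h)
  have hgl : Function.Surjective gl := by
    intro y
    obtain ⟨r, rfl⟩ := Submodule.Quotient.mk_surjective _ y
    exact ⟨Submodule.Quotient.mk r, rfl⟩
  have hS := sesOf_shortExact (LinearMap.ker gl).subtype gl (LinearMap.exact_subtype_ker_map gl)
    (Submodule.injective_subtype _) hgl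
  have hfl : IsFiniteLength A (LinearMap.ker gl) := by
    have h1 := Groth.Agent.Lib.Helper1.Matlis.isFiniteLength_quotient_pow (R := A) k
    rw [isFiniteLength_iff_isNoetherian_isArtinian] at h1 ⊢
    obtain ⟨h2, h3⟩ := h1
    exact ⟨inferInstance, inferInstance⟩
  have hsub := T_subsingleton_of_finiteLength (ω := ω) hn _ hfl (-1) (by norm_num)
  have hx' : Tmap ω (sesOf (LinearMap.ker gl).subtype gl (LinearMap.exact_subtype_ker_map gl)).g
      0 x = 0 := hx
  obtain ⟨x₁, rfl⟩ := T_exact₃ ω hS (-1) 0 (by norm_num) x hx'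
  have hx₁ : x₁ = 0 := @Subsingleton.elim _ hsub x₁ 0
  rw [hx₁, map_zero]

/-- **Trace maps**: a compatible system `T^0(A/m^n) → E`, nonzero on `T^0(A/m)`. -/
theorem exists_trace (hω : Dual.IsDualizing A ω) (hn : Dual.IsNormalized A ω) {E : Type u}
    [AddCommGroup E] [Module A E] (f : ResidueField A →ₗ[A] E)
    (hf : InjHull.IsInjectiveHull f) :
    ∃ τ : ∀ n : ℕ, T0 ω n →ₗ[A] E,
      (∀ (n k : ℕ) (h : n ≤ k) (ψ : T0 ω n),
        τ k (Tmap ω (qmap (maximalIdeal A) h) 0 ψ) = τ n ψ) ∧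
      ∃ ψ₁ : T0 ω 1, τ 1 ψ₁ ≠ 0 := by
  obtain ⟨d, -, ⟨e⟩⟩ : ∃ d : ℤ,
      (∀ i : ℤ, i ≠ d → Subsingleton (sg (ModuleCat.of A (ResidueField A)) ⟶ ω⟦i⟧)) ∧
      Nonempty ((sg (ModuleCat.of A (ResidueField A)) ⟶ ω⟦d⟧) ≃ₗ[A] ResidueField A) :=
    Groth.Agent.S0364.result A ω hω (maximalIdeal A)
  have hd : d = 0 := by
    by_contra hne
    haveI := hn d hne
    exact not_subsingleton (ResidueField A) e.symm.injective.subsingleton
  subst hd
  let e1 : (A ⧸ maximalIdeal A ^ 1) ≃ₗ[A] ResidueField A :=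
    (Submodule.quotEquivOfEq (maximalIdeal A ^ 1) (maximalIdeal A) (pow_one _)).trans
      Groth.Agent.Lib.Helper1.Matlis.quotEquivResidueField
  let i1 : Q (maximalIdeal A) 1 ≅ ModuleCat.of A (ResidueField A) := e1.toModuleIso
  let g₁ : T0 ω 1 →ₗ[A] E := f ∘ₗ e.toLinearMap ∘ₗ Tmap ω i1.inv 0
  have hι : Function.Injective
      (Module.DirectLimit.of A ℕ (fun n => T0 ω n) (trT ω) 1) := by
    rw [injective_iff_map_eq_zero]
    intro x hx
    obtain ⟨j, hj, h0⟩ := Module.DirectLimit.of.zero_exact hx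
    exact trT_injective ω hn hj (h0.trans (map_zero _).symm)
  haveI := hf.isInjective
  obtain ⟨τ, hτ⟩ := Module.Injective.extension_property A E _ _
    (Module.DirectLimit.of A ℕ (fun n => T0 ω n) (trT ω) 1) hι g₁
  refine ⟨fun n => τ ∘ₗ Module.DirectLimit.of A ℕ (fun n => T0 ω n) (trT ω) n, ?_, ?_⟩
  · intro n k h ψ
    change τ (Module.DirectLimit.of A ℕ (fun n => T0 ω n) (trT ω) k (trT ω n k h ψ)) =
      τ (Module.DirectLimit.of A ℕ (fun n => T0 ω n) (trT ω) n ψ)
    rw [Module.DirectLimit.of_f]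
  · refine ⟨Tmap ω i1.hom 0 (e.symm 1), ?_⟩
    have h1 := LinearMap.congr_fun hτ (Tmap ω i1.hom 0 (e.symm 1))
    change τ (Module.DirectLimit.of A ℕ (fun n => T0 ω n) (trT ω) 1 _) ≠ 0
    rw [LinearMap.comp_apply] at h1
    rw [h1]
    change f (e (Tmap ω i1.inv 0 (Tmap ω i1.hom 0 (e.symm 1)))) ≠ 0
    rw [← Tmap_comp, i1.inv_hom_id, Tmap_id, LinearEquiv.apply_symm_apply]
    intro h0
    exact one_ne_zero (hf.injective (h0.trans (map_zero f).symm))

end trace

end Groth.Agent.Lib.Helper4.DT
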