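import Mathlib
import Groth.Agent.Lib.Helper4.DT2

/-!
# The duality pairing `H^i_m(M) → Hom_A(Hom_{D(A)}(M, ω[-i]), E)`
-/

set_option autoImplicit false
set_option linter.style.haveILetI false
set_option linter.unusedSectionVars false
set_option linter.unusedVariables false
set_option maxHeartbeats 800000

open CategoryTheory CategoryTheory.Limits CategoryTheory.Pretriangulated DerivedCategory Abelian
open IsLocalRing

universe u

attribute [local instance] HasDerivedCategory.standard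

namespace Groth.Agent.Lib.Helper4.DT

open Groth.Agent.Lib.Helper4.LC

variable {A : Type u} [CommRing A] [IsLocalRing A] {ω : Dual.D A} {E : Type u} [AddCommGroup E]
  [Module A E] (τ : ∀ n : ℕ, T0 ω n →ₗ[A] E)
  (hτ : ∀ (n k : ℕ) (h : n ≤ k) (ψ : T0 ω n),
    τ k (Tmap ω (qmap (maximalIdeal A) h) 0 ψ) = τ n ψ)

/-- the pairing at the `n`-th stage. -/
noncomputable def psiN (X : ModuleCat.{u} A) (i n : ℕ) :
    Ext.{u} (Q (maximalIdeal A) n) X i →ₗ[A] ((sg X ⟶ ω⟦-(i : ℤ)⟧) →ₗ[A] E) where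
  toFun e :=
    { toFun := fun φ => τ n (e.hom.comp (φ : ShiftedHom (sg X) ω (-(i : ℤ)))
        (neg_add_cancel (i : ℤ)))
      map_add' := fun φ φ' =>
        (congrArg (τ n) (ShiftedHom.comp_add e.hom φ φ' (neg_add_cancel (i : ℤ)))).trans
          (map_add (τ n) _ _)
      map_smul' := fun r φ =>
        (congrArg (τ n) (ShiftedHom.comp_smul r e.hom φ (neg_add_cancel (i : ℤ)))).trans
          (map_smul (τ n) r _) }
  map_add' e e' := by
    ext φ
    exact (congrArg (τ n) ((congrArg (fun t => ShiftedHom.comp t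
      (φ : ShiftedHom (sg X) ω (-(i : ℤ))) (neg_add_cancel (i : ℤ))) (Ext.add_hom e e')).trans
        (ShiftedHom.add_comp e.hom e'.hom φ (neg_add_cancel (i : ℤ))))).trans (map_add (τ n) _ _)
  map_smul' r e := by
    ext φ
    exact (congrArg (τ n) ((congrArg (fun t => ShiftedHom.comp t
      (φ : ShiftedHom (sg X) ω (-(i : ℤ))) (neg_add_cancel (i : ℤ))) (Ext.smul_hom e r)).trans
        (ShiftedHom.smul_comp r e.hom φ (neg_add_cancel (i : ℤ))))).trans (map_smul (τ n) r _)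

lemma psiN_apply (X : ModuleCat.{u} A) (i n : ℕ) (e : Ext.{u} (Q (maximalIdeal A) n) X i)
    (φ : sg X ⟶ ω⟦-(i : ℤ)⟧) :
    psiN τ X i n e φ = τ n (e.hom.comp (φ : ShiftedHom (sg X) ω (-(i : ℤ)))
      (neg_add_cancel (i : ℤ))) := rfl

include hτ in
lemma psiN_compat (X : ModuleCat.{u} A) (i n k : ℕ) (h : n ≤ k)
    (e : Ext.{u} (Q (maximalIdeal A) n) X i) :
    psiN τ X i k (trF (maximalIdeal A) X i n k h e) = psiN τ X i n e := by
  ext φ
  rw [psiN_apply, psiN_apply, ← hτ n k h]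
  congr 1
  change ((Ext.mk₀ (qmap (maximalIdeal A) h)).comp e (zero_add i)).hom.comp
      (φ : ShiftedHom (sg X) ω (-(i : ℤ))) (neg_add_cancel (i : ℤ)) =
    sgm (qmap (maximalIdeal A) h) ≫ e.hom.comp (φ : ShiftedHom (sg X) ω (-(i : ℤ)))
      (neg_add_cancel (i : ℤ))
  rw [← Ext.singleFunctor_map_comp_hom]
  simp only [ShiftedHom.comp, Category.assoc]

/-- **The duality map** `H^i_m(X) → Hom_A(Hom_{D(A)}(X, ω[-i]), E)`. -/
noncomputable def Psi (X : ModuleCat.{u} A) (i : ℕ) :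
    HH (maximalIdeal A) X i →ₗ[A] ((sg X ⟶ ω⟦-(i : ℤ)⟧) →ₗ[A] E) :=
  Module.DirectLimit.lift A ℕ (fun n : ℕ => Ext.{u} (Q (maximalIdeal A) n) X i)
    (trF (maximalIdeal A) X i) (psiN τ X i) (fun n k h e => psiN_compat τ hτ X i n k h e)

lemma Psi_of_apply (X : ModuleCat.{u} A) (i n : ℕ) (e : Ext.{u} (Q (maximalIdeal A) n) X i)
    (φ : sg X ⟶ ω⟦-(i : ℤ)⟧) :
    Psi τ hτ X i (HH.of (maximalIdeal A) X i n e) φ =
      τ n (e.hom.comp (φ : ShiftedHom (sg X) ω (-(i : ℤ))) (neg_add_cancel (i : ℤ))) := by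
  have h : Psi τ hτ X i (HH.of (maximalIdeal A) X i n e) = psiN τ X i n e :=
    Module.DirectLimit.lift_of _ _ _
  rw [h, psiN_apply]

/-- naturality in the module. -/
lemma Psi_map {X Y : ModuleCat.{u} A} (g : X ⟶ Y) (i : ℕ) (z : HH (maximalIdeal A) X i)
    (φ : sg Y ⟶ ω⟦-(i : ℤ)⟧) :
    Psi τ hτ Y i (HH.map (maximalIdeal A) g i z) φ = Psi τ hτ X i z (Tmap ω g (-(i : ℤ)) φ) := by
  obtain ⟨n, e, rfl⟩ := HH.exists_of (maximalIdeal A) X i z
  rw [HH.map_of, Psi_of_apply, Psi_of_apply]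
  congr 1
  rw [Ext.comp_hom, Ext.mk₀_hom, ShiftedHom.comp_mk₀, Tmap_apply]
  simp only [ShiftedHom.comp, Category.assoc, Functor.map_comp]

/-- compatibility with the connecting homomorphisms. -/
lemma Psi_δ {S : ShortComplex (ModuleCat.{u} A)} (hS : S.ShortExact) (i : ℕ)
    (z : HH (maximalIdeal A) S.X₃ i) (φ : sg S.X₁ ⟶ ω⟦-((i + 1 : ℕ) : ℤ)⟧) :
    Psi τ hτ S.X₁ (i + 1) (HH.δ (maximalIdeal A) hS i z) φ =
      Psi τ hτ S.X₃ i z (Tδ ω hS (-((i + 1 : ℕ) : ℤ)) (-(i : ℤ)) (by push_cast; ring) φ) := by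
  obtain ⟨n, e, rfl⟩ := HH.exists_of (maximalIdeal A) S.X₃ i z
  rw [HH.δ_of, Psi_of_apply, Psi_of_apply]
  congr 1
  rw [Ext.comp_hom, Tδ_apply]
  exact ShiftedHom.comp_assoc e.hom hS.extClass.hom
    (φ : ShiftedHom (sg S.X₁) ω (-((i + 1 : ℕ) : ℤ))) _ _ (by push_cast; ring)

end Groth.Agent.Lib.Helper4.DT
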