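import Mathlib
import Groth.Prelude.Def_Wider

/-!
# Injective hulls of the residue field of a local ring
-/

set_option autoImplicit false

universe u v

open IsLocalRing

namespace Groth.Agent.Lib.Helper4.Matlis

section general

variable {B : Type u} [CommRing B] [IsLocalRing B] {E : Type v} [AddCommGroup E] [Module B E]

lemma smul_residue_one (b : B) : b • (1 : ResidueField B) = residue B b := by
  rw [Algebra.smul_def, mul_one, ResidueField.algebraMap_eq]

lemma apply_residue (g : ResidueField B →ₗ[B] E) (b : B) : g (residue B b) = b • g 1 := by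
  rw [← smul_residue_one, map_smul]

lemma ext_of_apply_one {g h : ResidueField B →ₗ[B] E} (H : g 1 = h 1) : g = h := by
  refine LinearMap.ext fun c => ?_
  obtain ⟨b, rfl⟩ := residue_surjective c
  rw [apply_residue, apply_residue, H]

lemma maximalIdeal_smul_apply (g : ResidueField B →ₗ[B] E) (c : ResidueField B) (b : B)
    (hb : b ∈ maximalIdeal B) : b • g c = 0 := by
  rw [← map_smul]
  obtain ⟨b', rfl⟩ := residue_surjective c
  rw [Algebra.smul_def, ResidueField.algebraMap_eq, ← map_mul,
    (residue_eq_zero_iff (b * b')).mpr (Ideal.mul_mem_right _ _ hb), map_zero]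

/-- A socle element gives a map from the residue field. -/
lemma exists_linearMap_apply_one (x : E) (hx : ∀ b ∈ maximalIdeal B, b • x = 0) :
    ∃ g : ResidueField B →ₗ[B] E, g 1 = x := by
  obtain ⟨φ, hφ⟩ : ∃ φ : B →ₗ[B] ResidueField B, φ = LinearMap.toSpanSingleton B _ 1 := ⟨_, rfl⟩
  have hφa : ∀ b : B, φ b = residue B b := by
    intro b
    rw [hφ, LinearMap.toSpanSingleton_apply, smul_residue_one]
  have hφs : Function.Surjective φ := by
    intro c
    obtain ⟨b, rfl⟩ := residue_surjective c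
    exact ⟨b, hφa b⟩
  obtain ⟨ψ, hψ⟩ : ∃ ψ : B →ₗ[B] E, ψ = LinearMap.toSpanSingleton B _ x := ⟨_, rfl⟩
  have hle : LinearMap.ker φ ≤ LinearMap.ker ψ := by
    intro b hb
    rw [LinearMap.mem_ker, hφa, residue_eq_zero_iff] at hb
    rw [LinearMap.mem_ker, hψ, LinearMap.toSpanSingleton_apply]
    exact hx b hb
  refine ⟨((LinearMap.ker φ).liftQ ψ hle) ∘ₗ
    (φ.quotKerEquivOfSurjective hφs).symm.toLinearMap, ?_⟩
  have h1 : (φ.quotKerEquivOfSurjective hφs).symm 1 = Submodule.Quotient.mk 1 := by
    rw [LinearEquiv.symm_apply_eq, LinearMap.quotKerEquivOfSurjective_apply_mk, hφa, map_one]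
  rw [LinearMap.comp_apply, LinearEquiv.coe_coe, h1, Submodule.liftQ_apply, hψ,
    LinearMap.toSpanSingleton_apply, one_smul]

/-- If the socle of `E` is generated by one nonzero element then `Hom(k, E)` is simple. -/
theorem isSimpleModule_hom_of_socle (x₀ : E) (hx₀ : x₀ ≠ 0)
    (hm : ∀ b ∈ maximalIdeal B, b • x₀ = 0)
    (hgen : ∀ x : E, (∀ b ∈ maximalIdeal B, b • x = 0) → ∃ b : B, x = b • x₀) :
    IsSimpleModule B (ResidueField B →ₗ[B] E) := by
  rw [isSimpleModule_iff_toSpanSingleton_surjective]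
  obtain ⟨g₀, hg₀⟩ := exists_linearMap_apply_one x₀ hm
  refine ⟨⟨⟨g₀, 0, ?_⟩⟩, ?_⟩
  · intro h
    apply hx₀
    rw [← hg₀, h, LinearMap.zero_apply]
  · intro g hg h
    have hg1 : g 1 ≠ 0 := fun h0 => hg (ext_of_apply_one (by rw [h0, LinearMap.zero_apply]))
    obtain ⟨b, hb⟩ := hgen (g 1) (fun b hb => maximalIdeal_smul_apply g 1 b hb)
    obtain ⟨b', hb'⟩ := hgen (h 1) (fun b hb => maximalIdeal_smul_apply h 1 b hb)
    have hbu : IsUnit b := by
      by_contra hnu
      apply hg1
      rw [hb]
      exact hm b ((mem_maximalIdeal b).mpr hnu)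
    obtain ⟨u, rfl⟩ := hbu
    refine ⟨b' * ↑u⁻¹, ext_of_apply_one ?_⟩
    rw [LinearMap.toSpanSingleton_apply, LinearMap.smul_apply, hb, hb', smul_smul, mul_assoc,
      Units.inv_mul, mul_one]

end general

section ess

variable {A : Type u} [CommRing A] [IsLocalRing A] {E : Type u} [AddCommGroup E] [Module A E]

lemma apply_one_ne_zero {f : ResidueField A →ₗ[A] E} (hf : Function.Injective f) : f 1 ≠ 0 := by
  intro h
  exact one_ne_zero (hf (h.trans (map_zero f).symm))

/-- The socle of an essential extension of the residue field is the residue field. -/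
theorem socle_subset_range {f : ResidueField A →ₗ[A] E} (hf : InjHull.IsEssentialInj f) (x : E)
    (hx : ∀ a ∈ maximalIdeal A, a • x = 0) : ∃ a : A, x = a • f 1 := by
  by_cases hx0 : x = 0
  · exact ⟨0, by rw [hx0, zero_smul]⟩
  have hN : Submodule.span A {x} ≠ ⊥ := by
    rw [Ne, Submodule.span_singleton_eq_bot]; exact hx0
  have h1 := hf.essential _ hN
  obtain ⟨y, hy, hy0⟩ := (Submodule.ne_bot_iff _).mp h1
  obtain ⟨hyN, hyf⟩ := Submodule.mem_inf.mp hy
  obtain ⟨a, rfl⟩ := Submodule.mem_span_singleton.mp hyN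
  obtain ⟨c, hc⟩ := hyf
  have hau : IsUnit a := by
    by_contra hnu
    exact hy0 (hx a ((mem_maximalIdeal a).mpr hnu))
  obtain ⟨u, rfl⟩ := hau
  obtain ⟨c', rfl⟩ := residue_surjective c
  refine ⟨↑u⁻¹ * c', ?_⟩
  rw [mul_smul, ← apply_residue, hc, smul_smul, Units.inv_mul, one_smul]

theorem isSimpleModule_hom_of_isEssentialInj {f : ResidueField A →ₗ[A] E}
    (hf : InjHull.IsEssentialInj f) : IsSimpleModule A (ResidueField A →ₗ[A] E) :=
  isSimpleModule_hom_of_socle (f 1) (apply_one_ne_zero hf.injective)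
    (fun b hb => maximalIdeal_smul_apply f 1 b hb) (fun x hx => socle_subset_range hf x hx)

/-- An essential extension of the residue field of a Noetherian local ring is `m`-power
torsion. -/
theorem isPowerTorsion_of_isEssentialInj [IsNoetherianRing A] {f : ResidueField A →ₗ[A] E}
    (hf : InjHull.IsEssentialInj f) : LocCoh.IsPowerTorsion (maximalIdeal A) E := by
  intro x
  obtain ⟨N, hN⟩ : ∃ N : Submodule A E, N = Submodule.span A {x} := ⟨_, rfl⟩
  have hfin : Module.Finite A N := by rw [hN]; exact Module.Finite.span_singleton A x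
  have hkrull : (⨅ i : ℕ, (maximalIdeal A) ^ i • (⊤ : Submodule A N)) = ⊥ :=
    Ideal.iInf_pow_smul_eq_bot_of_isLocalRing (maximalIdeal A)
      (Ideal.IsPrime.ne_top inferInstance)
  have hf1 : f 1 ≠ 0 := apply_one_ne_zero hf.injective
  have hex : ∃ n : ℕ, (maximalIdeal A) ^ n • N = ⊥ := by
    by_contra hcon
    push_neg at hcon
    have hall : ∀ n : ℕ, f 1 ∈ (maximalIdeal A) ^ n • N := by
      intro n
      have h1 := hf.essential _ (hcon n)
      obtain ⟨y, hy, hy0⟩ := (Submodule.ne_bot_iff _).mp h1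
      obtain ⟨hyN, ⟨c, hc⟩⟩ := Submodule.mem_inf.mp hy
      have hc0 : c ≠ 0 := by
        rintro rfl
        exact hy0 (by rw [← hc, map_zero])
      obtain ⟨b, hb⟩ := residue_surjective c⁻¹
      have h2 : f 1 = b • y := by
        rw [← hc, ← map_smul, Algebra.smul_def, ResidueField.algebraMap_eq, hb,
          inv_mul_cancel₀ hc0]
      rw [h2]
      exact Submodule.smul_mem _ _ hyN
    have h0 : f 1 ∈ N := by
      have h := hall 0
      rwa [pow_zero, Ideal.one_eq_top, Submodule.top_smul] at h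
    have hmem : (⟨f 1, h0⟩ : N) ∈ (⨅ i : ℕ, (maximalIdeal A) ^ i • (⊤ : Submodule A N)) := by
      rw [Submodule.mem_iInf]
      intro i
      have h2 := hall i
      have h3 : (maximalIdeal A) ^ i • N =
          Submodule.map N.subtype ((maximalIdeal A) ^ i • (⊤ : Submodule A N)) := by
        rw [Submodule.map_smul'', Submodule.map_top, Submodule.range_subtype]
      rw [h3] at h2
      obtain ⟨z, hz, hzeq⟩ := h2
      have hz' : z = ⟨f 1, h0⟩ := Subtype.ext hzeq
      rw [← hz']; exact hz
    rw [hkrull] at hmem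
    exact hf1 (congrArg Subtype.val ((Submodule.mem_bot A).mp hmem))
  obtain ⟨n, hn⟩ := hex
  refine ⟨n, fun a ha => ?_⟩
  have h4 : a • x ∈ (maximalIdeal A) ^ n • N :=
    Submodule.smul_mem_smul ha (by rw [hN]; exact Submodule.mem_span_singleton_self x)
  rw [hn] at h4
  exact (Submodule.mem_bot A).mp h4

/-- Converse: in an `m`-power torsion module with `Hom(k, E)` simple, every nonzero map from the
residue field is an essential injection. -/
theorem isEssentialInj_of_simple (hpt : LocCoh.IsPowerTorsion (maximalIdeal A) E)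
    (hs : IsSimpleModule A (ResidueField A →ₗ[A] E)) (f : ResidueField A →ₗ[A] E)
    (hf0 : f ≠ 0) : InjHull.IsEssentialInj f := by
  classical
  have hf1 : f 1 ≠ 0 := fun h0 => hf0 (ext_of_apply_one (by rw [h0, LinearMap.zero_apply]))
  refine ⟨?_, ?_⟩
  · rw [injective_iff_map_eq_zero]
    intro c hc
    by_contra hc0
    obtain ⟨b, hb⟩ := residue_surjective c⁻¹
    apply hf1
    have h2 : f 1 = b • f c := by
      rw [← map_smul, Algebra.smul_def, ResidueField.algebraMap_eq, hb, inv_mul_cancel₀ hc0]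
    rw [h2, hc, smul_zero]
  · intro N hN
    obtain ⟨x, hxN, hx0⟩ := (Submodule.ne_bot_iff _).mp hN
    have hex := hpt x
    have hn0 : Nat.find hex ≠ 0 := by
      intro h0
      have h1 := Nat.find_spec hex
      rw [h0, pow_zero, Ideal.one_eq_top] at h1
      apply hx0
      have h2 := h1 1 Submodule.mem_top
      rwa [one_smul] at h2
    obtain ⟨k, hk⟩ := Nat.exists_eq_succ_of_ne_zero hn0
    have hmin : ¬ ∀ a ∈ maximalIdeal A ^ k, a • x = 0 :=
      Nat.find_min hex (by rw [hk]; exact Nat.lt_succ_self k)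
    push_neg at hmin
    obtain ⟨a, ha, hax⟩ := hmin
    have hsocle : ∀ b ∈ maximalIdeal A, b • (a • x) = 0 := by
      intro b hb
      rw [smul_smul]
      have h1 := Nat.find_spec hex
      rw [hk] at h1
      exact h1 (b * a) (by rw [pow_succ']; exact Ideal.mul_mem_mul hb ha)
    obtain ⟨g, hg⟩ := exists_linearMap_apply_one (a • x) hsocle
    obtain ⟨a', ha'⟩ := (isSimpleModule_iff_toSpanSingleton_surjective.mp hs).2 f hf0 g
    rw [LinearMap.toSpanSingleton_apply] at ha'
    rw [Submodule.ne_bot_iff]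
    refine ⟨a • x, Submodule.mem_inf.mpr ⟨Submodule.smul_mem _ _ hxN, ?_⟩, hax⟩
    refine ⟨a' • 1, ?_⟩
    rw [map_smul, ← hg, ← ha', LinearMap.smul_apply]

/-- Characterisation of the injective hull of the residue field. -/
theorem exists_isInjectiveHull_iff [IsNoetherianRing A] :
    (∃ f : ResidueField A →ₗ[A] E, InjHull.IsInjectiveHull f) ↔
      (Module.Injective A E ∧ LocCoh.IsPowerTorsion (maximalIdeal A) E ∧
        IsSimpleModule A (ResidueField A →ₗ[A] E)) := by
  constructor
  · rintro ⟨f, hf⟩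
    exact ⟨hf.isInjective, isPowerTorsion_of_isEssentialInj hf.toIsEssentialInj,
      isSimpleModule_hom_of_isEssentialInj hf.toIsEssentialInj⟩
  · rintro ⟨hinj, hpt, hs⟩
    haveI : Nontrivial (ResidueField A →ₗ[A] E) := IsSimpleModule.nontrivial A _
    obtain ⟨f, hf⟩ := exists_ne (0 : ResidueField A →ₗ[A] E)
    exact ⟨f, ⟨isEssentialInj_of_simple hpt hs f hf, hinj⟩⟩

end ess

end Groth.Agent.Lib.Helper4.Matlis
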