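import Mathlib
import Groth.Agent.Lib.Helper4.DT3
import Groth.Agent.Lib.Helper4.Matlis
import Groth.Agent.Lib.Helper4.FaltLocal
import Groth.Agent.Lib.Helper20.LCFinite
import Groth.Agent.Lib.Helper17.IdealTransform

/-!
# Local duality for a normalized dualizing complex: the dévissage

`PD τ hτ X` says that the duality map `Psi` is bijective in all degrees for the module `X`.
It is proved for the residue field, then for modules of finite length, then for all finite
modules by induction on the dimension of the support (regular elements).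
-/

set_option autoImplicit false
set_option linter.style.haveILetI false
set_option linter.unusedSectionVars false
set_option linter.unusedVariables false
set_option maxHeartbeats 800000

open CategoryTheory CategoryTheory.Limits CategoryTheory.Pretriangulated DerivedCategory Abelian
open IsLocalRing

universe u

attribute [local instance] HasDerivedCategory.standard

namespace Groth.Agent.Lib.Helper4.DT

open Groth.Agent.Lib.Helper4.LC

variable {A : Type u} [CommRing A] [IsLocalRing A] [IsNoetherianRing A] {ω : Dual.D A}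
  {E : Type u} [AddCommGroup E] [Module A E]

lemma subsingleton_dual {T : Type*} [AddCommGroup T] [Module A T] (h : Subsingleton T) :
    Subsingleton (T →ₗ[A] E) :=
  ⟨fun a b => LinearMap.ext fun t => by rw [Subsingleton.elim t 0, map_zero, map_zero]⟩

lemma bijective_of_subsingleton' {α β : Type*} [Zero α] (f : α → β) (hα : Subsingleton α)
    (hβ : Subsingleton β) : Function.Bijective f :=
  ⟨fun a b _ => Subsingleton.elim a b, fun b => ⟨0, Subsingleton.elim _ _⟩⟩

lemma exists_comp_eq (X : ModuleCat.{u} A) (j : ℤ) (hj : j + ((0 : ℕ) : ℤ) = 0)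
    (ψ : sg X ⟶ ω⟦(0 : ℤ)⟧) :
    ∃ φ : sg X ⟶ ω⟦j⟧, (Ext.mk₀ (𝟙 X) : Ext.{u} X X 0).hom.comp
      (φ : ShiftedHom (sg X) ω j) hj = ψ := by
  obtain rfl : j = 0 := by simpa using hj
  refine ⟨ψ, ?_⟩
  rw [Ext.mk₀_hom, CategoryTheory.Functor.map_id]
  exact ShiftedHom.mk₀_id_comp _ _ _

lemma exists_T_equiv_residueField (hω : Dual.IsDualizing A ω) (hn : Dual.IsNormalized A ω)
    (j : ℤ) (hj : j = 0) :
    Nonempty ((sg (ModuleCat.of A (ResidueField A)) ⟶ ω⟦j⟧) ≃ₗ[A] ResidueField A) := by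
  obtain ⟨d, -, ⟨e⟩⟩ : ∃ d : ℤ,
      (∀ i : ℤ, i ≠ d → Subsingleton (sg (ModuleCat.of A (ResidueField A)) ⟶ ω⟦i⟧)) ∧
      Nonempty ((sg (ModuleCat.of A (ResidueField A)) ⟶ ω⟦d⟧) ≃ₗ[A] ResidueField A) :=
    Groth.Agent.S0364.result A ω hω (maximalIdeal A)
  have hd : d = j := by
    by_contra hne
    haveI := hn d (by rw [hj] at hne; exact hne)
    exact not_subsingleton (ResidueField A) e.symm.injective.subsingleton
  subst hd
  exact ⟨e⟩

section Gexact

variable [Module.Injective A E] {S : ShortComplex (ModuleCat.{u} A)} (hS : S.ShortExact)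

include hS in
lemma G_exact_a (j : ℤ) (lam : (sg S.X₂ ⟶ ω⟦j⟧) →ₗ[A] E) (h : lam ∘ₗ Tmap ω S.g j = 0) :
    ∃ μ : (sg S.X₁ ⟶ ω⟦j⟧) →ₗ[A] E, μ ∘ₗ Tmap ω S.f j = lam :=
  dual_exact (Tmap ω S.g j) (Tmap ω S.f j) (fun c hc => T_exact₂ ω hS j c hc) lam h

lemma G_exact_b (j j' : ℤ) (hj : j + ((1 : ℕ) : ℤ) = j') (lam : (sg S.X₃ ⟶ ω⟦j'⟧) →ₗ[A] E)
    (h : lam ∘ₗ Tδ ω hS j j' hj = 0) :
    ∃ μ : (sg S.X₂ ⟶ ω⟦j'⟧) →ₗ[A] E, μ ∘ₗ Tmap ω S.g j' = lam :=
  dual_exact (Tδ ω hS j j' hj) (Tmap ω S.g j') (fun c hc => T_exact₃ ω hS j j' hj c hc) lam h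

lemma G_exact_c (j j' : ℤ) (hj : j + ((1 : ℕ) : ℤ) = j') (lam : (sg S.X₁ ⟶ ω⟦j⟧) →ₗ[A] E)
    (h : lam ∘ₗ Tmap ω S.f j = 0) :
    ∃ μ : (sg S.X₃ ⟶ ω⟦j'⟧) →ₗ[A] E, μ ∘ₗ Tδ ω hS j j' hj = lam :=
  dual_exact (Tmap ω S.f j) (Tδ ω hS j j' hj) (fun c hc => T_exact₁ ω hS j j' hj c hc) lam h

include hS in
/-- `T^0(f)` is surjective, so `Hom(-, E)` of it is injective. -/
lemma dual_eq_zero_of_comp_f (hω : Dual.IsDualizing A ω) (hn : Dual.IsNormalized A ω)
    (lam : (sg S.X₁ ⟶ ω⟦-((0 : ℕ) : ℤ)⟧) →ₗ[A] E)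
    (h0 : lam ∘ₗ Tmap ω S.f (-((0 : ℕ) : ℤ)) = 0) : lam = 0 := by
  ext φ₁
  have hsub : Subsingleton (sg S.X₃ ⟶ ω⟦-((0 : ℕ) : ℤ) + ((1 : ℕ) : ℤ)⟧) :=
    T_pos hω hn S.X₃ _ (by norm_num)
  obtain ⟨φ₂, rfl⟩ := T_exact₁ ω hS (-((0 : ℕ) : ℤ)) (-((0 : ℕ) : ℤ) + ((1 : ℕ) : ℤ)) rfl φ₁
    (@Subsingleton.elim _ hsub _ _)
  exact LinearMap.congr_fun h0 φ₂

end Gexact

variable (τ : ∀ n : ℕ, T0 ω n →ₗ[A] E)
  (hτ : ∀ (n k : ℕ) (h : n ≤ k) (ψ : T0 ω n),
    τ k (Tmap ω (qmap (maximalIdeal A) h) 0 ψ) = τ n ψ)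

/-- local duality holds for `X`. -/
def PD (X : ModuleCat.{u} A) : Prop := ∀ i : ℕ, Function.Bijective (Psi τ hτ X i)

theorem PD_of_subsingleton (X : ModuleCat.{u} A) (hX : Subsingleton X) : PD τ hτ X := by
  intro i
  haveI := hX
  have h1 : Subsingleton (HH (maximalIdeal A) X i) :=
    HH.subsingleton_of_subsingleton (maximalIdeal A) X i
  exact bijective_of_subsingleton' _ h1
    (subsingleton_dual (subsingleton_hom_of_subsingleton ω X hX _))

theorem PD_of_iso {X Y : ModuleCat.{u} A} (e : X ≅ Y) (hX : PD τ hτ X) : PD τ hτ Y := by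
  intro i
  constructor
  · rw [injective_iff_map_eq_zero]
    intro y hy
    have h1 : Psi τ hτ X i (HH.map (maximalIdeal A) e.inv i y) = 0 := by
      ext φ
      rw [Psi_map, hy]
      all_goals rfl
    have h2 := (hX i).1 (h1.trans (map_zero _).symm)
    have h3 : y = HH.map (maximalIdeal A) e.hom i (HH.map (maximalIdeal A) e.inv i y) := by
      rw [← HH.map_comp, e.inv_hom_id, HH.map_id]
    rw [h3, h2, map_zero]
  · intro lam
    obtain ⟨z, hz⟩ := (hX i).2 (lam ∘ₗ Tmap ω e.inv (-(i : ℤ)))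
    refine ⟨HH.map (maximalIdeal A) e.hom i z, ?_⟩
    ext φ
    rw [Psi_map, hz, LinearMap.comp_apply, ← Tmap_comp, e.inv_hom_id, Tmap_id]

section ses

variable [Module.Injective A E]

/-- the five lemma: duality for the outer terms of a short exact sequence gives duality for
the middle term. -/
theorem PD_of_ses (hω : Dual.IsDualizing A ω) (hn : Dual.IsNormalized A ω)
    {S : ShortComplex (ModuleCat.{u} A)} (hS : S.ShortExact) (h1 : PD τ hτ S.X₁)
    (h3 : PD τ hτ S.X₃) : PD τ hτ S.X₂ := by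
  intro i
  constructor
  · rw [injective_iff_map_eq_zero]
    intro z hz
    have hgz : HH.map (maximalIdeal A) S.g i z = 0 := by
      apply (h3 i).1
      rw [map_zero]
      ext φ
      rw [Psi_map, hz]
      all_goals rfl
    obtain ⟨z₁, rfl⟩ := HH.exact₂ (maximalIdeal A) hS i z hgz
    have h0 : (Psi τ hτ S.X₁ i z₁) ∘ₗ Tmap ω S.f (-(i : ℤ)) = 0 := by
      ext φ
      rw [LinearMap.comp_apply, ← Psi_map, hz]
      all_goals rfl
    cases i with
    | zero =>
      have hz₁ : Psi τ hτ S.X₁ 0 z₁ = 0 := dual_eq_zero_of_comp_f hS hω hn _ h0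
      rw [(h1 0).1 (hz₁.trans (map_zero _).symm), map_zero]
    | succ i =>
      obtain ⟨μ, hμ⟩ := G_exact_c hS (-((i + 1 : ℕ) : ℤ)) (-(i : ℤ)) (by push_cast; ring)
        (Psi τ hτ S.X₁ (i + 1) z₁) h0
      obtain ⟨w, rfl⟩ := (h3 i).2 μ
      have hz₁ : z₁ = HH.δ (maximalIdeal A) hS i w := by
        apply (h1 (i + 1)).1
        ext φ
        rw [Psi_δ]
        exact (LinearMap.congr_fun hμ φ).symm
      rw [hz₁, HH.map_f_δ]
  · intro lam
    obtain ⟨w, hw⟩ := (h3 i).2 (lam ∘ₗ Tmap ω S.g (-(i : ℤ)))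
    have hδ : HH.δ (maximalIdeal A) hS i w = 0 := by
      apply (h1 (i + 1)).1
      rw [map_zero]
      ext φ
      rw [Psi_δ, hw, LinearMap.comp_apply, Tmap_g_Tδ, map_zero]
      all_goals rfl
    obtain ⟨z, rfl⟩ := HH.exact₃ (maximalIdeal A) hS i w hδ
    have h0 : (lam - Psi τ hτ S.X₂ i z) ∘ₗ Tmap ω S.g (-(i : ℤ)) = 0 := by
      ext φ
      rw [LinearMap.comp_apply, LinearMap.sub_apply, ← Psi_map, hw, LinearMap.comp_apply,
        sub_self]
      all_goals rfl
    obtain ⟨μ, hμ⟩ := G_exact_a hS (-(i : ℤ)) (lam - Psi τ hτ S.X₂ i z) h0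
    obtain ⟨z₁, rfl⟩ := (h1 i).2 μ
    refine ⟨z + HH.map (maximalIdeal A) S.f i z₁, ?_⟩
    ext φ
    have h2 := LinearMap.congr_fun hμ φ
    rw [LinearMap.comp_apply, LinearMap.sub_apply] at h2
    rw [map_add, LinearMap.add_apply, Psi_map, h2]
    abel

variable {S : ShortComplex (ModuleCat.{u} A)} (hS : S.ShortExact)

include hS in
lemma exists_of_comp_f_eq_zero (h3 : PD τ hτ S.X₃) (i : ℕ)
    (lam : (sg S.X₁ ⟶ ω⟦-((i + 1 : ℕ) : ℤ)⟧) →ₗ[A] E)
    (h0 : lam ∘ₗ Tmap ω S.f (-((i + 1 : ℕ) : ℤ)) = 0) :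
    ∃ z : HH (maximalIdeal A) S.X₁ (i + 1), Psi τ hτ S.X₁ (i + 1) z = lam := by
  obtain ⟨μ, hμ⟩ := G_exact_c hS (-((i + 1 : ℕ) : ℤ)) (-(i : ℤ)) (by push_cast; ring) lam h0
  obtain ⟨w, rfl⟩ := (h3 i).2 μ
  refine ⟨HH.δ (maximalIdeal A) hS i w, ?_⟩
  ext φ
  rw [Psi_δ]
  exact LinearMap.congr_fun hμ φ

include hS in
lemma eq_zero_of_map_f_eq_zero (h3 : PD τ hτ S.X₃) (i : ℕ)
    (hsurj : Function.Surjective (Psi τ hτ S.X₂ i)) (z : HH (maximalIdeal A) S.X₁ (i + 1))
    (hz : Psi τ hτ S.X₁ (i + 1) z = 0) (hfz : HH.map (maximalIdeal A) S.f (i + 1) z = 0) :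
    z = 0 := by
  obtain ⟨w, rfl⟩ := HH.exact₁ (maximalIdeal A) hS i z hfz
  have h0 : Psi τ hτ S.X₃ i w ∘ₗ
      Tδ ω hS (-((i + 1 : ℕ) : ℤ)) (-(i : ℤ)) (by push_cast; ring) = 0 := by
    ext φ
    rw [LinearMap.comp_apply, ← Psi_δ, hz]
    all_goals rfl
  obtain ⟨μ, hμ⟩ := G_exact_b hS (-((i + 1 : ℕ) : ℤ)) (-(i : ℤ)) (by push_cast; ring)
    (Psi τ hτ S.X₃ i w) h0
  obtain ⟨y, rfl⟩ := hsurj μ
  have hw : w = HH.map (maximalIdeal A) S.g i y := by
    apply (h3 i).1
    ext φ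
    rw [Psi_map]
    exact (LinearMap.congr_fun hμ φ).symm
  rw [hw, HH.δ_map_g]

end ses

section main

variable (hω : Dual.IsDualizing A ω) (hn : Dual.IsNormalized A ω)
  (f : ResidueField A →ₗ[A] E) (hf : InjHull.IsInjectiveHull f)
  (hnz : ∃ ψ₁ : T0 ω 1, τ 1 ψ₁ ≠ 0)

include hω hn hf hnz in
theorem PD_residueField : PD τ hτ (ModuleCat.of A (ResidueField A)) := by
  have hpt : LocCoh.IsPowerTorsion (maximalIdeal A) (ResidueField A) := by
    intro x
    refine ⟨1, fun a ha => ?_⟩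
    rw [pow_one] at ha
    rw [Algebra.smul_def, IsLocalRing.ResidueField.algebraMap_eq,
      (IsLocalRing.residue_eq_zero_iff a).2 ha, zero_mul]
  intro i
  cases i with
  | succ i =>
    refine bijective_of_subsingleton' _
      (HH.subsingleton_of_isPowerTorsion (maximalIdeal A) i (ResidueField A) hpt)
      (subsingleton_dual (hn _ ?_))
    have : (0 : ℤ) < ((i + 1 : ℕ) : ℤ) := by exact_mod_cast Nat.succ_pos i
    omega
  | zero =>
    haveI hs1 : IsSimpleModule A
        (HH (maximalIdeal A) (ModuleCat.of A (ResidueField A)) 0) := by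
      haveI := Groth.Agent.Lib.Helper1.Matlis.isSimpleModule_residueField (R := A)
      have htop : DRing.torsionSub (maximalIdeal A) (ResidueField A) = ⊤ :=
        (isPowerTorsion_iff (maximalIdeal A) (ResidueField A)).1 hpt
      exact IsSimpleModule.congr
        ((HH0Equiv (maximalIdeal A) (ModuleCat.of A (ResidueField A))).trans
          ((LinearEquiv.ofEq _ _ htop).trans Submodule.topEquiv))
    obtain ⟨e⟩ := exists_T_equiv_residueField hω hn (-((0 : ℕ) : ℤ)) (by simp)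
    haveI hs2 : IsSimpleModule A
        ((sg (ModuleCat.of A (ResidueField A)) ⟶ ω⟦-((0 : ℕ) : ℤ)⟧) →ₗ[A] E) := by
      haveI := Groth.Agent.Lib.Helper1.Matlis.isSimpleModule_hom_residueField f hf
      exact IsSimpleModule.congr (LinearEquiv.congrLeft E A e)
    apply LinearMap.bijective_of_ne_zero
    intro h0
    obtain ⟨ψ₁, hψ₁⟩ := hnz
    let e1 : (A ⧸ maximalIdeal A ^ 1) ≃ₗ[A] ResidueField A :=
      (Submodule.quotEquivOfEq (maximalIdeal A ^ 1) (maximalIdeal A) (pow_one _)).trans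
        Groth.Agent.Lib.Helper1.Matlis.quotEquivResidueField
    let i1 : Q (maximalIdeal A) 1 ≅ ModuleCat.of A (ResidueField A) := e1.toModuleIso
    obtain ⟨φ, hφ⟩ := exists_comp_eq (ω := ω) (Q (maximalIdeal A) 1) (-((0 : ℕ) : ℤ))
      (neg_add_cancel _) ψ₁
    have h1 : Psi τ hτ (Q (maximalIdeal A) 1) 0
        (HH.map (maximalIdeal A) i1.inv 0 (HH.map (maximalIdeal A) i1.hom 0
          (HH.of (maximalIdeal A) (Q (maximalIdeal A) 1) 0 1 (Ext.mk₀ (𝟙 _))))) φ = τ 1 ψ₁ := by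
      rw [← HH.map_comp, i1.hom_inv_id, HH.map_id, Psi_of_apply, hφ]
    rw [Psi_map, h0] at h1
    simp only [LinearMap.zero_apply] at h1
    exact hψ₁ h1.symm

include hω hn hf hnz in
theorem PD_of_finiteLength (N : Type u) [AddCommGroup N] [Module A N]
    (hN : IsFiniteLength A N) : PD τ hτ (ModuleCat.of A N) := by
  haveI := hf.isInjective
  exact finiteLength_induction (PD τ hτ) (PD_of_subsingleton τ hτ)
    (PD_residueField τ hτ hω hn f hf hnz) (fun X Y e h => PD_of_iso τ hτ e h)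
    (fun S hS h1 h3 => PD_of_ses τ hτ hω hn hS h1 h3) N hN

include hω hn hf in
/-- the regular element step. -/
theorem PD_of_regular (M : Type u) [AddCommGroup M] [Module A M] [Module.Finite A M] (x : A)
    (hx : x ∈ maximalIdeal A) (hreg : IsSMulRegular M x)
    (hQ : ∀ k : ℕ, PD τ hτ (ModuleCat.of A (QuotSMulTop (x ^ (k + 1)) M))) :
    PD τ hτ (ModuleCat.of A M) := by
  haveI := hf.isInjective
  have hSk : ∀ k : ℕ,
      (ModuleCat.smulShortComplex (ModuleCat.of A M) (x ^ (k + 1))).ShortExact :=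
    fun k => (hreg.pow (k + 1)).smulShortComplex_shortExact
  have hpt : LocCoh.IsPowerTorsion (maximalIdeal A) E :=
    Groth.Agent.Lib.Helper4.Matlis.isPowerTorsion_of_isEssentialInj hf.toIsEssentialInj
  have htorsG : ∀ (j : ℤ) (lam : (sg (ModuleCat.of A M) ⟶ ω⟦j⟧) →ₗ[A] E),
      ∃ k : ℕ, x ^ (k + 1) • lam = 0 := by
    intro j lam
    haveI : Module.Finite A (sg (ModuleCat.of A M) ⟶ ω⟦j⟧) := T_finite hω M j
    have hfg : (LinearMap.range lam).FG := by
      rw [LinearMap.range_eq_map]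
      exact Submodule.FG.map _ (Module.finite_def.1 inferInstance)
    obtain ⟨n, hn'⟩ := exists_pow_smul_eq_zero_of_fg x (LinearMap.range lam) hfg (by
      intro p _
      obtain ⟨n, hn'⟩ := hpt p
      exact ⟨n, hn' _ (Ideal.pow_mem_pow hx n)⟩)
    refine ⟨n, ?_⟩
    ext t
    rw [LinearMap.smul_apply, LinearMap.zero_apply, pow_succ', mul_smul, hn' _ ⟨t, rfl⟩,
      smul_zero]
  have hsurj : ∀ i : ℕ, Function.Surjective (Psi τ hτ (ModuleCat.of A M) i) := by
    intro i lam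
    obtain ⟨k, hk⟩ := htorsG _ lam
    have h0 : lam ∘ₗ Tmap ω
        (ModuleCat.smulShortComplex (ModuleCat.of A M) (x ^ (k + 1))).f (-(i : ℤ)) = 0 := by
      ext φ
      change lam (Tmap ω (x ^ (k + 1) • 𝟙 (ModuleCat.of A M)) (-(i : ℤ)) φ) = 0
      rw [Tmap_smul_id, map_smul]
      exact LinearMap.congr_fun hk φ
    cases i with
    | zero =>
      exact ⟨0, (map_zero _).trans (dual_eq_zero_of_comp_f (hSk k) hω hn lam h0).symm⟩
    | succ i => exact exists_of_comp_f_eq_zero τ hτ (hSk k) (hQ k) i lam h0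
  intro i
  refine ⟨?_, hsurj i⟩
  rw [injective_iff_map_eq_zero]
  intro z hz
  obtain ⟨n, hn'⟩ := HH.exists_pow_smul_eq_zero (maximalIdeal A) x hx z
  have hk : x ^ (n + 1) • z = 0 := by rw [pow_succ', mul_smul, hn', smul_zero]
  have hfz : HH.map (maximalIdeal A)
      (ModuleCat.smulShortComplex (ModuleCat.of A M) (x ^ (n + 1))).f i z = 0 := by
    change HH.map (maximalIdeal A) (x ^ (n + 1) • 𝟙 (ModuleCat.of A M)) i z = 0
    rw [← HH.smul_eq_map, hk]
  cases i with
  | zero =>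
    exact HH.map_f_injective_zero (maximalIdeal A) (hSk n) (hfz.trans (map_zero _).symm)
  | succ i => exact eq_zero_of_map_f_eq_zero τ hτ (hSk n) (hQ n) i (hsurj i) z hz hfz

include hω hn hf hnz in
/-- **Local duality** (bijectivity of `Psi`) for all finite modules. -/
theorem PD_of_finite : ∀ (d : ℕ) (M : Type u) [AddCommGroup M] [Module A M]
    [Module.Finite A M], Module.supportDim A M < (d : WithBot ℕ∞) →
    PD τ hτ (ModuleCat.of A M) := by
  intro d
  induction d with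
  | zero =>
    intro M _ _ _ h
    have hM : Subsingleton M :=
      (Module.supportDim_eq_bot_iff_subsingleton A M).1 (withBot_eq_bot_of_lt_zero _ h)
    exact PD_of_subsingleton τ hτ _ hM
  | succ d ih =>
    intro M _ _ _ h
    haveI := hf.isInjective
    have hΓfl : IsFiniteLength A (DRing.torsionSub (maximalIdeal A) M) := by
      obtain ⟨l, hl⟩ := Groth.Agent.Lib.Helper17.IdealTransform.exists_pow_smul_eq_zero
        (maximalIdeal A) (DRing.torsionSub (maximalIdeal A) M)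
        (IsNoetherian.noetherian _) (fun p hp => hp)
      exact Groth.Agent.Lib.Helper4.Falt.isFiniteLength_of_finite_of_kills _
        ⟨l, fun r hr y => Subtype.ext (hl r hr y.1 y.2)⟩
    have hS := sesOf_shortExact (DRing.torsionSub (maximalIdeal A) M).subtype
      (DRing.torsionSub (maximalIdeal A) M).mkQ
      (LinearMap.exact_subtype_mkQ (DRing.torsionSub (maximalIdeal A) M))
      (Submodule.injective_subtype _) (Submodule.mkQ_surjective _)
    have h1 : PD τ hτ (ModuleCat.of A (DRing.torsionSub (maximalIdeal A) M)) :=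
      PD_of_finiteLength τ hτ hω hn f hf hnz _ hΓfl
    have h3 : PD τ hτ (ModuleCat.of A (M ⧸ DRing.torsionSub (maximalIdeal A) M)) := by
      by_cases hsub : Subsingleton (M ⧸ DRing.torsionSub (maximalIdeal A) M)
      · exact PD_of_subsingleton τ hτ _ hsub
      · haveI : Nontrivial (M ⧸ DRing.torsionSub (maximalIdeal A) M) :=
          not_subsingleton_iff_nontrivial.1 hsub
        obtain ⟨x, hx, hreg⟩ :=
          Groth.Agent.Lib.Helper20.LCFinite.exists_regular_of_torsionSub_eq_bot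
            (maximalIdeal A) (M ⧸ DRing.torsionSub (maximalIdeal A) M)
            (Groth.Agent.Lib.Helper20.LCFinite.torsionSub_quotient_eq_bot (maximalIdeal A) M)
        have hQ : ∀ k : ℕ, PD τ hτ (ModuleCat.of A
            (QuotSMulTop (x ^ (k + 1)) (M ⧸ DRing.torsionSub (maximalIdeal A) M))) := by
          intro k
          have hxk : x ^ (k + 1) ∈ maximalIdeal A :=
            Ideal.pow_mem_of_mem _ hx _ (Nat.succ_pos k)
          have h4 := Module.supportDim_quotSMulTop_succ_eq_supportDim (hreg.pow (k + 1)) hxk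
          have h5 : Module.supportDim A (M ⧸ DRing.torsionSub (maximalIdeal A) M) ≤
              Module.supportDim A M :=
            Module.supportDim_le_of_surjective _ (Submodule.mkQ_surjective _)
          exact ih (QuotSMulTop (x ^ (k + 1)) (M ⧸ DRing.torsionSub (maximalIdeal A) M))
            (withBot_lt_of_add_one_le_of_lt _ _ d h4.le (lt_of_le_of_lt h5 h))
        exact PD_of_regular τ hτ hω hn f hf _ x hx hreg hQ
    have key : ∀ (P : ModuleCat.{u} A → Prop),
        (∀ S : ShortComplex (ModuleCat.{u} A), S.ShortExact → P S.X₁ → P S.X₃ → P S.X₂) →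
        P (ModuleCat.of A (DRing.torsionSub (maximalIdeal A) M)) →
        P (ModuleCat.of A (M ⧸ DRing.torsionSub (maximalIdeal A) M)) → P (ModuleCat.of A M) :=
      fun P hP a b => hP _ hS a b
    exact key (PD τ hτ) (fun S hS h1 h3 => PD_of_ses τ hτ hω hn hS h1 h3) h1 h3

end main

end Groth.Agent.Lib.Helper4.DT
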