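import Mathlib
import Groth.Agent.Lib.Helper4.DT4
import Groth.Agent.Lib.Helper4.CM
import Groth.Agent.Lib.Helper20.LCNonVanish
import Groth.Agent.Lib.Helper18.NormB
import Groth.Agent.Lib.Helper1.MatlisComplete
import Groth.Agent.Lib.Helper1.InjHullLib

/-!
# Consequences of local duality for a normalized dualizing complex
-/

set_option autoImplicit false
set_option linter.style.haveILetI false
set_option linter.unusedSectionVars false
set_option linter.unusedVariables false
set_option maxHeartbeats 800000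

open CategoryTheory CategoryTheory.Limits CategoryTheory.Pretriangulated DerivedCategory Abelian
open IsLocalRing

universe u

attribute [local instance] HasDerivedCategory.standard

namespace Groth.Agent.Lib.Helper4.DT

open Groth.Agent.Lib.Helper4.LC Groth.Agent.Lib.Helper4

variable {A : Type u} [CommRing A] [IsLocalRing A] [IsNoetherianRing A] {ω : Dual.D A}

section withE

variable {E : Type u} [AddCommGroup E] [Module A E]
  (hω : Dual.IsDualizing A ω) (hn : Dual.IsNormalized A ω)
  (f : ResidueField A →ₗ[A] E) (hf : InjHull.IsInjectiveHull f)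

include hf in
/-- `E` is a cogenerator (universe polymorphic). -/
lemma exists_dual_apply_ne_zero {T : Type*} [AddCommGroup T] [Module A T] (x : T) (hx : x ≠ 0) :
    ∃ φ : T →ₗ[A] E, φ x ≠ 0 := by
  haveI := hf.isInjective
  let g : A →ₗ[A] T := LinearMap.toSpanSingleton A T x
  have hinj : Function.Injective ((LinearMap.ker g).liftQ g le_rfl) := by
    rw [← LinearMap.ker_eq_bot]
    exact Submodule.ker_liftQ_eq_bot _ _ _ le_rfl
  have h1 : (LinearMap.ker g).liftQ g le_rfl (Submodule.Quotient.mk 1) = x := by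
    rw [Submodule.liftQ_apply]
    exact one_smul A x
  have hne : (Submodule.Quotient.mk 1 : A ⧸ LinearMap.ker g) ≠ 0 := by
    intro h0
    apply hx
    rw [← h1, h0, map_zero]
  obtain ⟨φ', hφ'⟩ := Groth.Agent.Lib.Helper1.Matlis.exists_hom_apply_ne_zero f hf
    (A ⧸ LinearMap.ker g) _ hne
  obtain ⟨φ, hφ⟩ := Module.Injective.extension_property A E _ _
    ((LinearMap.ker g).liftQ g le_rfl) hinj φ'
  refine ⟨φ, ?_⟩
  have h2 := LinearMap.congr_fun hφ (Submodule.Quotient.mk 1)
  rw [LinearMap.comp_apply, h1] at h2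
  rw [h2]
  exact hφ'

include hf in
lemma dual_subsingleton_iff {T : Type*} [AddCommGroup T] [Module A T] :
    Subsingleton (T →ₗ[A] E) ↔ Subsingleton T := by
  constructor
  · intro h
    refine ⟨fun a b => ?_⟩
    by_contra hab
    obtain ⟨φ, hφ⟩ := exists_dual_apply_ne_zero f hf (a - b) (sub_ne_zero.2 hab)
    apply hφ
    rw [Subsingleton.elim φ 0, LinearMap.zero_apply]
  · exact subsingleton_dual

include hf in
/-- the annihilator of the Matlis dual. -/
lemma annihilator_dual {T : Type*} [AddCommGroup T] [Module A T] :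
    Module.annihilator A (T →ₗ[A] E) = Module.annihilator A T := by
  ext a
  simp only [Module.mem_annihilator]
  constructor
  · intro h t
    by_contra hne
    obtain ⟨φ, hφ⟩ := exists_dual_apply_ne_zero f hf (a • t) hne
    apply hφ
    rw [map_smul, ← LinearMap.smul_apply, h φ, LinearMap.zero_apply]
  · intro h lam
    ext t
    rw [LinearMap.smul_apply, ← map_smul, h t, map_zero, LinearMap.zero_apply]

lemma exists_supportDim_lt (M : Type u) [AddCommGroup M] [Module A M] [Module.Finite A M] :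
    ∃ d : ℕ, Module.supportDim A M < (d : WithBot ℕ∞) := by
  by_cases hM : Subsingleton M
  · refine ⟨0, ?_⟩
    rw [(Module.supportDim_eq_bot_iff_subsingleton A M).2 hM]
    exact WithBot.bot_lt_coe _
  · haveI : Nontrivial M := not_subsingleton_iff_nontrivial.1 hM
    obtain ⟨d, hd⟩ := Groth.Agent.Lib.Helper4.exists_nat_supportDim (R := A) (M := M)
    refine ⟨d + 1, ?_⟩
    rw [hd]
    exact_mod_cast Nat.lt_succ_self d

include hω hn hf in
/-- **Local duality** on the direct-limit model. -/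
theorem nonempty_HH_equiv (M : Type u) [AddCommGroup M] [Module A M] [Module.Finite A M]
    (i : ℕ) : Nonempty (HH (maximalIdeal A) (ModuleCat.of A M) i ≃ₗ[A]
      ((Dual.inD A M ⟶ ω⟦-(i : ℤ)⟧) →ₗ[A] E)) := by
  obtain ⟨τ, hτ, hnz⟩ := exists_trace ω hω hn f hf
  obtain ⟨d, hd⟩ := exists_supportDim_lt (A := A) M
  exact ⟨LinearEquiv.ofBijective _ (PD_of_finite τ hτ hω hn f hf hnz d M hd i)⟩

end withE

section noE

variable (hω : Dual.IsDualizing A ω) (hn : Dual.IsNormalized A ω)

include hω hn in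
theorem subsingleton_HH_iff (M : Type u) [AddCommGroup M] [Module A M] [Module.Finite A M]
    (i : ℕ) : Subsingleton (HH (maximalIdeal A) (ModuleCat.of A M) i) ↔
      Subsingleton (Dual.inD A M ⟶ ω⟦-(i : ℤ)⟧) := by
  obtain ⟨E, _, _, f, hf⟩ :=
    Groth.Agent.Lib.Helper1.InjHullLib.exists_injective_hull A (ResidueField A)
  obtain ⟨e⟩ := nonempty_HH_equiv hω hn f hf M i
  rw [e.toEquiv.subsingleton_congr]
  exact dual_subsingleton_iff f hf

include hω hn in
theorem nontrivial_HH_iff (M : Type u) [AddCommGroup M] [Module A M] [Module.Finite A M]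
    (i : ℕ) : Nontrivial (HH (maximalIdeal A) (ModuleCat.of A M) i) ↔
      Nontrivial (Dual.inD A M ⟶ ω⟦-(i : ℤ)⟧) := by
  rw [← not_subsingleton_iff_nontrivial, ← not_subsingleton_iff_nontrivial,
    subsingleton_HH_iff hω hn M i]

/-- depth is the least degree of nonvanishing local cohomology. -/
theorem depth_eq_iff_HH (M : Type u) [AddCommGroup M] [Module A M] [Module.Finite A M]
    [Nontrivial M] (n : ℕ) : LocCoh.depth A M = n ↔
      (∀ δ : ℕ, δ < n → Subsingleton (HH (maximalIdeal A) (ModuleCat.of A M) δ)) ∧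
        Nontrivial (HH (maximalIdeal A) (ModuleCat.of A M) n) := by
  have hIM : maximalIdeal A • (⊤ : Submodule A M) ≠ ⊤ :=
    Groth.Agent.Lib.Helper4.maximalIdeal_smul_top_ne_top
  have fwd : ∀ e : ℕ, LocCoh.depth A M = e →
      (∀ δ : ℕ, δ < e → Subsingleton (HH (maximalIdeal A) (ModuleCat.of A M) δ)) ∧
        Nontrivial (HH (maximalIdeal A) (ModuleCat.of A M) e) := by
    intro e he
    refine ⟨fun δ hδ => HH.subsingleton_of_lt_idealDepth (maximalIdeal A) M δ ?_,
      HH.nontrivial_of_idealDepth_eq (maximalIdeal A) e M hIM he⟩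
    change (δ : ℕ∞) < LocCoh.depth A M
    rw [he]
    exact_mod_cast hδ
  constructor
  · exact fwd n
  · rintro ⟨h1, h2⟩
    obtain ⟨e, he⟩ := Groth.Agent.Lib.Helper4.exists_nat_depth (R := A) (M := M)
    obtain ⟨h1', h2'⟩ := fwd e he
    rcases lt_trichotomy e n with h | h | h
    · exact absurd (h1 e h) (not_subsingleton_iff_nontrivial.2 h2')
    · rw [he, h]
    · exact absurd (h1' n h) (not_subsingleton_iff_nontrivial.2 h2)

include hω hn in
/-- depth in terms of the dualizing complex. -/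
theorem depth_eq_iff_T (M : Type u) [AddCommGroup M] [Module A M] [Module.Finite A M]
    [Nontrivial M] (n : ℕ) : LocCoh.depth A M = n ↔
      ((∀ δ : ℕ, δ < n → Subsingleton (Dual.inD A M ⟶ ω⟦(-(δ : ℤ))⟧)) ∧
        Nontrivial (Dual.inD A M ⟶ ω⟦(-(n : ℤ))⟧)) := by
  rw [depth_eq_iff_HH M n]
  constructor
  · rintro ⟨h1, h2⟩
    exact ⟨fun δ hδ => (subsingleton_HH_iff hω hn M δ).1 (h1 δ hδ),
      (nontrivial_HH_iff hω hn M n).1 h2⟩
  · rintro ⟨h1, h2⟩
    exact ⟨fun δ hδ => (subsingleton_HH_iff hω hn M δ).2 (h1 δ hδ),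
      (nontrivial_HH_iff hω hn M n).2 h2⟩

/-- `Hom_{D(A)}(A, ω[j]) ≃ H^j(ω)`. -/
lemma T_self_equiv (ω : Dual.D A) (j : ℤ) :
    Nonempty ((Dual.inD A A ⟶ ω⟦j⟧) ≃ₗ[A] Dual.HD A ω j) :=
  ⟨(Groth.Agent.Lib.Helper18.DR.Norm.homSgEquivH 0 (ω⟦j⟧)).trans
    ((Groth.Agent.Lib.Helper18.DR.HShiftIso A j 0 j (add_zero j)).app ω).toLinearEquiv⟩

/-- finite modules in any universe have a model in `Type u`. -/
lemma exists_small_model (T : Type*) [AddCommGroup T] [Module A T] [Module.Finite A T] :
    ∃ (T' : Type u) (_ : AddCommGroup T') (_ : Module A T'), Nonempty (T ≃ₗ[A] T') := by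
  obtain ⟨n, g, hg⟩ := Module.Finite.exists_fin' A T
  exact ⟨(Fin n → A) ⧸ LinearMap.ker g, inferInstance, inferInstance,
    ⟨(g.quotKerEquivOfSurjective hg).symm⟩⟩

end noE

end Groth.Agent.Lib.Helper4.DT
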