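import Mathlib
import Groth.Agent.Lib.Helper4.DT5
import Groth.Agent.Lib.Helper1.MatlisEnd

/-!
# Local cohomology of a complex as a colimit (`Dual2.HDI`) and the trace (helper4)

* `hdiι`, `hdiι_comp`, `hdi_hom_ext`, `hdiι_jointly_surjective`, `hdiDesc`, `hdiDesc_ι`: the colimit
  `Dual2.HDI A I K i` in elementwise terms.
* `tau_injective`, `tau_surjective`: the trace `τ n : Hom_D(A/m^n, ω) → E` is injective with image
  `E[m^n]`.
-/

set_option autoImplicit false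
set_option linter.style.haveILetI false
set_option linter.unusedSectionVars false
set_option linter.unusedVariables false
set_option maxHeartbeats 800000

universe u

open CategoryTheory CategoryTheory.Limits CategoryTheory.Pretriangulated DerivedCategory Abelian
  IsLocalRing Opposite

attribute [local instance] HasDerivedCategory.standard

namespace Groth.Agent.Lib.Helper4.DT

open Groth.Agent.Lib.Helper4.LC Groth.Agent.Lib.Helper4

section hdi

variable {A : Type u} [CommRing A] (I : Ideal A) (K : Dual.D A) (i : ℤ)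

/-- the diagram defining `HDI`. -/
noncomputable abbrev hdiDiag : ℕᵒᵖᵒᵖ ⥤ ModuleCat.{u + 1} A :=
  (localCohomology.ringModIdeals (localCohomology.idealPowersDiagram I) ⋙
      DerivedCategory.singleFunctor (ModuleCat.{u} A) 0).op ⋙
    (linearYoneda A (Dual.D A)).obj (K⟦i⟧)

/-- the structure maps of the colimit. -/
noncomputable def hdiι (n : ℕ) : (sg (Q I n) ⟶ K⟦i⟧) →ₗ[A] Dual2.HDI A I K i :=
  (colimit.ι (hdiDiag I K i) (op (op n))).hom

lemma hdiι_comp {n m : ℕ} (h : n ≤ m) (ψ : sg (Q I n) ⟶ K⟦i⟧) :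
    hdiι I K i m (sgm (qmap I h) ≫ ψ) = hdiι I K i n ψ := by
  have hw := colimit.w (hdiDiag I K i) ((homOfLE h).op.op : op (op n) ⟶ op (op m))
  have := congrArg (fun f => f.hom ψ) hw
  exact this

lemma hdi_hom_ext {W : Type (u + 1)} [AddCommGroup W] [Module A W]
    (f g : Dual2.HDI A I K i →ₗ[A] W)
    (h : ∀ n ψ, f (hdiι I K i n ψ) = g (hdiι I K i n ψ)) : f = g := by
  have key := colimit.hom_ext (F := hdiDiag I K i)
    (f := (ModuleCat.ofHom f : colimit (hdiDiag I K i) ⟶ ModuleCat.of A W))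
    (f' := (ModuleCat.ofHom g : colimit (hdiDiag I K i) ⟶ ModuleCat.of A W))
    (fun j => by
      apply ModuleCat.hom_ext
      apply LinearMap.ext
      intro x
      exact h j.unop.unop x)
  exact congrArg ModuleCat.Hom.hom key

lemma hdiι_jointly_surjective (x : Dual2.HDI A I K i) : ∃ n ψ, hdiι I K i n ψ = x := by
  let R : Submodule A (Dual2.HDI A I K i) := ⨆ n, LinearMap.range (hdiι I K i n)
  have h0 : R.mkQ = 0 := hdi_hom_ext I K i _ _ (fun n ψ => by
    rw [LinearMap.zero_apply, Submodule.mkQ_apply, Submodule.Quotient.mk_eq_zero]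
    exact Submodule.mem_iSup_of_mem n ⟨ψ, rfl⟩)
  have hx : x ∈ R := by
    rw [← Submodule.Quotient.mk_eq_zero, ← Submodule.mkQ_apply, h0, LinearMap.zero_apply]
  have hmono : Monotone (fun n => LinearMap.range (hdiι I K i n)) := by
    apply monotone_nat_of_le_succ
    rintro n _ ⟨ψ, rfl⟩
    exact ⟨sgm (qmap I (Nat.le_succ n)) ≫ ψ, hdiι_comp I K i (Nat.le_succ n) ψ⟩
  obtain ⟨n, ψ, hψ⟩ := (Submodule.mem_iSup_of_directed _ hmono.directed_le).1 hx
  exact ⟨n, ψ, hψ⟩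

variable {W : Type (u + 1)} [AddCommGroup W] [Module A W]
  (t : ∀ n : ℕ, (sg (Q I n) ⟶ K⟦i⟧) →ₗ[A] W)
  (ht : ∀ (n m : ℕ) (h : n ≤ m) (ψ : sg (Q I n) ⟶ K⟦i⟧), t m (sgm (qmap I h) ≫ ψ) = t n ψ)

/-- the cocone of a compatible family. -/
noncomputable def hdiCocone : Cocone (hdiDiag I K i) where
  pt := ModuleCat.of A W
  ι :=
    { app := fun j => ModuleCat.ofHom (t j.unop.unop)
      naturality := fun j j' w => by
        apply ModuleCat.hom_ext
        apply LinearMap.ext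
        intro ψ
        have hle : j.unop.unop ≤ j'.unop.unop := leOfHom w.unop.unop
        change t j'.unop.unop (sgm (qmap I hle) ≫ ψ) = t j.unop.unop ψ
        exact ht _ _ hle ψ }

/-- the map out of `HDI` induced by a compatible family. -/
noncomputable def hdiDesc : Dual2.HDI A I K i →ₗ[A] W :=
  (colimit.desc (hdiDiag I K i) (hdiCocone I K i t ht)).hom

lemma hdiDesc_ι (n : ℕ) (ψ : sg (Q I n) ⟶ K⟦i⟧) :
    hdiDesc I K i t ht (hdiι I K i n ψ) = t n ψ := by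
  have h := colimit.ι_desc (hdiCocone I K i t ht) (op (op n))
  exact congrArg (fun f => f.hom ψ) h

end hdi

section quot

variable {R : Type u} [CommRing R] (I : Ideal R)

lemma exists_eq_smul_qmap {n m : ℕ} (h : n ≤ m) (g : Q I m ⟶ Q I n) :
    ∃ a : R, g = a • qmap I h := by
  obtain ⟨a, ha⟩ := Submodule.Quotient.mk_surjective _ (g.hom (Submodule.Quotient.mk 1))
  refine ⟨a, ?_⟩
  apply ModuleCat.hom_ext
  apply LinearMap.ext
  intro x
  obtain ⟨x, rfl⟩ := Submodule.Quotient.mk_surjective _ x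
  rw [ModuleCat.hom_smul, LinearMap.smul_apply, qmap_apply]
  have hx : (Submodule.Quotient.mk x : R ⧸ I ^ m) = x • Submodule.Quotient.mk 1 := by
    rw [← Submodule.Quotient.mk_smul, smul_eq_mul, mul_one]
  rw [hx, map_smul, ← ha, ← Submodule.Quotient.mk_smul, ← Submodule.Quotient.mk_smul, smul_eq_mul,
    smul_eq_mul, mul_comm]

lemma smul_id_Q_eq_zero (n : ℕ) (a : R) (ha : a ∈ I ^ n) : a • 𝟙 (Q I n) = 0 := by
  apply ModuleCat.hom_ext
  apply LinearMap.ext
  intro x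
  obtain ⟨x, rfl⟩ := Submodule.Quotient.mk_surjective _ x
  rw [ModuleCat.hom_smul, LinearMap.smul_apply, ModuleCat.hom_id, LinearMap.id_apply,
    ModuleCat.hom_zero, LinearMap.zero_apply, ← Submodule.Quotient.mk_smul,
    Submodule.Quotient.mk_eq_zero, smul_eq_mul]
  exact Ideal.mul_mem_right _ _ ha

end quot

section trace

variable {A : Type u} [CommRing A] [IsLocalRing A] [IsNoetherianRing A] {ω : Dual.D A}
  {E : Type u} [AddCommGroup E] [Module A E]

lemma smul_T_eq_zero (ω : Dual.D A) (n : ℕ) (a : A) (ha : a ∈ maximalIdeal A ^ n) (j : ℤ)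
    (ψ : sg (Q (maximalIdeal A) n) ⟶ ω⟦j⟧) : a • ψ = 0 := by
  rw [← Tmap_smul_id ω (Q (maximalIdeal A) n) a j ψ, smul_id_Q_eq_zero _ n a ha, Tmap_apply,
    show sgm (0 : Q (maximalIdeal A) n ⟶ Q (maximalIdeal A) n) = 0 from
      CategoryTheory.Functor.map_zero _ _ _, zero_comp]

variable (τ : ∀ n : ℕ, T0 ω n →ₗ[A] E)
  (hτ : ∀ (n k : ℕ) (h : n ≤ k) (ψ : T0 ω n),
    τ k (Tmap ω (qmap (maximalIdeal A) h) 0 ψ) = τ n ψ)

/-- the trace at level `n`, on the index `-(0 : ℕ)`. -/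
noncomputable abbrev P0 (n : ℕ) :
    (sg (Q (maximalIdeal A) n) ⟶ ω⟦-((0 : ℕ) : ℤ)⟧) →ₗ[A] E :=
  psiN τ (Q (maximalIdeal A) n) 0 n (Ext.mk₀ (𝟙 _))

variable (f : ResidueField A →ₗ[A] E) (hf : InjHull.IsInjectiveHull f)

include hτ hf in
theorem P0_injective (n : ℕ) (hPD : PD τ hτ (Q (maximalIdeal A) n))
    (ψ : sg (Q (maximalIdeal A) n) ⟶ ω⟦-((0 : ℕ) : ℤ)⟧) (h0 : P0 τ n ψ = 0) : ψ = 0 := by
  by_contra hψ
  obtain ⟨lam, hlam⟩ := exists_dual_apply_ne_zero f hf ψ hψ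
  obtain ⟨z, hz⟩ := (hPD 0).2 lam
  obtain ⟨m₀, e₀, rfl⟩ := HH.exists_of (maximalIdeal A) (Q (maximalIdeal A) n) 0 z
  have hle : m₀ ≤ max m₀ n := le_max_left _ _
  have hn' : n ≤ max m₀ n := le_max_right _ _
  rw [← HH.of_tr (maximalIdeal A) (Q (maximalIdeal A) n) 0 hle e₀] at hz
  obtain ⟨g, hg⟩ := (Ext.mk₀_bijective (Q (maximalIdeal A) (max m₀ n))
    (Q (maximalIdeal A) n)).2 (tr (maximalIdeal A) (Q (maximalIdeal A) n) 0 hle e₀)
  obtain ⟨a, rfl⟩ := exists_eq_smul_qmap (maximalIdeal A) hn' g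
  have h1 : Psi τ hτ (Q (maximalIdeal A) n) 0
      (HH.of (maximalIdeal A) (Q (maximalIdeal A) n) 0 (max m₀ n)
        (tr (maximalIdeal A) (Q (maximalIdeal A) n) 0 hle e₀)) = a • P0 τ n := by
    have h2 : Psi τ hτ (Q (maximalIdeal A) n) 0
        (HH.of (maximalIdeal A) (Q (maximalIdeal A) n) 0 (max m₀ n)
          (tr (maximalIdeal A) (Q (maximalIdeal A) n) 0 hle e₀)) =
        psiN τ (Q (maximalIdeal A) n) 0 (max m₀ n)
          (tr (maximalIdeal A) (Q (maximalIdeal A) n) 0 hle e₀) :=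
      Module.DirectLimit.lift_of _ _ _
    rw [h2, ← hg, Ext.mk₀_smul, map_smul]
    congr 1
    refine Eq.trans ?_ (psiN_compat τ hτ (Q (maximalIdeal A) n) 0 n (max m₀ n) hn' (Ext.mk₀ (𝟙 _)))
    congr 1
    change Ext.mk₀ (qmap (maximalIdeal A) hn') =
      (Ext.mk₀ (qmap (maximalIdeal A) hn')).comp (Ext.mk₀ (𝟙 _)) (zero_add 0)
    rw [Ext.mk₀_comp_mk₀, Category.comp_id]
  apply hlam
  rw [← hz, h1, LinearMap.smul_apply, h0, smul_zero]

include hτ hf in
theorem P0_surjective (n : ℕ) (hPD : PD τ hτ (Q (maximalIdeal A) n)) (e : E)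
    (he : ∀ a ∈ maximalIdeal A ^ n, a • e = 0) :
    ∃ ψ : sg (Q (maximalIdeal A) n) ⟶ ω⟦-((0 : ℕ) : ℤ)⟧, P0 τ n ψ = e := by
  by_contra hne
  have hPN : ∀ ψ, P0 τ n ψ ∈
      Submodule.torsionBySet A E ((maximalIdeal A ^ n : Ideal A) : Set A) := by
    intro ψ
    rw [Submodule.mem_torsionBySet_iff]
    rintro ⟨a, ha⟩
    change a • P0 τ n ψ = 0
    rw [← map_smul, smul_T_eq_zero ω n a ha _ ψ, map_zero]
  let PN : (sg (Q (maximalIdeal A) n) ⟶ ω⟦-((0 : ℕ) : ℤ)⟧) →ₗ[A]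
      Submodule.torsionBySet A E ((maximalIdeal A ^ n : Ideal A) : Set A) :=
    LinearMap.codRestrict _ (P0 τ n) hPN
  have heN : e ∈ Submodule.torsionBySet A E ((maximalIdeal A ^ n : Ideal A) : Set A) := by
    rw [Submodule.mem_torsionBySet_iff]
    rintro ⟨a, ha⟩
    exact he a ha
  have hq : (LinearMap.range PN).mkQ ⟨e, heN⟩ ≠ 0 := by
    intro h
    rw [Submodule.mkQ_apply, Submodule.Quotient.mk_eq_zero] at h
    obtain ⟨ψ, hψ⟩ := h
    exact hne ⟨ψ, congrArg Subtype.val hψ⟩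
  obtain ⟨ν, hν⟩ := exists_dual_apply_ne_zero f hf _ hq
  obtain ⟨r, hr⟩ := Groth.Agent.Lib.Helper1.Matlis.exists_smul_eq_of_linearMap f hf
    (maximalIdeal A ^ n) (Groth.Agent.Lib.Helper1.Matlis.isFiniteLength_quotient_pow n)
    (ν ∘ₗ (LinearMap.range PN).mkQ)
  have hrP : ∀ ψ, r • P0 τ n ψ = 0 := by
    intro ψ
    have h1 := hr (PN ψ)
    rw [LinearMap.comp_apply, Submodule.mkQ_apply,
      (Submodule.Quotient.mk_eq_zero (LinearMap.range PN)).2 ⟨ψ, rfl⟩, map_zero] at h1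
    exact h1.symm
  have hz : HH.of (maximalIdeal A) (Q (maximalIdeal A) n) 0 n
      (Ext.mk₀ (r • 𝟙 (Q (maximalIdeal A) n))) = 0 := by
    apply (hPD 0).1
    rw [map_zero]
    have h2 : Psi τ hτ (Q (maximalIdeal A) n) 0
        (HH.of (maximalIdeal A) (Q (maximalIdeal A) n) 0 n
          (Ext.mk₀ (r • 𝟙 (Q (maximalIdeal A) n)))) =
        psiN τ (Q (maximalIdeal A) n) 0 n (Ext.mk₀ (r • 𝟙 (Q (maximalIdeal A) n))) :=
      Module.DirectLimit.lift_of _ _ _
    rw [h2, Ext.mk₀_smul, map_smul]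
    ext ψ
    rw [LinearMap.smul_apply, LinearMap.zero_apply]
    exact hrP ψ
  have hrmem : r ∈ maximalIdeal A ^ n := by
    have h3 := congrArg (HH0 (maximalIdeal A) (Q (maximalIdeal A) n)) hz
    rw [HH0_of, map_zero, ev0_mk₀, ModuleCat.hom_smul, LinearMap.smul_apply, ModuleCat.hom_id,
      LinearMap.id_apply, ← Submodule.Quotient.mk_smul, Submodule.Quotient.mk_eq_zero, smul_eq_mul,
      mul_one] at h3
    exact h3
  apply hν
  have h4 := hr ⟨e, heN⟩
  rw [LinearMap.comp_apply] at h4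
  rw [h4]
  exact he r hrmem

include hτ hf in
theorem tau_injective (n : ℕ) (hPD : PD τ hτ (Q (maximalIdeal A) n)) (ψ : T0 ω n)
    (h0 : τ n ψ = 0) : ψ = 0 := by
  obtain ⟨φ, hφ⟩ := exists_comp_eq (ω := ω) (Q (maximalIdeal A) n) (-((0 : ℕ) : ℤ))
    (neg_add_cancel ((0 : ℕ) : ℤ)) ψ
  have h1 : P0 τ n φ = 0 := (congrArg (τ n) hφ).trans h0
  have h2 := P0_injective τ hτ f hf n hPD φ h1
  rw [← hφ, h2]
  exact ShiftedHom.comp_zero _ _ _

include hτ hf in
theorem tau_surjective (n : ℕ) (hPD : PD τ hτ (Q (maximalIdeal A) n)) (e : E)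
    (he : ∀ a ∈ maximalIdeal A ^ n, a • e = 0) : ∃ ψ : T0 ω n, τ n ψ = e := by
  obtain ⟨φ, hφ⟩ := P0_surjective τ hτ f hf n hPD e he
  exact ⟨_, hφ⟩

end trace

end Groth.Agent.Lib.Helper4.DT
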