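import Mathlib
import Groth.Agent.Lib.Helper18.DimI
import Groth.Agent.Lib.Helper4.DT5

/-!
# Localizing and normalizing a dualizing complex (helper4, on top of helper18's `Dim` libs)

`exists_localize_normalize`: for a dualizing complex `ω` over a Noetherian ring `A` and a prime `p`
there is a normalized dualizing complex `ω'` over `A_p` (a shift of the localization) computing the
localized `Ext`-modules and cohomology modules of `ω`.
-/

set_option autoImplicit false
set_option linter.style.haveILetI false
set_option linter.unusedSectionVars false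
set_option linter.unusedVariables false
set_option maxHeartbeats 800000

universe u

open CategoryTheory CategoryTheory.Limits CategoryTheory.Pretriangulated DerivedCategory

attribute [local instance] HasDerivedCategory.standard

namespace Groth.Agent.Lib.Helper4.LocNorm

open Groth.Agent.Lib.Helper18.DR Groth.Agent.Lib.Helper18.DR.Dim Groth.Agent.Lib.Helper18.DR.HomLoc
  Groth.Agent.Lib.Helper18.DR.HomBC Groth.Agent.Lib.Helper18.DR.MaxCrit
  Groth.Agent.Lib.Helper18.DR.Uniq Groth.Agent.Lib.Helper18.DR.Norm

section normalize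

variable {B : Type u} [CommRing B] [IsLocalRing B]

/-- if `Ext^i(κ, ω) = 0` for `i ≠ n`, then `ω[n]` is normalized. -/
lemma isNormalized_shift_of (ω : Dual.D B) (n : ℤ)
    (h : ∀ i : ℤ, i ≠ n → Subsingleton (Sg 0 (kap B) ⟶ ω⟦i⟧)) : Dual.IsNormalized B (ω⟦n⟧) := by
  intro i hi
  haveI := h (n + i) (by omega)
  let c : (ω⟦n⟧)⟦i⟧ ≅ ω⟦n + i⟧ := ((shiftFunctorAdd' (Dual.D B) n i (n + i) rfl).app ω).symm
  refine ⟨fun x y => ?_⟩
  rw [← cancel_mono c.hom, ← cancel_epi (kapIso (A := B)).hom]
  exact Subsingleton.elim _ _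

end normalize

section gen

variable {A : Type u} [CommRing A]

/-- a module in degree `0` has no cohomology in other degrees (any commutative ring). -/
lemma subsingleton_HD_inD' (M : Type u) [AddCommGroup M] [Module A M] (i : ℤ) (hi : i ≠ 0) :
    Subsingleton (Dual.HD A (Dual.inD A M) i) := by
  rcases lt_or_gt_of_ne hi with h' | h'
  · exact ModuleCat.subsingleton_of_isZero (isZero_of_isGE (Sg 0 (ModuleCat.of A M)) 0 i h')
  · exact ModuleCat.subsingleton_of_isZero (isZero_of_isLE (Sg 0 (ModuleCat.of A M)) 0 i h')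

end gen

section main

variable {A : Type u} [CommRing A] [IsNoetherianRing A]

theorem exists_localize_normalize (ω : Dual.D A) (hω : Dual.IsDualizing A ω)
    (p : PrimeSpectrum A) :
    ∃ (ω' : Dual.D (Localization.AtPrime p.asIdeal)) (n : ℤ),
      Dual.IsDualizing (Localization.AtPrime p.asIdeal) ω' ∧
      Dual.IsNormalized (Localization.AtPrime p.asIdeal) ω' ∧
      IsDeg ω p n ∧
      (∀ (M : Type u) [AddCommGroup M] [Module A M] [Module.Finite A M] (i : ℤ),
        Subsingleton (LocalizedModule p.asIdeal.primeCompl (Dual.inD A M ⟶ ω⟦i⟧)) ↔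
          Subsingleton (Dual.inD (Localization.AtPrime p.asIdeal)
            (LocalizedModule p.asIdeal.primeCompl M) ⟶ ω'⟦i - n⟧)) ∧
      (∀ j : ℤ, Nontrivial (LocalizedModule p.asIdeal.primeCompl (Dual.HD A ω j)) ↔
          Nontrivial (Dual.HD (Localization.AtPrime p.asIdeal) ω' (j - n))) := by
  obtain ⟨a, b, hab⟩ := hω.finite_injective_dimension
  have hfid : FidIn ω a b := hab
  haveI := hfid.isGE
  have hB := isDualizing_locAt ω hω p
  obtain ⟨n, hdeg⟩ := exists_isDeg ω a p hB
  refine ⟨(locAt ω p)⟦n⟧, n, InvTwist.isDualizing_shift _ hB n,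
    isNormalized_shift_of _ n (fun i hi => hdeg.subsingleton_hom a i hi), hdeg, ?_, ?_⟩
  · intro M _ _ _ i
    rw [subsingleton_localizedModule_hom_iff p.asIdeal.primeCompl (isLocOf_locAt ω p) a
      (ModuleCat.of A M) i]
    let eM : ((extM (A := A) (B := Localization.AtPrime p.asIdeal)).obj (ModuleCat.of A M))
        ≃ₗ[Localization.AtPrime p.asIdeal] LocalizedModule p.asIdeal.primeCompl M :=
      (extMEquiv (B := Localization.AtPrime p.asIdeal) (ModuleCat.of A M)).trans
        (IsLocalizedModule.isBaseChange p.asIdeal.primeCompl (Localization.AtPrime p.asIdeal)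
          (LocalizedModule.mkLinearMap p.asIdeal.primeCompl M)).equiv
    let e1 : Sg 0 ((extM (A := A) (B := Localization.AtPrime p.asIdeal)).obj (ModuleCat.of A M)) ≅
        Dual.inD (Localization.AtPrime p.asIdeal) (LocalizedModule p.asIdeal.primeCompl M) :=
      (DerivedCategory.singleFunctor (ModuleCat.{u} (Localization.AtPrime p.asIdeal)) 0).mapIso
        eM.toModuleIso
    let e2 : (locAt ω p)⟦i⟧ ≅ ((locAt ω p)⟦n⟧)⟦i - n⟧ :=
      (shiftFunctorAdd' (Dual.D (Localization.AtPrime p.asIdeal)) n (i - n) i (by omega)).app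
        (locAt ω p)
    exact (Iso.homCongr e1 e2).subsingleton_congr
  · intro j
    rw [nontrivial_localizedModule_HD_iff p.asIdeal.primeCompl (isLocOf_locAt ω p) j]
    exact ((HShiftIso (Localization.AtPrime p.asIdeal) n (j - n) j (by omega)).app
      (locAt ω p)).toLinearEquiv.toEquiv.nontrivial_congr.symm

end main

end Groth.Agent.Lib.Helper4.LocNorm
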