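import Mathlib
import Groth.Agent.Lib.Helper4.LocNorm
import Groth.Agent.Lib.Helper4.SkOpen
import Groth.Agent.S19859

/-!
# Supports of `Ext^i(M, ω)` and Serre's conditions (helper4)

* `T_finite'`: `Hom_D(M, ω[i])` is a finite module (Noetherian ring, not nec. local).
* `pointwise`: at a prime `q` with `M_q ≠ 0`, the set of `i` with `q ∈ Supp Ext^i(M, ω)` lies in
  `[n_q - dim M_q, n_q - depth M_q]` and contains both end points.
* `isOpen_setOf_hasSkAt`: the `(S_k)`-locus of a finite module is open.
-/

set_option autoImplicit false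
set_option linter.style.haveILetI false
set_option linter.unusedSectionVars false
set_option linter.unusedVariables false
set_option maxHeartbeats 800000

universe u

open CategoryTheory CategoryTheory.Limits CategoryTheory.Pretriangulated DerivedCategory

attribute [local instance] HasDerivedCategory.standard

namespace Groth.Agent.Lib.Helper4.ExtSupp

open Groth.Agent.Lib.Helper18.DR Groth.Agent.Lib.Helper18.DR.Dim Groth.Agent.Lib.Helper4
  Groth.Agent.Lib.Helper4.DT Groth.Agent.Lib.Helper4.LC

variable {A : Type u} [CommRing A] [IsNoetherianRing A] (ω : Dual.D A)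
  (hω : Dual.IsDualizing A ω) (M : Type u) [AddCommGroup M] [Module A M] [Module.Finite A M]

include hω in
lemma T_finite' (j : ℤ) : Module.Finite A (Dual.inD A M ⟶ ω⟦j⟧) := by
  refine finite_hom_shift_of_finiteInjDim (Dual.inD A M) ω (fun i => ?_) hω.finite_cohomology
    ((hasFiniteInjDim_iff ω).2 hω.finite_injective_dimension) j
  by_cases hi : i = 0
  · subst hi
    exact Module.Finite.equiv (HSg 0 (ModuleCat.of A M)).toLinearEquiv.symm
  · haveI := LocNorm.subsingleton_HD_inD' (A := A) M i hi
    exact inferInstance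

include hω in
theorem pointwise (q : PrimeSpectrum A) :
    ∃ n : ℤ, IsDeg ω q n ∧
      (Subsingleton (LocalizedModule q.asIdeal.primeCompl M) →
        ∀ i : ℤ, q ∉ Module.support A (Dual.inD A M ⟶ ω⟦i⟧)) ∧
      (∀ m d : ℕ,
        LocCoh.depth (Localization.AtPrime q.asIdeal)
          (LocalizedModule q.asIdeal.primeCompl M) = (m : ℕ∞) →
        Module.supportDim (Localization.AtPrime q.asIdeal)
          (LocalizedModule q.asIdeal.primeCompl M) = ((d : ℕ∞) : WithBot ℕ∞) →
          (∀ i : ℤ, q ∈ Module.support A (Dual.inD A M ⟶ ω⟦i⟧) →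
            n - (d : ℤ) ≤ i ∧ i ≤ n - (m : ℤ)) ∧
          q ∈ Module.support A (Dual.inD A M ⟶ ω⟦n - (m : ℤ)⟧) ∧
          q ∈ Module.support A (Dual.inD A M ⟶ ω⟦n - (d : ℤ)⟧)) := by
  obtain ⟨ω', n, hB, hnorm, hdeg, hExt, -⟩ := LocNorm.exists_localize_normalize ω hω q
  have key : ∀ i : ℤ, q ∈ Module.support A (Dual.inD A M ⟶ ω⟦i⟧) ↔
      Nontrivial (Dual.inD (Localization.AtPrime q.asIdeal)
        (LocalizedModule q.asIdeal.primeCompl M) ⟶ ω'⟦i - n⟧) := by
    intro i
    rw [Module.mem_support_iff, ← not_subsingleton_iff_nontrivial,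
      ← not_subsingleton_iff_nontrivial, hExt M i]
  refine ⟨n, hdeg, ?_, ?_⟩
  · intro hM i hi
    rw [key] at hi
    haveI := subsingleton_hom_of_subsingleton ω'
      (ModuleCat.of (Localization.AtPrime q.asIdeal) (LocalizedModule q.asIdeal.primeCompl M))
      hM (i - n)
    exact not_nontrivial _ hi
  · intro m d hm hd
    haveI hnt : Nontrivial (LocalizedModule q.asIdeal.primeCompl M) := by
      by_contra hns
      rw [not_nontrivial_iff_subsingleton] at hns
      rw [depth_eq_top_of_subsingleton] at hm
      exact ENat.top_ne_coe m hm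
    have hT := (depth_eq_iff_T hB hnorm (LocalizedModule q.asIdeal.primeCompl M) m).1 hm
    have htop := Groth.Agent.S19859.result (Localization.AtPrime q.asIdeal) ω' hB hnorm
      (LocalizedModule q.asIdeal.primeCompl M) d hd
    have hvan : ∀ k : ℕ, d < k → Subsingleton (Dual.inD (Localization.AtPrime q.asIdeal)
        (LocalizedModule q.asIdeal.primeCompl M) ⟶ ω'⟦-(k : ℤ)⟧) := by
      intro k hk
      refine (subsingleton_HH_iff hB hnorm (LocalizedModule q.asIdeal.primeCompl M) k).1 ?_
      refine HH.subsingleton_of_supportDim_lt _ (ModuleCat.of (Localization.AtPrime q.asIdeal)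
        (LocalizedModule q.asIdeal.primeCompl M)) k ?_
      rw [hd]
      exact_mod_cast hk
    refine ⟨?_, ?_, ?_⟩
    · intro i hi
      rw [key] at hi
      have h1 : i - n ≤ 0 := by
        by_contra h
        push Not at h
        haveI := T_pos hB hnorm (LocalizedModule q.asIdeal.primeCompl M) (i - n) h
        exact not_nontrivial _ hi
      obtain ⟨k, hk⟩ : ∃ k : ℕ, i - n = -(k : ℤ) := ⟨(n - i).toNat, by omega⟩
      rw [hk] at hi
      have h2 : m ≤ k := by
        by_contra h
        push Not at h
        haveI := hT.1 k h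
        exact not_nontrivial _ hi
      have h3 : k ≤ d := by
        by_contra h
        push Not at h
        haveI := hvan k h
        exact not_nontrivial _ hi
      constructor <;> omega
    · rw [key, show n - (m : ℤ) - n = -(m : ℤ) by ring]
      exact hT.2
    · rw [key, show n - (d : ℤ) - n = -(d : ℤ) by ring]
      exact htop


include hω in
/-- **S18716**: `(S_k)` in terms of the codimension of `Supp Ext^i ∩ Supp Ext^j`. -/
theorem hasSk_iff (k : ℕ) :
    LocCoh.HasSk k A M ↔
      ∀ (i j : ℤ), j < i → ∀ p : PrimeSpectrum A,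
        p ∈ Module.support A (Dual.inD A M ⟶ ω⟦i⟧) →
        p ∈ Module.support A (Dual.inD A M ⟶ ω⟦j⟧) →
          (((k : ℤ) + i - j).toNat : WithBot ℕ∞) ≤
            Module.supportDim (Localization.AtPrime p.asIdeal)
              (LocalizedModule p.asIdeal.primeCompl M) := by
  constructor
  · intro hS i j hji p hi hj
    obtain ⟨n, -, h0, hmd⟩ := pointwise ω hω M p
    by_cases hM : Subsingleton (LocalizedModule p.asIdeal.primeCompl M)
    · exact absurd hi (h0 hM i)
    · haveI : Nontrivial (LocalizedModule p.asIdeal.primeCompl M) :=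
        not_subsingleton_iff_nontrivial.1 hM
      obtain ⟨d, hd⟩ := exists_nat_supportDim (R := Localization.AtPrime p.asIdeal)
        (M := LocalizedModule p.asIdeal.primeCompl M)
      obtain ⟨m, hm⟩ := exists_nat_depth (R := Localization.AtPrime p.asIdeal)
        (M := LocalizedModule p.asIdeal.primeCompl M)
      obtain ⟨h1, -, -⟩ := hmd m d hm hd
      have hi' := h1 i hi
      have hj' := h1 j hj
      have hSp := hS p.asIdeal
      rw [hd, hm] at hSp
      have hkm : k ≤ m := by
        rcases min_le_iff.1 hSp with h | h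
        · exact_mod_cast h
        · have : d ≤ m := by exact_mod_cast h
          omega
      rw [hd]
      have : ((k : ℤ) + i - j).toNat ≤ d := by omega
      exact_mod_cast this
  · intro h p hp
    obtain ⟨n, -, h0, hmd⟩ := pointwise ω hω M ⟨p, hp⟩
    by_cases hM : Subsingleton (LocalizedModule p.primeCompl M)
    · haveI := hM
      exact (min_le_right _ _).trans ((Module.supportDim_eq_bot_of_subsingleton
        (R := Localization.AtPrime p) (M := LocalizedModule p.primeCompl M)).trans_le bot_le)
    · haveI : Nontrivial (LocalizedModule p.primeCompl M) :=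
        not_subsingleton_iff_nontrivial.1 hM
      obtain ⟨d, hd⟩ := exists_nat_supportDim (R := Localization.AtPrime p)
        (M := LocalizedModule p.primeCompl M)
      obtain ⟨m, hm⟩ := exists_nat_depth (R := Localization.AtPrime p)
        (M := LocalizedModule p.primeCompl M)
      obtain ⟨-, h2, h3⟩ := hmd m d hm hd
      have hmd' : m ≤ d := by
        have := depth_le_supportDim (R := Localization.AtPrime p)
          (M := LocalizedModule p.primeCompl M)
        rw [hd, hm] at this
        exact_mod_cast this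
      rw [hd, hm]
      rcases hmd'.eq_or_lt with heq | hlt
      · rw [heq]
        exact min_le_right _ _
      · have h4 : ((((k : ℤ) + (n - (m : ℤ)) - (n - (d : ℤ))).toNat : ℕ) : WithBot ℕ∞) ≤
            Module.supportDim (Localization.AtPrime p) (LocalizedModule p.primeCompl M) :=
          h (n - (m : ℤ)) (n - (d : ℤ)) (by omega) ⟨p, hp⟩ h2 h3
        rw [hd] at h4
        have h5 : ((k : ℤ) + (n - (m : ℤ)) - (n - (d : ℤ))).toNat ≤ d := by exact_mod_cast h4
        have h6 : k ≤ m := by omega
        exact (min_le_left _ _).trans (by exact_mod_cast h6)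

/-- the annihilator of `Ext^i(M, ω)` -/
noncomputable def annE (i : ℤ) : Ideal A := Module.annihilator A (Dual.inD A M ⟶ ω⟦i⟧)

include hω in
lemma support_eq_zeroLocus_annE (i : ℤ) :
    Module.support A (Dual.inD A M ⟶ ω⟦i⟧) = PrimeSpectrum.zeroLocus (annE ω M i : Set A) := by
  haveI := T_finite' ω hω M i
  exact Module.support_eq_zeroLocus

include hω in
lemma mem_support_iff_annE_le (i : ℤ) (q : PrimeSpectrum A) :
    q ∈ Module.support A (Dual.inD A M ⟶ ω⟦i⟧) ↔ annE ω M i ≤ q.asIdeal := by
  rw [support_eq_zeroLocus_annE ω hω M i, PrimeSpectrum.mem_zeroLocus, SetLike.coe_subset_coe]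

/-- the complement of the `(S_k)`-locus, as a finite union of irreducible closed sets -/
def badSet (δ : PrimeSpectrum A → ℤ) (a b : ℤ) (k : ℕ) : Set (PrimeSpectrum A) :=
  ⋃ i ∈ Set.Icc a b, ⋃ j ∈ Set.Icc a b,
    ⋃ q₀ ∈ {q₀ : PrimeSpectrum A | q₀.asIdeal ∈ (annE ω M i ⊔ annE ω M j).minimalPrimes ∧
        j < i ∧ -δ q₀ - i < (k : ℤ)},
      PrimeSpectrum.zeroLocus (q₀.asIdeal : Set A)

lemma isClosed_badSet (δ : PrimeSpectrum A → ℤ) (a b : ℤ) (k : ℕ) :
    IsClosed (badSet ω M δ a b k) := by
  unfold badSet
  refine (Set.finite_Icc a b).isClosed_biUnion (fun i _ => ?_)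
  refine (Set.finite_Icc a b).isClosed_biUnion (fun j _ => ?_)
  refine Set.Finite.isClosed_biUnion ?_ (fun q₀ _ => PrimeSpectrum.isClosed_zeroLocus _)
  have hfin : ((PrimeSpectrum.asIdeal (R := A)) ⁻¹'
      (annE ω M i ⊔ annE ω M j).minimalPrimes).Finite :=
    Set.Finite.preimage (fun x _ y _ h => PrimeSpectrum.ext h)
      (Ideal.finite_minimalPrimes_of_isNoetherianRing A _)
  exact hfin.subset (fun q h => h.1)

include hω in
/-- **S18715**: the `(S_k)`-locus of a finite module over a ring with a dualizing complex is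
open. -/
theorem isOpen_setOf_hasSkAt (k : ℕ) :
    IsOpen {p : PrimeSpectrum A | EGA4.HasSkAt k A M p.asIdeal} := by
  obtain ⟨δ, hδ1, hδ2⟩ := exists_dimension_function ω hω
  obtain ⟨a, b, hab⟩ := hω.finite_injective_dimension
  have hrange : ∀ (i : ℤ) (q : PrimeSpectrum A),
      q ∈ Module.support A (Dual.inD A M ⟶ ω⟦i⟧) → i ∈ Set.Icc a b := by
    intro i q hq
    by_contra h
    have h' : i < a ∨ b < i := by
      rw [Set.mem_Icc] at h
      omega
    haveI := hab M i h'
    rw [Module.support_eq_empty] at hq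
    exact hq
  have crit : ∀ q : PrimeSpectrum A,
      ¬ (min (k : WithBot ℕ∞) (Module.supportDim (Localization.AtPrime q.asIdeal)
            (LocalizedModule q.asIdeal.primeCompl M)) ≤
          ((LocCoh.depth (Localization.AtPrime q.asIdeal)
            (LocalizedModule q.asIdeal.primeCompl M) : ℕ∞) : WithBot ℕ∞)) ↔
        ∃ i j : ℤ, j < i ∧ q ∈ Module.support A (Dual.inD A M ⟶ ω⟦i⟧) ∧
          q ∈ Module.support A (Dual.inD A M ⟶ ω⟦j⟧) ∧ -δ q - i < (k : ℤ) := by
    intro q
    obtain ⟨n, hdeg, h0, hmd⟩ := pointwise ω hω M q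
    have hq' : IsDeg ω q (-δ q) := hδ1 q
    have hn : n = -δ q := hdeg.unique hq'
    subst hn
    constructor
    · intro hfail
      by_cases hM : Subsingleton (LocalizedModule q.asIdeal.primeCompl M)
      · exfalso
        apply hfail
        haveI := hM
        exact (min_le_right _ _).trans ((Module.supportDim_eq_bot_of_subsingleton
          (R := Localization.AtPrime q.asIdeal)
          (M := LocalizedModule q.asIdeal.primeCompl M)).trans_le bot_le)
      · haveI : Nontrivial (LocalizedModule q.asIdeal.primeCompl M) :=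
          not_subsingleton_iff_nontrivial.1 hM
        obtain ⟨d, hd⟩ := exists_nat_supportDim (R := Localization.AtPrime q.asIdeal)
          (M := LocalizedModule q.asIdeal.primeCompl M)
        obtain ⟨m, hm⟩ := exists_nat_depth (R := Localization.AtPrime q.asIdeal)
          (M := LocalizedModule q.asIdeal.primeCompl M)
        obtain ⟨-, h2, h3⟩ := hmd m d hm hd
        rw [hd, hm] at hfail
        have hmk : m < k := by
          by_contra h
          push Not at h
          apply hfail
          exact (min_le_left _ _).trans (by exact_mod_cast h)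
        have hmd' : m < d := by
          by_contra h
          push Not at h
          apply hfail
          exact (min_le_right _ _).trans (by exact_mod_cast h)
        exact ⟨-δ q - (m : ℤ), -δ q - (d : ℤ), by omega, h2, h3, by omega⟩
    · rintro ⟨i, j, hji, hi, hj, hk'⟩ hle
      by_cases hM : Subsingleton (LocalizedModule q.asIdeal.primeCompl M)
      · exact h0 hM i hi
      · haveI : Nontrivial (LocalizedModule q.asIdeal.primeCompl M) :=
          not_subsingleton_iff_nontrivial.1 hM
        obtain ⟨d, hd⟩ := exists_nat_supportDim (R := Localization.AtPrime q.asIdeal)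
          (M := LocalizedModule q.asIdeal.primeCompl M)
        obtain ⟨m, hm⟩ := exists_nat_depth (R := Localization.AtPrime q.asIdeal)
          (M := LocalizedModule q.asIdeal.primeCompl M)
        obtain ⟨h1, -, -⟩ := hmd m d hm hd
        have hi' := h1 i hi
        have hj' := h1 j hj
        rw [hd, hm] at hle
        rcases min_le_iff.1 hle with h | h
        · have : k ≤ m := by exact_mod_cast h
          omega
        · have : d ≤ m := by exact_mod_cast h
          omega
  have hEq : {p : PrimeSpectrum A | EGA4.HasSkAt k A M p.asIdeal} = (badSet ω M δ a b k)ᶜ := by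
    ext p
    show EGA4.HasSkAt k A M p.asIdeal ↔ p ∉ badSet ω M δ a b k
    rw [SkOpen.hasSkAt_iff]
    constructor
    · intro h hp
      unfold badSet at hp
      obtain ⟨i, -, hp⟩ := Set.mem_iUnion₂.1 hp
      obtain ⟨j, -, hp⟩ := Set.mem_iUnion₂.1 hp
      obtain ⟨q₀, ⟨hq₀, hji, hk'⟩, hp⟩ := Set.mem_iUnion₂.1 hp
      have hle : q₀.asIdeal ≤ p.asIdeal := by
        rw [PrimeSpectrum.mem_zeroLocus, SetLike.coe_subset_coe] at hp
        exact hp
      have hi : q₀ ∈ Module.support A (Dual.inD A M ⟶ ω⟦i⟧) :=
        (mem_support_iff_annE_le ω hω M i q₀).2 (le_sup_left.trans hq₀.1.2)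
      have hj : q₀ ∈ Module.support A (Dual.inD A M ⟶ ω⟦j⟧) :=
        (mem_support_iff_annE_le ω hω M j q₀).2 (le_sup_right.trans hq₀.1.2)
      exact (crit q₀).2 ⟨i, j, hji, hi, hj, hk'⟩ (h q₀.asIdeal hle)
    · intro hp q hq hqp
      by_contra hfail
      obtain ⟨i, j, hji, hi, hj, hk'⟩ := (crit ⟨q, hq⟩).1 hfail
      have hi2 : annE ω M i ≤ q := (mem_support_iff_annE_le ω hω M i ⟨q, hq⟩).1 hi
      have hj2 : annE ω M j ≤ q := (mem_support_iff_annE_le ω hω M j ⟨q, hq⟩).1 hj
      obtain ⟨P, hP, hPq⟩ := Ideal.exists_minimalPrimes_le (J := q) (sup_le hi2 hj2)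
      have hPprime : P.IsPrime := hP.1.1
      apply hp
      unfold badSet
      refine Set.mem_iUnion₂.2 ⟨i, hrange i _ hi, Set.mem_iUnion₂.2 ⟨j, hrange j _ hj,
        Set.mem_iUnion₂.2 ⟨⟨P, hPprime⟩, ⟨hP, hji, ?_⟩, ?_⟩⟩⟩
      · rcases eq_or_lt_of_le hPq with h | h
        · have h1 : (⟨P, hPprime⟩ : PrimeSpectrum A) = ⟨q, hq⟩ := PrimeSpectrum.ext h
          rw [h1]
          exact hk'
        · have h1 := dimFun_lt δ hδ2 ⟨P, hPprime⟩ ⟨q, hq⟩
            ((PrimeSpectrum.asIdeal_lt_asIdeal _ _).1 h)
          omega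
      · rw [PrimeSpectrum.mem_zeroLocus, SetLike.coe_subset_coe]
        exact hPq.trans hqp
  rw [hEq]
  exact (isClosed_badSet ω M δ a b k).isOpen_compl

end Groth.Agent.Lib.Helper4.ExtSupp
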