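import Mathlib
import Groth.Agent.Lib.Helper4.ExtSupp
import Groth.Agent.Lib.Helper22.NormFlat4
import Groth.Agent.Lib.Helper18.ExtDimB

/-!
# `(S_k)` and the dimensions of `Supp Ext^j(M, ω)` for equidimensional modules (helper4)

`ω` is a dualizing complex normalized at every maximal ideal.

* `ringKrullDim_quotient_eq_of_dimFun_max`: a dimension function vanishing at all closed points
  computes `dim A/p`.
* `dim_formula`: `dim A/p + dim M_p = dim M` for `M` equidimensional.
* `hasSk_iff_equidim`: `(S_k) ↔ dim Supp Ext^j(M, ω) ≤ -j - k` for all `j ≠ -dim M`.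
* `self_result`: the version for `M = A` in terms of `H^{-i}(ω)`.
-/

set_option autoImplicit false
set_option linter.style.haveILetI false
set_option linter.unusedSectionVars false
set_option linter.unusedVariables false
set_option maxHeartbeats 800000

universe u

open CategoryTheory CategoryTheory.Limits CategoryTheory.Pretriangulated DerivedCategory

attribute [local instance] HasDerivedCategory.standard

namespace Groth.Agent.Lib.Helper4.ExtSupp

open Groth.Agent.Lib.Helper18.DR Groth.Agent.Lib.Helper18.DR.Dim Groth.Agent.Lib.Helper4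
  Groth.Agent.Lib.Helper4.DT Groth.Agent.Lib.Helper4.LC Groth.Agent.Lib.Helper18.DR.Uniq

section dimfun

variable {A : Type u} [CommRing A] [IsNoetherianRing A]
  (δ : PrimeSpectrum A → ℤ) (hδ : ∀ p q : PrimeSpectrum A, p ⋖ q → δ p = δ q + 1)
  (hmax : ∀ m : PrimeSpectrum A, m.asIdeal.IsMaximal → δ m = 0)

include hδ hmax in
/-- a dimension function vanishing at all closed points computes `dim A/p` -/
theorem ringKrullDim_quotient_eq_of_dimFun_max (p : PrimeSpectrum A) :
    0 ≤ δ p ∧ ringKrullDim (A ⧸ p.asIdeal) = (((δ p).toNat : ℕ) : WithBot ℕ∞) := by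
  have hanti : ∀ x y : PrimeSpectrum A, x ≤ y → δ y ≤ δ x := by
    intro x y hxy
    rcases eq_or_lt_of_le hxy with rfl | h
    · exact le_rfl
    · have := dimFun_lt δ hδ x y h
      omega
  have hex : ∀ q : PrimeSpectrum A, ∃ m : PrimeSpectrum A, m.asIdeal.IsMaximal ∧ q ≤ m := by
    intro q
    obtain ⟨m, hm, hqm⟩ := Ideal.exists_le_maximal q.asIdeal q.isPrime.ne_top
    exact ⟨⟨m, hm.isPrime⟩, hm, hqm⟩
  have hnonneg : ∀ q : PrimeSpectrum A, 0 ≤ δ q := by
    intro q
    obtain ⟨m, hm, hqm⟩ := hex q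
    have := hanti q m hqm
    rw [hmax m hm] at this
    exact this
  refine ⟨hnonneg p, ?_⟩
  rw [ringKrullDim_quotient, Order.krullDim]
  apply le_antisymm
  · refine iSup_le (fun t => ?_)
    have h1 := length_le_of_strictAnti
      (fun q : PrimeSpectrum.zeroLocus (R := A) (p.asIdeal : Set A) => δ q.1)
      (fun x y hxy => dimFun_lt δ hδ x.1 y.1 hxy) 0 (δ p)
      (fun q => ⟨hnonneg q.1, hanti p q.1 q.2⟩) t
    rw [sub_zero] at h1
    exact_mod_cast h1
  · obtain ⟨m, hm, hpm⟩ := hex p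
    obtain ⟨s, hh, hl, hlen⟩ := exists_ltSeries_of_dimFun δ hδ p m hpm
    rw [hmax m hm, sub_zero] at hlen
    let t : LTSeries (PrimeSpectrum.zeroLocus (R := A) (p.asIdeal : Set A)) :=
      { length := s.length
        toFun := fun i => ⟨s i, by
          have h1 := s.head_le i
          rw [hh] at h1
          exact h1⟩
        step := fun i => s.step i }
    have h2 : ((t.length : ℕ) : WithBot ℕ∞) = (((δ p).toNat : ℕ) : WithBot ℕ∞) := by
      have : t.length = (δ p).toNat := by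
        change s.length = _
        omega
      rw [this]
    rw [← h2]
    exact le_iSup (fun t : LTSeries (PrimeSpectrum.zeroLocus (R := A) (p.asIdeal : Set A)) =>
      ((t.length : ℕ) : WithBot ℕ∞)) t

end dimfun

section aux

variable {A : Type u} [CommRing A]

lemma exists_mem_support_of_nontrivial (N : Type*) [AddCommGroup N] [Module A N]
    [Nontrivial N] : ∃ p : PrimeSpectrum A, p ∈ Module.support A N := by
  have hne : (Module.support A N).Nonempty := by
    rw [Set.nonempty_iff_ne_empty]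
    intro h
    rw [Module.support_eq_empty_iff] at h
    exact not_subsingleton N h
  exact hne

/-- `Hom_{D(A)}(A, ω[j]) ≃ H^j(ω)` (no local hypothesis). -/
lemma Tself (ω : Dual.D A) (j : ℤ) :
    Nonempty ((Dual.inD A A ⟶ ω⟦j⟧) ≃ₗ[A] Dual.HD A ω j) :=
  ⟨(Groth.Agent.Lib.Helper18.DR.Norm.homSgEquivH 0 (ω⟦j⟧)).trans
    ((Groth.Agent.Lib.Helper18.DR.HShiftIso A j 0 j (add_zero j)).app ω).toLinearEquiv⟩

lemma hmax_of_isNormalized [IsLocalRing A] (ω : Dual.D A) (hn : Dual.IsNormalized A ω) :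
    ∀ (m : Ideal A), m.IsMaximal → ∀ i : ℤ, i ≠ 0 →
      Subsingleton (Dual.inD A (A ⧸ m) ⟶ ω⟦i⟧) := by
  intro m hm i hi
  obtain rfl : m = IsLocalRing.maximalIdeal A := IsLocalRing.eq_maximalIdeal hm
  exact subsingleton_hom_kap_shift ω i (hn i hi)

end aux

section dualizing

variable {A : Type u} [CommRing A] [IsNoetherianRing A] (ω : Dual.D A)
  (hω : Dual.IsDualizing A ω)
  (hmax : ∀ (m : Ideal A), m.IsMaximal → ∀ i : ℤ, i ≠ 0 →
    Subsingleton (Dual.inD A (A ⧸ m) ⟶ ω⟦i⟧))
  (M : Type u) [AddCommGroup M] [Module A M] [Module.Finite A M]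

include hω hmax in
/-- a dimension function normalized at all closed points -/
lemma exists_dimFun_max :
    ∃ δ : PrimeSpectrum A → ℤ, (∀ p, IsDeg ω p (-δ p)) ∧
      (∀ p : PrimeSpectrum A, 0 ≤ δ p ∧
        ringKrullDim (A ⧸ p.asIdeal) = (((δ p).toNat : ℕ) : WithBot ℕ∞)) := by
  obtain ⟨δ, hδ1, hδ2⟩ := exists_dimension_function ω hω
  have hm0 : ∀ m : PrimeSpectrum A, m.asIdeal.IsMaximal → δ m = 0 := by
    intro m hm
    by_contra hne
    have h1 : Nontrivial (LocalizedModule m.asIdeal.primeCompl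
        (Dual.inD A (A ⧸ m.asIdeal) ⟶ ω⟦-δ m⟧)) := (hδ1 m (-δ m)).2 rfl
    haveI := hmax m.asIdeal hm (-δ m) (by omega)
    have h2 : Subsingleton (LocalizedModule m.asIdeal.primeCompl
        (Dual.inD A (A ⧸ m.asIdeal) ⟶ ω⟦-δ m⟧)) := inferInstance
    exact not_subsingleton _ h2
  exact ⟨δ, hδ1, ringKrullDim_quotient_eq_of_dimFun_max δ hδ2 hm0⟩

variable (δ : PrimeSpectrum A → ℤ) (hδ1 : ∀ p, IsDeg ω p (-δ p))
  (hδ3 : ∀ p : PrimeSpectrum A, 0 ≤ δ p ∧
    ringKrullDim (A ⧸ p.asIdeal) = (((δ p).toNat : ℕ) : WithBot ℕ∞))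
  (hM : EGA4.IsEquidimModule A M) (e : ℕ)
  (he : Module.supportDim A M = ((e : ℕ∞) : WithBot ℕ∞))

include hω hδ1 hδ3 hM he in
/-- `dim A/p + dim M_p = dim M` for an equidimensional module. -/
theorem dim_formula (p : PrimeSpectrum A) (d : ℕ)
    (hd : Module.supportDim (Localization.AtPrime p.asIdeal)
      (LocalizedModule p.asIdeal.primeCompl M) = ((d : ℕ∞) : WithBot ℕ∞)) :
    δ p + d = e := by
  have hntof : ∀ (q : PrimeSpectrum A) (d' : ℕ),
      Module.supportDim (Localization.AtPrime q.asIdeal)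
        (LocalizedModule q.asIdeal.primeCompl M) = ((d' : ℕ∞) : WithBot ℕ∞) →
      Nontrivial (LocalizedModule q.asIdeal.primeCompl M) := by
    intro q d' hd'
    refine (Module.supportDim_ne_bot_iff_nontrivial (Localization.AtPrime q.asIdeal) _).1 ?_
    rw [hd']
    exact WithBot.coe_ne_bot
  have hub : ∀ (q : PrimeSpectrum A) (d' : ℕ),
      Module.supportDim (Localization.AtPrime q.asIdeal)
        (LocalizedModule q.asIdeal.primeCompl M) = ((d' : ℕ∞) : WithBot ℕ∞) →
      δ q + d' ≤ e := by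
    intro q d' hd'
    have hq : q ∈ Module.support A M := Module.mem_support_iff.2 (hntof q d' hd')
    have h1 := Groth.Agent.Lib.Helper22.NormFlat.supportDim_loc_add_le M q.asIdeal hq
    rw [hd', (hδ3 q).2, he] at h1
    have h2 : d' + (δ q).toNat ≤ e := by exact_mod_cast h1
    have := (hδ3 q).1
    omega
  haveI hnt : Nontrivial (LocalizedModule p.asIdeal.primeCompl M) := hntof p d hd
  have hp : p ∈ Module.support A M := Module.mem_support_iff.2 hnt
  have hann : Module.annihilator A M ≤ p.asIdeal := by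
    rw [Module.support_eq_zeroLocus, PrimeSpectrum.mem_zeroLocus, SetLike.coe_subset_coe] at hp
    exact hp
  obtain ⟨P, hP, hPp⟩ := Ideal.exists_minimalPrimes_le (J := p.asIdeal) hann
  obtain ⟨P₀, rfl⟩ : ∃ P₀ : PrimeSpectrum A, P₀.asIdeal = P := ⟨⟨P, hP.1.1⟩, rfl⟩
  have hP₀M : P₀ ∈ Module.support A M := by
    rw [Module.support_eq_zeroLocus, PrimeSpectrum.mem_zeroLocus, SetLike.coe_subset_coe]
    exact hP.1.2
  have hδP : δ P₀ = e := by
    have h1 := (hδ3 P₀).2
    have h2 : (((δ P₀).toNat : ℕ) : WithBot ℕ∞) = ((e : ℕ∞) : WithBot ℕ∞) :=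
      h1.symm.trans ((hM P₀.asIdeal hP).trans he)
    have h3 : (δ P₀).toNat = e := by exact_mod_cast h2
    have := (hδ3 P₀).1
    omega
  haveI hntP : Nontrivial (LocalizedModule P₀.asIdeal.primeCompl M) :=
    Module.mem_support_iff.1 hP₀M
  obtain ⟨d₀, hd₀⟩ := exists_nat_supportDim (R := Localization.AtPrime P₀.asIdeal)
    (M := LocalizedModule P₀.asIdeal.primeCompl M)
  obtain ⟨m₀, hm₀⟩ := exists_nat_depth (R := Localization.AtPrime P₀.asIdeal)
    (M := LocalizedModule P₀.asIdeal.primeCompl M)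
  have hd₀0 := hub P₀ d₀ hd₀
  obtain ⟨n₀, hdeg₀, -, hmd₀⟩ := pointwise ω hω M P₀
  have hn₀ : n₀ = -δ P₀ := hdeg₀.unique (hδ1 P₀)
  obtain ⟨-, -, hbot₀⟩ := hmd₀ m₀ d₀ hm₀ hd₀
  have hmem : p ∈ Module.support A (Dual.inD A M ⟶ ω⟦n₀ - (d₀ : ℤ)⟧) :=
    Module.mem_support_mono ((PrimeSpectrum.asIdeal_le_asIdeal _ _).1 hPp) hbot₀
  obtain ⟨m, hm⟩ := exists_nat_depth (R := Localization.AtPrime p.asIdeal)
    (M := LocalizedModule p.asIdeal.primeCompl M)
  obtain ⟨n, hdeg, -, hmd⟩ := pointwise ω hω M p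
  have hn : n = -δ p := hdeg.unique (hδ1 p)
  obtain ⟨h1, -, -⟩ := hmd m d hm hd
  have h2 := (h1 _ hmem).1
  have h3 := hub p d hd
  omega

include hω hδ1 hδ3 hM he in
/-- all the information at a point of the support of `M` -/
lemma pkg (p : PrimeSpectrum A) (hnt : Nontrivial (LocalizedModule p.asIdeal.primeCompl M)) :
    ∃ m d : ℕ,
      LocCoh.depth (Localization.AtPrime p.asIdeal)
        (LocalizedModule p.asIdeal.primeCompl M) = (m : ℕ∞) ∧
      Module.supportDim (Localization.AtPrime p.asIdeal)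
        (LocalizedModule p.asIdeal.primeCompl M) = ((d : ℕ∞) : WithBot ℕ∞) ∧
      m ≤ d ∧ δ p + d = e ∧
      (∀ i : ℤ, p ∈ Module.support A (Dual.inD A M ⟶ ω⟦i⟧) →
        -δ p - (d : ℤ) ≤ i ∧ i ≤ -δ p - (m : ℤ)) ∧
      p ∈ Module.support A (Dual.inD A M ⟶ ω⟦-δ p - (m : ℤ)⟧) := by
  haveI := hnt
  obtain ⟨d, hd⟩ := exists_nat_supportDim (R := Localization.AtPrime p.asIdeal)
    (M := LocalizedModule p.asIdeal.primeCompl M)
  obtain ⟨m, hm⟩ := exists_nat_depth (R := Localization.AtPrime p.asIdeal)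
    (M := LocalizedModule p.asIdeal.primeCompl M)
  obtain ⟨n, hdeg, -, hmd⟩ := pointwise ω hω M p
  have hn : n = -δ p := hdeg.unique (hδ1 p)
  subst hn
  obtain ⟨h1, h2, -⟩ := hmd m d hm hd
  have hmd' : m ≤ d := by
    have := depth_le_supportDim (R := Localization.AtPrime p.asIdeal)
      (M := LocalizedModule p.asIdeal.primeCompl M)
    rw [hd, hm] at this
    exact_mod_cast this
  exact ⟨m, d, hm, hd, hmd', dim_formula ω hω M δ hδ1 hδ3 hM e he p d hd, h1, h2⟩

include hω in
lemma notMem_support_of_subsingleton (p : PrimeSpectrum A)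
    (hs : Subsingleton (LocalizedModule p.asIdeal.primeCompl M)) (i : ℤ) :
    p ∉ Module.support A (Dual.inD A M ⟶ ω⟦i⟧) := by
  obtain ⟨n, -, h0, -⟩ := pointwise ω hω M p
  exact h0 hs i

include hω hδ1 hδ3 hM he in
lemma index_bounds (j : ℤ) (p : PrimeSpectrum A)
    (hp : p ∈ Module.support A (Dual.inD A M ⟶ ω⟦j⟧)) :
    -(e : ℤ) ≤ j ∧ j ≤ -δ p ∧ 0 ≤ δ p := by
  by_cases hMp : Subsingleton (LocalizedModule p.asIdeal.primeCompl M)
  · exact absurd hp (notMem_support_of_subsingleton ω hω M p hMp j)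
  · obtain ⟨m, d, hm, hd, hmd', hform, h1, -⟩ :=
      pkg ω hω M δ hδ1 hδ3 hM e he p (not_subsingleton_iff_nontrivial.1 hMp)
    have hj' := h1 j hp
    have := (hδ3 p).1
    refine ⟨?_, ?_, this⟩ <;> omega

include hω hδ1 hδ3 hM he in
theorem subsingleton_of_outside' (j : ℤ) (hj : j < -(e : ℤ) ∨ 0 < j) :
    Subsingleton (Dual.inD A M ⟶ ω⟦j⟧) := by
  by_contra hns
  rw [not_subsingleton_iff_nontrivial] at hns
  obtain ⟨p, hp⟩ := exists_mem_support_of_nontrivial (A := A) (Dual.inD A M ⟶ ω⟦j⟧)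
  have := index_bounds ω hω M δ hδ1 hδ3 hM e he j p hp
  omega

include hω hδ1 hδ3 hM he in
theorem hasSk_iff_equidim' (k : ℕ) :
    LocCoh.HasSk k A M ↔
      ∀ j : ℤ, j ≠ -(e : ℤ) →
        (-j - (k : ℤ) < 0 → Subsingleton (Dual.inD A M ⟶ ω⟦j⟧)) ∧
        (0 ≤ -j - (k : ℤ) → Module.supportDim A (Dual.inD A M ⟶ ω⟦j⟧) ≤
          ((-j - (k : ℤ)).toNat : WithBot ℕ∞)) := by
  constructor
  · intro hS j hj
    have claim : ∀ p ∈ Module.support A (Dual.inD A M ⟶ ω⟦j⟧), δ p ≤ -j - (k : ℤ) := by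
      intro p hp
      by_cases hMp : Subsingleton (LocalizedModule p.asIdeal.primeCompl M)
      · exact absurd hp (notMem_support_of_subsingleton ω hω M p hMp j)
      · obtain ⟨m, d, hm, hd, hmd', hform, h1, -⟩ :=
          pkg ω hω M δ hδ1 hδ3 hM e he p (not_subsingleton_iff_nontrivial.1 hMp)
        have hj' := h1 j hp
        have hSp := hS p.asIdeal
        rw [hd, hm] at hSp
        have hkm : k ≤ m := by
          rcases min_le_iff.1 hSp with h | h
          · exact_mod_cast h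
          · have : d ≤ m := by exact_mod_cast h
            omega
        omega
    constructor
    · intro hneg
      by_contra hns
      rw [not_subsingleton_iff_nontrivial] at hns
      obtain ⟨p, hp⟩ := exists_mem_support_of_nontrivial (A := A) (Dual.inD A M ⟶ ω⟦j⟧)
      have h1 := claim p hp
      have h2 := (hδ3 p).1
      omega
    · intro hpos
      change _ ≤ ((((-j - (k : ℤ)).toNat : ℕ) : ℕ∞) : WithBot ℕ∞)
      refine ExtDim.supportDim_le_of_forall_mem_support _ _ (fun p hp => ?_)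
      have h1 := claim p hp
      have h2 := (hδ3 p).1
      rw [(hδ3 p).2]
      have : (δ p).toNat ≤ (-j - (k : ℤ)).toNat := by omega
      exact_mod_cast this
  · intro hC p hp
    obtain ⟨P, rfl⟩ : ∃ P : PrimeSpectrum A, P.asIdeal = p := ⟨⟨p, hp⟩, rfl⟩
    by_cases hMp : Subsingleton (LocalizedModule P.asIdeal.primeCompl M)
    · haveI := hMp
      exact (min_le_right _ _).trans ((Module.supportDim_eq_bot_of_subsingleton
        (R := Localization.AtPrime P.asIdeal)
        (M := LocalizedModule P.asIdeal.primeCompl M)).trans_le bot_le)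
    · obtain ⟨m, d, hm, hd, hmd', hform, h1, h2⟩ :=
        pkg ω hω M δ hδ1 hδ3 hM e he P (not_subsingleton_iff_nontrivial.1 hMp)
      rw [hd, hm]
      rcases hmd'.eq_or_lt with heq | hlt
      · rw [heq]
        exact min_le_right _ _
      · have hjne : -δ P - (m : ℤ) ≠ -(e : ℤ) := by omega
        obtain ⟨c1, c2⟩ := hC _ hjne
        have hnt : ¬ Subsingleton (Dual.inD A M ⟶ ω⟦-δ P - (m : ℤ)⟧) := by
          intro hs
          haveI := hs
          rw [Module.support_eq_empty] at h2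
          exact h2
        have hpos : 0 ≤ -(-δ P - (m : ℤ)) - (k : ℤ) := by
          by_contra h
          push Not at h
          exact hnt (c1 h)
        have h5 := c2 hpos
        have h6 := ringKrullDim_quotient_le_supportDim h2
        rw [(hδ3 P).2] at h6
        have h7 : (δ P).toNat ≤ (-(-δ P - (m : ℤ)) - (k : ℤ)).toNat := by
          exact_mod_cast h6.trans h5
        have h8 := (hδ3 P).1
        have h9 : k ≤ m := by omega
        exact (min_le_left _ _).trans (by exact_mod_cast h9)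

end dualizing

section main

variable {A : Type u} [CommRing A] [IsNoetherianRing A] (ω : Dual.D A)
  (hω : Dual.IsDualizing A ω)
  (hmax : ∀ (m : Ideal A), m.IsMaximal → ∀ i : ℤ, i ≠ 0 →
    Subsingleton (Dual.inD A (A ⧸ m) ⟶ ω⟦i⟧))
  (M : Type u) [AddCommGroup M] [Module A M] [Module.Finite A M]

include hω hmax in
/-- `Ext^j(M, ω) = 0` outside `[-dim M, 0]`. -/
theorem subsingleton_of_outside (hM : EGA4.IsEquidimModule A M) (e : ℕ)
    (he : Module.supportDim A M = (e : WithBot ℕ∞)) (j : ℤ) (hj : j < -(e : ℤ) ∨ 0 < j) :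
    Subsingleton (Dual.inD A M ⟶ ω⟦j⟧) := by
  obtain ⟨δ, hδ1, hδ3⟩ := exists_dimFun_max ω hω hmax
  exact subsingleton_of_outside' ω hω M δ hδ1 hδ3 hM e he j hj

include hω hmax in
/-- **S18717** (global form): for `M` equidimensional of dimension `e`,
`(S_k) ↔ dim Supp Ext^j(M, ω) ≤ -j - k` for all `j ≠ -e`. -/
theorem hasSk_iff_equidim (hM : EGA4.IsEquidimModule A M) (e : ℕ)
    (he : Module.supportDim A M = (e : WithBot ℕ∞)) (k : ℕ) :
    LocCoh.HasSk k A M ↔
      ∀ j : ℤ, j ≠ -(e : ℤ) →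
        (-j - (k : ℤ) < 0 → Subsingleton (Dual.inD A M ⟶ ω⟦j⟧)) ∧
        (0 ≤ -j - (k : ℤ) → Module.supportDim A (Dual.inD A M ⟶ ω⟦j⟧) ≤
          ((-j - (k : ℤ)).toNat : WithBot ℕ∞)) := by
  obtain ⟨δ, hδ1, hδ3⟩ := exists_dimFun_max ω hω hmax
  exact hasSk_iff_equidim' ω hω M δ hδ1 hδ3 hM e he k

include hω hmax in
/-- **S18721**: the ring itself, in terms of `H^{-i}(ω)`. -/
theorem self_result (hEq : EGA4.IsEquidim A) (n : ℕ) (hd : ringKrullDim A = n) :
    (∀ i : ℕ, n < i → Subsingleton (Dual.HD A ω (-(i : ℤ)))) ∧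
    ∀ k' : ℕ,
      (LocCoh.HasSk k' A A ↔
        ∀ i : ℕ, i ≠ n →
          (i < k' → Subsingleton (Dual.HD A ω (-(i : ℤ)))) ∧
          (k' ≤ i → Module.supportDim A (Dual.HD A ω (-(i : ℤ))) ≤
            ((i - k' : ℕ) : WithBot ℕ∞))) := by
  have hM : EGA4.IsEquidimModule A A := by
    intro p hp
    have hann : Module.annihilator A A = ⊥ := Module.annihilator_eq_bot.2 inferInstance
    rw [hann] at hp
    rw [Module.supportDim_self_eq_ringKrullDim]
    exact hEq p hp
  have he : Module.supportDim A A = (n : WithBot ℕ∞) :=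
    (Module.supportDim_self_eq_ringKrullDim (R := A)).trans hd
  have hT : ∀ j : ℤ, Nonempty ((Dual.inD A A ⟶ ω⟦j⟧) ≃ₗ[A] Dual.HD A ω j) := Tself ω
  have hsub : ∀ j : ℤ, Subsingleton (Dual.HD A ω j) ↔ Subsingleton (Dual.inD A A ⟶ ω⟦j⟧) := by
    intro j
    obtain ⟨e⟩ := hT j
    exact e.toEquiv.subsingleton_congr.symm
  have hdim : ∀ j : ℤ, Module.supportDim A (Dual.HD A ω j) =
      Module.supportDim A (Dual.inD A A ⟶ ω⟦j⟧) := by
    intro j
    obtain ⟨e⟩ := hT j
    exact (Module.supportDim_eq_of_equiv e).symm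
  refine ⟨fun i hi => ?_, fun k' => ?_⟩
  · rw [hsub]
    exact subsingleton_of_outside ω hω hmax A hM n he _ (Or.inl (by omega))
  · rw [hasSk_iff_equidim ω hω hmax A hM n he k']
    constructor
    · intro h i hi
      obtain ⟨c1, c2⟩ := h (-(i : ℤ)) (by omega)
      refine ⟨fun hlt => ?_, fun hle => ?_⟩
      · rw [hsub]
        exact c1 (by omega)
      · rw [hdim]
        have h3 := c2 (by omega)
        rw [show (-(-(i : ℤ)) - (k' : ℤ)).toNat = i - k' by omega] at h3
        exact h3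
    · intro h j hj
      by_cases hout : j < -(n : ℤ) ∨ 0 < j
      · haveI := subsingleton_of_outside ω hω hmax A hM n he j hout
        refine ⟨fun _ => inferInstance, fun _ => ?_⟩
        rw [Module.supportDim_eq_bot_of_subsingleton]
        exact bot_le
      · push Not at hout
        obtain ⟨i, rfl⟩ : ∃ i : ℕ, j = -(i : ℤ) := ⟨(-j).toNat, by omega⟩
        obtain ⟨c1, c2⟩ := h i (by omega)
        refine ⟨fun hlt => ?_, fun hle => ?_⟩
        · rw [← hsub]
          exact c1 (by omega)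
        · rw [← hdim, show (-(-(i : ℤ)) - (k' : ℤ)).toNat = i - k' by omega]
          exact c2 (by omega)

end main

end Groth.Agent.Lib.Helper4.ExtSupp
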