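import Mathlib
import Groth.Agent.Lib.Helper4.ExtSupp2
import Groth.Agent.S1717

/-!
# Endomorphisms and `Ext¹` of the dualizing module under `(S_2)`, `(S_3)` (helper4)

`A` Noetherian local of dimension `n` with normalized dualizing complex `ω`, `K = H^{-n}(ω)`.

* `subsingleton_hom_of_cohomology`: `Hom(Y, W) = 0` if `Hom(H^i(Y)[-i], W) = 0` for all `i`.
* `bijective_smul_id_obj₁`: for a distinguished triangle `X → W → Y →`, `A ≃ End(W)` descends to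
  `A ≃ End(X)` when `Hom(X[1], Y) = Hom(Y, W) = Hom(Y, W[1]) = 0`.
* `facts`: under `(S_k)`, `k ≥ 2`: `Ext^{s+j}(H^j(ω), ω) = 0` for `-n < j ≤ 0`, `s < k`.
* `result_aux`: `(S_2) ⇒ A ≃ End(K)`; `(S_3) ⇒ Ext¹(K, K) = 0`.
-/

set_option autoImplicit false
set_option linter.style.haveILetI false
set_option linter.unusedSectionVars false
set_option linter.unusedVariables false
set_option maxHeartbeats 800000

universe u

open CategoryTheory CategoryTheory.Limits CategoryTheory.Pretriangulated DerivedCategory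

attribute [local instance] HasDerivedCategory.standard

namespace Groth.Agent.Lib.Helper4.KEnd

open Groth.Agent.Lib.Helper18.DR Groth.Agent.Lib.Helper18.DR.Dim Groth.Agent.Lib.Helper4
  Groth.Agent.Lib.Helper4.DT Groth.Agent.Lib.Helper4.LC Groth.Agent.Lib.Helper18.DR.Uniq
  Groth.Agent.Lib.Helper4.ExtSupp

section general

variable {A : Type u} [CommRing A]

lemma hasSk_mono {j k : ℕ} (hjk : j ≤ k) (M : Type u) [AddCommGroup M] [Module A M]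
    (h : LocCoh.HasSk k A M) : LocCoh.HasSk j A M := by
  intro p _
  refine le_trans (min_le_min_right _ ?_) (h p)
  exact_mod_cast hjk

lemma subsingleton_hom_obj₂ {T : Triangle (Dual.D A)} (hT : T ∈ distTriang (Dual.D A))
    (Z : Dual.D A) (h₁ : Subsingleton (T.obj₁ ⟶ Z)) (h₃ : Subsingleton (T.obj₃ ⟶ Z)) :
    Subsingleton (T.obj₂ ⟶ Z) := by
  have key : ∀ φ : T.obj₂ ⟶ Z, φ = 0 := by
    intro φ
    obtain ⟨ψ, rfl⟩ := Triangle.yoneda_exact₂ T hT φ (h₁.elim _ _)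
    rw [h₃.elim ψ 0, Limits.comp_zero]
  exact ⟨fun a b => (key a).trans (key b).symm⟩

/-- `Hom(Y, W') = 0` as soon as `Hom(H^i(Y)[-i], W') = 0` for all `i` in the (bounded)
cohomological range of `Y`. -/
lemma subsingleton_hom_of_cohomology (W' Y : Dual.D A) (a b : ℤ)
    (hY : ∀ i : ℤ, (i < a ∨ b < i) → IsZero ((H A i).obj Y))
    (h : ∀ i : ℤ, a ≤ i → i ≤ b → Subsingleton (Sg i ((H A i).obj Y) ⟶ W')) :
    Subsingleton (Y ⟶ W') := by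
  refine cohomological_induction (fun Z : Dual.D A => Subsingleton (Z ⟶ W')) ?_ ?_ ?_ Y a b hY h
  · intro P Q e hP
    have hP' : Subsingleton (P ⟶ W') := hP
    exact ⟨fun x y => (cancel_epi e.hom).1 (hP'.elim _ _)⟩
  · intro P hP
    exact ⟨fun x y => hP.eq_of_src x y⟩
  · intro T hT h₁ h₃
    exact subsingleton_hom_obj₂ hT W' h₁ h₃

lemma subsingleton_hom_Sg_of_shift (M : ModuleCat.{u} A) (i : ℤ) (W' W'' : Dual.D A)
    (e : W'⟦i⟧ ≅ W'') (h : Subsingleton (Sg 0 M ⟶ W'')) : Subsingleton (Sg i M ⟶ W') := by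
  refine ⟨fun a b => ?_⟩
  apply (shiftFunctor (Dual.D A) i).map_injective
  have h1 : (SgShiftIso i 0 i (add_zero i) M).inv ≫ a⟦i⟧' ≫ e.hom =
      (SgShiftIso i 0 i (add_zero i) M).inv ≫ b⟦i⟧' ≫ e.hom := h.elim _ _
  have h2 : a⟦i⟧' ≫ e.hom = b⟦i⟧' ≫ e.hom := (cancel_epi _).1 h1
  exact (cancel_mono _).1 h2

lemma hom_eq_zero_of_iso {Y W' W'' : Dual.D A} (e : W' ≅ W'') (h : ∀ u : Y ⟶ W', u = 0) :
    ∀ u : Y ⟶ W'', u = 0 := by
  intro u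
  have h1 := h (u ≫ e.inv)
  exact (cancel_mono e.inv).1 (h1.trans Limits.zero_comp.symm)

/-- every map `X ⟶ Z` factors through `f : X ⟶ W` if `Hom(Y, Z[1]) = 0`. -/
lemma exists_factor_mor₁ {X W Y : Dual.D A} {f : X ⟶ W} {g : W ⟶ Y} {h : Y ⟶ X⟦(1 : ℤ)⟧}
    (hT : Triangle.mk f g h ∈ distTriang (Dual.D A)) (Z : Dual.D A)
    (hY : ∀ u : Y ⟶ Z⟦(1 : ℤ)⟧, u = 0) (χ : X ⟶ Z) : ∃ ψ : W ⟶ Z, f ≫ ψ = χ := by
  have h0 : h ≫ χ⟦(1 : ℤ)⟧' = 0 := hY _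
  obtain ⟨G, hG⟩ : ∃ G : W⟦(1 : ℤ)⟧ ⟶ Z⟦(1 : ℤ)⟧, χ⟦(1 : ℤ)⟧' = (-f⟦(1 : ℤ)⟧') ≫ G :=
    Triangle.yoneda_exact₃ _ (rot_of_distTriang _ hT) (χ⟦(1 : ℤ)⟧') h0
  obtain ⟨G₀, rfl⟩ := (shiftFunctor (Dual.D A) (1 : ℤ)).map_surjective G
  refine ⟨-G₀, ?_⟩
  apply (shiftFunctor (Dual.D A) (1 : ℤ)).map_injective
  rw [hG, Preadditive.comp_neg, CategoryTheory.Functor.map_neg, CategoryTheory.Functor.map_comp,
    Preadditive.neg_comp]

lemma eq_zero_of_comp_mor₁ {X W Y : Dual.D A} {f : X ⟶ W} {g : W ⟶ Y} {h : Y ⟶ X⟦(1 : ℤ)⟧}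
    (hT : Triangle.mk f g h ∈ distTriang (Dual.D A))
    (hXY : ∀ u : X⟦(1 : ℤ)⟧ ⟶ Y, u = 0) (φ : X ⟶ X) (hφ : φ ≫ f = 0) : φ = 0 := by
  have h0 : φ⟦(1 : ℤ)⟧' ≫ f⟦(1 : ℤ)⟧' = 0 := by
    rw [← CategoryTheory.Functor.map_comp, hφ, CategoryTheory.Functor.map_zero]
  obtain ⟨u, hu⟩ : ∃ u : X⟦(1 : ℤ)⟧ ⟶ Y, φ⟦(1 : ℤ)⟧' = u ≫ h :=
    Triangle.coyoneda_exact₁ _ hT (φ⟦(1 : ℤ)⟧') h0
  rw [hXY u, Limits.zero_comp] at hu
  apply (shiftFunctor (Dual.D A) (1 : ℤ)).map_injective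
  rw [hu, CategoryTheory.Functor.map_zero]

/-- descent of `A ≃ End(W)` to `A ≃ End(X)` along a distinguished triangle `X → W → Y →`. -/
theorem bijective_smul_id_obj₁ {X W Y : Dual.D A} {f : X ⟶ W} {g : W ⟶ Y}
    {h : Y ⟶ X⟦(1 : ℤ)⟧} (hT : Triangle.mk f g h ∈ distTriang (Dual.D A))
    (hXY : ∀ u : X⟦(1 : ℤ)⟧ ⟶ Y, u = 0) (hYW : ∀ u : Y ⟶ W, u = 0)
    (hYW1 : ∀ u : Y ⟶ W⟦(1 : ℤ)⟧, u = 0)
    (hW : Function.Bijective (fun a : A => a • 𝟙 W)) :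
    Function.Bijective (fun a : A => a • 𝟙 X) := by
  have hcomm : ∀ a : A, (a • 𝟙 X) ≫ f = f ≫ (a • 𝟙 W) := by
    intro a
    rw [Linear.smul_comp, Linear.comp_smul, Category.id_comp, Category.comp_id]
  constructor
  · intro a b hab
    have hab' : a • 𝟙 X = b • 𝟙 X := hab
    apply hW.1
    show a • 𝟙 W = b • 𝟙 W
    have h1 : f ≫ (a • 𝟙 W - b • 𝟙 W) = 0 := by
      rw [Preadditive.comp_sub, ← hcomm a, ← hcomm b, hab', sub_self]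
    obtain ⟨u, hu⟩ : ∃ u : Y ⟶ W, a • 𝟙 W - b • 𝟙 W = g ≫ u :=
      Triangle.yoneda_exact₂ _ hT (a • 𝟙 W - b • 𝟙 W) h1
    rw [hYW u, Limits.comp_zero] at hu
    exact sub_eq_zero.1 hu
  · intro φ
    obtain ⟨ψ, hψ⟩ := exists_factor_mor₁ hT W hYW1 (φ ≫ f)
    obtain ⟨a, ha⟩ := hW.2 ψ
    have ha' : a • 𝟙 W = ψ := ha
    refine ⟨a, ?_⟩
    show a • 𝟙 X = φ
    have h2 : (a • 𝟙 X - φ) ≫ f = 0 := by
      rw [Preadditive.sub_comp, hcomm a, ha', hψ, sub_self]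
    exact sub_eq_zero.1 (eq_zero_of_comp_mor₁ hT hXY _ h2)

lemma bijective_smul_id_of_iso {P Q : Dual.D A} (e : P ≅ Q)
    (h : Function.Bijective (fun a : A => a • 𝟙 P)) :
    Function.Bijective (fun a : A => a • 𝟙 Q) := by
  have hconj : ∀ a : A, a • 𝟙 Q = e.inv ≫ (a • 𝟙 P) ≫ e.hom := by
    intro a
    rw [Linear.smul_comp, Linear.comp_smul, Category.id_comp, e.inv_hom_id]
  have hconj' : ∀ a : A, a • 𝟙 P = e.hom ≫ (a • 𝟙 Q) ≫ e.inv := by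
    intro a
    rw [Linear.smul_comp, Linear.comp_smul, Category.id_comp, e.hom_inv_id]
  constructor
  · intro a b hab
    have hab' : a • 𝟙 Q = b • 𝟙 Q := hab
    apply h.1
    show a • 𝟙 P = b • 𝟙 P
    rw [hconj' a, hconj' b, hab']
  · intro φ
    obtain ⟨a, ha⟩ := h.2 (e.hom ≫ φ ≫ e.inv)
    have ha' : a • 𝟙 P = e.hom ≫ φ ≫ e.inv := ha
    refine ⟨a, ?_⟩
    show a • 𝟙 Q = φ
    rw [hconj a, ha']
    simp

lemma bijective_smul_id_of_Sg (m : ℤ) (M : ModuleCat.{u} A)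
    (h : Function.Bijective (fun a : A => a • 𝟙 (Sg m M))) :
    Function.Bijective (fun a : A => a • (LinearMap.id : M →ₗ[A] M)) := by
  have hF : ∀ a : A, (singleFunctor (ModuleCat.{u} A) m).map (a • 𝟙 M) = a • 𝟙 (Sg m M) := by
    intro a
    rw [(singleFunctor (ModuleCat.{u} A) m).map_smul, CategoryTheory.Functor.map_id]
  have hc : ∀ a : A, (a • 𝟙 M : M ⟶ M).hom = a • (LinearMap.id : M →ₗ[A] M) := by
    intro a
    exact LinearMap.ext (fun x => rfl)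
  constructor
  · intro a b hab
    have hab' : a • (LinearMap.id : M →ₗ[A] M) = b • (LinearMap.id : M →ₗ[A] M) := hab
    apply h.1
    show a • 𝟙 (Sg m M) = b • 𝟙 (Sg m M)
    rw [← hF a, ← hF b]
    refine congrArg (fun t => (singleFunctor (ModuleCat.{u} A) m).map t) ?_
    apply ModuleCat.hom_ext
    rw [hc a, hc b, hab']
  · intro ℓ
    obtain ⟨a, ha⟩ := h.2 ((singleFunctor (ModuleCat.{u} A) m).map (ModuleCat.ofHom ℓ))
    have ha' : a • 𝟙 (Sg m M) =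
        (singleFunctor (ModuleCat.{u} A) m).map (ModuleCat.ofHom ℓ) := ha
    refine ⟨a, ?_⟩
    show a • (LinearMap.id : M →ₗ[A] M) = ℓ
    rw [← hF a] at ha'
    have h3 := (singleFunctor (ModuleCat.{u} A) m).map_injective ha'
    rw [← hc a, h3, ModuleCat.hom_ofHom]

lemma subsingleton_hom_shift_one_of_iso_shift (P Q : Dual.D A) (m : ℤ) (e : Q ≅ P⟦m⟧)
    (hQ : ∀ φ : Q ⟶ Q⟦(1 : ℤ)⟧, φ = 0) : Subsingleton (P ⟶ P⟦(1 : ℤ)⟧) := by
  have h1 : ∀ c : P ⟶ P⟦(1 : ℤ)⟧, c = 0 := by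
    intro c
    have h2 : e.hom ≫ c⟦m⟧' ≫ (shiftFunctorComm (Dual.D A) 1 m).hom.app P ≫
        e.inv⟦(1 : ℤ)⟧' = 0 := hQ _
    have h3 : c⟦m⟧' ≫ (shiftFunctorComm (Dual.D A) 1 m).hom.app P ≫ e.inv⟦(1 : ℤ)⟧' = 0 :=
      (cancel_epi e.hom).1 (h2.trans Limits.comp_zero.symm)
    have h4 : c⟦m⟧' = 0 := by
      have h5 : c⟦m⟧' ≫ ((shiftFunctorComm (Dual.D A) 1 m).hom.app P ≫ e.inv⟦(1 : ℤ)⟧') =
          0 ≫ ((shiftFunctorComm (Dual.D A) 1 m).hom.app P ≫ e.inv⟦(1 : ℤ)⟧') :=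
        h3.trans Limits.zero_comp.symm
      exact (cancel_mono _).1 h5
    apply (shiftFunctor (Dual.D A) m).map_injective
    rw [h4, CategoryTheory.Functor.map_zero]
  exact ⟨fun a b => (h1 a).trans (h1 b).symm⟩

end general

section facts

variable {A : Type u} [CommRing A] [IsNoetherianRing A] [IsLocalRing A] (ω : Dual.D A)
  (hω : Dual.IsDualizing A ω) (hn : Dual.IsNormalized A ω) (n : ℕ) (hd : ringKrullDim A = n)

include hω hn hd in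
/-- Under `(S_k)` (`k ≥ 2`): `H^j(ω) = 0` outside `[-n, 0]`, and
`Ext^{s+j}(H^j(ω), ω) = 0` for `-n < j ≤ 0` and `s < k`. -/
theorem facts (k : ℕ) (hk : 2 ≤ k) (hS : LocCoh.HasSk k A A) :
    (∀ j : ℤ, (j < -(n : ℤ) ∨ 0 < j) → Subsingleton (Dual.HD A ω j)) ∧
    (∀ j : ℤ, -(n : ℤ) < j → j ≤ 0 → ∀ s : ℤ, s < (k : ℤ) →
      Subsingleton (Dual.inD A (Dual.HD A ω j) ⟶ ω⟦s + j⟧)) := by
  have hmax := hmax_of_isNormalized ω hn
  have hc : CAlg.IsCatenary A := isCatenary_of_dualizing ω hω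
  have hS2 : LocCoh.HasSk 2 A A := hasSk_mono hk A hS
  have hEq : EGA4.IsEquidim A := fun p hp => Groth.Agent.S1717.result A hc hS2 p hp
  obtain ⟨r1, r2⟩ := self_result ω hω hmax hEq n hd
  have r3 := (r2 k).1 hS
  refine ⟨fun j hj => ?_, fun j hj1 hj2 s hs => ?_⟩
  · rcases hj with hj | hj
    · obtain ⟨i, rfl⟩ : ∃ i : ℕ, j = -(i : ℤ) := ⟨(-j).toNat, by omega⟩
      exact r1 i (by omega)
    · obtain ⟨e⟩ := Tself ω j
      exact e.toEquiv.subsingleton_congr.1 (T_pos hω hn A j hj)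
  · obtain ⟨i, rfl⟩ : ∃ i : ℕ, j = -(i : ℤ) := ⟨(-j).toNat, by omega⟩
    obtain ⟨c1, c2⟩ := r3 i (by omega)
    haveI : Module.Finite A (Dual.HD A ω (-(i : ℤ))) := hω.finite_cohomology _
    by_cases hik : i < k
    · exact subsingleton_hom_of_subsingleton ω (ModuleCat.of A (Dual.HD A ω (-(i : ℤ))))
        (c1 hik) _
    · have hdim := c2 (by omega)
      by_cases hpos : 0 < s + -(i : ℤ)
      · exact T_pos hω hn (Dual.HD A ω (-(i : ℤ))) _ hpos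
      · obtain ⟨k', hk'⟩ : ∃ k' : ℕ, s + -(i : ℤ) = -(k' : ℤ) :=
          ⟨(-(s + -(i : ℤ))).toNat, by omega⟩
        obtain ⟨d, hd'⟩ : ∃ d : ℕ, d = i - k := ⟨_, rfl⟩
        rw [← hd'] at hdim
        have hlt : d < k' := by omega
        rw [hk']
        refine (subsingleton_HH_iff hω hn (Dual.HD A ω (-(i : ℤ))) k').1 ?_
        refine HH.subsingleton_of_supportDim_lt _ _ k' (lt_of_le_of_lt hdim ?_)
        exact_mod_cast hlt

include hω hn hd in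
/-- The truncation triangle `τ_{≤ -n} ω → ω → τ_{> -n} ω →` and its Hom-vanishing properties. -/
theorem package (k : ℕ) (hk : 2 ≤ k) (hS : LocCoh.HasSk k A A) :
    ∃ (X Y : Dual.D A) (f : X ⟶ ω) (g : ω ⟶ Y) (h : Y ⟶ X⟦(1 : ℤ)⟧),
      Triangle.mk f g h ∈ distTriang (Dual.D A) ∧
      Nonempty (X ≅ Sg (-(n : ℤ)) ((H A (-(n : ℤ))).obj ω)) ∧
      (∀ u : X⟦(1 : ℤ)⟧ ⟶ Y, u = 0) ∧ (∀ u : X ⟶ Y, u = 0) ∧
      (∀ s : ℤ, s < (k : ℤ) → ∀ u : Y ⟶ ω⟦s⟧, u = 0) := by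
  obtain ⟨fa, fb⟩ := facts ω hω hn n hd k hk hS
  have hK : ∀ i : ℤ, (i < -(n : ℤ) ∨ 0 < i) → IsZero ((H A i).obj ω) := fun i hi =>
    isZero_H_of_subsingleton ω i (fa i hi)
  obtain ⟨X, Y, hX, hY, f, g, h, hT⟩ :=
    TStructure.t.exists_triangle ω (-(n : ℤ)) (-(n : ℤ) + 1) rfl
  haveI : X.IsLE (-(n : ℤ)) := ⟨hX⟩
  haveI : Y.IsGE (-(n : ℤ) + 1) := ⟨hY⟩
  have hf : ∀ i : ℤ, i ≤ -(n : ℤ) → IsIso ((H A i).map f) := fun i hi =>
    isIso_H_mor₁_of_isZero hT (i - 1) i (by omega)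
      (isZero_of_isGE Y (-(n : ℤ) + 1) _ (by omega))
      (isZero_of_isGE Y (-(n : ℤ) + 1) _ (by omega))
  have hg : ∀ i : ℤ, -(n : ℤ) + 1 ≤ i → IsIso ((H A i).map g) := fun i hi =>
    isIso_H_mor₂_of_isZero hT i (isZero_of_isLE X (-(n : ℤ)) _ (by omega))
      (isZero_of_isLE X (-(n : ℤ)) _ (by omega))
  haveI : X.IsGE (-(n : ℤ)) := by
    rw [DerivedCategory.isGE_iff]
    intro i hi
    haveI := hf i (by omega)
    exact (hK i (Or.inl hi)).of_iso (asIso ((H A i).map f))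
  refine ⟨X, Y, f, g, h, hT, ?_, ?_, ?_, ?_⟩
  · obtain ⟨M, ⟨e⟩⟩ := exists_iso_singleFunctor_obj_of_isGE_of_isLE X (-(n : ℤ))
    haveI := hf (-(n : ℤ)) le_rfl
    have eM : (H A (-(n : ℤ))).obj ω ≅ M :=
      (asIso ((H A (-(n : ℤ))).map f)).symm ≪≫ (H A (-(n : ℤ))).mapIso e ≪≫ HSg (-(n : ℤ)) M
    exact ⟨e ≪≫ ((singleFunctor (ModuleCat.{u} A) (-(n : ℤ))).mapIso eM).symm⟩
  · intro u
    haveI : (X⟦(1 : ℤ)⟧).IsLE (-(n : ℤ) - 1) :=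
      TStructure.t.isLE_shift X (-(n : ℤ)) 1 (-(n : ℤ) - 1) (by omega)
    exact TStructure.t.zero u (-(n : ℤ) - 1) (-(n : ℤ) + 1) (by omega)
  · intro u
    exact TStructure.t.zero u (-(n : ℤ)) (-(n : ℤ) + 1) (by omega)
  · intro s hs
    have hsub : Subsingleton (Y ⟶ ω⟦s⟧) := by
      refine subsingleton_hom_of_cohomology (ω⟦s⟧) Y (-(n : ℤ) + 1) 0 ?_ ?_
      · intro i hi
        rcases hi with hi | hi
        · exact isZero_of_isGE Y (-(n : ℤ) + 1) i hi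
        · haveI := hg i (by omega)
          exact (hK i (Or.inr hi)).of_iso (asIso ((H A i).map g)).symm
      · intro i hi1 hi2
        haveI := hg i hi1
        have h0 : Subsingleton (Sg i ((H A i).obj ω) ⟶ ω⟦s⟧) :=
          subsingleton_hom_Sg_of_shift ((H A i).obj ω) i (ω⟦s⟧) (ω⟦s + i⟧)
            ((shiftFunctorAdd' (Dual.D A) s i (s + i) rfl).app ω).symm
            (fb i (by omega) hi2 s hs)
        exact ⟨fun x y => (cancel_epi ((singleFunctor (ModuleCat.{u} A) i).map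
          ((H A i).map g))).1 (h0.elim _ _)⟩
    intro u
    exact hsub.elim u 0

include hω hn hd in
/-- **S18719** in parametrized form. -/
theorem result_aux (k : ℕ) (hk : 2 ≤ k) (hS : LocCoh.HasSk k A A) :
    Function.Bijective (fun r : A => r • (LinearMap.id :
      Dual.HD A ω (-(n : ℤ)) →ₗ[A] Dual.HD A ω (-(n : ℤ)))) ∧
    (3 ≤ k → Subsingleton (Dual.inD A (Dual.HD A ω (-(n : ℤ))) ⟶
      (Dual.inD A (Dual.HD A ω (-(n : ℤ))))⟦(1 : ℤ)⟧)) := by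
  obtain ⟨X, Y, f, g, h, hT, ⟨eX⟩, hXY1, hXY, hY⟩ := package ω hω hn n hd k hk hS
  have hY0 : ∀ u : Y ⟶ ω, u = 0 :=
    hom_eq_zero_of_iso ((shiftFunctorZero (Dual.D A) ℤ).app ω) (hY 0 (by omega))
  have hY1 : ∀ u : Y ⟶ ω⟦(1 : ℤ)⟧, u = 0 := hY 1 (by omega)
  refine ⟨?_, fun hk3 => ?_⟩
  · have h1 : Function.Bijective (fun a : A => a • 𝟙 X) :=
      bijective_smul_id_obj₁ hT hXY1 hY0 hY1 hω.toEnd_bijective
    have h2 := bijective_smul_id_of_iso eX h1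
    exact bijective_smul_id_of_Sg (-(n : ℤ)) ((H A (-(n : ℤ))).obj ω) h2
  · have hY2 : ∀ u : Y ⟶ (ω⟦(1 : ℤ)⟧)⟦(1 : ℤ)⟧, u = 0 :=
      hom_eq_zero_of_iso ((shiftFunctorAdd' (Dual.D A) 1 1 2 (by norm_num)).app ω)
        (hY 2 (by omega))
    have hXω1 : ∀ χ : X ⟶ ω⟦(1 : ℤ)⟧, χ = 0 := by
      intro χ
      obtain ⟨ψ, rfl⟩ := exists_factor_mor₁ hT (ω⟦(1 : ℤ)⟧) hY2 χ
      haveI := hω.ext_self_subsingleton 1 one_ne_zero
      rw [Subsingleton.elim ψ 0, Limits.comp_zero]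
    have hXX : ∀ φ : X ⟶ X⟦(1 : ℤ)⟧, φ = 0 := by
      intro φ
      obtain ⟨u, hu⟩ : ∃ u : X ⟶ Y, φ = u ≫ h :=
        Triangle.coyoneda_exact₁ _ hT φ (hXω1 _)
      rw [hu, hXY u, Limits.zero_comp]
    have e : X ≅ (Sg 0 ((H A (-(n : ℤ))).obj ω))⟦(n : ℤ)⟧ :=
      eX ≪≫ (SgShiftIso (n : ℤ) (-(n : ℤ)) 0 (by omega) ((H A (-(n : ℤ))).obj ω)).symm
    exact subsingleton_hom_shift_one_of_iso_shift _ X (n : ℤ) e hXX

end facts

end Groth.Agent.Lib.Helper4.KEnd
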