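import Groth.Agent.Lib.Helper4.LC7

/-!
# Nonzero maps to `R ⧸ p`, top vanishing, and `Ext`-criteria for vanishing of local cohomology
(helper4)
-/

set_option autoImplicit false
set_option linter.style.haveILetI false
set_option linter.unusedSectionVars false
set_option maxHeartbeats 400000

open CategoryTheory Limits Opposite Abelian

universe u

namespace Groth.Agent.Lib.Helper4.LC

variable {R : Type u} [CommRing R]

section nonzeroMap

open TensorProduct

/-- for a finite module `M` and `p ∈ Supp M` there is a nonzero linear map `M → R ⧸ p`. -/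
theorem exists_linearMap_quotient_prime_ne_zero (M : Type*) [AddCommGroup M] [Module R M]
    [Module.Finite R M] (p : PrimeSpectrum R) (hp : p ∈ Module.support R M) :
    ∃ (φ : M →ₗ[R] R ⧸ p.asIdeal) (m : M), φ m ≠ 0 := by
  classical
  haveI : Nontrivial (p.asIdeal.ResidueField ⊗[R] M) :=
    (Module.mem_support_iff_nontrivial_residueField_tensorProduct p).1 hp
  obtain ⟨v, hv⟩ := exists_ne (0 : p.asIdeal.ResidueField ⊗[R] M)
  obtain ⟨f, hf⟩ : ∃ f : Module.Dual p.asIdeal.ResidueField (p.asIdeal.ResidueField ⊗[R] M),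
      f v ≠ 0 := by
    by_contra h
    push_neg at h
    exact hv ((Module.forall_dual_apply_eq_zero_iff p.asIdeal.ResidueField v).1 h)
  let ψ : M →ₗ[R] p.asIdeal.ResidueField :=
    (f.restrictScalars R).comp (TensorProduct.mk R p.asIdeal.ResidueField M 1)
  have hψ : ∃ m, ψ m ≠ 0 := by
    by_contra h
    push_neg at h
    apply hf
    have hall : ∀ w : p.asIdeal.ResidueField ⊗[R] M, f w = 0 := by
      intro w
      induction w using TensorProduct.induction_on with
      | zero => exact map_zero f
      | tmul k m =>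
        have h1 : k ⊗ₜ[R] m = k • ((1 : p.asIdeal.ResidueField) ⊗ₜ[R] m) := by
          rw [TensorProduct.smul_tmul', smul_eq_mul, mul_one]
        rw [h1, map_smul]
        have h2 : f ((1 : p.asIdeal.ResidueField) ⊗ₜ[R] m) = 0 := h m
        rw [h2, smul_zero]
      | add a b ha hb => rw [map_add, ha, hb, add_zero]
    exact hall v
  obtain ⟨m₀, hm₀⟩ := hψ
  obtain ⟨s, hs⟩ := (Module.Finite.fg_top : (⊤ : Submodule R M).FG)
  obtain ⟨b, hb⟩ := IsLocalization.exist_integer_multiples_of_finset
    (nonZeroDivisors (R ⧸ p.asIdeal)) (s.image ψ)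
  obtain ⟨t, ht⟩ := Ideal.Quotient.mk_surjective (b : R ⧸ p.asIdeal)
  let ι : (R ⧸ p.asIdeal) →ₗ[R] p.asIdeal.ResidueField :=
    (Algebra.linearMap (R ⧸ p.asIdeal) p.asIdeal.ResidueField).restrictScalars R
  have hι : Function.Injective ι := p.asIdeal.injective_algebraMap_quotient_residueField
  have hts : ∀ y : p.asIdeal.ResidueField, t • y = (b : R ⧸ p.asIdeal) • y := by
    intro y
    rw [← ht]
    exact (algebraMap_smul (R ⧸ p.asIdeal) t y).symm
  have hmem : ∀ m : M, (t • ψ) m ∈ LinearMap.range ι := by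
    intro m
    have hm : m ∈ Submodule.span R (s : Set M) := by rw [hs]; trivial
    induction hm using Submodule.span_induction with
    | mem x hx =>
      obtain ⟨c, hc⟩ := hb (ψ x) (Finset.mem_image_of_mem ψ hx)
      refine ⟨c, ?_⟩
      show algebraMap (R ⧸ p.asIdeal) p.asIdeal.ResidueField c = (t • ψ) x
      rw [hc, LinearMap.smul_apply, hts]
    | zero => rw [map_zero]; exact Submodule.zero_mem _
    | add x y _ _ hx hy => rw [map_add]; exact Submodule.add_mem _ hx hy
    | smul a x _ hx => rw [map_smul]; exact Submodule.smul_mem _ a hx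
  let φ : M →ₗ[R] R ⧸ p.asIdeal :=
    (LinearEquiv.ofInjective ι hι).symm.toLinearMap.comp
      ((t • ψ).codRestrict (LinearMap.range ι) hmem)
  refine ⟨φ, m₀, fun h0 => ?_⟩
  have h1 : ι (φ m₀) = (t • ψ) m₀ := by
    show ((LinearEquiv.ofInjective ι hι) ((LinearEquiv.ofInjective ι hι).symm
      ((t • ψ).codRestrict (LinearMap.range ι) hmem m₀)) : p.asIdeal.ResidueField) = _
    rw [LinearEquiv.apply_symm_apply]
    rfl
  rw [h0, map_zero, LinearMap.smul_apply, hts] at h1
  have hb0 : algebraMap (R ⧸ p.asIdeal) p.asIdeal.ResidueField (b : R ⧸ p.asIdeal) ≠ 0 := by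
    intro h
    have h2 := (map_eq_zero_iff _ p.asIdeal.injective_algebraMap_quotient_residueField).1 h
    exact nonZeroDivisors.coe_ne_zero b h2
  rw [Algebra.smul_def] at h1
  exact (mul_ne_zero hb0 hm₀) h1.symm

end nonzeroMap

section minimal

lemma mem_minimalPrimes_of_ringKrullDim_quotient_eq (d : ℕ) (hd : ringKrullDim R = d)
    (p : Ideal R) [hp : p.IsPrime] (hpd : ringKrullDim (R ⧸ p) = d) : p ∈ minimalPrimes R := by
  have h0 : (d : WithBot ℕ∞) ≤ Order.krullDim (PrimeSpectrum.zeroLocus (R := R) (p : Set R)) := by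
    rw [← ringKrullDim_quotient, hpd]
  obtain ⟨l, hl⟩ := Order.le_krullDim_iff.1 h0
  obtain ⟨q, hq, hqp⟩ := Ideal.exists_minimalPrimes_le (J := p) bot_le
  have hqprime : q.IsPrime := hq.1.1
  rcases lt_or_eq_of_le hqp with hlt | heq
  · exfalso
    let q' : PrimeSpectrum R := ⟨q, hqprime⟩
    have hple : (⟨p, hp⟩ : PrimeSpectrum R) ≤ l.head.1 := by
      have h1 := l.head.2
      rw [PrimeSpectrum.mem_zeroLocus] at h1
      exact h1
    have hq'lt : q' < l.head.1 := lt_of_lt_of_le (show q' < ⟨p, hp⟩ from hlt) hple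
    let L : LTSeries (PrimeSpectrum R) := (l.map Subtype.val (fun _ _ h => h)).cons q' hq'lt
    have h1 : (L.length : WithBot ℕ∞) ≤ ringKrullDim R := Order.LTSeries.length_le_krullDim L
    have h2 : L.length = d + 1 := by simp [L, hl]
    rw [h2, hd] at h1
    have : d + 1 ≤ d := by exact_mod_cast h1
    omega
  · rw [← heq]
    exact hq

end minimal

section topVanishing

open scoped Pointwise

variable [IsNoetherianRing R]

/-- If `H^d_I(M) = 0` for one finite module whose support contains all top-dimensional minimal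
primes, then `cd I < d`. -/
theorem HH.subsingleton_of_top_vanishing (I : Ideal R) (d : ℕ) (hd : ringKrullDim R = d)
    (M : Type u) [AddCommGroup M] [Module R M] [Module.Finite R M]
    (hsupp : ∀ p ∈ minimalPrimes R, ringKrullDim (R ⧸ p) = d → ∀ hp : p.IsPrime,
      (⟨p, hp⟩ : PrimeSpectrum R) ∈ Module.support R M)
    (hvan : Subsingleton (HH I (ModuleCat.of R M) d)) (N : ModuleCat.{u} R) (i : ℕ) (hi : d ≤ i) :
    Subsingleton (HH I N i) := by
  rcases Nat.lt_or_ge d i with hlt | hge
  · exact HH.subsingleton_of_ringKrullDim_lt I N i (by rw [hd]; exact_mod_cast hlt)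
  have hid : i = d := le_antisymm hge hi
  have hsucc : ∀ (N : ModuleCat.{u} R), Subsingleton (HH I N (d + 1)) := fun N =>
    HH.subsingleton_of_ringKrullDim_lt I N (d + 1) (by rw [hd]; exact_mod_cast Nat.lt_succ_self d)
  have hquot : ∀ (N₂ N₃ : Type u) [AddCommGroup N₂] [Module R N₂] [AddCommGroup N₃] [Module R N₃]
      (g : N₂ →ₗ[R] N₃), Function.Surjective g → Subsingleton (HH I (ModuleCat.of R N₂) d) →
      Subsingleton (HH I (ModuleCat.of R N₃) d) := by
    intro N₂ N₃ _ _ _ _ g hg h2
    have hex : Function.Exact (LinearMap.ker g).subtype g := by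
      rw [LinearMap.exact_iff, Submodule.range_subtype]
    have hS := sesOf_shortExact (LinearMap.ker g).subtype g hex (Submodule.injective_subtype _) hg
    exact HH.subsingleton_X₃ I hS d h2 (hsucc _)
  have hprime : ∀ p : PrimeSpectrum R,
      Subsingleton (HH I (ModuleCat.of R (R ⧸ p.asIdeal)) d) := by
    intro p
    by_cases hdim : Module.supportDim R (R ⧸ p.asIdeal) < (d : WithBot ℕ∞)
    · exact HH.subsingleton_of_supportDim_lt I _ d hdim
    · have hdim' : ringKrullDim (R ⧸ p.asIdeal) = d := by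
        rw [Module.supportDim_quotient_eq_ringKrullDim] at hdim
        refine le_antisymm ?_ (not_lt.1 hdim)
        rw [← hd]
        exact ringKrullDim_quotient_le p.asIdeal
      have hpmin := mem_minimalPrimes_of_ringKrullDim_quotient_eq d hd p.asIdeal hdim'
      have hpM : p ∈ Module.support R M := hsupp p.asIdeal hpmin hdim' p.isPrime
      obtain ⟨φ, m₀, hm₀⟩ := exists_linearMap_quotient_prime_ne_zero M p hpM
      have hB : Subsingleton (HH I (ModuleCat.of R (LinearMap.range φ)) d) :=
        hquot M (LinearMap.range φ) φ.rangeRestrict φ.surjective_rangeRestrict hvan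
      obtain ⟨x, hx⟩ := Submodule.Quotient.mk_surjective _ (φ m₀)
      have hxp : x ∉ p.asIdeal := fun h => hm₀ (by
        rw [← hx]
        exact (Submodule.Quotient.mk_eq_zero _).2 h)
      have hxB : ∀ y : R ⧸ p.asIdeal, x • y ∈ LinearMap.range φ := by
        intro y
        obtain ⟨r, rfl⟩ := Submodule.Quotient.mk_surjective _ y
        have h1 : x • (Submodule.Quotient.mk r : R ⧸ p.asIdeal) = r • φ m₀ := by
          rw [← hx, ← Submodule.Quotient.mk_smul, ← Submodule.Quotient.mk_smul, smul_eq_mul,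
            smul_eq_mul, mul_comm]
        rw [h1]
        exact (LinearMap.range φ).smul_mem r ⟨m₀, rfl⟩
      have hle : x • (⊤ : Submodule R (R ⧸ p.asIdeal)) ≤
          (LinearMap.range φ).comap (LinearMap.id : (R ⧸ p.asIdeal) →ₗ[R] R ⧸ p.asIdeal) := by
        intro z hz
        obtain ⟨y, -, rfl⟩ := (Submodule.mem_smul_pointwise_iff_exists _ _ _).1 hz
        exact hxB y
      have hsurj : Function.Surjective (Submodule.mapQ (x • (⊤ : Submodule R (R ⧸ p.asIdeal)))
          (LinearMap.range φ) LinearMap.id hle) := by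
        intro z
        obtain ⟨y, rfl⟩ := Submodule.Quotient.mk_surjective _ z
        exact ⟨Submodule.Quotient.mk y, rfl⟩
      have hQ : Module.supportDim R (QuotSMulTop x (R ⧸ p.asIdeal)) + 1 ≤
          Module.supportDim R (R ⧸ p.asIdeal) :=
        Module.supportDim_quotSMulTop_succ_le_of_notMem_minimalPrimes (by
          intro q hq
          rw [Ideal.annihilator_quotient, Ideal.minimalPrimes_eq_subsingleton_self,
            Set.mem_singleton_iff] at hq
          rw [hq]
          exact hxp)
      have hC : Module.supportDim R ((R ⧸ p.asIdeal) ⧸ LinearMap.range φ) <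
          (d : WithBot ℕ∞) := by
        refine lt_of_le_of_lt (Module.supportDim_le_of_surjective _ hsurj) ?_
        apply withBot_lt_of_add_one_le
        rw [← hdim', ← Module.supportDim_quotient_eq_ringKrullDim]
        exact hQ
      have hex : Function.Exact (LinearMap.range φ).subtype (LinearMap.range φ).mkQ := by
        rw [LinearMap.exact_iff, Submodule.ker_mkQ, Submodule.range_subtype]
      have hS := sesOf_shortExact (LinearMap.range φ).subtype (LinearMap.range φ).mkQ hex
        (Submodule.injective_subtype _) (Submodule.mkQ_surjective _)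
      exact HH.subsingleton_X₂ I hS d hB (HH.subsingleton_of_supportDim_lt I _ d hC)
  have hfin : ∀ (N : Type u) [AddCommGroup N] [Module R N] [Module.Finite R N],
      Subsingleton (HH I (ModuleCat.of R N) d) := by
    intro N _ _ hN
    refine IsNoetherianRing.induction_on_isQuotientEquivQuotientPrime R hN
      (motive := fun (N : Type u) [AddCommGroup N] [Module R N] [Module.Finite R N] =>
        Subsingleton (HH I (ModuleCat.of R N) d)) ?_ ?_ ?_
    · intro N _ _ _ _
      exact HH.subsingleton_of_subsingleton I N d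
    · intro N _ _ _ p e
      exact hquot (R ⧸ p.asIdeal) N e.symm.toLinearMap e.symm.surjective (hprime p)
    · intro N₁ _ _ _ N₂ _ _ _ N₃ _ _ _ f g hf hg hfg h1 h3
      exact HH.subsingleton_X₂ I (sesOf_shortExact f g hfg hf hg) d h1 h3
  rw [hid]
  refine HH.subsingleton_of_forall_fg I N d (fun M' hM' => ?_)
  haveI : Module.Finite R M' := Module.Finite.iff_fg.2 hM'
  exact hfin M'

end topVanishing

section extVanishing

lemma isPowerTorsion_quotient_pow (J : Ideal R) (k : ℕ) : LocCoh.IsPowerTorsion J (R ⧸ J ^ k) := by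
  intro y
  refine ⟨k, fun a ha => ?_⟩
  obtain ⟨r, rfl⟩ := Submodule.Quotient.mk_surjective _ y
  rw [← Submodule.Quotient.mk_smul, Submodule.Quotient.mk_eq_zero, smul_eq_mul]
  exact Ideal.mul_mem_right _ _ ha

lemma linearMap_eq_zero_of_isPowerTorsion (J : Ideal R) {F : Type*} {G : Type u} [AddCommGroup F]
    [Module R F] [AddCommGroup G] [Module R G] (hF : LocCoh.IsPowerTorsion J F)
    (hG : DRing.torsionSub J G = ⊥) (φ : F →ₗ[R] G) : φ = 0 := by
  ext m
  obtain ⟨k, hk⟩ := hF m
  have h1 : φ m ∈ DRing.torsionSub J G := ⟨k, fun a ha => by rw [← map_smul, hk a ha, map_zero]⟩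
  rw [hG] at h1
  exact (Submodule.mem_bot R).1 h1

lemma ext_zero_subsingleton_of_forall_hom_eq_zero {X Y : ModuleCat.{u} R}
    (h : ∀ φ : X ⟶ Y, φ = 0) : Subsingleton (Ext.{u} X Y 0) := by
  refine ⟨fun a b => ?_⟩
  obtain ⟨φ, rfl⟩ := (Ext.mk₀_bijective X Y).2 a
  obtain ⟨ψ, rfl⟩ := (Ext.mk₀_bijective X Y).2 b
  rw [h φ, h ψ]

lemma hom_eq_zero_of_ext_zero_subsingleton {X Y : ModuleCat.{u} R}
    (h : Subsingleton (Ext.{u} X Y 0)) (φ : X ⟶ Y) : φ = 0 :=
  (Ext.mk₀_bijective X Y).1 (Subsingleton.elim _ _)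

lemma ext_zero_subsingleton_of_isPowerTorsion (J : Ideal R) {F G : Type u} [AddCommGroup F]
    [Module R F] [AddCommGroup G] [Module R G] (hF : LocCoh.IsPowerTorsion J F)
    (hG : DRing.torsionSub J G = ⊥) :
    Subsingleton (Ext.{u} (ModuleCat.of R F) (ModuleCat.of R G) 0) := by
  refine ext_zero_subsingleton_of_forall_hom_eq_zero (fun φ => ?_)
  apply ModuleCat.hom_ext
  exact linearMap_eq_zero_of_isPowerTorsion J hF hG φ.hom

variable [IsNoetherianRing R]

lemma isPowerTorsion_of_support_subset (J : Ideal R) (F : Type*) [AddCommGroup F] [Module R F]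
    [Module.Finite R F] (h : Module.support R F ⊆ PrimeSpectrum.zeroLocus (J : Set R)) :
    LocCoh.IsPowerTorsion J F := by
  rw [Module.support_eq_zeroLocus, PrimeSpectrum.zeroLocus_subset_zeroLocus_iff] at h
  obtain ⟨k, hk⟩ := Ideal.exists_pow_le_of_le_radical_of_fg h (IsNoetherian.noetherian J)
  intro m
  exact ⟨k, fun a ha => Module.mem_annihilator.1 (hk ha) m⟩

/-- if a finite module `F₀` with `V(J) ⊆ Supp F₀` has no nonzero maps to `G` then `Γ_J(G) = 0`. -/
theorem torsionSub_eq_bot_of_forall_hom_eq_zero (J : Ideal R) (F₀ : Type u) [AddCommGroup F₀]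
    [Module R F₀] [Module.Finite R F₀]
    (hF₀ : PrimeSpectrum.zeroLocus (J : Set R) ⊆ Module.support R F₀) (G : Type u)
    [AddCommGroup G] [Module R G] (h : ∀ φ : F₀ →ₗ[R] G, φ = 0) : DRing.torsionSub J G = ⊥ := by
  rw [eq_bot_iff]
  intro g hg
  rw [Submodule.mem_bot]
  by_contra hg0
  obtain ⟨k, hk⟩ := hg
  obtain ⟨P, hP, hle⟩ := exists_le_isAssociatedPrime_of_isNoetherianRing R g hg0
  obtain ⟨hPprime, y, hy⟩ := isAssociatedPrime_iff.1 hP
  have hJP : J ≤ P := by
    intro a ha
    have h1 : a ^ k ∈ P := hle (by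
      rw [Submodule.mem_colon_singleton, Submodule.mem_bot]
      exact hk _ (Ideal.pow_mem_pow ha k))
    exact hPprime.mem_of_pow_mem k h1
  have hp : (⟨P, hPprime⟩ : PrimeSpectrum R) ∈ Module.support R F₀ := hF₀ (by
    rw [PrimeSpectrum.mem_zeroLocus]
    exact hJP)
  have key : ∃ (φ : F₀ →ₗ[R] R ⧸ P) (m : F₀), φ m ≠ 0 :=
    exists_linearMap_quotient_prime_ne_zero F₀ ⟨P, hPprime⟩ hp
  obtain ⟨φ, m₀, hm₀⟩ := key
  have hker : P ≤ LinearMap.ker (LinearMap.toSpanSingleton R G y) := by
    intro a ha
    rw [hy, Submodule.mem_colon_singleton, Submodule.mem_bot] at ha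
    rw [LinearMap.mem_ker, LinearMap.toSpanSingleton_apply]
    exact ha
  have hι : Function.Injective (Submodule.liftQ P (LinearMap.toSpanSingleton R G y) hker) := by
    rw [injective_iff_map_eq_zero]
    intro z hz
    obtain ⟨r, rfl⟩ := Submodule.Quotient.mk_surjective _ z
    rw [Submodule.liftQ_apply, LinearMap.toSpanSingleton_apply] at hz
    rw [Submodule.Quotient.mk_eq_zero, hy, Submodule.mem_colon_singleton, Submodule.mem_bot]
    exact hz
  have h2 := h ((Submodule.liftQ P (LinearMap.toSpanSingleton R G y) hker).comp φ)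
  apply hm₀
  apply hι
  rw [map_zero]
  exact DFunLike.congr_fun h2 m₀

/-- a `J`-torsion-free module embeds in a `J`-torsion-free injective module. -/
theorem exists_torsionFree_injective_ses (J : Ideal R) (G : Type u) [AddCommGroup G] [Module R G]
    (hG : DRing.torsionSub J G = ⊥) :
    ∃ (E C : Type u) (_ : AddCommGroup E) (_ : Module R E) (_ : AddCommGroup C) (_ : Module R C)
      (f : G →ₗ[R] E) (g : E →ₗ[R] C), Function.Injective f ∧ Function.Surjective g ∧
        Function.Exact f g ∧ Module.Injective R E ∧ DRing.torsionSub J E = ⊥ := by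
  let E₀ : Type u := (injSES (ModuleCat.of R G)).X₂
  haveI hE₀ : Module.Injective R E₀ := injSES_moduleInjective _
  let ι : G →ₗ[R] E₀ := (injSES (ModuleCat.of R G)).f.hom
  have hι : Function.Injective ι :=
    (ModuleCat.mono_iff_injective _).1 (injSES_shortExact (ModuleCat.of R G)).mono_f
  let T : Submodule R E₀ := DRing.torsionSub J E₀
  haveI hT : Module.Injective R T := injective_torsionSub J E₀
  obtain ⟨r, hr⟩ := Module.Injective.extension_property R T T E₀ T.subtype
    (Submodule.injective_subtype T) LinearMap.id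
  have hr' : ∀ t : T, r (t : E₀) = t := fun t => DFunLike.congr_fun hr t
  let E' : Submodule R E₀ := LinearMap.ker r
  have hπ : ∀ e : E₀, ((LinearMap.id : E₀ →ₗ[R] E₀) - T.subtype.comp r) e ∈ E' := by
    intro e
    show r (e - ((r e : T) : E₀)) = 0
    rw [map_sub, hr', sub_self]
  let π : E₀ →ₗ[R] E' := ((LinearMap.id : E₀ →ₗ[R] E₀) - T.subtype.comp r).codRestrict E' hπ
  have hπE : ∀ e : E', π (e : E₀) = e := by
    intro e
    apply Subtype.ext
    show (e : E₀) - ((r (e : E₀) : T) : E₀) = (e : E₀)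
    have h0 : r (e : E₀) = 0 := e.2
    rw [h0, Submodule.coe_zero, sub_zero]
  have hE'inj : Module.Injective R E' := ⟨fun X Y _ _ _ _ f hf g => by
    obtain ⟨h, hh⟩ := hE₀.out f hf (E'.subtype.comp g)
    refine ⟨π.comp h, fun x => ?_⟩
    rw [LinearMap.comp_apply, hh x]
    exact hπE (g x)⟩
  have hE'tf : DRing.torsionSub J E' = ⊥ := by
    rw [eq_bot_iff]
    intro e he
    rw [Submodule.mem_bot]
    have h1 : (e : E₀) ∈ T := (mem_torsionSub_subtype_iff J E' e).1 he
    have h2 : r (e : E₀) = ⟨(e : E₀), h1⟩ := hr' ⟨(e : E₀), h1⟩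
    have h3 : r (e : E₀) = 0 := e.2
    rw [h3] at h2
    apply Subtype.ext
    exact (congrArg Subtype.val h2).symm
  have hf' : Function.Injective (π.comp ι) := by
    rw [injective_iff_map_eq_zero]
    intro g hg
    have h1 : ι g - ((r (ι g) : T) : E₀) = 0 := congrArg Subtype.val hg
    have h2 : ι g ∈ T := by
      rw [sub_eq_zero] at h1
      rw [h1]
      exact (r (ι g)).2
    have h3 : g ∈ DRing.torsionSub J G := by
      obtain ⟨n, hn⟩ := h2
      refine ⟨n, fun a ha => hι ?_⟩
      rw [map_smul, hn a ha, map_zero]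
    rw [hG] at h3
    exact (Submodule.mem_bot R).1 h3
  exact ⟨E', E' ⧸ LinearMap.range (π.comp ι), inferInstance, inferInstance, inferInstance,
    inferInstance, π.comp ι, (LinearMap.range (π.comp ι)).mkQ, hf', Submodule.mkQ_surjective _,
    LinearMap.exact_map_mkQ_range (π.comp ι), hE'inj, hE'tf⟩

/-- the main induction for the `Ext`-criterion. -/
theorem ext_subsingleton_of_hyp (J : Ideal R) (F₀ : Type u) [AddCommGroup F₀] [Module R F₀]
    [Module.Finite R F₀] (hF₀ : PrimeSpectrum.zeroLocus (J : Set R) ⊆ Module.support R F₀)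
    (hF₀' : LocCoh.IsPowerTorsion J F₀) (n : ℕ) :
    ∀ (G : Type u) [AddCommGroup G] [Module R G],
      ((∀ i, i < n → Subsingleton (HH J (ModuleCat.of R G) i)) ∨
        (∀ i, i < n → Subsingleton (Ext.{u} (ModuleCat.of R F₀) (ModuleCat.of R G) i))) →
      ∀ (F : Type u) [AddCommGroup F] [Module R F], LocCoh.IsPowerTorsion J F →
        ∀ i, i < n → Subsingleton (Ext.{u} (ModuleCat.of R F) (ModuleCat.of R G) i) := by
  induction n with
  | zero =>
    intro G _ _ _ F _ _ _ i hi
    exact absurd hi (Nat.not_lt_zero i)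
  | succ n ih =>
    intro G _ _ h F _ _ hF i hi
    have hG : DRing.torsionSub J G = ⊥ := by
      rcases h with h | h
      · exact (HH0_subsingleton_iff J (ModuleCat.of R G)).1 (h 0 (Nat.succ_pos n))
      · refine torsionSub_eq_bot_of_forall_hom_eq_zero J F₀ hF₀ G (fun φ => ?_)
        have h1 := hom_eq_zero_of_ext_zero_subsingleton (h 0 (Nat.succ_pos n))
          (ModuleCat.ofHom φ)
        have h2 := congrArg ModuleCat.Hom.hom h1
        simpa using h2
    cases i with
    | zero => exact ext_zero_subsingleton_of_isPowerTorsion J hF hG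
    | succ i =>
      obtain ⟨E, C, _, _, _, _, f, g, hf, hg, hfg, hEinj, hEtf⟩ :=
        exists_torsionFree_injective_ses J G hG
      have hS : (sesOf f g hfg).ShortExact := sesOf_shortExact f g hfg hf hg
      haveI hinj : CategoryTheory.Injective (sesOf f g hfg).X₂ :=
        Module.injective_object_of_injective_module R E
      have hExtE : ∀ (F' : Type u) [AddCommGroup F'] [Module R F'],
          LocCoh.IsPowerTorsion J F' → ∀ j,
          Subsingleton (Ext.{u} (ModuleCat.of R F') (sesOf f g hfg).X₂ j) := by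
        intro F' _ _ hF' j
        cases j with
        | zero => exact ext_zero_subsingleton_of_isPowerTorsion J hF' hEtf
        | succ j =>
          exact ⟨fun a b => by rw [Ext.eq_zero_of_injective a, Ext.eq_zero_of_injective b]⟩
      have h' : (∀ i, i < n → Subsingleton (HH J (ModuleCat.of R C) i)) ∨
          (∀ i, i < n → Subsingleton (Ext.{u} (ModuleCat.of R F₀) (ModuleCat.of R C) i)) := by
        rcases h with h | h
        · left
          intro j hj
          have h2 : Subsingleton (HH J (sesOf f g hfg).X₂ j) := by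
            cases j with
            | zero => exact (HH0_subsingleton_iff J (sesOf f g hfg).X₂).2 hEtf
            | succ j => exact HH.subsingleton_of_injective J (sesOf f g hfg).X₂ j
          exact HH.subsingleton_X₃ J hS j h2 (h (j + 1) (Nat.succ_lt_succ hj))
        · right
          intro j hj
          haveI h1 : Subsingleton (Ext.{u} (ModuleCat.of R F₀) (sesOf f g hfg).X₁ (j + 1)) :=
            h (j + 1) (Nat.succ_lt_succ hj)
          haveI h2 := hExtE F₀ hF₀' j
          refine ⟨fun a b => ?_⟩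
          have key : ∀ x₃ : Ext.{u} (ModuleCat.of R F₀) (sesOf f g hfg).X₃ j, x₃ = 0 := by
            intro x₃
            obtain ⟨x₂, hx₂⟩ := Ext.covariant_sequence_exact₃ (ModuleCat.of R F₀) hS x₃ rfl
              (Subsingleton.elim _ _)
            rw [← hx₂, Subsingleton.elim x₂ 0, Ext.zero_comp]
          exact (key a).trans (key b).symm
      haveI hC : Subsingleton (Ext.{u} (ModuleCat.of R F) (sesOf f g hfg).X₃ i) :=
        ih C h' F hF i (Nat.lt_of_succ_lt_succ hi)
      haveI h2 := hExtE F hF (i + 1)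
      refine ⟨fun a b => ?_⟩
      have key : ∀ x₁ : Ext.{u} (ModuleCat.of R F) (sesOf f g hfg).X₁ (i + 1), x₁ = 0 := by
        intro x₁
        obtain ⟨x₃, hx₃⟩ := Ext.covariant_sequence_exact₁ (ModuleCat.of R F) hS x₁
          (Subsingleton.elim _ _) rfl
        rw [← hx₃, Subsingleton.elim x₃ 0, Ext.zero_comp]
      exact (key a).trans (key b).symm

/-- the affine `Ext`-criterion for vanishing of local cohomology below `n`. -/
theorem vanishing_iff_ext (J : Ideal R) (G : Type u) [AddCommGroup G] [Module R G] (n : ℕ) :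
    ((∀ i : ℕ, i < n → Subsingleton (HH J (ModuleCat.of R G) i)) ↔
      ∀ (F : Type u) [AddCommGroup F] [Module R F], Module.Finite R F →
        Module.support R F ⊆ PrimeSpectrum.zeroLocus (J : Set R) →
        ∀ i : ℕ, i < n → Subsingleton (Ext.{u} (ModuleCat.of R F) (ModuleCat.of R G) i)) ∧
    ((∀ i : ℕ, i < n → Subsingleton (HH J (ModuleCat.of R G) i)) ↔
      ∃ (F : Type u) (_ : AddCommGroup F) (_ : Module R F), Module.Finite R F ∧
        Module.support R F = PrimeSpectrum.zeroLocus (J : Set R) ∧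
        ∀ i : ℕ, i < n → Subsingleton (Ext.{u} (ModuleCat.of R F) (ModuleCat.of R G) i)) := by
  have hsuppJ : Module.support R (R ⧸ J) = PrimeSpectrum.zeroLocus (J : Set R) := by
    rw [Module.support_eq_zeroLocus, Ideal.annihilator_quotient]
  have hJtors : LocCoh.IsPowerTorsion J (R ⧸ J) :=
    isPowerTorsion_of_support_subset J (R ⧸ J) (le_of_eq hsuppJ)
  have hsuppk : ∀ k, Module.support R (R ⧸ J ^ k) ⊆ PrimeSpectrum.zeroLocus (J : Set R) := by
    intro k p hp
    rw [Module.support_eq_zeroLocus, Ideal.annihilator_quotient, PrimeSpectrum.mem_zeroLocus] at hp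
    rw [PrimeSpectrum.mem_zeroLocus]
    intro a ha
    exact p.isPrime.mem_of_pow_mem k (hp (Ideal.pow_mem_pow ha k))
  have hHH_of_ext : (∀ k i, i < n → Subsingleton (Ext.{u} (Q J k) (ModuleCat.of R G) i)) →
      ∀ i, i < n → Subsingleton (HH J (ModuleCat.of R G) i) := by
    intro h i hi
    apply HH.subsingleton_of_forall_eq_zero
    intro z
    obtain ⟨k, y, rfl⟩ := HH.exists_of J (ModuleCat.of R G) i z
    haveI := h k i hi
    rw [Subsingleton.elim y 0, map_zero]
  have h12 : (∀ i, i < n → Subsingleton (HH J (ModuleCat.of R G) i)) →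
      ∀ (F : Type u) [AddCommGroup F] [Module R F], LocCoh.IsPowerTorsion J F →
      ∀ i, i < n → Subsingleton (Ext.{u} (ModuleCat.of R F) (ModuleCat.of R G) i) :=
    fun h F _ _ hF i hi => ext_subsingleton_of_hyp J (R ⧸ J) (le_of_eq hsuppJ.symm) hJtors n G
      (Or.inl h) F hF i hi
  refine ⟨⟨fun h F _ _ hfin hsupp i hi => ?_, fun h => ?_⟩, ⟨fun h => ?_, ?_⟩⟩
  · haveI := hfin
    exact h12 h F (isPowerTorsion_of_support_subset J F hsupp) i hi
  · exact hHH_of_ext (fun k i hi => h (R ⧸ J ^ k) inferInstance (hsuppk k) i hi)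
  · exact ⟨R ⧸ J, inferInstance, inferInstance, inferInstance, hsuppJ,
      fun i hi => h12 h (R ⧸ J) hJtors i hi⟩
  · rintro ⟨F₀, _, _, hfin, hsupp, hext⟩
    haveI := hfin
    exact hHH_of_ext (fun k i hi => ext_subsingleton_of_hyp J F₀ (le_of_eq hsupp.symm)
      (isPowerTorsion_of_support_subset J F₀ (le_of_eq hsupp)) n G (Or.inr hext) (R ⧸ J ^ k)
      (isPowerTorsion_quotient_pow J k) i hi)

end extVanishing

end Groth.Agent.Lib.Helper4.LC
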