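import Mathlib
import Groth.Agent.Lib.Helper4.KEnd
import Groth.Agent.Lib.Helper4.HDILib
import Groth.Agent.Lib.Helper4.LC9
import Groth.Agent.Lib.Helper18.DimI

/-!
# `H^0_I(ω) = 0 ⇒ cd(A, I) < dim A` (helper4)

`A` Noetherian local of dimension `d` with normalized dualizing complex `ω`, `K = H^{-d}(ω)`.

* `exists_mem_notMem_top_minimalPrimes`: prime avoidance for the top-dimensional minimal primes.
* `exists_pow_smul_id_eq_zero`: an object of `D(A)` with bounded cohomology killed by `f` is killed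
  by a power of `f`.
* `exists_restrict_eq_zero`: if `HDI A I K i = 0`, every `A/I^n → K[i]` dies on some `A/I^m`.
* `HH_top_canonical_subsingleton`: `H^0_I(ω) = 0 ⇒ H^d_I(K) = 0`.
* `cd_lt`: `H^0_I(ω) = 0 ⇒ H^i_I(M) = 0` for all `i ≥ d` and all `M` (**S1720**).
-/

set_option autoImplicit false
set_option linter.style.haveILetI false
set_option linter.unusedSectionVars false
set_option linter.unusedVariables false
set_option maxHeartbeats 800000

universe u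

open CategoryTheory CategoryTheory.Limits CategoryTheory.Pretriangulated DerivedCategory Abelian
  IsLocalRing

attribute [local instance] HasDerivedCategory.standard

namespace Groth.Agent.Lib.Helper4.CdTop

open Groth.Agent.Lib.Helper18.DR Groth.Agent.Lib.Helper18.DR.Dim Groth.Agent.Lib.Helper4
  Groth.Agent.Lib.Helper4.DT Groth.Agent.Lib.Helper4.LC Groth.Agent.Lib.Helper18.DR.Uniq
  Groth.Agent.Lib.Helper4.ExtSupp Groth.Agent.Lib.Helper4.KEnd

section general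

variable {A : Type u} [CommRing A]

/-- prime avoidance for the top-dimensional minimal primes -/
lemma exists_mem_notMem_top_minimalPrimes [IsNoetherianRing A] (d : ℕ) (a : Ideal A)
    (h : ∀ p ∈ minimalPrimes A, ringKrullDim (A ⧸ p) = d → ¬ a ≤ p) :
    ∃ f ∈ a, ∀ p ∈ minimalPrimes A, ringKrullDim (A ⧸ p) = d → f ∉ p := by
  classical
  have hfin : (minimalPrimes A).Finite := minimalPrimes.finite_of_isNoetherianRing A
  let s : Finset (Ideal A) := hfin.toFinset.filter (fun p => ringKrullDim (A ⧸ p) = d)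
  have hs : ∀ p, p ∈ s ↔ p ∈ minimalPrimes A ∧ ringKrullDim (A ⧸ p) = d := by
    intro p
    simp [s]
  by_contra hcon
  have hsub : (a : Set A) ⊆ ⋃ p ∈ (s : Set (Ideal A)), ((fun p : Ideal A => p) p : Set A) := by
    intro f hf
    by_contra hfu
    refine hcon ⟨f, hf, fun p hp hpd hfp => hfu ?_⟩
    exact Set.mem_iUnion₂.2 ⟨p, Finset.mem_coe.2 ((hs p).2 ⟨hp, hpd⟩), hfp⟩
  obtain ⟨p, hp, hap⟩ := (Ideal.subset_union_prime (f := fun p : Ideal A => p) ⊥ ⊥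
    (fun p hp _ _ => ((hs p).1 hp).1.1.1)).1 hsub
  exact h p ((hs p).1 hp).1 ((hs p).1 hp).2 hap

/-- an object with bounded cohomology killed by `f` is killed by a power of `f` -/
lemma exists_pow_smul_id_eq_zero (f : A) (Y : Dual.D A) (a b : ℤ)
    (hY : ∀ i : ℤ, (i < a ∨ b < i) → IsZero ((H A i).obj Y))
    (h : ∀ i : ℤ, a ≤ i → i ≤ b → f • 𝟙 ((H A i).obj Y) = 0) :
    ∃ N : ℕ, f ^ N • 𝟙 Y = 0 := by
  refine cohomological_induction (fun Z : Dual.D A => ∃ N : ℕ, f ^ N • 𝟙 Z = 0) ?_ ?_ ?_ Y a b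
    hY ?_
  · intro P Q e hP
    obtain ⟨N, hN⟩ := hP
    refine ⟨N, ?_⟩
    have hconj : f ^ N • 𝟙 Q = e.inv ≫ (f ^ N • 𝟙 P) ≫ e.hom := by
      rw [Linear.smul_comp, Linear.comp_smul, Category.id_comp, e.inv_hom_id]
    rw [hconj, hN, Limits.zero_comp, Limits.comp_zero]
  · intro P hP
    exact ⟨0, hP.eq_of_src _ _⟩
  · intro T hT h₁ h₃
    obtain ⟨N₁, hN₁⟩ := h₁
    obtain ⟨N₃, hN₃⟩ := h₃
    refine ⟨N₁ + N₃, ?_⟩
    have h0 : (f ^ N₃ • 𝟙 T.obj₂) ≫ T.mor₂ = 0 := by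
      rw [Linear.smul_comp, Category.id_comp]
      have h00 : f ^ N₃ • T.mor₂ = T.mor₂ ≫ (f ^ N₃ • 𝟙 T.obj₃) := by
        rw [Linear.comp_smul, Category.comp_id]
      rw [h00, hN₃, Limits.comp_zero]
    obtain ⟨u, hu⟩ := Triangle.coyoneda_exact₂ T hT (f ^ N₃ • 𝟙 T.obj₂) h0
    have h1 : f ^ N₁ • (u ≫ T.mor₁) = 0 := by
      have h10 : f ^ N₁ • (u ≫ T.mor₁) = u ≫ (f ^ N₁ • 𝟙 T.obj₁) ≫ T.mor₁ := by
        rw [Linear.smul_comp, Category.id_comp, Linear.comp_smul]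
      rw [h10, hN₁, Limits.zero_comp, Limits.comp_zero]
    rw [pow_add, mul_smul, hu, h1]
  · intro i hi1 hi2
    show ∃ N : ℕ, f ^ N • 𝟙 (Sg i ((H A i).obj Y)) = 0
    refine ⟨1, ?_⟩
    rw [pow_one]
    have h1 : f • 𝟙 (Sg i ((H A i).obj Y)) =
        (singleFunctor (ModuleCat.{u} A) i).map (f • 𝟙 ((H A i).obj Y)) := by
      rw [(singleFunctor (ModuleCat.{u} A) i).map_smul, CategoryTheory.Functor.map_id]
    rw [h1, h i hi1 hi2, CategoryTheory.Functor.map_zero]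

/-- if `r` kills `Y`, it kills every map to `X` whose composite to `W` vanishes. -/
lemma smul_eq_zero_of_comp_mor₁ {X W Y : Dual.D A} {a : X ⟶ W} {g : W ⟶ Y}
    {h : Y ⟶ X⟦(1 : ℤ)⟧} (hT : Triangle.mk a g h ∈ distTriang (Dual.D A)) (r : A)
    (hY : r • 𝟙 Y = 0) {Z : Dual.D A} (ψ : Z ⟶ X) (hψ : ψ ≫ a = 0) : r • ψ = 0 := by
  have h0 : ψ⟦(1 : ℤ)⟧' ≫ a⟦(1 : ℤ)⟧' = 0 := by
    rw [← CategoryTheory.Functor.map_comp, hψ, CategoryTheory.Functor.map_zero]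
  obtain ⟨u, hu⟩ : ∃ u : Z⟦(1 : ℤ)⟧ ⟶ Y, ψ⟦(1 : ℤ)⟧' = u ≫ h :=
    Triangle.coyoneda_exact₁ _ hT (ψ⟦(1 : ℤ)⟧') h0
  apply (shiftFunctor (Dual.D A) (1 : ℤ)).map_injective
  rw [(shiftFunctor (Dual.D A) (1 : ℤ)).map_smul, hu, CategoryTheory.Functor.map_zero]
  have h1 : r • (u ≫ h) = (u ≫ (r • 𝟙 Y)) ≫ h := by
    rw [Linear.comp_smul, Category.comp_id, Linear.smul_comp]
  rw [h1, hY, Limits.comp_zero, Limits.zero_comp]

end general

section hdizero

variable {A : Type u} [CommRing A] (I : Ideal A) (K : Dual.D A) (i : ℤ)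

/-- transition maps of the system `n ↦ Hom(A/I^n, K[i])` -/
noncomputable def trK : ∀ n m : ℕ, n ≤ m →
    (sg (Q I n) ⟶ K⟦i⟧) →ₗ[A] (sg (Q I m) ⟶ K⟦i⟧) :=
  fun _ _ h => Linear.leftComp A (K⟦i⟧) (sgm (qmap I h))

instance : DirectedSystem (fun n : ℕ => (sg (Q I n) ⟶ K⟦i⟧)) (trK I K i · · ·) where
  map_self n x := by
    change sgm (qmap I (le_refl n)) ≫ x = x
    rw [qmap_refl, sgm_id, Category.id_comp]
  map_map k j n hnj hjk x := by
    change sgm (qmap I hjk) ≫ sgm (qmap I hnj) ≫ x = sgm (qmap I (hnj.trans hjk)) ≫ x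
    rw [← Category.assoc, ← sgm_comp, qmap_comp]

/-- if `HDI A I K i = 0`, every map `A/I^n → K[i]` dies after restriction to some `A/I^m`. -/
lemma exists_restrict_eq_zero (h0 : Subsingleton (Dual2.HDI A I K i)) (n : ℕ)
    (ψ : sg (Q I n) ⟶ K⟦i⟧) : ∃ (m : ℕ) (h : n ≤ m), sgm (qmap I h) ≫ ψ = 0 := by
  let t : ∀ n : ℕ, (sg (Q I n) ⟶ K⟦i⟧) →ₗ[A]
      Module.DirectLimit (fun n : ℕ => (sg (Q I n) ⟶ K⟦i⟧)) (trK I K i) := fun n =>
    Module.DirectLimit.of A ℕ (fun n : ℕ => (sg (Q I n) ⟶ K⟦i⟧)) (trK I K i) n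
  have ht : ∀ (n m : ℕ) (h : n ≤ m) (ψ : sg (Q I n) ⟶ K⟦i⟧),
      t m (sgm (qmap I h) ≫ ψ) = t n ψ :=
    fun n m h ψ => Module.DirectLimit.of_f (f := trK I K i) (hij := h) (x := ψ)
  have h1 : t n ψ = 0 := by
    have h2 := hdiDesc_ι I K i t ht n ψ
    rw [Subsingleton.elim (hdiι I K i n ψ) 0, map_zero] at h2
    exact h2.symm
  obtain ⟨m, hm, h3⟩ := Module.DirectLimit.of.zero_exact (f := trK I K i) h1
  exact ⟨m, hm, h3⟩

end hdizero

section main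

variable {A : Type u} [CommRing A] [IsNoetherianRing A] [IsLocalRing A] (ω : Dual.D A)
  (hω : Dual.IsDualizing A ω) (hn : Dual.IsNormalized A ω) (d : ℕ) (hd : ringKrullDim A = d)

include hω hn hd in
/-- a normalized dualizing complex of a local ring of dimension `d` lives in `[-d, 0]` -/
lemma subsingleton_HD_of_outside (j : ℤ) (hj : j < -(d : ℤ) ∨ 0 < j) :
    Subsingleton (Dual.HD A ω j) := by
  obtain ⟨e⟩ := Tself ω j
  refine e.toEquiv.subsingleton_congr.1 ?_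
  rcases hj with hj | hj
  · obtain ⟨i, rfl⟩ : ∃ i : ℕ, j = -(i : ℤ) := ⟨(-j).toNat, by omega⟩
    refine (subsingleton_HH_iff hω hn A i).1 ?_
    exact HH.subsingleton_of_ringKrullDim_lt (maximalIdeal A) (ModuleCat.of A A) i
      (by rw [hd]; exact_mod_cast (show d < i by omega))
  · exact T_pos hω hn A j hj

/-- the dualizing module as an object of `ModuleCat` -/
noncomputable abbrev Kc : ModuleCat.{u} A := ModuleCat.of A (Dual.HD A ω (-(d : ℤ)))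

include hω hn hd in
/-- the truncation triangle `K[d] → ω → τ_{> -d} ω →` -/
theorem trunc_package :
    ∃ (X Y : Dual.D A) (a : X ⟶ ω) (g : ω ⟶ Y) (h : Y ⟶ X⟦(1 : ℤ)⟧),
      Triangle.mk a g h ∈ distTriang (Dual.D A) ∧
      Nonempty (X ≅ Sg (-(d : ℤ)) (Kc ω d)) ∧
      (∀ i : ℤ, (i < -(d : ℤ) + 1 ∨ 0 < i) → IsZero ((H A i).obj Y)) ∧
      (∀ i : ℤ, -(d : ℤ) + 1 ≤ i → Nonempty ((H A i).obj ω ≅ (H A i).obj Y)) := by
  have hK : ∀ i : ℤ, (i < -(d : ℤ) ∨ 0 < i) → IsZero ((H A i).obj ω) := fun i hi =>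
    isZero_H_of_subsingleton ω i (subsingleton_HD_of_outside ω hω hn d hd i hi)
  obtain ⟨X, Y, hX, hY, a, g, h, hT⟩ :=
    TStructure.t.exists_triangle ω (-(d : ℤ)) (-(d : ℤ) + 1) rfl
  haveI : X.IsLE (-(d : ℤ)) := ⟨hX⟩
  haveI : Y.IsGE (-(d : ℤ) + 1) := ⟨hY⟩
  have hf : ∀ i : ℤ, i ≤ -(d : ℤ) → IsIso ((H A i).map a) := fun i hi =>
    isIso_H_mor₁_of_isZero hT (i - 1) i (by omega)
      (isZero_of_isGE Y (-(d : ℤ) + 1) _ (by omega))
      (isZero_of_isGE Y (-(d : ℤ) + 1) _ (by omega))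
  have hg : ∀ i : ℤ, -(d : ℤ) + 1 ≤ i → IsIso ((H A i).map g) := fun i hi =>
    isIso_H_mor₂_of_isZero hT i (isZero_of_isLE X (-(d : ℤ)) _ (by omega))
      (isZero_of_isLE X (-(d : ℤ)) _ (by omega))
  haveI : X.IsGE (-(d : ℤ)) := by
    rw [DerivedCategory.isGE_iff]
    intro i hi
    haveI := hf i (by omega)
    exact (hK i (Or.inl hi)).of_iso (asIso ((H A i).map a))
  refine ⟨X, Y, a, g, h, hT, ?_, ?_, ?_⟩
  · obtain ⟨M, ⟨e⟩⟩ := exists_iso_singleFunctor_obj_of_isGE_of_isLE X (-(d : ℤ))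
    haveI := hf (-(d : ℤ)) le_rfl
    have eM : (H A (-(d : ℤ))).obj ω ≅ M :=
      (asIso ((H A (-(d : ℤ))).map a)).symm ≪≫ (H A (-(d : ℤ))).mapIso e ≪≫ HSg (-(d : ℤ)) M
    exact ⟨e ≪≫ ((singleFunctor (ModuleCat.{u} A) (-(d : ℤ))).mapIso eM).symm⟩
  · intro i hi
    rcases hi with hi | hi
    · exact isZero_of_isGE Y (-(d : ℤ) + 1) i hi
    · haveI := hg i (by omega)
      exact (hK i (Or.inr hi)).of_iso (asIso ((H A i).map g)).symm
  · intro i hi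
    haveI := hg i hi
    exact ⟨asIso ((H A i).map g)⟩

include hω hn hd in
/-- `H^0_I(ω) = 0 ⇒ H^d_I(K) = 0`. -/
theorem HH_top_canonical_subsingleton (I : Ideal A) (h0 : Subsingleton (Dual2.HDI A I ω 0)) :
    Subsingleton (HH I (Kc ω d) d) := by
  classical
  obtain ⟨X, Y, a, g, h, hT, ⟨eX⟩, hYz, hYiso⟩ := trunc_package ω hω hn d hd
  have hnot : ∀ p ∈ minimalPrimes A, ringKrullDim (A ⧸ p) = d →
      ¬ (Finset.Ioc (-(d : ℤ)) 0).inf (fun j => Module.annihilator A (Dual.HD A ω j)) ≤ p := by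
    intro p hp hpd hle
    obtain ⟨j, hj, hjle⟩ := (Ideal.IsPrime.inf_le' hp.1.1).1 hle
    rw [Finset.mem_Ioc] at hj
    haveI : Module.Finite A (Dual.HD A ω j) := hω.finite_cohomology j
    have hmem : (⟨p, hp.1.1⟩ : PrimeSpectrum A) ∈ Module.support A (Dual.HD A ω j) :=
      Module.mem_support_iff_of_finite.2 hjle
    rw [Module.mem_support_iff] at hmem
    have := (nontrivial_localized_HD_iff_minimalPrime ω hω hn p hp d hpd j).1 hmem
    omega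
  obtain ⟨f, hfa, hf⟩ := exists_mem_notMem_top_minimalPrimes d _ hnot
  have hfj : ∀ j : ℤ, -(d : ℤ) < j → j ≤ 0 → ∀ x : Dual.HD A ω j, f • x = 0 := by
    intro j hj1 hj2 x
    have hle : (Finset.Ioc (-(d : ℤ)) 0).inf
        (fun j => Module.annihilator A (Dual.HD A ω j)) ≤
        Module.annihilator A (Dual.HD A ω j) :=
      Finset.inf_le (f := fun j => Module.annihilator A (Dual.HD A ω j))
        (Finset.mem_Ioc.2 ⟨hj1, hj2⟩)
    have h1 : f ∈ Module.annihilator A (Dual.HD A ω j) := hle hfa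
    exact Module.mem_annihilator.1 h1 x
  obtain ⟨N, hN⟩ := exists_pow_smul_id_eq_zero f Y (-(d : ℤ) + 1) 0 hYz (by
    intro i hi1 hi2
    obtain ⟨e⟩ := hYiso i hi1
    have h1 : f • 𝟙 ((H A i).obj ω) = 0 := by
      apply ModuleCat.hom_ext
      apply LinearMap.ext
      intro x
      rw [ModuleCat.hom_smul, LinearMap.smul_apply, ModuleCat.hom_id, LinearMap.id_apply,
        ModuleCat.hom_zero, LinearMap.zero_apply]
      exact hfj i (by omega) hi2 x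
    have hconj : f • 𝟙 ((H A i).obj Y) = e.inv ≫ (f • 𝟙 ((H A i).obj ω)) ≫ e.hom := by
      rw [Linear.smul_comp, Linear.comp_smul, Category.id_comp, e.inv_hom_id]
    rw [hconj, h1, Limits.zero_comp, Limits.comp_zero])
  have hf' : ∀ p ∈ minimalPrimes A, ringKrullDim (A ⧸ p) = d → f ^ N ∉ p :=
    fun p hp hpd hmem => hf p hp hpd (hp.1.1.mem_of_pow_mem N hmem)
  have surj := HH.smul_surjective_top I d hd (f ^ N) hf' (Dual.HD A ω (-(d : ℤ)))
  have e₁ : (sg (Kc ω d))⟦((d : ℕ) : ℤ)⟧ ≅ X :=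
    SgShiftIso ((d : ℕ) : ℤ) (-(d : ℤ)) 0 (by omega) (Kc ω d) ≪≫ eX.symm
  have key : ∀ (n : ℕ) (ψ₀ : sg (Q I n) ⟶ (sg (Kc ω d))⟦((d : ℕ) : ℤ)⟧),
      ∃ (m : ℕ) (hm : n ≤ m), f ^ N • (sgm (qmap I hm) ≫ ψ₀) = 0 := by
    intro n ψ₀
    obtain ⟨m, hm, h1⟩ := exists_restrict_eq_zero I ω 0 h0 n
      (ψ₀ ≫ e₁.hom ≫ a ≫ ((shiftFunctorZero (Dual.D A) ℤ).app ω).inv)
    refine ⟨m, hm, ?_⟩
    have h2 : (sgm (qmap I hm) ≫ ψ₀ ≫ e₁.hom) ≫ a = 0 := by
      have h3 : ((sgm (qmap I hm) ≫ ψ₀ ≫ e₁.hom) ≫ a) ≫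
          ((shiftFunctorZero (Dual.D A) ℤ).app ω).inv =
          0 ≫ ((shiftFunctorZero (Dual.D A) ℤ).app ω).inv := by
        rw [Limits.zero_comp, ← h1]
        simp only [Category.assoc]
      exact (cancel_mono _).1 h3
    have h4 : f ^ N • (sgm (qmap I hm) ≫ ψ₀ ≫ e₁.hom) = 0 :=
      smul_eq_zero_of_comp_mor₁ hT (f ^ N) hN _ h2
    have h6 : (f ^ N • (sgm (qmap I hm) ≫ ψ₀)) ≫ e₁.hom = 0 ≫ e₁.hom := by
      rw [Limits.zero_comp, Linear.smul_comp, Category.assoc]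
      exact h4
    exact (cancel_mono e₁.hom).1 h6
  have kill : ∀ x : HH I (Kc ω d) d, f ^ N • x = 0 := by
    intro x
    obtain ⟨n, ξ, rfl⟩ := HH.exists_of I (Kc ω d) d x
    rw [← (HH.of I (Kc ω d) d n).map_smul (f ^ N) ξ, HH.of_eq_zero_iff]
    obtain ⟨m, hm, h5⟩ := key n ξ.hom
    refine ⟨m, hm, ?_⟩
    apply Ext.ext
    rw [tr_apply, Ext.zero_hom, ← Ext.singleFunctor_map_comp_hom, Ext.smul_hom,
      Linear.comp_smul]
    exact h5
  have hz : ∀ x : HH I (Kc ω d) d, x = 0 := by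
    intro x
    obtain ⟨y, rfl⟩ := surj x
    exact kill y
  exact ⟨fun x y => (hz x).trans (hz y).symm⟩

include hω hn in
/-- **S1720**: `H^0_I(ω) = 0 ⇒ cd(A, I) < dim A`. -/
theorem cd_lt (I : Ideal A) (h0 : Subsingleton (Dual2.HDI A I ω 0))
    (M : Type u) [AddCommGroup M] [Module A M] (i : ℕ)
    (hi : ringKrullDim A ≤ (i : WithBot ℕ∞)) : Subsingleton (LocCoh.H I i M) := by
  obtain ⟨d, hd⟩ : ∃ d : ℕ, ringKrullDim A = d := by
    obtain ⟨d, hd0⟩ := exists_nat_supportDim (R := A) (M := A)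
    refine ⟨d, ?_⟩
    rw [← Module.supportDim_self_eq_ringKrullDim]
    exact_mod_cast hd0
  haveI : Module.Finite A (Dual.HD A ω (-(d : ℤ))) := hω.finite_cohomology _
  rw [subsingleton_H_iff]
  refine HH.subsingleton_of_top_vanishing I d hd (Dual.HD A ω (-(d : ℤ))) ?_
    (HH_top_canonical_subsingleton ω hω hn d hd I h0) (ModuleCat.of A M) i
    (by rw [hd] at hi; exact_mod_cast hi)
  intro p hp hpd hpp
  rw [Module.mem_support_iff]
  exact (nontrivial_localized_HD_iff_minimalPrime ω hω hn p hp d hpd (-(d : ℤ))).2 rfl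

end main

end Groth.Agent.Lib.Helper4.CdTop
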