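import Mathlib
import Groth.Prelude.Def_DRing3
import Groth.Agent.Lib.Helper4.FaltLocal

/-!
# Chevalley's lemma for complete Noetherian local rings, and saturation of powers (helper4)

* `mem_of_forall_mem_sup_pow`: ideals of a Noetherian local ring are closed.
* `exists_le_pow`: **Chevalley's lemma**: in a complete Noetherian local ring a descending sequence of
  ideals with zero intersection is eventually contained in any given power of the maximal ideal.
* `sat J`: the saturation `J : 𝔪^∞`; `torsionSub_quot_sat`: `A ⧸ sat J` has no `𝔪`-power torsion.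
* `exists_sat_pow_le`: in a complete Noetherian local domain, if `J ≤ q` for a prime `q ≠ 𝔪`, then for every
  `n` there is `n' ≥ n` with `sat (J ^ n') ≤ J ^ n`.
-/

set_option autoImplicit false
set_option linter.style.haveILetI false
set_option linter.unusedSectionVars false
set_option linter.unusedVariables false
set_option maxHeartbeats 800000

universe u

open IsLocalRing

namespace Groth.Agent.Lib.Helper4.Chevalley

section closed

variable {A : Type u} [CommRing A] [IsNoetherianRing A] [IsLocalRing A]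

/-- ideals of a Noetherian local ring are closed in the adic topology. -/
lemma mem_of_forall_mem_sup_pow (J : Ideal A) (x : A)
    (h : ∀ t : ℕ, x ∈ J ⊔ maximalIdeal A ^ t) : x ∈ J := by
  have hbot := Ideal.iInf_pow_smul_eq_bot_of_isLocalRing (R := A) (M := A ⧸ J) (maximalIdeal A)
    (Ideal.IsMaximal.ne_top (maximalIdeal.isMaximal A))
  have hx : (Submodule.Quotient.mk x : A ⧸ J) ∈
      (⨅ i : ℕ, maximalIdeal A ^ i • ⊤ : Submodule A (A ⧸ J)) := by
    rw [Submodule.mem_iInf]
    intro t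
    obtain ⟨a, ha, e, he, rfl⟩ := Submodule.mem_sup.1 (h t)
    have h1 : (Submodule.Quotient.mk (a + e) : A ⧸ J) =
        e • (Submodule.Quotient.mk (1 : A) : A ⧸ J) := by
      rw [Submodule.Quotient.mk_add, (Submodule.Quotient.mk_eq_zero J).2 ha, zero_add,
        ← Submodule.Quotient.mk_smul, smul_eq_mul, mul_one]
    rw [h1]
    exact Submodule.smul_mem_smul he Submodule.mem_top
  rw [hbot, Submodule.mem_bot, Submodule.Quotient.mk_eq_zero] at hx
  exact hx

/-- a descending sequence of ideals is stationary modulo a power of the maximal ideal. -/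
lemma exists_stable (J : ℕ → Ideal A) (hJ : Antitone J) (t : ℕ) :
    ∃ K : ℕ, ∀ k, K ≤ k → J k ⊔ maximalIdeal A ^ t = J K ⊔ maximalIdeal A ^ t := by
  haveI : IsArtinian A (A ⧸ maximalIdeal A ^ t) := by
    have hfl : IsFiniteLength A (A ⧸ maximalIdeal A ^ t) :=
      Groth.Agent.Lib.Helper4.Falt.isFiniteLength_of_finite_of_kills (A ⧸ maximalIdeal A ^ t)
        ⟨t, fun r hr y => by
          obtain ⟨y, rfl⟩ := Submodule.Quotient.mk_surjective _ y
          rw [← Submodule.Quotient.mk_smul, Submodule.Quotient.mk_eq_zero, smul_eq_mul]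
          exact Ideal.mul_mem_right _ _ hr⟩
    exact (isFiniteLength_iff_isNoetherian_isArtinian.1 hfl).2
  let f : ℕ →o (Submodule A (A ⧸ maximalIdeal A ^ t))ᵒᵈ :=
    ⟨fun k => OrderDual.toDual (Submodule.map (maximalIdeal A ^ t).mkQ (J k)),
      fun a b hab => OrderDual.toDual_le_toDual.2 (Submodule.map_mono (hJ hab))⟩
  obtain ⟨K, hK⟩ := IsArtinian.monotone_stabilizes f
  refine ⟨K, fun k hk => ?_⟩
  have h1 : Submodule.map (maximalIdeal A ^ t).mkQ (J K) =
      Submodule.map (maximalIdeal A ^ t).mkQ (J k) := congrArg OrderDual.ofDual (hK k hk)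
  have h2 := congrArg (Submodule.comap (maximalIdeal A ^ t).mkQ) h1
  rw [Submodule.comap_map_mkQ, Submodule.comap_map_mkQ] at h2
  rw [sup_comm (J k), sup_comm (J K)]
  exact h2.symm

variable [IsAdicComplete (maximalIdeal A) A]

/-- **Chevalley's lemma.** -/
theorem exists_le_pow (J : ℕ → Ideal A) (hJ : Antitone J) (h0 : ⨅ k, J k = ⊥) (t₀ : ℕ) :
    ∃ k, J k ≤ maximalIdeal A ^ t₀ := by
  classical
  by_contra hcon
  have hcon' : ∀ k, ¬ J k ≤ maximalIdeal A ^ t₀ := fun k hk => hcon ⟨k, hk⟩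
  let S : ℕ → Ideal A := fun t => ⨅ k, J k ⊔ maximalIdeal A ^ t
  have hSdef : ∀ t, S t = ⨅ k, J k ⊔ maximalIdeal A ^ t := fun t => rfl
  have hS : ∀ t, ∃ K, ∀ k, K ≤ k → S t = J k ⊔ maximalIdeal A ^ t := by
    intro t
    obtain ⟨K, hK⟩ := exists_stable J hJ t
    refine ⟨K, fun k hk => ?_⟩
    rw [hK k hk]
    apply le_antisymm (iInf_le _ K)
    refine le_iInf fun k' => ?_
    rcases le_total K k' with h | h
    · rw [hK k' h]
    · exact sup_le_sup_right (hJ h) _
  have hSanti : ∀ t t', t ≤ t' → S t' ≤ S t := fun t t' h =>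
    iInf_mono fun k => sup_le_sup_left (Ideal.pow_le_pow_right h) _
  have hmS : ∀ t, maximalIdeal A ^ t ≤ S t := fun t => le_iInf fun k => le_sup_right
  have step : ∀ t (x : S t), ∃ x' : S (t + 1), (x : A) - (x' : A) ∈ maximalIdeal A ^ t := by
    intro t x
    obtain ⟨K1, hK1⟩ := hS t
    obtain ⟨K2, hK2⟩ := hS (t + 1)
    have hx : (x : A) ∈ J (max K1 K2) ⊔ maximalIdeal A ^ t := by
      rw [← hK1 (max K1 K2) (le_max_left _ _)]
      exact x.2
    obtain ⟨a, ha, e, he, hae⟩ := Submodule.mem_sup.1 hx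
    refine ⟨⟨a, ?_⟩, ?_⟩
    · rw [hK2 (max K1 K2) (le_max_right _ _)]
      exact Submodule.mem_sup_left ha
    · have : (x : A) - a = e := by rw [← hae]; ring
      rw [this]
      exact he
  choose g hg using step
  obtain ⟨K0, hK0⟩ := hS t₀
  obtain ⟨x0, hx0J, hx0⟩ := SetLike.not_le_iff_exists.1 (hcon' K0)
  have hx0S : x0 ∈ S t₀ := by
    rw [hK0 K0 le_rfl]
    exact Submodule.mem_sup_left hx0J
  let x : ℕ → A := fun j => Nat.rec x0
    (fun j xj => if h : xj ∈ S (t₀ + j) then ((g (t₀ + j) ⟨xj, h⟩ : S (t₀ + j + 1)) : A) else 0) j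
  have hx_succ : ∀ j, x (j + 1) =
      if h : x j ∈ S (t₀ + j) then ((g (t₀ + j) ⟨x j, h⟩ : S (t₀ + j + 1)) : A) else 0 :=
    fun j => rfl
  have hxmem : ∀ j, x j ∈ S (t₀ + j) := by
    intro j
    induction j with
    | zero => exact hx0S
    | succ j ih =>
      rw [hx_succ, dif_pos ih]
      exact (g (t₀ + j) ⟨x j, ih⟩).2
  have hxstep : ∀ j, x j - x (j + 1) ∈ maximalIdeal A ^ (t₀ + j) := by
    intro j
    rw [hx_succ, dif_pos (hxmem j)]
    exact hg (t₀ + j) ⟨x j, hxmem j⟩
  let f : ℕ → A := fun n => x (n - t₀)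
  have hfdef : ∀ n, f n = x (n - t₀) := fun n => rfl
  have hfstep : ∀ n, f n - f (n + 1) ∈ maximalIdeal A ^ n := by
    intro n
    rcases Nat.lt_or_ge n t₀ with h | h
    · have h1 : n - t₀ = 0 := by omega
      have h2 : n + 1 - t₀ = 0 := by omega
      rw [hfdef, hfdef, h1, h2, sub_self]
      exact zero_mem _
    · obtain ⟨j, rfl⟩ := Nat.exists_eq_add_of_le h
      have h1 : t₀ + j - t₀ = j := by omega
      have h2 : t₀ + j + 1 - t₀ = j + 1 := by omega
      rw [hfdef, hfdef, h1, h2]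
      exact hxstep j
  have hcauchy : ∀ a b, a ≤ b → f a - f b ∈ maximalIdeal A ^ a := by
    intro a b hab
    induction b, hab using Nat.le_induction with
    | base => rw [sub_self]; exact zero_mem _
    | succ b hb ih =>
      have h1 : f a - f (b + 1) = (f a - f b) + (f b - f (b + 1)) := by ring
      rw [h1]
      exact add_mem ih (Ideal.pow_le_pow_right hb (hfstep b))
  have etop : ∀ n : ℕ, (maximalIdeal A ^ n • ⊤ : Submodule A A) = maximalIdeal A ^ n :=
    fun n => Ideal.mul_top _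
  obtain ⟨L, hL⟩ := IsPrecomplete.prec (I := maximalIdeal A) (M := A) inferInstance (f := f) (by
    intro a b hab
    rw [SModEq.sub_mem, etop]
    exact hcauchy a b hab)
  have hL' : ∀ n, f n - L ∈ maximalIdeal A ^ n := by
    intro n
    have h1 := hL n
    rw [SModEq.sub_mem, etop] at h1
    exact h1
  have hfmem : ∀ n, t₀ ≤ n → f n ∈ S n := by
    intro n hn
    obtain ⟨j, rfl⟩ := Nat.exists_eq_add_of_le hn
    have h1 : t₀ + j - t₀ = j := by omega
    rw [hfdef, h1]
    exact hxmem j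
  have hLS : ∀ t, L ∈ S t := by
    intro t
    have h1 : f (max t t₀) ∈ S t := hSanti t _ (le_max_left _ _) (hfmem _ (le_max_right _ _))
    have h2 : f (max t t₀) - L ∈ S t :=
      hmS t (Ideal.pow_le_pow_right (le_max_left _ _) (hL' _))
    have h3 : L = f (max t t₀) - (f (max t t₀) - L) := by ring
    rw [h3]
    exact sub_mem h1 h2
  have hLJ : ∀ k, L ∈ J k := fun k => mem_of_forall_mem_sup_pow (J k) L (fun t => by
    have h1 := hLS t
    rw [hSdef, Submodule.mem_iInf] at h1
    exact h1 k)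
  have hL0 : L = 0 := by
    have h1 : L ∈ (⨅ k, J k : Ideal A) := (Submodule.mem_iInf _).2 hLJ
    rw [h0] at h1
    exact h1
  apply hx0
  have h3 := hL' t₀
  have h4 : f t₀ = x0 := by
    rw [hfdef, Nat.sub_self]
    rfl
  rw [h4, hL0, sub_zero] at h3
  exact h3

end closed

section sat

variable {A : Type u} [CommRing A] [IsLocalRing A]

/-- the saturation of `J` with respect to the maximal ideal. -/
def sat (J : Ideal A) : Ideal A where
  carrier := {x | ∃ c : ℕ, ∀ a ∈ maximalIdeal A ^ c, a * x ∈ J}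
  add_mem' := by
    rintro x y ⟨c, hc⟩ ⟨c', hc'⟩
    refine ⟨max c c', fun a ha => ?_⟩
    rw [mul_add]
    exact add_mem (hc a (Ideal.pow_le_pow_right (le_max_left _ _) ha))
      (hc' a (Ideal.pow_le_pow_right (le_max_right _ _) ha))
  zero_mem' := ⟨0, fun a _ => by rw [mul_zero]; exact zero_mem _⟩
  smul_mem' := by
    rintro r x ⟨c, hc⟩
    refine ⟨c, fun a ha => ?_⟩
    rw [smul_eq_mul, mul_left_comm]
    exact Ideal.mul_mem_left _ _ (hc a ha)

lemma mem_sat_iff (J : Ideal A) (x : A) :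
    x ∈ sat J ↔ ∃ c : ℕ, ∀ a ∈ maximalIdeal A ^ c, a * x ∈ J := Iff.rfl

lemma le_sat (J : Ideal A) : J ≤ sat J :=
  fun x hx => ⟨0, fun a _ => Ideal.mul_mem_left _ _ hx⟩

lemma sat_mono {J J' : Ideal A} (h : J ≤ J') : sat J ≤ sat J' :=
  fun x ⟨c, hc⟩ => ⟨c, fun a ha => h (hc a ha)⟩

variable [IsNoetherianRing A]

lemma exists_pow_mul_sat_le (J : Ideal A) :
    ∃ C : ℕ, ∀ a ∈ maximalIdeal A ^ C, ∀ x ∈ sat J, a * x ∈ J := by
  classical
  obtain ⟨s, hs⟩ := (isNoetherianRing_iff_ideal_fg A).1 inferInstance (sat J)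
  have h1 : ∀ g : A, ∃ c : ℕ, g ∈ sat J → ∀ a ∈ maximalIdeal A ^ c, a * g ∈ J := by
    intro g
    by_cases hg : g ∈ sat J
    · obtain ⟨c, hc⟩ := hg
      exact ⟨c, fun _ => hc⟩
    · exact ⟨0, fun h => absurd h hg⟩
  choose c hc using h1
  refine ⟨s.sup c, fun a ha x hx => ?_⟩
  rw [← hs] at hx
  refine Submodule.span_induction (p := fun x _ => a * x ∈ J) ?_ ?_ ?_ ?_ hx
  · intro g hg
    have hgs : g ∈ sat J := by rw [← hs]; exact Submodule.subset_span hg
    exact hc g hgs a (Ideal.pow_le_pow_right (Finset.le_sup (f := c) (Finset.mem_coe.1 hg)) ha)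
  · rw [mul_zero]; exact zero_mem _
  · intro x y _ _ hx hy
    rw [mul_add]; exact add_mem hx hy
  · intro r x _ hx
    rw [smul_eq_mul, mul_left_comm]; exact Ideal.mul_mem_left _ _ hx

/-- `A ⧸ sat J` has no `𝔪`-power torsion. -/
lemma torsionSub_quot_sat (J : Ideal A) :
    DRing.torsionSub (maximalIdeal A) (A ⧸ sat J) = ⊥ := by
  obtain ⟨C, hC⟩ := exists_pow_mul_sat_le J
  rw [eq_bot_iff]
  rintro y ⟨n, hn⟩
  obtain ⟨x, rfl⟩ := Submodule.Quotient.mk_surjective _ y
  rw [Submodule.mem_bot, Submodule.Quotient.mk_eq_zero]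
  refine ⟨C + n, fun d hd => ?_⟩
  rw [pow_add] at hd
  refine Submodule.smul_induction_on (p := fun d => d * x ∈ J) hd ?_ ?_
  · intro b hb a ha
    have hax : a * x ∈ sat J := by
      have h1 := hn a ha
      rw [← Submodule.Quotient.mk_smul, Submodule.Quotient.mk_eq_zero, smul_eq_mul] at h1
      exact h1
    rw [smul_eq_mul, mul_assoc]
    exact hC b hb _ hax
  · intro d d' hd hd'
    rw [add_mul]; exact add_mem hd hd'

variable [IsDomain A]

/-- in a domain, the saturations of the powers of an ideal contained in a non-maximal prime have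
zero intersection. -/
lemma iInf_sat_pow_eq_bot (J q : Ideal A) [q.IsPrime] (hJq : J ≤ q) (hq : q ≠ maximalIdeal A) :
    ⨅ k : ℕ, sat (J ^ k) = ⊥ := by
  rw [eq_bot_iff]
  intro x hx
  rw [Submodule.mem_iInf] at hx
  have hqm : q < maximalIdeal A :=
    lt_of_le_of_ne (le_maximalIdeal (Ideal.IsPrime.ne_top inferInstance)) hq
  obtain ⟨s, hsm, hsq⟩ := SetLike.exists_of_lt hqm
  haveI : IsNoetherianRing (Localization.AtPrime q) :=
    IsLocalization.isNoetherianRing q.primeCompl (Localization.AtPrime q) inferInstance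
  have hmem : ∀ k : ℕ, algebraMap A (Localization.AtPrime q) x ∈
      maximalIdeal (Localization.AtPrime q) ^ k := by
    intro k
    obtain ⟨c, hc⟩ := hx k
    have h1 : s ^ c * x ∈ q ^ k :=
      Ideal.pow_right_mono hJq k (hc (s ^ c) (Ideal.pow_mem_pow hsm c))
    have h2 : algebraMap A (Localization.AtPrime q) (s ^ c * x) ∈
        (q ^ k).map (algebraMap A (Localization.AtPrime q)) := Ideal.mem_map_of_mem _ h1
    rw [Ideal.map_pow, IsLocalization.AtPrime.map_eq_maximalIdeal q (Localization.AtPrime q),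
      map_mul] at h2
    have hu : IsUnit (algebraMap A (Localization.AtPrime q) (s ^ c)) :=
      IsLocalization.map_units (Localization.AtPrime q)
        (⟨s ^ c, Submonoid.pow_mem q.primeCompl (show s ∈ q.primeCompl from hsq) c⟩ : q.primeCompl)
    exact (Ideal.unit_mul_mem_iff_mem _ hu).1 h2
  have h0 : algebraMap A (Localization.AtPrime q) x ∈
      (⨅ k : ℕ, maximalIdeal (Localization.AtPrime q) ^ k : Ideal (Localization.AtPrime q)) :=
    (Submodule.mem_iInf _).2 hmem
  rw [Ideal.iInf_pow_eq_bot_of_isLocalRing _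
    (Ideal.IsMaximal.ne_top (maximalIdeal.isMaximal (Localization.AtPrime q))),
    Submodule.mem_bot] at h0
  have hinj := IsLocalization.injective (Localization.AtPrime q) (M := q.primeCompl)
    (Ideal.primeCompl_le_nonZeroDivisors q)
  rw [Submodule.mem_bot]
  exact hinj (h0.trans (map_zero _).symm)

variable [IsAdicComplete (maximalIdeal A) A]

/-- in a complete Noetherian local domain, the saturated powers of an ideal contained in a
non-maximal prime are cofinal with its powers. -/
theorem exists_sat_pow_le (J q : Ideal A) [q.IsPrime] (hJq : J ≤ q) (hq : q ≠ maximalIdeal A)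
    (n : ℕ) : ∃ n' : ℕ, n ≤ n' ∧ sat (J ^ n') ≤ J ^ n := by
  obtain ⟨C, hC⟩ := exists_pow_mul_sat_le (J ^ n)
  obtain ⟨r, hr⟩ := Ideal.exists_pow_inf_eq_pow_smul (maximalIdeal A)
    (sat (J ^ n) : Submodule A A)
  have hanti : Antitone (fun k : ℕ => sat (J ^ k)) :=
    fun a b hab => sat_mono (Ideal.pow_le_pow_right hab)
  obtain ⟨k, hk⟩ := exists_le_pow (fun k => sat (J ^ k)) hanti
    (iInf_sat_pow_eq_bot J q hJq hq) (r + C)
  refine ⟨max n k, le_max_left _ _, fun x hx => ?_⟩
  have hx1 : x ∈ sat (J ^ n) := hanti (le_max_left n k) hx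
  have hx2 : x ∈ maximalIdeal A ^ (r + C) := hk (hanti (le_max_right n k) hx)
  have hx3 : x ∈ (maximalIdeal A ^ (r + C) • ⊤ ⊓ (sat (J ^ n) : Submodule A A) :
      Submodule A A) := by
    refine ⟨?_, hx1⟩
    rw [show (maximalIdeal A ^ (r + C) • ⊤ : Submodule A A) = maximalIdeal A ^ (r + C) from
      Ideal.mul_top _]
    exact hx2
  rw [hr (r + C) (Nat.le_add_right r C), Nat.add_sub_cancel_left] at hx3
  refine Submodule.smul_induction_on hx3 ?_ ?_
  · intro a ha y hy
    rw [smul_eq_mul]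
    exact hC a ha y hy.2
  · intro y z hy hz
    exact add_mem hy hz

end sat

end Groth.Agent.Lib.Helper4.Chevalley
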