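import Groth.Agent.Lib.Helper4.LC12
import Groth.Agent.Lib.Helper20.LCIndep2

/-!
# Cohomological dimension and ideals in the Jacobson radical (helper4)

* `subsingleton_H_of_le_of_le_jacobson`: if `I ≤ I' ≤ Jac(A)`, `dim A = d` and `cd(I') < d` then
  `cd(I) < d`.
* `exists_prime_ringKrullDim_quotient_eq_one`: in a Noetherian local ring, an ideal `I` with
  `dim R/I > 0` is contained in a prime `p` with `dim R/p = 1`.
-/

set_option autoImplicit false
set_option linter.style.haveILetI false
set_option linter.unusedSectionVars false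
set_option maxHeartbeats 400000

open CategoryTheory Limits Opposite Abelian

universe u

namespace Groth.Agent.Lib.Helper4.LC

section jac

variable {A : Type u} [CommRing A] [IsNoetherianRing A]

/-- localizing at an element of the Jacobson radical drops the dimension. -/
lemma ringKrullDim_away_lt (b : A) (hb : b ∈ (⊥ : Ideal A).jacobson) (d : ℕ)
    (hd : ringKrullDim A = d) :
    ringKrullDim (Localization (Submonoid.powers b)) < (d : WithBot ℕ∞) := by
  rw [ringKrullDim, Order.krullDim_lt_coe_iff]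
  intro l
  let f : PrimeSpectrum (Localization (Submonoid.powers b)) → PrimeSpectrum A :=
    PrimeSpectrum.comap (algebraMap A (Localization (Submonoid.powers b)))
  have hfmono : Monotone f := fun p q hpq => Ideal.comap_mono hpq
  have hf : StrictMono f := hfmono.strictMono_of_injective
    (PrimeSpectrum.localization_comap_injective (Localization (Submonoid.powers b))
      (Submonoid.powers b))
  have hbl : ∀ q : PrimeSpectrum (Localization (Submonoid.powers b)), b ∉ (f q).asIdeal := by
    intro q hbq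
    have hu : IsUnit (algebraMap A (Localization (Submonoid.powers b)) b) :=
      IsLocalization.map_units (Localization (Submonoid.powers b))
        (⟨b, Submonoid.mem_powers b⟩ : Submonoid.powers b)
    exact q.isPrime.ne_top (Ideal.eq_top_of_isUnit_mem _ hbq hu)
  obtain ⟨m, hm, hle⟩ := Ideal.exists_le_maximal (f l.last).asIdeal (f l.last).isPrime.ne_top
  have hb' : b ∈ sInf {J : Ideal A | ⊥ ≤ J ∧ J.IsMaximal} := hb
  have hbm : b ∈ m := (Ideal.mem_sInf.1 hb') ⟨bot_le, hm⟩
  have hlt : (l.map f hf).last < (⟨m, hm.isPrime⟩ : PrimeSpectrum A) := by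
    refine lt_of_le_of_ne hle (fun h => ?_)
    apply hbl l.last
    have h1 : (f l.last).asIdeal = m := congrArg PrimeSpectrum.asIdeal h
    rw [h1]
    exact hbm
  have h1 : (((l.map f hf).snoc ⟨m, hm.isPrime⟩ hlt).length : WithBot ℕ∞) ≤ (d : WithBot ℕ∞) := by
    rw [← hd]
    exact Order.LTSeries.length_le_krullDim _
  have h2 : ((l.map f hf).snoc ⟨m, hm.isPrime⟩ hlt).length = l.length + 1 := rfl
  rw [h2] at h1
  have h3 : l.length + 1 ≤ d := by exact_mod_cast h1
  omega

/-- `H^d_a(M_b) = 0` for `b` in the Jacobson radical of a `d`-dimensional ring. -/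
theorem HH.subsingleton_loc_of_mem_jacobson (a : Ideal A) (b : A)
    (hb : b ∈ (⊥ : Ideal A).jacobson) (d : ℕ) (hd : ringKrullDim A = d)
    (M : Type u) [AddCommGroup M] [Module A M] :
    Subsingleton (HH a (locObj b (ModuleCat.of A M)) d) := by
  haveI : IsNoetherianRing (Localization (Submonoid.powers b)) :=
    IsLocalization.isNoetherianRing (Submonoid.powers b) _ inferInstance
  obtain ⟨φ, -⟩ := Groth.Agent.Lib.Helper20.LCIndep2.exists_addEquiv
    (Localization (Submonoid.powers b)) a (LocalizedModule (Submonoid.powers b) M) d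
  haveI : Subsingleton (HH (a.map (algebraMap A (Localization (Submonoid.powers b))))
      (ModuleCat.of (Localization (Submonoid.powers b))
        (LocalizedModule (Submonoid.powers b) M)) d) :=
    HH.subsingleton_of_ringKrullDim_lt _ _ d (ringKrullDim_away_lt b hb d hd)
  exact φ.symm.toEquiv.subsingleton

/-- if `H^d_{a+bR}` vanishes on all modules, with `b` in the Jacobson radical and `d = dim A`,
then so does `H^d_a`. -/
theorem HH.subsingleton_of_sup_span_of_mem_jacobson (a : Ideal A) (b : A)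
    (hb : b ∈ (⊥ : Ideal A).jacobson) (d : ℕ) (hd : ringKrullDim A = d)
    (h : ∀ (M : Type u) [AddCommGroup M] [Module A M],
      Subsingleton (HH (a ⊔ Ideal.span {b}) (ModuleCat.of A M) d))
    (M : Type u) [AddCommGroup M] [Module A M] : Subsingleton (HH a (ModuleCat.of A M) d) := by
  apply HH.subsingleton_of_forall_eq_zero
  intro x
  have hloc := HH.subsingleton_loc_of_mem_jacobson a b hb d hd M
  have hx : HH.map a (locHom b (ModuleCat.of A M)) d x = 0 := hloc.elim _ _
  obtain ⟨z, hz⟩ := (HH.exact_ofLE_map_locHom a b (ModuleCat.of A M) d x).1 hx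
  rw [← hz, (h M).elim z 0, map_zero]

theorem HH.subsingleton_of_sup_span_finset (d : ℕ) (hd : ringKrullDim A = d) (s : Finset A)
    (hs : ∀ x ∈ s, x ∈ (⊥ : Ideal A).jacobson) : ∀ (a : Ideal A),
    (∀ (M : Type u) [AddCommGroup M] [Module A M],
      Subsingleton (HH (a ⊔ Ideal.span (s : Set A)) (ModuleCat.of A M) d)) →
    ∀ (M : Type u) [AddCommGroup M] [Module A M], Subsingleton (HH a (ModuleCat.of A M) d) := by
  classical
  induction s using Finset.induction_on with
  | empty =>
    intro a h M _ _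
    have h1 := h M
    rwa [Finset.coe_empty, Ideal.span_empty, sup_bot_eq] at h1
  | insert x s hx ih =>
    intro a h
    have hx' : x ∈ (⊥ : Ideal A).jacobson := hs x (Finset.mem_insert_self x s)
    apply HH.subsingleton_of_sup_span_of_mem_jacobson a x hx' d hd
    apply ih (fun y hy => hs y (Finset.mem_insert_of_mem hy)) (a ⊔ Ideal.span {x})
    intro M _ _
    have h1 := h M
    rwa [Finset.coe_insert, Ideal.span_insert, ← sup_assoc] at h1

/-- if `I ≤ I' ≤ Jac(A)`, `dim A = d` and `cd(I') < d` then `cd(I) < d`. -/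
theorem subsingleton_H_of_le_of_le_jacobson (d : ℕ) (hd : ringKrullDim A = d) (I I' : Ideal A)
    (hII' : I ≤ I') (hJ : I' ≤ (⊥ : Ideal A).jacobson)
    (h : ∀ (M : Type u) [AddCommGroup M] [Module A M] (i : ℕ), d ≤ i →
      Subsingleton (LocCoh.H I' i M))
    (M : Type u) [AddCommGroup M] [Module A M] (i : ℕ) (hi : d ≤ i) :
    Subsingleton (LocCoh.H I i M) := by
  rw [subsingleton_H_iff]
  rcases Nat.eq_or_lt_of_le hi with heq | hlt
  · subst heq
    obtain ⟨s, hs⟩ := (IsNoetherian.noetherian I' : I'.FG)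
    refine HH.subsingleton_of_sup_span_finset d hd s (fun x hx => hJ ?_) I ?_ M
    · rw [← hs]
      exact Ideal.subset_span hx
    · intro N _ _
      have hs' : Ideal.span (s : Set A) = I' := hs
      have h1 : I ⊔ Ideal.span (s : Set A) = I' := by
        rw [hs']
        exact sup_eq_right.2 hII'
      rw [h1]
      exact (subsingleton_H_iff I' N d).1 (h N d le_rfl)
  · exact HH.subsingleton_of_ringKrullDim_lt I _ i (by rw [hd]; exact_mod_cast hlt)

end jac

section dimOne

variable {R : Type u} [CommRing R] [IsNoetherianRing R] [IsLocalRing R]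

/-- in a Noetherian local ring, an ideal `I` with `dim R/I > 0` is contained in a prime `p` with
`dim R/p = 1`. -/
theorem exists_prime_ringKrullDim_quotient_eq_one (I : Ideal R)
    (hI : 0 < ringKrullDim (R ⧸ I)) :
    ∃ p : Ideal R, p.IsPrime ∧ I ≤ p ∧ ringKrullDim (R ⧸ p) = 1 := by
  obtain ⟨x, y, hxy⟩ := Order.krullDim_pos_iff.1 hI
  have hsurj : Function.Surjective (Ideal.Quotient.mk I) := Ideal.Quotient.mk_surjective
  have hq₀prime : (x.asIdeal.comap (Ideal.Quotient.mk I)).IsPrime :=
    Ideal.comap_isPrime (Ideal.Quotient.mk I) x.asIdeal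
  have hIq₀ : I ≤ x.asIdeal.comap (Ideal.Quotient.mk I) := by
    intro r hr
    show Ideal.Quotient.mk I r ∈ x.asIdeal
    rw [(Ideal.Quotient.eq_zero_iff_mem).2 hr]
    exact zero_mem _
  have hq₀ne : x.asIdeal.comap (Ideal.Quotient.mk I) ≠ IsLocalRing.maximalIdeal R := by
    intro h0
    have h1 : x.asIdeal.comap (Ideal.Quotient.mk I) ≤ y.asIdeal.comap (Ideal.Quotient.mk I) :=
      Ideal.comap_mono hxy.le
    have h2 : y.asIdeal.comap (Ideal.Quotient.mk I) ≤ IsLocalRing.maximalIdeal R :=
      IsLocalRing.le_maximalIdeal (Ideal.comap_ne_top (Ideal.Quotient.mk I) y.isPrime.ne_top)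
    have h3 : x.asIdeal.comap (Ideal.Quotient.mk I) = y.asIdeal.comap (Ideal.Quotient.mk I) :=
      le_antisymm h1 (h2.trans h0.ge)
    have h4 : x.asIdeal = y.asIdeal :=
      Ideal.comap_injective_of_surjective (Ideal.Quotient.mk I) hsurj h3
    exact hxy.ne (PrimeSpectrum.ext h4)
  obtain ⟨p, ⟨hpprime, hIp, hpne⟩, hpmax⟩ :=
    (set_has_maximal_iff_noetherian.2 (inferInstance : IsNoetherian R R))
      {q : Ideal R | q.IsPrime ∧ I ≤ q ∧ q ≠ IsLocalRing.maximalIdeal R}
      ⟨x.asIdeal.comap (Ideal.Quotient.mk I), hq₀prime, hIq₀, hq₀ne⟩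
  haveI := hpprime
  refine ⟨p, hpprime, hIp, ?_⟩
  have hmax : ∀ Q : Ideal (R ⧸ p), Q ≠ ⊥ → Q.IsPrime → Q.IsMaximal := by
    intro Q hQ0 hQ
    have hsurjp : Function.Surjective (Ideal.Quotient.mk p) := Ideal.Quotient.mk_surjective
    have hqprime : (Q.comap (Ideal.Quotient.mk p)).IsPrime :=
      Ideal.comap_isPrime (Ideal.Quotient.mk p) Q
    have hpq : p ≤ Q.comap (Ideal.Quotient.mk p) := by
      intro r hr
      show Ideal.Quotient.mk p r ∈ Q
      rw [(Ideal.Quotient.eq_zero_iff_mem).2 hr]
      exact zero_mem _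
    have hmap : (Q.comap (Ideal.Quotient.mk p)).map (Ideal.Quotient.mk p) = Q :=
      Ideal.map_comap_of_surjective (Ideal.Quotient.mk p) hsurjp Q
    have hne : p ≠ Q.comap (Ideal.Quotient.mk p) := by
      intro h0
      apply hQ0
      rw [← hmap, ← h0]
      exact Ideal.map_quotient_self p
    have hlt : p < Q.comap (Ideal.Quotient.mk p) := lt_of_le_of_ne hpq hne
    have hqm : Q.comap (Ideal.Quotient.mk p) = IsLocalRing.maximalIdeal R := by
      by_contra hcon
      exact hpmax (Q.comap (Ideal.Quotient.mk p)) ⟨hqprime, hIp.trans hpq, hcon⟩ hlt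
    have hqmax : (Q.comap (Ideal.Quotient.mk p)).IsMaximal := by
      rw [hqm]
      exact IsLocalRing.maximalIdeal.isMaximal R
    rcases Ideal.map_eq_top_or_isMaximal_of_surjective (Ideal.Quotient.mk p) hsurjp hqmax
      with h1 | h1
    · rw [hmap] at h1
      exact absurd h1 hQ.ne_top
    · rw [hmap] at h1
      exact h1
  refine eq_of_le_of_not_lt ((Ring.krullDimLE_iff (n := 1)).mp ?_) fun h => ?_
  · exact Ring.krullDimLE_one_iff_of_noZeroDivisors.mpr hmax
  · haveI : Ring.KrullDimLE 0 (R ⧸ p) :=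
      Ring.krullDimLE_iff.mpr (ENat.WithBot.lt_add_one_iff.mp h)
    exact hpne (IsLocalRing.eq_maximalIdeal
      (Ideal.Quotient.maximal_of_isField p Ring.KrullDimLE.isField_of_isDomain))

/-- `H^d_I(R) = 0` whenever `dim R/I > 0`, provided this holds for primes `p` with
`dim R/p = 1`. -/
theorem subsingleton_H_top_of_forall_prime (d : ℕ) (hd : ringKrullDim R = d)
    (h : ∀ (p : Ideal R) [p.IsPrime], ringKrullDim (R ⧸ p) = 1 → Subsingleton (LocCoh.H p d R))
    (I : Ideal R) (hI : 0 < ringKrullDim (R ⧸ I)) : Subsingleton (LocCoh.H I d R) := by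
  obtain ⟨p, hp, hIp, hdim⟩ := exists_prime_ringKrullDim_quotient_eq_one I hI
  haveI := hp
  have hpd : Subsingleton (LocCoh.H p d R) := h p hdim
  have hd1 : 0 < d := by
    have h1 : ringKrullDim (R ⧸ I) ≤ ringKrullDim R := ringKrullDim_quotient_le I
    rw [hd] at h1
    have h2 : ((0 : ℕ) : WithBot ℕ∞) < (d : WithBot ℕ∞) :=
      lt_of_lt_of_le (by exact_mod_cast hI) h1
    exact_mod_cast h2
  have hJ : p ≤ (⊥ : Ideal R).jacobson := by
    rw [IsLocalRing.jacobson_eq_maximalIdeal ⊥ bot_ne_top]
    exact IsLocalRing.le_maximalIdeal hp.ne_top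
  refine subsingleton_H_of_le_of_le_jacobson d hd I p hIp hJ ?_ R d le_rfl
  intro M _ _ i hi
  rw [subsingleton_H_iff]
  obtain ⟨e, rfl⟩ : ∃ e, d = e + 1 := ⟨d - 1, by omega⟩
  refine HH.subsingleton_of_ring p e (fun j hj => ?_) (ModuleCat.of R M) i (by omega)
  rcases Nat.eq_or_lt_of_le (Nat.succ_le_of_lt hj) with heq | hlt
  · subst heq
    exact (subsingleton_H_iff p R (e + 1)).1 hpd
  · exact HH.subsingleton_of_ringKrullDim_lt p _ j (by rw [hd]; exact_mod_cast hlt)

end dimOne

end Groth.Agent.Lib.Helper4.LC
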