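import Mathlib
import Groth.Agent.Lib.Helper4.Chevalley
import Groth.Agent.Lib.Helper4.CdTop
import Groth.Agent.Lib.Helper4.DT5
import Groth.Agent.Lib.Helper4.LC13
import Groth.Agent.Lib.Helper4.LC3
import Groth.Agent.Lib.Helper20.LCIndep2
import Groth.Agent.Lib.Helper7.FlatFS2
import Groth.Agent.Lib.Helper18.UniqC
import Groth.Agent.Lib.Helper18.InvTwistA
import Groth.Agent.S0376

/-!
# The Hartshorne–Lichtenbaum vanishing theorem for complete local rings (helper4)

* `subsingleton_HDI_zero`: for a complete Noetherian local domain `B` with normalized dualizing complex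
  `ω` and an ideal `J` contained in a non-maximal prime, `H^0_J(ω) = 0`.
* `subsingleton_H_top_of_domain`: HLVT for complete local domains.
* `HH.subsingleton_of_forall_minimalPrime`: `cd I < d` as soon as `H^d_I(R/p) = 0` for the minimal
  primes `p` with `dim R/p = d`.
* `hlvt_complete`: HLVT for complete Noetherian local rings.
-/

set_option autoImplicit false
set_option linter.style.haveILetI false
set_option linter.unusedSectionVars false
set_option linter.unusedVariables false
set_option maxHeartbeats 800000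

universe u

open CategoryTheory CategoryTheory.Limits CategoryTheory.Pretriangulated DerivedCategory Abelian
  IsLocalRing

attribute [local instance] HasDerivedCategory.standard

namespace Groth.Agent.Lib.Helper4.HLVT

open Groth.Agent.Lib.Helper18.DR Groth.Agent.Lib.Helper4 Groth.Agent.Lib.Helper4.DT
  Groth.Agent.Lib.Helper4.LC Groth.Agent.Lib.Helper4.Chevalley

section hdi

variable {B : Type u} [CommRing B] [IsLocalRing B] [IsNoetherianRing B]
  (ω : Dual.D B) (hω : Dual.IsDualizing B ω) (hn : Dual.IsNormalized B ω)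

include hω hn in
/-- a finite module without `𝔪`-torsion has no maps to a normalized dualizing complex in degree `0`. -/
lemma hom_eq_zero_of_torsionSub_eq_bot (N : Type u) [AddCommGroup N] [Module B N]
    [Module.Finite B N] (hN : DRing.torsionSub (maximalIdeal B) N = ⊥)
    (ψ : sg (ModuleCat.of B N) ⟶ ω⟦(0 : ℤ)⟧) : ψ = 0 := by
  have h0 : Subsingleton (HH (maximalIdeal B) (ModuleCat.of B N) 0) :=
    (HH0_subsingleton_iff (maximalIdeal B) (ModuleCat.of B N)).2 hN
  have h1 := (subsingleton_HH_iff hω hn N 0).1 h0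
  have e : (-((0 : ℕ) : ℤ)) = 0 := by simp
  rw [e] at h1
  exact Subsingleton.elim _ _

variable [IsDomain B] [IsAdicComplete (maximalIdeal B) B]

include hω hn in
/-- `H^0_J(ω) = 0` for an ideal contained in a non-maximal prime of a complete local domain. -/
theorem subsingleton_HDI_zero (J q : Ideal B) [q.IsPrime] (hJq : J ≤ q)
    (hq : q ≠ maximalIdeal B) : Subsingleton (Dual2.HDI B J ω 0) := by
  have key : ∀ z : Dual2.HDI B J ω 0, z = 0 := by
    intro z
    obtain ⟨n, ψ, rfl⟩ := hdiι_jointly_surjective J ω 0 z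
    obtain ⟨n', hnn', hsat⟩ := exists_sat_pow_le J q hJq hq n
    rw [← hdiι_comp J ω 0 hnn' ψ]
    let p1 : Q J n' ⟶ ModuleCat.of B (B ⧸ sat (J ^ n')) :=
      ModuleCat.ofHom (Submodule.mapQ (J ^ n') (sat (J ^ n')) LinearMap.id (le_sat _))
    let p2 : ModuleCat.of B (B ⧸ sat (J ^ n')) ⟶ Q J n :=
      ModuleCat.ofHom (Submodule.mapQ (sat (J ^ n')) (J ^ n) LinearMap.id hsat)
    have hfac : qmap J hnn' = p1 ≫ p2 := by
      apply ModuleCat.hom_ext
      apply LinearMap.ext
      intro v
      obtain ⟨v, rfl⟩ := Submodule.Quotient.mk_surjective _ v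
      rfl
    have h2 : sgm p2 ≫ ψ = 0 :=
      hom_eq_zero_of_torsionSub_eq_bot ω hω hn (B ⧸ sat (J ^ n')) (torsionSub_quot_sat _) _
    rw [hfac, sgm_comp, Category.assoc, h2, Limits.comp_zero, map_zero]
  exact ⟨fun x y => (key x).trans (key y).symm⟩

end hdi

section domain

variable {B : Type u} [CommRing B] [IsLocalRing B] [IsNoetherianRing B] [IsDomain B]
  [IsAdicComplete (maximalIdeal B) B]

/-- **Hartshorne–Lichtenbaum vanishing** for complete Noetherian local domains. -/
theorem subsingleton_H_top_of_domain (J : Ideal B) (hJ : 1 ≤ ringKrullDim (B ⧸ J))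
    (M : Type u) [AddCommGroup M] [Module B M] (i : ℕ)
    (hi : ringKrullDim B ≤ (i : WithBot ℕ∞)) : Subsingleton (LocCoh.H J i M) := by
  obtain ⟨ω₀, hω₀⟩ := Groth.Agent.S0376.result B
  obtain ⟨k, hk⟩ := Uniq.exists_isNormalized_shift ω₀ hω₀
  have hω := InvTwist.isDualizing_shift ω₀ hω₀ k
  obtain ⟨q, hqprime, hJq, hqdim⟩ :=
    exists_prime_ringKrullDim_quotient_eq_one J (lt_of_lt_of_le zero_lt_one hJ)
  haveI := hqprime
  have hq : q ≠ maximalIdeal B := by
    rintro rfl
    have h0 : ringKrullDim (B ⧸ maximalIdeal B) = 0 :=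
      ringKrullDim_eq_zero_of_isField
        ((Ideal.Quotient.maximal_ideal_iff_isField_quotient (maximalIdeal B)).1
          (maximalIdeal.isMaximal B))
    rw [h0] at hqdim
    exact zero_ne_one hqdim
  exact CdTop.cd_lt (ω₀⟦k⟧) hω hk J (subsingleton_HDI_zero (ω₀⟦k⟧) hω hk J q hJq hq) M i hi

end domain

section topVanishing

variable {R : Type u} [CommRing R] [IsNoetherianRing R]

/-- If `H^d_I(R/p) = 0` for every minimal prime `p` with `dim R/p = d = dim R`, then `cd I < d`. -/
theorem HH.subsingleton_of_forall_minimalPrime (I : Ideal R) (d : ℕ) (hd : ringKrullDim R = d)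
    (hmin : ∀ (p : Ideal R) [p.IsPrime], p ∈ minimalPrimes R → ringKrullDim (R ⧸ p) = d →
      Subsingleton (HH I (ModuleCat.of R (R ⧸ p)) d))
    (N : ModuleCat.{u} R) (i : ℕ) (hi : d ≤ i) : Subsingleton (HH I N i) := by
  rcases Nat.lt_or_ge d i with hlt | hge
  · exact HH.subsingleton_of_ringKrullDim_lt I N i (by rw [hd]; exact_mod_cast hlt)
  have hid : i = d := le_antisymm hge hi
  have hsucc : ∀ (N : ModuleCat.{u} R), Subsingleton (HH I N (d + 1)) := fun N =>
    HH.subsingleton_of_ringKrullDim_lt I N (d + 1) (by rw [hd]; exact_mod_cast Nat.lt_succ_self d)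
  have hquot : ∀ (N₂ N₃ : Type u) [AddCommGroup N₂] [Module R N₂] [AddCommGroup N₃] [Module R N₃]
      (g : N₂ →ₗ[R] N₃), Function.Surjective g → Subsingleton (HH I (ModuleCat.of R N₂) d) →
      Subsingleton (HH I (ModuleCat.of R N₃) d) := by
    intro N₂ N₃ _ _ _ _ g hg h2
    have hex : Function.Exact (LinearMap.ker g).subtype g := by
      rw [LinearMap.exact_iff, Submodule.range_subtype]
    have hS := sesOf_shortExact (LinearMap.ker g).subtype g hex (Submodule.injective_subtype _) hg
    exact HH.subsingleton_X₃ I hS d h2 (hsucc _)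
  have hprime : ∀ p : PrimeSpectrum R,
      Subsingleton (HH I (ModuleCat.of R (R ⧸ p.asIdeal)) d) := by
    intro p
    by_cases hdim : Module.supportDim R (R ⧸ p.asIdeal) < (d : WithBot ℕ∞)
    · exact HH.subsingleton_of_supportDim_lt I _ d hdim
    · have hdim' : ringKrullDim (R ⧸ p.asIdeal) = d := by
        rw [Module.supportDim_quotient_eq_ringKrullDim] at hdim
        refine le_antisymm ?_ (not_lt.1 hdim)
        rw [← hd]
        exact ringKrullDim_quotient_le p.asIdeal
      have hpmin := mem_minimalPrimes_of_ringKrullDim_quotient_eq d hd p.asIdeal hdim'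
      exact hmin p.asIdeal hpmin hdim'
  have hfin : ∀ (N : Type u) [AddCommGroup N] [Module R N] [Module.Finite R N],
      Subsingleton (HH I (ModuleCat.of R N) d) := by
    intro N _ _ hN
    refine IsNoetherianRing.induction_on_isQuotientEquivQuotientPrime R hN
      (motive := fun (N : Type u) [AddCommGroup N] [Module R N] [Module.Finite R N] =>
        Subsingleton (HH I (ModuleCat.of R N) d)) ?_ ?_ ?_
    · intro N _ _ _ _
      exact HH.subsingleton_of_subsingleton I N d
    · intro N _ _ _ p e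
      exact hquot (R ⧸ p.asIdeal) N e.symm.toLinearMap e.symm.surjective (hprime p)
    · intro N₁ _ _ _ N₂ _ _ _ N₃ _ _ _ f g hf hg hfg h1 h3
      exact HH.subsingleton_X₂ I (sesOf_shortExact f g hfg hf hg) d h1 h3
  rw [hid]
  refine HH.subsingleton_of_forall_fg I N d (fun M' hM' => ?_)
  haveI : Module.Finite R M' := Module.Finite.iff_fg.2 hM'
  exact hfin M'

end topVanishing

section complete

variable {A : Type u} [CommRing A] [IsLocalRing A] [IsNoetherianRing A]
  [IsAdicComplete (maximalIdeal A) A]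

theorem subsingleton_HH_quotient_minimalPrime (J : Ideal A) (d : ℕ)
    (p : Ideal A) [hp : p.IsPrime] (hpd : ringKrullDim (A ⧸ p) = d)
    (h1 : 1 ≤ ringKrullDim (A ⧸ (J ⊔ p))) : Subsingleton (HH J (ModuleCat.of A (A ⧸ p)) d) := by
  haveI : IsLocalRing (A ⧸ p) :=
    IsLocalRing.of_surjective' (Ideal.Quotient.mk p) Ideal.Quotient.mk_surjective
  haveI : IsAdicComplete (maximalIdeal (A ⧸ p)) (A ⧸ p) :=
    Groth.Agent.Lib.Helper7.FlatFS.isAdicComplete_quot p
  have hdim : 1 ≤ ringKrullDim ((A ⧸ p) ⧸ J.map (Ideal.Quotient.mk p)) := by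
    rw [ringKrullDim_eq_of_ringEquiv (DoubleQuot.quotQuotEquivQuotSup p J), sup_comm]
    exact h1
  have h2 : Subsingleton (LocCoh.H (J.map (Ideal.Quotient.mk p)) d (A ⧸ p)) :=
    subsingleton_H_top_of_domain (J.map (Ideal.Quotient.mk p)) hdim (A ⧸ p) d (le_of_eq hpd)
  rw [subsingleton_H_iff] at h2
  obtain ⟨φ, -⟩ := Groth.Agent.Lib.Helper20.LCIndep2.exists_addEquiv (R := A) (A ⧸ p) J (A ⧸ p) d
  exact @Equiv.subsingleton _ _ φ.symm.toEquiv h2

/-- **Hartshorne–Lichtenbaum vanishing** for complete Noetherian local rings. -/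
theorem hlvt_complete (J : Ideal A) (d : ℕ) (hd : ringKrullDim A = d)
    (h : ∀ p ∈ minimalPrimes A, ringKrullDim (A ⧸ p) = d → 1 ≤ ringKrullDim (A ⧸ (J ⊔ p)))
    (N : ModuleCat.{u} A) (i : ℕ) (hi : d ≤ i) : Subsingleton (HH J N i) :=
  HH.subsingleton_of_forall_minimalPrime J d hd
    (fun p _ hp hpd => subsingleton_HH_quotient_minimalPrime J d p hpd (h p hp hpd)) N i hi

end complete

end Groth.Agent.Lib.Helper4.HLVT
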