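import Mathlib
import Groth.Prelude.Def_CAlg
import Groth.Agent.Lib.Helper4.FlatLocal2
import Groth.Agent.Lib.Helper4.Depth
import Groth.Agent.S0543

/-!
# Depth along completions of localizations (helper4)

* `depth_localization_baseChange`: for a flat map `A → B` of Noetherian rings, a finite `A`-module
  `M`, and a prime `P` of `B` minimal over `𝔭 B` lying over `𝔭`:
  `depth (B ⊗ M)_P = depth M_𝔭`.
* `exists_prime_completion`: primes of the `I`-adic completion of `A_r` over a prime `𝔭 ⊆ r` such
  that `r` is minimal over `𝔭 + I`.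
* `depth_gt_of_completion`: the resulting depth transfer.
-/

set_option autoImplicit false
set_option linter.style.haveILetI false
set_option linter.unusedSectionVars false
set_option linter.unusedVariables false
set_option maxHeartbeats 1600000

universe u

open TensorProduct IsLocalRing

namespace Groth.Agent.Lib.Helper4.BootDepth

open Groth.Agent.Lib.Helper4

section lemmaD

variable {A B : Type u} [CommRing A] [CommRing B] [Algebra A B] [IsNoetherianRing A]
  [IsNoetherianRing B] [Module.Flat A B]

theorem depth_localization_baseChange (M : Type u) [AddCommGroup M] [Module A M]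
    [Module.Finite A M] (X : Type u) [AddCommGroup X] [Module B X] (e : X ≃ₗ[B] B ⊗[A] M)
    (𝔭 : Ideal A) [𝔭.IsPrime] (P : Ideal B) [P.IsPrime]
    (hmin : P ∈ (𝔭.map (algebraMap A B)).minimalPrimes)
    (hover : P.comap (algebraMap A B) = 𝔭) :
    LocCoh.depth (Localization.AtPrime P) (LocalizedModule P.primeCompl X) =
      LocCoh.depth (Localization.AtPrime 𝔭) (LocalizedModule 𝔭.primeCompl M) := by
  haveI hlo : P.LiesOver 𝔭 := ⟨hover.symm⟩
  letI alg : Algebra (Localization.AtPrime 𝔭) (Localization.AtPrime P) :=
    Localization.AtPrime.algebraOfLiesOver 𝔭 P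
  haveI hst : IsScalarTower A (Localization.AtPrime 𝔭) (Localization.AtPrime P) := inferInstance
  haveI hfl : Module.Flat (Localization.AtPrime 𝔭) (Localization.AtPrime P) := inferInstance
  haveI hloc : IsLocalHom (algebraMap (Localization.AtPrime 𝔭) (Localization.AtPrime P)) :=
    Localization.isLocalHom_localRingHom _ _ _ _
  -- the module isomorphism
  let e1 : LocalizedModule P.primeCompl X ≃ₗ[Localization.AtPrime P]
      (Localization.AtPrime P) ⊗[B] X := LocalizedModule.equivTensorProduct P.primeCompl X
  let e2 : (Localization.AtPrime P) ⊗[B] X ≃ₗ[Localization.AtPrime P]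
      (Localization.AtPrime P) ⊗[B] (B ⊗[A] M) :=
    TensorProduct.AlgebraTensorModule.congr
      (LinearEquiv.refl (Localization.AtPrime P) (Localization.AtPrime P)) e
  let e3 : (Localization.AtPrime P) ⊗[B] (B ⊗[A] M) ≃ₗ[Localization.AtPrime P]
      (Localization.AtPrime P) ⊗[A] M :=
    TensorProduct.AlgebraTensorModule.cancelBaseChange A B (Localization.AtPrime P)
      (Localization.AtPrime P) M
  let e4 : (Localization.AtPrime P) ⊗[Localization.AtPrime 𝔭] ((Localization.AtPrime 𝔭) ⊗[A] M)
      ≃ₗ[Localization.AtPrime P] (Localization.AtPrime P) ⊗[A] M :=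
    TensorProduct.AlgebraTensorModule.cancelBaseChange A (Localization.AtPrime 𝔭)
      (Localization.AtPrime P) (Localization.AtPrime P) M
  let e5 : LocalizedModule 𝔭.primeCompl M ≃ₗ[Localization.AtPrime 𝔭]
      (Localization.AtPrime 𝔭) ⊗[A] M := LocalizedModule.equivTensorProduct 𝔭.primeCompl M
  let e6 : (Localization.AtPrime P) ⊗[Localization.AtPrime 𝔭] (LocalizedModule 𝔭.primeCompl M)
      ≃ₗ[Localization.AtPrime P]
      (Localization.AtPrime P) ⊗[Localization.AtPrime 𝔭] ((Localization.AtPrime 𝔭) ⊗[A] M) :=
    TensorProduct.AlgebraTensorModule.congr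
      (LinearEquiv.refl (Localization.AtPrime P) (Localization.AtPrime P)) e5
  obtain ⟨E, -⟩ : ∃ E : LocalizedModule P.primeCompl X ≃ₗ[Localization.AtPrime P]
      (Localization.AtPrime P) ⊗[Localization.AtPrime 𝔭] (LocalizedModule 𝔭.primeCompl M), True :=
    ⟨e1 ≪≫ₗ e2 ≪≫ₗ e3 ≪≫ₗ e4.symm ≪≫ₗ e6.symm, trivial⟩
  have hE : LocCoh.depth (Localization.AtPrime P) (LocalizedModule P.primeCompl X) =
      LocCoh.depth (Localization.AtPrime P)
        ((Localization.AtPrime P) ⊗[Localization.AtPrime 𝔭] (LocalizedModule 𝔭.primeCompl M)) :=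
    idealDepth_congr _ E
  -- primes containing the fibre ideal
  have hprimes : ∀ Q : Ideal (Localization.AtPrime P), Q.IsPrime →
      (maximalIdeal (Localization.AtPrime 𝔭)).map
        (algebraMap (Localization.AtPrime 𝔭) (Localization.AtPrime P)) ≤ Q →
      Q = maximalIdeal (Localization.AtPrime P) := by
    intro Q hQ hle
    have hQ0 : (Q.comap (algebraMap B (Localization.AtPrime P))).IsPrime :=
      Ideal.comap_isPrime _ _
    have h1 : 𝔭.map (algebraMap A B) ≤ Q.comap (algebraMap B (Localization.AtPrime P)) := by
      rw [Ideal.map_le_iff_le_comap]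
      intro a ha
      rw [Ideal.mem_comap, Ideal.mem_comap,
        ← IsScalarTower.algebraMap_apply A B (Localization.AtPrime P),
        IsScalarTower.algebraMap_apply A (Localization.AtPrime 𝔭) (Localization.AtPrime P)]
      exact hle (Ideal.mem_map_of_mem _
        ((IsLocalization.AtPrime.to_map_mem_maximal_iff (Localization.AtPrime 𝔭) 𝔭 a).mpr ha))
    have h2 : Q.comap (algebraMap B (Localization.AtPrime P)) ≤ P := by
      intro b hb
      by_contra hbP
      exact hQ.ne_top (Ideal.eq_top_of_isUnit_mem _ hb
        (IsLocalization.map_units (Localization.AtPrime P) (⟨b, hbP⟩ : P.primeCompl)))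
    have h3 : P ≤ Q.comap (algebraMap B (Localization.AtPrime P)) := hmin.2 ⟨hQ0, h1⟩ h2
    have h4 : Q.comap (algebraMap B (Localization.AtPrime P)) = P := le_antisymm h2 h3
    have h5 : (Q.comap (algebraMap B (Localization.AtPrime P))).map
        (algebraMap B (Localization.AtPrime P)) = Q :=
      IsLocalization.map_comap P.primeCompl (Localization.AtPrime P) Q
    rw [← h5, h4, Localization.AtPrime.map_eq_maximalIdeal]
  -- the fibre has depth zero
  have hF0 : LocCoh.depth (Localization.AtPrime P) ((Localization.AtPrime P) ⧸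
      ((maximalIdeal (Localization.AtPrime 𝔭)).map
        (algebraMap (Localization.AtPrime 𝔭) (Localization.AtPrime P)) •
        (⊤ : Submodule (Localization.AtPrime P) (Localization.AtPrime P)))) = 0 := by
    haveI hnt : Nontrivial ((Localization.AtPrime P) ⧸
        ((maximalIdeal (Localization.AtPrime 𝔭)).map
          (algebraMap (Localization.AtPrime 𝔭) (Localization.AtPrime P)) •
          (⊤ : Submodule (Localization.AtPrime P) (Localization.AtPrime P)))) :=
      Submodule.Quotient.nontrivial_iff.mpr
        (map_maximalIdeal_smul_top_ne_top (R := Localization.AtPrime 𝔭)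
          (Localization.AtPrime P))
    rw [depth_eq_zero_iff_maximalIdeal_mem_associatedPrimes]
    obtain ⟨Q, hQ⟩ := associatedPrimes.nonempty (Localization.AtPrime P)
      ((Localization.AtPrime P) ⧸
        ((maximalIdeal (Localization.AtPrime 𝔭)).map
          (algebraMap (Localization.AtPrime 𝔭) (Localization.AtPrime P)) •
          (⊤ : Submodule (Localization.AtPrime P) (Localization.AtPrime P))))
    have hQp : Q.IsPrime := hQ.isPrime
    have hann := hQ.annihilator_le
    have hle : (maximalIdeal (Localization.AtPrime 𝔭)).map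
        (algebraMap (Localization.AtPrime 𝔭) (Localization.AtPrime P)) ≤ Q := by
      refine le_trans ?_ hann
      intro a ha
      rw [Submodule.mem_annihilator]
      intro x _
      obtain ⟨y, rfl⟩ := Submodule.Quotient.mk_surjective _ x
      rw [← Submodule.Quotient.mk_smul, Submodule.Quotient.mk_eq_zero]
      exact Submodule.smul_mem_smul ha Submodule.mem_top
    have := hprimes Q hQp hle
    rw [← this]
    exact hQ
  rw [hE, depth_tensor_eq (R := Localization.AtPrime 𝔭) (S := Localization.AtPrime P)
    (LocalizedModule 𝔭.primeCompl M) (Localization.AtPrime P), hF0, add_zero]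

end lemmaD

section lemmaC

variable {A : Type u} [CommRing A] [IsNoetherianRing A] (I : Ideal A) (r : Ideal A) [r.IsPrime]

theorem exists_prime_completion (hIr : I ≤ r) (𝔭 : Ideal A) [𝔭.IsPrime] (h𝔭r : 𝔭 ≤ r)
    (hminr : ∀ r' : Ideal A, r'.IsPrime → 𝔭 ≤ r' → r' ≤ r → I ≤ r' → r' = r) :
    ∃ p' : Ideal (AdicCompletion (I.map (algebraMap A (Localization.AtPrime r)))
        (Localization.AtPrime r)), p'.IsPrime ∧
      p' ∈ (𝔭.map (algebraMap A (AdicCompletion (I.map (algebraMap A (Localization.AtPrime r)))
        (Localization.AtPrime r)))).minimalPrimes ∧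
      p'.comap (algebraMap A (AdicCompletion (I.map (algebraMap A (Localization.AtPrime r)))
        (Localization.AtPrime r))) = 𝔭 ∧
      ∀ q' : Ideal (AdicCompletion (I.map (algebraMap A (Localization.AtPrime r)))
        (Localization.AtPrime r)), q'.IsPrime → p' ≤ q' →
        I.map (algebraMap A (AdicCompletion (I.map (algebraMap A (Localization.AtPrime r)))
          (Localization.AtPrime r))) ≤ q' → q'.IsMaximal := by
  obtain ⟨J, hJ⟩ : ∃ J : Ideal (Localization.AtPrime r),
      J = I.map (algebraMap A (Localization.AtPrime r)) := ⟨_, rfl⟩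
  rw [← hJ]
  haveI hN' : IsNoetherianRing (AdicCompletion J (Localization.AtPrime r)) :=
    Groth.Agent.S0543.result _ J
  haveI hfl1 : Module.Flat A (Localization.AtPrime r) :=
    IsLocalization.flat (Localization.AtPrime r) r.primeCompl
  haveI hst : IsScalarTower A (Localization.AtPrime r)
      (AdicCompletion J (Localization.AtPrime r)) := IsScalarTower.of_algebraMap_eq (fun a => rfl)
  haveI hfl : Module.Flat A (AdicCompletion J (Localization.AtPrime r)) :=
    Module.Flat.trans A (Localization.AtPrime r) _
  have hJm : J ≤ maximalIdeal (Localization.AtPrime r) := by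
    rw [hJ, ← Localization.AtPrime.map_eq_maximalIdeal (I := r)]
    exact Ideal.map_mono hIr
  haveI hM' : ((maximalIdeal (Localization.AtPrime r)).map
      (algebraMap (Localization.AtPrime r) (AdicCompletion J (Localization.AtPrime r)))).IsMaximal :=
    AdicCompletion.isMaximal_map_of_le J (maximalIdeal (Localization.AtPrime r)) hJm
      (IsNoetherian.noetherian _)
  have hPM : 𝔭.map (algebraMap A (AdicCompletion J (Localization.AtPrime r))) ≤
      (maximalIdeal (Localization.AtPrime r)).map
        (algebraMap (Localization.AtPrime r) (AdicCompletion J (Localization.AtPrime r))) := by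
    rw [Ideal.map_le_iff_le_comap]
    intro a ha
    rw [Ideal.mem_comap, IsScalarTower.algebraMap_apply A (Localization.AtPrime r)
      (AdicCompletion J (Localization.AtPrime r))]
    exact Ideal.mem_map_of_mem _
      ((IsLocalization.AtPrime.to_map_mem_maximal_iff (Localization.AtPrime r) r a).mpr (h𝔭r ha))
  obtain ⟨p', hp'min, hp'M⟩ := Ideal.exists_minimalPrimes_le hPM
  haveI hp'prime : p'.IsPrime := hp'min.1.1
  have hle : 𝔭 ≤ p'.comap (algebraMap A (AdicCompletion J (Localization.AtPrime r))) :=
    Ideal.map_le_iff_le_comap.mp hp'min.1.2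
  have hcomap : p'.comap (algebraMap A (AdicCompletion J (Localization.AtPrime r))) = 𝔭 := by
    refine le_antisymm ?_ hle
    haveI : (p'.comap (algebraMap A (AdicCompletion J (Localization.AtPrime r)))).IsPrime :=
      Ideal.comap_isPrime _ _
    haveI : p'.LiesOver (p'.comap (algebraMap A (AdicCompletion J (Localization.AtPrime r)))) :=
      ⟨rfl⟩
    obtain ⟨P0, hP0le, hP0prime, hP0over⟩ := Ideal.exists_ideal_le_liesOver_of_le (p := 𝔭)
      (q := p'.comap (algebraMap A (AdicCompletion J (Localization.AtPrime r)))) p' hle
    have hP0 : P0.comap (algebraMap A (AdicCompletion J (Localization.AtPrime r))) = 𝔭 :=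
      hP0over.over.symm
    have h1 : 𝔭.map (algebraMap A (AdicCompletion J (Localization.AtPrime r))) ≤ P0 := by
      rw [Ideal.map_le_iff_le_comap, hP0]
    have h2 : p' ≤ P0 := hp'min.2 ⟨hP0prime, h1⟩ hP0le
    have h3 : P0 = p' := le_antisymm hP0le h2
    rw [← h3, hP0]
  refine ⟨p', hp'prime, hp'min, hcomap, ?_⟩
  intro q' hq'prime hp'q' hIq'
  have h𝔭r1 : 𝔭 ≤ q'.comap (algebraMap A (AdicCompletion J (Localization.AtPrime r))) := by
    rw [← hcomap]; exact Ideal.comap_mono hp'q'
  have hIr1 : I ≤ q'.comap (algebraMap A (AdicCompletion J (Localization.AtPrime r))) :=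
    Ideal.map_le_iff_le_comap.mp hIq'
  have hr0prime : (q'.comap (algebraMap (Localization.AtPrime r)
      (AdicCompletion J (Localization.AtPrime r)))).IsPrime := Ideal.comap_isPrime _ _
  have hr1eq : q'.comap (algebraMap A (AdicCompletion J (Localization.AtPrime r))) =
      (q'.comap (algebraMap (Localization.AtPrime r)
        (AdicCompletion J (Localization.AtPrime r)))).comap
        (algebraMap A (Localization.AtPrime r)) := by
    rw [Ideal.comap_comap, ← IsScalarTower.algebraMap_eq]
  have hr1r : q'.comap (algebraMap A (AdicCompletion J (Localization.AtPrime r))) ≤ r := by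
    rw [hr1eq]
    have h0 : q'.comap (algebraMap (Localization.AtPrime r)
        (AdicCompletion J (Localization.AtPrime r))) ≤ maximalIdeal (Localization.AtPrime r) :=
      IsLocalRing.le_maximalIdeal hr0prime.ne_top
    have h1 := Ideal.comap_mono (f := algebraMap A (Localization.AtPrime r)) h0
    have h2 : (maximalIdeal (Localization.AtPrime r)).comap
        (algebraMap A (Localization.AtPrime r)) = r :=
      IsLocalization.AtPrime.under_maximalIdeal (Localization.AtPrime r) r
    rwa [h2] at h1
  have hr1 : q'.comap (algebraMap A (AdicCompletion J (Localization.AtPrime r))) = r :=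
    hminr _ (Ideal.comap_isPrime _ _) h𝔭r1 hr1r hIr1
  have hmle : maximalIdeal (Localization.AtPrime r) ≤ q'.comap (algebraMap (Localization.AtPrime r)
      (AdicCompletion J (Localization.AtPrime r))) := by
    rw [← Localization.AtPrime.map_eq_maximalIdeal (I := r), Ideal.map_le_iff_le_comap, ← hr1eq,
      hr1]
  have hMq : (maximalIdeal (Localization.AtPrime r)).map
      (algebraMap (Localization.AtPrime r) (AdicCompletion J (Localization.AtPrime r))) ≤ q' :=
    Ideal.map_le_iff_le_comap.mpr hmle
  have : (maximalIdeal (Localization.AtPrime r)).map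
      (algebraMap (Localization.AtPrime r) (AdicCompletion J (Localization.AtPrime r))) = q' :=
    hM'.eq_of_le hq'prime.ne_top hMq
  rw [← this]
  exact hM'

/-- The depth transfer from the completion of a localization. -/
theorem depth_gt_of_completion (M : Type u) [AddCommGroup M] [Module A M] [Module.Finite A M]
    (s : ℕ) (hIr : I ≤ r) (𝔭 : Ideal A) [𝔭.IsPrime] (h𝔭r : 𝔭 ≤ r) (hI𝔭 : ¬ I ≤ 𝔭)
    (hminr : ∀ r' : Ideal A, r'.IsPrime → 𝔭 ≤ r' → r' ≤ r → I ≤ r' → r' = r)
    (h6 : ∀ p' : PrimeSpectrum (AdicCompletion (I.map (algebraMap A (Localization.AtPrime r)))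
        (Localization.AtPrime r)),
      ¬ (I.map (algebraMap A (AdicCompletion (I.map (algebraMap A (Localization.AtPrime r)))
        (Localization.AtPrime r)))) ≤ p'.asIdeal →
      (∀ q' : PrimeSpectrum (AdicCompletion (I.map (algebraMap A (Localization.AtPrime r)))
        (Localization.AtPrime r)), p' ≤ q' →
        (I.map (algebraMap A (AdicCompletion (I.map (algebraMap A (Localization.AtPrime r)))
          (Localization.AtPrime r)))) ≤ q'.asIdeal → q'.asIdeal.IsMaximal) →
      (s : ℕ∞) < LocCoh.depth (Localization.AtPrime p'.asIdeal)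
        (LocalizedModule p'.asIdeal.primeCompl
          (AdicCompletion (I.map (algebraMap A (Localization.AtPrime r)))
            (LocalizedModule r.primeCompl M)))) :
    (s : ℕ∞) < LocCoh.depth (Localization.AtPrime 𝔭) (LocalizedModule 𝔭.primeCompl M) := by
  obtain ⟨p', hp'prime, hp'min, hp'comap, hp'max⟩ := exists_prime_completion I r hIr 𝔭 h𝔭r hminr
  have hnot : ¬ (I.map (algebraMap A (AdicCompletion (I.map (algebraMap A
      (Localization.AtPrime r))) (Localization.AtPrime r)))) ≤ p' := by
    intro h
    apply hI𝔭
    rw [← hp'comap]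
    exact Ideal.map_le_iff_le_comap.mp h
  have key := h6 ⟨p', hp'prime⟩ hnot (fun q' h1 h2 => hp'max q'.asIdeal q'.isPrime h1 h2)
  haveI hN' : IsNoetherianRing (AdicCompletion (I.map (algebraMap A (Localization.AtPrime r)))
      (Localization.AtPrime r)) := Groth.Agent.S0543.result _ _
  haveI hfl1 : Module.Flat A (Localization.AtPrime r) :=
    IsLocalization.flat (Localization.AtPrime r) r.primeCompl
  haveI hst : IsScalarTower A (Localization.AtPrime r)
      (AdicCompletion (I.map (algebraMap A (Localization.AtPrime r)))
        (Localization.AtPrime r)) := IsScalarTower.of_algebraMap_eq (fun a => rfl)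
  haveI hfl : Module.Flat A (AdicCompletion (I.map (algebraMap A (Localization.AtPrime r)))
      (Localization.AtPrime r)) := Module.Flat.trans A (Localization.AtPrime r) _
  -- the module isomorphism
  let ea := AdicCompletion.ofTensorProductEquivOfFiniteNoetherian
    (I.map (algebraMap A (Localization.AtPrime r))) (LocalizedModule r.primeCompl M)
  let eb : LocalizedModule r.primeCompl M ≃ₗ[Localization.AtPrime r]
      (Localization.AtPrime r) ⊗[A] M := LocalizedModule.equivTensorProduct r.primeCompl M
  let ec := TensorProduct.AlgebraTensorModule.cancelBaseChange A (Localization.AtPrime r)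
    (AdicCompletion (I.map (algebraMap A (Localization.AtPrime r))) (Localization.AtPrime r))
    (AdicCompletion (I.map (algebraMap A (Localization.AtPrime r))) (Localization.AtPrime r)) M
  obtain ⟨eX, -⟩ : ∃ eX : AdicCompletion (I.map (algebraMap A (Localization.AtPrime r)))
      (LocalizedModule r.primeCompl M) ≃ₗ[AdicCompletion (I.map (algebraMap A
        (Localization.AtPrime r))) (Localization.AtPrime r)]
      (AdicCompletion (I.map (algebraMap A (Localization.AtPrime r)))
        (Localization.AtPrime r)) ⊗[A] M, True :=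
    ⟨ea.symm ≪≫ₗ (TensorProduct.AlgebraTensorModule.congr (LinearEquiv.refl _ _) eb) ≪≫ₗ ec,
      trivial⟩
  have hD := depth_localization_baseChange (A := A)
    (B := AdicCompletion (I.map (algebraMap A (Localization.AtPrime r))) (Localization.AtPrime r))
    M _ eX 𝔭 p' hp'min hp'comap
  rw [← hD]
  exact key

end lemmaC

end Groth.Agent.Lib.Helper4.BootDepth
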