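import Groth.Agent.Lib.Helper4.LC5
import Mathlib.Algebra.Module.LocalizedModule.Exact

/-!
# Local cohomology: modules on which an element of the ideal acts bijectively; `H^1_{(a)}`
(helper4)
-/

set_option autoImplicit false
set_option linter.style.haveILetI false
set_option linter.unusedSectionVars false
set_option maxHeartbeats 400000

open CategoryTheory Limits Opposite Abelian

universe u

namespace Groth.Agent.Lib.Helper4.LC

variable {R : Type u} [CommRing R]

section smulBij

/-- If an element of `I` acts bijectively on `N`, all local cohomology of `N` vanishes. -/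
lemma HH.subsingleton_of_smul_bijective (I : Ideal R) (x : R) (hx : x ∈ I) (N : Type u)
    [AddCommGroup N] [Module R N] (hbij : Function.Bijective (fun n : N => x • n)) (i : ℕ) :
    Subsingleton (HH I (ModuleCat.of R N) i) := by
  let e : N ≃ₗ[R] N := LinearEquiv.ofBijective (x • LinearMap.id)
    ⟨fun a b h => hbij.1 (by simpa using h), fun b => by
      obtain ⟨a, ha⟩ := hbij.2 b
      exact ⟨a, by simpa using ha⟩⟩
  have hiso : x • 𝟙 (ModuleCat.of R N) = e.toModuleIso.hom := by
    apply ModuleCat.hom_ext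
    apply LinearMap.ext
    intro n
    rfl
  apply HH.subsingleton_of_smul_injective I x hx
  intro a b hab
  have h1 : HH.map I (x • 𝟙 (ModuleCat.of R N)) i a =
      HH.map I (x • 𝟙 (ModuleCat.of R N)) i b := by
    rw [← HH.smul_eq_map, ← HH.smul_eq_map]
    exact hab
  rw [hiso] at h1
  exact (HH.mapIso I e.toModuleIso i).injective h1

lemma smul_bijective_localizedModule (a : R) (M : Type u) [AddCommGroup M] [Module R M] :
    Function.Bijective (fun l : LocalizedModule (Submonoid.powers a) M => a • l) := by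
  have hu := IsLocalizedModule.map_units (LocalizedModule.mkLinearMap (Submonoid.powers a) M)
    (⟨a, Submonoid.mem_powers a⟩ : Submonoid.powers a)
  exact (Module.End.isUnit_iff _).1 hu

lemma mem_span_singleton_pow {a : R} {k : ℕ} {b : R} (hb : b ∈ Ideal.span {a} ^ k) :
    ∃ r, b = r * a ^ k := by
  rw [Ideal.span_singleton_pow, Ideal.mem_span_singleton'] at hb
  obtain ⟨r, rfl⟩ := hb
  exact ⟨r, rfl⟩

end smulBij

section H1

variable [IsNoetherianRing R]

/-- `H^1_{(a)}(M) ≅ coker (M → M_a)`. -/
theorem nonempty_equiv_HH1_span_singleton (a : R) (M : Type u) [AddCommGroup M] [Module R M] :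
    Nonempty ((LocalizedModule (Submonoid.powers a) M ⧸
      LinearMap.range (LocalizedModule.mkLinearMap (Submonoid.powers a) M)) ≃ₗ[R]
        HH (Ideal.span {a}) (ModuleCat.of R M) 1) := by
  let ι : M →ₗ[R] LocalizedModule (Submonoid.powers a) M :=
    LocalizedModule.mkLinearMap (Submonoid.powers a) M
  have hex1 : Function.Exact (LinearMap.ker ι).subtype ι.rangeRestrict := by
    rw [LinearMap.exact_iff, LinearMap.ker_rangeRestrict, Submodule.range_subtype]
  have hS1 := sesOf_shortExact _ _ hex1 (Submodule.injective_subtype _)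
    ι.surjective_rangeRestrict
  have htors1 : LocCoh.IsPowerTorsion (Ideal.span {a}) (LinearMap.ker ι) := by
    intro m
    obtain ⟨s, hs⟩ := (IsLocalizedModule.eq_zero_iff (Submonoid.powers a) ι).1
      (LinearMap.mem_ker.1 m.2)
    obtain ⟨k, hk⟩ := (Submonoid.mem_powers_iff _ _).1 s.2
    refine ⟨k, fun b hb => ?_⟩
    obtain ⟨r, rfl⟩ := mem_span_singleton_pow hb
    apply Subtype.ext
    have hs' : (s : R) • (m : M) = 0 := hs
    rw [Submodule.coe_smul, Submodule.coe_zero, mul_smul, hk, hs', smul_zero]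
  have hL : ∀ i, Subsingleton (HH (Ideal.span {a})
      (ModuleCat.of R (LocalizedModule (Submonoid.powers a) M)) i) := fun i =>
    HH.subsingleton_of_smul_bijective (Ideal.span {a}) a (Ideal.mem_span_singleton_self a) _
      (smul_bijective_localizedModule a M) i
  have hex2 : Function.Exact (LinearMap.range ι).subtype (LinearMap.range ι).mkQ :=
    LinearMap.exact_subtype_mkQ (LinearMap.range ι)
  have hS2 := sesOf_shortExact _ _ hex2 (Submodule.injective_subtype _)
    (Submodule.mkQ_surjective _)
  have htors2 : LocCoh.IsPowerTorsion (Ideal.span {a})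
      (LocalizedModule (Submonoid.powers a) M ⧸ LinearMap.range ι) := by
    intro q
    obtain ⟨l, rfl⟩ := Submodule.mkQ_surjective (LinearMap.range ι) q
    obtain ⟨⟨m, s⟩, hms⟩ := IsLocalizedModule.surj (Submonoid.powers a) ι l
    obtain ⟨k, hk⟩ := (Submonoid.mem_powers_iff _ _).1 s.2
    refine ⟨k, fun b hb => ?_⟩
    obtain ⟨r, rfl⟩ := mem_span_singleton_pow hb
    rw [← map_smul, Submodule.mkQ_apply, Submodule.Quotient.mk_eq_zero, mul_smul, hk]
    exact (LinearMap.range ι).smul_mem r ⟨m, hms.symm⟩
  have e1 : (LocalizedModule (Submonoid.powers a) M ⧸ LinearMap.range ι) ≃ₗ[R]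
      HH (Ideal.span {a})
        (ModuleCat.of R (LocalizedModule (Submonoid.powers a) M ⧸ LinearMap.range ι)) 0 :=
    (HH0EquivOfTorsion (Ideal.span {a}) _ htors2).symm
  have e2 : HH (Ideal.span {a})
      (ModuleCat.of R (LocalizedModule (Submonoid.powers a) M ⧸ LinearMap.range ι)) 0 ≃ₗ[R]
      HH (Ideal.span {a}) (ModuleCat.of R (LinearMap.range ι)) 1 :=
    LinearEquiv.ofBijective (HH.δ (Ideal.span {a}) hS2 0)
      ⟨HH.δ_injective (Ideal.span {a}) hS2 0 (hL 0), HH.δ_surjective (Ideal.span {a}) hS2 0 (hL 1)⟩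
  have e3 : HH (Ideal.span {a}) (ModuleCat.of R M) 1 ≃ₗ[R]
      HH (Ideal.span {a}) (ModuleCat.of R (LinearMap.range ι)) 1 :=
    LinearEquiv.ofBijective
      (HH.map (Ideal.span {a}) (sesOf (LinearMap.ker ι).subtype ι.rangeRestrict hex1).g 1)
      ⟨HH.map_g_injective (Ideal.span {a}) hS1 1
        (HH.subsingleton_of_isPowerTorsion (Ideal.span {a}) 0 _ htors1),
       HH.map_g_surjective (Ideal.span {a}) hS1 1
        (HH.subsingleton_of_isPowerTorsion (Ideal.span {a}) 1 _ htors1)⟩
  exact ⟨e1.trans (e2.trans e3.symm)⟩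

end H1

end Groth.Agent.Lib.Helper4.LC
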