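import Groth.Agent.Lib.Helper4.KS2

/-!
# Serre's theorem `χ(x; M) = e(x; M)`

For a list `l` of `r` elements of a Noetherian local ring `A` and a finite `A`-module `M` with
`M/(l)M` of finite length: `r! · ℓ(M/(l)ⁿM) / n^r → χ(l; M)`, the Euler characteristic of
Koszul cohomology.  In fact `|ℓ(M/(l)ⁿM) - χ(l;M) · C(n+r-1, r)| ≤ C · C(n+r-1, r-1)`.
-/

set_option autoImplicit false
set_option linter.style.haveILetI false
set_option linter.unusedSectionVars false
set_option linter.unusedVariables false
set_option maxHeartbeats 800000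

universe u

open Pointwise Filter Topology

namespace Groth.Agent.Lib.Helper4.KS

open Groth.Agent.Lib.Helper4.KE Groth.Agent.Lib.Helper22.Samuel

variable {A : Type u} [CommRing A] [IsLocalRing A] [IsNoetherianRing A]

/-- the asymptotic statement. -/
abbrev Asy (l : List A) (M : Type u) [AddCommGroup M] [Module A M] : Prop :=
  ∃ C : ℕ, ∀ n : ℕ, |(sam (Ideal.ofList l) M n : ℤ) -
    chiK l (ModuleCat.of A M) * (cum l.length n : ℤ)| ≤ (C : ℤ) * (mono l.length n : ℤ)

theorem asy (l : List A) : ∀ (M : Type u) [AddCommGroup M] [Module A M] [Module.Finite A M],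
    Good (Ideal.ofList l) M → Asy l M := by
  induction l with
  | nil =>
    intro M _ _ _ h
    refine ⟨0, fun n => ?_⟩
    cases n with
    | zero =>
      rw [sam_zero, List.length_nil, cum_zero]
      simp
    | succ n =>
      rw [sam_nil_succ, chiK_nil, List.length_nil, cum_zero_succ]
      unfold len
      simp
  | cons x l' ih =>
    intro M _ _ _ h
    refine induction_good (Ideal.ofList (x :: l'))
      (motive := fun N _ _ _ => Asy (x :: l') N) ?_ ?_ ?_ M h
    · intro N _ _ _ _
      refine ⟨0, fun n => ?_⟩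
      rw [sam_of_subsingleton, chiK_of_subsingleton]
      simp
    · intro N _ _ _ p e hN
      rcases smul_zero_or_regular p e x with hx | hx
      · obtain ⟨C', hC'⟩ := ih N (hN.of_smul_eq_zero hx)
        have hχ : chiK (x :: l') (ModuleCat.of A N) = 0 :=
          chiK_cons_eq_zero_of_smul_eq_zero x l' (ModuleCat.of A N) hN hx
        obtain ⟨C, hC⟩ := asy_of_kill l'.length (sam (Ideal.ofList l') N) _ C' hC'
        refine ⟨C, fun n => ?_⟩
        rw [hχ, sam_cons_of_kills x l' hx n, List.length_cons]
        exact hC n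
      · obtain ⟨Cb, hCb⟩ := ih (QuotSMulTop x N) hN.quotSMulTop
        obtain ⟨k, C0, ε, hrec, hε⟩ := sam_rec x l' N hN hx
        obtain ⟨C, hC⟩ := asy_of_rec l'.length (sam (Ideal.ofList (x :: l')) N)
          (sam (Ideal.ofList l') (QuotSMulTop x N)) ε _ Cb C0 k (sam_zero _ _) hrec hCb hε
        refine ⟨C, fun n => ?_⟩
        rw [chiK_cons_of_regular x N hx l', List.length_cons]
        exact hC n
    · intro N₁ _ _ _ N₂ _ _ _ N₃ _ _ _ f g hf hg hfg hN2 h1 h3
      obtain ⟨C1, hC1⟩ := h1
      obtain ⟨C3, hC3⟩ := h3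
      obtain ⟨k, q, hq0, hq1, hq2⟩ := sam_exact (Ideal.ofList (x :: l')) f g hf hg hfg hN2
      obtain ⟨C, hC⟩ := asy_of_exact l'.length (sam (Ideal.ofList (x :: l')) N₁)
        (sam (Ideal.ofList (x :: l')) N₂) (sam (Ideal.ofList (x :: l')) N₃) q _ _ C1 C3 k
        hq0 hq1 hq2 hC1 hC3
      refine ⟨C, fun n => ?_⟩
      rw [chiK_add' (x :: l') f g hf hg hfg hN2, List.length_cons]
      exact hC n

/-- **Serre's theorem**: the Samuel multiplicity with respect to `r` generators equals the
Euler characteristic of the Koszul complex. -/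
theorem serre (l : List A) (M : Type u) [AddCommGroup M] [Module A M] [Module.Finite A M]
    (h : Good (Ideal.ofList l) M) (r : ℕ) (hr : l.length = r) :
    Tendsto (fun n : ℕ => (r.factorial : ℝ) *
        ((Module.length A (M ⧸ (Ideal.ofList l ^ n • (⊤ : Submodule A M)))).toNat : ℝ) /
          (n : ℝ) ^ r) atTop (𝓝 ((chiK l (ModuleCat.of A M) : ℤ) : ℝ)) := by
  subst hr
  obtain ⟨C, hC⟩ := asy l M h
  exact tendsto_of_asy l.length (sam (Ideal.ofList l) M) _ C hC

/-- finiteness of the support of the summands of the Euler characteristic. -/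
lemma finite_support_chi (l : List A) (M : Type u) [AddCommGroup M] [Module A M] :
    (Function.support (fun i : ℤ => ((i.negOnePow : ℤˣ) : ℤ) *
      ((Module.length A ((DRing.tensorCx (Koszul.koszul A l)
        (ModuleCat.of A M)).homology i)).toNat : ℤ))).Finite := by
  apply finite_support_of_bound _ l.length
  intro i hi
  rw [length_tensor_eq, hL_of_big _ _ _ hi]
  simp

/-- the real-valued form of the Euler characteristic. -/
lemma real_chi_eq (l : List A) (M : Type u) [AddCommGroup M] [Module A M] :
    (∑ᶠ i : ℤ, ((((i.negOnePow : ℤˣ) : ℤ) : ℝ)) *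
      ((((Module.length A ((DRing.tensorCx (Koszul.koszul A l)
        (ModuleCat.of A M)).homology i)).toNat : ℤ) : ℝ))) =
      ((chiK l (ModuleCat.of A M) : ℤ) : ℝ) := by
  rw [← chi_tensor_eq]
  have h1 := (Int.castAddHom ℝ).map_finsum (finite_support_chi l M)
  simp only [Int.coe_castAddHom, Int.cast_mul] at h1
  exact h1.symm

lemma span_range_eq_ofList {d : ℕ} (x : Fin d → A) :
    Ideal.span (Set.range x) = Ideal.ofList (List.ofFn x) := by
  show Ideal.span (Set.range x) = Ideal.span {a : A | a ∈ List.ofFn x}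
  congr 1
  ext a
  simp only [Set.mem_range, Set.mem_ofPred_eq, List.mem_ofFn]

end Groth.Agent.Lib.Helper4.KS
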