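import Groth.Agent.Lib.Helper4.KS4
import Groth.Agent.Lib.Helper14.KoszulH0
import Groth.Agent.Lib.Helper14.TorKer
import Groth.Agent.Lib.Helper7.TorNat7
import Groth.Agent.Lib.Helper9.SemiLocal
import Groth.Prelude.Def_IntMult

/-!
# `Tor_i(A/(l), M)` is Koszul homology for a regular sequence `l`

For `l` weakly regular on `A`: `Tor_k(A/(l), M) ≃ H^{-k}(K(l; M))` (Mathlib's `Tor`, resolving the
second variable), by dimension shifting along a free presentation of `M`.  Consequently
`IntMult.chi A (A/(l)) M = chiK l M`.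
-/

set_option autoImplicit false
set_option linter.style.haveILetI false
set_option linter.unusedSectionVars false
set_option linter.unusedVariables false
set_option maxHeartbeats 800000

open CategoryTheory CategoryTheory.Limits CochainComplex HomComplex MonoidalCategory TensorProduct

universe u

namespace Groth.Agent.Lib.Helper4.KTor

open CohIII Groth.Agent.Lib.Helper14.KoszulFun Groth.Agent.Lib.Helper4.KE RingTheory.Sequence
  Groth.Agent.Lib.Helper14.TorKer

variable {A : Type u} [CommRing A]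

/-! ### regular sequences on flat modules -/

lemma isWeaklyRegular_of_flat (F : Type u) [AddCommGroup F] [Module A F] [Module.Flat A F]
    (l : List A) (hl : IsWeaklyRegular A l) : IsWeaklyRegular F l := by
  refine ⟨fun i hi => ?_⟩
  have h1 := hl.regular_mod_prev i hi
  have e : (Ideal.ofList (l.take i) • ⊤ : Submodule A A) = Ideal.ofList (l.take i) := by
    rw [smul_eq_mul, Ideal.mul_top]
  rw [e] at h1
  have h2 : IsSMulRegular ((A ⧸ Ideal.ofList (l.take i)) ⊗[A] F) l[i] :=
    IsSMulRegular.rTensor F h1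
  exact ((TensorProduct.quotTensorEquivQuotSMul F
    (Ideal.ofList (l.take i))).isSMulRegular_congr l[i]).mp h2

/-! ### linear algebra -/

section linalg

variable {N F QN QF QN' QF' : Type u} [AddCommGroup N] [Module A N] [AddCommGroup F] [Module A F]
  [AddCommGroup QN] [Module A QN] [AddCommGroup QF] [Module A QF]
  [AddCommGroup QN'] [Module A QN'] [AddCommGroup QF'] [Module A QF']

theorem nonempty_ker_equiv (ι : N →ₗ[A] F) (q : N →ₗ[A] QN) (r : F →ₗ[A] QF) (f : QN →ₗ[A] QF)
    (q' : N →ₗ[A] QN') (r' : F →ₗ[A] QF') (f' : QN' →ₗ[A] QF')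
    (hq : Function.Surjective q) (hq' : Function.Surjective q')
    (hker : LinearMap.ker q = LinearMap.ker q') (hkerF : LinearMap.ker r = LinearMap.ker r')
    (hf : ∀ n, f (q n) = r (ι n)) (hf' : ∀ n, f' (q' n) = r' (ι n)) :
    Nonempty (LinearMap.ker f ≃ₗ[A] LinearMap.ker f') := by
  let e : QN ≃ₗ[A] QN' :=
    (q.quotKerEquivOfSurjective hq).symm.trans
      ((Submodule.quotEquivOfEq _ _ hker).trans (q'.quotKerEquivOfSurjective hq'))
  have he : ∀ n, e (q n) = q' n := by
    intro n
    have h1 : (q.quotKerEquivOfSurjective hq).symm (q n) = Submodule.Quotient.mk n := by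
      rw [LinearEquiv.symm_apply_eq, LinearMap.quotKerEquivOfSurjective_apply_mk]
    show (q'.quotKerEquivOfSurjective hq') ((Submodule.quotEquivOfEq _ _ hker)
      ((q.quotKerEquivOfSurjective hq).symm (q n))) = q' n
    rw [h1, Submodule.quotEquivOfEq_mk, LinearMap.quotKerEquivOfSurjective_apply_mk]
  have key : ∀ n, f (q n) = 0 ↔ f' (q' n) = 0 := by
    intro n
    rw [hf, hf', ← LinearMap.mem_ker, ← LinearMap.mem_ker, hkerF]
  refine ⟨LinearEquiv.ofSubmodules e _ _ ?_⟩
  ext y
  simp only [Submodule.mem_map, LinearMap.mem_ker]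
  constructor
  · rintro ⟨x, hx, rfl⟩
    obtain ⟨n, rfl⟩ := hq x
    have h2 : f' (e (q n)) = 0 := by
      rw [he]
      exact (key n).mp hx
    exact h2
  · intro hy
    obtain ⟨n, rfl⟩ := hq' y
    exact ⟨q n, (key n).mpr hy, he n⟩

end linalg

/-! ### the two quotient maps `X → (A/I) ⊗ X` and `X → H^0(K(l; X))` -/

section quot

variable (I : Ideal A) (X : Type u) [AddCommGroup X] [Module A X]

lemma qT_apply (x : X) :
    TensorProduct.quotTensorEquivQuotSMul X I (TensorProduct.mk A (A ⧸ I) X 1 x) =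
      Submodule.Quotient.mk x := by
  rw [TensorProduct.mk_apply]
  exact TensorProduct.quotTensorEquivQuotSMul_mk_one_tmul I x

lemma qT_ker : LinearMap.ker (TensorProduct.mk A (A ⧸ I) X 1) = I • (⊤ : Submodule A X) := by
  ext x
  rw [LinearMap.mem_ker, ← (TensorProduct.quotTensorEquivQuotSMul X I).map_eq_zero_iff, qT_apply,
    Submodule.Quotient.mk_eq_zero]

lemma qT_surjective : Function.Surjective (TensorProduct.mk A (A ⧸ I) X 1) := by
  intro t
  obtain ⟨x, hx⟩ := Submodule.Quotient.mk_surjective _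
    (TensorProduct.quotTensorEquivQuotSMul X I t)
  refine ⟨x, ?_⟩
  apply (TensorProduct.quotTensorEquivQuotSMul X I).injective
  rw [qT_apply, hx]

lemma qH_ker (l : List A) :
    LinearMap.ker (toH0 (ModuleCat.of A X) l).hom = Ideal.ofList l • (⊤ : Submodule A X) := by
  ext m
  rw [LinearMap.mem_ker]
  exact toH0_eq_zero_iff (ModuleCat.of A X) l m

lemma toH0_nat_apply (l : List A) {X Y : Type u} [AddCommGroup X] [Module A X] [AddCommGroup Y]
    [Module A Y] (φ : X →ₗ[A] Y) (x : X) :
    (HomologicalComplex.homologyMap (koszulMap (ModuleCat.ofHom φ) l) 0).hom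
        ((toH0 (ModuleCat.of A X) l).hom x) = (toH0 (ModuleCat.of A Y) l).hom (φ x) := by
  have h := toH0_naturality (ModuleCat.ofHom φ) l
  have h2 := congrArg (fun g => g.hom x) h
  exact h2

lemma qH_ker' (X : ModuleCat.{u} A) (l : List A) :
    LinearMap.ker (toH0 X l).hom = Ideal.ofList l • (⊤ : Submodule A X) := by
  ext m
  rw [LinearMap.mem_ker]
  exact toH0_eq_zero_iff X l m

lemma toH0_nat_apply' (l : List A) {X Y : ModuleCat.{u} A} (φ : X ⟶ Y) (x : X) :
    (HomologicalComplex.homologyMap (koszulMap φ l) 0).hom ((toH0 X l).hom x) =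
      (toH0 Y l).hom (φ.hom x) := by
  have h := toH0_naturality φ l
  have h2 := congrArg (fun g => g.hom x) h
  exact h2

end quot

/-! ### the connecting homomorphism of the Koszul long exact sequence -/

section les

variable (l : List A) (S0 : ShortComplex (ModuleCat.{u} A)) (hS0 : S0.ShortExact)

lemma delta_injective (i j : ℤ) (hij : i + 1 = j)
    (h1 : IsZero ((koszulCx S0.X₂ l).homology i)) :
    Function.Injective ((koszul_shortExact S0 hS0 l).δ i j hij).hom := by
  have hS := koszul_shortExact S0 hS0 l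
  have e3 := (ShortComplex.ShortExact.moduleCat_exact_iff_function_exact _).mp
    (hS.homology_exact₃ i j hij)
  haveI s1 : Subsingleton ((koszulCx S0.X₂ l).homology i) := ModuleCat.subsingleton_of_isZero h1
  rw [injective_iff_map_eq_zero]
  intro x hx
  obtain ⟨y, rfl⟩ := (e3 x).mp hx
  have hy : y = 0 := @Subsingleton.elim _ s1 y 0
  rw [hy, map_zero]

lemma delta_range (i j : ℤ) (hij : i + 1 = j) :
    LinearMap.range ((koszul_shortExact S0 hS0 l).δ i j hij).hom =
      LinearMap.ker (HomologicalComplex.homologyMap (KS S0 l).f j).hom := by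
  have hS := koszul_shortExact S0 hS0 l
  have e1 := (ShortComplex.ShortExact.moduleCat_exact_iff_function_exact _).mp
    (hS.homology_exact₁ i j hij)
  ext z
  exact (e1 z).symm

lemma delta_surjective (i j : ℤ) (hij : i + 1 = j)
    (h2 : IsZero ((koszulCx S0.X₂ l).homology j)) :
    Function.Surjective ((koszul_shortExact S0 hS0 l).δ i j hij).hom := by
  haveI s2 : Subsingleton ((koszulCx S0.X₂ l).homology j) := ModuleCat.subsingleton_of_isZero h2
  have hS := koszul_shortExact S0 hS0 l
  have e1 := (ShortComplex.ShortExact.moduleCat_exact_iff_function_exact _).mp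
    (hS.homology_exact₁ i j hij)
  intro z
  exact (e1 z).mp (@Subsingleton.elim _ s2 _ _)

include hS0 in
lemma exists_delta (i j : ℤ) (hij : i + 1 = j) :
    ∃ δ : ((koszulCx S0.X₃ l).homology i : Type u) →ₗ[A] ((koszulCx S0.X₁ l).homology j : Type u),
      (IsZero ((koszulCx S0.X₂ l).homology i) → Function.Injective δ) ∧
      (IsZero ((koszulCx S0.X₂ l).homology j) → Function.Surjective δ) ∧
      LinearMap.range δ =
        LinearMap.ker (HomologicalComplex.homologyMap (koszulMap S0.f l) j).hom :=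
  ⟨((koszul_shortExact S0 hS0 l).δ i j hij).hom, delta_injective l S0 hS0 i j hij,
    delta_surjective l S0 hS0 i j hij, delta_range l S0 hS0 i j hij⟩

include hS0 in
theorem step1_aux (hF : IsZero ((koszulCx S0.X₂ l).homology (-((1 : ℕ) : ℤ)))) :
    Nonempty (LinearMap.ker (LinearMap.lTensor (A ⧸ Ideal.ofList l) S0.f.hom) ≃ₗ[A]
      ((koszulCx S0.X₃ l).homology (-((1 : ℕ) : ℤ)) : Type u)) := by
  obtain ⟨δ, hinj, -, hrange⟩ := exists_delta l S0 hS0 (-((1 : ℕ) : ℤ)) 0 (by norm_num)
  have e1 := LinearEquiv.ofInjective δ (hinj hF)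
  have e2 := LinearEquiv.ofEq _ _ hrange
  obtain ⟨e3⟩ := nonempty_ker_equiv S0.f.hom
    (TensorProduct.mk A (A ⧸ Ideal.ofList l) S0.X₁ 1)
    (TensorProduct.mk A (A ⧸ Ideal.ofList l) S0.X₂ 1)
    (LinearMap.lTensor (A ⧸ Ideal.ofList l) S0.f.hom)
    (toH0 S0.X₁ l).hom (toH0 S0.X₂ l).hom
    (HomologicalComplex.homologyMap (koszulMap S0.f l) 0).hom
    (qT_surjective _ _) (toH0_surjective _ l)
    ((qT_ker _ _).trans (qH_ker' _ l).symm) ((qT_ker _ _).trans (qH_ker' _ l).symm)
    (fun n => rfl)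
    (fun n => toH0_nat_apply' l S0.f n)
  exact ⟨e3.trans (e2.symm.trans e1.symm)⟩

include hS0 in
theorem stepSucc_aux (i j : ℤ) (hij : i + 1 = j) (hi : IsZero ((koszulCx S0.X₂ l).homology i))
    (hj : IsZero ((koszulCx S0.X₂ l).homology j)) :
    Nonempty (((koszulCx S0.X₁ l).homology j : Type u) ≃ₗ[A]
      ((koszulCx S0.X₃ l).homology i : Type u)) := by
  obtain ⟨δ, hinj, hsurj, -⟩ := exists_delta l S0 hS0 i j hij
  exact ⟨(LinearEquiv.ofBijective δ ⟨hinj hi, hsurj hj⟩).symm⟩

end les

/-! ### the comparison -/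

section steps

variable (l : List A)

theorem step0 (M : Type u) [AddCommGroup M] [Module A M] :
    Nonempty (DRing.Tor A 0 (A ⧸ Ideal.ofList l) M ≃ₗ[A]
      ((koszulCx (ModuleCat.of A M) l).homology (-((0 : ℕ) : ℤ)) : Type u)) := by
  have h00 : (-((0 : ℕ) : ℤ)) = 0 := by norm_num
  rw [h00]
  have e1 := Groth.Agent.Lib.Helper7.tor0Equiv (ModuleCat.of A (A ⧸ Ideal.ofList l))
    (ModuleCat.of A M)
  have e2 := TensorProduct.quotTensorEquivQuotSMul M (Ideal.ofList l)
  have e3 := (Submodule.quotEquivOfEq _ _ (qH_ker M l).symm).trans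
    ((toH0 (ModuleCat.of A M) l).hom.quotKerEquivOfSurjective (toH0_surjective (ModuleCat.of A M) l))
  exact ⟨e1.trans (e2.trans e3)⟩

variable (hl : IsWeaklyRegular A l)

include hl in
theorem step1 (M : Type u) [AddCommGroup M] [Module A M] :
    Nonempty (DRing.Tor A 1 (A ⧸ Ideal.ofList l) M ≃ₗ[A]
      ((koszulCx (ModuleCat.of A M) l).homology (-((1 : ℕ) : ℤ)) : Type u)) := by
  let p : (M →₀ A) →ₗ[A] M := Finsupp.linearCombination A id
  have hp : Function.Surjective p := Finsupp.linearCombination_id_surjective A M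
  let ι : ↥(LinearMap.ker p) →ₗ[A] (M →₀ A) := (LinearMap.ker p).subtype
  have hex : Function.Exact ι p := LinearMap.exact_subtype_ker_map p
  have hi : Function.Injective ι := (LinearMap.ker p).injective_subtype
  obtain ⟨eT⟩ := nonempty_tor_one_equiv_ker (A ⧸ Ideal.ofList l) (K := ↥(LinearMap.ker p))
    (F := M →₀ A) (N := M) ι p hex hi hp
  have hS0 := sc_shortExact (K := ↥(LinearMap.ker p)) (F := M →₀ A) (N := M) ι p hex hi hp
  have hne : (-((1 : ℕ) : ℤ)) ≠ 0 := by norm_num
  have hF : IsZero ((koszulCx (ModuleCat.of A (M →₀ A)) l).homology (-((1 : ℕ) : ℤ))) :=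
    isZero_homology_of_isWeaklyRegular l (M →₀ A) (isWeaklyRegular_of_flat (M →₀ A) l hl) _ hne
  obtain ⟨e⟩ := step1_aux l _ hS0 hF
  exact ⟨eT.trans e⟩

include hl in
theorem stepSucc (k : ℕ)
    (ih : ∀ (X : Type u) [AddCommGroup X] [Module A X],
      Nonempty (DRing.Tor A (k + 1) (A ⧸ Ideal.ofList l) X ≃ₗ[A]
        ((koszulCx (ModuleCat.of A X) l).homology (-((k + 1 : ℕ) : ℤ)) : Type u)))
    (M : Type u) [AddCommGroup M] [Module A M] :
    Nonempty (DRing.Tor A (k + 2) (A ⧸ Ideal.ofList l) M ≃ₗ[A]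
      ((koszulCx (ModuleCat.of A M) l).homology (-((k + 2 : ℕ) : ℤ)) : Type u)) := by
  let p : (M →₀ A) →ₗ[A] M := Finsupp.linearCombination A id
  have hp : Function.Surjective p := Finsupp.linearCombination_id_surjective A M
  let ι : ↥(LinearMap.ker p) →ₗ[A] (M →₀ A) := (LinearMap.ker p).subtype
  have hex : Function.Exact ι p := LinearMap.exact_subtype_ker_map p
  have hi : Function.Injective ι := (LinearMap.ker p).injective_subtype
  obtain ⟨eT⟩ := nonempty_tor_shift (A ⧸ Ideal.ofList l) (K := ↥(LinearMap.ker p))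
    (F := M →₀ A) (N := M) ι p hex hi hp k
  obtain ⟨eN⟩ := ih ↥(LinearMap.ker p)
  have hS0 := sc_shortExact (K := ↥(LinearMap.ker p)) (F := M →₀ A) (N := M) ι p hex hi hp
  have hF : ∀ j : ℤ, j ≠ 0 → IsZero ((koszulCx (ModuleCat.of A (M →₀ A)) l).homology j) :=
    fun j hj => isZero_homology_of_isWeaklyRegular l (M →₀ A)
      (isWeaklyRegular_of_flat (M →₀ A) l hl) j hj
  have hij : (-((k + 2 : ℕ) : ℤ)) + 1 = -((k + 1 : ℕ) : ℤ) := by push_cast; ring
  obtain ⟨e⟩ := stepSucc_aux l _ hS0 _ _ hij (hF _ (by omega)) (hF _ (by omega))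
  exact ⟨eT.trans (eN.trans e)⟩

include hl in
/-- **Tor against a regular sequence is Koszul homology.** -/
theorem main : ∀ (k : ℕ) (M : Type u) [AddCommGroup M] [Module A M],
    Nonempty (DRing.Tor A k (A ⧸ Ideal.ofList l) M ≃ₗ[A]
      ((koszulCx (ModuleCat.of A M) l).homology (-(k : ℤ)) : Type u))
  | 0, M, _, _ => step0 l M
  | 1, M, _, _ => step1 l hl M
  | k + 2, M, _, _ => stepSucc l hl k (fun X _ _ => main (k + 1) X) M

end steps

/-! ### Euler characteristics -/

lemma sgn_neg_natCast : ∀ k : ℕ, sgn (-(k : ℤ)) = (-1 : ℤ) ^ k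
  | 0 => by rw [Nat.cast_zero, neg_zero, sgn_zero, pow_zero]
  | k + 1 => by
    have h := sgn_succ (-((k + 1 : ℕ) : ℤ))
    have e : -((k + 1 : ℕ) : ℤ) + 1 = -(k : ℤ) := by push_cast; ring
    rw [e, sgn_neg_natCast k] at h
    rw [pow_succ]
    linarith

theorem length_tor_eq (l : List A) (hl : IsWeaklyRegular A l) (M : Type u) [AddCommGroup M]
    [Module A M] (k : ℕ) :
    Module.length A (DRing.Tor A k (A ⧸ Ideal.ofList l) M) = hL l M (-(k : ℤ)) := by
  obtain ⟨e⟩ := main l hl k M
  exact e.length_eq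

theorem chi_eq_chiK (l : List A) (hl : IsWeaklyRegular A l) (M : Type u) [AddCommGroup M]
    [Module A M] : IntMult.chi A (A ⧸ Ideal.ofList l) M = chiK l (ModuleCat.of A M) := by
  rw [Groth.Agent.Lib.Helper4.KS.chiK_eq_sum]
  unfold IntMult.chi
  simp only [length_tor_eq l hl M]
  have hsub : Function.support (fun i : ℕ => (-1 : ℤ) ^ i * ((hL l M (-(i : ℤ))).toNat : ℤ)) ⊆
      ↑(Finset.range (l.length + 1)) := by
    intro i hi
    rw [Function.mem_support] at hi
    rw [Finset.coe_range, Set.mem_Iio]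
    by_contra hcon
    apply hi
    have hbig : (l.length : ℤ) < |(-(i : ℤ))| := by
      rw [abs_neg, Nat.abs_cast]
      exact_mod_cast (by omega : l.length < i)
    rw [hL_of_big l M _ hbig]
    simp
  rw [finsum_eq_sum_of_support_subset _ hsub]
  have himg : Finset.Icc (-(l.length : ℤ)) 0 =
      (Finset.range (l.length + 1)).image (fun i : ℕ => -(i : ℤ)) := by
    ext x
    simp only [Finset.mem_Icc, Finset.mem_image, Finset.mem_range]
    constructor
    · rintro ⟨h1, h2⟩
      exact ⟨(-x).toNat, by omega, by omega⟩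
    · rintro ⟨i, hi, rfl⟩
      constructor <;> omega
  rw [himg, Finset.sum_image (by intro a _ b _ h; simpa using h)]
  refine Finset.sum_congr rfl (fun i _ => ?_)
  rw [sgn_neg_natCast]

end Groth.Agent.Lib.Helper4.KTor
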