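import Groth.Agent.Lib.Helper4.FiniteExt
import Mathlib.RingTheory.Flat.FaithfullyFlat.Algebra
import Mathlib.RingTheory.QuotSMulTop

/-!
# Depth under flat and faithfully flat base change
-/

set_option autoImplicit false

universe u

open RingTheory.Sequence TensorProduct

namespace Groth.Agent.Lib.Helper4

section flat

variable {A B : Type u} [CommRing A] [CommRing B] [Algebra A B]
  (M : Type u) [AddCommGroup M] [Module A M]

/-- `IM = M` implies `(IB)(B ⊗ M) = B ⊗ M`. -/
lemma map_smul_top_tensor_eq_top (I : Ideal A) (h : I • (⊤ : Submodule A M) = ⊤) :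
    I.map (algebraMap A B) • (⊤ : Submodule B (B ⊗[A] M)) = ⊤ := by
  have hsub : Subsingleton (M ⧸ (I • (⊤ : Submodule A M))) :=
    Submodule.Quotient.subsingleton_iff.mpr h
  have hsub2 : Subsingleton (B ⊗[A] (M ⧸ (I • (⊤ : Submodule A M)))) := inferInstance
  have hsub3 : Subsingleton ((B ⊗[A] M) ⧸
      I.map (algebraMap A B) • (⊤ : Submodule B (B ⊗[A] M))) :=
    (TensorProduct.tensorQuotMapSMulEquivTensorQuot M (S := B) I).toEquiv.subsingleton
  exact Submodule.Quotient.subsingleton_iff.mp hsub3

/-- For faithfully flat `B`, `(IB)(B ⊗ M) = B ⊗ M` implies `IM = M`. -/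
lemma smul_top_eq_top_of_map_smul_top_tensor [Module.FaithfullyFlat A B] (I : Ideal A)
    (h : I.map (algebraMap A B) • (⊤ : Submodule B (B ⊗[A] M)) = ⊤) :
    I • (⊤ : Submodule A M) = ⊤ := by
  have hsub3 : Subsingleton ((B ⊗[A] M) ⧸
      I.map (algebraMap A B) • (⊤ : Submodule B (B ⊗[A] M))) :=
    Submodule.Quotient.subsingleton_iff.mpr h
  have hsub2 : Subsingleton (B ⊗[A] (M ⧸ (I • (⊤ : Submodule A M)))) :=
    (TensorProduct.tensorQuotMapSMulEquivTensorQuot M (S := B) I).symm.toEquiv.subsingleton
  have hsub : Subsingleton (M ⧸ (I • (⊤ : Submodule A M))) :=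
    (Module.FaithfullyFlat.tensorProduct_mk_injective (A := A) (B := B)
      (M ⧸ (I • (⊤ : Submodule A M)))).subsingleton
  exact Submodule.Quotient.subsingleton_iff.mp hsub

variable [IsNoetherianRing A] [IsNoetherianRing B] [Module.Finite A M]

/-- Flat base change does not decrease depth. -/
theorem idealDepth_le_idealDepth_tensor [Module.Flat A B] (I : Ideal A) :
    LocCoh.idealDepth I M ≤ LocCoh.idealDepth (I.map (algebraMap A B)) (B ⊗[A] M) := by
  by_cases hIM : I • (⊤ : Submodule A M) = ⊤
  · rw [idealDepth_of_smul_top_eq _ (map_smul_top_tensor_eq_top (B := B) M I hIM)]; exact le_top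
  · rw [idealDepth_of_smul_top_ne I hIM]
    refine iSup₂_le fun rs hrs => ?_
    have h1 : IsWeaklyRegular (B ⊗[A] M) rs := hrs.1.isWeaklyRegular_lTensor (M₂ := B)
    have h2 : IsWeaklyRegular (B ⊗[A] M) (rs.map (algebraMap A B)) :=
      (isWeaklyRegular_map_algebraMap_iff (S := B) (M := B ⊗[A] M) rs).mpr h1
    have h3 := length_le_idealDepth (I.map (algebraMap A B)) (rs.map (algebraMap A B)) h2 (by
      intro r hr
      obtain ⟨a, ha, rfl⟩ := List.mem_map.mp hr
      exact Ideal.mem_map_of_mem _ (hrs.2 a ha))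
    simpa using h3

/-- Faithfully flat base change does not increase depth. -/
theorem natCast_le_idealDepth_of_le_idealDepth_tensor [Module.FaithfullyFlat A B] (I : Ideal A)
    (n : ℕ) : ∀ (M : Type u) [AddCommGroup M] [Module A M] [Module.Finite A M],
      (n : ℕ∞) ≤ LocCoh.idealDepth (I.map (algebraMap A B)) (B ⊗[A] M) →
      (n : ℕ∞) ≤ LocCoh.idealDepth I M := by
  induction n with
  | zero => intro M _ _ _ _; simp
  | succ n ih =>
    intro M _ _ _ h
    push_cast at h ⊢
    by_cases hIM : I • (⊤ : Submodule A M) = ⊤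
    · rw [idealDepth_of_smul_top_eq _ hIM]; exact le_top
    have hIMB : I.map (algebraMap A B) • (⊤ : Submodule B (B ⊗[A] M)) ≠ ⊤ :=
      fun h' => hIM (smul_top_eq_top_of_map_smul_top_tensor M I h')
    have hnt : Nontrivial M := by
      by_contra hM
      rw [not_nontrivial_iff_subsingleton] at hM
      exact hIM (Subsingleton.elim _ _)
    have h1 : 1 ≤ LocCoh.idealDepth (I.map (algebraMap A B)) (B ⊗[A] M) := le_trans (by simp) h
    obtain ⟨y, hy, hyreg⟩ := (one_le_idealDepth_iff _ hIMB).mp h1
    have hex : ∃ x ∈ I, IsSMulRegular M x := by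
      by_contra hcon
      push Not at hcon
      obtain ⟨p, hp, hap⟩ := (forall_not_isSMulRegular_iff_exists_le_associatedPrime I).mp hcon
      obtain ⟨hpprime, m, hpm⟩ := isAssociatedPrime_iff.mp hp
      have hkill : ∀ r ∈ I, r • ((1 : B) ⊗ₜ[A] m) = 0 := by
        intro r hr
        have := hap hr
        rw [hpm, Submodule.mem_colon_singleton, Submodule.mem_bot] at this
        rw [TensorProduct.smul_tmul', TensorProduct.smul_tmul, this, TensorProduct.tmul_zero]
      have hz : (1 : B) ⊗ₜ[A] m = 0 := by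
        apply hyreg
        change y • ((1 : B) ⊗ₜ[A] m) = y • 0
        rw [smul_eq_zero_of_mem_map (M := B ⊗[A] M) hkill hy, smul_zero]
      have hm0 : m = 0 := by
        apply Module.FaithfullyFlat.tensorProduct_mk_injective (A := A) (B := B) M
        simpa using hz
      apply hpprime.ne_top
      rw [hpm, hm0, eq_top_iff]
      intro r _
      rw [Submodule.mem_colon_singleton, smul_zero]
      exact Submodule.zero_mem _
    obtain ⟨x, hxI, hxreg⟩ := hex
    have hxregB : IsSMulRegular (B ⊗[A] M) (algebraMap A B x) :=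
      (isSMulRegular_algebraMap_iff (B ⊗[A] M) x).mpr (hxreg.lTensor B)
    have h2 := le_idealDepth_quotSMulTop_of_succ_le _ n (Ideal.mem_map_of_mem _ hxI) hxregB h
    rw [idealDepth_congr _
      (QuotSMulTop.algebraMapTensorEquivTensorQuotSMulTop x M B)] at h2
    exact (succ_le_idealDepth_iff I n).mpr (Or.inr ⟨x, hxI, hxreg, ih (QuotSMulTop x M) h2⟩)

/-- Depth is invariant under faithfully flat base change. -/
theorem idealDepth_tensor_eq [Module.FaithfullyFlat A B] (I : Ideal A) :
    LocCoh.idealDepth (I.map (algebraMap A B)) (B ⊗[A] M) = LocCoh.idealDepth I M := by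
  refine le_antisymm ?_ (idealDepth_le_idealDepth_tensor M I)
  rw [← ENat.forall_natCast_le_iff_le]
  intro n hn
  exact natCast_le_idealDepth_of_le_idealDepth_tensor I n M hn

end flat

end Groth.Agent.Lib.Helper4
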