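import Mathlib

/-!
# A separability idempotent over a field forces finiteness

Sub-lemma (FA) requested by helper14 for S5318.
-/

set_option autoImplicit false
set_option linter.unusedSectionVars false
set_option linter.unusedVariables false
set_option linter.deprecated false
set_option maxHeartbeats 800000

universe u

open scoped TensorProduct

namespace Groth.Agent.Lib.Helper4.SepIdemFinite

theorem finite_of_sepIdem {k A : Type u} [Field k] [CommRing A] [Algebra k A]
    (e : A ⊗[k] A) (he1 : Algebra.TensorProduct.lmul' k e = 1)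
    (hker : ∀ a : A, (a ⊗ₜ[k] (1:A) - (1:A) ⊗ₜ[k] a) * e = 0) : Module.Finite k A := by
  classical
  let b := Module.Free.chooseBasis k A
  obtain ⟨c, hc⟩ := TensorProduct.eq_repr_basis_right (M := A) b e
  let V : Submodule k A := Submodule.span k ((c.support.image c : Finset A) : Set A)
  have hVfg : V.FG := Submodule.fg_span (Finset.finite_toSet _)
  have hcV : ∀ j, c j ∈ V := by
    intro j
    by_cases hj : j ∈ c.support
    · exact Submodule.subset_span (Finset.mem_coe.mpr (Finset.mem_image_of_mem c hj))
    · rw [Finsupp.notMem_support_iff.mp hj]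
      exact V.zero_mem
  let Φ : Module.Free.ChooseBasisIndex k A → (A ⊗[k] A →ₗ[k] A) := fun i =>
    (TensorProduct.rid k A).toLinearMap ∘ₗ ((b.coord i).lTensor A)
  have hΦ_tmul : ∀ i (u v : A), Φ i (u ⊗ₜ v) = b.coord i v • u := by
    intro i u v
    simp only [Φ, LinearMap.comp_apply, LinearEquiv.coe_coe, LinearMap.lTensor_tmul,
      TensorProduct.rid_tmul]
  have hΦ_left : ∀ i (a : A) (x : A ⊗[k] A), Φ i ((a ⊗ₜ[k] (1:A)) * x) = a * Φ i x := by
    intro i a x
    induction x using TensorProduct.induction_on with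
    | zero => simp
    | tmul u v =>
      rw [Algebra.TensorProduct.tmul_mul_tmul, one_mul, hΦ_tmul, hΦ_tmul, mul_smul_comm]
    | add x y hx hy => rw [mul_add, map_add, map_add, hx, hy, mul_add]
  have hEe : TensorProduct.equivFinsuppOfBasisRight (M := A) b e = c := by
    rw [← hc, ← TensorProduct.equivFinsuppOfBasisRight_symm_apply, LinearEquiv.apply_symm_apply]
  have hΦ_e : ∀ i, Φ i e = c i := by
    intro i
    rw [← hEe, TensorProduct.equivFinsuppOfBasisRight_apply]
    rfl
  have hΦ_right : ∀ i (a : A), Φ i (((1:A) ⊗ₜ[k] a) * e) ∈ V := by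
    intro i a
    rw [← hc, Finsupp.sum, Finset.mul_sum, map_sum]
    refine V.sum_mem fun j _ => ?_
    rw [Algebra.TensorProduct.tmul_mul_tmul, one_mul, hΦ_tmul]
    exact V.smul_mem _ (hcV j)
  have hmulV : ∀ (a : A) i, a * c i ∈ V := by
    intro a i
    have h1 : (a ⊗ₜ[k] (1:A)) * e = ((1:A) ⊗ₜ[k] a) * e := by
      have := hker a
      rwa [sub_mul, sub_eq_zero] at this
    rw [← hΦ_e i, ← hΦ_left, h1]
    exact hΦ_right i a
  have hone : (1 : A) = c.sum (fun j m => m * b j) := by
    rw [← he1, ← hc]
    simp [Finsupp.sum, map_sum]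
  have htop : V = ⊤ := by
    rw [eq_top_iff]
    intro a _
    have ha : a = c.sum (fun j m => (a * b j) * m) := by
      conv_lhs => rw [← mul_one a, hone]
      rw [Finsupp.sum, Finsupp.sum, Finset.mul_sum]
      refine Finset.sum_congr rfl fun j _ => ?_
      ring
    rw [ha, Finsupp.sum]
    exact V.sum_mem fun j _ => hmulV _ j
  exact Module.finite_def.mpr (htop ▸ hVfg)

end Groth.Agent.Lib.Helper4.SepIdemFinite
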