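import Groth.Agent.Lib.Helper4.Reflexive

/-!
# Localization of duals and double duals; reflexivity is local (helper4)
-/

set_option autoImplicit false

universe u u' v v'

open Module

namespace Groth.Agent.Lib.Helper4

section dualLoc

variable {R : Type u} [CommRing R] (S : Submonoid R) (A : Type u') [CommRing A] [Algebra R A]
  [IsLocalization S A]
  {M : Type v} [AddCommGroup M] [Module R M] {M' : Type v'} [AddCommGroup M'] [Module R M']
  [Module A M'] [IsScalarTower R A M'] (f : M →ₗ[R] M') [IsLocalizedModule S f]

/-- The localization map on duals `Hom_R(M,R) → Hom_A(M',A)`. -/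
noncomputable def dualLoc : Dual R M →ₗ[R] Dual A M' :=
  IsLocalizedModule.mapExtendScalars S f (Algebra.linearMap R A) A

lemma dualLoc_apply (φ : Dual R M) (m : M) :
    dualLoc S A f φ (f m) = algebraMap R A (φ m) := by
  simp [dualLoc, IsLocalizedModule.map_apply]

instance isLocalizedModule_dualLoc [Module.FinitePresentation R M] :
    IsLocalizedModule S (dualLoc S A f) :=
  Module.FinitePresentation.isLocalizedModule_mapExtendScalars S f (Algebra.linearMap R A) A

variable [Module.FinitePresentation R M]

/-- The localization map on double duals. -/
noncomputable def ddualLoc : Dual R (Dual R M) →ₗ[R] Dual A (Dual A M') :=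
  dualLoc S A (dualLoc S A f)

lemma ddualLoc_apply (y : Dual R (Dual R M)) (φ : Dual R M) :
    ddualLoc S A f y (dualLoc S A f φ) = algebraMap R A (y φ) :=
  dualLoc_apply S A (dualLoc S A f) y φ

lemma ddualLoc_eval (m : M) :
    ddualLoc S A f (Dual.eval R M m) = Dual.eval A M' (f m) := by
  apply LinearMap.restrictScalars_injective R
  apply IsLocalizedModule.linearMap_ext S (dualLoc S A f) (Algebra.linearMap R A)
  ext φ
  simp only [LinearMap.coe_comp, LinearMap.coe_restrictScalars, Function.comp_apply]
  rw [ddualLoc_apply, Dual.eval_apply, Dual.eval_apply, dualLoc_apply]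

variable [Module.FinitePresentation R (Dual R M)]

instance isLocalizedModule_ddualLoc : IsLocalizedModule S (ddualLoc S A f) :=
  isLocalizedModule_dualLoc S A (dualLoc S A f)

lemma map_eval_eq :
    IsLocalizedModule.map S f (ddualLoc S A f) (Dual.eval R M) =
      (Dual.eval A M').restrictScalars R := by
  apply IsLocalizedModule.linearMap_ext S f (ddualLoc S A f)
  refine LinearMap.ext fun m => ?_
  simp only [LinearMap.coe_comp, Function.comp_apply, IsLocalizedModule.map_apply,
    LinearMap.coe_restrictScalars]
  exact ddualLoc_eval S A f m

include f in
lemma dual_eval_bijective_iff_map :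
    Function.Bijective (Dual.eval A M') ↔
      Function.Bijective (LocalizedModule.map S (Dual.eval R M)) := by
  rw [← IsLocalizedModule.map_bijective_iff_localizedModuleMap_bijective f (ddualLoc S A f),
    map_eval_eq]
  rfl

include f in
lemma dual_eval_injective_iff_map :
    Function.Injective (Dual.eval A M') ↔
      Function.Injective (LocalizedModule.map S (Dual.eval R M)) := by
  rw [← IsLocalizedModule.map_injective_iff_localizedModuleMap_injective f (ddualLoc S A f),
    map_eval_eq]
  rfl

include f in
lemma dual_eval_surjective_iff_map :
    Function.Surjective (Dual.eval A M') ↔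
      Function.Surjective (LocalizedModule.map S (Dual.eval R M)) := by
  rw [← IsLocalizedModule.map_surjective_iff_localizedModuleMap_surjective f (ddualLoc S A f),
    map_eval_eq]
  rfl

include S f in
/-- Localizations of reflexive modules are reflexive. -/
theorem isReflexive_of_isLocalizedModule [IsReflexive R M] : IsReflexive A M' := by
  refine ⟨(dual_eval_bijective_iff_map S A f).mpr ⟨?_, ?_⟩⟩
  · exact LocalizedModule.map_injective S _ (bijective_dual_eval R M).1
  · exact LocalizedModule.map_surjective S _ (bijective_dual_eval R M).2

end dualLoc

section localProp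

variable (R : Type u) [CommRing R] [IsNoetherianRing R] (M : Type v) [AddCommGroup M]
  [Module R M] [Module.Finite R M]

lemma finitePresentation_dual : Module.FinitePresentation R (Dual R M) :=
  Module.finitePresentation_of_finite R _

/-- Reflexivity of `M_p` in terms of the localized evaluation map. -/
lemma isReflexive_localizedModule_iff (p : Ideal R) [p.IsPrime] :
    IsReflexive (Localization.AtPrime p) (LocalizedModule p.primeCompl M) ↔
      Function.Bijective (LocalizedModule.map p.primeCompl (Dual.eval R M)) := by
  have := Module.finitePresentation_of_finite R M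
  have := finitePresentation_dual R M
  rw [← dual_eval_bijective_iff_map p.primeCompl (Localization.AtPrime p)
    (LocalizedModule.mkLinearMap p.primeCompl M)]
  exact ⟨fun h => h.1, fun h => ⟨h⟩⟩

/-- Reflexivity is a local property. -/
theorem isReflexive_iff_forall_prime :
    IsReflexive R M ↔ ∀ (p : Ideal R) [p.IsPrime],
      IsReflexive (Localization.AtPrime p) (LocalizedModule p.primeCompl M) := by
  constructor
  · intro h p hp
    rw [isReflexive_localizedModule_iff]
    exact ⟨LocalizedModule.map_injective _ _ (bijective_dual_eval R M).1,
      LocalizedModule.map_surjective _ _ (bijective_dual_eval R M).2⟩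
  · intro h
    refine ⟨bijective_of_localized_maximal _ fun J hJ => ?_⟩
    exact (isReflexive_localizedModule_iff R M J).mp (h J)

theorem isReflexive_iff_forall_maximal :
    IsReflexive R M ↔ ∀ (m : Ideal R) (_ : m.IsMaximal),
      IsReflexive (Localization.AtPrime m) (LocalizedModule m.primeCompl M) := by
  constructor
  · intro h m hm
    exact (isReflexive_iff_forall_prime R M).mp h m
  · intro h
    refine ⟨bijective_of_localized_maximal _ fun J hJ => ?_⟩
    exact (isReflexive_localizedModule_iff R M J).mp (h J hJ)

end localProp

end Groth.Agent.Lib.Helper4
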