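import Groth.Agent.Lib.Helper4.TorsionFree

/-!
# Reflexive modules over a domain (helper4)
-/

set_option autoImplicit false

universe u v w w'

namespace Groth.Agent.Lib.Helper4

section exact

variable {R : Type u} [CommRing R] [IsDomain R] {M : Type v} {M' : Type w} {M'' : Type w'}
  [AddCommGroup M] [Module R M] [Module.Finite R M]
  [AddCommGroup M'] [Module R M']
  [AddCommGroup M''] [Module R M''] [Module.Finite R M'']

/-- `0 → M → M' → M''` exact, `M'` reflexive, `M''` torsion-free (all finite over a domain):
then `M` is reflexive. -/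
theorem isReflexive_of_exact (f : M →ₗ[R] M') (g : M' →ₗ[R] M'') (hf : Function.Injective f)
    (hfg : Function.Exact f g) [Module.IsReflexive R M'] [Module.IsTorsionFree R M''] :
    Module.IsReflexive R M := by
  have hM' : Function.Bijective (Module.Dual.eval R M') := Module.bijective_dual_eval R M'
  have hM'' : Function.Injective (Module.Dual.eval R M'') :=
    (dual_eval_injective_iff R M'').mpr inferInstance
  have hTF : Module.IsTorsionFree R M := hf.moduleIsTorsionFree f (map_smul f)
  refine ⟨⟨(dual_eval_injective_iff R M).mpr hTF, fun y => ?_⟩⟩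
  obtain ⟨m', hm'⟩ := hM'.2 (y ∘ₗ f.dualMap)
  have hgm' : g m' = 0 := by
    apply hM''
    rw [map_zero]
    ext χ
    have h1 : Module.Dual.eval R M' m' (χ ∘ₗ g) = (y ∘ₗ f.dualMap) (χ ∘ₗ g) := by rw [hm']
    have h2 : (χ ∘ₗ g) ∘ₗ f = 0 := by
      ext m
      simp [hfg.apply_apply_eq_zero]
    have h3 : (y ∘ₗ f.dualMap) (χ ∘ₗ g) = y ((χ ∘ₗ g) ∘ₗ f) := rfl
    rw [h3, h2, map_zero] at h1
    exact h1
  obtain ⟨m, rfl⟩ := (hfg m').mp hgm'
  refine ⟨m, ?_⟩
  obtain ⟨c, hc, -, hcy⟩ := exists_dual_eval_bound R M
  obtain ⟨m₁, hm₁⟩ := hcy (y - Module.Dual.eval R M m)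
  have hfm₁ : f m₁ = 0 := by
    apply hM'.1
    rw [map_zero]
    ext ψ
    have h1 : (ψ ∘ₗ f) m₁ = c * (y (ψ ∘ₗ f) - (ψ ∘ₗ f) m) := LinearMap.congr_fun hm₁ (ψ ∘ₗ f)
    have h2 : ψ (f m) = y (ψ ∘ₗ f) := LinearMap.congr_fun hm' ψ
    have h4 : (ψ ∘ₗ f) m = ψ (f m) := rfl
    have h5 : (ψ ∘ₗ f) m₁ = ψ (f m₁) := rfl
    rw [h4, h2, sub_self, mul_zero, h5] at h1
    exact h1
  have hm₁0 : m₁ = 0 := hf (by rw [hfm₁, map_zero])
  rw [hm₁0, map_zero] at hm₁
  have hz : y - Module.Dual.eval R M m = 0 := by
    ext φ
    have h1 : (0 : R) = c * (y - Module.Dual.eval R M m) φ := LinearMap.congr_fun hm₁ φ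
    rcases mul_eq_zero.mp h1.symm with h | h
    · exact absurd h hc
    · exact h
  exact (sub_eq_zero.mp hz).symm

end exact

section embed

variable (R : Type u) [CommRing R] [IsDomain R] [IsNoetherianRing R] (M : Type v)
  [AddCommGroup M] [Module R M] [Module.Finite R M]

/-- A finite module over a Noetherian domain is reflexive iff it embeds into a finite free module
with torsion-free cokernel. -/
theorem isReflexive_iff_exists_injective :
    Module.IsReflexive R M ↔ ∃ (n : ℕ) (f : M →ₗ[R] (Fin n → R)), Function.Injective f ∧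
      Module.IsTorsionFree R ((Fin n → R) ⧸ LinearMap.range f) := by
  classical
  constructor
  · intro hM
    obtain ⟨n, π, hπ⟩ := Module.Finite.exists_fin' R (Module.Dual R M)
    let F : M →ₗ[R] (Fin n → R) := LinearMap.pi (fun i => π (Pi.single i 1))
    have hFapp : ∀ m i, F m i = π (Pi.single i 1) m := fun m i => rfl
    have hπsum : ∀ a : Fin n → R, π a = ∑ i, a i • π (Pi.single i 1) := by
      intro a
      conv_lhs => rw [pi_eq_sum_univ' a, map_sum]
      refine Finset.sum_congr rfl fun i _ => ?_
      rw [map_smul]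
    refine ⟨n, F, ?_, ?_⟩
    · rw [← LinearMap.ker_eq_bot, LinearMap.ker_eq_bot']
      intro m hm
      apply (Module.bijective_dual_eval R M).1
      rw [map_zero]
      ext φ
      obtain ⟨a, rfl⟩ := hπ φ
      rw [Module.Dual.eval_apply, hπsum a, LinearMap.sum_apply, LinearMap.zero_apply]
      refine Finset.sum_eq_zero fun i _ => ?_
      rw [LinearMap.smul_apply, ← hFapp, hm]
      simp
    · refine ⟨fun r hr q₁ q₂ hq => ?_⟩
      have hr0 : r ≠ 0 := hr.ne_zero
      have hq0 : r • q₁ = r • q₂ := hq
      have hq' : r • (q₁ - q₂) = 0 := by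
        rw [smul_sub]
        exact sub_eq_zero.mpr hq0
      rw [← sub_eq_zero]
      obtain ⟨v, hv⟩ := Submodule.Quotient.mk_surjective _ (q₁ - q₂)
      rw [← hv] at hq' ⊢
      rw [← Submodule.Quotient.mk_smul, Submodule.Quotient.mk_eq_zero] at hq'
      rw [Submodule.Quotient.mk_eq_zero]
      obtain ⟨m, hm⟩ := hq'
      have hker : LinearMap.ker π ≤ LinearMap.ker (Fintype.linearCombination R v) := by
        intro a ha
        rw [LinearMap.mem_ker] at ha ⊢
        have h1 : r * Fintype.linearCombination R v a = (π a) m := by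
          rw [hπsum a, LinearMap.sum_apply, Fintype.linearCombination_apply, Finset.mul_sum]
          refine Finset.sum_congr rfl fun i _ => ?_
          have h2 : F m i = r * v i := by rw [hm]; rfl
          rw [LinearMap.smul_apply, ← hFapp, h2, smul_eq_mul, smul_eq_mul]
          ring
        rw [ha, LinearMap.zero_apply] at h1
        exact (mul_eq_zero.mp h1).resolve_left hr0
      let y : Module.Dual R (Module.Dual R M) :=
        (LinearMap.ker π).liftQ (Fintype.linearCombination R v) hker ∘ₗ
          (π.quotKerEquivOfSurjective hπ).symm.toLinearMap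
      have hy : ∀ a, y (π a) = Fintype.linearCombination R v a := by
        intro a
        simp only [y, LinearMap.coe_comp, LinearEquiv.coe_coe, Function.comp_apply]
        rw [LinearMap.quotKerEquivOfSurjective_symm_apply, Submodule.liftQ_apply]
      obtain ⟨m₀, hm₀⟩ := (Module.bijective_dual_eval R M).2 y
      refine ⟨m₀, ?_⟩
      funext i
      rw [hFapp]
      have h3 : π (Pi.single i 1) m₀ = y (π (Pi.single i 1)) := by
        rw [← hm₀, Module.Dual.eval_apply]
      rw [h3, hy, Fintype.linearCombination_apply_single, one_smul]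
  · rintro ⟨n, f, hf, hTF⟩
    exact isReflexive_of_exact f (LinearMap.range f).mkQ hf (LinearMap.exact_map_mkQ_range f)

end embed

section hom

/-- finite powers of a reflexive module are reflexive -/
theorem isReflexive_pi_fin (R : Type u) [CommRing R] (N : Type v) [AddCommGroup N] [Module R N]
    [Module.IsReflexive R N] (n : ℕ) : Module.IsReflexive R (Fin n → N) := by
  induction n with
  | zero =>
    exact Module.equiv (LinearEquiv.ofSubsingleton PUnit.{v+1} (Fin 0 → N))
  | succ n ih =>
    exact Module.equiv (Fin.consLinearEquiv R (fun _ : Fin (n + 1) => N))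

variable (R : Type u) [CommRing R] [IsDomain R] [IsNoetherianRing R] (M : Type v) (N : Type w)
  [AddCommGroup M] [Module R M] [Module.Finite R M] [AddCommGroup N] [Module R N]
  [Module.Finite R N]

/-- `Hom(M, N)` is reflexive when `N` is (finite modules over a Noetherian domain). -/
theorem isReflexive_linearMap [Module.IsReflexive R N] : Module.IsReflexive R (M →ₗ[R] N) := by
  have : Module.FinitePresentation R M := Module.finitePresentation_of_finite R M
  obtain ⟨n, m, π, σ, hπ, hex⟩ := Module.FinitePresentation.exists_fin' R M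
  have hpi : Module.IsReflexive R (Fin n → N) := isReflexive_pi_fin R N n
  have : Module.IsReflexive R ((Fin n → R) →ₗ[R] N) := Module.equiv (Module.piEquiv (Fin n) R N)
  have hF : Function.Injective (LinearMap.lcomp R N π) := by
    intro h₁ h₂ h
    ext x
    obtain ⟨a, rfl⟩ := hπ x
    exact LinearMap.congr_fun h a
  have hFG : Function.Exact (LinearMap.lcomp R N π) (LinearMap.lcomp R N σ) := by
    intro h
    constructor
    · intro hσ
      have hker : LinearMap.ker π ≤ LinearMap.ker h := by
        intro a ha
        obtain ⟨b, rfl⟩ := (hex a).mp ha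
        exact LinearMap.congr_fun hσ b
      refine ⟨(LinearMap.ker π).liftQ h hker ∘ₗ
        (π.quotKerEquivOfSurjective hπ).symm.toLinearMap, ?_⟩
      ext a
      simp only [LinearMap.lcomp_apply', LinearMap.coe_comp, LinearEquiv.coe_coe,
        Function.comp_apply]
      rw [LinearMap.quotKerEquivOfSurjective_symm_apply, Submodule.liftQ_apply]
    · rintro ⟨h', rfl⟩
      ext b
      simp only [LinearMap.lcomp_apply', LinearMap.coe_comp, Function.comp_apply,
        LinearMap.zero_apply]
      rw [hex.apply_apply_eq_zero, map_zero]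
  exact isReflexive_of_exact (LinearMap.lcomp R N π) (LinearMap.lcomp R N σ) hF hFG

end hom

section baseChange

open TensorProduct

/-- Flat base change between domains preserves reflexivity of finite modules. -/
theorem isReflexive_baseChange (R R' : Type u) [CommRing R] [IsDomain R] [IsNoetherianRing R]
    [CommRing R'] [IsDomain R'] [Algebra R R'] [Module.Flat R R'] (M : Type v) [AddCommGroup M]
    [Module R M] [Module.Finite R M] [Module.IsReflexive R M] :
    Module.IsReflexive R' (R' ⊗[R] M) := by
  obtain ⟨n, f, hf, hTF⟩ := (isReflexive_iff_exists_injective R M).mp inferInstance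
  have hinj : Function.Injective (f.baseChange R') :=
    Module.Flat.lTensor_preserves_injective_linearMap (M := R') f hf
  have hex : Function.Exact (f.baseChange R') ((LinearMap.range f).mkQ.baseChange R') :=
    lTensor_exact R' (LinearMap.exact_map_mkQ_range f) (Submodule.mkQ_surjective _)
  have := isTorsionFree_baseChange R R' ((Fin n → R) ⧸ LinearMap.range f)
  exact isReflexive_of_exact (f.baseChange R') ((LinearMap.range f).mkQ.baseChange R') hinj hex

end baseChange

end Groth.Agent.Lib.Helper4
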