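import Mathlib
import Groth.Agent.Lib.Helper4.GorRing

/-!
# Gorenstein rings and finitely generated field extensions (helper4)

* `nonempty_residueField_algEquiv`: a field `K` generated by fractions of the image of `P → K`
  is the residue field of `P` at the kernel.
* `nonempty_fiber_ringEquiv`: `K ⊗[k] R` is then a fibre of `P → P ⊗[k] R`.
* `gorRing_tensor_of_fg`, `noetherian_tensor_of_fg`: `K ⊗[k] R` is Gorenstein / Noetherian for
  a finitely generated field extension `K/k` and `R` Gorenstein / Noetherian.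
-/

set_option autoImplicit false
set_option linter.style.haveILetI false
set_option linter.unusedSectionVars false
set_option linter.unusedVariables false
set_option maxHeartbeats 800000

open IsLocalRing TensorProduct

universe u

namespace Groth.Agent.Lib.Helper4.GorField

open Groth.Agent.Lib.Helper4.GorFlat Groth.Agent.Lib.Helper4.GorFibre
  Groth.Agent.Lib.Helper4.FlatFibre Groth.Agent.Lib.Helper4.GorRing

section abstract_

variable (k P K R : Type u) [Field k] [CommRing P] [Algebra k P] [Field K] [Algebra k K]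
  [Algebra P K] [IsScalarTower k P K] [CommRing R] [Algebra k R]

/-- A field generated by fractions of the image of `P` is the residue field at the kernel. -/
theorem nonempty_residueField_algEquiv (𝔭 : Ideal P) [𝔭.IsPrime]
    (h𝔭 : 𝔭 = RingHom.ker (algebraMap P K))
    (hfrac : ∀ z : K, ∃ a b : P, algebraMap P K b ≠ 0 ∧
      z = algebraMap P K a / algebraMap P K b) :
    Nonempty (𝔭.ResidueField ≃ₐ[P] K) := by
  have hf₁ : 𝔭 ≤ RingHom.ker (Algebra.ofId P K) := by
    intro x hx
    rw [h𝔭, RingHom.mem_ker] at hx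
    rw [RingHom.mem_ker]
    exact hx
  have hf₂ : 𝔭.primeCompl ≤ (IsUnit.submonoid K).comap (Algebra.ofId P K) := by
    intro x hx
    show IsUnit (algebraMap P K x)
    refine IsUnit.mk0 _ (fun h0 => hx ?_)
    rw [h𝔭]
    exact RingHom.mem_ker.mpr h0
  let ε : 𝔭.ResidueField →ₐ[P] K := Ideal.ResidueField.liftₐ 𝔭 (Algebra.ofId P K) hf₁ hf₂
  have hε : ∀ a : P, ε (algebraMap P 𝔭.ResidueField a) = algebraMap P K a := fun a =>
    Ideal.ResidueField.liftₐ_algebraMap 𝔭 (Algebra.ofId P K) hf₁ hf₂ a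
  refine ⟨AlgEquiv.ofBijective ε ⟨(ε : 𝔭.ResidueField →+* K).injective, ?_⟩⟩
  intro z
  obtain ⟨a, b, hb, rfl⟩ := hfrac z
  refine ⟨algebraMap P 𝔭.ResidueField a / algebraMap P 𝔭.ResidueField b, ?_⟩
  rw [map_div₀, hε, hε]

/-- `K ⊗[k] R` is the fibre of `P → P ⊗[k] R` over the kernel of `P → K`. -/
theorem nonempty_fiber_ringEquiv (𝔭 : Ideal P) [𝔭.IsPrime]
    (h𝔭 : 𝔭 = RingHom.ker (algebraMap P K))
    (hfrac : ∀ z : K, ∃ a b : P, algebraMap P K b ≠ 0 ∧
      z = algebraMap P K a / algebraMap P K b) :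
    Nonempty (𝔭.Fiber (P ⊗[k] R) ≃+* K ⊗[k] R) := by
  obtain ⟨eK⟩ := nonempty_residueField_algEquiv P K 𝔭 h𝔭 hfrac
  have c2 : 𝔭.ResidueField ⊗[P] (P ⊗[k] R) ≃ₐ[P] K ⊗[P] (P ⊗[k] R) :=
    Algebra.TensorProduct.congr eK AlgEquiv.refl
  have c1 : K ⊗[P] (P ⊗[k] R) ≃ₐ[P] K ⊗[k] R :=
    Algebra.TensorProduct.cancelBaseChange k P P K R
  exact ⟨c2.toRingEquiv.trans c1.toRingEquiv⟩

theorem gorRing_tensor_of_fraction [IsNoetherianRing P]
    (hfrac : ∀ z : K, ∃ a b : P, algebraMap P K b ≠ 0 ∧
      z = algebraMap P K a / algebraMap P K b)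
    (hT : LocCoh.IsGorensteinRing (P ⊗[k] R)) : LocCoh.IsGorensteinRing (K ⊗[k] R) := by
  haveI := hT
  haveI h𝔭 : (RingHom.ker (algebraMap P K)).IsPrime := RingHom.ker_isPrime _
  obtain ⟨e⟩ := nonempty_fiber_ringEquiv k P K R (RingHom.ker (algebraMap P K)) rfl hfrac
  exact gorRing_of_ringEquiv e
    (gorRing_fiber_of_flat P (P ⊗[k] R) hT (RingHom.ker (algebraMap P K)))

theorem noetherian_tensor_of_fraction [IsNoetherianRing P]
    (hfrac : ∀ z : K, ∃ a b : P, algebraMap P K b ≠ 0 ∧
      z = algebraMap P K a / algebraMap P K b)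
    [IsNoetherianRing (P ⊗[k] R)] : IsNoetherianRing (K ⊗[k] R) := by
  haveI h𝔭 : (RingHom.ker (algebraMap P K)).IsPrime := RingHom.ker_isPrime _
  obtain ⟨e⟩ := nonempty_fiber_ringEquiv k P K R (RingHom.ker (algebraMap P K)) rfl hfrac
  haveI := isNoetherianRing_fiber P (P ⊗[k] R) (RingHom.ker (algebraMap P K))
  exact isNoetherianRing_of_ringEquiv _ e

end abstract_

section concrete

variable (k K R : Type u) [Field k] [Field K] [Algebra k K] [CommRing R] [Algebra k R]

/-- A finitely generated field extension is generated by fractions of polynomials in finitely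
many elements. -/
theorem exists_polynomial_presentation (s : Finset K)
    (hs : IntermediateField.adjoin k (s : Set K) = ⊤) :
    ∃ (n : ℕ) (φ : MvPolynomial (Fin n) k →ₐ[k] K),
      ∀ z : K, ∃ a b : MvPolynomial (Fin n) k, φ b ≠ 0 ∧ z = φ a / φ b := by
  classical
  let v : Fin s.card → K := fun i => ((s.equivFin.symm i : s) : K)
  have hv : Set.range v = (s : Set K) := by
    ext x
    constructor
    · rintro ⟨i, rfl⟩
      exact (s.equivFin.symm i).2
    · intro hx
      refine ⟨s.equivFin ⟨x, hx⟩, ?_⟩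
      show ((s.equivFin.symm (s.equivFin ⟨x, hx⟩) : s) : K) = x
      rw [Equiv.symm_apply_apply]
  refine ⟨s.card, MvPolynomial.aeval v, fun z => ?_⟩
  have hz : z ∈ IntermediateField.adjoin k (s : Set K) := by
    rw [hs]
    exact IntermediateField.mem_top
  obtain ⟨r, hr, t, ht, rfl⟩ := IntermediateField.mem_adjoin_iff_div.mp hz
  rw [← hv, Algebra.adjoin_range_eq_range_aeval] at hr ht
  obtain ⟨a, rfl⟩ := hr
  obtain ⟨b, rfl⟩ := ht
  by_cases hb : MvPolynomial.aeval v b = 0
  · refine ⟨0, 1, ?_, ?_⟩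
    · rw [map_one]
      exact one_ne_zero
    · have hb' : (MvPolynomial.aeval v).toRingHom b = 0 := hb
      rw [hb', div_zero, map_zero, zero_div]
  · exact ⟨a, b, hb, rfl⟩

/-- `MvPolynomial (Fin n) k ⊗[k] R` is a polynomial ring over `R`. -/
noncomputable def mvPolyTensorEquiv (n : ℕ) :
    MvPolynomial (Fin n) R ≃+* MvPolynomial (Fin n) k ⊗[k] R :=
  ((MvPolynomial.algebraTensorAlgEquiv (σ := Fin n) k R).symm.toRingEquiv).trans
    (Algebra.TensorProduct.comm k R (MvPolynomial (Fin n) k)).toRingEquiv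

/-- Base change of a Gorenstein algebra along a finitely generated field extension. -/
theorem gorRing_tensor_of_fg
    (hK : ∃ s : Finset K, IntermediateField.adjoin k (s : Set K) = ⊤)
    (hR : LocCoh.IsGorensteinRing R) : LocCoh.IsGorensteinRing (K ⊗[k] R) := by
  obtain ⟨s, hs⟩ := hK
  obtain ⟨n, φ, hφ⟩ := exists_polynomial_presentation k K s hs
  letI : Algebra (MvPolynomial (Fin n) k) K := φ.toRingHom.toAlgebra
  haveI : IsScalarTower k (MvPolynomial (Fin n) k) K :=
    IsScalarTower.of_algebraMap_eq (fun r => (φ.commutes r).symm)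
  haveI := hR
  have hT : LocCoh.IsGorensteinRing (MvPolynomial (Fin n) k ⊗[k] R) :=
    gorRing_of_ringEquiv (mvPolyTensorEquiv k R n) (gorRing_mvPolynomial R n hR)
  exact gorRing_tensor_of_fraction k (MvPolynomial (Fin n) k) K R hφ hT

/-- Base change of a Noetherian algebra along a finitely generated field extension. -/
theorem noetherian_tensor_of_fg
    (hK : ∃ s : Finset K, IntermediateField.adjoin k (s : Set K) = ⊤)
    [IsNoetherianRing R] : IsNoetherianRing (K ⊗[k] R) := by
  obtain ⟨s, hs⟩ := hK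
  obtain ⟨n, φ, hφ⟩ := exists_polynomial_presentation k K s hs
  letI : Algebra (MvPolynomial (Fin n) k) K := φ.toRingHom.toAlgebra
  haveI : IsScalarTower k (MvPolynomial (Fin n) k) K :=
    IsScalarTower.of_algebraMap_eq (fun r => (φ.commutes r).symm)
  haveI : IsNoetherianRing (MvPolynomial (Fin n) k ⊗[k] R) :=
    isNoetherianRing_of_ringEquiv _ (mvPolyTensorEquiv k R n)
  exact noetherian_tensor_of_fraction k (MvPolynomial (Fin n) k) K R hφ

end concrete

end Groth.Agent.Lib.Helper4.GorField
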