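import Mathlib
import Groth.Prelude.Def_Dual3
import Groth.Agent.Lib.Helper4.GorRing

/-!
# Gorenstein schemes versus Gorenstein rings of sections (helper4)

* `gor_stalk_of_gorRing`: stalks at points of an affine open with Gorenstein ring of sections.
* `gorRing_of_isGorenstein`: sections of a Gorenstein scheme over an affine open.
* `isGorenstein_of_cover`: a scheme covered by affine opens with Gorenstein rings is Gorenstein.
-/

set_option autoImplicit false
set_option linter.style.haveILetI false
set_option linter.unusedSectionVars false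
set_option linter.unusedVariables false
set_option maxHeartbeats 800000

open CategoryTheory AlgebraicGeometry

universe u

namespace Groth.Agent.Lib.Helper4.GorScheme

open Groth.Agent.Lib.Helper4.GorFlat Groth.Agent.Lib.Helper4.GorRing

variable {X : Scheme.{u}}

theorem gor_stalk_of_gorRing (U : X.affineOpens) (h : LocCoh.IsGorensteinRing Γ(X, U.1)) (x : X)
    (hx : x ∈ U.1) : LocCoh.IsGorensteinLocalRing (X.presheaf.stalk x) := by
  letI : Algebra Γ(X, U.1) (X.presheaf.stalk x) :=
    TopCat.Presheaf.algebra_section_stalk X.presheaf ⟨x, hx⟩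
  haveI : IsLocalization.AtPrime (X.presheaf.stalk x) (U.2.primeIdealOf ⟨x, hx⟩).asIdeal :=
    U.2.isLocalization_stalk ⟨x, hx⟩
  have e : Localization.AtPrime (U.2.primeIdealOf ⟨x, hx⟩).asIdeal ≃ₐ[Γ(X, U.1)]
      X.presheaf.stalk x :=
    IsLocalization.algEquiv (U.2.primeIdealOf ⟨x, hx⟩).asIdeal.primeCompl _ _
  exact gor_of_ringEquiv e.toRingEquiv (h.isGorensteinLocalRing_localization _)

theorem gorRing_of_isGorenstein (hX : Dual3.IsGorenstein X) (V : X.affineOpens) :
    LocCoh.IsGorensteinRing Γ(X, V.1) := by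
  haveI := hX.1
  haveI : IsNoetherianRing Γ(X, V.1) := IsLocallyNoetherian.component_noetherian V
  refine { isGorensteinLocalRing_localization := fun p _ => ?_ }
  let y : PrimeSpectrum Γ(X, V.1) := ⟨p, inferInstance⟩
  have hy : V.2.fromSpec y ∈ V.1 := by
    have h := V.2.range_fromSpec
    have h2 : V.2.fromSpec y ∈ Set.range V.2.fromSpec := Set.mem_range_self y
    rw [h] at h2
    exact h2
  letI : Algebra Γ(X, V.1) (X.presheaf.stalk (V.2.fromSpec y)) :=
    TopCat.Presheaf.algebra_section_stalk X.presheaf ⟨V.2.fromSpec y, hy⟩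
  haveI : IsLocalization.AtPrime (X.presheaf.stalk (V.2.fromSpec y)) p :=
    V.2.isLocalization_stalk' y hy
  have e : Localization.AtPrime p ≃ₐ[Γ(X, V.1)] X.presheaf.stalk (V.2.fromSpec y) :=
    IsLocalization.algEquiv p.primeCompl _ _
  exact gor_of_ringEquiv e.symm.toRingEquiv (hX.2 _)

theorem isGorenstein_of_cover
    (h : ∀ x : X, ∃ U : X.affineOpens, x ∈ U.1 ∧ LocCoh.IsGorensteinRing Γ(X, U.1)) :
    Dual3.IsGorenstein X := by
  choose S hS hG using h
  refine ⟨?_, fun x => gor_stalk_of_gorRing (S x) (hG x) x (hS x)⟩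
  apply isLocallyNoetherian_of_affine_cover (S := S)
  · rw [eq_top_iff]
    intro x _
    exact TopologicalSpace.Opens.mem_iSup.mpr ⟨x, hS x⟩
  · intro x
    haveI := hG x
    infer_instance

end Groth.Agent.Lib.Helper4.GorScheme
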