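import Mathlib
import Groth.Agent.Lib.Helper4.DT5

/-!
# Associated primes of `H^{-d}(ω)` (helper4)

`T_top_eq_zero_of_kills`: an element of `Hom_D(A, ω[-d])` (`d = dim A`) killed by an ideal `q` with
`dim A/q < d` is zero.
-/

set_option autoImplicit false
set_option linter.style.haveILetI false
set_option linter.unusedSectionVars false
set_option linter.unusedVariables false
set_option maxHeartbeats 800000

universe u

open CategoryTheory CategoryTheory.Limits CategoryTheory.Pretriangulated DerivedCategory Abelian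
  IsLocalRing

attribute [local instance] HasDerivedCategory.standard

namespace Groth.Agent.Lib.Helper4.DT

open Groth.Agent.Lib.Helper4.LC Groth.Agent.Lib.Helper4

section

variable {A : Type u} [CommRing A]

lemma sgm_sum {X Y : ModuleCat.{u} A} {ι : Type*} (s : Finset ι) (f : ι → (X ⟶ Y)) :
    sgm (∑ i ∈ s, f i) = ∑ i ∈ s, sgm (f i) := CategoryTheory.Functor.map_sum _ _ _

lemma Tmap_sum_smul (ω : Dual.D A) {X Y : ModuleCat.{u} A} {ι : Type*} (s : Finset ι) (a : ι → A)
    (p : ι → (X ⟶ Y)) (j : ℤ) (φ : sg Y ⟶ ω⟦j⟧) (h : ∀ i ∈ s, a i • φ = 0) :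
    Tmap ω (∑ i ∈ s, a i • p i) j φ = 0 := by
  rw [Tmap_apply, sgm_sum, Preadditive.sum_comp]
  refine Finset.sum_eq_zero fun i hi => ?_
  rw [sgm_smul, Linear.smul_comp, ← Linear.comp_smul, h i hi, comp_zero]

end

section

variable {A : Type u} [CommRing A] [IsLocalRing A] [IsNoetherianRing A] {ω : Dual.D A}

theorem T_top_eq_zero_of_kills (hω : Dual.IsDualizing A ω) (hn : Dual.IsNormalized A ω) (d : ℕ)
    (hd : ringKrullDim A = d) (q : Ideal A) (hq : ringKrullDim (A ⧸ q) < (d : WithBot ℕ∞))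
    (x : sg (ModuleCat.of A A) ⟶ ω⟦-(d : ℤ)⟧) (hx : ∀ a ∈ q, a • x = 0) : x = 0 := by
  -- vanishing of `T^{-d}(A/q)`
  have hsd : Module.supportDim A (A ⧸ q) < (d : WithBot ℕ∞) := by
    rw [Module.supportDim_quotient_eq_ringKrullDim]
    exact hq
  have h1 : Subsingleton (HH (maximalIdeal A) (ModuleCat.of A (A ⧸ q)) d) :=
    HH.subsingleton_of_supportDim_lt (maximalIdeal A) (ModuleCat.of A (A ⧸ q)) d hsd
  have h2 : Subsingleton (sg (ModuleCat.of A (A ⧸ q)) ⟶ ω⟦-(d : ℤ)⟧) :=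
    (subsingleton_HH_iff hω hn (A ⧸ q) d).1 h1
  -- generators of `q`
  obtain ⟨n, g, hg⟩ := Module.Finite.exists_fin' A q
  have h3 : Subsingleton (HH (maximalIdeal A) (ModuleCat.of A (LinearMap.ker g)) (d + 1)) :=
    HH.subsingleton_of_ringKrullDim_lt (maximalIdeal A) (ModuleCat.of A (LinearMap.ker g)) (d + 1)
      (by rw [hd]; exact_mod_cast Nat.lt_succ_self d)
  have h4 : Subsingleton (sg (ModuleCat.of A (LinearMap.ker g)) ⟶ ω⟦-((d + 1 : ℕ) : ℤ)⟧) :=
    (subsingleton_HH_iff hω hn (LinearMap.ker g) (d + 1)).1 h3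
  have hS₁ : (sesOf (Submodule.subtype q) (Submodule.mkQ q)
      (LinearMap.exact_subtype_mkQ q)).ShortExact :=
    sesOf_shortExact _ _ _ (Submodule.injective_subtype _) (Submodule.mkQ_surjective _)
  have hS₂ : (sesOf (Submodule.subtype (LinearMap.ker g)) g
      (LinearMap.exact_subtype_ker_map g)).ShortExact :=
    sesOf_shortExact _ _ _ (Submodule.injective_subtype _) hg
  -- step A
  have hh : ModuleCat.ofHom g ≫ ModuleCat.ofHom (Submodule.subtype q) =
      ∑ i : Fin n, ((g (fun j => if i = j then 1 else 0) : q) : A) •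
        ModuleCat.ofHom (LinearMap.proj (R := A) (φ := fun _ : Fin n => A) i) := by
    apply ModuleCat.hom_ext
    apply LinearMap.ext
    intro v
    rw [ModuleCat.hom_sum, LinearMap.sum_apply]
    simp only [ModuleCat.hom_smul, LinearMap.smul_apply, ModuleCat.hom_ofHom,
      LinearMap.proj_apply, ModuleCat.hom_comp, LinearMap.comp_apply, Submodule.subtype_apply]
    rw [LinearMap.pi_apply_eq_sum_univ g v, Submodule.coe_sum]
    refine Finset.sum_congr rfl fun i _ => ?_
    rw [Submodule.coe_smul, smul_eq_mul, smul_eq_mul, mul_comm]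
  have hA : Tmap ω (ModuleCat.ofHom g ≫ ModuleCat.ofHom (Submodule.subtype q)) (-(d : ℤ)) x = 0 := by
    rw [hh]
    exact Tmap_sum_smul ω _ _ _ _ x (fun i _ => hx _ (g _).2)
  -- step B
  have hB : Tmap ω (ModuleCat.ofHom (Submodule.subtype q)) (-(d : ℤ)) x = 0 := by
    rw [Tmap_comp] at hA
    obtain ⟨x₁, hx₁⟩ := T_exact₃ ω hS₂ (-((d + 1 : ℕ) : ℤ)) (-(d : ℤ)) (by push_cast; ring) _ hA
    rw [← hx₁, @Subsingleton.elim _ h4 x₁ 0, map_zero]
  -- step C
  obtain ⟨x₃, hx₃⟩ := T_exact₂ ω hS₁ (-(d : ℤ)) x hB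
  rw [← hx₃, @Subsingleton.elim _ h2 x₃ 0, map_zero]

end

end Groth.Agent.Lib.Helper4.DT
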