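import Mathlib
import Groth.Agent.Lib.Helper4.CanonMod4

/-!
# Finite modules with isomorphic reductions modulo all powers of the maximal ideal (helper4)

* `exists_lift_mod`: (Artin–Rees) a linear map `K → K'/I^t K'` lifts to `K → K'` modulo `I^{t-c}`;
* `nonempty_linearEquiv_of_forall_quot`: finite modules over a Noetherian local ring whose
  reductions modulo `m^t` are isomorphic for all `t` are isomorphic;
* `nonempty_quot_equiv_of_dual_equiv`: isomorphic Matlis duals give isomorphic reductions;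
* `nonempty_linearEquiv_of_dual_equiv`: finite modules with isomorphic Matlis duals are isomorphic.
-/

set_option autoImplicit false
set_option linter.style.haveILetI false
set_option linter.unusedSectionVars false
set_option linter.unusedVariables false
set_option maxHeartbeats 800000

open CategoryTheory Limits Opposite Abelian IsLocalRing Pointwise

universe u

namespace Groth.Agent.Lib.Helper4.CanonMod

open Groth.Agent.Lib.Helper4 Groth.Agent.Lib.Helper4.LC Groth.Agent.Lib.Helper4.Falt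
  Groth.Agent.Lib.Helper4.EW

section lift

variable {R : Type u} [CommRing R]

lemma map_mem_smul_top {X Y : Type*} [AddCommGroup X] [Module R X] [AddCommGroup Y] [Module R Y]
    (φ : X →ₗ[R] Y) (J : Ideal R) {x : X} (hx : x ∈ J • (⊤ : Submodule R X)) :
    φ x ∈ J • (⊤ : Submodule R Y) := by
  have h1 : φ x ∈ (J • (⊤ : Submodule R X)).map φ := Submodule.mem_map_of_mem hx
  rw [Submodule.map_smul''] at h1
  exact (_root_.smul_mono_right J le_top : J • (⊤ : Submodule R X).map φ ≤ J • ⊤) h1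

lemma pi_mem_smul_top {b : ℕ} {Y : Type*} [AddCommGroup Y] [Module R Y] (J : Ideal R)
    (y : Fin b → Y) (hy : ∀ i, y i ∈ J • (⊤ : Submodule R Y)) :
    y ∈ J • (⊤ : Submodule R (Fin b → Y)) := by
  have h1 : y = ∑ i : Fin b, LinearMap.single R (fun _ : Fin b => Y) i (y i) := by
    ext j
    rw [Finset.sum_apply]
    simp [Pi.single_apply]
  rw [h1]
  exact Submodule.sum_mem _ (fun i _ => map_mem_smul_top _ J (hy i))

variable [IsNoetherianRing R]

/-- **Lifting modulo powers** (Artin–Rees). -/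
theorem exists_lift_mod (I : Ideal R) (K K' : Type u) [AddCommGroup K] [Module R K]
    [AddCommGroup K'] [Module R K'] [Module.Finite R K] [Module.Finite R K'] :
    ∃ c : ℕ, ∀ t, c ≤ t → ∀ β : K →ₗ[R] K' ⧸ (I ^ t • (⊤ : Submodule R K')),
      ∃ α : K →ₗ[R] K', ∀ x : K, ∃ y : K', Submodule.Quotient.mk y = β x ∧
        α x - y ∈ I ^ (t - c) • (⊤ : Submodule R K') := by
  obtain ⟨a, π, hπ⟩ := Module.Finite.exists_fin' R K
  obtain ⟨b, l, hl⟩ := Submodule.fg_iff_exists_fin_generating_family.1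
    (IsNoetherian.noetherian (LinearMap.ker π))
  let Λ : ((Fin a → R) →ₗ[R] K') →ₗ[R] (Fin b → K') :=
    LinearMap.pi (fun i => LinearMap.applyₗ (l i))
  have hΛ : ∀ (ψ : (Fin a → R) →ₗ[R] K') (i : Fin b), Λ ψ i = ψ (l i) := fun ψ i => rfl
  obtain ⟨c, hc⟩ := Ideal.exists_pow_inf_eq_pow_smul I (LinearMap.range Λ)
  refine ⟨c, fun t ht β => ?_⟩
  obtain ⟨ψ₀, hψ₀⟩ := Module.projective_lifting_property
    (I ^ t • (⊤ : Submodule R K')).mkQ (β ∘ₗ π) (Submodule.mkQ_surjective _)
  have hψ₀' : ∀ p, Submodule.Quotient.mk (ψ₀ p) = β (π p) := fun p =>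
    DFunLike.congr_fun hψ₀ p
  have h1 : Λ ψ₀ ∈ I ^ t • (⊤ : Submodule R (Fin b → K')) ⊓ LinearMap.range Λ := by
    refine ⟨pi_mem_smul_top _ _ (fun i => ?_), LinearMap.mem_range_self Λ ψ₀⟩
    rw [hΛ, ← Submodule.Quotient.mk_eq_zero, hψ₀']
    have hmem : l i ∈ LinearMap.ker π := by
      rw [← hl]
      exact Submodule.subset_span (Set.mem_range_self i)
    rw [LinearMap.mem_ker.1 hmem, map_zero]
  rw [hc t ht] at h1
  have h2 : Λ ψ₀ ∈ I ^ (t - c) • LinearMap.range Λ :=
    (_root_.smul_mono_right _ inf_le_right :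
      I ^ (t - c) • (I ^ c • (⊤ : Submodule R (Fin b → K')) ⊓ LinearMap.range Λ) ≤
        I ^ (t - c) • LinearMap.range Λ) h1
  rw [LinearMap.range_eq_map, ← Submodule.map_smul''] at h2
  obtain ⟨ζ, hζ, hζΛ⟩ := h2
  have hker : LinearMap.ker π ≤ LinearMap.ker (ψ₀ - ζ) := by
    rw [← hl, Submodule.span_le]
    rintro _ ⟨i, rfl⟩
    rw [SetLike.mem_coe, LinearMap.mem_ker, LinearMap.sub_apply, ← hΛ ψ₀ i, ← hΛ ζ i, hζΛ,
      sub_self]
  obtain ⟨α, hα⟩ := exists_factor_of_ker_le π hπ (ψ₀ - ζ) hker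
  refine ⟨α, fun x => ?_⟩
  obtain ⟨p, rfl⟩ := hπ x
  refine ⟨ψ₀ p, hψ₀' p, ?_⟩
  have h3 : α (π p) = ψ₀ p - ζ p := DFunLike.congr_fun hα p
  rw [h3, sub_sub_cancel_left]
  exact Submodule.neg_mem _ (map_mem_smul_top (LinearMap.applyₗ p) _ hζ)

end lift

section iso

variable {R : Type u} [CommRing R] [IsLocalRing R] [IsNoetherianRing R]

/-- a linear map which is surjective modulo `m` (via lifts) is surjective. -/
lemma surjective_of_forall_exists (K K' : Type u) [AddCommGroup K] [Module R K]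
    [AddCommGroup K'] [Module R K'] [Module.Finite R K'] (α : K →ₗ[R] K')
    (h : ∀ y' : K', ∃ x : K, α x - y' ∈ maximalIdeal R • (⊤ : Submodule R K')) :
    Function.Surjective α := by
  rw [← LinearMap.range_eq_top, eq_top_iff]
  apply Submodule.le_of_le_smul_of_le_jacobson_bot (I := maximalIdeal R) Module.Finite.fg_top
    (by rw [IsLocalRing.jacobson_eq_maximalIdeal ⊥ bot_ne_top])
  intro y' _
  obtain ⟨x, hx⟩ := h y'
  have h1 : y' = α x - (α x - y') := by abel
  rw [h1]
  exact Submodule.sub_mem _ (Submodule.mem_sup_left (LinearMap.mem_range_self α x))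
    (Submodule.mem_sup_right hx)

/-- a lift of a surjection `K/m^t → K'/m^t` modulo `m` is surjective. -/
lemma exists_surjective_of_quot_surjective (K K' : Type u) [AddCommGroup K] [Module R K]
    [AddCommGroup K'] [Module R K'] [Module.Finite R K] [Module.Finite R K']
    (h : ∀ t, ∃ e : (K ⧸ (maximalIdeal R ^ t • (⊤ : Submodule R K))) →ₗ[R]
      (K' ⧸ (maximalIdeal R ^ t • (⊤ : Submodule R K'))), Function.Surjective e) :
    ∃ α : K →ₗ[R] K', Function.Surjective α := by
  obtain ⟨c, hc⟩ := exists_lift_mod (maximalIdeal R) K K'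
  obtain ⟨e, he⟩ := h (c + 1)
  obtain ⟨α, hα⟩ := hc (c + 1) (Nat.le_succ c)
    (e ∘ₗ (maximalIdeal R ^ (c + 1) • (⊤ : Submodule R K)).mkQ)
  refine ⟨α, surjective_of_forall_exists K K' α (fun y' => ?_)⟩
  obtain ⟨q, hq⟩ := he (Submodule.Quotient.mk y')
  obtain ⟨x, rfl⟩ := Submodule.Quotient.mk_surjective _ q
  obtain ⟨y, hy, hαy⟩ := hα x
  refine ⟨x, ?_⟩
  have h1 : maximalIdeal R ^ (c + 1 - c) • (⊤ : Submodule R K') ≤
      maximalIdeal R • (⊤ : Submodule R K') := by
    rw [Nat.add_sub_cancel_left, pow_one]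
  have h2 : y - y' ∈ maximalIdeal R ^ (c + 1) • (⊤ : Submodule R K') := by
    rw [← Submodule.Quotient.mk_eq_zero, Submodule.Quotient.mk_sub, hy, sub_eq_zero]
    exact hq
  have h3 : maximalIdeal R ^ (c + 1) • (⊤ : Submodule R K') ≤
      maximalIdeal R • (⊤ : Submodule R K') :=
    Submodule.smul_mono_left (Ideal.pow_le_self (Nat.succ_ne_zero c))
  have h4 : α x - y' = (α x - y) + (y - y') := by abel
  rw [h4]
  exact Submodule.add_mem _ (h1 hαy) (h3 h2)

/-- finite modules over a Noetherian local ring with isomorphic reductions modulo all powers of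
the maximal ideal are isomorphic. -/
theorem nonempty_linearEquiv_of_forall_quot (K K' : Type u) [AddCommGroup K] [Module R K]
    [AddCommGroup K'] [Module R K'] [Module.Finite R K] [Module.Finite R K']
    (h : ∀ t, Nonempty ((K ⧸ (maximalIdeal R ^ t • (⊤ : Submodule R K))) ≃ₗ[R]
      (K' ⧸ (maximalIdeal R ^ t • (⊤ : Submodule R K'))))) :
    Nonempty (K ≃ₗ[R] K') := by
  obtain ⟨α, hα⟩ := exists_surjective_of_quot_surjective K K' (fun t => by
    obtain ⟨e⟩ := h t
    exact ⟨e.toLinearMap, e.surjective⟩)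
  obtain ⟨α', hα'⟩ := exists_surjective_of_quot_surjective K' K (fun t => by
    obtain ⟨e⟩ := h t
    exact ⟨e.symm.toLinearMap, e.symm.surjective⟩)
  have hinj : Function.Injective (α' ∘ₗ α) :=
    IsNoetherian.injective_of_surjective_endomorphism (α' ∘ₗ α) (hα'.comp hα)
  have hαinj : Function.Injective α := fun x y hxy => hinj (by
    rw [LinearMap.comp_apply, LinearMap.comp_apply, hxy])
  exact ⟨LinearEquiv.ofBijective α ⟨hαinj, hα⟩⟩

end iso

section dual

variable {R : Type u} [CommRing R] [IsLocalRing R] [IsNoetherianRing R]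
  {E : Type u} [AddCommGroup E] [Module R E]
  (f : ResidueField R →ₗ[R] E) (hf : InjHull.IsInjectiveHull f)

omit [IsLocalRing R] [IsNoetherianRing R] in
/-- the dual of `K/IK` inside the dual of `K`. -/
lemma mem_range_lcomp_mkQ_iff (I : Ideal R) (K : Type u) [AddCommGroup K] [Module R K]
    (ψ : K →ₗ[R] E) :
    ψ ∈ LinearMap.range (LinearMap.lcomp R E (I • (⊤ : Submodule R K)).mkQ) ↔
      ∀ r ∈ I, r • ψ = 0 := by
  constructor
  · rintro ⟨φ, rfl⟩ r hr
    apply LinearMap.ext
    intro x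
    rw [LinearMap.smul_apply, LinearMap.lcomp_apply, ← map_smul, ← map_smul,
      LinearMap.zero_apply]
    have hmem : r • x ∈ I • (⊤ : Submodule R K) := Submodule.smul_mem_smul hr Submodule.mem_top
    rw [Submodule.mkQ_apply, (Submodule.Quotient.mk_eq_zero _).2 hmem, map_zero]
  · intro h
    have hker : I • (⊤ : Submodule R K) ≤ LinearMap.ker ψ := by
      rw [Submodule.smul_le]
      intro r hr x _
      rw [LinearMap.mem_ker, map_smul, ← LinearMap.smul_apply, h r hr, LinearMap.zero_apply]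
    refine ⟨(I • (⊤ : Submodule R K)).liftQ ψ hker, ?_⟩
    apply LinearMap.ext
    intro x
    rw [LinearMap.lcomp_apply]
    exact Submodule.liftQ_apply _ _ _

include hf in
/-- isomorphic Matlis duals give isomorphic reductions modulo powers of the maximal ideal. -/
theorem nonempty_quot_equiv_of_dual_equiv (K K' : Type u) [AddCommGroup K] [Module R K]
    [AddCommGroup K'] [Module R K'] [Module.Finite R K] [Module.Finite R K']
    (θ : (K →ₗ[R] E) ≃ₗ[R] (K' →ₗ[R] E)) (t : ℕ) :
    Nonempty ((K ⧸ (maximalIdeal R ^ t • (⊤ : Submodule R K))) ≃ₗ[R]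
      (K' ⧸ (maximalIdeal R ^ t • (⊤ : Submodule R K')))) := by
  have hfl : ∀ (X : Type u) [AddCommGroup X] [Module R X] [Module.Finite R X],
      IsFiniteLength R (X ⧸ (maximalIdeal R ^ t • (⊤ : Submodule R X))) := by
    intro X _ _ _
    refine Groth.Agent.Lib.Helper4.Falt.isFiniteLength_of_finite_of_kills _ ⟨t, fun r hr q => ?_⟩
    obtain ⟨x, rfl⟩ := Submodule.Quotient.mk_surjective _ q
    rw [← Submodule.Quotient.mk_smul, Submodule.Quotient.mk_eq_zero]
    exact Submodule.smul_mem_smul hr Submodule.mem_top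
  have hΦinj : ∀ (X : Type u) [AddCommGroup X] [Module R X],
      Function.Injective (LinearMap.lcomp R E
        (maximalIdeal R ^ t • (⊤ : Submodule R X)).mkQ) := fun X _ _ =>
    LinearMap.lcomp_injective_of_surjective _ (Submodule.mkQ_surjective _)
  have hinj2 : Function.Injective (θ.symm.toLinearMap ∘ₗ (LinearMap.lcomp R E
      (maximalIdeal R ^ t • (⊤ : Submodule R K')).mkQ)) :=
    θ.symm.injective.comp (hΦinj K')
  have hrange : LinearMap.range (LinearMap.lcomp R E
      (maximalIdeal R ^ t • (⊤ : Submodule R K)).mkQ) =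
      LinearMap.range (θ.symm.toLinearMap ∘ₗ (LinearMap.lcomp R E
        (maximalIdeal R ^ t • (⊤ : Submodule R K')).mkQ)) := by
    ext ψ
    rw [mem_range_lcomp_mkQ_iff]
    constructor
    · intro h
      have h1 : θ ψ ∈ LinearMap.range (LinearMap.lcomp R E
          (maximalIdeal R ^ t • (⊤ : Submodule R K')).mkQ) := by
        rw [mem_range_lcomp_mkQ_iff]
        intro r hr
        rw [← map_smul, h r hr, map_zero]
      obtain ⟨φ, hφ⟩ := h1
      refine ⟨φ, ?_⟩
      rw [LinearMap.comp_apply, hφ]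
      exact θ.symm_apply_apply ψ
    · rintro ⟨φ, rfl⟩ r hr
      rw [LinearMap.comp_apply, LinearEquiv.coe_coe, ← map_smul]
      have h1 := (mem_range_lcomp_mkQ_iff (maximalIdeal R ^ t) K' _).1
        (LinearMap.mem_range_self (LinearMap.lcomp R E
          (maximalIdeal R ^ t • (⊤ : Submodule R K')).mkQ) φ) r hr
      rw [h1, map_zero]
  have d : ((K ⧸ (maximalIdeal R ^ t • (⊤ : Submodule R K))) →ₗ[R] E) ≃ₗ[R]
      ((K' ⧸ (maximalIdeal R ^ t • (⊤ : Submodule R K'))) →ₗ[R] E) :=
    (LinearEquiv.ofInjective _ (hΦinj K)).trans ((LinearEquiv.ofEq _ _ hrange).trans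
      (LinearEquiv.ofInjective _ hinj2).symm)
  have ev : ∀ (X : Type u) [AddCommGroup X] [Module R X] [Module.Finite R X],
      (X ⧸ (maximalIdeal R ^ t • (⊤ : Submodule R X))) ≃ₗ[R]
      (((X ⧸ (maximalIdeal R ^ t • (⊤ : Submodule R X))) →ₗ[R] E) →ₗ[R] E) :=
    fun X _ _ _ => LinearEquiv.ofBijective LinearMap.applyₗ
      (Groth.Agent.Lib.Helper1.Matlis.applyₗ_bijective_of_isFiniteLength f hf _ (hfl X))
  exact ⟨(ev K).trans ((LinearEquiv.congrLeft E R d).trans (ev K').symm)⟩

include hf in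
/-- **finite modules with isomorphic Matlis duals are isomorphic.** -/
theorem nonempty_linearEquiv_of_dual_equiv (K K' : Type u) [AddCommGroup K] [Module R K]
    [AddCommGroup K'] [Module R K'] [Module.Finite R K] [Module.Finite R K']
    (θ : (K →ₗ[R] E) ≃ₗ[R] (K' →ₗ[R] E)) : Nonempty (K ≃ₗ[R] K') :=
  nonempty_linearEquiv_of_forall_quot K K'
    (fun t => nonempty_quot_equiv_of_dual_equiv f hf K K' θ t)

end dual

end Groth.Agent.Lib.Helper4.CanonMod
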