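import Mathlib
import Groth.Agent.Lib.Helper4.QuotCanon
import Groth.Agent.Lib.Helper4.CanonS2
import Groth.Agent.Lib.Helper4.ModIso

/-!
# Localization of canonical modules (helper4)

`R` a quotient of a Gorenstein local ring `B`, `K` a canonical module of `R`, `p ∈ Supp K`:
then `K_p` is a canonical module of `R_p` (`canonMod_localization`).

Ingredients: `nonempty_localizedModule_equiv` (recognising a localization from a semilinear map),
`nonempty_localizedModule_KExt_equiv` (`Ext^c_B(R,B)_p ≅ Ext^c_{B_P}(R_p, B_P)`).
-/

set_option autoImplicit false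
set_option linter.style.haveILetI false
set_option linter.unusedSectionVars false
set_option linter.unusedVariables false
set_option maxHeartbeats 800000

open CategoryTheory Limits Opposite Abelian IsLocalRing

universe u

namespace Groth.Agent.Lib.Helper4.CanonLoc

open Groth.Agent.Lib.Helper4 Groth.Agent.Lib.Helper4.LC Groth.Agent.Lib.Helper4.StalkDual
  Groth.Agent.Lib.Helper4.QuotCanon Groth.Agent.Lib.Helper4.ExtLoc

section transport

variable {R : Type u} [CommRing R] (S : Submonoid R)
  {X : Type u} [AddCommGroup X] [Module R X]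
  {Y : Type u} [AddCommGroup Y] [Module (Localization S) Y]

/-- recognising a localization from a semilinear map. -/
theorem nonempty_localizedModule_equiv (Φ : X →+ Y)
    (hsemi : ∀ (r : R) (x : X), Φ (r • x) = algebraMap R (Localization S) r • Φ x)
    (hPS : ∀ y : Y, ∃ (x : X) (s : S), algebraMap R (Localization S) (s : R) • y = Φ x)
    (hPI : ∀ x : X, Φ x = 0 → ∃ s : S, (s : R) • x = 0) :
    Nonempty (LocalizedModule S X ≃ₗ[Localization S] Y) := by
  letI : Module R Y := Module.compHom Y (algebraMap R (Localization S))
  haveI : IsScalarTower R (Localization S) Y :=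
    IsScalarTower.of_algebraMap_smul (fun _ _ => rfl)
  let Φl : X →ₗ[R] Y :=
    { toFun := Φ
      map_add' := map_add Φ
      map_smul' := fun r x => by
        rw [RingHom.id_apply, hsemi]
        rfl }
  haveI : IsLocalizedModule S Φl := by
    refine ⟨?_, ?_, ?_⟩
    · intro s
      have hu : IsUnit (algebraMap R (Localization S) (s : R)) := IsLocalization.map_units _ s
      rw [Module.End.isUnit_iff]
      constructor
      · intro y₁ y₂ h
        change algebraMap R (Localization S) (s : R) • y₁ =
          algebraMap R (Localization S) (s : R) • y₂ at h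
        exact hu.smul_left_cancel.1 h
      · intro y
        obtain ⟨v, hv⟩ := hu
        refine ⟨(↑v⁻¹ : Localization S) • y, ?_⟩
        change algebraMap R (Localization S) (s : R) • ((↑v⁻¹ : Localization S) • y) = y
        rw [← hv, smul_smul, Units.mul_inv, one_smul]
    · intro y
      obtain ⟨x, s, h⟩ := hPS y
      exact ⟨⟨x, s⟩, h⟩
    · intro x₁ x₂ h
      have h0 : Φ (x₁ - x₂) = 0 := by
        rw [map_sub, sub_eq_zero]
        exact h
      obtain ⟨s, hs⟩ := hPI _ h0
      refine ⟨s, ?_⟩
      rw [smul_sub, sub_eq_zero] at hs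
      exact hs
  exact ⟨(IsLocalizedModule.iso S Φl).extendScalarsOfIsLocalization S (Localization S)⟩

end transport

section ringmap

/-- the complement of the contraction of `p`. -/
abbrev SP (B : Type u) {R : Type u} [CommRing B] [CommRing R] [Algebra B R] (p : Ideal R)
    [p.IsPrime] : Submonoid B := (p.comap (algebraMap B R)).primeCompl

/-- localization of `B` at the contraction of `p`. -/
abbrev BP (B : Type u) {R : Type u} [CommRing B] [CommRing R] [Algebra B R] (p : Ideal R)
    [p.IsPrime] : Type u := Localization.AtPrime (p.comap (algebraMap B R))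

variable {B R : Type u} [CommRing B] [CommRing R] [Algebra B R]
  (hsurj : Function.Surjective (algebraMap B R)) (p : Ideal R) [p.IsPrime]

/-- the induced map `B_P → R_p`. -/
noncomputable def locMap : BP B p →+* Localization.AtPrime p :=
  Localization.localRingHom (p.comap (algebraMap B R)) p (algebraMap B R) rfl

lemma locMap_algebraMap (b : B) :
    locMap p (algebraMap B (BP B p) b) = algebraMap R (Localization.AtPrime p) (algebraMap B R b) :=
  Localization.localRingHom_to_map _ _ _ _ b

include hsurj in
lemma locMap_surjective : Function.Surjective (locMap (B := B) p) := by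
  intro y
  obtain ⟨r, s, rfl⟩ := IsLocalization.exists_mk'_eq p.primeCompl y
  obtain ⟨b, rfl⟩ := hsurj r
  obtain ⟨t, ht⟩ := hsurj (s : R)
  have htP : t ∈ (p.comap (algebraMap B R)).primeCompl := by
    show ¬ (t ∈ p.comap (algebraMap B R))
    rw [Ideal.mem_comap, ht]
    exact s.2
  refine ⟨IsLocalization.mk' _ b ⟨t, htP⟩, ?_⟩
  rw [locMap, Localization.localRingHom_mk']
  congr 1
  exact Subtype.ext ht

end ringmap

section extloc

variable {B R : Type u} [CommRing B] [IsNoetherianRing B] [CommRing R] [Algebra B R]
  (hsurj : Function.Surjective (algebraMap B R)) (p : Ideal R) [p.IsPrime]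
  [Algebra (BP B p) (Localization.AtPrime p)]
  (halg : algebraMap (BP B p) (Localization.AtPrime p) = locMap p)
  (c : ℕ) [Module R (KExt B R c)] [IsScalarTower B R (KExt B R c)]
  [Module (Localization.AtPrime p) (KExt (BP B p) (Localization.AtPrime p) c)]
  [IsScalarTower (BP B p) (Localization.AtPrime p) (KExt (BP B p) (Localization.AtPrime p) c)]

include hsurj halg in
/-- **`Ext^c_B(R, B)_p ≅ Ext^c_{B_P}(R_p, B_P)`**. -/
theorem nonempty_localizedModule_KExt_equiv :
    Nonempty (LocalizedModule p.primeCompl (KExt B R c) ≃ₗ[Localization.AtPrime p]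
      KExt (BP B p) (Localization.AtPrime p) c) := by
  classical
  haveI : Module.Finite B R := Module.Finite.of_surjective (Algebra.linearMap B R) hsurj
  have hcomp : ∀ b : B, algebraMap (BP B p) (Localization.AtPrime p) (algebraMap B (BP B p) b) =
      algebraMap R (Localization.AtPrime p) (algebraMap B R b) := by
    intro b
    rw [halg]
    exact locMap_algebraMap p b
  have hmemS : ∀ t : B, algebraMap B R t ∈ p.primeCompl → t ∈ SP B p := fun t ht => ht
  obtain ⟨α''⟩ : Nonempty (LocalizedModule (SP B p) R ≃ₗ[Localization (SP B p)]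
      Localization.AtPrime p) := by
    refine nonempty_localizedModule_equiv (SP B p) (X := R) (Y := Localization.AtPrime p)
      (algebraMap R (Localization.AtPrime p)).toAddMonoidHom ?_ ?_ ?_
    · intro b r
      show algebraMap R (Localization.AtPrime p) (b • r) =
        algebraMap B (BP B p) b • algebraMap R (Localization.AtPrime p) r
      rw [Algebra.smul_def, map_mul, Algebra.smul_def, hcomp]
    · intro y
      obtain ⟨r, s, rfl⟩ := IsLocalization.exists_mk'_eq p.primeCompl y
      obtain ⟨t, ht⟩ := hsurj (s : R)
      have htS : t ∈ SP B p := hmemS t (by rw [ht]; exact s.2)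
      refine ⟨r, ⟨t, htS⟩, ?_⟩
      show algebraMap B (BP B p) t • IsLocalization.mk' (Localization.AtPrime p) r s =
        algebraMap R (Localization.AtPrime p) r
      rw [Algebra.smul_def, hcomp, ht, IsLocalization.mk'_spec']
    · intro r hr
      have hr' : algebraMap R (Localization.AtPrime p) r = 0 := hr
      obtain ⟨s, hs⟩ := (IsLocalization.map_eq_zero_iff p.primeCompl _ r).1 hr'
      obtain ⟨t, ht⟩ := hsurj (s : R)
      have htS : t ∈ SP B p := hmemS t (by rw [ht]; exact s.2)
      refine ⟨⟨t, htS⟩, ?_⟩
      show t • r = 0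
      rw [Algebra.smul_def, ht]
      exact hs
  let α : (LF (SP B p)).obj (ModuleCat.of B R) ≅
      ModuleCat.of (BP B p) (Localization.AtPrime p) :=
    lfIso (SP B p) R ≪≫ α''.toModuleIso
  let β : (LF (SP B p)).obj (ModuleCat.of B B) ≅ ModuleCat.of (BP B p) (BP B p) :=
    lfIsoSelf (SP B p)
  let ε : Ext.{u} ((LF (SP B p)).obj (ModuleCat.of B R)) ((LF (SP B p)).obj (ModuleCat.of B B)) c
      ≃ₗ[BP B p] KExt (BP B p) (Localization.AtPrime p) c :=
    (extCongrLeft α _ c).trans (extCongrRight _ β c)
  obtain ⟨hPS, hPI⟩ := ExtLoc.main (SP B p) (ModuleCat.of B B) c R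
  unfold PS at hPS
  unfold PI at hPI
  refine nonempty_localizedModule_equiv p.primeCompl (X := KExt B R c)
    (Y := KExt (BP B p) (Localization.AtPrime p) c)
    { toFun := fun e => ε (e.mapExactFunctor (LF (SP B p)))
      map_zero' := by rw [Ext.mapExactFunctor_zero, map_zero]
      map_add' := fun a b => by rw [Ext.mapExactFunctor_add, map_add] } ?_ ?_ ?_
  · intro r x
    obtain ⟨b, rfl⟩ := hsurj r
    show ε ((algebraMap B R b • x).mapExactFunctor (LF (SP B p))) =
      algebraMap R (Localization.AtPrime p) (algebraMap B R b) •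
        ε (x.mapExactFunctor (LF (SP B p)))
    rw [algebraMap_smul R b x, Phi_smul, map_smul, ← hcomp,
      algebraMap_smul (Localization.AtPrime p)]
  · intro y
    obtain ⟨e, s, hes⟩ := hPS (ε.symm y)
    refine ⟨e, ⟨algebraMap B R (s : B), s.2⟩, ?_⟩
    show algebraMap R (Localization.AtPrime p) (algebraMap B R (s : B)) • y =
      ε (e.mapExactFunctor (LF (SP B p)))
    rw [← hes, map_smul, LinearEquiv.apply_symm_apply, ← hcomp,
      algebraMap_smul (Localization.AtPrime p)]
  · intro e he
    have he' : e.mapExactFunctor (LF (SP B p)) = 0 := by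
      apply ε.injective
      rw [map_zero]
      exact he
    obtain ⟨s, hs⟩ := hPI e he'
    refine ⟨⟨algebraMap B R (s : B), s.2⟩, ?_⟩
    show algebraMap B R (s : B) • e = 0
    rw [algebraMap_smul R (s : B) e]
    exact hs

end extloc

section main

variable {B R : Type u} [CommRing B] [LocCoh.IsGorensteinLocalRing B] [CommRing R] [IsLocalRing R]
  [IsNoetherianRing R] [Algebra B R] (hsurj : Function.Surjective (algebraMap B R))
  {E : Type u} [AddCommGroup E] [Module R E] [Module B E] [IsScalarTower B R E]
  (f : ResidueField R →ₗ[R] E) (hf : InjHull.IsInjectiveHull f)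

include hsurj hf in
/-- **localization of a canonical module is canonical** (over a quotient of a Gorenstein local
ring, at primes of the support). -/
theorem canonMod_localization (n : ℕ) (hn : ringKrullDim R = n)
    (K : Type u) [AddCommGroup K] [Module R K] [Module.Finite R K]
    (eK : (K →ₗ[R] E) ≃ₗ[R] LocCoh.H (maximalIdeal R) n R)
    (p : Ideal R) [p.IsPrime] (hp : Nontrivial (LocalizedModule p.primeCompl K))
    (h : ℕ) (hh : ringKrullDim (Localization.AtPrime p) = h)
    (E' : Type u) [AddCommGroup E'] [Module (Localization.AtPrime p) E']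
    (f' : ResidueField (Localization.AtPrime p) →ₗ[Localization.AtPrime p] E')
    (hf' : InjHull.IsInjectiveHull f') :
    Nonempty ((LocalizedModule p.primeCompl K →ₗ[Localization.AtPrime p] E') ≃ₗ[Localization.AtPrime p]
      LocCoh.H (maximalIdeal (Localization.AtPrime p)) h (Localization.AtPrime p)) := by
  classical
  obtain ⟨n', hn'⟩ := gor_exists_nat_dim B
  have hle : n ≤ n' := by
    have := ringKrullDim_le_of_surjective (algebraMap B R) hsurj
    rw [hn, hn'] at this
    exact_mod_cast this
  obtain ⟨c, hc⟩ : ∃ c, n + c = n' := ⟨n' - n, by omega⟩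
  -- the canonical module `X = Ext^c_B(R, B)` of `R`
  have hK := KExt_smul_eq_zero (R := R) hsurj c
  letI : Module R (KExt B R c) := quotModule hsurj (KExt B R c) hK
  haveI : IsScalarTower B R (KExt B R c) :=
    IsScalarTower.of_algebraMap_smul
      (fun b t => quotModule_algebraMap_smul hsurj (KExt B R c) hK b t)
  haveI : Module.Finite R (KExt B R c) := KExt_finite hsurj c
  obtain ⟨eX⟩ := canonMod_KExt hsurj f hf n hn n' hn' c hc
  obtain ⟨eKX⟩ := CanonMod.nonempty_linearEquiv_of_dual_equiv f hf K (KExt B R c)
    (eK.trans eX.symm)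
  -- the localized situation
  haveI : LocCoh.IsGorensteinLocalRing (BP B p) :=
    gor_isGorensteinLocalRing_localization B (p.comap (algebraMap B R))
  letI : Algebra (BP B p) (Localization.AtPrime p) := (locMap (B := B) p).toAlgebra
  have halg : algebraMap (BP B p) (Localization.AtPrime p) = locMap p := rfl
  have hsurj' : Function.Surjective (algebraMap (BP B p) (Localization.AtPrime p)) :=
    locMap_surjective hsurj p
  letI : Module (BP B p) E' :=
    Module.compHom E' (algebraMap (BP B p) (Localization.AtPrime p))
  haveI : IsScalarTower (BP B p) (Localization.AtPrime p) E' :=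
    IsScalarTower.of_algebraMap_smul (fun _ _ => rfl)
  have hK' := KExt_smul_eq_zero (R := Localization.AtPrime p) hsurj' c
  letI : Module (Localization.AtPrime p) (KExt (BP B p) (Localization.AtPrime p) c) :=
    quotModule hsurj' _ hK'
  haveI : IsScalarTower (BP B p) (Localization.AtPrime p)
      (KExt (BP B p) (Localization.AtPrime p) c) :=
    IsScalarTower.of_algebraMap_smul
      (fun b t => quotModule_algebraMap_smul hsurj' _ hK' b t)
  obtain ⟨eXY⟩ := nonempty_localizedModule_KExt_equiv hsurj p halg c
  let eKp : LocalizedModule p.primeCompl K ≃ₗ[Localization.AtPrime p]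
      LocalizedModule p.primeCompl (KExt B R c) :=
    IsLocalizedModule.mapEquiv p.primeCompl (LocalizedModule.mkLinearMap p.primeCompl K)
      (LocalizedModule.mkLinearMap p.primeCompl (KExt B R c)) (Localization.AtPrime p) eKX
  -- dimensions
  obtain ⟨N', e₀, hN', he₀, hsum⟩ := gor_prime_facts B n' hn' (p.comap (algebraMap B R))
  have hdim1 : h + e₀ ≤ n := by
    have h1 := CanonMod.height_add_ringKrullDim_quotient_le (⟨p, inferInstance⟩ : PrimeSpectrum R)
    have h2 : ringKrullDim (Localization.AtPrime p) = p.height :=
      IsLocalization.AtPrime.ringKrullDim_eq_height p (Localization.AtPrime p)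
    have h3 : ringKrullDim (R ⧸ p) = e₀ := by
      rw [← he₀]
      have hq : Function.Bijective (Ideal.quotientMap p (algebraMap B R) le_rfl) :=
        ⟨Ideal.quotientMap_injective, Ideal.quotientMap_surjective hsurj⟩
      exact (ringKrullDim_eq_of_ringEquiv (RingEquiv.ofBijective _ hq)).symm
    rw [hh] at h2
    have h4 : ((p.height : ℕ∞) : WithBot ℕ∞) = ((h : ℕ) : WithBot ℕ∞) := h2.symm
    change ((p.height : ℕ∞) : WithBot ℕ∞) + ringKrullDim (R ⧸ p) ≤ ringKrullDim R at h1
    rw [hn, h3, h4] at h1
    exact_mod_cast h1
  have hle2 : h + c ≤ N' := by omega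
  have heq : h + c = N' := by
    by_contra hne
    have hlt : h + c < N' := lt_of_le_of_ne hle2 hne
    have hj : (N' - c) + c = N' := by omega
    haveI : Module.Finite (BP B p) (Localization.AtPrime p) :=
      Module.Finite.of_surjective (Algebra.linearMap _ _) hsurj'
    have hHH : Subsingleton (HH (maximalIdeal (BP B p))
        (ModuleCat.of (BP B p) (Localization.AtPrime p)) (N' - c)) := by
      obtain ⟨φ, -⟩ := Groth.Agent.Lib.Helper20.LCIndep2.exists_addEquiv (R := BP B p)
        (Localization.AtPrime p) (maximalIdeal (BP B p)) (Localization.AtPrime p) (N' - c)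
      have hsub : Subsingleton (HH ((maximalIdeal (BP B p)).map
          (algebraMap (BP B p) (Localization.AtPrime p)))
          (ModuleCat.of (Localization.AtPrime p) (Localization.AtPrime p)) (N' - c)) := by
        refine HH.subsingleton_of_ringKrullDim_lt _ _ _ ?_
        rw [hh]
        have : h < N' - c := by omega
        exact_mod_cast this
      exact φ.toEquiv.subsingleton_congr.1 hsub
    have hExt : Subsingleton (KExt (BP B p) (Localization.AtPrime p) c) :=
      (gor_vanishing_iff (BP B p) N' hN' (Localization.AtPrime p) (N' - c) c hj).1 hHH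
    have hXp : Subsingleton (LocalizedModule p.primeCompl (KExt B R c)) :=
      eXY.toEquiv.subsingleton_congr.2 hExt
    have hKp : Subsingleton (LocalizedModule p.primeCompl K) :=
      eKp.toEquiv.subsingleton_congr.2 hXp
    exact (not_subsingleton_iff_nontrivial.2 hp) hKp
  obtain ⟨eY⟩ := canonMod_KExt hsurj' f' hf' h hh N' hN' c heq
  exact ⟨(LinearEquiv.congrLeft E' (Localization.AtPrime p) (eKp.trans eXY)).trans eY⟩

end main

end Groth.Agent.Lib.Helper4.CanonLoc
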