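import Mathlib
import Groth.Agent.Lib.Helper4.CanonLoc
import Groth.Agent.Lib.Helper4.Depth2
import Groth.Agent.Lib.Helper4.CM
import Groth.Agent.S7692
import Groth.Agent.S2935

/-!
# Support of a canonical module (helper4)

* `mem_support_of_height_add_dim_eq` (any Noetherian local ring with a canonical module `K`):
  primes with `ht p + dim R/p = dim R` lie in `Supp K`.
* `height_add_dim_eq_of_mem_support` (quotients of Gorenstein local rings): the converse.
-/

set_option autoImplicit false
set_option linter.style.haveILetI false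
set_option linter.unusedSectionVars false
set_option linter.unusedVariables false
set_option maxHeartbeats 800000

open CategoryTheory Limits Opposite Abelian IsLocalRing

universe u

namespace Groth.Agent.Lib.Helper4.CanonSupp

open Groth.Agent.Lib.Helper4 Groth.Agent.Lib.Helper4.LC Groth.Agent.Lib.Helper4.StalkDual
  Groth.Agent.Lib.Helper4.QuotCanon Groth.Agent.Lib.Helper4.ExtLoc
  Groth.Agent.Lib.Helper4.CanonLoc

section general

variable {R : Type u} [CommRing R] [IsLocalRing R] [IsNoetherianRing R]
  {E : Type u} [AddCommGroup E] [Module R E]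
  (f : ResidueField R →ₗ[R] E) (hf : InjHull.IsInjectiveHull f)

include hf in
/-- a canonical module is nonzero. -/
theorem nontrivial_of_canon (n : ℕ) (hn : ringKrullDim R = n) (K : Type u) [AddCommGroup K]
    [Module R K] [Module.Finite R K]
    (eK : (K →ₗ[R] E) ≃ₗ[R] LocCoh.H (maximalIdeal R) n R) : Nontrivial K := by
  have hsd : Module.supportDim R R = n := by rw [Module.supportDim_self_eq_ringKrullDim, hn]
  haveI hnt := Groth.Agent.S2935.result R R n hsd
  haveI : Nontrivial (K →ₗ[R] E) := eK.toEquiv.nontrivial
  obtain ⟨φ, ψ, hφψ⟩ := exists_pair_ne (K →ₗ[R] E)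
  by_contra h
  rw [not_nontrivial_iff_subsingleton] at h
  apply hφψ
  apply LinearMap.ext
  intro x
  rw [Subsingleton.elim x 0, map_zero, map_zero]

include hf in
/-- primes with `dim R/p = dim R` are in the support of a canonical module. -/
theorem mem_support_of_dim_eq (n : ℕ) (hn : ringKrullDim R = n) (K : Type u) [AddCommGroup K]
    [Module R K] [Module.Finite R K]
    (eK : (K →ₗ[R] E) ≃ₗ[R] LocCoh.H (maximalIdeal R) n R) (p : PrimeSpectrum R)
    (hp : ringKrullDim (R ⧸ p.asIdeal) = n) : p ∈ Module.support R K := by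
  haveI : Nontrivial K := nontrivial_of_canon f hf n hn K eK
  haveI := p.2
  rcases Nat.eq_zero_or_pos n with h0 | hpos
  · subst h0
    have hpm : p.asIdeal = maximalIdeal R := by
      by_contra hne
      have hlt : p.asIdeal < maximalIdeal R :=
        lt_of_le_of_ne (le_maximalIdeal p.2.ne_top) hne
      have h1 := ringKrullDim_quotient_add_one_le_of_lt hlt
      rw [hp] at h1
      have h2 : (0 : WithBot ℕ∞) ≤ ringKrullDim (R ⧸ maximalIdeal R) :=
        ringKrullDim_nonneg_of_nontrivial
      have h3 : (1 : WithBot ℕ∞) ≤ ringKrullDim (R ⧸ maximalIdeal R) + 1 :=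
        le_add_of_nonneg_left h2
      have h4 : ((1 : ℕ) : WithBot ℕ∞) ≤ ((0 : ℕ) : WithBot ℕ∞) := by
        rw [Nat.cast_one]
        exact h3.trans h1
      have h5 : (1 : ℕ) ≤ 0 := by exact_mod_cast h4
      omega
    have hpc : p = closedPoint R := PrimeSpectrum.ext hpm
    rw [hpc]
    exact closedPoint_mem_support R K
  · have hass := Groth.Agent.S7692.result R n hn E f hf K eK hpos
    have hmem : p.asIdeal ∈ associatedPrimes R K := by
      rw [hass]
      exact ⟨p.2, hp⟩
    exact mem_support_of_mem_associatedPrimes hmem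

include hf in
/-- primes with `ht p + dim R/p = dim R` are in the support of a canonical module. -/
theorem mem_support_of_height_add_dim_eq (n : ℕ) (hn : ringKrullDim R = n) (K : Type u)
    [AddCommGroup K] [Module R K] [Module.Finite R K]
    (eK : (K →ₗ[R] E) ≃ₗ[R] LocCoh.H (maximalIdeal R) n R) (p : PrimeSpectrum R)
    (hp : ((p.asIdeal.height : ℕ∞) : WithBot ℕ∞) + ringKrullDim (R ⧸ p.asIdeal) = n) :
    p ∈ Module.support R K := by
  haveI := p.2
  obtain ⟨l, hlast, hlen⟩ := Ideal.exists_ltSeries_length_eq_height p.asIdeal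
  have hlast' : l.last = p := hlast
  have hco := ringKrullDim_quotient_eq_coheight p
  have hle : ringKrullDim (R ⧸ p.asIdeal) ≤ n := by
    rw [← hn]
    exact ringKrullDim_quotient_le _
  obtain ⟨e, he⟩ : ∃ e : ℕ, Order.coheight p = e := by
    have hne : Order.coheight p ≠ ⊤ := by
      intro htop
      rw [hco, htop] at hle
      have h1 : ((⊤ : ℕ∞) : WithBot ℕ∞) ≤ ((n : ℕ∞) : WithBot ℕ∞) := hle
      have h2 : (⊤ : ℕ∞) ≤ (n : ℕ∞) := WithBot.coe_le_coe.1 h1
      exact absurd (top_le_iff.1 h2) (ENat.coe_ne_top n)
    exact ⟨_, (ENat.coe_toNat hne).symm⟩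
  obtain ⟨q, hqhead, hqlen⟩ := Order.exists_series_of_coheight_eq_coe p he
  have hconn : l.last = q.head := by rw [hlast', hqhead]
  have hLlen : (l.smash q hconn).length = l.length + e := by
    rw [RelSeries.smash_length, hqlen]
  have hLhead : (l.smash q hconn).head = l.head := RelSeries.head_smash hconn
  have h1 : ((l.smash q hconn).length : ℕ∞) ≤ Order.coheight (l.smash q hconn).head :=
    Order.length_le_coheight_head
  rw [hLlen, hLhead] at h1
  have h4 : ((p.asIdeal.height : ℕ∞) : WithBot ℕ∞) = ((l.length : ℕ) : WithBot ℕ∞) := by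
    rw [← hlen]
    rfl
  have h5 : ringKrullDim (R ⧸ p.asIdeal) = ((e : ℕ) : WithBot ℕ∞) := by
    rw [hco, he]
    rfl
  have hsum : l.length + e = n := by
    rw [h4, h5] at hp
    exact_mod_cast hp
  have hdim0 : ringKrullDim (R ⧸ l.head.asIdeal) = n := by
    apply le_antisymm
    · rw [← hn]
      exact ringKrullDim_quotient_le _
    · rw [ringKrullDim_quotient_eq_coheight l.head, ← hsum]
      exact WithBot.coe_le_coe.2 h1
  have h0 := mem_support_of_dim_eq f hf n hn K eK l.head hdim0
  have hle2 : l.head ≤ p := hlast' ▸ LTSeries.head_le_last l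
  exact Module.mem_support_mono hle2 h0

end general

section quot

variable {B R : Type u} [CommRing B] [LocCoh.IsGorensteinLocalRing B] [CommRing R] [IsLocalRing R]
  [IsNoetherianRing R] [Algebra B R] (hsurj : Function.Surjective (algebraMap B R))
  {E : Type u} [AddCommGroup E] [Module R E] [Module B E] [IsScalarTower B R E]
  (f : ResidueField R →ₗ[R] E) (hf : InjHull.IsInjectiveHull f)

include hsurj hf in
/-- over a quotient of a Gorenstein local ring, primes in the support of a canonical module
satisfy `ht p + dim R/p = dim R`. -/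
theorem height_add_dim_eq_of_mem_support_aux (n : ℕ) (hn : ringKrullDim R = n)
    (K : Type u) [AddCommGroup K] [Module R K] [Module.Finite R K]
    (eK : (K →ₗ[R] E) ≃ₗ[R] LocCoh.H (maximalIdeal R) n R)
    (p : Ideal R) [p.IsPrime] (hp : Nontrivial (LocalizedModule p.primeCompl K)) :
    ((p.height : ℕ∞) : WithBot ℕ∞) + ringKrullDim (R ⧸ p) = n := by
  classical
  have hne : p.height ≠ ⊤ := Ideal.height_ne_top (Ideal.IsPrime.ne_top ‹_›)
  obtain ⟨h, hh0⟩ : ∃ h : ℕ, p.height = h := ⟨_, (ENat.coe_toNat hne).symm⟩
  have hh : ringKrullDim (Localization.AtPrime p) = h := by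
    rw [IsLocalization.AtPrime.ringKrullDim_eq_height p, hh0]
    rfl
  obtain ⟨n', hn'⟩ := gor_exists_nat_dim B
  have hle : n ≤ n' := by
    have := ringKrullDim_le_of_surjective (algebraMap B R) hsurj
    rw [hn, hn'] at this
    exact_mod_cast this
  obtain ⟨c, hc⟩ : ∃ c, n + c = n' := ⟨n' - n, by omega⟩
  have hK := KExt_smul_eq_zero (R := R) hsurj c
  letI : Module R (KExt B R c) := quotModule hsurj (KExt B R c) hK
  haveI : IsScalarTower B R (KExt B R c) :=
    IsScalarTower.of_algebraMap_smul
      (fun b t => quotModule_algebraMap_smul hsurj (KExt B R c) hK b t)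
  haveI : Module.Finite R (KExt B R c) := KExt_finite hsurj c
  obtain ⟨eX⟩ := canonMod_KExt hsurj f hf n hn n' hn' c hc
  obtain ⟨eKX⟩ := CanonMod.nonempty_linearEquiv_of_dual_equiv f hf K (KExt B R c)
    (eK.trans eX.symm)
  haveI : LocCoh.IsGorensteinLocalRing (BP B p) :=
    gor_isGorensteinLocalRing_localization B (p.comap (algebraMap B R))
  letI : Algebra (BP B p) (Localization.AtPrime p) := (locMap (B := B) p).toAlgebra
  have halg : algebraMap (BP B p) (Localization.AtPrime p) = locMap p := rfl
  have hsurj' : Function.Surjective (algebraMap (BP B p) (Localization.AtPrime p)) :=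
    locMap_surjective hsurj p
  have hK' := KExt_smul_eq_zero (R := Localization.AtPrime p) hsurj' c
  letI : Module (Localization.AtPrime p) (KExt (BP B p) (Localization.AtPrime p) c) :=
    quotModule hsurj' _ hK'
  haveI : IsScalarTower (BP B p) (Localization.AtPrime p)
      (KExt (BP B p) (Localization.AtPrime p) c) :=
    IsScalarTower.of_algebraMap_smul
      (fun b t => quotModule_algebraMap_smul hsurj' _ hK' b t)
  obtain ⟨eXY⟩ := nonempty_localizedModule_KExt_equiv hsurj p halg c
  let eKp : LocalizedModule p.primeCompl K ≃ₗ[Localization.AtPrime p]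
      LocalizedModule p.primeCompl (KExt B R c) :=
    IsLocalizedModule.mapEquiv p.primeCompl (LocalizedModule.mkLinearMap p.primeCompl K)
      (LocalizedModule.mkLinearMap p.primeCompl (KExt B R c)) (Localization.AtPrime p) eKX
  obtain ⟨N', e₀, hN', he₀, hsum⟩ := gor_prime_facts B n' hn' (p.comap (algebraMap B R))
  have h3 : ringKrullDim (R ⧸ p) = e₀ := by
    rw [← he₀]
    have hq : Function.Bijective (Ideal.quotientMap p (algebraMap B R) le_rfl) :=
      ⟨Ideal.quotientMap_injective, Ideal.quotientMap_surjective hsurj⟩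
    exact (ringKrullDim_eq_of_ringEquiv (RingEquiv.ofBijective _ hq)).symm
  have h4 : ((p.height : ℕ∞) : WithBot ℕ∞) = ((h : ℕ) : WithBot ℕ∞) := by
    rw [hh0]
    rfl
  have hdim1 : h + e₀ ≤ n := by
    have h1 := CanonMod.height_add_ringKrullDim_quotient_le (⟨p, inferInstance⟩ : PrimeSpectrum R)
    change ((p.height : ℕ∞) : WithBot ℕ∞) + ringKrullDim (R ⧸ p) ≤ ringKrullDim R at h1
    rw [hn, h3, h4] at h1
    exact_mod_cast h1
  have hle2 : h + c ≤ N' := by omega
  have heq : h + c = N' := by
    by_contra hne
    have hlt : h + c < N' := lt_of_le_of_ne hle2 hne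
    have hj : (N' - c) + c = N' := by omega
    haveI : Module.Finite (BP B p) (Localization.AtPrime p) :=
      Module.Finite.of_surjective (Algebra.linearMap _ _) hsurj'
    have hHH : Subsingleton (HH (maximalIdeal (BP B p))
        (ModuleCat.of (BP B p) (Localization.AtPrime p)) (N' - c)) := by
      obtain ⟨φ, -⟩ := Groth.Agent.Lib.Helper20.LCIndep2.exists_addEquiv (R := BP B p)
        (Localization.AtPrime p) (maximalIdeal (BP B p)) (Localization.AtPrime p) (N' - c)
      have hsub : Subsingleton (HH ((maximalIdeal (BP B p)).map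
          (algebraMap (BP B p) (Localization.AtPrime p)))
          (ModuleCat.of (Localization.AtPrime p) (Localization.AtPrime p)) (N' - c)) := by
        refine HH.subsingleton_of_ringKrullDim_lt _ _ _ ?_
        rw [hh]
        have : h < N' - c := by omega
        exact_mod_cast this
      exact φ.toEquiv.subsingleton_congr.1 hsub
    have hExt : Subsingleton (KExt (BP B p) (Localization.AtPrime p) c) :=
      (gor_vanishing_iff (BP B p) N' hN' (Localization.AtPrime p) (N' - c) c hj).1 hHH
    have hXp : Subsingleton (LocalizedModule p.primeCompl (KExt B R c)) :=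
      eXY.toEquiv.subsingleton_congr.2 hExt
    have hKp : Subsingleton (LocalizedModule p.primeCompl K) :=
      eKp.toEquiv.subsingleton_congr.2 hXp
    exact (not_subsingleton_iff_nontrivial.2 hp) hKp
  have hfin : h + e₀ = n := by omega
  rw [h4, h3]
  exact_mod_cast hfin

end quot

section quot'

variable {B R : Type u} [CommRing B] [LocCoh.IsGorensteinLocalRing B] [CommRing R] [IsLocalRing R]
  [IsNoetherianRing R] (g : B →+* R) (hg : Function.Surjective g)
  {E : Type u} [AddCommGroup E] [Module R E]
  (f : ResidueField R →ₗ[R] E) (hf : InjHull.IsInjectiveHull f)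

include hg hf in
/-- over a quotient of a Gorenstein local ring, primes in the support of a canonical module
satisfy `ht p + dim R/p = dim R`. -/
theorem height_add_dim_eq_of_mem_support (n : ℕ) (hn : ringKrullDim R = n)
    (K : Type u) [AddCommGroup K] [Module R K] [Module.Finite R K]
    (eK : (K →ₗ[R] E) ≃ₗ[R] LocCoh.H (maximalIdeal R) n R)
    (p : Ideal R) [p.IsPrime] (hp : Nontrivial (LocalizedModule p.primeCompl K)) :
    ((p.height : ℕ∞) : WithBot ℕ∞) + ringKrullDim (R ⧸ p) = n := by
  letI : Algebra B R := g.toAlgebra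
  have hsurj : Function.Surjective (algebraMap B R) := hg
  letI : Module B E := Module.compHom E g
  haveI : IsScalarTower B R E := IsScalarTower.of_algebraMap_smul (fun _ _ => rfl)
  exact height_add_dim_eq_of_mem_support_aux hsurj f hf n hn K eK p hp

end quot'

end Groth.Agent.Lib.Helper4.CanonSupp
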