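import Groth.Agent.Lib.Helper4.Unmixed
import Groth.Agent.Lib.Helper4.SerreNormal
import Groth.Agent.Lib.Helper22.CMGlue

/-!
# Complete intersections in regular rings: Cohen–Macaulayness and projective normality (helper4)

* `local_data`: for `J` of height `r` generated by `r` elements in a regular ring `S` and a prime
  `P ⊇ J`, `S_P/J_P` is Cohen–Macaulay of dimension `ht P - r`.
* `cm_quotient`: `S/J` is a Cohen–Macaulay ring.
* `hasSk_of_cm`: Cohen–Macaulay rings satisfy `(S_k)`.
* `isDomain_quotient`: a quotient of `k[x_0..x_n]` by a proper homogeneous ideal which satisfies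
  `(R_1)` and `(S_2)` is a domain.
* `main2`: projective normality of complete intersections which are normal off the vertex.
-/

set_option autoImplicit false
set_option linter.style.haveILetI false
set_option linter.unusedSectionVars false
set_option linter.unusedVariables false
set_option maxHeartbeats 800000

open IsLocalRing RingTheory.Sequence

universe u

namespace Groth.Agent.Lib.Helper4.Unmixed

open Groth.Agent.Lib.Helper4 Groth.Agent.Lib.Helper22.CMG

theorem local_data (S : Type u) [CommRing S] [IsRegularRing S] (r : ℕ) (f : Fin r → S)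
    (hJ : (Ideal.span (Set.range f)).height = r) (P : Ideal S) [P.IsPrime]
    (hJP : Ideal.span (Set.range f) ≤ P) :
    CMat (Ideal.span (Set.range f)) P ∧
      dimAt (Ideal.span (Set.range f)) P + (r : WithBot ℕ∞) = (P.height : WithBot ℕ∞) := by
  have hI : Ideal.ofList (List.ofFn (fun i => algebraMap _ (Localization.AtPrime P) (f i))) =
      (Ideal.span (Set.range f)).map (algebraMap _ (Localization.AtPrime P)) := by
    apply le_antisymm
    · change Ideal.span {x | x ∈ List.ofFn _} ≤ _
      apply Ideal.span_le.2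
      intro x hx
      have hx' : x ∈ List.ofFn (fun i => algebraMap _ (Localization.AtPrime P) (f i)) := hx
      rw [List.mem_ofFn] at hx'
      obtain ⟨i, rfl⟩ := hx'
      exact Ideal.mem_map_of_mem _ (Ideal.subset_span ⟨i, rfl⟩)
    · apply Ideal.map_le_iff_le_comap.2
      apply Ideal.span_le.2
      rintro _ ⟨i, rfl⟩
      change algebraMap _ (Localization.AtPrime P) (f i) ∈ Ideal.span {x | x ∈ List.ofFn _}
      apply Ideal.subset_span
      change _ ∈ List.ofFn _
      rw [List.mem_ofFn]
      exact ⟨i, rfl⟩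
  have hxs : ∀ x ∈ List.ofFn (fun i => algebraMap _ (Localization.AtPrime P) (f i)),
      x ∈ maximalIdeal (Localization.AtPrime P) := by
    intro x hx
    rw [List.mem_ofFn] at hx
    obtain ⟨i, rfl⟩ := hx
    exact (IsLocalization.AtPrime.to_map_mem_maximal_iff (Localization.AtPrime P) P (f i)).mpr
      (hJP (Ideal.subset_span ⟨i, rfl⟩))
  have hlen : (List.ofFn (fun i => algebraMap _ (Localization.AtPrime P) (f i))).length = r :=
    List.length_ofFn
  have hh : (((List.ofFn (fun i => algebraMap _ (Localization.AtPrime P) (f i))).length : ℕ) : ℕ∞) ≤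
      (Ideal.ofList (List.ofFn (fun i => algebraMap _ (Localization.AtPrime P) (f i)))).height := by
    rw [hI, hlen, ← IsLocalization.height_under P.primeCompl, ← hJ]
    exact Ideal.height_mono Ideal.le_comap_map
  obtain ⟨hreg, hCM, hdim⟩ := unmixed_local (Localization.AtPrime P) _ hxs hh
  have hdA : ringKrullDim (Localization.AtPrime P) = P.height :=
    IsLocalization.AtPrime.ringKrullDim_eq_height P (Localization.AtPrime P)
  rw [hlen, hdA] at hdim
  have hsm : (Ideal.ofList (List.ofFn (fun i => algebraMap _ (Localization.AtPrime P) (f i))) •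
      (⊤ : Submodule (Localization.AtPrime P) (Localization.AtPrime P))) =
      (Ideal.span (Set.range f)).map (algebraMap _ (Localization.AtPrime P)) := by
    rw [smul_eq_mul, Ideal.mul_top, hI]
  have e := Submodule.quotEquivOfEq _ _ hsm
  refine ⟨?_, ?_⟩
  · unfold CMat
    exact (cm_congr e).1 hCM
  · unfold dimAt
    rw [← Module.supportDim_eq_of_equiv e]
    exact hdim

theorem cm_quotient (S : Type u) [CommRing S] [IsRegularRing S] (r : ℕ) (f : Fin r → S)
    (hJ : (Ideal.span (Set.range f)).height = r) :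
    LocCoh.IsCohenMacaulayRing (S ⧸ Ideal.span (Set.range f)) :=
  isCMRing_quotient_of_forall _ (fun P _ hP => (local_data S r f hJ P hP).1)

theorem hasSk_of_cm (R : Type u) [CommRing R] [hR : LocCoh.IsCohenMacaulayRing R] (k : ℕ) :
    LocCoh.HasSk k R R := by
  rw [hasSk_self_iff']
  intro p _
  have h := (hR.isCohenMacaulayLocalRing_localization p).supportDim_eq_depth
  rw [Module.supportDim_self_eq_ringKrullDim,
    IsLocalization.AtPrime.ringKrullDim_eq_height p (Localization.AtPrime p)] at h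
  have h' : p.height = LocCoh.depth (Localization.AtPrime p) (Localization.AtPrime p) := by
    exact_mod_cast h
  rw [← h']
  exact min_le_right _ _

section poly

variable (k : Type u) [Field k] (n : ℕ)

theorem hasRk_one (r : ℕ) (hr : r < n) (f : Fin r → MvPolynomial (Fin (n + 1)) k)
    (hJ : (Ideal.span (Set.range f)).height = r)
    (hnorm : ∀ (Q : Ideal (MvPolynomial (Fin (n + 1)) k ⧸ Ideal.span (Set.range f))) [Q.IsPrime],
      (∃ i, Ideal.Quotient.mk (Ideal.span (Set.range f)) (MvPolynomial.X i) ∉ Q) →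
        IsDomain (Localization.AtPrime Q) ∧ IsIntegrallyClosed (Localization.AtPrime Q)) :
    LocCoh.HasRk 1 (MvPolynomial (Fin (n + 1)) k ⧸ Ideal.span (Set.range f)) := by
  intro q _ hq
  by_cases hX : ∃ i, Ideal.Quotient.mk (Ideal.span (Set.range f)) (MvPolynomial.X i) ∉ q
  · obtain ⟨h1, h2⟩ := hnorm q hX
    haveI := h1
    haveI := h2
    apply SerreNormal.isRegularLocalRing_of_normal_of_dim_le_one
    rw [IsLocalization.AtPrime.ringKrullDim_eq_height q (Localization.AtPrime q)]
    exact_mod_cast hq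
  · exfalso
    push Not at hX
    set P := q.comap (Ideal.Quotient.mk (Ideal.span (Set.range f))) with hP
    haveI : P.IsPrime := Ideal.IsPrime.comap _
    have hJP : Ideal.span (Set.range f) ≤ P := by
      intro a ha
      rw [hP, Ideal.mem_comap, Ideal.Quotient.eq_zero_iff_mem.mpr ha]
      exact zero_mem _
    have hXP : ∀ i, (MvPolynomial.X i : MvPolynomial (Fin (n + 1)) k) ∈ P := fun i => hX i
    have hht := le_height_of_X_mem k n P hXP
    obtain ⟨-, hdim⟩ := local_data _ r f hJ P hJP
    rw [dimAt_eq_height _ q P hP] at hdim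
    have h5 : q.height + (r : ℕ∞) = P.height := by exact_mod_cast hdim
    have h6 : P.height ≤ ((1 : ℕ) : ℕ∞) + (r : ℕ∞) := by
      rw [← h5]
      gcongr
    have h7 : ((n + 1 : ℕ) : ℕ∞) ≤ ((1 + r : ℕ) : ℕ∞) := by
      rw [Nat.cast_add 1 r]
      exact hht.trans h6
    have : n + 1 ≤ 1 + r := by exact_mod_cast h7
    omega

attribute [local instance] MvPolynomial.gradedAlgebra

/-- a proper homogeneous ideal consists of polynomials without constant term. -/
lemma constantCoeff_eq_zero_of_mem (Q : Ideal (MvPolynomial (Fin (n + 1)) k))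
    (hQ : Q.IsHomogeneous (MvPolynomial.homogeneousSubmodule (Fin (n + 1)) k)) (hQtop : Q ≠ ⊤)
    (p : MvPolynomial (Fin (n + 1)) k) (hp : p ∈ Q) : MvPolynomial.constantCoeff p = 0 := by
  by_contra hne
  have h0 := MvPolynomial.homogeneousComponent_mem_of_mem hQ hp 0
  rw [MvPolynomial.homogeneousComponent_zero] at h0
  apply hQtop
  apply Ideal.eq_top_of_isUnit_mem _ h0
  have hne' : MvPolynomial.coeff 0 p ≠ 0 := by
    rwa [MvPolynomial.constantCoeff_eq] at hne
  exact (isUnit_iff_ne_zero.2 hne').map MvPolynomial.C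

/-- minimal primes over a homogeneous ideal are homogeneous. -/
lemma isHomogeneous_of_mem_minimalPrimes (J Q : Ideal (MvPolynomial (Fin (n + 1)) k))
    (hJ : J.IsHomogeneous (MvPolynomial.homogeneousSubmodule (Fin (n + 1)) k))
    (hQ : Q ∈ J.minimalPrimes) :
    Q.IsHomogeneous (MvPolynomial.homogeneousSubmodule (Fin (n + 1)) k) := by
  have hQprime : Q.IsPrime := hQ.1.1
  have hprime := Ideal.IsPrime.homogeneousCore
    (𝒜 := MvPolynomial.homogeneousSubmodule (Fin (n + 1)) k) hQprime
  have hmono : (J.homogeneousCore (MvPolynomial.homogeneousSubmodule (Fin (n + 1)) k)).toIdeal ≤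
      (Q.homogeneousCore (MvPolynomial.homogeneousSubmodule (Fin (n + 1)) k)).toIdeal :=
    Ideal.homogeneousCore_mono (MvPolynomial.homogeneousSubmodule (Fin (n + 1)) k) hQ.1.2
  rw [hJ.toIdeal_homogeneousCore_eq_self] at hmono
  have h2 : Q ≤ (Q.homogeneousCore (MvPolynomial.homogeneousSubmodule (Fin (n + 1)) k)).toIdeal :=
    hQ.2 ⟨hprime, hmono⟩ (Ideal.toIdeal_homogeneousCore_le _ Q)
  have h3 : (Q.homogeneousCore (MvPolynomial.homogeneousSubmodule (Fin (n + 1)) k)).toIdeal = Q :=
    le_antisymm (Ideal.toIdeal_homogeneousCore_le _ Q) h2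
  rw [← h3]
  exact (Q.homogeneousCore (MvPolynomial.homogeneousSubmodule (Fin (n + 1)) k)).isHomogeneous

theorem isDomain_quotient (J : Ideal (MvPolynomial (Fin (n + 1)) k))
    (hJhom : J.IsHomogeneous (MvPolynomial.homogeneousSubmodule (Fin (n + 1)) k)) (hJtop : J ≠ ⊤)
    (hR1 : LocCoh.HasRk 1 (MvPolynomial (Fin (n + 1)) k ⧸ J))
    (hS2 : LocCoh.HasSk 2 (MvPolynomial (Fin (n + 1)) k ⧸ J) (MvPolynomial (Fin (n + 1)) k ⧸ J)) :
    IsDomain (MvPolynomial (Fin (n + 1)) k ⧸ J) := by
  haveI hred : IsReduced (MvPolynomial (Fin (n + 1)) k ⧸ J) :=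
    SerreNormal.isReduced_of_R1_S2 hR1 hS2
  have hJ0 : ∀ a ∈ J, MvPolynomial.constantCoeff a = 0 :=
    constantCoeff_eq_zero_of_mem k n J hJhom hJtop
  let ε : (MvPolynomial (Fin (n + 1)) k ⧸ J) →+* k :=
    Ideal.Quotient.lift J MvPolynomial.constantCoeff hJ0
  have hεmk : ∀ p, ε (Ideal.Quotient.mk J p) = MvPolynomial.constantCoeff p :=
    fun p => Ideal.Quotient.lift_mk J _ hJ0
  have hε : Function.Surjective ε := fun a =>
    ⟨Ideal.Quotient.mk J (MvPolynomial.C a), by rw [hεmk, MvPolynomial.constantCoeff_C]⟩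
  haveI hMmax : (RingHom.ker ε).IsMaximal := RingHom.ker_isMaximal_of_surjective ε hε
  haveI hMprime : (RingHom.ker ε).IsPrime := hMmax.isPrime
  haveI hdomB : IsDomain (Localization.AtPrime (RingHom.ker ε)) :=
    SerreNormal.isDomain_of_R1_S2 (SerreNormal.hasRk_atPrime 1 hR1 (RingHom.ker ε))
      (SerreNormal.hasSk_self_atPrime 2 hS2 (RingHom.ker ε))
  have hmin : ∀ P ∈ minimalPrimes (MvPolynomial (Fin (n + 1)) k ⧸ J), P ≤ RingHom.ker ε := by
    intro P hP y hy
    obtain ⟨p, rfl⟩ := Ideal.Quotient.mk_surjective y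
    have hQ : P.comap (Ideal.Quotient.mk J) ∈ J.minimalPrimes := by
      rw [Ideal.minimalPrimes_eq_comap]
      exact ⟨P, hP, rfl⟩
    have hQhom := isHomogeneous_of_mem_minimalPrimes k n J _ hJhom hQ
    have hQtop : P.comap (Ideal.Quotient.mk J) ≠ ⊤ := hQ.1.1.ne_top
    have h0 := constantCoeff_eq_zero_of_mem k n _ hQhom hQtop p hy
    rw [RingHom.mem_ker, hεmk]
    exact h0
  have hKle : ∀ P ∈ minimalPrimes (MvPolynomial (Fin (n + 1)) k ⧸ J),
      RingHom.ker (algebraMap (MvPolynomial (Fin (n + 1)) k ⧸ J)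
        (Localization.AtPrime (RingHom.ker ε))) ≤ P := by
    intro P hP x hx
    rw [RingHom.mem_ker, IsLocalization.map_eq_zero_iff (RingHom.ker ε).primeCompl] at hx
    obtain ⟨s, hs⟩ := hx
    have hPprime : P.IsPrime := hP.1.1
    have hmem : (s : MvPolynomial (Fin (n + 1)) k ⧸ J) * x ∈ P := by
      rw [hs]
      exact P.zero_mem
    rcases hPprime.mem_or_mem hmem with h | h
    · exact absurd (hmin P hP h) s.2
    · exact h
  have hK0 : RingHom.ker (algebraMap (MvPolynomial (Fin (n + 1)) k ⧸ J)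
      (Localization.AtPrime (RingHom.ker ε))) = ⊥ := by
    rw [eq_bot_iff]
    intro x hx
    have h1 : x ∈ sInf (minimalPrimes (MvPolynomial (Fin (n + 1)) k ⧸ J)) := by
      rw [Submodule.mem_sInf]
      intro P hP
      exact hKle P hP hx
    have h2 : sInf (minimalPrimes (MvPolynomial (Fin (n + 1)) k ⧸ J)) =
        nilradical (MvPolynomial (Fin (n + 1)) k ⧸ J) := Ideal.sInf_minimalPrimes
    rw [h2, nilradical_eq_zero] at h1
    exact h1
  have hinj : Function.Injective (algebraMap (MvPolynomial (Fin (n + 1)) k ⧸ J)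
      (Localization.AtPrime (RingHom.ker ε))) :=
    (RingHom.injective_iff_ker_eq_bot _).2 hK0
  exact hinj.isDomain _

theorem main2 (r : ℕ) (hr : r < n) (f : Fin r → MvPolynomial (Fin (n + 1)) k) (d : Fin r → ℕ)
    (hf : ∀ i, (f i).IsHomogeneous (d i))
    (hJ : (Ideal.span (Set.range f)).height = r)
    (hnorm : ∀ (Q : Ideal (MvPolynomial (Fin (n + 1)) k ⧸ Ideal.span (Set.range f))) [Q.IsPrime],
      (∃ i, Ideal.Quotient.mk (Ideal.span (Set.range f)) (MvPolynomial.X i) ∉ Q) →
        IsDomain (Localization.AtPrime Q) ∧ IsIntegrallyClosed (Localization.AtPrime Q)) :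
    IsDomain (MvPolynomial (Fin (n + 1)) k ⧸ Ideal.span (Set.range f)) ∧
      IsIntegrallyClosed (MvPolynomial (Fin (n + 1)) k ⧸ Ideal.span (Set.range f)) := by
  haveI hcm : LocCoh.IsCohenMacaulayRing (MvPolynomial (Fin (n + 1)) k ⧸ Ideal.span (Set.range f)) :=
    cm_quotient _ r f hJ
  have hS2 := hasSk_of_cm (MvPolynomial (Fin (n + 1)) k ⧸ Ideal.span (Set.range f)) 2
  have hR1 := hasRk_one k n r hr f hJ hnorm
  have hJhom : (Ideal.span (Set.range f)).IsHomogeneous
      (MvPolynomial.homogeneousSubmodule (Fin (n + 1)) k) := by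
    apply Ideal.homogeneous_span
    rintro _ ⟨i, rfl⟩
    exact ⟨d i, (MvPolynomial.mem_homogeneousSubmodule _ _).2 (hf i)⟩
  have hJtop : Ideal.span (Set.range f) ≠ ⊤ := by
    intro h
    rw [h, Ideal.height_top] at hJ
    exact ENat.top_ne_coe r hJ
  haveI := isDomain_quotient k n _ hJhom hJtop hR1 hS2
  exact ⟨inferInstance, SerreNormal.isIntegrallyClosed_of_R1_S2 hR1 hS2⟩

end poly

end Groth.Agent.Lib.Helper4.Unmixed
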