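import Mathlib
import Groth.Agent.Lib.Helper4.GorRing
import Groth.Agent.Lib.Helper14.KoszulFlatRes

/-!
# Fibres of flat local complete intersection maps are Gorenstein (helper4)

* `koszulRegular_tensor`: for flat `A → B`, a Koszul-regular sequence `l` of `B` with `B/(l)` flat
  over `A` stays Koszul-regular in `B ⊗[A] κ` for every `A`-algebra `κ`.
* `gorRing_tensor_of_flat_lci`: for a flat `A`-algebra `B = A[x]/I` with `I` Koszul-regular and a
  field `κ` over `A`, the ring `B ⊗[A] κ` is Gorenstein.
-/

set_option autoImplicit false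
set_option linter.style.haveILetI false
set_option linter.unusedSectionVars false
set_option linter.unusedVariables false
set_option maxHeartbeats 1600000

open IsLocalRing CategoryTheory CategoryTheory.Limits TensorProduct

universe u

namespace Groth.Agent.Lib.Helper4.GorLCI

open Groth.Agent.Lib.Helper4.GorFlat Groth.Agent.Lib.Helper4.GorRing CohIII
  Groth.Agent.Lib.Helper14.KoszulFun

section tensor

variable {A B : Type u} [CommRing A] [CommRing B] [Algebra A B] [Module.Flat A B]

/-- Koszul-regularity survives base change when the quotient is flat. -/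
theorem koszulRegular_tensor (l : List B) [Module.Flat A (B ⧸ Ideal.ofList l)]
    (h : ∀ i : ℤ, i ≠ 0 → IsZero ((koszulCx (ModuleCat.of B B) l).homology i))
    (κ : Type u) [CommRing κ] [Algebra A κ] :
    ∀ i : ℤ, i ≠ 0 → IsZero ((koszulCx (ModuleCat.of (B ⊗[A] κ) (B ⊗[A] κ))
      (l.map (algebraMap B (B ⊗[A] κ)))).homology i) := by
  intro i hi
  rw [← isZero_homology_koszul_restrictScalars_iff (algebraMap B (B ⊗[A] κ))
    (ModuleCat.of (B ⊗[A] κ) (B ⊗[A] κ)) l i]
  have h1 := isZero_homology_koszul_Phi (A := A) (B := B) l h κ i hi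
  let e : ((ModuleCat.restrictScalars.{u} (algebraMap B (B ⊗[A] κ))).obj
      (ModuleCat.of (B ⊗[A] κ) (B ⊗[A] κ))) ≃ₗ[B] (B ⊗[A] κ) :=
    { toFun := fun x => x
      invFun := fun x => x
      map_add' := fun _ _ => rfl
      map_smul' := by
        intro r x
        exact (Algebra.smul_def (A := B ⊗[A] κ) r x).symm
      left_inv := fun _ => rfl
      right_inv := fun _ => rfl }
  exact h1.of_iso ((HomologicalComplex.homologyFunctor _ _ i).mapIso
    (koszulIso e.toModuleIso l))

end tensor

section abstract_

variable (A P κ T : Type u) [CommRing A] [CommRing P] [Algebra A P] [Module.Flat A P] [Field κ]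
  [Algebra A κ] [CommRing T] [Algebra P T] (I : Ideal P)

/-- The local step (abstract form: `T` plays the role of `P ⊗[A] κ`). -/
theorem gor_quot_atPrime (hflI : Module.Flat A (P ⧸ I)) (hK : LCI.IsKoszulRegularIdeal I)
    (hT : LocCoh.IsGorensteinRing T)
    (hloc : ∀ g : P, ∃ (_ : Algebra T (Localization.Away g ⊗[A] κ)),
      IsScalarTower P T (Localization.Away g ⊗[A] κ) ∧
        IsLocalization.Away (algebraMap P T g) (Localization.Away g ⊗[A] κ))
    (Q : Ideal T) [Q.IsPrime] (hJQ : I.map (algebraMap P T) ≤ Q) :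
    LocCoh.IsGorensteinLocalRing (Localization.AtPrime Q ⧸
      (I.map (algebraMap P T)).map (algebraMap T (Localization.AtPrime Q))) := by
  haveI := hT
  haveI := hflI
  haveI h𝔮p : (Q.comap (algebraMap P T)).IsPrime := Ideal.comap_isPrime _ _
  have hI𝔮 : I ≤ Q.comap (algebraMap P T) := fun x hx => hJQ (Ideal.mem_map_of_mem _ hx)
  obtain ⟨g, hg, l, hl, hspan⟩ := hK ⟨Q.comap (algebraMap P T), h𝔮p⟩ hI𝔮
  have hg' : algebraMap P T g ∈ Q.primeCompl := hg
  -- flatness
  haveI hfl1 : Module.Flat A (Localization.Away g) :=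
    Module.Flat.trans A P (Localization.Away g)
  haveI hfl2 : Module.Flat A (Localization.Away g ⧸ Ideal.ofList l) := by
    haveI : IsScalarTower A (P ⧸ I)
        (Localization.Away g ⧸ I.map (algebraMap P (Localization.Away g))) := by
      refine IsScalarTower.of_algebraMap_eq (R := A) (S := P ⧸ I)
        (A := Localization.Away g ⧸ I.map (algebraMap P (Localization.Away g))) (fun a => ?_)
      rw [IsScalarTower.algebraMap_apply A P (P ⧸ I),
        IsScalarTower.algebraMap_apply A (Localization.Away g)
          (Localization.Away g ⧸ I.map (algebraMap P (Localization.Away g))),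
        IsScalarTower.algebraMap_apply A P (Localization.Away g)]
      rfl
    haveI : Module.Flat (P ⧸ I)
        (Localization.Away g ⧸ I.map (algebraMap P (Localization.Away g))) :=
      IsLocalization.flat _ (Algebra.algebraMapSubmonoid (P ⧸ I) (Submonoid.powers g))
    have h3 : Module.Flat A
        (Localization.Away g ⧸ I.map (algebraMap P (Localization.Away g))) :=
      Module.Flat.trans A (P ⧸ I) _
    rw [hspan] at h3
    exact h3
  -- Koszul regular in `R₁ = P_g ⊗ κ`
  have hreg1 := koszulRegular_tensor (A := A) (B := Localization.Away g) l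
    ((isKoszulRegularSeq_iff _ l).mp hl) κ
  obtain ⟨algTR, htower, hloc1⟩ := hloc g
  letI := algTR
  haveI := htower
  haveI := hloc1
  have hu : IsUnit (algebraMap T (Localization.AtPrime Q) (algebraMap P T g)) :=
    IsLocalization.map_units (Localization.AtPrime Q) (⟨algebraMap P T g, hg'⟩ : Q.primeCompl)
  let ψ : Localization.Away g ⊗[A] κ →+* Localization.AtPrime Q :=
    IsLocalization.Away.lift (algebraMap P T g) hu
  have hψ : ψ.comp (algebraMap T (Localization.Away g ⊗[A] κ)) =
      algebraMap T (Localization.AtPrime Q) := IsLocalization.Away.lift_comp (algebraMap P T g) hu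
  have hflat : RingHom.Flat (R := Localization.Away g ⊗[A] κ) (S := Localization.AtPrime Q) ψ := by
    letI := ψ.toAlgebra
    haveI : IsScalarTower T (Localization.Away g ⊗[A] κ) (Localization.AtPrime Q) :=
      IsScalarTower.of_algebraMap_eq' hψ.symm
    haveI : IsLocalization (Q.primeCompl.map (algebraMap T (Localization.Away g ⊗[A] κ)))
        (Localization.AtPrime Q) :=
      IsLocalization.isLocalization_of_submonoid_le (Localization.Away g ⊗[A] κ)
        (Localization.AtPrime Q) (Submonoid.powers (algebraMap P T g)) Q.primeCompl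
        (Submonoid.powers_le.mpr hg')
    exact IsLocalization.flat (Localization.AtPrime Q)
      (Q.primeCompl.map (algebraMap T (Localization.Away g ⊗[A] κ)))
  have hregQ := koszulRegular_map (R := Localization.Away g ⊗[A] κ)
    (R' := Localization.AtPrime Q) ψ hflat
    (l.map (algebraMap (Localization.Away g) (Localization.Away g ⊗[A] κ))) hreg1
  have hcomp : (algebraMap T (Localization.AtPrime Q)).comp (algebraMap P T) =
      (ψ.comp (algebraMap (Localization.Away g) (Localization.Away g ⊗[A] κ))).comp
        (algebraMap P (Localization.Away g)) := by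
    rw [← hψ, RingHom.comp_assoc, RingHom.comp_assoc,
      ← IsScalarTower.algebraMap_eq P T (Localization.Away g ⊗[A] κ),
      ← IsScalarTower.algebraMap_eq P (Localization.Away g) (Localization.Away g ⊗[A] κ)]
  have hspanQ : (I.map (algebraMap P T)).map (algebraMap T (Localization.AtPrime Q)) =
      Ideal.ofList ((l.map (algebraMap (Localization.Away g)
        (Localization.Away g ⊗[A] κ))).map ψ) := by
    calc (I.map (algebraMap P T)).map (algebraMap T (Localization.AtPrime Q))
        = I.map ((algebraMap T (Localization.AtPrime Q)).comp (algebraMap P T)) :=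
          Ideal.map_map _ _
      _ = I.map ((ψ.comp (algebraMap (Localization.Away g)
            (Localization.Away g ⊗[A] κ))).comp (algebraMap P (Localization.Away g))) := by
          rw [hcomp]
      _ = ((I.map (algebraMap P (Localization.Away g))).map
            (algebraMap (Localization.Away g) (Localization.Away g ⊗[A] κ))).map ψ := by
          rw [Ideal.map_map, Ideal.map_map]
      _ = ((Ideal.ofList l).map
            (algebraMap (Localization.Away g) (Localization.Away g ⊗[A] κ))).map ψ := by
          rw [hspan]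
      _ = Ideal.ofList ((l.map (algebraMap (Localization.Away g)
            (Localization.Away g ⊗[A] κ))).map ψ) := by
          rw [Ideal.map_ofList, Ideal.map_ofList]
  have hmem : ∀ x ∈ (l.map (algebraMap (Localization.Away g)
      (Localization.Away g ⊗[A] κ))).map ψ, x ∈ maximalIdeal (Localization.AtPrime Q) := by
    intro x hx
    have h1 : x ∈ Ideal.ofList ((l.map (algebraMap (Localization.Away g)
        (Localization.Away g ⊗[A] κ))).map ψ) := Ideal.subset_span hx
    rw [← hspanQ] at h1
    have h2 : (I.map (algebraMap P T)).map (algebraMap T (Localization.AtPrime Q)) ≤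
        maximalIdeal (Localization.AtPrime Q) := by
      rw [← Localization.AtPrime.map_eq_maximalIdeal]
      exact Ideal.map_mono hJQ
    exact h2 h1
  have hgor := gor_quot_of_koszulRegular (hT.isGorensteinLocalRing_localization Q) _ hmem hregQ
  exact gor_of_ringEquiv (Ideal.quotEquivOfEq hspanQ.symm) hgor

/-- The global abstract form. -/
theorem gorRing_quot_abstract (hflI : Module.Flat A (P ⧸ I)) (hK : LCI.IsKoszulRegularIdeal I)
    (hT : LocCoh.IsGorensteinRing T)
    (hloc : ∀ g : P, ∃ (_ : Algebra T (Localization.Away g ⊗[A] κ)),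
      IsScalarTower P T (Localization.Away g ⊗[A] κ) ∧
        IsLocalization.Away (algebraMap P T g) (Localization.Away g ⊗[A] κ)) :
    LocCoh.IsGorensteinRing (T ⧸ I.map (algebraMap P T)) := by
  haveI := hT
  refine { isGorensteinLocalRing_localization := fun Q' _ => ?_ }
  have hQp : (Q'.comap (Ideal.Quotient.mk (I.map (algebraMap P T)))).IsPrime :=
    Ideal.comap_isPrime _ _
  generalize hQ : Q'.comap (Ideal.Quotient.mk (I.map (algebraMap P T))) = Q at hQp
  haveI := hQp
  obtain ⟨e⟩ := nonempty_quotLocEquiv (I.map (algebraMap P T)) Q' Q hQ.symm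
  refine gor_of_ringEquiv e.symm ?_
  have hJQ : I.map (algebraMap P T) ≤ Q := by
    intro x hx
    rw [← hQ, Ideal.mem_comap, Ideal.Quotient.eq_zero_iff_mem.mpr hx]
    exact Q'.zero_mem
  exact gor_quot_atPrime A P κ T I hflI hK hT hloc Q hJQ

end abstract_

section main

variable (A : Type u) [CommRing A] (n : ℕ) (B : Type u) [CommRing B] [Algebra A B]
  (f : MvPolynomial (Fin n) A →ₐ[A] B) (κ : Type u) [Field κ] [Algebra A κ]

local notation "𝐏" => MvPolynomial (Fin n) A
local notation "𝐓" => MvPolynomial (Fin n) A ⊗[A] κ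
local notation "𝐈" => RingHom.ker (AlgHom.toRingHom f)
local notation "𝐉" => Ideal.map (algebraMap (MvPolynomial (Fin n) A)
  (MvPolynomial (Fin n) A ⊗[A] κ)) (RingHom.ker (AlgHom.toRingHom f))

/-- `P_g ⊗ κ` is the localization of `P ⊗ κ` at `g ⊗ 1`. -/
theorem exists_algebra_away (g : 𝐏) :
    ∃ (_ : Algebra 𝐓 (Localization.Away g ⊗[A] κ)),
      IsScalarTower 𝐏 𝐓 (Localization.Away g ⊗[A] κ) ∧
        IsLocalization.Away (algebraMap 𝐏 𝐓 g) (Localization.Away g ⊗[A] κ) := by
  letI algTR : Algebra 𝐓 (Localization.Away g ⊗[A] κ) :=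
    (Algebra.TensorProduct.map (IsScalarTower.toAlgHom A 𝐏 (Localization.Away g))
      (AlgHom.id A κ)).toRingHom.toAlgebra
  have halg : ∀ (x : 𝐏) (y : κ), algebraMap 𝐓 (Localization.Away g ⊗[A] κ) (x ⊗ₜ y) =
      algebraMap 𝐏 (Localization.Away g) x ⊗ₜ y := fun x y => rfl
  haveI htower : IsScalarTower 𝐏 𝐓 (Localization.Away g ⊗[A] κ) :=
    IsScalarTower.of_algebraMap_eq (R := 𝐏) (S := 𝐓) (A := Localization.Away g ⊗[A] κ)
      (fun x => rfl)
  have H : (algebraMap 𝐓 (Localization.Away g ⊗[A] κ)).comp
      (Algebra.TensorProduct.includeRight : κ →ₐ[A] 𝐓).toRingHom =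
      (Algebra.TensorProduct.includeRight : κ →ₐ[A] Localization.Away g ⊗[A] κ).toRingHom := by
    ext y
    show algebraMap 𝐓 (Localization.Away g ⊗[A] κ) ((1 : 𝐏) ⊗ₜ y) =
      (1 : Localization.Away g) ⊗ₜ y
    rw [halg, map_one]
  have hloc1 : IsLocalization (Algebra.algebraMapSubmonoid 𝐓 (Submonoid.powers g))
      (Localization.Away g ⊗[A] κ) :=
    IsLocalization.tensorProduct_tensorProduct A κ (Submonoid.powers g) (Localization.Away g) H
  have hpow : Algebra.algebraMapSubmonoid 𝐓 (Submonoid.powers g) =
      Submonoid.powers (algebraMap 𝐏 𝐓 g) := Submonoid.map_powers _ _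
  rw [hpow] at hloc1
  exact ⟨algTR, htower, hloc1⟩

/-- **Fibres of flat lci maps are Gorenstein.** -/
theorem gorRing_tensor_of_flat_lci [Module.Flat A B] (hf : Function.Surjective f)
    (hK : LCI.IsKoszulRegularIdeal 𝐈) : LocCoh.IsGorensteinRing (B ⊗[A] κ) := by
  have eT : MvPolynomial (Fin n) κ ≃+* 𝐓 :=
    ((MvPolynomial.algebraTensorAlgEquiv (σ := Fin n) A κ).symm.toRingEquiv).trans
      (Algebra.TensorProduct.comm A κ 𝐏).toRingEquiv
  have hT : LocCoh.IsGorensteinRing 𝐓 :=
    gorRing_of_ringEquiv (R := MvPolynomial (Fin n) κ) (S := 𝐓) eT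
      (gorRing_of_isRegularRing (MvPolynomial (Fin n) κ))
  have hφsurj : Function.Surjective
      (Algebra.TensorProduct.map f (AlgHom.id A κ)).toRingHom :=
    Algebra.TensorProduct.map_surjective f (AlgHom.id A κ) hf (fun x => ⟨x, rfl⟩)
  have hker : RingHom.ker (Algebra.TensorProduct.map f (AlgHom.id A κ)).toRingHom = 𝐉 := by
    have h1 := Algebra.TensorProduct.rTensor_ker (R := A) (S := A) (C := κ) f hf
    apply le_antisymm
    · intro x hx
      have hx' : x ∈ RingHom.ker (Algebra.TensorProduct.map f (AlgHom.id A κ)) := hx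
      rw [h1] at hx'
      refine (Ideal.map_le_iff_le_comap.mpr ?_) hx'
      intro y hy
      exact Ideal.mem_map_of_mem (algebraMap 𝐏 𝐓) hy
    · rw [Ideal.map_le_iff_le_comap]
      intro y hy
      have h2 : (Algebra.TensorProduct.includeLeft : 𝐏 →ₐ[A] 𝐓) y ∈
          RingHom.ker (Algebra.TensorProduct.map f (AlgHom.id A κ)) := by
        rw [h1]
        exact Ideal.mem_map_of_mem _ hy
      exact h2
  have eB : (𝐓 ⧸ 𝐉) ≃+* B ⊗[A] κ :=
    (Ideal.quotEquivOfEq hker.symm).trans
      (RingHom.quotientKerEquivOfSurjective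
        (f := (Algebra.TensorProduct.map f (AlgHom.id A κ)).toRingHom) hφsurj)
  refine gorRing_of_ringEquiv (R := 𝐓 ⧸ 𝐉) (S := B ⊗[A] κ) eB ?_
  have hflI : Module.Flat A (𝐏 ⧸ 𝐈) :=
    Module.Flat.of_linearEquiv (Ideal.quotientKerAlgEquivOfSurjective hf).toLinearEquiv
  exact gorRing_quot_abstract A 𝐏 κ 𝐓 𝐈 hflI hK hT (exists_algebra_away A n κ)

end main

end Groth.Agent.Lib.Helper4.GorLCI
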