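import Mathlib
import Groth.Agent.Lib.Helper4.DerSub

set_option autoImplicit false
set_option linter.style.haveILetI false
universe u
open Groth.Agent.Lib.Helper4.DerSub

namespace Groth.Agent.Lib.Helper4.DerCot

open IsLocalRing in
/-- (D3a) pure algebra: the k-space of resO-derivations O → k has the dimension of m/m². -/
theorem finrank_derSub {k : Type u} [Field k] (O : Type u) [CommRing O] [Algebra k O]
    [IsLocalRing O] [IsNoetherianRing O] (resO : O →ₐ[k] k) (hres : Function.Surjective resO) :
    Module.finrank k ↥(derSub O resO) =
      Module.finrank (IsLocalRing.ResidueField O) (IsLocalRing.CotangentSpace O) := by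
  classical
  have hker : RingHom.ker (resO : O →+* k) = maximalIdeal O :=
    IsLocalRing.eq_maximalIdeal (RingHom.ker_isMaximal_of_surjective (resO : O →+* k) hres)
  have hres0 : ∀ x : O, x ∈ maximalIdeal O ↔ resO x = 0 := fun x => by
    rw [← hker, RingHom.mem_ker]; rfl
  haveI : IsLocalHom (resO : O →+* k) := ⟨fun a ha => by
    by_contra hna
    have h1 : a ∈ maximalIdeal O := (IsLocalRing.mem_maximalIdeal a).mpr hna
    rw [hres0] at h1
    have h2 : IsUnit (resO a) := ha
    rw [h1] at h2
    exact not_isUnit_zero h2⟩
  let ρ : ResidueField O →+* k := IsLocalRing.ResidueField.lift (resO : O →+* k)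
  have hρ : ∀ a : O, ρ (residue O a) = resO a := fun a => rfl
  -- a basis of the cotangent space and lifts
  let b := Module.finBasis (ResidueField O) (CotangentSpace O)
  have hsurjT : Function.Surjective (maximalIdeal O).toCotangent :=
    Ideal.toCotangent_surjective _
  choose x hx using fun i => hsurjT (b i)
  have hspan : Submodule.span O (Set.range x) = ⊤ := by
    rw [← CotangentSpace.span_image_eq_top_iff, ← Set.range_comp]
    have : (maximalIdeal O).toCotangent ∘ x = b := funext hx
    rw [this]
    exact b.span_eq
  -- derivations kill 1 and constants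
  have hone : ∀ δ ∈ derSub O resO, δ 1 = 0 := by
    intro δ hδ
    have := hδ 1 1
    rw [mul_one, map_one resO, one_mul] at this
    exact left_eq_add.mp this
  have hconst : ∀ δ ∈ derSub O resO, ∀ c : k, δ (algebraMap k O c) = 0 := by
    intro δ hδ c
    rw [Algebra.algebraMap_eq_smul_one, map_smul, hone δ hδ, smul_zero]
  have hpi : ∀ o : O, o - algebraMap k O (resO o) ∈ maximalIdeal O := fun o => by
    rw [hres0, map_sub, resO.commutes, sub_eq_zero]; rfl
  -- the evaluation map
  let Φ : ↥(derSub O resO) →ₗ[k] (Fin (Module.finrank (ResidueField O) (CotangentSpace O)) → k) :=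
    { toFun := fun δ i => δ.1 (x i)
      map_add' := fun δ δ' => rfl
      map_smul' := fun c δ => rfl }
  have hinj : Function.Injective Φ := by
    suffices key : ∀ δ : ↥(derSub O resO), Φ δ = 0 → δ = 0 by
      intro δ δ' h
      exact sub_eq_zero.mp (key (δ - δ') (by rw [LinearMap.map_sub Φ δ δ', h, sub_self]))
    intro δ hδ0
    have h0 : ∀ i, δ.1 (x i) = 0 := fun i => congrFun hδ0 i
    have hm : ∀ y : ↥(maximalIdeal O), δ.1 (y : O) = 0 := by
      intro y
      have hy : y ∈ Submodule.span O (Set.range x) := by rw [hspan]; trivial
      induction hy using Submodule.span_induction with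
      | mem y hy =>
        obtain ⟨i, rfl⟩ := hy
        exact h0 i
      | zero => exact map_zero _
      | add y z _ _ hy hz =>
        rw [Submodule.coe_add, map_add, hy, hz, add_zero]
      | smul a y _ hy =>
        rw [Submodule.coe_smul, smul_eq_mul, δ.2 a y, hy, mul_zero, (hres0 y).mp y.2, zero_mul,
          add_zero]
    apply Subtype.ext
    apply LinearMap.ext
    intro o
    have h1 : o = algebraMap k O (resO o) + (o - algebraMap k O (resO o)) := by ring
    rw [h1, map_add, hconst δ.1 δ.2, zero_add]
    exact hm ⟨_, hpi o⟩
  have hsurj : Function.Surjective Φ := by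
    intro c
    -- the κ-linear functional
    let ℓ : CotangentSpace O →ₗ[ResidueField O] ResidueField O :=
      b.constr (ResidueField O) (fun i => algebraMap k (ResidueField O) (c i))
    have hℓ : ∀ i, ℓ (b i) = algebraMap k (ResidueField O) (c i) := fun i =>
      b.constr_basis _ _ i
    have hρalg : ∀ c : k, ρ (algebraMap k (ResidueField O) c) = c := fun c => by
      have : algebraMap k (ResidueField O) c = residue O (algebraMap k O c) := rfl
      rw [this, hρ, resO.commutes]; rfl
    let π : O →ₗ[k] ↥(maximalIdeal O) :=
      { toFun := fun o => ⟨o - algebraMap k O (resO o), hpi o⟩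
        map_add' := fun a a' => Subtype.ext (by
          change a + a' - algebraMap k O (resO (a + a')) = _
          rw [map_add, map_add]; simp only [Submodule.coe_add]; ring)
        map_smul' := fun r a => Subtype.ext (by
          change r • a - algebraMap k O (resO (r • a)) = _
          rw [map_smul, RingHom.id_apply, smul_eq_mul, map_mul, Submodule.coe_smul_of_tower,
            Algebra.smul_def, Algebra.smul_def]
          ring) }
    have hπx : ∀ i, π (x i) = x i := fun i => Subtype.ext (by
      change (x i : O) - algebraMap k O (resO (x i)) = x i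
      rw [(hres0 _).mp (x i).2, map_zero, sub_zero])
    -- compatibility with the `O`-action
    have hO : ∀ (a : O) (y : ↥(maximalIdeal O)),
        ρ (ℓ ((maximalIdeal O).toCotangent (a • y))) =
          resO a * ρ (ℓ ((maximalIdeal O).toCotangent y)) := by
      intro a y
      have e1 : (maximalIdeal O).toCotangent (a • y) =
          (residue O a) • (maximalIdeal O).toCotangent y := by
        rw [map_smul]
        exact (algebraMap_smul (ResidueField O) a ((maximalIdeal O).toCotangent y)).symm
      rw [e1, map_smul, smul_eq_mul, map_mul, hρ]
    have hπmul : ∀ a a' : O, π (a * a') = a • π a' + (algebraMap k O (resO a')) • π a := by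
      intro a a'
      apply Subtype.ext
      change a * a' - algebraMap k O (resO (a * a')) =
        a * (a' - algebraMap k O (resO a')) +
          algebraMap k O (resO a') * (a - algebraMap k O (resO a))
      rw [map_mul, map_mul]
      ring
    let δ : O →ₗ[k] k :=
      { toFun := fun o => ρ (ℓ ((maximalIdeal O).toCotangent (π o)))
        map_add' := fun a a' => by
          rw [map_add, map_add, map_add, map_add]
        map_smul' := fun r a => by
          rw [map_smul, ← algebraMap_smul O r (π a), hO, resO.commutes, RingHom.id_apply,
            smul_eq_mul]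
          rfl }
    have hδ : δ ∈ derSub O resO := by
      intro a a'
      change ρ (ℓ ((maximalIdeal O).toCotangent (π (a * a')))) =
        resO a * ρ (ℓ ((maximalIdeal O).toCotangent (π a'))) +
          resO a' * ρ (ℓ ((maximalIdeal O).toCotangent (π a)))
      rw [hπmul, map_add, map_add, map_add, hO, hO, resO.commutes]
      rfl
    refine ⟨⟨δ, hδ⟩, funext fun i => ?_⟩
    change ρ (ℓ ((maximalIdeal O).toCotangent (π (x i)))) = c i
    rw [hπx, hx, hℓ, hρalg]
  exact ((LinearEquiv.ofBijective Φ ⟨hinj, hsurj⟩).finrank_eq).trans (Module.finrank_fin_fun k)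

end Groth.Agent.Lib.Helper4.DerCot
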