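import Mathlib
import Groth.Prelude.Def_ArtFun2
import Groth.Agent.Lib.Helper4.DerSub

/-!
# The tangent space of `h_O` is the space of `resO`-derivations `O → k` (D3b, helper18 S12265)
-/

set_option autoImplicit false
set_option linter.style.haveILetI false
set_option linter.unusedSectionVars false
universe u

open CategoryTheory
open ArtFun ArtFun.Art Groth.Agent.Lib.Helper4.DerSub

namespace Groth.Agent.Lib.Helper4.TanHRb

variable {k : Type u} [Field k] (O : Type u) [CommRing O] [Algebra k O] (resO : O →ₐ[k] k)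

/-- the algebra map `o ↦ (resO o, δ o)` attached to a derivation `δ : O → M`. -/
def mkAlgHom (M : Type u) [AddCommGroup M] [Module k M] [Module kᵐᵒᵖ M] [IsCentralScalar k M]
    (δ : O →ₗ[k] M) (hδ : ∀ a b, δ (a * b) = resO a • δ b + resO b • δ a) :
    O →ₐ[k] TrivSqZeroExt k M :=
  have h1 : δ 1 = 0 := by
    have := hδ 1 1
    rw [mul_one, map_one resO, one_smul] at this
    exact left_eq_add.mp this
  { toFun := fun o => (resO o, δ o)
    map_one' := TrivSqZeroExt.ext (map_one resO) h1
    map_mul' := fun a b => TrivSqZeroExt.ext (map_mul resO a b) (by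
      change δ (a * b) = resO a • δ b + MulOpposite.op (resO b) • δ a
      rw [op_smul_eq_smul, hδ])
    map_zero' := TrivSqZeroExt.ext (map_zero resO) (map_zero δ)
    map_add' := fun a b => TrivSqZeroExt.ext (map_add resO a b) (map_add δ a b)
    commutes' := fun c => TrivSqZeroExt.ext (resO.commutes c) (by
      change δ (algebraMap k O c) = (algebraMap k (TrivSqZeroExt k M) c).snd
      rw [Algebra.algebraMap_eq_smul_one, map_smul, h1, smul_zero,
        TrivSqZeroExt.algebraMap_eq_inl, TrivSqZeroExt.snd_inl]) }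

variable {O resO}

lemma fst_apply {A : Art k k} (φ : HomSet O resO A) (o : O) : A.res (φ.1 o) = resO o :=
  congrArg (fun f : O →ₐ[k] k => f o) φ.2

/-- the derivation part of a point of `h_O(k[ε])`. -/
def dlin (φ : HomSet O resO (dual k k)) : O →ₗ[k] k where
  toFun o := TrivSqZeroExt.snd (φ.1 o : TrivSqZeroExt k k)
  map_add' a b := by
    rw [map_add]; rfl
  map_smul' c a := by
    rw [map_smul]; rfl

lemma dlin_apply (φ : HomSet O resO (dual k k)) (o : O) :
    dlin φ o = TrivSqZeroExt.snd (φ.1 o : TrivSqZeroExt k k) := rfl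

lemma dlin_mem (φ : HomSet O resO (dual k k)) : dlin φ ∈ derSub O resO := by
  intro a b
  let x : TrivSqZeroExt k k := φ.1 a
  let y : TrivSqZeroExt k k := φ.1 b
  have h1 : TrivSqZeroExt.fst x = resO a := fst_apply φ a
  have h2 : TrivSqZeroExt.fst y = resO b := fst_apply φ b
  have hm : (φ.1 (a * b) : TrivSqZeroExt k k) = x * y := map_mul φ.1 a b
  have h3 : TrivSqZeroExt.snd (x * y) =
      TrivSqZeroExt.fst x • TrivSqZeroExt.snd y + MulOpposite.op (TrivSqZeroExt.fst y) •
        TrivSqZeroExt.snd x := TrivSqZeroExt.snd_mul x y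
  rw [h1, h2, op_smul_eq_smul, smul_eq_mul, smul_eq_mul] at h3
  exact (congrArg TrivSqZeroExt.snd hm).trans h3

lemma ext_of_dlin {φ ψ : HomSet O resO (dual k k)} (h : dlin φ = dlin ψ) : φ = ψ := by
  apply Subtype.ext
  apply AlgHom.ext
  intro o
  refine TrivSqZeroExt.ext ?_ ?_
  · exact (fst_apply φ o).trans (fst_apply ψ o).symm
  · exact congrArg (fun f : O →ₗ[k] k => f o) h

/-- the point of `h_O(k[ε])` of a derivation. -/
def ofDer (δ : O →ₗ[k] k) (hδ : δ ∈ derSub O resO) : HomSet O resO (dual k k) :=
  ⟨mkAlgHom O resO k δ (fun a b => by rw [smul_eq_mul, smul_eq_mul]; exact hδ a b),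
    AlgHom.ext fun _ => rfl⟩

lemma dlin_ofDer (δ : O →ₗ[k] k) (hδ : δ ∈ derSub O resO) : dlin (ofDer δ hδ) = δ :=
  LinearMap.ext fun _ => rfl

/-- the point of `h_O(k[ε₁, ε₂])` of a pair of points of `h_O(k[ε])`. -/
def pairPt (φ ψ : HomSet O resO (dual k k)) : HomSet O resO (dual2 k k) :=
  ⟨mkAlgHom O resO (k × k) ((dlin φ).prod (dlin ψ)) (fun a b => by
      refine Prod.ext ?_ ?_
      · change dlin φ (a * b) = resO a • dlin φ b + resO b • dlin φ a
        rw [smul_eq_mul, smul_eq_mul]; exact dlin_mem φ a b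
      · change dlin ψ (a * b) = resO a • dlin ψ b + resO b • dlin ψ a
        rw [smul_eq_mul, smul_eq_mul]; exact dlin_mem ψ a b),
    AlgHom.ext fun _ => rfl⟩

lemma map_pr₁_pairPt (φ ψ : HomSet O resO (dual k k)) :
    HomSet.map pr₁ (pairPt φ ψ) = φ := by
  apply ext_of_dlin
  exact LinearMap.ext fun _ => rfl

lemma map_pr₂_pairPt (φ ψ : HomSet O resO (dual k k)) :
    HomSet.map pr₂ (pairPt φ ψ) = ψ := by
  apply ext_of_dlin
  exact LinearMap.ext fun _ => rfl

lemma dlin_map_plus_pairPt (φ ψ : HomSet O resO (dual k k)) :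
    dlin (HomSet.map plus (pairPt φ ψ)) = dlin φ + dlin ψ :=
  LinearMap.ext fun _ => rfl

lemma dlin_map_scale (c : k) (φ : HomSet O resO (dual k k)) :
    dlin (HomSet.map (scale c) φ) = c • dlin φ :=
  LinearMap.ext fun _ => rfl

/-- **D3b**: for any tangent structure on `h_O`, the tangent space has the dimension of the space
of `resO`-derivations `O → k`. -/
theorem finrank_tangentSpace_eq_finrank_derSub [T : TangentStr (hR O resO)] :
    Module.finrank k (TangentSpace (hR O resO)) = Module.finrank k ↥(derSub O resO) := by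
  let L : TangentSpace (hR O resO) →ₗ[k] ↥(derSub O resO) :=
    { toFun := fun x => ⟨dlin (x : HomSet O resO (dual k k)), dlin_mem _⟩
      map_add' := fun x y => by
        apply Subtype.ext
        have h := T.add_eq (pairPt (x : HomSet O resO (dual k k)) (y : HomSet O resO (dual k k)))
        have e1 : (hR O resO).map pr₁ (pairPt (x : HomSet O resO (dual k k)) y) = x :=
          map_pr₁_pairPt _ _
        have e2 : (hR O resO).map pr₂ (pairPt (x : HomSet O resO (dual k k)) y) = y :=
          map_pr₂_pairPt _ _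
        rw [e1, e2] at h
        have h' : x + y = (hR O resO).map plus (pairPt (x : HomSet O resO (dual k k)) y) := h
        change dlin ((x + y : TangentSpace (hR O resO)) : HomSet O resO (dual k k)) = _
        rw [h']
        exact dlin_map_plus_pairPt _ _
      map_smul' := fun c x => by
        apply Subtype.ext
        have h : c • x = (hR O resO).map (scale c) x := T.smul_eq c x
        change dlin ((c • x : TangentSpace (hR O resO)) : HomSet O resO (dual k k)) = _
        rw [h]
        exact dlin_map_scale c _ }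
  have hinj : Function.Injective L := fun x y hxy =>
    ext_of_dlin (congrArg Subtype.val hxy)
  have hsurj : Function.Surjective L := fun δ =>
    ⟨ofDer δ.1 δ.2, Subtype.ext (dlin_ofDer δ.1 δ.2)⟩
  exact (LinearEquiv.ofBijective L ⟨hinj, hsurj⟩).finrank_eq

end Groth.Agent.Lib.Helper4.TanHRb
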