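import Mathlib
import Groth.Prelude.Def_ArtFun2
import Groth.Agent.Lib.Helper4.TanHRb
import Groth.Agent.Lib.Helper4.DerCot

/-!
# D3 (helper18, S12265): the tangent space of `h_O` has the dimension of the Zariski cotangent space
-/

set_option autoImplicit false
universe u

namespace Groth.Agent.Lib.Helper4.TanHR

/-- D3 (algebra): the tangent space of `h_O` has the dimension of the Zariski cotangent space. -/
theorem finrank_tangentSpace_hR {k : Type u} [Field k] (O : Type u) [CommRing O] [Algebra k O]
    [IsLocalRing O] [IsNoetherianRing O] (resO : O →ₐ[k] k) (hres : Function.Surjective resO)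
    [T : ArtFun.TangentStr (ArtFun.hR O resO)] :
    Module.finrank k (ArtFun.TangentSpace (ArtFun.hR O resO)) =
      Module.finrank (IsLocalRing.ResidueField O) (IsLocalRing.CotangentSpace O) :=
  (Groth.Agent.Lib.Helper4.TanHRb.finrank_tangentSpace_eq_finrank_derSub).trans
    (Groth.Agent.Lib.Helper4.DerCot.finrank_derSub O resO hres)

end Groth.Agent.Lib.Helper4.TanHR
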