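import Mathlib
import Groth.Prelude.Def_Disc

/-!
# Frobenius-type criteria, part 1 (helper4)

* `invertible_of_cycAt`: a `B`-module which is, locally on the base `A`, free of rank one on an
  explicit generator is invertible.
* Gram matrices of the form `(x, y) ↦ w (x * y)` on a finite free algebra, adjugate tricks.
* base change of functionals to a residue field, lifting functionals up to a unit.
-/

set_option autoImplicit false
set_option linter.style.haveILetI false
set_option linter.unusedSectionVars false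
set_option linter.unusedVariables false
set_option maxHeartbeats 800000

universe u

namespace Groth.Agent.Lib.Helper4.Frob

open TensorProduct

section invertible

variable {A : Type*} [CommRing A] (B : Type*) [CommRing B] [Algebra A B]
variable {M : Type*} [AddCommGroup M] [Module B M]

/-- `w` generates `M` freely "up to `a`". -/
def CycAt (a : A) (w : M) : Prop :=
  (∀ v : M, ∃ β : B, algebraMap A B a • v = β • w) ∧
  (∀ β : B, β • w = 0 → algebraMap A B a * β = 0)

theorem exists_dual_of_cycAt {a : A} {w : M} (h : CycAt B a w) :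
    ∃ θ : Module.Dual B M, θ w = algebraMap A B a * algebraMap A B a := by
  obtain ⟨h1, h2⟩ := h
  obtain ⟨a', ha'⟩ : ∃ a' : B, a' = algebraMap A B a := ⟨_, rfl⟩
  rw [← ha'] at h2 ⊢
  simp only [← ha'] at h1
  choose β hβ using h1
  have key : ∀ (v : M) (β' : B), a' • v = β' • w → a' * β' = a' * β v := by
    intro v β' hv
    have h3 : (β' - β v) • w = 0 := by rw [sub_smul, ← hv, ← hβ v, sub_self]
    have h4 := h2 _ h3
    rw [mul_sub, sub_eq_zero] at h4
    exact h4
  refine ⟨{ toFun := fun v => a' * β v, map_add' := ?_, map_smul' := ?_ }, ?_⟩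
  · intro v v'
    show a' * β (v + v') = a' * β v + a' * β v'
    rw [← mul_add]
    exact (key (v + v') (β v + β v') (by rw [smul_add, hβ v, hβ v', add_smul])).symm
  · intro b v
    show a' * β (b • v) = b • (a' * β v)
    rw [smul_eq_mul, ← key (b • v) (b * β v) (by rw [smul_comm a' b v, hβ v, mul_smul])]
    ring
  · show a' * β w = a' * a'
    exact (key w a' rfl).symm

theorem smul_eq_zero_of_cycAt {a : A} {w : M} (h : CycAt B a w)
    (x : Module.Dual B M ⊗[B] M) (hx : contractLeft B M x = 0) :
    (algebraMap A B a * algebraMap A B a) • x = 0 := by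
  obtain ⟨h1, h2⟩ := h
  obtain ⟨a', ha'⟩ : ∃ a' : B, a' = algebraMap A B a := ⟨_, rfl⟩
  rw [← ha'] at h2 ⊢
  simp only [← ha'] at h1
  have hθ : ∀ x : Module.Dual B M ⊗[B] M, ∃ θ' : Module.Dual B M, a' • x = θ' ⊗ₜ[B] w := by
    intro x
    induction x using TensorProduct.induction_on with
    | zero => exact ⟨0, by rw [smul_zero, TensorProduct.zero_tmul]⟩
    | tmul θ v =>
      obtain ⟨β, hβ⟩ := h1 v
      refine ⟨β • θ, ?_⟩
      rw [← TensorProduct.tmul_smul, hβ, TensorProduct.smul_tmul]
    | add x y hx hy =>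
      obtain ⟨θ1, h1'⟩ := hx
      obtain ⟨θ2, h2'⟩ := hy
      exact ⟨θ1 + θ2, by rw [smul_add, h1', h2', TensorProduct.add_tmul]⟩
  obtain ⟨θ', hθ'⟩ := hθ x
  have e1 : θ' w = 0 := by
    have h3 := congrArg (contractLeft B M) hθ'
    rw [map_smul, hx, smul_zero, contractLeft_apply] at h3
    exact h3.symm
  have e2 : a' • θ' = 0 := by
    apply LinearMap.ext
    intro v
    obtain ⟨β, hβ⟩ := h1 v
    rw [LinearMap.smul_apply, ← map_smul, hβ, map_smul, e1, smul_zero, LinearMap.zero_apply]
  rw [mul_smul, hθ', TensorProduct.smul_tmul', e2, TensorProduct.zero_tmul]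

variable (M) in
/-- A module which is locally (on the base `A`) free of rank one on explicit generators is
invertible. -/
theorem invertible_of_cycAt
    (h : ∀ p : Ideal A, p.IsMaximal → ∃ a : A, a ∉ p ∧ ∃ w : M, CycAt B a w) :
    Module.Invertible B M := by
  refine ⟨⟨?_, ?_⟩⟩
  · rw [injective_iff_map_eq_zero]
    intro x hx
    let J : Ideal A :=
      Ideal.comap (algebraMap A B) (LinearMap.ker (LinearMap.toSpanSingleton B _ x))
    have hJ : J = ⊤ := by
      by_contra hne
      obtain ⟨p, hp, hle⟩ := Ideal.exists_le_maximal J hne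
      obtain ⟨a, hap, w, hw⟩ := h p hp
      have hmem : a * a ∈ J := by
        change algebraMap A B (a * a) • x = 0
        rw [map_mul]
        exact smul_eq_zero_of_cycAt B hw x hx
      exact hap ((hp.isPrime.mem_or_mem (hle hmem)).elim id id)
    have h1 : (1 : A) ∈ J := by rw [hJ]; exact Submodule.mem_top
    have h2 : algebraMap A B 1 • x = 0 := h1
    rw [map_one, one_smul] at h2
    exact h2
  · let J : Ideal A :=
      Ideal.comap (algebraMap A B) (LinearMap.range (contractLeft B M))
    have hJ : J = ⊤ := by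
      by_contra hne
      obtain ⟨p, hp, hle⟩ := Ideal.exists_le_maximal J hne
      obtain ⟨a, hap, w, hw⟩ := h p hp
      have hmem : a * a ∈ J := by
        obtain ⟨θ, hθ⟩ := exists_dual_of_cycAt B hw
        change algebraMap A B (a * a) ∈ LinearMap.range (contractLeft B M)
        exact ⟨θ ⊗ₜ w, by rw [contractLeft_apply, hθ, map_mul]⟩
      exact hap ((hp.isPrime.mem_or_mem (hle hmem)).elim id id)
    have h1 : (1 : A) ∈ J := by rw [hJ]; exact Submodule.mem_top
    have h2 : algebraMap A B 1 ∈ LinearMap.range (contractLeft B M) := h1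
    rw [map_one] at h2
    obtain ⟨y, hy⟩ := h2
    intro b
    exact ⟨b • y, by rw [map_smul, hy, smul_eq_mul, mul_one]⟩

end invertible

section gram

variable {A B : Type*} [CommRing A] [CommRing B] [Algebra A B]
variable {ι : Type*} [Fintype ι] [DecidableEq ι] (b : Module.Basis ι A B) (w : B →ₗ[A] A)

/-- Gram matrix of the bilinear form `(x, y) ↦ w (x * y)`. -/
noncomputable def gram : Matrix ι ι A := Matrix.of fun i j => w (b i * b j)

lemma gram_apply (i j : ι) : gram b w i j = w (b i * b j) := rfl

lemma w_mul_basis (β : B) (k : ι) :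
    w (β * b k) = Matrix.vecMul (⇑(b.repr β)) (gram b w) k := by
  conv_lhs => rw [← b.sum_repr β]
  rw [Finset.sum_mul, map_sum]
  simp only [Matrix.vecMul, dotProduct, gram_apply]
  refine Finset.sum_congr rfl fun j _ => ?_
  rw [smul_mul_assoc, map_smul, smul_eq_mul]

theorem exists_mul_of_det (v : B →ₗ[A] A) :
    ∃ β : B, ∀ x : B, (gram b w).det * v x = w (β * x) := by
  obtain ⟨c, hc⟩ : ∃ c : ι → A,
      c = Matrix.vecMul (fun i => v (b i)) (gram b w).adjugate := ⟨_, rfl⟩
  refine ⟨∑ j, c j • b j, fun x => ?_⟩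
  have hlin : (gram b w).det • v = w ∘ₗ LinearMap.mulLeft A (∑ j, c j • b j) := by
    apply b.ext
    intro k
    rw [LinearMap.smul_apply, LinearMap.comp_apply, LinearMap.mulLeft_apply, w_mul_basis,
      b.repr_sum_self, hc, Matrix.vecMul_vecMul, Matrix.adjugate_mul, Matrix.vecMul_smul,
      Matrix.vecMul_one]
    rfl
  exact LinearMap.congr_fun hlin x

theorem smul_eq_zero_of_forall (β : B) (h : ∀ x : B, w (β * x) = 0) :
    (gram b w).det • β = 0 := by
  have h1 : Matrix.vecMul (⇑(b.repr β)) (gram b w) = 0 := by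
    ext k
    rw [← w_mul_basis, h]
    rfl
  have h2 : (gram b w).det • (⇑(b.repr β) : ι → A) = 0 := by
    have h3 := congrArg (fun v => Matrix.vecMul v (gram b w).adjugate) h1
    simp only [Matrix.vecMul_vecMul, Matrix.mul_adjugate, Matrix.vecMul_smul,
      Matrix.vecMul_one, Matrix.zero_vecMul] at h3
    exact h3
  apply b.repr.injective
  rw [map_smul, map_zero]
  ext k
  have h4 := congrFun h2 k
  simpa using h4

theorem det_dvd_prod (s : ι → A) (β : ι → B)
    (h : ∀ i (x : B), s i * b.coord i x = w (β i * x)) :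
    ∃ c : A, ∏ i, s i = c * (gram b w).det := by
  obtain ⟨Cm, hCm⟩ : ∃ Cm : Matrix ι ι A, Cm = Matrix.of fun i j => b.repr (β i) j := ⟨_, rfl⟩
  have hmul : Cm * gram b w = Matrix.diagonal s := by
    ext i k
    have h1 := w_mul_basis b w (β i) k
    have h2 := h i (b k)
    rw [Matrix.mul_apply]
    have h3 : ∑ j, Cm i j * gram b w j k = w (β i * b k) := by
      rw [h1]
      simp only [Matrix.vecMul, dotProduct, hCm, Matrix.of_apply]
    rw [h3, ← h2, Module.Basis.coord_apply, Module.Basis.repr_self, Finsupp.single_apply,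
      Matrix.diagonal_apply]
    by_cases hik : k = i
    · subst hik
      simp
    · rw [if_neg hik, if_neg (fun h' => hik h'.symm), mul_zero]
  refine ⟨Cm.det, ?_⟩
  rw [← Matrix.det_mul, hmul, Matrix.det_diagonal]

end gram

section field

variable {κ C : Type*} [Field κ] [CommRing C] [Algebra κ C]
variable {ι : Type*} [Fintype ι] [DecidableEq ι] (b : Module.Basis ι κ C) (e : C →ₗ[κ] κ)

theorem det_gram_ne_zero (h : ∀ c : C, c ≠ 0 → ∃ c' : C, e (c * c') ≠ 0) :
    (gram b e).det ≠ 0 := by
  intro hdet
  obtain ⟨v, hv0, hv⟩ := Matrix.exists_vecMul_eq_zero_iff.mpr hdet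
  have hβ0 : (∑ j, v j • b j) ≠ 0 := by
    intro h0
    apply hv0
    have h1 := b.repr_sum_self v
    rw [h0, map_zero] at h1
    rw [← h1]
    rfl
  obtain ⟨c', hc'⟩ := h _ hβ0
  apply hc'
  have hlin : e ∘ₗ LinearMap.mulLeft κ (∑ j, v j • b j) = 0 := by
    apply b.ext
    intro k
    rw [LinearMap.comp_apply, LinearMap.mulLeft_apply, w_mul_basis, b.repr_sum_self, hv]
    rfl
  exact LinearMap.congr_fun hlin c'

end field

section basechange

variable {A B : Type*} [CommRing A] [CommRing B] [Algebra A B]
variable (κ : Type*) [Field κ] [Algebra A κ]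
variable {ι : Type*} [Fintype ι] [DecidableEq ι] (b : Module.Basis ι A B)

/-- base change of a functional to `κ`. -/
noncomputable def bcFun (w : B →ₗ[A] A) : κ ⊗[A] B →ₗ[κ] κ :=
  (TensorProduct.AlgebraTensorModule.rid A κ κ).toLinearMap ∘ₗ w.baseChange κ

lemma bcFun_tmul (w : B →ₗ[A] A) (x : κ) (β : B) :
    bcFun κ w (x ⊗ₜ β) = algebraMap A κ (w β) * x := by
  unfold bcFun
  rw [LinearMap.comp_apply, LinearMap.baseChange_tmul, LinearEquiv.coe_coe,
    TensorProduct.AlgebraTensorModule.rid_tmul, Algebra.smul_def]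

lemma bcFun_add (w w' : B →ₗ[A] A) : bcFun κ (w + w') = bcFun κ w + bcFun κ w' := by
  apply TensorProduct.AlgebraTensorModule.ext
  intro x y
  rw [LinearMap.add_apply, bcFun_tmul, bcFun_tmul, bcFun_tmul, LinearMap.add_apply, map_add,
    add_mul]

lemma gram_bcFun (w : B →ₗ[A] A) :
    gram (Algebra.TensorProduct.basis κ b) (bcFun κ w) = (gram b w).map (algebraMap A κ) := by
  ext i j
  rw [gram_apply, Matrix.map_apply, gram_apply, Algebra.TensorProduct.basis_apply,
    Algebra.TensorProduct.basis_apply, Algebra.TensorProduct.tmul_mul_tmul, bcFun_tmul, mul_one,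
    mul_one]

lemma det_gram_bcFun (w : B →ₗ[A] A) :
    (gram (Algebra.TensorProduct.basis κ b) (bcFun κ w)).det =
      algebraMap A κ (gram b w).det := by
  rw [gram_bcFun, RingHom.map_det]
  rfl

end basechange

section lift

variable {A B : Type*} [CommRing A] [CommRing B] [Algebra A B]
variable {ι : Type*} [Fintype ι] [DecidableEq ι]

lemma exists_clear_denom (p : Ideal A) [p.IsPrime] (x : p.ResidueField) :
    ∃ s : A, s ∉ p ∧ ∃ a : A, algebraMap A p.ResidueField s * x = algebraMap A p.ResidueField a := by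
  obtain ⟨y, rfl⟩ := IsLocalRing.residue_surjective x
  obtain ⟨a, s, rfl⟩ := IsLocalization.exists_mk'_eq p.primeCompl y
  refine ⟨s, s.2, a, ?_⟩
  rw [IsScalarTower.algebraMap_apply A (Localization.AtPrime p) p.ResidueField,
    IsScalarTower.algebraMap_apply A (Localization.AtPrime p) p.ResidueField,
    IsLocalRing.ResidueField.algebraMap_eq, ← map_mul, IsLocalization.mk'_spec']

theorem exists_lift (b : Module.Basis ι A B) (p : Ideal A) [p.IsPrime]
    (e : p.ResidueField ⊗[A] B →ₗ[p.ResidueField] p.ResidueField) :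
    ∃ s : A, s ∉ p ∧ ∃ w : B →ₗ[A] A,
      bcFun p.ResidueField w = algebraMap A p.ResidueField s • e := by
  choose sF hsF aF haF using
    fun i => exists_clear_denom p (e (Algebra.TensorProduct.basis p.ResidueField b i))
  have hs : ∏ i, sF i ∉ p := by
    have h1 : ∏ i, sF i ∈ p.primeCompl :=
      Submonoid.prod_mem p.primeCompl (fun i _ => hsF i)
    exact h1
  refine ⟨∏ i, sF i, hs,
    b.constr A (fun i => aF i * ∏ j ∈ Finset.univ.erase i, sF j), ?_⟩
  apply (Algebra.TensorProduct.basis p.ResidueField b).ext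
  intro i
  have h1 : bcFun p.ResidueField
      (b.constr A (fun i => aF i * ∏ j ∈ Finset.univ.erase i, sF j))
      (Algebra.TensorProduct.basis p.ResidueField b i) =
      algebraMap A p.ResidueField (aF i * ∏ j ∈ Finset.univ.erase i, sF j) := by
    rw [Algebra.TensorProduct.basis_apply, bcFun_tmul, mul_one, Module.Basis.constr_basis]
  rw [h1, LinearMap.smul_apply, smul_eq_mul,
    ← Finset.mul_prod_erase Finset.univ sF (Finset.mem_univ i), map_mul, map_mul, ← haF i]
  ring

end lift

end Groth.Agent.Lib.Helper4.Frob
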