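import Mathlib
import Groth.Prelude.Def_Disc
import Groth.Agent.Lib.Helper4.GorFlat
import Groth.Agent.Lib.Helper4.GorLoc
import Groth.Agent.Lib.Helper4.Frob1

/-!
# Frobenius-type criteria, part 2 (helper4)

For a finite-dimensional commutative algebra `C` over a field `κ`:
* `gor_of_surjective`: if `Hom_κ(C, κ)` is a cyclic `C`-module then `C` is Gorenstein;
* `exists_nondeg`: if `C` is Gorenstein there is a functional `e` with `(x, y) ↦ e (x y)`
  nondegenerate.
-/

set_option autoImplicit false
set_option linter.style.haveILetI false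
set_option linter.unusedSectionVars false
set_option linter.unusedVariables false
set_option maxHeartbeats 800000

universe u

namespace Groth.Agent.Lib.Helper4.Frob

open TensorProduct

section K1

variable (κ C : Type u) [Field κ] [CommRing C] [Algebra κ C]

theorem baer_omega : Module.Baer C (Disc.Omega κ C) := by
  intro I g
  let γ : (I.restrictScalars κ) →ₗ[κ] κ :=
    { toFun := fun x => (g ⟨x.1, x.2⟩).toLinearMap 1
      map_add' := fun x y => by
        have h1 : (⟨(x + y).1, (x + y).2⟩ : I) = ⟨x.1, x.2⟩ + ⟨y.1, y.2⟩ := rfl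
        rw [h1, map_add]
        rfl
      map_smul' := fun r x => by
        have h1 : (⟨(r • x).1, (r • x).2⟩ : I) = (algebraMap κ C r) • (⟨x.1, x.2⟩ : I) := by
          apply Subtype.ext
          show r • x.1 = algebraMap κ C r * x.1
          exact Algebra.smul_def r x.1
        rw [h1, map_smul]
        show ((algebraMap κ C r) • g ⟨x.1, x.2⟩).toLinearMap 1 =
          r • (g ⟨x.1, x.2⟩).toLinearMap 1
        rw [Disc.Omega.smul_toLinearMap_apply, mul_one, ← mul_one (algebraMap κ C r),
          ← Algebra.smul_def, map_smul] }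
  obtain ⟨γ', hγ'⟩ := LinearMap.exists_extend γ
  refine ⟨LinearMap.toSpanSingleton C (Disc.Omega κ C) ⟨γ'⟩, fun x mem => ?_⟩
  apply Disc.Omega.ext
  apply LinearMap.ext
  intro y
  show γ' (x * y) = (g ⟨x, mem⟩).toLinearMap y
  have h1 : (g ⟨x, mem⟩).toLinearMap y =
      (g ⟨y * x, I.mul_mem_left y mem⟩).toLinearMap 1 := by
    have h2 : (⟨y * x, I.mul_mem_left y mem⟩ : I) = y • ⟨x, mem⟩ := rfl
    rw [h2, map_smul, Disc.Omega.smul_toLinearMap_apply, mul_one]
  rw [h1]
  have h2 := LinearMap.congr_fun hγ' ⟨y * x, I.mul_mem_left y mem⟩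
  rw [mul_comm x y]
  exact h2

theorem gor_of_surjective [Module.Finite κ C] (f : C →ₗ[C] Disc.Omega κ C)
    (hf : Function.Surjective f) : LocCoh.IsGorensteinRing C := by
  haveI : IsArtinianRing C := IsArtinianRing.of_finite κ C
  haveI : IsNoetherianRing C := inferInstance
  let F : C →ₗ[κ] Module.Dual κ C :=
    { toFun := fun c => (f c).toLinearMap
      map_add' := fun x y => by
        rw [map_add]
        rfl
      map_smul' := fun r x => by
        rw [Algebra.smul_def, ← smul_eq_mul, map_smul]
        apply LinearMap.ext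
        intro y
        show (f x).toLinearMap (algebraMap κ C r * y) = r • (f x).toLinearMap y
        rw [← Algebra.smul_def, map_smul] }
  have hFs : Function.Surjective F := fun φ => by
    obtain ⟨c, hc⟩ := hf ⟨φ⟩
    exact ⟨c, by show (f c).toLinearMap = φ; rw [hc]⟩
  have hFi : Function.Injective F :=
    (LinearMap.injective_iff_surjective_of_finrank_eq_finrank
      Subspace.dual_finrank_eq.symm).mpr hFs
  have hfi : Function.Injective f := fun x y hxy =>
    hFi (by show (f x).toLinearMap = (f y).toLinearMap; rw [hxy])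
  let e : C ≃ₗ[C] Disc.Omega κ C := LinearEquiv.ofBijective f ⟨hfi, hf⟩
  haveI : Module.Injective C (Disc.Omega κ C) := (baer_omega κ C).injective
  haveI : CategoryTheory.Injective (ModuleCat.of C (Disc.Omega κ C)) :=
    Module.injective_object_of_injective_module C _
  haveI : CategoryTheory.Injective (ModuleCat.of C C) :=
    CategoryTheory.Injective.of_iso e.toModuleIso.symm inferInstance
  have hdim : CategoryTheory.HasInjectiveDimensionLT (ModuleCat.of C C) 1 := inferInstance
  exact { isGorensteinLocalRing_localization := fun P _ =>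
    LC.isGorensteinLocalRing_localization_of_injDim 1 hdim P }

end K1

section K2

theorem exists_nondeg_local (κ : Type*) [Field κ] (R : Type u) [CommRing R] [IsLocalRing R]
    [IsArtinianRing R] [Algebra κ R] (h : GorFlat.Type1 R) :
    ∃ e : R →ₗ[κ] κ, ∀ c : R, c ≠ 0 → ∃ c' : R, e (c * c') ≠ 0 := by
  obtain ⟨z, hz0, hzsoc, hzgen⟩ := h
  have he : ∃ e : Module.Dual κ R, e z ≠ 0 := by
    by_contra hcon
    push Not at hcon
    exact hz0 ((Module.forall_dual_apply_eq_zero_iff κ z).mp hcon)
  obtain ⟨e, he⟩ := he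
  obtain ⟨N, hN⟩ := IsArtinianRing.isNilpotent_jacobson_bot (R := R)
  rw [IsLocalRing.jacobson_eq_maximalIdeal ⊥ bot_ne_top] at hN
  refine ⟨e, fun c hc => ?_⟩
  obtain ⟨c1, hc1, hsoc⟩ := GorFlat.exists_soc_mul N c hc (fun t ht => by
    rw [hN, Ideal.zero_eq_bot] at ht
    rw [(Submodule.mem_bot R).mp ht, zero_mul])
  obtain ⟨c2, hc2⟩ := hzgen _ hsoc
  have hc2u : IsUnit c2 := by
    by_contra hnu
    have hm : c2 ∈ IsLocalRing.maximalIdeal R := (IsLocalRing.mem_maximalIdeal c2).mpr hnu
    apply hc1
    rw [hc2, hzsoc c2 hm]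
  obtain ⟨u, hu⟩ := hc2u.exists_left_inv
  refine ⟨c1 * u, ?_⟩
  have h3 : c * (c1 * u) = z := by
    calc c * (c1 * u) = u * (c1 * c) := by ring
      _ = u * (c2 * z) := by rw [hc2]
      _ = (u * c2) * z := by ring
      _ = z := by rw [hu, one_mul]
  rw [h3]
  exact he

theorem exists_nondeg (κ C : Type u) [Field κ] [CommRing C] [Algebra κ C] [Module.Finite κ C]
    (hG : LocCoh.IsGorensteinRing C) :
    ∃ e : C →ₗ[κ] κ, ∀ c : C, c ≠ 0 → ∃ c' : C, e (c * c') ≠ 0 := by
  classical
  haveI : IsArtinianRing C := IsArtinianRing.of_finite κ C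
  haveI : Fintype (MaximalSpectrum C) := Fintype.ofFinite _
  have hloc : ∀ m : MaximalSpectrum C, ∃ e : Localization.AtPrime m.asIdeal →ₗ[κ] κ,
      ∀ c : Localization.AtPrime m.asIdeal, c ≠ 0 → ∃ c', e (c * c') ≠ 0 := by
    intro m
    haveI : IsArtinianRing (Localization.AtPrime m.asIdeal) :=
      IsArtinianRing.localization_artinian m.asIdeal.primeCompl _
    haveI : IsNoetherianRing (Localization.AtPrime m.asIdeal) := inferInstance
    have h0 : ringKrullDim (Localization.AtPrime m.asIdeal) = 0 :=
      ringKrullDimZero_iff_ringKrullDim_eq_zero.mp inferInstance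
    exact exists_nondeg_local κ _
      (GorFlat.type1_of_gor _ (hG.isGorensteinLocalRing_localization m.asIdeal) h0)
  choose eL heL using hloc
  refine ⟨∑ m, (eL m) ∘ₗ
    (IsScalarTower.toAlgHom κ C (Localization.AtPrime m.asIdeal)).toLinearMap, fun c hc => ?_⟩
  have h1 : MaximalSpectrum.toPiLocalization C c ≠ 0 := fun h =>
    hc ((map_eq_zero_iff _ (MaximalSpectrum.toPiLocalization_injective C)).mp h)
  obtain ⟨m, hm⟩ := Function.ne_iff.mp h1
  obtain ⟨c'm, hc'm⟩ := heL m _ hm
  obtain ⟨c', hc'⟩ :=
    PrimeSpectrum.maximalSpectrumToPiLocalization_surjective_of_discreteTopology C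
      (Pi.single m c'm)
  refine ⟨c', ?_⟩
  have hsum : (∑ m, (eL m) ∘ₗ
      (IsScalarTower.toAlgHom κ C (Localization.AtPrime m.asIdeal)).toLinearMap) (c * c') =
      eL m (algebraMap C _ c * c'm) := by
    rw [LinearMap.sum_apply, Finset.sum_eq_single m]
    · show eL m (algebraMap C _ (c * c')) = _
      rw [map_mul]
      have h2 := congrFun hc' m
      rw [Pi.single_eq_same] at h2
      rw [show algebraMap C (Localization.AtPrime m.asIdeal) c' = c'm from h2]
    · intro m' _ hne
      show eL m' (algebraMap C _ (c * c')) = 0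
      rw [map_mul]
      have h2 := congrFun hc' m'
      rw [Pi.single_eq_of_ne hne] at h2
      rw [show algebraMap C (Localization.AtPrime m'.asIdeal) c' = 0 from h2, mul_zero,
        map_zero]
    · intro h
      exact absurd (Finset.mem_univ m) h
  rw [hsum]
  exact hc'm

end K2

end Groth.Agent.Lib.Helper4.Frob
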