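import Mathlib
import Groth.Prelude.Def_Disc
import Groth.Agent.Lib.Helper4.Frob2

/-!
# Frobenius-type criteria, part 3 (helper4)

If `ω_{B/A} = Hom_A(B, A)` is an invertible `B`-module (`B` finite free over `A`), every fibre ring
`κ(p) ⊗_A B` is Gorenstein.
-/

set_option autoImplicit false
set_option linter.style.haveILetI false
set_option linter.unusedSectionVars false
set_option linter.unusedVariables false
set_option maxHeartbeats 800000

universe u

namespace Groth.Agent.Lib.Helper4.Frob

open TensorProduct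

attribute [local instance] Algebra.TensorProduct.rightAlgebra

section psi

variable {A B : Type u} [CommRing A] [CommRing B] [Algebra A B] (p : Ideal A) [p.IsPrime]

/-- the additive map underlying `Omega.toLinearMap`. -/
def toLinHom (R S : Type*) [CommRing R] [CommRing S] [Algebra R S] :
    Disc.Omega R S →+ (S →ₗ[R] R) where
  toFun := Disc.Omega.toLinearMap
  map_zero' := rfl
  map_add' _ _ := rfl

/-- `B` acts on `Hom_κ(κ ⊗ B, κ)` through `κ ⊗ B`. -/
noncomputable local instance omegaModB :
    Module B (Disc.Omega p.ResidueField (p.ResidueField ⊗[A] B)) :=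
  Module.compHom _ (algebraMap B (p.ResidueField ⊗[A] B))

local instance omegaTower : IsScalarTower B (p.ResidueField ⊗[A] B)
    (Disc.Omega p.ResidueField (p.ResidueField ⊗[A] B)) :=
  ⟨fun β c x => by
    show (β • c) • x = (algebraMap B (p.ResidueField ⊗[A] B) β) • (c • x)
    rw [Algebra.smul_def, mul_smul]⟩

/-- base change of functionals, as a `B`-linear map. -/
noncomputable def psi :
    Disc.Omega A B →ₗ[B] Disc.Omega p.ResidueField (p.ResidueField ⊗[A] B) where
  toFun w := ⟨bcFun p.ResidueField w.toLinearMap⟩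
  map_add' w w' := by
    apply Disc.Omega.ext
    show bcFun p.ResidueField (w.toLinearMap + w'.toLinearMap) =
      bcFun p.ResidueField w.toLinearMap + bcFun p.ResidueField w'.toLinearMap
    exact bcFun_add _ _ _
  map_smul' β w := by
    apply Disc.Omega.ext
    show bcFun p.ResidueField (β • w).toLinearMap =
      ((algebraMap B (p.ResidueField ⊗[A] B) β) •
        (⟨bcFun p.ResidueField w.toLinearMap⟩ :
          Disc.Omega p.ResidueField (p.ResidueField ⊗[A] B))).toLinearMap
    apply TensorProduct.AlgebraTensorModule.ext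
    intro x y
    rw [Disc.Omega.smul_toLinearMap_apply, Algebra.TensorProduct.right_algebraMap_apply,
      Algebra.TensorProduct.tmul_mul_tmul, one_mul, bcFun_tmul, bcFun_tmul,
      Disc.Omega.smul_toLinearMap_apply]

/-- the comparison map `(κ ⊗ B) ⊗_B ω_{B/A} → Hom_κ(κ ⊗ B, κ)`. -/
noncomputable def Psi :
    (p.ResidueField ⊗[A] B) ⊗[B] Disc.Omega A B →ₗ[p.ResidueField ⊗[A] B]
      Disc.Omega p.ResidueField (p.ResidueField ⊗[A] B) :=
  LinearMap.liftBaseChange (p.ResidueField ⊗[A] B) (psi p)

lemma Psi_tmul_apply {ι : Type*} [Fintype ι] [DecidableEq ι] (b : Module.Basis ι A B)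
    (x : p.ResidueField) (i j : ι) :
    ((Psi p) ((x ⊗ₜ[A] (1 : B)) ⊗ₜ[B] (⟨b.coord i⟩ : Disc.Omega A B))).toLinearMap
      (1 ⊗ₜ[A] b j) = if i = j then x else 0 := by
  unfold Psi
  rw [LinearMap.liftBaseChange_tmul, Disc.Omega.smul_toLinearMap_apply,
    Algebra.TensorProduct.tmul_mul_tmul, mul_one, one_mul]
  show bcFun p.ResidueField (b.coord i) (x ⊗ₜ[A] b j) = _
  rw [bcFun_tmul, Module.Basis.coord_apply, Module.Basis.repr_self, Finsupp.single_apply]
  by_cases h : i = j
  · subst h
    rw [if_pos rfl, if_pos rfl, map_one, one_mul]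
  · rw [if_neg (fun h' => h h'.symm), if_neg h, map_zero, zero_mul]

theorem Psi_surjective [Module.Finite A B] [Module.Free A B] :
    Function.Surjective (Psi (B := B) p) := by
  classical
  intro φ
  obtain ⟨b, hb⟩ : ∃ b : Module.Basis (Module.Free.ChooseBasisIndex A B) A B,
    b = Module.Free.chooseBasis A B := ⟨_, rfl⟩
  refine ⟨∑ i, ((φ.toLinearMap (Algebra.TensorProduct.basis p.ResidueField b i)) ⊗ₜ[A] (1 : B))
    ⊗ₜ[B] (⟨b.coord i⟩ : Disc.Omega A B), ?_⟩
  apply Disc.Omega.ext
  apply (Algebra.TensorProduct.basis p.ResidueField b).ext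
  intro j
  rw [map_sum]
  show (toLinHom _ _ (∑ i, _)) _ = _
  rw [map_sum, LinearMap.sum_apply]
  have h1 : ∀ i, (toLinHom p.ResidueField (p.ResidueField ⊗[A] B)
      ((Psi p) (((φ.toLinearMap (Algebra.TensorProduct.basis p.ResidueField b i)) ⊗ₜ[A] (1 : B))
        ⊗ₜ[B] (⟨b.coord i⟩ : Disc.Omega A B))))
      (Algebra.TensorProduct.basis p.ResidueField b j) =
      if i = j then φ.toLinearMap (Algebra.TensorProduct.basis p.ResidueField b i) else 0 := by
    intro i
    rw [Algebra.TensorProduct.basis_apply b j]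
    exact Psi_tmul_apply p b _ i j
  rw [Finset.sum_congr rfl (fun i _ => h1 i), Finset.sum_ite_eq' Finset.univ j,
    if_pos (Finset.mem_univ j)]

theorem gor_fiber_of_invertible [Module.Finite A B] [Module.Free A B]
    (hinv : Module.Invertible B (Disc.Omega A B)) :
    LocCoh.IsGorensteinRing (p.ResidueField ⊗[A] B) := by
  classical
  haveI : IsArtinianRing (p.ResidueField ⊗[A] B) :=
    IsArtinianRing.of_finite p.ResidueField _
  have hfree : Module.Free (p.ResidueField ⊗[A] B)
      ((p.ResidueField ⊗[A] B) ⊗[B] Disc.Omega A B) := inferInstance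
  obtain ⟨ε⟩ := Module.Invertible.free_iff_linearEquiv.mp hfree
  have hg : ∀ y, y = ε y • ε.symm 1 := fun y => by
    rw [← map_smul, smul_eq_mul, mul_one, LinearEquiv.symm_apply_apply]
  apply gor_of_surjective p.ResidueField _
    (LinearMap.toSpanSingleton _ _ (Psi p (ε.symm 1)))
  intro φ
  obtain ⟨y, hy⟩ := Psi_surjective p φ
  refine ⟨ε y, ?_⟩
  show ε y • Psi p (ε.symm 1) = φ
  rw [← map_smul, ← hg y, hy]

end psi

end Groth.Agent.Lib.Helper4.Frob
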