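import Mathlib
import Groth.Prelude.Def_Disc
import Groth.Agent.Lib.Helper15.NoetherDiffBC

/-!
# The Noether different along a flat epimorphism (helper4, for S2220)
-/

set_option autoImplicit false
set_option linter.style.haveILetI false
set_option linter.unusedSectionVars false
set_option linter.unusedVariables false
set_option maxHeartbeats 800000
universe u

namespace Groth.Agent.Lib.Helper4.NDOpen

open TensorProduct CategoryTheory

/-- Annihilators of finitely generated ideals commute with flat ring maps (one inclusion). -/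
theorem ann_map_le_flat {R S : Type*} [CommRing R] [CommRing S] (φ : R →+* S) (hφ : φ.Flat)
    (I : Ideal R) (hI : I.FG) :
    Submodule.annihilator (Ideal.map φ I) ≤ Ideal.map φ (Submodule.annihilator I) := by
  algebraize [φ]
  have hbc : IsBaseChange S (Algebra.ofId R S).toLinearMap := IsBaseChange.linearMap R S
  have := Groth.Agent.Lib.Helper15.NoetherDiffBC.ann_map_le (A := R) (A' := S) (T := R) (T' := S)
    (Algebra.ofId R S) hbc I hI
  exact this

variable {A B' B : Type u} [CommRing A] [CommRing B'] [CommRing B] [Algebra A B'] [Algebra A B]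
  [Algebra B' B] [IsScalarTower A B' B]

variable (A B' B) in
/-- The natural map `B' ⊗[A] B' → B ⊗[A] B`. -/
noncomputable def Phi : B' ⊗[A] B' →+* B ⊗[A] B :=
  (Algebra.TensorProduct.map (IsScalarTower.toAlgHom A B' B)
    (IsScalarTower.toAlgHom A B' B)).toRingHom

theorem Phi_tmul (x y : B') :
    Phi A B' B (x ⊗ₜ y) = algebraMap B' B x ⊗ₜ[A] algebraMap B' B y := by
  simp [Phi]

theorem lmul_Phi (t : B' ⊗[A] B') :
    Algebra.TensorProduct.lmul' (S := B) A (Phi A B' B t) =
      algebraMap B' B (Algebra.TensorProduct.lmul' (S := B') A t) := by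
  induction t using TensorProduct.induction_on with
  | zero => simp
  | tmul x y => rw [Phi_tmul]; simp
  | add z w hz hw => rw [map_add, map_add, map_add, map_add, hz, hw]

theorem Phi_flat (hflat : (algebraMap B' B).Flat) : (Phi A B' B).Flat := by
  have h1 : (IsScalarTower.toAlgHom A B' B).Flat := hflat
  exact RingHom.Flat.tensorProductMap (R := A) (S := A) h1 h1

theorem ideal_eq_map (hepi : Epi (CommRingCat.ofHom (algebraMap B' B))) :
    KaehlerDifferential.ideal A B =
      Ideal.map (Phi A B' B) (KaehlerDifferential.ideal A B') := by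
  apply le_antisymm
  · rw [← KaehlerDifferential.span_range_eq_ideal A B, Ideal.span_le]
    rintro _ ⟨b, rfl⟩
    generalize hJ : Ideal.map (Phi A B' B) (KaehlerDifferential.ideal A B') = J
    obtain ⟨ι₁, hι₁⟩ : ∃ ι₁ : B →+* (B ⊗[A] B) ⧸ J,
        ∀ b, ι₁ b = Ideal.Quotient.mk J (b ⊗ₜ[A] (1 : B)) :=
      ⟨(Ideal.Quotient.mk J).comp Algebra.TensorProduct.includeLeftRingHom, fun b => rfl⟩
    obtain ⟨ι₂, hι₂⟩ : ∃ ι₂ : B →+* (B ⊗[A] B) ⧸ J,
        ∀ b, ι₂ b = Ideal.Quotient.mk J ((1 : B) ⊗ₜ[A] b) :=
      ⟨(Ideal.Quotient.mk J).comp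
        (Algebra.TensorProduct.includeRight (R := A) (A := B) (B := B)).toRingHom, fun b => rfl⟩
    have hcomp : ι₁.comp (algebraMap B' B) = ι₂.comp (algebraMap B' B) := by
      ext x
      rw [RingHom.comp_apply, RingHom.comp_apply, hι₁, hι₂, eq_comm, Ideal.Quotient.eq]
      have h := Ideal.mem_map_of_mem (Phi A B' B)
        (KaehlerDifferential.one_smul_sub_smul_one_mem_ideal A x)
      rw [map_sub, Phi_tmul, Phi_tmul, map_one, hJ] at h
      exact h
    have heq : CommRingCat.ofHom ι₁ = CommRingCat.ofHom ι₂ := by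
      rw [← cancel_epi (CommRingCat.ofHom (algebraMap B' B)), ← CommRingCat.ofHom_comp,
        ← CommRingCat.ofHom_comp, hcomp]
    have h2 : ι₁ b = ι₂ b := by
      have := congrArg (fun g => g.hom b) heq
      exact this
    rw [hι₁, hι₂, eq_comm, Ideal.Quotient.eq] at h2
    exact h2
  · rw [Ideal.map_le_iff_le_comap]
    intro t ht
    rw [Ideal.mem_comap, RingHom.mem_ker, lmul_Phi]
    rw [RingHom.mem_ker] at ht
    rw [ht, map_zero]

theorem main [Algebra.FiniteType A B'] (hflat : (algebraMap B' B).Flat)
    (hepi : Epi (CommRingCat.ofHom (algebraMap B' B))) :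
    Disc.noetherDifferent A B = (Disc.noetherDifferent A B').map (algebraMap B' B) := by
  have hI := ideal_eq_map (A := A) hepi
  have hsurj' : Function.Surjective (Algebra.TensorProduct.lmul' (S := B') A) :=
    fun b => ⟨b ⊗ₜ 1, by simp⟩
  have hsurj : Function.Surjective (Algebra.TensorProduct.lmul' (S := B) A) :=
    fun b => ⟨b ⊗ₜ 1, by simp⟩
  have hann : ∀ e ∈ Submodule.annihilator (KaehlerDifferential.ideal A B'),
      Phi A B' B e ∈ Submodule.annihilator (KaehlerDifferential.ideal A B) := by
    intro e he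
    rw [Submodule.mem_annihilator] at he ⊢
    intro y hy
    rw [hI] at hy
    refine Submodule.span_induction ?_ ?_ ?_ ?_ hy
    · rintro _ ⟨t, ht, rfl⟩
      have := he t ht
      rw [smul_eq_mul] at this ⊢
      rw [← map_mul, this, map_zero]
    · rw [smul_zero]
    · intro x y _ _ hx hy; rw [smul_add, hx, hy, add_zero]
    · intro a x _ hx; rw [smul_comm, hx, smul_zero]
  unfold Disc.noetherDifferent
  apply le_antisymm
  · intro y hy
    rw [Ideal.mem_map_iff_of_surjective _ hsurj] at hy
    obtain ⟨e, he, rfl⟩ := hy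
    have he'' : e ∈ Ideal.map (Phi A B' B)
        (Submodule.annihilator (KaehlerDifferential.ideal A B')) := by
      apply ann_map_le_flat (Phi A B' B) (Phi_flat hflat) _ (KaehlerDifferential.ideal_fg A B')
      rw [← hI]
      exact he
    have hle : Ideal.map (Phi A B' B) (Submodule.annihilator (KaehlerDifferential.ideal A B')) ≤
        Ideal.comap (Algebra.TensorProduct.lmul' (S := B) A)
          (Ideal.map (algebraMap B' B) (Ideal.map (Algebra.TensorProduct.lmul' (S := B') A)
            (Submodule.annihilator (KaehlerDifferential.ideal A B')))) := by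
      rw [Ideal.map_le_iff_le_comap]
      intro e he
      rw [Ideal.mem_comap, Ideal.mem_comap, lmul_Phi]
      exact Ideal.mem_map_of_mem (algebraMap B' B)
        (Ideal.mem_map_of_mem (Algebra.TensorProduct.lmul' (S := B') A) he)
    exact hle he''
  · rw [Ideal.map_le_iff_le_comap]
    intro d hd
    rw [Ideal.mem_map_iff_of_surjective _ hsurj'] at hd
    obtain ⟨e, he, rfl⟩ := hd
    rw [Ideal.mem_comap, ← lmul_Phi (A := A)]
    exact Ideal.mem_map_of_mem _ (hann e he)

end Groth.Agent.Lib.Helper4.NDOpen
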