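import Mathlib
import Groth.Agent.Lib.Helper4.Unmixed2
import Groth.Agent.Lib.Helper4.GorRing
import Groth.Agent.Lib.Helper22.KoszRegQuot
import Groth.Agent.Lib.Helper4.Frob2

/-!
# Complete intersections in regular rings are Gorenstein (helper4)

* `gorRing_quotient_of_height`: for a regular ring `S` and `f : Fin r → S` generating an ideal of
  height `≥ r`, the quotient `S ⧸ (f)` is a Gorenstein ring.
* `Frob.equiv_of_nondeg`: a nondegenerate functional on a finite-dimensional algebra identifies the
  algebra with its dual.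
-/

set_option autoImplicit false
set_option linter.style.haveILetI false
set_option linter.unusedSectionVars false
set_option linter.unusedVariables false
set_option maxHeartbeats 800000

open IsLocalRing RingTheory.Sequence

universe u

namespace Groth.Agent.Lib.Helper4.CIZero

theorem exists_regular_local (S : Type u) [CommRing S] [IsRegularRing S] (r : ℕ) (f : Fin r → S)
    (hJ : (r : ℕ∞) ≤ (Ideal.span (Set.range f)).height) (P : Ideal S) [P.IsPrime]
    (hJP : Ideal.span (Set.range f) ≤ P) :
    ∃ rsS : List (Localization.AtPrime P), IsWeaklyRegular (Localization.AtPrime P) rsS ∧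
      (Ideal.span (Set.range f)).map (algebraMap S (Localization.AtPrime P)) =
        Ideal.ofList rsS := by
  have hI : Ideal.ofList (List.ofFn (fun i => algebraMap _ (Localization.AtPrime P) (f i))) =
      (Ideal.span (Set.range f)).map (algebraMap _ (Localization.AtPrime P)) := by
    apply le_antisymm
    · change Ideal.span {x | x ∈ List.ofFn _} ≤ _
      apply Ideal.span_le.2
      intro x hx
      have hx' : x ∈ List.ofFn (fun i => algebraMap _ (Localization.AtPrime P) (f i)) := hx
      rw [List.mem_ofFn] at hx'
      obtain ⟨i, rfl⟩ := hx'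
      exact Ideal.mem_map_of_mem _ (Ideal.subset_span ⟨i, rfl⟩)
    · apply Ideal.map_le_iff_le_comap.2
      apply Ideal.span_le.2
      rintro _ ⟨i, rfl⟩
      change algebraMap _ (Localization.AtPrime P) (f i) ∈ Ideal.span {x | x ∈ List.ofFn _}
      apply Ideal.subset_span
      change _ ∈ List.ofFn _
      rw [List.mem_ofFn]
      exact ⟨i, rfl⟩
  have hxs : ∀ x ∈ List.ofFn (fun i => algebraMap _ (Localization.AtPrime P) (f i)),
      x ∈ maximalIdeal (Localization.AtPrime P) := by
    intro x hx
    rw [List.mem_ofFn] at hx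
    obtain ⟨i, rfl⟩ := hx
    exact (IsLocalization.AtPrime.to_map_mem_maximal_iff (Localization.AtPrime P) P (f i)).mpr
      (hJP (Ideal.subset_span ⟨i, rfl⟩))
  have hlen : (List.ofFn (fun i => algebraMap _ (Localization.AtPrime P) (f i))).length = r :=
    List.length_ofFn
  have hh : (((List.ofFn (fun i => algebraMap _ (Localization.AtPrime P) (f i))).length : ℕ) : ℕ∞) ≤
      (Ideal.ofList (List.ofFn (fun i => algebraMap _ (Localization.AtPrime P) (f i)))).height := by
    rw [hI, hlen, ← IsLocalization.height_under P.primeCompl]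
    exact hJ.trans (Ideal.height_mono Ideal.le_comap_map)
  exact ⟨_, (Unmixed.unmixed_local (Localization.AtPrime P) _ hxs hh).1, hI.symm⟩

theorem isKoszulRegularIdeal_of_height (S : Type u) [CommRing S] [IsRegularRing S] (r : ℕ)
    (f : Fin r → S) (hJ : (r : ℕ∞) ≤ (Ideal.span (Set.range f)).height) :
    LCI.IsKoszulRegularIdeal (Ideal.span (Set.range f)) :=
  Groth.Agent.Lib.Helper22.KoszRegQuot.isKoszulRegularIdeal_of_local _
    (fun 𝔭 _ h => exists_regular_local S r f hJ 𝔭 h)

theorem gorRing_quotient_of_height (S : Type u) [CommRing S] [IsRegularRing S] (r : ℕ)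
    (f : Fin r → S) (hJ : (r : ℕ∞) ≤ (Ideal.span (Set.range f)).height) :
    LocCoh.IsGorensteinRing (S ⧸ Ideal.span (Set.range f)) :=
  GorRing.gorRing_quot_of_isKoszulRegularIdeal (GorRing.gorRing_of_isRegularRing S) _
    (isKoszulRegularIdeal_of_height S r f hJ)

end Groth.Agent.Lib.Helper4.CIZero

namespace Groth.Agent.Lib.Helper4.Frob

/-- A nondegenerate functional on a finite-dimensional algebra gives `C ≃ Hom_κ(C, κ)`. -/
theorem equiv_of_nondeg (κ C : Type u) [Field κ] [CommRing C] [Algebra κ C] [Module.Finite κ C]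
    (e : C →ₗ[κ] κ) (he : ∀ c : C, c ≠ 0 → ∃ c' : C, e (c * c') ≠ 0) :
    Nonempty (C ≃ₗ[C] Disc.Omega κ C) := by
  let F : C →ₗ[κ] Module.Dual κ C :=
    { toFun := fun c => e ∘ₗ LinearMap.mulLeft κ c
      map_add' := fun x y => by
        apply LinearMap.ext
        intro z
        simp [add_mul]
      map_smul' := fun r x => by
        apply LinearMap.ext
        intro z
        simp }
  have hFi : Function.Injective F := by
    rw [injective_iff_map_eq_zero]
    intro c hc
    by_contra hne
    obtain ⟨c', hc'⟩ := he c hne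
    exact hc' (LinearMap.congr_fun hc c')
  have hFs : Function.Surjective F :=
    (LinearMap.injective_iff_surjective_of_finrank_eq_finrank
      Subspace.dual_finrank_eq.symm).mp hFi
  let f : C →ₗ[C] Disc.Omega κ C := LinearMap.toSpanSingleton C (Disc.Omega κ C) ⟨e⟩
  have hf : ∀ c, (f c).toLinearMap = F c := fun c => by
    apply LinearMap.ext
    intro z
    rfl
  refine ⟨LinearEquiv.ofBijective f ⟨?_, ?_⟩⟩
  · intro x y hxy
    apply hFi
    rw [← hf, ← hf, hxy]
  · intro φ
    obtain ⟨c, hc⟩ := hFs φ.toLinearMap
    refine ⟨c, ?_⟩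
    apply Disc.Omega.ext
    rw [hf, hc]

end Groth.Agent.Lib.Helper4.Frob
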