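import Mathlib
import Groth.Prelude.Def_DerCA
import Groth.Prelude.Def_DRing2

/-!
# Multiplication by `f ^ k` is an isomorphism on the localised complex `K_f` in `D(A)`

Requested by helper2 (R7, for S7267).
-/

set_option autoImplicit false
set_option linter.style.haveILetI false
universe u
open CategoryTheory CategoryTheory.Limits

attribute [local instance] HasDerivedCategory.standard

namespace Groth.Agent.Lib.Helper4.LocSmulIso

variable {A : Type u} [CommRing A]

/-- on a localised module `M_f`, multiplication by `f ^ k` is an isomorphism. -/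
theorem isIso_smul_id_locMod (f : A) (k : ℕ) (M : ModuleCat.{u} A) :
    IsIso ((f ^ k) • 𝟙 ((DerCA.locFunctor (Submonoid.powers f)).obj M)) := by
  rw [ConcreteCategory.isIso_iff_bijective]
  have hu := IsLocalizedModule.map_units
    (LocalizedModule.mkLinearMap (Submonoid.powers f) M)
    (⟨f ^ k, ⟨k, rfl⟩⟩ : ↥(Submonoid.powers f))
  have hb := (Module.End.isUnit_iff _).mp hu
  refine ⟨fun x y hxy => hb.1 ?_, fun y => ?_⟩
  · exact hxy
  · obtain ⟨x, hx⟩ := hb.2 y
    exact ⟨x, hx⟩

/-- on the termwise localisation `K_f`, multiplication by `f ^ k` is an isomorphism of complexes. -/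
theorem isIso_smul_id_locCx_cx (f : A) (k : ℕ) (K : DRing.Cx A) :
    IsIso ((f ^ k) • 𝟙 ((DerCA.locCx (Submonoid.powers f)).obj K)) := by
  haveI : ∀ i, IsIso (((f ^ k) • 𝟙 ((DerCA.locCx (Submonoid.powers f)).obj K) :
      (DerCA.locCx (Submonoid.powers f)).obj K ⟶ _).f i) := by
    intro i
    rw [HomologicalComplex.smul_f_apply, HomologicalComplex.id_f]
    exact isIso_smul_id_locMod f k (K.X i)
  exact HomologicalComplex.Hom.isIso_of_components _

theorem isIso_smul_id_locCx (f : A) (k : ℕ) (K : DRing.Cx A) :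
    IsIso ((f ^ k) • 𝟙 (DRing.toD ((DerCA.locCx (Submonoid.powers f)).obj K))) := by
  haveI := isIso_smul_id_locCx_cx f k K
  have h : (f ^ k) • 𝟙 (DRing.toD ((DerCA.locCx (Submonoid.powers f)).obj K)) =
      DerivedCategory.Q.map ((f ^ k) • 𝟙 ((DerCA.locCx (Submonoid.powers f)).obj K)) := by
    rw [CategoryTheory.Functor.map_smul, CategoryTheory.Functor.map_id]
  rw [h]
  infer_instance

end Groth.Agent.Lib.Helper4.LocSmulIso
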