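import Mathlib

/-!
# A coproduct of distinguished triangles is distinguished

Requested by helper2 (R1, for S7280). Dual of Mathlib's
`CategoryTheory.Pretriangulated.productTriangle_distinguished`.
-/

set_option autoImplicit false
set_option linter.unusedSectionVars false

open CategoryTheory CategoryTheory.Limits CategoryTheory.Pretriangulated

namespace Groth.Agent.Lib.Helper4.SigmaTri

variable {C : Type*} [Category C] [Preadditive C] [HasZeroObject C] [HasShift C ℤ]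
  [∀ n : ℤ, (shiftFunctor C n).Additive] [Pretriangulated C]

/-- the shift of a coproduct is a coproduct of the shifts. -/
noncomputable def shiftSigmaIsColimit {ι : Type*} (X : ι → C) [HasCoproduct X] (n : ℤ) :
    IsColimit ((shiftFunctor C n).mapCocone (colimit.cocone (Discrete.functor X))) :=
  isColimitOfPreserves (shiftFunctor C n) (colimit.isColimit _)

theorem exists_shift_desc {ι : Type*} (X : ι → C) [HasCoproduct X] (n : ℤ) {W : C}
    (β : ∀ i, (X i)⟦n⟧ ⟶ W) :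
    ∃ b : (∐ X)⟦n⟧ ⟶ W, ∀ i, (Sigma.ι X i)⟦n⟧' ≫ b = β i := by
  let hc := shiftSigmaIsColimit X n
  let s : Cocone (Discrete.functor X ⋙ shiftFunctor C n) :=
    { pt := W, ι := Discrete.natTrans (fun i => β i.as) }
  exact ⟨hc.desc s, fun i => hc.fac s ⟨i⟩⟩

theorem shift_sigma_hom_ext {ι : Type*} (X : ι → C) [HasCoproduct X] (n : ℤ) {W : C}
    (a b : (∐ X)⟦n⟧ ⟶ W)
    (h : ∀ i, (Sigma.ι X i)⟦n⟧' ≫ a = (Sigma.ι X i)⟦n⟧' ≫ b) : a = b :=
  (shiftSigmaIsColimit X n).hom_ext (fun i => h i.as)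

theorem exists_sigma_triangle {ι : Type*} (A B D : ι → C) (f : ∀ i, A i ⟶ B i)
    (g : ∀ i, B i ⟶ D i) (h : ∀ i, D i ⟶ (A i)⟦(1 : ℤ)⟧)
    (hT : ∀ i, Triangle.mk (f i) (g i) (h i) ∈ distTriang C)
    [HasCoproduct A] [HasCoproduct B] [HasCoproduct D] :
    ∃ H : ∐ D ⟶ (∐ A)⟦(1 : ℤ)⟧,
      Triangle.mk (Limits.Sigma.map f) (Limits.Sigma.map g) H ∈ distTriang C := by
  obtain ⟨Z, f₂, f₃, hT'⟩ := distinguished_cocone_triangle (Limits.Sigma.map f)
  have hex : ∀ i, ∃ c : D i ⟶ Z, g i ≫ c = Sigma.ι B i ≫ f₂ ∧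
      h i ≫ (Sigma.ι A i)⟦(1 : ℤ)⟧' = c ≫ f₃ := fun i =>
    complete_distinguished_triangle_morphism (Triangle.mk (f i) (g i) (h i))
      (Triangle.mk (Limits.Sigma.map f) f₂ f₃) (hT i) hT'
      (Sigma.ι A i) (Sigma.ι B i) (Sigma.ι_map f i).symm
  choose c hc₂ hc₃ using hex
  let cc : ∐ D ⟶ Z := Sigma.desc c
  have hcc : ∀ i, Sigma.ι D i ≫ cc = c i := fun i => by simp [cc]
  have k2 : Limits.Sigma.map g ≫ cc = f₂ := by
    refine Sigma.hom_ext _ _ (fun i => ?_)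
    rw [Sigma.ι_map_assoc, hcc, hc₂]
  have z31 : f₃ ≫ (Limits.Sigma.map f)⟦(1 : ℤ)⟧' = 0 :=
    comp_distTriang_mor_zero₃₁ (Triangle.mk (Limits.Sigma.map f) f₂ f₃) hT'
  have hfg : Limits.Sigma.map f ≫ Limits.Sigma.map g = 0 := by
    refine Sigma.hom_ext _ _ (fun i => ?_)
    rw [Sigma.ι_map_assoc, Sigma.ι_map, ← Category.assoc, comp_zero]
    have h0 : f i ≫ g i = 0 := comp_distTriang_mor_zero₁₂ _ (hT i)
    rw [h0, zero_comp]
  suffices hiso : IsIso cc by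
    refine ⟨cc ≫ f₃, isomorphic_distinguished _ hT' _ ?_⟩
    exact Triangle.isoMk (Triangle.mk (Limits.Sigma.map f) (Limits.Sigma.map g) (cc ≫ f₃))
      (Triangle.mk (Limits.Sigma.map f) f₂ f₃) (Iso.refl (∐ A)) (Iso.refl (∐ B))
      (@asIso _ _ (∐ D) Z cc hiso)
      (by
        change Limits.Sigma.map f ≫ 𝟙 _ = 𝟙 _ ≫ Limits.Sigma.map f
        rw [Category.comp_id, Category.id_comp])
      (by
        change Limits.Sigma.map g ≫ cc = 𝟙 _ ≫ f₂
        rw [Category.id_comp, k2])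
      (by
        change (cc ≫ f₃) ≫ (𝟙 (∐ A))⟦(1 : ℤ)⟧' = cc ≫ f₃
        rw [CategoryTheory.Functor.map_id, Category.comp_id])
  refine isIso_of_coyoneda_map_bijective _ (fun W => ⟨?_, ?_⟩)
  · -- injectivity
    suffices hepi : Epi cc by
      intro a₁ a₂ ha
      simpa only [cancel_epi cc] using ha
    refine Preadditive.epi_of_cancel_zero _ (fun {W} a ha => ?_)
    have hci : ∀ i, c i ≫ a = 0 := fun i => by
      rw [← hcc, Category.assoc, ha, comp_zero]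
    have hf₂a : f₂ ≫ a = 0 := by
      rw [← k2, Category.assoc, ha, comp_zero]
    obtain ⟨b, hb⟩ : ∃ b : (∐ A)⟦(1 : ℤ)⟧ ⟶ W, a = f₃ ≫ b :=
      Triangle.yoneda_exact₃ (Triangle.mk (Limits.Sigma.map f) f₂ f₃) hT' a hf₂a
    have hbi : ∀ i, h i ≫ ((Sigma.ι A i)⟦(1 : ℤ)⟧' ≫ b) = 0 := fun i => by
      rw [← Category.assoc, hc₃, Category.assoc, ← hb, hci]
    have hψ : ∀ i, ∃ ψ : (B i)⟦(1 : ℤ)⟧ ⟶ W,
        (Sigma.ι A i)⟦(1 : ℤ)⟧' ≫ b = (-(f i)⟦(1 : ℤ)⟧') ≫ ψ := fun i =>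
      Triangle.yoneda_exact₃ (Triangle.mk (f i) (g i) (h i)).rotate
        (rot_of_distTriang _ (hT i)) ((Sigma.ι A i)⟦(1 : ℤ)⟧' ≫ b) (hbi i)
    choose ψ hψ using hψ
    obtain ⟨Ψ, hΨ⟩ := exists_shift_desc B (1 : ℤ) ψ
    have hbΨ : b = -(Limits.Sigma.map f)⟦(1 : ℤ)⟧' ≫ Ψ := by
      refine shift_sigma_hom_ext A (1 : ℤ) _ _ (fun i => ?_)
      rw [hψ, Preadditive.neg_comp, Preadditive.comp_neg,
        ← CategoryTheory.Functor.map_comp_assoc, Sigma.ι_map,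
        CategoryTheory.Functor.map_comp_assoc, hΨ]
    rw [hb, hbΨ, Preadditive.comp_neg, ← Category.assoc, z31, zero_comp,
      neg_zero]
  · -- surjectivity
    intro a
    obtain ⟨a₀, ha₀⟩ : ∃ a₀ : Z ⟶ W, Limits.Sigma.map g ≫ a = f₂ ≫ a₀ :=
      Triangle.yoneda_exact₂ (Triangle.mk (Limits.Sigma.map f) f₂ f₃) hT'
        (Limits.Sigma.map g ≫ a) (by
          change Limits.Sigma.map f ≫ Limits.Sigma.map g ≫ a = 0
          rw [← Category.assoc, hfg, zero_comp])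
    have hd : ∀ i, g i ≫ (Sigma.ι D i ≫ (a - cc ≫ a₀)) = 0 := fun i => by
      rw [← Category.assoc, ← Sigma.ι_map, Category.assoc, Preadditive.comp_sub, ha₀,
        ← Category.assoc (Limits.Sigma.map g), k2, sub_self, comp_zero]
    have he : ∀ i, ∃ e : (A i)⟦(1 : ℤ)⟧ ⟶ W, Sigma.ι D i ≫ (a - cc ≫ a₀) = h i ≫ e := fun i =>
      Triangle.yoneda_exact₃ (Triangle.mk (f i) (g i) (h i)) (hT i)
        (Sigma.ι D i ≫ (a - cc ≫ a₀)) (hd i)
    choose e he using he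
    obtain ⟨E, hE⟩ := exists_shift_desc A (1 : ℤ) e
    have hdE : a - cc ≫ a₀ = cc ≫ f₃ ≫ E := by
      refine Sigma.hom_ext _ _ (fun i => ?_)
      rw [he, ← Category.assoc (Sigma.ι D i), hcc, ← Category.assoc, ← hc₃, Category.assoc, hE]
    refine ⟨a₀ + f₃ ≫ E, ?_⟩
    change cc ≫ (a₀ + f₃ ≫ E) = a
    rw [Preadditive.comp_add, ← hdE, add_sub_cancel]

end Groth.Agent.Lib.Helper4.SigmaTri
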