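import Mathlib
import Groth.Agent.Lib.Helper4.KosPoly

/-!
# The polynomial ring `Λ = A[X_1..X_t]`, the regular sequence `X_j - a_j` and the ideal `(X)`

* `gl t a`: the list `X_j - C (a j)`; `gl_weaklyRegular`.
* `flat_quot`: `Λ ⧸ (X)^n` is flat over `A`.
* `mem_sup_iff`: `p ∈ (X_j - a_j) ⊔ (X)^c ↔ p(a) ∈ (a_1..a_t)^c`.
* `mk_mem_smul_top_iff`.
-/

set_option autoImplicit false
set_option linter.style.haveILetI false
set_option linter.unusedSectionVars false
set_option linter.unusedVariables false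
set_option maxHeartbeats 800000

universe u

namespace Groth.Agent.Lib.Helper4.PolyKos

open MvPolynomial

section quot

variable {R : Type u} [CommRing R]

lemma mk_mem_smul_top_iff (𝔞 𝔟 : Ideal R) (p : R) :
    (Submodule.Quotient.mk p : R ⧸ 𝔟) ∈ (𝔞 • ⊤ : Submodule R (R ⧸ 𝔟)) ↔ p ∈ 𝔞 ⊔ 𝔟 := by
  constructor
  · intro h
    have key : ∀ x ∈ (𝔞 • ⊤ : Submodule R (R ⧸ 𝔟)),
        ∃ q ∈ 𝔞, (Submodule.Quotient.mk q : R ⧸ 𝔟) = x := by
      intro x hx
      refine Submodule.smul_induction_on hx ?_ ?_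
      · intro r hr m _
        obtain ⟨q', rfl⟩ := Submodule.Quotient.mk_surjective _ m
        exact ⟨r * q', Ideal.mul_mem_right _ _ hr, rfl⟩
      · rintro x y ⟨q1, h1, rfl⟩ ⟨q2, h2, rfl⟩
        exact ⟨q1 + q2, Ideal.add_mem _ h1 h2, rfl⟩
    obtain ⟨q, hq, hqp⟩ := key _ h
    have h1 : q - p ∈ 𝔟 := (Submodule.Quotient.eq 𝔟).mp hqp
    have h2 : p - q ∈ 𝔟 := by
      rw [← neg_sub]
      exact neg_mem h1
    exact Submodule.mem_sup.mpr ⟨q, hq, p - q, h2, by ring⟩
  · intro h
    obtain ⟨u, hu, v, hv, rfl⟩ := Submodule.mem_sup.mp h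
    have h1 : (Submodule.Quotient.mk (u + v) : R ⧸ 𝔟) = u • Submodule.Quotient.mk (1 : R) := by
      rw [← Submodule.Quotient.mk_smul, smul_eq_mul, mul_one, Submodule.Quotient.eq]
      simpa using hv
    rw [h1]
    exact Submodule.smul_mem_smul hu Submodule.mem_top

end quot

variable {A : Type u} [CommRing A] (t : ℕ) (a : Fin t → A)

/-- the list `X_j - a_j`. -/
noncomputable def gl : List (MvPolynomial (Fin t) A) :=
  (List.finRange t).map (fun j => X j - C (a j))

lemma mem_gl (j : Fin t) : (X j - C (a j) : MvPolynomial (Fin t) A) ∈ gl t a :=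
  List.mem_map.mpr ⟨j, List.mem_finRange j, rfl⟩

lemma length_gl : (gl t a).length = t := by simp [gl]

/-- the shift automorphism `X_j ↦ X_j - a_j`. -/
noncomputable def shiftEquiv : MvPolynomial (Fin t) A ≃ₐ[A] MvPolynomial (Fin t) A :=
  AlgEquiv.ofAlgHom (aeval (fun j => X j - C (a j))) (aeval (fun j => X j + C (a j)))
    (by ext j; simp) (by ext j; simp)

lemma shiftEquiv_X (j : Fin t) : shiftEquiv t a (X j) = X j - C (a j) := by
  simp [shiftEquiv]

theorem gl_weaklyRegular :
    RingTheory.Sequence.IsWeaklyRegular (MvPolynomial (Fin t) A) (gl t a) := by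
  have h0 := KosPoly.isWeaklyRegular_X_pow (A := A) 1 (List.finRange t) (List.nodup_finRange t)
  refine (AddEquiv.isWeaklyRegular_congr (e := (shiftEquiv t a).toLinearEquiv.toAddEquiv) ?_).mp h0
  unfold gl
  rw [List.forall₂_map_left_iff, List.forall₂_map_right_iff, List.forall₂_same]
  intro j _ x
  show shiftEquiv t a (X j ^ 1 • x) = (X j - C (a j)) • shiftEquiv t a x
  rw [pow_one, smul_eq_mul, smul_eq_mul, map_mul, shiftEquiv_X]

/-! ### flatness of `Λ ⧸ (X)^n` -/

/-- truncation below degree `n`. -/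
noncomputable def trn (n : ℕ) : MvPolynomial (Fin t) A →ₗ[A] MvPolynomial (Fin t) A :=
  ∑ i ∈ Finset.range n, homogeneousComponent i

lemma coeff_trn (n : ℕ) (p : MvPolynomial (Fin t) A) (x : Fin t →₀ ℕ) :
    coeff x (trn t n p) = if x.degree < n then coeff x p else 0 := by
  unfold trn
  rw [LinearMap.sum_apply, coeff_sum]
  simp_rw [coeff_homogeneousComponent]
  rw [Finset.sum_ite_eq]
  simp [Finset.mem_range]

/-- the ideal of the variables. -/
noncomputable abbrev JJ (A : Type u) [CommRing A] (t : ℕ) : Ideal (MvPolynomial (Fin t) A) :=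
  idealOfVars (Fin t) A

lemma trn_of_mem (n : ℕ) (p : MvPolynomial (Fin t) A) (hp : p ∈ JJ A t ^ n) : trn t n p = 0 := by
  ext x
  rw [coeff_trn, coeff_zero]
  split_ifs with h
  · exact (mem_pow_idealOfVars_iff' n p).mp hp x h
  · rfl

lemma sub_trn_mem (n : ℕ) (p : MvPolynomial (Fin t) A) : p - trn t n p ∈ JJ A t ^ n := by
  rw [mem_pow_idealOfVars_iff']
  intro x hx
  rw [coeff_sub, coeff_trn, if_pos hx, sub_self]

theorem flat_quot (n : ℕ) : Module.Flat A (MvPolynomial (Fin t) A ⧸ JJ A t ^ n) := by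
  have hk : (JJ A t ^ n).restrictScalars A ≤ LinearMap.ker (trn t n) :=
    fun p hp => LinearMap.mem_ker.mpr (trn_of_mem t n p hp)
  let i : (MvPolynomial (Fin t) A ⧸ JJ A t ^ n) →ₗ[A] MvPolynomial (Fin t) A :=
    (Submodule.liftQ ((JJ A t ^ n).restrictScalars A) (trn t n) hk) ∘ₗ
      (Submodule.Quotient.restrictScalarsEquiv A (JJ A t ^ n)).symm.toLinearMap
  let s : MvPolynomial (Fin t) A →ₗ[A] (MvPolynomial (Fin t) A ⧸ JJ A t ^ n) :=
    (Submodule.mkQ (JJ A t ^ n)).restrictScalars A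
  have h : s.comp i = LinearMap.id := by
    apply LinearMap.ext
    intro x
    obtain ⟨p, rfl⟩ := Submodule.mkQ_surjective _ x
    have hi : i (Submodule.Quotient.mk p) = trn t n p := by
      show Submodule.liftQ _ (trn t n) hk
        ((Submodule.Quotient.restrictScalarsEquiv A (JJ A t ^ n)).symm
          (Submodule.Quotient.mk p)) = _
      rw [Submodule.Quotient.restrictScalarsEquiv_symm_mk, Submodule.liftQ_apply]
    show s (i (Submodule.Quotient.mk p)) = Submodule.Quotient.mk p
    rw [hi]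
    show (Submodule.Quotient.mk (trn t n p) : MvPolynomial (Fin t) A ⧸ JJ A t ^ n) =
      Submodule.Quotient.mk p
    rw [Submodule.Quotient.eq, ← neg_sub]
    exact neg_mem (sub_trn_mem t n p)
  exact Module.Flat.of_retract i s h

/-! ### evaluation at `a` -/

/-- evaluation at `a`. -/
noncomputable abbrev ev : MvPolynomial (Fin t) A →ₐ[A] A := aeval a

/-- the ideal generated by the `a_j`. -/
abbrev II : Ideal A := Ideal.span (Set.range a)

lemma ev_C (r : A) : ev t a (C r) = r := by simp [ev]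

lemma ev_X (j : Fin t) : ev t a (X j) = a j := by simp [ev]

lemma ev_surjective : Function.Surjective (ev t a) := fun r => ⟨C r, ev_C t a r⟩

lemma sub_C_ev_mem (p : MvPolynomial (Fin t) A) : p - C (ev t a p) ∈ Ideal.ofList (gl t a) := by
  induction p using MvPolynomial.induction_on with
  | C r => rw [ev_C, sub_self]; exact Submodule.zero_mem _
  | add p q hp hq =>
    have h : p + q - C (ev t a (p + q)) = (p - C (ev t a p)) + (q - C (ev t a q)) := by
      rw [map_add, C_add]; ring
    rw [h]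
    exact Ideal.add_mem _ hp hq
  | mul_X p j hp =>
    have h : p * X j - C (ev t a (p * X j)) =
        (p - C (ev t a p)) * X j + C (ev t a p) * (X j - C (a j)) := by
      rw [map_mul, ev_X, C_mul]; ring
    rw [h]
    exact Ideal.add_mem _ (Ideal.mul_mem_right _ _ hp)
      (Ideal.mul_mem_left _ _ (Ideal.subset_span (mem_gl t a j)))

lemma ev_eq_zero_of_mem (u : MvPolynomial (Fin t) A) (hu : u ∈ Ideal.ofList (gl t a)) :
    ev t a u = 0 := by
  have hle : Ideal.ofList (gl t a) ≤ RingHom.ker (ev t a) := by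
    refine Ideal.span_le.mpr ?_
    intro x hx
    have hx' : x ∈ (List.finRange t).map (fun j => (X j - C (a j) : MvPolynomial (Fin t) A)) := hx
    obtain ⟨j, _, rfl⟩ := List.mem_map.mp hx'
    show ev t a (X j - C (a j)) = 0
    rw [map_sub, ev_X, ev_C, sub_self]
  exact hle hu

lemma map_JJ : Ideal.map (ev t a) (JJ A t) = II t a := by
  show Ideal.map (ev t a) (Ideal.span (Set.range X)) = Ideal.span (Set.range a)
  rw [Ideal.map_span, ← Set.range_comp]
  congr 2
  funext j
  exact ev_X t a j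

lemma mem_sup_iff (c : ℕ) (p : MvPolynomial (Fin t) A) :
    p ∈ Ideal.ofList (gl t a) ⊔ JJ A t ^ c ↔ ev t a p ∈ II t a ^ c := by
  constructor
  · intro hp
    obtain ⟨u, hu, v, hv, rfl⟩ := Submodule.mem_sup.mp hp
    rw [map_add, ev_eq_zero_of_mem t a u hu, zero_add, ← map_JJ t a, ← Ideal.map_pow]
    exact Ideal.mem_map_of_mem _ hv
  · intro hp
    rw [← map_JJ t a, ← Ideal.map_pow] at hp
    obtain ⟨q, hq, hqp⟩ :=
      (Ideal.mem_map_iff_of_surjective (ev t a) (ev_surjective t a)).mp hp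
    refine Submodule.mem_sup.mpr ⟨p - q, ?_, q, hq, sub_add_cancel p q⟩
    have h := sub_C_ev_mem t a (p - q)
    rwa [map_sub, hqp, sub_self, C_0, sub_zero] at h

end Groth.Agent.Lib.Helper4.PolyKos
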