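import Groth.Agent.Lib.Helper4.LC3

/-!
# `Ext^p(M, Y) ≅ Hom(M, Ext^p(A/J, Y))` when `Ext^{<p}(-, Y)` vanishes on finite modules killed by `J`

`main`: for a Noetherian ring `A`, an ideal `J`, a target `Y` and `p` such that `Ext^i(N, Y) = 0` for all
`i < p` and all finite `N` killed by `J`, and a finite module `M` killed by `J`: the map
`Ext^p(M, Y) → (Hom(A/J, M) → Ext^p(A/J, Y))`, `ξ ↦ (u ↦ u^* ξ)` is injective and every linear map
`Hom(A/J, M) → Ext^p(A/J, Y)` is of the form `u ↦ u^* ξ`.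
-/

set_option autoImplicit false
set_option linter.style.haveILetI false
set_option linter.unusedSectionVars false
set_option linter.unusedVariables false
set_option maxHeartbeats 800000

open CategoryTheory Limits Opposite Abelian

universe u

namespace Groth.Agent.Lib.Helper4.ExtTop

open Groth.Agent.Lib.Helper4.LC

variable {A : Type u} [CommRing A] (Y : ModuleCat.{u} A) (p : ℕ)

/-! ### pulling back classes -/

section pull

variable {N N' N'' : ModuleCat.{u} A}

/-- the pullback `φ^* ξ`. -/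
noncomputable def pull (φ : N' ⟶ N) (ξ : Ext.{u} N Y p) : Ext.{u} N' Y p :=
  (Ext.mk₀ φ).comp ξ (zero_add p)

lemma pull_comp (φ : N'' ⟶ N') (ψ : N' ⟶ N) (ξ : Ext.{u} N Y p) :
    pull Y p (φ ≫ ψ) ξ = pull Y p φ (pull Y p ψ ξ) := by
  unfold pull
  rw [Ext.mk₀_comp_mk₀_assoc]

lemma pull_id (ξ : Ext.{u} N Y p) : pull Y p (𝟙 N) ξ = ξ := Ext.mk₀_id_comp ξ

lemma pull_add_left (φ ψ : N' ⟶ N) (ξ : Ext.{u} N Y p) :
    pull Y p (φ + ψ) ξ = pull Y p φ ξ + pull Y p ψ ξ := by
  unfold pull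
  rw [Ext.mk₀_add, Ext.add_comp]

lemma pull_zero_left (ξ : Ext.{u} N Y p) : pull Y p (0 : N' ⟶ N) ξ = 0 := by
  unfold pull
  rw [Ext.mk₀_zero, Ext.zero_comp]

lemma pull_sum_left {ι : Type*} (s : Finset ι) (φ : ι → (N' ⟶ N)) (ξ : Ext.{u} N Y p) :
    pull Y p (∑ j ∈ s, φ j) ξ = ∑ j ∈ s, pull Y p (φ j) ξ := by
  classical
  induction s using Finset.induction_on with
  | empty => rw [Finset.sum_empty, Finset.sum_empty, pull_zero_left]
  | insert a s ha ih => rw [Finset.sum_insert ha, Finset.sum_insert ha, pull_add_left, ih]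

lemma pull_smul_left (a : A) (φ : N' ⟶ N) (ξ : Ext.{u} N Y p) :
    pull Y p (a • φ) ξ = a • pull Y p φ ξ := by
  unfold pull
  rw [Ext.mk₀_smul, Ext.smul_comp]

lemma pull_add_right (φ : N' ⟶ N) (ξ ξ' : Ext.{u} N Y p) :
    pull Y p φ (ξ + ξ') = pull Y p φ ξ + pull Y p φ ξ' := Ext.comp_add _ _ _ _

lemma pull_zero_right (φ : N' ⟶ N) : pull Y p φ (0 : Ext.{u} N Y p) = 0 := by
  unfold pull
  rw [Ext.comp_zero]

lemma pull_sum_right {ι : Type*} (s : Finset ι) (φ : N' ⟶ N) (ξ : ι → Ext.{u} N Y p) :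
    pull Y p φ (∑ j ∈ s, ξ j) = ∑ j ∈ s, pull Y p φ (ξ j) := by
  classical
  induction s using Finset.induction_on with
  | empty => rw [Finset.sum_empty, Finset.sum_empty, pull_zero_right]
  | insert a s ha ih => rw [Finset.sum_insert ha, Finset.sum_insert ha, pull_add_right, ih]

end pull

/-! ### the modules `A/J` and `(A/J)^b` -/

section free

variable (J : Ideal A)

/-- `A ⧸ J` as an object. -/
abbrev Bm : ModuleCat.{u} A := ModuleCat.of A (A ⧸ J)

/-- `(A ⧸ J)^b` as an object. -/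
abbrev Fb (b : ℕ) : ModuleCat.{u} A := ModuleCat.of A (Fin b → A ⧸ J)

/-- the inclusions. -/
noncomputable def inc (b : ℕ) (j : Fin b) : Bm J ⟶ Fb J b :=
  ModuleCat.ofHom (LinearMap.single A (fun _ : Fin b => A ⧸ J) j)

/-- the projections. -/
noncomputable def prj (b : ℕ) (j : Fin b) : Fb J b ⟶ Bm J :=
  ModuleCat.ofHom (LinearMap.proj (R := A) (φ := fun _ : Fin b => A ⧸ J) j)

lemma sum_prj_inc (b : ℕ) : ∑ j, prj J b j ≫ inc J b j = 𝟙 (Fb J b) := by
  apply ModuleCat.hom_ext
  apply LinearMap.ext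
  intro v
  rw [ModuleCat.hom_sum, LinearMap.sum_apply]
  have h : ∀ j, (prj J b j ≫ inc J b j).hom v = Pi.single j (v j) := fun j => rfl
  simp only [h]
  exact Finset.univ_sum_single v

lemma eq_sum_components (b : ℕ) (η : Ext.{u} (Fb J b) Y p) :
    η = ∑ j, pull Y p (prj J b j) (pull Y p (inc J b j) η) := by
  conv_lhs => rw [← pull_id Y p η, ← sum_prj_inc J b, pull_sum_left]
  apply Finset.sum_congr rfl
  intro j _
  rw [pull_comp]

lemma components_ext (b : ℕ) (η η' : Ext.{u} (Fb J b) Y p)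
    (h : ∀ j, pull Y p (inc J b j) η = pull Y p (inc J b j) η') : η = η' := by
  rw [eq_sum_components Y p J b η, eq_sum_components Y p J b η']
  apply Finset.sum_congr rfl
  intro j _
  rw [h j]

lemma quot_hom_ext {N : Type u} [AddCommGroup N] [Module A N] (f g : (A ⧸ J) →ₗ[A] N)
    (h : f 1 = g 1) : f = g := by
  apply LinearMap.ext
  intro x
  obtain ⟨r, rfl⟩ := Ideal.Quotient.mk_surjective x
  have h1 : (Ideal.Quotient.mk J r : A ⧸ J) = r • (1 : A ⧸ J) := by
    rw [Algebra.smul_def, mul_one]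
    rfl
  rw [h1, map_smul, map_smul, h]

/-- the map `A ⧸ J → N`, `1 ↦ x`, for `x` killed by `J`. -/
noncomputable def qlift {N : Type u} [AddCommGroup N] [Module A N]
    (hN : ∀ a ∈ J, ∀ x : N, a • x = 0) (x : N) : (A ⧸ J) →ₗ[A] N :=
  Submodule.liftQ J (LinearMap.toSpanSingleton A N x) (by
    intro a ha
    rw [LinearMap.mem_ker, LinearMap.toSpanSingleton_apply]
    exact hN a ha x)

lemma qlift_one {N : Type u} [AddCommGroup N] [Module A N]
    (hN : ∀ a ∈ J, ∀ x : N, a • x = 0) (x : N) : qlift J hN x 1 = x := by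
  change Submodule.liftQ J (LinearMap.toSpanSingleton A N x) _ (Submodule.Quotient.mk 1) = x
  rw [Submodule.liftQ_apply, LinearMap.toSpanSingleton_apply, one_smul]

lemma kills_pi (b : ℕ) : ∀ a ∈ J, ∀ x : Fin b → A ⧸ J, a • x = 0 := by
  intro a ha x
  funext j
  obtain ⟨r, hr⟩ := Ideal.Quotient.mk_surjective (x j)
  rw [Pi.smul_apply, Pi.zero_apply, ← hr, Algebra.smul_def]
  change Ideal.Quotient.mk J a * Ideal.Quotient.mk J r = 0
  rw [(Ideal.Quotient.eq_zero_iff_mem).2 ha, zero_mul]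

lemma exists_surj {M : Type u} [AddCommGroup M] [Module A M] [Module.Finite A M]
    (hM : ∀ a ∈ J, ∀ x : M, a • x = 0) :
    ∃ (b : ℕ) (β : (Fin b → A ⧸ J) →ₗ[A] M), Function.Surjective β := by
  classical
  obtain ⟨b, s, hs⟩ := Module.Finite.exists_fin (R := A) (M := M)
  refine ⟨b, ∑ j, (qlift J hM (s j)) ∘ₗ
    (LinearMap.proj (R := A) (φ := fun _ : Fin b => A ⧸ J) j), ?_⟩
  rw [← LinearMap.range_eq_top, eq_top_iff, ← hs, Submodule.span_le]
  rintro _ ⟨j, rfl⟩
  refine ⟨Pi.single j 1, ?_⟩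
  rw [LinearMap.sum_apply, Finset.sum_eq_single j]
  · rw [LinearMap.comp_apply, LinearMap.proj_apply, Pi.single_eq_same, qlift_one]
  · intro k _ hk
    rw [LinearMap.comp_apply, LinearMap.proj_apply, Pi.single_eq_of_ne hk, map_zero]
  · intro h
    exact absurd (Finset.mem_univ j) h

/-- an endomorphism of `A ⧸ J` is a scalar. -/
lemma exists_smul_eq (e : (A ⧸ J) →ₗ[A] (A ⧸ J)) (a : A) (ha : Ideal.Quotient.mk J a = e 1) :
    (ModuleCat.ofHom e : Bm J ⟶ Bm J) = a • 𝟙 (Bm J) := by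
  apply ModuleCat.hom_ext
  apply quot_hom_ext J
  rw [ModuleCat.hom_smul, LinearMap.smul_apply]
  change e 1 = a • (1 : A ⧸ J)
  rw [← ha, Algebra.smul_def, mul_one]
  rfl

end free

/-! ### the main theorem -/

section main

variable [IsNoetherianRing A] (J : Ideal A)
  (hvan : ∀ (N : Type u) [AddCommGroup N] [Module A N] [Module.Finite A N],
    (∀ a ∈ J, ∀ x : N, a • x = 0) → ∀ i, i < p → Subsingleton (Ext.{u} (ModuleCat.of A N) Y i))

include hvan

lemma pull_injective_of_surjective {N M' : Type u} [AddCommGroup N] [Module A N]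
    [Module.Finite A N] [AddCommGroup M'] [Module A M'] (hN : ∀ a ∈ J, ∀ x : N, a • x = 0)
    (β : N →ₗ[A] M') (hβ : Function.Surjective β) (ξ ξ' : Ext.{u} (ModuleCat.of A M') Y p)
    (h : pull Y p (ModuleCat.ofHom β) ξ = pull Y p (ModuleCat.ofHom β) ξ') : ξ = ξ' := by
  have key : ∀ ζ : Ext.{u} (ModuleCat.of A M') Y p, pull Y p (ModuleCat.ofHom β) ζ = 0 → ζ = 0 := by
    intro ζ hζ
    cases p with
    | zero =>
      obtain ⟨h', rfl⟩ := (Ext.mk₀_bijective _ _).2 ζ
      unfold pull at hζ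
      rw [Ext.mk₀_comp_mk₀] at hζ
      have h0 : ModuleCat.ofHom β ≫ h' = 0 :=
        (Ext.mk₀_bijective _ _).1 (hζ.trans (Ext.mk₀_zero _ _).symm)
      haveI : Epi (ModuleCat.ofHom β) := (ModuleCat.epi_iff_surjective _).2 hβ
      have h1 : h' = 0 := by
        rw [← cancel_epi (ModuleCat.ofHom β), h0, comp_zero]
      rw [h1, Ext.mk₀_zero]
    | succ q =>
      have hS : (sesOf (LinearMap.ker β).subtype β (LinearMap.exact_subtype_ker_map β)).ShortExact :=
        sesOf_shortExact _ _ _ (Submodule.injective_subtype _) hβ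
      obtain ⟨x₁, hx₁⟩ := Ext.contravariant_sequence_exact₃ hS Y ζ hζ (add_comm 1 q)
      haveI := hvan (LinearMap.ker β) (fun a ha x => Subtype.ext (hN a ha x.1)) q
        (Nat.lt_succ_self q)
      have h0 : x₁ = 0 := Subsingleton.elim _ _
      rw [← hx₁, h0, Ext.comp_zero]
  have h1 : pull Y p (ModuleCat.ofHom β) (ξ - ξ') = 0 := by
    have := map_sub ((Ext.mk₀ (ModuleCat.ofHom β)).precomp Y (zero_add p)) ξ ξ'
    change pull Y p (ModuleCat.ofHom β) (ξ - ξ') = pull Y p (ModuleCat.ofHom β) ξ -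
      pull Y p (ModuleCat.ofHom β) ξ' at this
    rw [this, h, sub_self]
  exact sub_eq_zero.1 (key _ h1)

theorem main (M : Type u) [AddCommGroup M] [Module A M] [Module.Finite A M]
    (hM : ∀ a ∈ J, ∀ x : M, a • x = 0) :
    Function.Injective (fun ξ : Ext.{u} (ModuleCat.of A M) Y p =>
      fun u : (A ⧸ J) →ₗ[A] M => (Ext.mk₀ (ModuleCat.ofHom u)).comp ξ (zero_add p)) ∧
    ∀ g : ((A ⧸ J) →ₗ[A] M) →ₗ[A] Ext.{u} (ModuleCat.of A (A ⧸ J)) Y p,
      ∃ ξ : Ext.{u} (ModuleCat.of A M) Y p, ∀ u : (A ⧸ J) →ₗ[A] M,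
        g u = (Ext.mk₀ (ModuleCat.ofHom u)).comp ξ (zero_add p) := by
  obtain ⟨b, β, hβ⟩ := exists_surj J hM
  have hF := kills_pi J b
  constructor
  · intro ξ ξ' h
    apply pull_injective_of_surjective Y p J hvan hF β hβ
    apply components_ext Y p J b
    intro j
    rw [← pull_comp, ← pull_comp]
    exact congrFun h (β ∘ₗ LinearMap.single A (fun _ : Fin b => A ⧸ J) j)
  · intro g
    classical
    let η : Ext.{u} (Fb J b) Y p :=
      ∑ j, pull Y p (prj J b j) (g (β ∘ₗ LinearMap.single A (fun _ : Fin b => A ⧸ J) j))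
    -- Claim 1
    have claim1 : ∀ w : (A ⧸ J) →ₗ[A] (Fin b → A ⧸ J),
        pull Y p (ModuleCat.ofHom w) η = g (β ∘ₗ w) := by
      intro w
      choose a ha using fun j : Fin b => Ideal.Quotient.mk_surjective (w 1 j)
      have h1 : ∀ j, pull Y p (ModuleCat.ofHom w) (pull Y p (prj J b j)
          (g (β ∘ₗ LinearMap.single A (fun _ : Fin b => A ⧸ J) j))) =
          a j • g (β ∘ₗ LinearMap.single A (fun _ : Fin b => A ⧸ J) j) := by
        intro j
        rw [← pull_comp]
        have h2 : ModuleCat.ofHom w ≫ prj J b j = a j • 𝟙 (Bm J) :=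
          exists_smul_eq J ((LinearMap.proj (R := A) (φ := fun _ : Fin b => A ⧸ J) j) ∘ₗ w)
            (a j) (ha j)
        rw [h2, pull_smul_left, pull_id]
      change pull Y p (ModuleCat.ofHom w) (∑ j, _) = _
      rw [pull_sum_right]
      simp only [h1]
      simp only [← map_smul]
      rw [← map_sum]
      congr 1
      apply quot_hom_ext J
      rw [LinearMap.sum_apply, LinearMap.comp_apply]
      have h3 : w 1 = ∑ j, Pi.single j (w 1 j) := (Finset.univ_sum_single (w 1)).symm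
      rw [h3, map_sum]
      apply Finset.sum_congr rfl
      intro j _
      rw [LinearMap.smul_apply, LinearMap.comp_apply, ← map_smul]
      congr 1
      change a j • (Pi.single j (1 : A ⧸ J) : Fin b → A ⧸ J) =
        (Pi.single j (w 1 j) : Fin b → A ⧸ J)
      have h6 : w 1 j = a j • (1 : A ⧸ J) := by
        rw [← ha j, Algebra.smul_def, mul_one]; rfl
      rw [h6, ← Pi.single_smul]
    -- Claim 2
    have hK : ∀ a ∈ J, ∀ x : LinearMap.ker β, a • x = 0 :=
      fun a ha x => Subtype.ext (hF a ha x.1)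
    have claim2 : pull Y p (ModuleCat.ofHom (LinearMap.ker β).subtype) η = 0 := by
      obtain ⟨c, γ, hγ⟩ := exists_surj (M := LinearMap.ker β) J hK
      have hFc := kills_pi J c
      have h0 : pull Y p (ModuleCat.ofHom (LinearMap.ker β).subtype) η =
          (0 : Ext.{u} (ModuleCat.of A (LinearMap.ker β)) Y p) := by
        apply pull_injective_of_surjective Y p J hvan hFc γ hγ
        apply components_ext Y p J c
        intro k
        rw [← pull_comp, ← pull_comp, pull_zero_right, pull_zero_right]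
        have h4 : (inc J c k ≫ ModuleCat.ofHom γ) ≫ ModuleCat.ofHom (LinearMap.ker β).subtype =
            ModuleCat.ofHom ((LinearMap.ker β).subtype ∘ₗ γ ∘ₗ
              LinearMap.single A (fun _ : Fin c => A ⧸ J) k) := rfl
        rw [h4, claim1]
        have h5 : β ∘ₗ ((LinearMap.ker β).subtype ∘ₗ γ ∘ₗ
            LinearMap.single A (fun _ : Fin c => A ⧸ J) k) = 0 := by
          apply LinearMap.ext
          intro x
          exact (γ (LinearMap.single A (fun _ : Fin c => A ⧸ J) k x)).2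
        rw [h5, map_zero]
      exact h0
    have hS : (sesOf (LinearMap.ker β).subtype β (LinearMap.exact_subtype_ker_map β)).ShortExact :=
      sesOf_shortExact _ _ _ (Submodule.injective_subtype _) hβ
    obtain ⟨ξ, hξ⟩ := Ext.contravariant_sequence_exact₂ hS Y η claim2
    refine ⟨ξ, fun u => ?_⟩
    obtain ⟨v, hv⟩ := hβ (u 1)
    have hw : β ∘ₗ qlift J hF v = u := by
      apply quot_hom_ext J
      rw [LinearMap.comp_apply, qlift_one, hv]
    have h6 : (Ext.mk₀ (ModuleCat.ofHom u)).comp ξ (zero_add p) =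
        pull Y p (ModuleCat.ofHom (qlift J hF v)) (pull Y p (ModuleCat.ofHom β) ξ) := by
      rw [← pull_comp]
      have : ModuleCat.ofHom (qlift J hF v) ≫ ModuleCat.ofHom β = ModuleCat.ofHom u := by
        rw [← hw]
        rfl
      rw [this]
      rfl
    rw [h6]
    have h7 : pull Y p (ModuleCat.ofHom β) ξ = η := hξ
    rw [h7, claim1, hw]

end main

end Groth.Agent.Lib.Helper4.ExtTop
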