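import Groth.Agent.Lib.Helper4.LCBridge

/-!
# A direct-limit model of local cohomology

`HH I M i` is the direct limit over `n` of `Abelian.Ext (R ⧸ I ^ n) M i`;
`lcEquiv I M i : (localCohomology I i).obj M ≃ₗ[R] HH I M i` is natural in `M` (`lcEquiv_map`).
-/

set_option autoImplicit false
set_option linter.style.haveILetI false
set_option linter.unusedSectionVars false
set_option linter.unusedVariables false
set_option maxHeartbeats 400000

open CategoryTheory Limits Opposite Abelian

universe u

namespace Groth.Agent.Lib.Helper4.LC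

open Groth.Agent.Lib.Helper4.LCBridge

variable {R : Type u} [CommRing R]

/-- `R ⧸ I ^ n` as an object. -/
abbrev Q (I : Ideal R) (n : ℕ) : ModuleCat.{u} R := ModuleCat.of R (R ⧸ I ^ n)

/-- the transition map `R ⧸ I^m ⟶ R ⧸ I^n` for `n ≤ m`. -/
def qmap (I : Ideal R) {n m : ℕ} (h : n ≤ m) : Q I m ⟶ Q I n :=
  ModuleCat.ofHom (Submodule.mapQ (I ^ m) (I ^ n) LinearMap.id (Ideal.pow_le_pow_right h))

lemma qmap_apply (I : Ideal R) {n m : ℕ} (h : n ≤ m) (r : R) :
    (qmap I h).hom (Submodule.Quotient.mk r) = Submodule.Quotient.mk r := rfl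

lemma qmap_refl (I : Ideal R) (n : ℕ) : qmap I (le_refl n) = 𝟙 (Q I n) := by
  apply ModuleCat.hom_ext
  apply LinearMap.ext
  intro x
  obtain ⟨x, rfl⟩ := Submodule.Quotient.mk_surjective _ x
  rfl

lemma qmap_comp (I : Ideal R) {n m k : ℕ} (h : n ≤ m) (h' : m ≤ k) :
    qmap I h' ≫ qmap I h = qmap I (h.trans h') := by
  apply ModuleCat.hom_ext
  apply LinearMap.ext
  intro x
  obtain ⟨x, rfl⟩ := Submodule.Quotient.mk_surjective _ x
  rfl

lemma qmap_eq (I : Ideal R) {n m : ℕ} (h : n ≤ m) :
    qmap I h = (localCohomology.ringModIdeals (localCohomology.idealPowersDiagram I)).map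
      (homOfLE h).op := rfl

section

variable (I : Ideal R) (M : ModuleCat.{u} R) (i : ℕ)

/-- transition maps of the system `n ↦ Ext^i(R ⧸ I^n, M)`. -/
noncomputable def tr {n m : ℕ} (h : n ≤ m) : Ext.{u} (Q I n) M i →ₗ[R] Ext.{u} (Q I m) M i :=
  Ext.precompOfLinear (Ext.mk₀ (qmap I h)) R M (zero_add i)

lemma tr_apply {n m : ℕ} (h : n ≤ m) (x : Ext.{u} (Q I n) M i) :
    tr I M i h x = (Ext.mk₀ (qmap I h)).comp x (zero_add i) := rfl

/-- the transition maps as a family. -/
noncomputable def trF : ∀ n m : ℕ, n ≤ m → Ext.{u} (Q I n) M i →ₗ[R] Ext.{u} (Q I m) M i :=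
  fun _ _ h => tr I M i h

instance : DirectedSystem (fun n : ℕ => Ext.{u} (Q I n) M i) (trF I M i · · ·) where
  map_self n x := by
    change (Ext.mk₀ (qmap I (le_refl n))).comp x (zero_add i) = x
    rw [qmap_refl, Ext.mk₀_id_comp]
  map_map k j n hnj hjk x := by
    change (Ext.mk₀ (qmap I hjk)).comp ((Ext.mk₀ (qmap I hnj)).comp x (zero_add i)) (zero_add i) =
      (Ext.mk₀ (qmap I (hnj.trans hjk))).comp x (zero_add i)
    rw [Ext.mk₀_comp_mk₀_assoc, qmap_comp]

/-- The direct-limit model of `H^i_I(M)`. -/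
abbrev HH : Type u := Module.DirectLimit (fun n : ℕ => Ext.{u} (Q I n) M i) (trF I M i)

/-- the canonical maps to the direct limit. -/
noncomputable def HH.of (n : ℕ) : Ext.{u} (Q I n) M i →ₗ[R] HH I M i :=
  Module.DirectLimit.of R ℕ (fun n : ℕ => Ext.{u} (Q I n) M i) (trF I M i) n

lemma HH.of_tr {n m : ℕ} (h : n ≤ m) (y : Ext.{u} (Q I n) M i) :
    HH.of I M i m (tr I M i h y) = HH.of I M i n y :=
  Module.DirectLimit.of_f (f := trF I M i) (hij := h) (x := y)

lemma HH.exists_of (x : HH I M i) : ∃ n y, HH.of I M i n y = x :=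
  Module.DirectLimit.exists_of x

lemma HH.of_eq_zero_iff {n : ℕ} (y : Ext.{u} (Q I n) M i) :
    HH.of I M i n y = 0 ↔ ∃ m, ∃ h : n ≤ m, tr I M i h y = 0 := by
  constructor
  · intro h
    obtain ⟨m, hm, h0⟩ := Module.DirectLimit.of.zero_exact (f := trF I M i) h
    exact ⟨m, hm, h0⟩
  · rintro ⟨m, h, h0⟩
    rw [← HH.of_tr I M i h, h0, map_zero]

end

section map

variable (I : Ideal R) {M M' M'' : ModuleCat.{u} R} (g : M ⟶ M') (i : ℕ)

/-- postcomposition with `g` on the `n`-th stage. -/
noncomputable def postF (n : ℕ) : Ext.{u} (Q I n) M i →ₗ[R] Ext.{u} (Q I n) M' i :=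
  Ext.postcompOfLinear (Ext.mk₀ g) R (Q I n) (add_zero i)

lemma postF_apply (n : ℕ) (x : Ext.{u} (Q I n) M i) :
    postF I g i n x = x.comp (Ext.mk₀ g) (add_zero i) := rfl

lemma postF_comm (n m : ℕ) (h : n ≤ m) :
    postF I g i m ∘ₗ trF I M i n m h = trF I M' i n m h ∘ₗ postF I g i n := by
  apply LinearMap.ext
  intro x
  change ((Ext.mk₀ (qmap I h)).comp x (zero_add i)).comp (Ext.mk₀ g) (add_zero i) =
    (Ext.mk₀ (qmap I h)).comp (x.comp (Ext.mk₀ g) (add_zero i)) (zero_add i)
  rw [Ext.comp_assoc_of_third_deg_zero]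

/-- functoriality of `HH` in the module. -/
noncomputable def HH.map : HH I M i →ₗ[R] HH I M' i :=
  Module.DirectLimit.map (f := trF I M i) (f' := trF I M' i) (postF I g i) (postF_comm I g i)

lemma HH.map_of (n : ℕ) (y : Ext.{u} (Q I n) M i) :
    HH.map I g i (HH.of I M i n y) = HH.of I M' i n (y.comp (Ext.mk₀ g) (add_zero i)) :=
  Module.DirectLimit.map_apply_of (f := trF I M i) (f' := trF I M' i) (postF I g i)
    (postF_comm I g i) y

end map

section equiv

variable (I : Ideal R) (M : ModuleCat.{u} R) (i : ℕ)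

/-- the diagram defining local cohomology. -/
noncomputable abbrev diag : ℕᵒᵖᵒᵖ ⥤ ModuleCat.{u} R ⥤ ModuleCat.{u} R :=
  localCohomology.diagram (localCohomology.idealPowersDiagram I) i

/-- evaluation of the colimit cocone at `M` is a colimit. -/
noncomputable def evalColimit :
    IsColimit (((evaluation _ _).obj M).mapCocone (colimit.cocone (diag I i))) :=
  isColimitOfPreserves _ (colimit.isColimit _)

/-- the structure map `Ext^i_old(R/I^n, M) → H^i_I(M)`. -/
noncomputable def lcι (n : ℕ) :
    (((Ext R (ModuleCat.{u} R) i).obj (op (Q I n))).obj M) →ₗ[R] (localCohomology I i).obj M :=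
  ((colimit.ι (diag I i) (op (op n))).app M).hom

lemma lcι_comp {n m : ℕ} (h : n ≤ m)
    (x : ((Ext R (ModuleCat.{u} R) i).obj (op (Q I n))).obj M) :
    lcι I M i m ((((Ext R (ModuleCat.{u} R) i).map (qmap I h).op).app M).hom x) = lcι I M i n x := by
  have hw := colimit.w (diag I i) ((homOfLE h).op.op : op (op n) ⟶ op (op m))
  have := congrArg (fun f => (f.app M).hom x) hw
  exact this

/-- the cocone with vertex `HH`. -/
noncomputable def toHHCocone : Cocone (diag I i ⋙ (evaluation _ _).obj M) where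
  pt := ModuleCat.of R (HH I M i)
  ι :=
    { app := fun j => ModuleCat.ofHom
        (HH.of I M i j.unop.unop ∘ₗ (extBridge.{u, u, u + 1, u} (Q I j.unop.unop) M i).toLinearMap)
      naturality := fun j j' w => by
        apply ModuleCat.hom_ext
        apply LinearMap.ext
        intro x
        have hle : j.unop.unop ≤ j'.unop.unop := leOfHom w.unop.unop
        have h1 := extBridge_map_left.{u, u, u + 1, u} (R := R) (qmap I hle) M i x
        change HH.of I M i j'.unop.unop (extBridge.{u, u, u + 1, u} (Q I j'.unop.unop) M i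
          ((((Ext R (ModuleCat.{u} R) i).map (qmap I hle).op).app M).hom x)) =
          HH.of I M i j.unop.unop (extBridge.{u, u, u + 1, u} (Q I j.unop.unop) M i x)
        rw [h1]
        exact HH.of_tr I M i hle _ }

/-- the comparison map to the model. -/
noncomputable def toHH : (localCohomology I i).obj M →ₗ[R] HH I M i :=
  ((evalColimit I M i).desc (toHHCocone I M i)).hom

lemma toHH_lcι (n : ℕ) (x : ((Ext R (ModuleCat.{u} R) i).obj (op (Q I n))).obj M) :
    toHH I M i (lcι I M i n x) = HH.of I M i n (extBridge.{u, u, u + 1, u} (Q I n) M i x) := by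
  have h := (evalColimit I M i).fac (toHHCocone I M i) (op (op n))
  have := congrArg (fun f => f.hom x) h
  exact this

/-- the `n`-th leg of the comparison map from the model. -/
noncomputable def fromLeg (n : ℕ) : Ext.{u} (Q I n) M i →ₗ[R] (localCohomology I i).obj M :=
  lcι I M i n ∘ₗ (extBridge.{u, u, u + 1, u} (R := R) (Q I n) M i).symm.toLinearMap

lemma fromLeg_apply (n : ℕ) (y : Ext.{u} (Q I n) M i) :
    fromLeg I M i n y = lcι I M i n ((extBridge.{u, u, u + 1, u} (R := R) (Q I n) M i).symm y) :=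
  rfl

lemma fromLeg_comm (n m : ℕ) (h : n ≤ m) (y : Ext.{u} (Q I n) M i) :
    fromLeg I M i m (trF I M i n m h y) = fromLeg I M i n y := by
  obtain ⟨x, rfl⟩ := (extBridge.{u, u, u + 1, u} (R := R) (Q I n) M i).surjective y
  have h1 := extBridge_map_left.{u, u, u + 1, u} (R := R) (qmap I h) M i x
  rw [fromLeg_apply, fromLeg_apply, LinearEquiv.symm_apply_apply]
  have h2 : trF I M i n m h (extBridge.{u, u, u + 1, u} (R := R) (Q I n) M i x) =
      extBridge.{u, u, u + 1, u} (R := R) (Q I m) M i
        ((((Ext R (ModuleCat.{u} R) i).map (qmap I h).op).app M).hom x) := h1.symm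
  rw [h2, LinearEquiv.symm_apply_apply]
  exact lcι_comp I M i h x

/-- the comparison map from the model. -/
noncomputable def fromHH : HH I M i →ₗ[R] (localCohomology I i).obj M :=
  Module.DirectLimit.lift R ℕ (fun n : ℕ => Ext.{u} (Q I n) M i) (trF I M i)
    (fromLeg I M i) (fromLeg_comm I M i)

lemma fromHH_of (n : ℕ) (y : Ext.{u} (Q I n) M i) :
    fromHH I M i (HH.of I M i n y) =
      lcι I M i n ((extBridge.{u, u, u + 1, u} (R := R) (Q I n) M i).symm y) :=
  Module.DirectLimit.lift_of (f := trF I M i) (fromLeg I M i) (fromLeg_comm I M i) y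

lemma lc_hom_ext {W : Type u} [AddCommGroup W] [Module R W]
    (f g : (localCohomology I i).obj M →ₗ[R] W)
    (h : ∀ n x, f (lcι I M i n x) = g (lcι I M i n x)) : f = g := by
  have key := (evalColimit I M i).hom_ext (W := ModuleCat.of R W)
    (f := (ModuleCat.ofHom f :
      (((evaluation _ _).obj M).mapCocone (colimit.cocone (diag I i))).pt ⟶ ModuleCat.of R W))
    (f' := (ModuleCat.ofHom g :
      (((evaluation _ _).obj M).mapCocone (colimit.cocone (diag I i))).pt ⟶ ModuleCat.of R W))
    (fun j => by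
      apply ModuleCat.hom_ext
      apply LinearMap.ext
      intro x
      exact h j.unop.unop x)
  exact congrArg ModuleCat.Hom.hom key

/-- **The comparison isomorphism** between Mathlib's local cohomology and the model. -/
noncomputable def lcEquiv : (localCohomology I i).obj M ≃ₗ[R] HH I M i :=
  LinearEquiv.ofLinear (toHH I M i) (fromHH I M i)
    (by
      apply Module.DirectLimit.hom_ext
      intro n
      apply LinearMap.ext
      intro y
      change toHH I M i (fromHH I M i (HH.of I M i n y)) = HH.of I M i n y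
      rw [fromHH_of, toHH_lcι, LinearEquiv.apply_symm_apply])
    (by
      apply lc_hom_ext
      intro n x
      change fromHH I M i (toHH I M i (lcι I M i n x)) = lcι I M i n x
      rw [toHH_lcι, fromHH_of, LinearEquiv.symm_apply_apply])

lemma lcEquiv_lcι (n : ℕ) (x : ((Ext R (ModuleCat.{u} R) i).obj (op (Q I n))).obj M) :
    lcEquiv I M i (lcι I M i n x) =
      HH.of I M i n (extBridge.{u, u, u + 1, u} (R := R) (Q I n) M i x) :=
  toHH_lcι I M i n x

end equiv

section nat

variable (I : Ideal R) {M M' : ModuleCat.{u} R} (g : M ⟶ M') (i : ℕ)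

lemma lcι_map (n : ℕ) (x : ((Ext R (ModuleCat.{u} R) i).obj (op (Q I n))).obj M) :
    ((localCohomology I i).map g).hom (lcι I M i n x) =
      lcι I M' i n ((((Ext R (ModuleCat.{u} R) i).obj (op (Q I n))).map g).hom x) := by
  have h := (colimit.ι (diag I i) (op (op n))).naturality g
  have := congrArg (fun f => f.hom x) h
  exact this.symm

/-- naturality of the comparison isomorphism. -/
lemma lcEquiv_map (x : (localCohomology I i).obj M) :
    lcEquiv I M' i (((localCohomology I i).map g).hom x) = HH.map I g i (lcEquiv I M i x) := by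
  have key : (lcEquiv I M' i).toLinearMap ∘ₗ ((localCohomology I i).map g).hom =
      HH.map I g i ∘ₗ (lcEquiv I M i).toLinearMap := by
    apply lc_hom_ext
    intro n x
    change lcEquiv I M' i (((localCohomology I i).map g).hom (lcι I M i n x)) =
      HH.map I g i (lcEquiv I M i (lcι I M i n x))
    rw [lcι_map, lcEquiv_lcι, lcEquiv_lcι, HH.map_of,
      extBridge_map_right.{u, u, u + 1, u} (R := R) (Q I n) g i x]
  exact congrArg (fun f => f x) key

end nat


end Groth.Agent.Lib.Helper4.LC
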