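import Mathlib
import Groth.Prelude.Def_Wider
import Groth.Agent.Lib.Helper1.MatlisBaseChange
import Groth.Agent.Lib.Helper4.Matlis
import Groth.Agent.Lib.Helper4.GorHom
import Groth.Agent.Lib.Helper4.Kunz
import Groth.Agent.S0300
import Groth.Agent.S0342

/-!
# Frobenius-stable power-torsion modules over a regular local ring

Over a regular local ring `R` of characteristic `p`, an `m`-power-torsion module `M` with
`F(M) ≅ M` (`F` the Frobenius base change) is a direct sum of copies of `E = E_R(k)`.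

* `eq_bot_of_soc`, `injective_of_soc`: the socle of a power-torsion module is essential.
* `exists_embedding`: a power-torsion module embeds in `J →₀ E`, inducing a bijection on socles.
* `exists_equiv_of_levels`: if `M[𝔞_e] ≅ (J →₀ E)[𝔞_e]` abstractly for a cofinal family of ideals then
  the embedding is an isomorphism.
* `nonempty_tors_baseChange`: `(B ⊗_A M)[m_A B] ≅ (J →₀ B/m_A B)` for `A → B` flat.
* `nonempty_tors_equiv_quot`: `E[𝔞] ≅ R/𝔞` when `R/𝔞` is Artinian with simple socle.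
* `main`.
-/

set_option autoImplicit false
set_option linter.style.haveILetI false
set_option linter.unusedSectionVars false
set_option linter.unusedVariables false
set_option maxHeartbeats 800000
universe u

open CategoryTheory IsLocalRing TensorProduct

namespace Groth.Agent.Lib.Helper4.FrobTors

section basic

variable {R : Type u} [CommRing R]

lemma mem_tors_iff {M : Type u} [AddCommGroup M] [Module R M] (I : Ideal R) (x : M) :
    x ∈ Submodule.torsionBySet R M (I : Set R) ↔ ∀ a ∈ I, a • x = 0 := by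
  rw [Submodule.mem_torsionBySet_iff]
  exact ⟨fun h a ha => h ⟨a, ha⟩, fun h a => h a.1 a.2⟩

/-- A linear equivalence induces a linear equivalence on torsion submodules. -/
theorem torsCongr {N N' : Type u} [AddCommGroup N] [Module R N] [AddCommGroup N'] [Module R N']
    (e : N ≃ₗ[R] N') (I : Ideal R) :
    Nonempty (Submodule.torsionBySet R N (I : Set R) ≃ₗ[R]
      Submodule.torsionBySet R N' (I : Set R)) := by
  have h1 : ∀ x ∈ Submodule.torsionBySet R N (I : Set R),
      e.toLinearMap x ∈ Submodule.torsionBySet R N' (I : Set R) := by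
    intro x hx
    rw [mem_tors_iff] at hx ⊢
    intro a ha
    rw [LinearEquiv.coe_coe, ← map_smul, hx a ha, map_zero]
  have h2 : ∀ x ∈ Submodule.torsionBySet R N' (I : Set R),
      e.symm.toLinearMap x ∈ Submodule.torsionBySet R N (I : Set R) := by
    intro x hx
    rw [mem_tors_iff] at hx ⊢
    intro a ha
    rw [LinearEquiv.coe_coe, ← map_smul, hx a ha, map_zero]
  refine ⟨LinearEquiv.ofLinear (e.toLinearMap.restrict h1) (e.symm.toLinearMap.restrict h2)
    (LinearMap.ext fun x => Subtype.ext ?_) (LinearMap.ext fun x => Subtype.ext ?_)⟩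
  · simp [LinearMap.restrict_coe_apply]
  · simp [LinearMap.restrict_coe_apply]

/-- Torsion commutes with finitely supported functions. -/
theorem torsFinsupp (I : Ideal R) (J : Type u) (N : Type u) [AddCommGroup N] [Module R N] :
    Nonempty ((J →₀ Submodule.torsionBySet R N (I : Set R)) ≃ₗ[R]
      Submodule.torsionBySet R (J →₀ N) (I : Set R)) := by
  classical
  let T : Submodule R N := Submodule.torsionBySet R N (I : Set R)
  let Φ₀ : (J →₀ T) →ₗ[R] (J →₀ N) := Finsupp.mapRange.linearMap T.subtype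
  have hΦ₀j : ∀ (c : J →₀ T) (j : J), Φ₀ c j = ((c j : T) : N) := fun c j => by
    change Finsupp.mapRange.linearMap T.subtype c j = _
    rw [Finsupp.mapRange.linearMap_apply, Finsupp.mapRange_apply]
    rfl
  have hΦ₀ : ∀ c, Φ₀ c ∈ Submodule.torsionBySet R (J →₀ N) (I : Set R) := by
    intro c
    rw [mem_tors_iff]
    intro a ha
    ext j
    rw [Finsupp.smul_apply, Finsupp.zero_apply, hΦ₀j]
    exact (mem_tors_iff _ _).1 (c j).2 a ha
  let Φ : (J →₀ T) →ₗ[R] Submodule.torsionBySet R (J →₀ N) (I : Set R) :=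
    LinearMap.codRestrict _ Φ₀ hΦ₀
  refine ⟨LinearEquiv.ofBijective Φ ⟨?_, ?_⟩⟩
  · intro c c' h
    have h' : Φ₀ c = Φ₀ c' := congrArg Subtype.val h
    ext j
    have h'' := DFunLike.congr_fun h' j
    rw [hΦ₀j, hΦ₀j] at h''
    exact congrArg Subtype.val (Subtype.ext h'')
  · intro y
    let gfun : N → T := fun e => if h : e ∈ T then ⟨e, h⟩ else 0
    have hg0 : gfun 0 = 0 := by
      have : gfun 0 = ⟨0, Submodule.zero_mem T⟩ := dif_pos (Submodule.zero_mem T)
      rw [this]
      rfl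
    refine ⟨(y : J →₀ N).mapRange gfun hg0, ?_⟩
    apply Subtype.ext
    ext j
    have hyj : (y : J →₀ N) j ∈ T := by
      rw [mem_tors_iff]
      intro a ha
      rw [← Finsupp.smul_apply, (mem_tors_iff _ _).1 y.2 a ha, Finsupp.zero_apply]
    change Φ₀ ((y : J →₀ N).mapRange gfun hg0) j = (y : J →₀ N) j
    rw [hΦ₀j, Finsupp.mapRange_apply]
    have : gfun ((y : J →₀ N) j) = ⟨(y : J →₀ N) j, hyj⟩ := dif_pos hyj
    rw [this]

theorem isPowerTorsion_finsupp {E : Type u} [AddCommGroup E] [Module R E] (I : Ideal R)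
    (J : Type u) (hE : LocCoh.IsPowerTorsion I E) : LocCoh.IsPowerTorsion I (J →₀ E) := by
  intro y
  induction y using Finsupp.induction_linear with
  | zero => exact ⟨0, fun a _ => smul_zero a⟩
  | add x y hx hy =>
    obtain ⟨n, hn⟩ := hx
    obtain ⟨n', hn'⟩ := hy
    refine ⟨max n n', fun a ha => ?_⟩
    rw [smul_add, hn a (Ideal.pow_le_pow_right (le_max_left _ _) ha),
      hn' a (Ideal.pow_le_pow_right (le_max_right _ _) ha), add_zero]
  | single j e =>
    obtain ⟨n, hn⟩ := hE e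
    refine ⟨n, fun a ha => ?_⟩
    rw [Finsupp.smul_single, hn a ha, Finsupp.single_zero]

end basic

section socle

variable {R : Type u} [CommRing R] [IsLocalRing R]

/-- The socle of a module over a local ring. -/
abbrev Soc (R : Type u) [CommRing R] [IsLocalRing R] (M : Type u) [AddCommGroup M] [Module R M] :
    Submodule R M :=
  Submodule.torsionBySet R M ((maximalIdeal R : Ideal R) : Set R)

theorem eq_bot_of_soc {M : Type u} [AddCommGroup M] [Module R M]
    (hM : LocCoh.IsPowerTorsion (maximalIdeal R) M) (N : Submodule R M)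
    (h : ∀ x ∈ N, (∀ a ∈ maximalIdeal R, a • x = 0) → x = 0) : N = ⊥ := by
  rw [Submodule.eq_bot_iff]
  intro x hx
  by_contra hx0
  obtain ⟨r, hr0, hr⟩ := Groth.Agent.Lib.Helper1.Matlis.exists_smul_mem_socle hM x hx0
  exact hr0 (h _ (N.smul_mem r hx) ((mem_tors_iff _ _).1 hr))

theorem injective_of_soc {M N : Type u} [AddCommGroup M] [Module R M] [AddCommGroup N]
    [Module R N] (hM : LocCoh.IsPowerTorsion (maximalIdeal R) M) (g : M →ₗ[R] N)
    (h : ∀ x : M, (∀ a ∈ maximalIdeal R, a • x = 0) → g x = 0 → x = 0) :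
    Function.Injective g := by
  rw [← LinearMap.ker_eq_bot]
  exact eq_bot_of_soc hM _ (fun x hx hs => h x hs (LinearMap.mem_ker.1 hx))

variable {E : Type u} [AddCommGroup E] [Module R E]

theorem exists_mapRange_eq {K : Type u} [AddCommGroup K] [Module R K] (f' : K →ₗ[R] E)
    (hinj : Function.Injective f')
    (hsoc : ∀ x : E, (∀ a ∈ maximalIdeal R, a • x = 0) → x ∈ LinearMap.range f')
    (J : Type u) (y : J →₀ E) (hy : ∀ a ∈ maximalIdeal R, a • y = 0) :
    ∃ c : J →₀ K, Finsupp.mapRange.linearMap f' c = y := by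
  classical
  have hyj : ∀ j, ∃ c, f' c = y j := fun j =>
    LinearMap.mem_range.1 (hsoc (y j) (fun a ha => by
      rw [← Finsupp.smul_apply, hy a ha, Finsupp.zero_apply]))
  let g : E → K := fun e => if h : ∃ c, f' c = e then h.choose else 0
  have hg : ∀ e, (∃ c, f' c = e) → f' (g e) = e := fun e he => by
    have : g e = he.choose := dif_pos he
    rw [this]
    exact he.choose_spec
  have hg0 : g 0 = 0 := by
    apply hinj
    rw [hg 0 ⟨0, map_zero f'⟩, map_zero]
  refine ⟨y.mapRange g hg0, ?_⟩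
  ext j
  rw [Finsupp.mapRange.linearMap_apply, Finsupp.mapRange_apply, Finsupp.mapRange_apply]
  exact hg _ (hyj j)

end socle

section embed

variable {R : Type u} [CommRing R] [IsLocalRing R] [IsNoetherianRing R]
  {E : Type u} [AddCommGroup E] [Module R E]
  (f : ResidueField R →ₗ[R] E) (hf : InjHull.IsInjectiveHull f)
include hf

theorem injective_finsupp (J : Type u) : Module.Injective R (J →₀ E) := by
  classical
  have h1 : Module.Injective R (DirectSum J fun _ => E) :=
    Groth.Agent.S0300.result R (fun _ : J => E) (fun _ => hf.isInjective)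
  exact ((Module.Baer.of_injective h1).of_equiv (finsuppLEquivDirectSum R E J).symm).injective

theorem isPowerTorsion_finsupp_hull (J : Type u) :
    LocCoh.IsPowerTorsion (maximalIdeal R) (J →₀ E) :=
  isPowerTorsion_finsupp _ J
    (Groth.Agent.Lib.Helper4.Matlis.isPowerTorsion_of_isEssentialInj hf.toIsEssentialInj)

theorem exists_embedding (M : Type u) [AddCommGroup M] [Module R M]
    (hM : LocCoh.IsPowerTorsion (maximalIdeal R) M) :
    ∃ (J : Type u) (s : Soc R M ≃ₗ[R] (J →₀ R ⧸ maximalIdeal R)) (g : M →ₗ[R] (J →₀ E)),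
      Function.Injective g ∧
      ∀ y : J →₀ E, (∀ a ∈ maximalIdeal R, a • y = 0) →
        ∃ x : M, (∀ a ∈ maximalIdeal R, a • x = 0) ∧ g x = y := by
  classical
  let S : Submodule R M := Soc R M
  letI : Field (R ⧸ maximalIdeal R) := Ideal.Quotient.field _
  let b := Module.Free.chooseBasis (R ⧸ maximalIdeal R) S
  let J := Module.Free.ChooseBasisIndex (R ⧸ maximalIdeal R) S
  let s : S ≃ₗ[R] (J →₀ R ⧸ maximalIdeal R) := b.repr.restrictScalars R
  let f' : (R ⧸ maximalIdeal R) →ₗ[R] E :=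
    f ∘ₗ (Groth.Agent.Lib.Helper1.Matlis.quotEquivResidueField (R := R)).toLinearMap
  have hf'inj : Function.Injective f' :=
    hf.injective.comp (Groth.Agent.Lib.Helper1.Matlis.quotEquivResidueField (R := R)).injective
  have hf'soc : ∀ x : E, (∀ a ∈ maximalIdeal R, a • x = 0) → x ∈ LinearMap.range f' := by
    intro x hx
    obtain ⟨c, hc⟩ :=
      Groth.Agent.Lib.Helper1.Matlis.mem_range_of_forall_smul_eq_zero f hf x hx
    refine ⟨(Groth.Agent.Lib.Helper1.Matlis.quotEquivResidueField (R := R)).symm c, ?_⟩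
    rw [LinearMap.comp_apply, LinearEquiv.coe_coe, LinearEquiv.apply_symm_apply, hc]
  let g₀ : S →ₗ[R] (J →₀ E) := (Finsupp.mapRange.linearMap f') ∘ₗ s.toLinearMap
  haveI := injective_finsupp f hf J
  obtain ⟨g, hg⟩ := Module.Injective.extension_property R (J →₀ E) S M S.subtype
    S.injective_subtype g₀
  have hgS : ∀ x : S, g (x : M) = Finsupp.mapRange.linearMap f' (s x) :=
    fun x => LinearMap.congr_fun hg x
  refine ⟨J, s, g, ?_, ?_⟩
  · apply injective_of_soc hM
    intro x hx hgx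
    have hxS : x ∈ S := (mem_tors_iff _ _).2 hx
    have h1 := hgS ⟨x, hxS⟩
    rw [hgx] at h1
    have h1' : Finsupp.mapRange f' (map_zero f') (s ⟨x, hxS⟩) =
        Finsupp.mapRange f' (map_zero f') 0 := by
      rw [Finsupp.mapRange_zero]
      exact h1.symm
    have h2 : s ⟨x, hxS⟩ = 0 := Finsupp.mapRange_injective f' (map_zero f') hf'inj h1'
    have h3 : (⟨x, hxS⟩ : S) = 0 := s.map_eq_zero_iff.1 h2
    exact congrArg Subtype.val h3
  · intro y hy
    obtain ⟨c, hc⟩ := exists_mapRange_eq f' hf'inj hf'soc J y hy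
    refine ⟨((s.symm c : S) : M), (mem_tors_iff _ _).1 (s.symm c).2, ?_⟩
    rw [hgS, LinearEquiv.apply_symm_apply, hc]

theorem surjective_of_level (M : Type u) [AddCommGroup M] [Module R M]
    (J : Type u) (g : M →ₗ[R] (J →₀ E)) (hginj : Function.Injective g)
    (hgsoc : ∀ y : J →₀ E, (∀ a ∈ maximalIdeal R, a • y = 0) →
      ∃ x : M, (∀ a ∈ maximalIdeal R, a • x = 0) ∧ g x = y)
    (𝔞 : Ideal R) (h𝔞 : 𝔞 ≤ maximalIdeal R)
    (ψ : Submodule.torsionBySet R M (𝔞 : Set R) ≃ₗ[R]
      Submodule.torsionBySet R (J →₀ E) (𝔞 : Set R))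
    (y : J →₀ E) (hy : ∀ a ∈ 𝔞, a • y = 0) : ∃ x : M, g x = y := by
  haveI := injective_finsupp f hf J
  let T : Submodule R M := Submodule.torsionBySet R M (𝔞 : Set R)
  let T' : Submodule R (J →₀ E) := Submodule.torsionBySet R (J →₀ E) (𝔞 : Set R)
  let gq : T →ₗ[R] (J →₀ E) := g ∘ₗ T.subtype
  have hgq : Function.Injective gq := hginj.comp T.injective_subtype
  obtain ⟨σ, hσ⟩ := Module.Injective.extension_property R (J →₀ E) T (J →₀ E) gq hgq
    (T'.subtype ∘ₗ ψ.toLinearMap)
  have hσ' : ∀ x : T, σ (g (x : M)) = ((ψ x : T') : J →₀ E) :=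
    fun x => LinearMap.congr_fun hσ x
  have hI := isPowerTorsion_finsupp_hull f hf J
  have hσinj : Function.Injective σ := by
    apply injective_of_soc hI
    intro z hz hσz
    obtain ⟨x₀, hx₀, rfl⟩ := hgsoc z hz
    have hx₀T : x₀ ∈ T := (mem_tors_iff _ _).2 (fun a ha => hx₀ a (h𝔞 ha))
    have h1 := hσ' ⟨x₀, hx₀T⟩
    rw [hσz] at h1
    have h2 : ψ ⟨x₀, hx₀T⟩ = 0 := Subtype.ext h1.symm
    have h3 : (⟨x₀, hx₀T⟩ : T) = 0 := ψ.map_eq_zero_iff.1 h2
    have h4 : x₀ = 0 := congrArg Subtype.val h3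
    rw [h4, map_zero]
  have hσy : σ y ∈ T' := (mem_tors_iff _ _).2 (fun a ha => by
    rw [← map_smul, hy a ha, map_zero])
  refine ⟨((ψ.symm ⟨σ y, hσy⟩ : T) : M), ?_⟩
  apply hσinj
  rw [hσ', LinearEquiv.apply_symm_apply]

theorem exists_equiv_of_levels (M : Type u) [AddCommGroup M] [Module R M]
    (hM : LocCoh.IsPowerTorsion (maximalIdeal R) M) :
    ∃ (J : Type u), Nonempty (Soc R M ≃ₗ[R] (J →₀ R ⧸ maximalIdeal R)) ∧
      ((∃ 𝔞 : ℕ → Ideal R, (∀ n, ∃ e, 𝔞 e ≤ maximalIdeal R ^ n) ∧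
          (∀ e, 𝔞 e ≤ maximalIdeal R) ∧
          ∀ e, Nonempty (Submodule.torsionBySet R M (𝔞 e : Set R) ≃ₗ[R]
            Submodule.torsionBySet R (J →₀ E) (𝔞 e : Set R))) →
        Nonempty (M ≃ₗ[R] (J →₀ E))) := by
  obtain ⟨J, s, g, hginj, hgsoc⟩ := exists_embedding f hf M hM
  refine ⟨J, ⟨s⟩, ?_⟩
  rintro ⟨𝔞, h1, h2, h3⟩
  have hI := isPowerTorsion_finsupp_hull f hf J
  have hsurj : Function.Surjective g := by
    intro y
    obtain ⟨n, hn⟩ := hI y
    obtain ⟨e, he⟩ := h1 n
    obtain ⟨ψ⟩ := h3 e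
    exact surjective_of_level f hf M J g hginj hgsoc (𝔞 e) (h2 e) ψ y
      (fun a ha => hn a (he ha))
  exact ⟨LinearEquiv.ofBijective g ⟨hginj, hsurj⟩⟩

end embed

section baseChange

variable {A B : Type u} [CommRing A] [IsLocalRing A] [IsNoetherianRing A] [CommRing B]

theorem baseChange_le_tors [Algebra A B] (M : Type u) [AddCommGroup M] [Module A M]
    (I : Ideal A) :
    (Submodule.torsionBySet A M (I : Set A)).baseChange B ≤
      Submodule.torsionBySet B (B ⊗[A] M) ((I.map (algebraMap A B) : Ideal B) : Set B) := by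
  rw [Submodule.baseChange_eq_span, Submodule.span_le]
  rintro _ ⟨e, he, rfl⟩
  change (1 : B) ⊗ₜ[A] e ∈ _
  rw [SetLike.mem_coe, Submodule.mem_torsionBySet_iff]
  have hle : I.map (algebraMap A B) ≤
      LinearMap.ker (LinearMap.toSpanSingleton B (B ⊗[A] M) ((1 : B) ⊗ₜ[A] e)) := by
    rw [Ideal.map_le_iff_le_comap]
    intro a ha
    rw [Ideal.mem_comap, LinearMap.mem_ker, LinearMap.toSpanSingleton_apply, algebraMap_smul,
      TensorProduct.smul_tmul', TensorProduct.smul_tmul,
      (Submodule.mem_torsionBySet_iff _ _).1 he ⟨a, ha⟩, TensorProduct.tmul_zero]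
  rintro ⟨β, hβ⟩
  exact hle hβ

theorem nonempty_tors_baseChange [Algebra A B] [Module.Flat A B] (M : Type u) [AddCommGroup M]
    [Module A M] (J : Type u) (s : Soc A M ≃ₗ[A] (J →₀ A ⧸ maximalIdeal A)) :
    Nonempty (Submodule.torsionBySet B (B ⊗[A] M)
        (((maximalIdeal A).map (algebraMap A B) : Ideal B) : Set B) ≃ₗ[B]
      (J →₀ B ⧸ (maximalIdeal A).map (algebraMap A B))) := by
  classical
  have heq : Submodule.torsionBySet B (B ⊗[A] M)
      (((maximalIdeal A).map (algebraMap A B) : Ideal B) : Set B) =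
      (Soc A M).baseChange B :=
    le_antisymm
      (Groth.Agent.Lib.Helper1.Matlis.torsionBySet_map_le_baseChange M (maximalIdeal A)
        (IsNoetherian.noetherian _))
      (baseChange_le_tors M (maximalIdeal A))
  let e1 : (Soc A M).baseChange B ≃ₗ[B] B ⊗[A] (Soc A M) :=
    (Submodule.toBaseChange.toLinearEquiv B (Soc A M)).symm
  let e2 : B ⊗[A] (Soc A M) ≃ₗ[B] B ⊗[A] (J →₀ A ⧸ maximalIdeal A) :=
    TensorProduct.AlgebraTensorModule.congr (LinearEquiv.refl B B) s
  let e3 : B ⊗[A] (J →₀ A ⧸ maximalIdeal A) ≃ₗ[B] (J →₀ B ⊗[A] (A ⧸ maximalIdeal A)) :=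
    TensorProduct.finsuppRight A B B (A ⧸ maximalIdeal A) J
  let e4 : (J →₀ B ⊗[A] (A ⧸ maximalIdeal A)) ≃ₗ[B]
      (J →₀ B ⧸ (maximalIdeal A).map (algebraMap A B)) :=
    Finsupp.mapRange.linearEquiv (Ideal.qoutMapEquivTensorQout B).symm
  exact ⟨(LinearEquiv.ofEq _ _ heq).trans (e1.trans (e2.trans (e3.trans e4)))⟩

theorem nonempty_tors_extendScalars (φ : A →+* B) (hφ : φ.Flat) (M : Type u) [AddCommGroup M]
    [Module A M] (J : Type u) (s : Soc A M ≃ₗ[A] (J →₀ A ⧸ maximalIdeal A)) :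
    Nonempty (Submodule.torsionBySet B ((ModuleCat.extendScalars φ).obj (ModuleCat.of A M))
        (((maximalIdeal A).map φ : Ideal B) : Set B) ≃ₗ[B]
      (J →₀ B ⧸ (maximalIdeal A).map φ)) := by
  letI : Algebra A B := φ.toAlgebra
  haveI : Module.Flat A B := hφ
  exact nonempty_tors_baseChange M J s

end baseChange

section gor

variable {R : Type u} [CommRing R] [IsLocalRing R] [IsNoetherianRing R]

theorem mem_minimalPrimes_of_le_radical (𝔞 : Ideal R) (h1 : 𝔞 ≤ maximalIdeal R)
    (h2 : maximalIdeal R ≤ 𝔞.radical) : maximalIdeal R ∈ 𝔞.minimalPrimes := by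
  refine ⟨⟨inferInstance, h1⟩, ?_⟩
  rintro q ⟨hq, hle⟩ _
  exact h2.trans (hq.radical_le_iff.2 hle)

theorem isArtinianRing_quot (𝔞 : Ideal R) (h1 : 𝔞 ≤ maximalIdeal R)
    (h2 : maximalIdeal R ≤ 𝔞.radical) : IsArtinianRing (R ⧸ 𝔞) :=
  IsLocalRing.quotient_artinian_of_mem_minimalPrimes_of_isLocalRing _
    (mem_minimalPrimes_of_le_radical 𝔞 h1 h2)

theorem isFiniteLength_quot (𝔞 : Ideal R) (h1 : 𝔞 ≤ maximalIdeal R)
    (h2 : maximalIdeal R ≤ 𝔞.radical) : IsFiniteLength R (R ⧸ 𝔞) := by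
  haveI := isArtinianRing_quot 𝔞 h1 h2
  rw [isFiniteLength_iff_isNoetherian_isArtinian]
  exact ⟨inferInstance, isArtinian_of_surjective_algebraMap (S := R) (R := R ⧸ 𝔞)
    Ideal.Quotient.mk_surjective⟩

theorem dim_quot_eq_zero (𝔞 : Ideal R) (h1 : 𝔞 ≤ maximalIdeal R)
    (h2 : maximalIdeal R ≤ 𝔞.radical) : ringKrullDim (R ⧸ 𝔞) = 0 := by
  haveI := isArtinianRing_quot 𝔞 h1 h2
  haveI : Nontrivial (R ⧸ 𝔞) := Ideal.Quotient.nontrivial_iff.mpr
    (ne_top_of_le_ne_top (IsLocalRing.maximalIdeal.isMaximal R).ne_top h1)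
  exact ringKrullDimZero_iff_ringKrullDim_eq_zero.1
    (isArtinianRing_iff_krullDimLE_zero.1 inferInstance)

variable {E : Type u} [AddCommGroup E] [Module R E]
  (f : ResidueField R →ₗ[R] E) (hf : InjHull.IsInjectiveHull f)
include hf

theorem nonempty_tors_equiv_quot (𝔞 : Ideal R) (h1 : 𝔞 ≤ maximalIdeal R)
    (h2 : maximalIdeal R ≤ 𝔞.radical) [IsLocalRing (R ⧸ 𝔞)] (hT : GorFlat.Type1 (R ⧸ 𝔞)) :
    Nonempty ((R ⧸ 𝔞) ≃ₗ[R] Submodule.torsionBySet R E (𝔞 : Set R)) := by
  obtain ⟨z, hz0, hzsoc, hzgen⟩ := hT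
  haveI : IsArtinianRing (R ⧸ 𝔞) := isArtinianRing_quot 𝔞 h1 h2
  obtain ⟨φ, hφz⟩ := Groth.Agent.Lib.Helper1.Matlis.exists_hom_apply_ne_zero f hf (R ⧸ 𝔞) z hz0
  have hsm : ∀ (r : R) (w : R ⧸ 𝔞), r • w = Ideal.Quotient.mk 𝔞 r * w := fun r w => by
    rw [Algebra.smul_def]; rfl
  obtain ⟨N, hN⟩ : ∃ N : ℕ, maximalIdeal (R ⧸ 𝔞) ^ N = ⊥ := by
    have := IsArtinianRing.isNilpotent_jacobson_bot (R := R ⧸ 𝔞)
    rw [IsLocalRing.jacobson_eq_maximalIdeal ⊥ bot_ne_top] at this
    exact this
  have hinj : Function.Injective φ := by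
    rw [injective_iff_map_eq_zero]
    intro w hw
    by_contra hw0
    obtain ⟨c, hc0, hcsoc⟩ := GorFlat.exists_soc_mul N w hw0 (fun t ht => by
      rw [hN] at ht
      rw [(Submodule.mem_bot _).1 ht, zero_mul])
    obtain ⟨c', hc'⟩ := hzgen _ hcsoc
    have hc'u : IsUnit c' := by
      by_contra hnu
      apply hc0
      rw [hc', hzsoc c' ((IsLocalRing.mem_maximalIdeal c').2 hnu)]
    obtain ⟨v, rfl⟩ := hc'u
    have hz : z = (↑v⁻¹ * c) * w := by
      rw [mul_assoc, hc', ← mul_assoc, Units.inv_mul, one_mul]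
    obtain ⟨r, hr⟩ := Ideal.Quotient.mk_surjective (((↑v⁻¹ : (R ⧸ 𝔞)ˣ) : R ⧸ 𝔞) * c)
    apply hφz
    rw [hz, ← hr, ← hsm, map_smul, hw, smul_zero]
  have hmem : ∀ w, φ w ∈ Submodule.torsionBySet R E (𝔞 : Set R) := by
    intro w
    rw [mem_tors_iff]
    intro a ha
    rw [← map_smul, hsm, Ideal.Quotient.eq_zero_iff_mem.2 ha, zero_mul, map_zero]
  let φ' : (R ⧸ 𝔞) →ₗ[R] Submodule.torsionBySet R E (𝔞 : Set R) :=
    LinearMap.codRestrict _ φ hmem
  have hinj' : Function.Injective φ' := fun a b h => hinj (congrArg Subtype.val h)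
  have hfin := isFiniteLength_quot 𝔞 h1 h2
  have hlen := Groth.Agent.Lib.Helper1.Matlis.length_torsionBySet f hf 𝔞 hfin
  have hrange : LinearMap.range φ' = ⊤ := by
    apply Groth.Agent.Lib.Helper1.Matlis.submodule_eq_of_le_of_length_le le_top
    · rw [Module.length_top, hlen]
      exact Module.length_ne_top_iff.2 hfin
    · rw [Module.length_top, hlen]
      exact le_of_eq (LinearEquiv.ofInjective φ' hinj').length_eq
  exact ⟨LinearEquiv.ofBijective φ' ⟨hinj', LinearMap.range_eq_top.1 hrange⟩⟩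

end gor

section gorquot

theorem gor_quot_map {A B : Type u} [CommRing A] [CommRing B] [IsLocalRing A] [IsLocalRing B]
    [IsNoetherianRing A] [IsNoetherianRing B] (φ : A →+* B) [IsLocalHom φ] (hφ : φ.Flat)
    (hB : LocCoh.IsGorensteinLocalRing B) :
    LocCoh.IsGorensteinLocalRing (B ⧸ (maximalIdeal A).map φ) := by
  letI : Algebra A B := φ.toAlgebra
  haveI : IsLocalHom (algebraMap A B) := ‹IsLocalHom φ›
  haveI : Module.Flat A B := hφ
  exact ((GorHom.gor_iff_of_flat ((maximalIdeal A).map φ) rfl).1 hB).2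

end gorquot

section frob

variable (p : ℕ) [Fact p.Prime] (R : Type u) [CommRing R] [CharP R p]

theorem nonempty_iterate_iso (M : ModuleCat.{u} R)
    (h : Nonempty ((ModuleCat.extendScalars (frobenius R p)).obj M ≅ M)) (e : ℕ) :
    Nonempty ((ModuleCat.extendScalars (iterateFrobenius R p e)).obj M ≅ M) := by
  induction e with
  | zero =>
    have h0 : iterateFrobenius R p 0 = RingHom.id R := by
      ext x
      rw [iterateFrobenius_def, pow_zero, pow_one, RingHom.id_apply]
    rw [h0]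
    exact ⟨(ModuleCat.extendScalarsId R).app M⟩
  | succ e ih =>
    have hcomp : iterateFrobenius R p (e + 1) =
        (frobenius R p).comp (iterateFrobenius R p e) := by
      ext x
      rw [RingHom.comp_apply, iterateFrobenius_def, iterateFrobenius_def, frobenius_def,
        pow_succ, pow_mul]
    rw [hcomp]
    obtain ⟨θ⟩ := ih
    obtain ⟨h0⟩ := h
    exact ⟨(ModuleCat.extendScalarsComp (iterateFrobenius R p e) (frobenius R p)).app M ≪≫
      (ModuleCat.extendScalars (frobenius R p)).mapIso θ ≪≫ h0⟩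

theorem map_iterateFrobenius_le (I : Ideal R) (e : ℕ) :
    I.map (iterateFrobenius R p e) ≤ I ^ (p ^ e) := by
  rw [Ideal.map_le_iff_le_comap]
  intro x hx
  rw [Ideal.mem_comap, iterateFrobenius_def]
  exact Ideal.pow_mem_pow hx _

end frob

section final

variable (p : ℕ) [Fact p.Prime] (R : Type u) [CommRing R] [IsRegularLocalRing R] [CharP R p]
  (E : Type u) [AddCommGroup E] [Module R E] (f : ResidueField R →ₗ[R] E)
  (hf : InjHull.IsInjectiveHull f)
include hf

theorem level_iso (M : Type u) [AddCommGroup M] [Module R M] (J : Type u)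
    (s : Soc R M ≃ₗ[R] (J →₀ R ⧸ maximalIdeal R))
    (h : Nonempty ((ModuleCat.extendScalars (frobenius R p)).obj (ModuleCat.of R M) ≅
      ModuleCat.of R M)) (e : ℕ) :
    Nonempty (Submodule.torsionBySet R M
        (((maximalIdeal R).map (iterateFrobenius R p e) : Ideal R) : Set R) ≃ₗ[R]
      Submodule.torsionBySet R (J →₀ E)
        (((maximalIdeal R).map (iterateFrobenius R p e) : Ideal R) : Set R)) := by
  have hpe : 0 < p ^ e := pow_pos (Fact.out : p.Prime).pos e
  have h1 : (maximalIdeal R).map (iterateFrobenius R p e) ≤ maximalIdeal R :=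
    (map_iterateFrobenius_le p R _ e).trans (Ideal.pow_le_self hpe.ne')
  have h2 : maximalIdeal R ≤ ((maximalIdeal R).map (iterateFrobenius R p e)).radical := by
    intro x hx
    have := Ideal.mem_map_of_mem (iterateFrobenius R p e) hx
    rw [iterateFrobenius_def] at this
    exact Ideal.mem_radical_iff.2 ⟨_, this⟩
  have hFflat : (frobenius R p).Flat := Kunz.frobenius_flat_of_regular p R
  have hφflat : (iterateFrobenius R p e).Flat := Kunz.iterateFrobenius_flat p R hFflat e
  haveI : IsLocalHom (iterateFrobenius R p e) := ⟨fun a ha => by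
    rw [iterateFrobenius_def] at ha
    exact (isUnit_pow_iff hpe.ne').mp ha⟩
  -- the `M` side
  obtain ⟨θ⟩ := nonempty_iterate_iso p R (ModuleCat.of R M) h e
  obtain ⟨t1⟩ := nonempty_tors_extendScalars (iterateFrobenius R p e) hφflat M J s
  obtain ⟨t0⟩ := torsCongr θ.toLinearEquiv ((maximalIdeal R).map (iterateFrobenius R p e))
  -- the `E` side
  have hgor : LocCoh.IsGorensteinLocalRing
      (R ⧸ (maximalIdeal R).map (iterateFrobenius R p e)) :=
    gor_quot_map (iterateFrobenius R p e) hφflat (Groth.Agent.S0342.result R)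
  haveI : IsLocalRing (R ⧸ (maximalIdeal R).map (iterateFrobenius R p e)) :=
    hgor.toIsLocalRing
  have hT := GorFlat.type1_of_gor _ hgor (dim_quot_eq_zero _ h1 h2)
  obtain ⟨t2⟩ := nonempty_tors_equiv_quot f hf _ h1 h2 hT
  obtain ⟨t3⟩ := torsFinsupp ((maximalIdeal R).map (iterateFrobenius R p e)) J E
  exact ⟨t0.symm.trans (t1.trans ((Finsupp.mapRange.linearEquiv t2).trans t3))⟩

theorem main (M : Type u) [AddCommGroup M] [Module R M]
    (hM : LocCoh.IsPowerTorsion (maximalIdeal R) M)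
    (h : Nonempty ((ModuleCat.extendScalars (frobenius R p)).obj (ModuleCat.of R M) ≅
      ModuleCat.of R M)) :
    ∃ ι : Type u, Nonempty (M ≃ₗ[R] (ι →₀ E)) := by
  obtain ⟨J, ⟨s⟩, hJ⟩ := exists_equiv_of_levels f hf M hM
  refine ⟨J, hJ ⟨fun e => (maximalIdeal R).map (iterateFrobenius R p e), ?_, ?_, ?_⟩⟩
  · intro n
    exact ⟨n, (map_iterateFrobenius_le p R _ n).trans
      (Ideal.pow_le_pow_right (Nat.lt_pow_self (Fact.out : p.Prime).one_lt).le)⟩
  · intro e
    exact (map_iterateFrobenius_le p R _ e).trans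
      (Ideal.pow_le_self (pow_pos (Fact.out : p.Prime).pos e).ne')
  · intro e
    exact level_iso p R E f hf M J s h e

end final

end Groth.Agent.Lib.Helper4.FrobTors
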