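import Mathlib
import Groth.Agent.Lib.Helper4.LCBridge
import Groth.Agent.Lib.Helper14.ConeLES

/-!
# Element-level toolkit for mapping cones of complexes of modules

For `φ : K ⟶ L` in `CochainComplex (ModuleCat A) ℤ`, elements of `(mappingCone φ).X i` are pairs
`(fstL z, sndL z) ∈ K.X (i+1) × L.X i`; the differential is `(a, b) ↦ (-da, φ a + db)`.

* `fstL, sndL, inlL, inrL`, `decomp`, `ext'`, `fst_d`, `snd_d`.
* `conePi φ i j h : H^i(cone φ) → H^j(K)` (`j = i+1`), `conePi_cls`.
* `exists_inr_of_cls_fst_zero` (exactness at `H^i(cone)`), `exists_cocycle_fst_eq` (exactness at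
  `H^{i+1}(K)`), `inr_map_apply` (`H(K) → H(L) → H(cone)` is zero).
* compatibility with `mappingCone.map`: `fst_map_apply`, `snd_map_apply`, `inr_comp_map`, `conePi_map`.
-/

set_option autoImplicit false
set_option linter.style.haveILetI false
set_option linter.unusedSectionVars false
set_option linter.unusedVariables false
set_option maxHeartbeats 800000

universe u

open CategoryTheory CategoryTheory.Limits CochainComplex HomComplex

namespace Groth.Agent.Lib.Helper4.KosCone

open Groth.Agent.Lib.Helper4.LCBridge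

variable {A : Type u} [CommRing A]

/-! ### cocycles and classes in `ℤ`-indexed cochain complexes -/

section cx

variable (K : CochainComplex (ModuleCat.{u} A) ℤ)

lemma memZ (i j : ℤ) (h : i + 1 = j) (z : K.X i) :
    z ∈ ModCx.Z K i ↔ (K.d i j).hom z = 0 :=
  ModCx.mem_Z_iff K i j ((CochainComplex.next ℤ i).trans h) z

lemma cls0 (i j : ℤ) (h : i + 1 = j) (z : ModCx.Z K j) :
    ModCx.cls K j z = 0 ↔ ∃ y : K.X i, (K.d i j).hom y = z.1 :=
  ModCx.cls_eq_zero_iff' K j i ((CochainComplex.prev ℤ j).trans (by omega)) z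

/-- descend a linear map from cocycles to homology. -/
noncomputable def desc (i : ℤ) {W : Type u} [AddCommGroup W] [Module A W]
    (g : ModCx.Z K i →ₗ[A] W) (hg : ∀ z, ModCx.cls K i z = 0 → g z = 0) :
    K.homology i →ₗ[A] W :=
  ((LinearMap.ker (ModCx.cls K i)).liftQ g (fun z hz => hg z (LinearMap.mem_ker.mp hz))) ∘ₗ
    ((ModCx.cls K i).quotKerEquivOfSurjective (ModCx.cls_surjective K i)).symm.toLinearMap

lemma desc_cls (i : ℤ) {W : Type u} [AddCommGroup W] [Module A W]
    (g : ModCx.Z K i →ₗ[A] W) (hg : ∀ z, ModCx.cls K i z = 0 → g z = 0) (z : ModCx.Z K i) :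
    desc K i g hg (ModCx.cls K i z) = g z := by
  simp only [desc, LinearMap.comp_apply, LinearEquiv.coe_coe,
    LinearMap.quotKerEquivOfSurjective_symm_apply, Submodule.liftQ_apply]

lemma hom_comm {K L : CochainComplex (ModuleCat.{u} A) ℤ} (ψ : K ⟶ L) (i j : ℤ) (x : K.X i) :
    (ψ.f j).hom ((K.d i j).hom x) = (L.d i j).hom ((ψ.f i).hom x) := by
  have e := congrArg (fun f => f.hom x) (ψ.comm i j)
  simp only [ModuleCat.hom_comp, LinearMap.comp_apply] at e
  exact e.symm

lemma smul_id_f_apply (x : A) (j : ℤ) (a : K.X j) :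
    ((x • 𝟙 K : K ⟶ K).f j).hom a = x • a := rfl

end cx

/-! ### the cone -/

section cone

variable {K L : CochainComplex (ModuleCat.{u} A) ℤ} (φ : K ⟶ L)

/-- first component `cone^i → K^{i+1}`. -/
noncomputable def fstL (i j : ℤ) (h : i + 1 = j) : (mappingCone φ).X i →ₗ[A] K.X j :=
  ((mappingCone.fst φ).1.v i j h).hom

/-- second component `cone^i → L^i`. -/
noncomputable def sndL (i : ℤ) : (mappingCone φ).X i →ₗ[A] L.X i :=
  ((mappingCone.snd φ).v i i (add_zero i)).hom

/-- `K^{i+1} → cone^i`. -/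
noncomputable def inlL (i j : ℤ) (h : i + 1 = j) : K.X j →ₗ[A] (mappingCone φ).X i :=
  ((mappingCone.inl φ).v j i (by omega)).hom

/-- `L^i → cone^i`. -/
noncomputable def inrL (i : ℤ) : L.X i →ₗ[A] (mappingCone φ).X i :=
  ((mappingCone.inr φ).f i).hom

lemma fst_inl (i j : ℤ) (h : i + 1 = j) (a : K.X j) : fstL φ i j h (inlL φ i j h a) = a := by
  have e := congrArg (fun f => f.hom a) (mappingCone.inl_v_fst_v φ j i h)
  simp only [ModuleCat.hom_comp, LinearMap.comp_apply, ModuleCat.hom_id, LinearMap.id_apply] at e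
  exact e

lemma snd_inl (i j : ℤ) (h : i + 1 = j) (a : K.X j) : sndL φ i (inlL φ i j h a) = 0 := by
  have e := congrArg (fun f => f.hom a) (mappingCone.inl_v_snd_v φ j i (by omega))
  simp only [ModuleCat.hom_comp, LinearMap.comp_apply, ModuleCat.hom_zero, LinearMap.zero_apply] at e
  exact e

lemma fst_inr (i j : ℤ) (h : i + 1 = j) (b : L.X i) : fstL φ i j h (inrL φ i b) = 0 := by
  have e := congrArg (fun f => f.hom b) (mappingCone.inr_f_fst_v φ i j h)
  simp only [ModuleCat.hom_comp, LinearMap.comp_apply, ModuleCat.hom_zero, LinearMap.zero_apply] at e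
  exact e

lemma snd_inr (i : ℤ) (b : L.X i) : sndL φ i (inrL φ i b) = b := by
  have e := congrArg (fun f => f.hom b) (mappingCone.inr_f_snd_v φ i)
  simp only [ModuleCat.hom_comp, LinearMap.comp_apply, ModuleCat.hom_id, LinearMap.id_apply] at e
  exact e

lemma decomp (i j : ℤ) (h : i + 1 = j) (z : (mappingCone φ).X i) :
    z = inlL φ i j h (fstL φ i j h z) + inrL φ i (sndL φ i z) := by
  have e := congrArg (fun f => f.hom z) (mappingCone.id_X φ i j h)
  simp only [ModuleCat.hom_add, ModuleCat.hom_comp, LinearMap.add_apply, LinearMap.comp_apply,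
    ModuleCat.hom_id, LinearMap.id_apply] at e
  exact e.symm

lemma ext' (i j : ℤ) (h : i + 1 = j) {z z' : (mappingCone φ).X i}
    (h1 : fstL φ i j h z = fstL φ i j h z') (h2 : sndL φ i z = sndL φ i z') : z = z' := by
  rw [decomp φ i j h z, decomp φ i j h z', h1, h2]

lemma fst_d (i j k : ℤ) (hij : i + 1 = j) (hjk : j + 1 = k) (z : (mappingCone φ).X i) :
    fstL φ j k hjk (((mappingCone φ).d i j).hom z) = -(K.d j k).hom (fstL φ i j hij z) := by
  have e := congrArg (fun f => f.hom z) (mappingCone.d_fst_v φ i j k hij hjk)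
  simp only [ModuleCat.hom_comp, LinearMap.comp_apply, ModuleCat.hom_neg, LinearMap.neg_apply,
    map_neg] at e
  exact e

lemma snd_d (i j : ℤ) (hij : i + 1 = j) (z : (mappingCone φ).X i) :
    sndL φ j (((mappingCone φ).d i j).hom z) =
      (φ.f j).hom (fstL φ i j hij z) + (L.d i j).hom (sndL φ i z) := by
  have e := congrArg (fun f => f.hom z) (mappingCone.d_snd_v φ i j hij)
  simp only [ModuleCat.hom_comp, LinearMap.comp_apply, ModuleCat.hom_add, LinearMap.add_apply] at e
  exact e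

lemma fst_mem_Z (i j : ℤ) (h : i + 1 = j) (z : ModCx.Z (mappingCone φ) i) :
    fstL φ i j h z.1 ∈ ModCx.Z K j := by
  rw [memZ K j (j + 1) rfl]
  have hz : ((mappingCone φ).d i j).hom z.1 = 0 := (memZ _ i j h z.1).mp z.2
  have e := fst_d φ i j (j + 1) h rfl z.1
  rw [hz, map_zero] at e
  exact neg_eq_zero.mp e.symm

/-- `fst` on cocycles. -/
noncomputable def fstZ (i j : ℤ) (h : i + 1 = j) :
    ModCx.Z (mappingCone φ) i →ₗ[A] ModCx.Z K j :=
  LinearMap.codRestrict _ ((fstL φ i j h).comp (Submodule.subtype _))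
    (fun z => fst_mem_Z φ i j h z)

lemma fstZ_val (i j : ℤ) (h : i + 1 = j) (z : ModCx.Z (mappingCone φ) i) :
    (fstZ φ i j h z).1 = fstL φ i j h z.1 := rfl

/-- the map `H^i(cone φ) → H^{i+1}(K)`. -/
noncomputable def conePi (i j : ℤ) (h : i + 1 = j) :
    (mappingCone φ).homology i →ₗ[A] K.homology j :=
  desc (mappingCone φ) i ((ModCx.cls K j).comp (fstZ φ i j h)) (by
    intro z hz
    obtain ⟨w, hw⟩ := (cls0 (mappingCone φ) (i - 1) i (by omega) z).mp hz
    change ModCx.cls K j (fstZ φ i j h z) = 0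
    rw [cls0 K i j h]
    refine ⟨-(fstL φ (i - 1) i (by omega) w), ?_⟩
    rw [fstZ_val, ← hw, fst_d φ (i - 1) i j (by omega) h w, map_neg])

lemma conePi_cls (i j : ℤ) (h : i + 1 = j) (z : ModCx.Z (mappingCone φ) i) :
    conePi φ i j h (ModCx.cls _ i z) =
      ModCx.cls K j ⟨fstL φ i j h z.1, fst_mem_Z φ i j h z⟩ := by
  rw [conePi, desc_cls]
  rfl

/-- exactness at `H^i(cone)`. -/
lemma exists_inr_of_cls_fst_zero (i j : ℤ) (h : i + 1 = j) (z : ModCx.Z (mappingCone φ) i)
    (hz : ModCx.cls K j ⟨fstL φ i j h z.1, fst_mem_Z φ i j h z⟩ = 0) :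
    ∃ b : ModCx.Z L i, ModCx.cls (mappingCone φ) i z =
      (HomologicalComplex.homologyMap (mappingCone.inr φ) i).hom (ModCx.cls L i b) := by
  obtain ⟨a', ha'⟩ := (cls0 K i j h _).mp hz
  have ha'' : (K.d i j).hom a' = fstL φ i j h z.1 := ha'
  have hzc : ((mappingCone φ).d i j).hom z.1 = 0 := (memZ _ i j h z.1).mp z.2
  have hb : sndL φ i z.1 + (φ.f i).hom a' ∈ ModCx.Z L i := by
    rw [memZ L i j h, map_add]
    have e := snd_d φ i j h z.1
    rw [hzc, map_zero] at e
    rw [← hom_comm φ i j a', ha'', add_comm]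
    exact e.symm
  refine ⟨⟨_, hb⟩, ?_⟩
  rw [ModCx.homologyMap_cls, ← sub_eq_zero, ← map_sub, cls0 (mappingCone φ) (i - 1) i (by omega)]
  refine ⟨-(inlL φ (i - 1) i (by omega) a'), ?_⟩
  apply ext' φ i j h
  · rw [map_neg, map_neg, fst_d φ (i - 1) i j (by omega) h, fst_inl, neg_neg]
    change _ = fstL φ i j h (z.1 - inrL φ i (sndL φ i z.1 + (φ.f i).hom a'))
    rw [map_sub, fst_inr, sub_zero, ha'']
  · rw [map_neg, map_neg, snd_d φ (i - 1) i (by omega), fst_inl, snd_inl, map_zero, add_zero]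
    change _ = sndL φ i (z.1 - inrL φ i (sndL φ i z.1 + (φ.f i).hom a'))
    rw [map_sub, snd_inr]
    abel

/-- exactness at `H^{i+1}(K)`. -/
lemma exists_cocycle_fst_eq (i j : ℤ) (h : i + 1 = j) (a : ModCx.Z K j)
    (ha : (HomologicalComplex.homologyMap φ j).hom (ModCx.cls K j a) = 0) :
    ∃ z : ModCx.Z (mappingCone φ) i, fstL φ i j h z.1 = a.1 := by
  rw [ModCx.homologyMap_cls, cls0 L i j h] at ha
  obtain ⟨b', hb'⟩ := ha
  have hb'' : (L.d i j).hom b' = (φ.f j).hom a.1 := hb'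
  have hz : inlL φ i j h a.1 - inrL φ i b' ∈ ModCx.Z (mappingCone φ) i := by
    rw [memZ _ i j h]
    apply ext' φ j (j + 1) rfl
    · rw [fst_d φ i j (j + 1) h rfl, map_sub, fst_inl, fst_inr, sub_zero, map_zero]
      have : (K.d j (j + 1)).hom a.1 = 0 := (memZ K j (j + 1) rfl a.1).mp a.2
      rw [this, neg_zero]
    · rw [snd_d φ i j h]
      simp only [map_sub, fst_inl, fst_inr, snd_inl, snd_inr, sub_zero, zero_sub, map_neg,
        map_zero, hb'']
      abel
  refine ⟨⟨_, hz⟩, ?_⟩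
  change fstL φ i j h (inlL φ i j h a.1 - inrL φ i b') = a.1
  rw [map_sub, fst_inl, fst_inr, sub_zero]

/-- `H(K) → H(L) → H(cone)` is zero. -/
lemma inr_map_apply (i : ℤ) (x : K.homology i) :
    (HomologicalComplex.homologyMap (mappingCone.inr φ) i).hom
      ((HomologicalComplex.homologyMap φ i).hom x) = 0 := by
  have e := congrArg (fun f => f.hom x)
    (Groth.Agent.Lib.Helper14.ConeLES.homologyMap_comp_inr φ i)
  simp only [ModuleCat.hom_comp, LinearMap.comp_apply, ModuleCat.hom_zero,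
    LinearMap.zero_apply] at e
  exact e

end cone

/-! ### functoriality of the cone -/

section map

variable {K₁ L₁ K₂ L₂ : CochainComplex (ModuleCat.{u} A) ℤ} (φ₁ : K₁ ⟶ L₁) (φ₂ : K₂ ⟶ L₂)
  (a : K₁ ⟶ K₂) (b : L₁ ⟶ L₂) (comm : φ₁ ≫ b = a ≫ φ₂)

@[reassoc]
lemma inl_map (p q : ℤ) (hpq : p + (-1) = q) :
    (mappingCone.inl φ₁).v p q hpq ≫ (mappingCone.map φ₁ φ₂ a b comm).f q =
      a.f p ≫ (mappingCone.inl φ₂).v p q hpq := by
  simp [mappingCone.map]

@[reassoc]
lemma inr_map (p : ℤ) :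
    (mappingCone.inr φ₁).f p ≫ (mappingCone.map φ₁ φ₂ a b comm).f p =
      b.f p ≫ (mappingCone.inr φ₂).f p := by
  simp [mappingCone.map]

lemma map_fst (p q : ℤ) (hpq : p + 1 = q) :
    (mappingCone.map φ₁ φ₂ a b comm).f p ≫ (mappingCone.fst φ₂).1.v p q hpq =
      (mappingCone.fst φ₁).1.v p q hpq ≫ a.f q := by
  apply mappingCone.ext_from _ q p hpq
  · rw [inl_map_assoc φ₁ φ₂ a b comm q p (by omega)]
    simp
  · rw [inr_map_assoc]
    simp

lemma map_snd (p : ℤ) :
    (mappingCone.map φ₁ φ₂ a b comm).f p ≫ (mappingCone.snd φ₂).v p p (add_zero p) =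
      (mappingCone.snd φ₁).v p p (add_zero p) ≫ b.f p := by
  apply mappingCone.ext_from _ (p + 1) p rfl
  · rw [inl_map_assoc φ₁ φ₂ a b comm (p + 1) p (by omega)]
    simp
  · rw [inr_map_assoc]
    simp

lemma fst_map_apply (i j : ℤ) (h : i + 1 = j) (z : (mappingCone φ₁).X i) :
    fstL φ₂ i j h (((mappingCone.map φ₁ φ₂ a b comm).f i).hom z) =
      (a.f j).hom (fstL φ₁ i j h z) := by
  have e := congrArg (fun f => f.hom z) (map_fst φ₁ φ₂ a b comm i j h)
  simp only [ModuleCat.hom_comp, LinearMap.comp_apply] at e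
  exact e

lemma snd_map_apply (i : ℤ) (z : (mappingCone φ₁).X i) :
    sndL φ₂ i (((mappingCone.map φ₁ φ₂ a b comm).f i).hom z) = (b.f i).hom (sndL φ₁ i z) := by
  have e := congrArg (fun f => f.hom z) (map_snd φ₁ φ₂ a b comm i)
  simp only [ModuleCat.hom_comp, LinearMap.comp_apply] at e
  exact e

lemma inr_comp_map :
    mappingCone.inr φ₁ ≫ mappingCone.map φ₁ φ₂ a b comm = b ≫ mappingCone.inr φ₂ := by
  ext p : 1
  exact inr_map φ₁ φ₂ a b comm p

lemma conePi_map (i j : ℤ) (h : i + 1 = j) (x : (mappingCone φ₁).homology i) :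
    conePi φ₂ i j h
        ((HomologicalComplex.homologyMap (mappingCone.map φ₁ φ₂ a b comm) i).hom x) =
      (HomologicalComplex.homologyMap a j).hom (conePi φ₁ i j h x) := by
  obtain ⟨z, rfl⟩ := ModCx.cls_surjective _ i x
  rw [ModCx.homologyMap_cls, conePi_cls, conePi_cls, ModCx.homologyMap_cls]
  congr 1
  exact Subtype.ext (fst_map_apply φ₁ φ₂ a b comm i j h z.1)

/-- homology of `inr` commutes with `map`. -/
lemma homologyMap_map_inr (i : ℤ) (x : L₁.homology i) :
    (HomologicalComplex.homologyMap (mappingCone.map φ₁ φ₂ a b comm) i).hom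
        ((HomologicalComplex.homologyMap (mappingCone.inr φ₁) i).hom x) =
      (HomologicalComplex.homologyMap (mappingCone.inr φ₂) i).hom
        ((HomologicalComplex.homologyMap b i).hom x) := by
  have e := congrArg (fun g : L₁ ⟶ mappingCone φ₂ => (HomologicalComplex.homologyMap g i).hom x)
    (inr_comp_map φ₁ φ₂ a b comm)
  simp only [HomologicalComplex.homologyMap_comp, ModuleCat.hom_comp, LinearMap.comp_apply] at e
  exact e

lemma map_congr {a a' : K₁ ⟶ K₂} {b b' : L₁ ⟶ L₂} (ha : a = a') (hb : b = b')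
    (comm : φ₁ ≫ b = a ≫ φ₂) (comm' : φ₁ ≫ b' = a' ≫ φ₂) :
    mappingCone.map φ₁ φ₂ a b comm = mappingCone.map φ₁ φ₂ a' b' comm' := by
  subst ha hb
  rfl

end map

end Groth.Agent.Lib.Helper4.KosCone
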