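import Groth.Agent.Lib.Helper4.KE1
import Groth.Agent.Lib.Helper4.KosCone
import Groth.Agent.Lib.Helper14.KoszulBC
import Groth.Agent.Lib.Helper14.KoszulReg
import Groth.Agent.Lib.Helper14.KoszulTop
import Groth.Agent.Lib.Helper14.KoszulDepth
import Groth.Agent.Lib.Helper14.KoszulLCI
import Groth.Agent.Lib.Helper4.FaltLocal
import Groth.Agent.Lib.Helper4.StalkDual3

/-!
# Euler characteristic of Koszul cohomology: basic toolkit

* `bridge`: `tensorCx (Koszul.koszul A l) M ≅ koszulCx M l`; `chiK l M`; `chi_tensor_eq`.
* `Good I M`: `M/IM` has finite length (annihilator form); `isFiniteLength_homology`.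
* `chiK_add`: additivity in short exact sequences of modules.
* `chiK_cons_of_regular`, `chiK_cons_eq_zero`, `chiK_cons_eq_zero_of_smul_eq_zero`.
-/

set_option autoImplicit false
set_option linter.style.haveILetI false
set_option linter.unusedSectionVars false
set_option linter.unusedVariables false
set_option maxHeartbeats 800000

universe u

open CategoryTheory CategoryTheory.Limits CochainComplex HomComplex MonoidalCategory

namespace Groth.Agent.Lib.Helper4.KE

open CohIII Groth.Agent.Lib.Helper14.KoszulFun Groth.Agent.Lib.Helper4.KosCone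
  Groth.Agent.Lib.Helper4.LCBridge

variable {A : Type u} [CommRing A]

/-! ### the bridge to the prelude's `tensorCx (Koszul.koszul A l) M` -/

theorem bridge (M : ModuleCat.{u} A) (l : List A) :
    Nonempty (DRing.tensorCx (Koszul.koszul A l) M ≅ koszulCx M l) := by
  rw [koszul_eq_koszulCx]
  have hc : List.Forall₂ (ScalarCompat (tensorRight M)) l l := by
    rw [List.forall₂_same]
    intro r _ X
    change (r • 𝟙 X) ▷ M = r • 𝟙 _
    rw [MonoidalLinear.smul_whiskerRight, id_whiskerRight]
    rfl
  obtain ⟨e⟩ := nonempty_mapKoszulIso (tensorRight M) (ModuleCat.of A A) hc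
  exact ⟨e ≪≫ koszulIso (λ_ M) l⟩

/-- The Euler characteristic of Koszul cohomology. -/
noncomputable def chiK (l : List A) (M : ModuleCat.{u} A) : ℤ :=
  chiF A (fun i => ((koszulCx M l).homology i : Type u))

theorem chi_tensor_eq (l : List A) (M : ModuleCat.{u} A) :
    (∑ᶠ i : ℤ, ((i.negOnePow : ℤˣ) : ℤ) *
      ((Module.length A ((DRing.tensorCx (Koszul.koszul A l) M).homology i)).toNat : ℤ)) =
      chiK l M := by
  obtain ⟨e⟩ := bridge M l
  exact chiF_congr (fun i => ((DRing.tensorCx (Koszul.koszul A l) M).homology i : Type u))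
    (fun i => ((koszulCx M l).homology i : Type u))
    (fun i => ((HomologicalComplex.homologyFunctor _ _ i).mapIso e).toLinearEquiv)

/-! ### the long exact sequence of a cone, in `Function.Exact` form -/

section coneLES

variable {K L : CochainComplex (ModuleCat.{u} A) ℤ} (φ : K ⟶ L)

lemma cone_exact_a (i : ℤ) :
    Function.Exact (HomologicalComplex.homologyMap φ i).hom
      (HomologicalComplex.homologyMap (mappingCone.inr φ) i).hom :=
  (ShortComplex.ShortExact.moduleCat_exact_iff_function_exact _).mp
    (Groth.Agent.Lib.Helper14.ConeLES.exact₂ φ i)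

lemma cone_exact_b (i j : ℤ) (h : i + 1 = j) :
    Function.Exact (HomologicalComplex.homologyMap (mappingCone.inr φ) i).hom
      (conePi φ i j h) := by
  intro z
  constructor
  · intro hz
    obtain ⟨w, rfl⟩ := ModCx.cls_surjective _ i z
    rw [conePi_cls] at hz
    obtain ⟨b, hb⟩ := exists_inr_of_cls_fst_zero φ i j h w hz
    exact ⟨ModCx.cls L i b, hb.symm⟩
  · rintro ⟨x, rfl⟩
    obtain ⟨b, rfl⟩ := ModCx.cls_surjective L i x
    rw [ModCx.homologyMap_cls, conePi_cls, cls0 K i j h]
    refine ⟨0, ?_⟩
    rw [map_zero]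
    exact (fst_inr φ i j h b.1).symm

lemma cone_exact_c (i j : ℤ) (h : i + 1 = j) :
    Function.Exact (conePi φ i j h) (HomologicalComplex.homologyMap φ j).hom := by
  intro a
  constructor
  · intro ha
    obtain ⟨a', rfl⟩ := ModCx.cls_surjective K j a
    obtain ⟨z, hz⟩ := exists_cocycle_fst_eq φ i j h a' ha
    refine ⟨ModCx.cls _ i z, ?_⟩
    rw [conePi_cls]
    congr 1
    exact Subtype.ext hz
  · rintro ⟨x, rfl⟩
    obtain ⟨w, rfl⟩ := ModCx.cls_surjective _ i x
    rw [conePi_cls, ModCx.homologyMap_cls, cls0 L i j h]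
    refine ⟨-(sndL φ i w.1), ?_⟩
    have hw : ((mappingCone φ).d i j).hom w.1 = 0 := (memZ _ i j h w.1).mp w.2
    have e := snd_d φ i j h w.1
    rw [hw, map_zero] at e
    have e' : (φ.f j).hom (fstL φ i j h w.1) = -(L.d i j).hom (sndL φ i w.1) :=
      eq_neg_of_add_eq_zero_left e.symm
    rw [map_neg]
    exact e'.symm

end coneLES

/-! ### finiteness -/

section fin

variable [IsNoetherianRing A]

lemma finite_X (M : ModuleCat.{u} A) [Module.Finite A M] :
    ∀ (l : List A) (i : ℤ), Module.Finite A ((koszulCx M l).X i)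
  | [], i => by
    by_cases hi : i = 0
    · subst hi
      exact Module.Finite.equiv
        (HomologicalComplex.singleObjXSelf (ComplexShape.up ℤ) (0 : ℤ) M).symm.toLinearEquiv
    · haveI : Subsingleton ((koszulCx M []).X i) :=
        ModuleCat.subsingleton_of_isZero (HomologicalComplex.isZero_single_obj_X _ _ _ _ hi)
      infer_instance
  | f :: l, i => by
    haveI := finite_X M l (i + 1)
    haveI := finite_X M l i
    exact Module.Finite.of_surjective
      (LinearMap.coprod (inlL (f • 𝟙 (koszulCx M l)) i (i + 1) rfl)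
        (inrL (f • 𝟙 (koszulCx M l)) i))
      (fun z => ⟨(fstL _ i (i + 1) rfl z, sndL _ i z), by
        rw [LinearMap.coprod_apply]
        exact (decomp _ i (i + 1) rfl z).symm⟩)

lemma finite_homology_of_finite_X (K : CochainComplex (ModuleCat.{u} A) ℤ) (i : ℤ)
    [Module.Finite A (K.X i)] : Module.Finite A (K.homology i) := by
  haveI : IsNoetherian A (K.X i) := isNoetherian_of_isNoetherianRing_of_finite A _
  exact Module.Finite.of_surjective (ModCx.cls K i) (ModCx.cls_surjective K i)

end fin

/-! ### annihilation -/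

lemma smul_homology_eq_zero_of_mem (M : ModuleCat.{u} A) (l : List A) (y : A)
    (hy : y ∈ Ideal.ofList l) (j : ℤ) (z : (koszulCx M l).homology j) : y • z = 0 := by
  have h := homologyMap_smul_id_eq_zero M l y hy j
  rw [homologyMap_smul, HomologicalComplex.homologyMap_id] at h
  have e := congrArg (fun f => f.hom z) h
  simp only [ModuleCat.hom_smul, ModuleCat.hom_id, LinearMap.smul_apply, LinearMap.id_apply,
    ModuleCat.hom_zero, LinearMap.zero_apply] at e
  exact e

lemma smul_homology_eq_zero_of_ann (M : ModuleCat.{u} A) (l : List A) (a : A)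
    (ha : ∀ m : M, a • m = 0) (j : ℤ) (z : (koszulCx M l).homology j) : a • z = 0 := by
  have h0 : a • 𝟙 M = 0 := by
    apply ModuleCat.hom_ext
    apply LinearMap.ext
    intro m
    simp only [ModuleCat.hom_smul, ModuleCat.hom_id, LinearMap.smul_apply, LinearMap.id_apply,
      ModuleCat.hom_zero, LinearMap.zero_apply]
    exact ha m
  have h1 : a • 𝟙 (koszulCx M l) = 0 := by
    rw [← koszulMap_smul_id, h0, koszulMap_zero]
  have h : HomologicalComplex.homologyMap (a • 𝟙 (koszulCx M l)) j = 0 := by
    rw [h1, HomologicalComplex.homologyMap_zero]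
  rw [homologyMap_smul, HomologicalComplex.homologyMap_id] at h
  have e := congrArg (fun f => f.hom z) h
  simp only [ModuleCat.hom_smul, ModuleCat.hom_id, LinearMap.smul_apply, LinearMap.id_apply,
    ModuleCat.hom_zero, LinearMap.zero_apply] at e
  exact e

lemma subsingleton_homology_of_subsingleton (M : ModuleCat.{u} A) [Subsingleton M] (l : List A)
    (j : ℤ) : Subsingleton ((koszulCx M l).homology j) := by
  refine ⟨fun a b => ?_⟩
  have h : ∀ z : (koszulCx M l).homology j, z = 0 := fun z => by
    have := smul_homology_eq_zero_of_ann M l 1 (fun m => Subsingleton.elim _ _) j z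
    rwa [one_smul] at this
  rw [h a, h b]

lemma chiK_of_subsingleton (l : List A) (M : ModuleCat.{u} A) [Subsingleton M] :
    chiK l M = 0 :=
  chiF_of_subsingleton _ (fun j => subsingleton_homology_of_subsingleton M l j)

lemma subsingleton_homology_of_big (M : ModuleCat.{u} A) (l : List A) (i : ℤ)
    (hi : (l.length : ℤ) < |i|) : Subsingleton ((koszulCx M l).homology i) := by
  apply ModuleCat.subsingleton_of_isZero
  apply isZero_homology_of_isZero_X
  rw [lt_abs] at hi
  rcases hi with h | h
  · exact isZero_koszulCx_X_pos M l i (by omega)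
  · exact isZero_koszulCx_X_neg M l i (by omega)

lemma annihilator_le_of_injective {N M : Type u} [AddCommGroup N] [Module A N] [AddCommGroup M]
    [Module A M] (f : N →ₗ[A] M) (hf : Function.Injective f) :
    Module.annihilator A M ≤ Module.annihilator A N := by
  intro a ha
  rw [Module.mem_annihilator] at ha ⊢
  intro n
  apply hf
  rw [map_smul, ha, map_zero]

lemma annihilator_le_of_surjective {N M : Type u} [AddCommGroup N] [Module A N] [AddCommGroup M]
    [Module A M] (f : M →ₗ[A] N) (hf : Function.Surjective f) :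
    Module.annihilator A M ≤ Module.annihilator A N := by
  intro a ha
  rw [Module.mem_annihilator] at ha ⊢
  intro n
  obtain ⟨m, rfl⟩ := hf n
  rw [← map_smul, ha, map_zero]

/-! ### the finite length condition -/

section good

variable [IsLocalRing A] [IsNoetherianRing A]

/-- `M/IM` has finite length, in annihilator form. -/
def Good (I : Ideal A) (M : Type u) [AddCommGroup M] [Module A M] : Prop :=
  ∃ n : ℕ, IsLocalRing.maximalIdeal A ^ n ≤ I ⊔ Module.annihilator A M

lemma Good.mono {I J : Ideal A} {M : Type u} [AddCommGroup M] [Module A M] (h : Good I M)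
    (hIJ : I ≤ J) : Good J M := by
  obtain ⟨n, hn⟩ := h
  exact ⟨n, hn.trans (sup_le_sup_right hIJ _)⟩

lemma Good.of_ann_le {I : Ideal A} {M N : Type u} [AddCommGroup M] [Module A M] [AddCommGroup N]
    [Module A N] (h : Good I M) (hann : Module.annihilator A M ≤ Module.annihilator A N) :
    Good I N := by
  obtain ⟨n, hn⟩ := h
  exact ⟨n, hn.trans (sup_le_sup_left hann _)⟩

lemma Good.of_le_radical {I J : Ideal A} {M : Type u} [AddCommGroup M] [Module A M]
    (h : Good I M) (hIJ : I ≤ (J ⊔ Module.annihilator A M).radical) : Good J M := by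
  obtain ⟨n, hn⟩ := h
  have h3 : I ⊔ Module.annihilator A M ≤ (J ⊔ Module.annihilator A M).radical :=
    sup_le hIJ (le_sup_right.trans Ideal.le_radical)
  have h1 : IsLocalRing.maximalIdeal A ≤ (J ⊔ Module.annihilator A M).radical := by
    intro a ha
    have h2 : a ^ n ∈ I ⊔ Module.annihilator A M := hn (Ideal.pow_mem_pow ha n)
    exact Ideal.mem_radical_of_pow_mem (h3 h2)
  exact Ideal.exists_pow_le_of_le_radical_of_fg h1 (IsNoetherian.noetherian _)

lemma ofList_le_radical (l : List A) (J : Ideal A) (h : ∀ a ∈ l, ∃ k : ℕ, a ^ k ∈ J) :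
    Ideal.ofList l ≤ J.radical :=
  Ideal.span_le.mpr (fun a ha => h a ha)

theorem good_of_isFiniteLength (I : Ideal A) (M : Type u) [AddCommGroup M] [Module A M]
    [Module.Finite A M] (h : IsFiniteLength A (M ⧸ I • (⊤ : Submodule A M))) : Good I M := by
  obtain ⟨k, hk⟩ := Groth.Agent.Lib.Helper4.StalkDual.kills_of_isFiniteLength _ h
  have hrad : IsLocalRing.maximalIdeal A ≤ (I ⊔ Module.annihilator A M).radical := by
    rw [Ideal.radical_eq_sInf]
    refine le_sInf ?_
    rintro p ⟨hJp, hp⟩
    have hmem : (⟨p, hp⟩ : PrimeSpectrum A) ∈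
        Module.support A (M ⧸ I • (⊤ : Submodule A M)) := by
      rw [Module.support_quotient, Module.support_eq_zeroLocus]
      refine ⟨?_, ?_⟩
      · rw [PrimeSpectrum.mem_zeroLocus]
        exact SetLike.coe_subset_coe.mpr (le_sup_right.trans hJp)
      · rw [PrimeSpectrum.mem_zeroLocus]
        exact SetLike.coe_subset_coe.mpr (le_sup_left.trans hJp)
    have hann := Module.annihilator_le_of_mem_support hmem
    have hpow : IsLocalRing.maximalIdeal A ^ k ≤ p := by
      refine le_trans ?_ hann
      intro r hr
      rw [Module.mem_annihilator]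
      exact hk r hr
    exact hp.le_of_pow_le hpow
  exact Ideal.exists_pow_le_of_le_radical_of_fg hrad (IsNoetherian.noetherian _)

theorem isFiniteLength_of_good_of_killed (I : Ideal A) (M : Type u) [AddCommGroup M] [Module A M]
    (h : Good I M) (H : Type u) [AddCommGroup H] [Module A H] [Module.Finite A H]
    (hI : ∀ a ∈ I, ∀ z : H, a • z = 0) (hM : ∀ a ∈ Module.annihilator A M, ∀ z : H, a • z = 0) :
    IsFiniteLength A H := by
  obtain ⟨n, hn⟩ := h
  refine Groth.Agent.Lib.Helper4.Falt.isFiniteLength_of_finite_of_kills _ ⟨n, fun r hr z => ?_⟩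
  obtain ⟨a, ha, b, hb, rfl⟩ := Submodule.mem_sup.mp (hn hr)
  rw [add_smul, hI a ha z, hM b hb z, add_zero]

theorem isFiniteLength_homology (l : List A) (M : ModuleCat.{u} A) [Module.Finite A M]
    (h : Good (Ideal.ofList l) M) (i : ℤ) :
    IsFiniteLength A ((koszulCx M l).homology i) := by
  haveI := finite_X M l i
  haveI := finite_homology_of_finite_X (koszulCx M l) i
  exact isFiniteLength_of_good_of_killed (Ideal.ofList l) M h _
    (fun a ha z => smul_homology_eq_zero_of_mem M l a ha i z)
    (fun a ha z => smul_homology_eq_zero_of_ann M l a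
      (fun m => Module.mem_annihilator.mp ha m) i z)

lemma Good.quotSMulTop {x : A} {l : List A} {M : Type u} [AddCommGroup M] [Module A M]
    (h : Good (Ideal.ofList (x :: l)) M) : Good (Ideal.ofList l) (QuotSMulTop x M) := by
  obtain ⟨n, hn⟩ := h
  refine ⟨n, hn.trans ?_⟩
  rw [Ideal.ofList_cons]
  refine sup_le (sup_le ?_ le_sup_left) ?_
  · rw [Ideal.span_singleton_le_iff_mem]
    apply Ideal.mem_sup_right
    rw [Module.mem_annihilator]
    intro q
    obtain ⟨m, rfl⟩ := Submodule.Quotient.mk_surjective _ q
    rw [← Submodule.Quotient.mk_smul, Submodule.Quotient.mk_eq_zero]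
    exact Submodule.smul_mem_pointwise_smul m x ⊤ Submodule.mem_top
  · exact le_sup_of_le_right
      (annihilator_le_of_surjective (Submodule.mkQ _) (Submodule.mkQ_surjective _))

lemma Good.of_smul_eq_zero {x : A} {l : List A} {M : Type u} [AddCommGroup M] [Module A M]
    (h : Good (Ideal.ofList (x :: l)) M) (hx : ∀ m : M, x • m = 0) :
    Good (Ideal.ofList l) M := by
  obtain ⟨n, hn⟩ := h
  refine ⟨n, hn.trans ?_⟩
  rw [Ideal.ofList_cons]
  refine sup_le (sup_le ?_ le_sup_left) le_sup_right
  rw [Ideal.span_singleton_le_iff_mem]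
  exact Ideal.mem_sup_right (Module.mem_annihilator.mpr hx)

lemma Good.cons {x : A} {l : List A} {M : Type u} [AddCommGroup M] [Module A M]
    (h : Good (Ideal.ofList l) M) : Good (Ideal.ofList (x :: l)) M :=
  h.mono (by rw [Ideal.ofList_cons]; exact le_sup_right)

/-! ### additivity -/

theorem chiK_add (l : List A) (S0 : ShortComplex (ModuleCat.{u} A)) (hS0 : S0.ShortExact)
    [Module.Finite A S0.X₁] [Module.Finite A S0.X₂] [Module.Finite A S0.X₃]
    (h : Good (Ideal.ofList l) S0.X₂) :
    chiK l S0.X₂ = chiK l S0.X₁ + chiK l S0.X₃ := by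
  have hS := koszul_shortExact S0 hS0 l
  have h1 : Good (Ideal.ofList l) S0.X₁ :=
    h.of_ann_le (annihilator_le_of_injective S0.f.hom
      ((ModuleCat.mono_iff_injective _).mp hS0.mono_f))
  have h3 : Good (Ideal.ofList l) S0.X₃ :=
    h.of_ann_le (annihilator_le_of_surjective S0.g.hom
      ((ModuleCat.epi_iff_surjective _).mp hS0.epi_g))
  exact chi_les (fun i => ((koszulCx S0.X₁ l).homology i : Type u))
    (fun i => ((koszulCx S0.X₂ l).homology i : Type u))
    (fun i => ((koszulCx S0.X₃ l).homology i : Type u))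
    (fun i => (HomologicalComplex.homologyMap (koszulMap S0.f l) i).hom)
    (fun i => (HomologicalComplex.homologyMap (koszulMap S0.g l) i).hom)
    (fun i j hij => (hS.δ i j hij).hom)
    (fun i => (ShortComplex.ShortExact.moduleCat_exact_iff_function_exact _).mp
      (hS.homology_exact₂ i))
    (fun i j hij => (ShortComplex.ShortExact.moduleCat_exact_iff_function_exact _).mp
      (hS.homology_exact₃ i j hij))
    (fun i j hij => (ShortComplex.ShortExact.moduleCat_exact_iff_function_exact _).mp
      (hS.homology_exact₁ i j hij))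
    (fun i => isFiniteLength_homology l S0.X₁ h1 i)
    (fun i => isFiniteLength_homology l S0.X₂ h i)
    (fun i => isFiniteLength_homology l S0.X₃ h3 i)
    l.length
    (fun i hi => subsingleton_homology_of_big S0.X₁ l i hi)
    (fun i hi => subsingleton_homology_of_big S0.X₂ l i hi)
    (fun i hi => subsingleton_homology_of_big S0.X₃ l i hi)

/-- additivity, unbundled form. -/
theorem chiK_add' (l : List A) {N₁ N₂ N₃ : Type u} [AddCommGroup N₁] [Module A N₁]
    [Module.Finite A N₁] [AddCommGroup N₂] [Module A N₂] [Module.Finite A N₂] [AddCommGroup N₃]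
    [Module A N₃] [Module.Finite A N₃] (f : N₁ →ₗ[A] N₂) (g : N₂ →ₗ[A] N₃)
    (hf : Function.Injective f) (hg : Function.Surjective g) (hfg : Function.Exact f g)
    (h : Good (Ideal.ofList l) N₂) :
    chiK l (ModuleCat.of A N₂) = chiK l (ModuleCat.of A N₁) + chiK l (ModuleCat.of A N₃) := by
  have hzero : ModuleCat.ofHom f ≫ ModuleCat.ofHom g = 0 := by
    apply ModuleCat.hom_ext
    apply LinearMap.ext
    intro x
    exact hfg.apply_apply_eq_zero x
  exact chiK_add l (ShortComplex.mk (ModuleCat.ofHom f) (ModuleCat.ofHom g) hzero)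
    (ModuleCat.shortComplex_shortExact _ hfg hf hg) h

/-! ### regular and torsion heads -/

theorem chiK_cons_of_regular (f : A) (M : Type u) [AddCommGroup M] [Module A M]
    (hf : IsSMulRegular M f) (l : List A) :
    chiK (f :: l) (ModuleCat.of A M) = chiK l (ModuleCat.of A (QuotSMulTop f M)) := by
  have hq : QuasiIso (mappingCone.descShortComplex (SK f M l)) :=
    mappingCone.quasiIso_descShortComplex (SK_shortExact f M hf l)
  refine chiF_congr _ _ (fun j => ?_)
  have hiso : IsIso (HomologicalComplex.homologyMap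
      (mappingCone.descShortComplex (SK f M l)) j) :=
    (quasiIsoAt_iff_isIso_homologyMap _ j).mp (hq.quasiIsoAt j)
  exact (@asIso _ _ _ _ (HomologicalComplex.homologyMap
    (mappingCone.descShortComplex (SK f M l)) j) hiso).toLinearEquiv

theorem chiK_cons_eq_zero (y : A) (l : List A) (M : ModuleCat.{u} A) [Module.Finite A M]
    (h : Good (Ideal.ofList l) M) : chiK (y :: l) M = 0 := by
  have hy : Good (Ideal.ofList (y :: l)) M := h.cons
  have key := chi_les (fun i => ((koszulCx M l).homology i : Type u))
    (fun i => ((koszulCx M l).homology i : Type u))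
    (fun i => ((mappingCone (y • 𝟙 (koszulCx M l))).homology i : Type u))
    (fun i => (HomologicalComplex.homologyMap (y • 𝟙 (koszulCx M l)) i).hom)
    (fun i => (HomologicalComplex.homologyMap (mappingCone.inr (y • 𝟙 (koszulCx M l))) i).hom)
    (fun i j hij => conePi (y • 𝟙 (koszulCx M l)) i j hij)
    (fun i => cone_exact_a _ i)
    (fun i j hij => cone_exact_b _ i j hij)
    (fun i j hij => cone_exact_c _ i j hij)
    (fun i => isFiniteLength_homology l M h i)
    (fun i => isFiniteLength_homology l M h i)
    (fun i => isFiniteLength_homology (y :: l) M hy i)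
    (l.length + 1)
    (fun i hi => subsingleton_homology_of_big M l i (by push_cast at hi; omega))
    (fun i hi => subsingleton_homology_of_big M l i (by push_cast at hi; omega))
    (fun i hi => subsingleton_homology_of_big M (y :: l) i (by
      rw [List.length_cons]; exact hi))
  have h0 : chiF A (fun i => ((mappingCone (y • 𝟙 (koszulCx M l))).homology i : Type u)) = 0 := by
    linarith
  exact h0

theorem chiK_cons_eq_zero_of_smul_eq_zero (x : A) (l : List A) (M : ModuleCat.{u} A)
    [Module.Finite A M] (h : Good (Ideal.ofList (x :: l)) M) (hx : ∀ m : M, x • m = 0) :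
    chiK (x :: l) M = 0 :=
  chiK_cons_eq_zero x l M (h.of_smul_eq_zero hx)

end good

end Groth.Agent.Lib.Helper4.KE
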