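import Mathlib
import Groth.Agent.Lib.Helper4.Matlis
import Groth.Agent.S5168

/-!
# The topological dual `colim Hom_{k₀}(A/m^n, k₀)` is an injective hull of the residue field
-/

set_option autoImplicit false

universe u

open IsLocalRing CategoryTheory

namespace Groth.Agent.Lib.Helper4.Matlis

section dual

variable (k₀ : Type u) [Field k₀] (A : Type u) [CommRing A] [Algebra k₀ A]

/-- The coextension module `Hom_{k₀}(A, k₀)`. -/
noncomputable abbrev Dmod : ModuleCat.{u} A :=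
  (ModuleCat.coextendScalars (algebraMap k₀ A)).obj (ModuleCat.of k₀ k₀)

variable {k₀ A}

/-- Evaluation of an element of `Hom_{k₀}(A, k₀)`. -/
noncomputable def ev (ψ : Dmod k₀ A) (x : A) : k₀ :=
  (ModuleCat.CoextendScalars.equiv (algebraMap k₀ A) (ModuleCat.of k₀ k₀) ψ) x

lemma ev_add (ψ : Dmod k₀ A) (x y : A) : ev ψ (x + y) = ev ψ x + ev ψ y :=
  map_add (ModuleCat.CoextendScalars.equiv (algebraMap k₀ A) (ModuleCat.of k₀ k₀) ψ) x y

lemma ev_algebraMap_mul (ψ : Dmod k₀ A) (r : k₀) (x : A) :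
    ev ψ (algebraMap k₀ A r * x) = r * ev ψ x :=
  (ModuleCat.CoextendScalars.equiv (algebraMap k₀ A) (ModuleCat.of k₀ k₀) ψ).map_smul r x

lemma ev_smul (a : A) (ψ : Dmod k₀ A) (x : A) : ev (a • ψ) x = ev ψ (x * a) := rfl

lemma ev_ext {ψ ψ' : Dmod k₀ A} (h : ∀ x, ev ψ x = ev ψ' x) : ψ = ψ' :=
  ModuleCat.CoextendScalars.ext (LinearMap.ext h)

lemma ev_zero (x : A) : ev (0 : Dmod k₀ A) x = 0 := rfl

/-- As a `k₀`-linear functional with respect to the algebra structure. -/
noncomputable def ofD (ψ : Dmod k₀ A) : A →ₗ[k₀] k₀ where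
  toFun := ev ψ
  map_add' := ev_add ψ
  map_smul' r x := by
    rw [Algebra.smul_def, ev_algebraMap_mul]
    rfl

lemma ofD_apply (ψ : Dmod k₀ A) (x : A) : ofD ψ x = ev ψ x := rfl

/-- From a `k₀`-linear functional. -/
noncomputable def toD (φ : A →ₗ[k₀] k₀) : Dmod k₀ A :=
  (ModuleCat.CoextendScalars.equiv (algebraMap k₀ A) (ModuleCat.of k₀ k₀)).symm
    { toFun := fun x : A => φ x
      map_add' := fun x y : A => φ.map_add x y
      map_smul' := fun r (x : A) => by
        change φ (algebraMap k₀ A r * x) = r • φ x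
        rw [← Algebra.smul_def, map_smul] }

lemma ev_toD (φ : A →ₗ[k₀] k₀) (x : A) : ev (toD φ) x = φ x := rfl

theorem injective_Dmod : Module.Injective A (Dmod k₀ A) := by
  have : Module.Injective k₀ k₀ := Module.injective_of_isSemisimpleRing k₀ k₀
  have : Injective (ModuleCat.of k₀ k₀) := Module.injective_object_of_injective_module k₀ k₀
  have : Injective (Dmod k₀ A) :=
    Injective.injective_of_adjoint (ModuleCat.restrictCoextendScalarsAdj (algebraMap k₀ A)) _
  exact Module.injective_module_of_injective_object A (Dmod k₀ A)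

variable [IsLocalRing A]

theorem exists_socle_generator [Module.Finite k₀ (A ⧸ maximalIdeal A)] :
    ∃ ψ₀ : Dmod k₀ A, ψ₀ ≠ 0 ∧ (∀ a ∈ maximalIdeal A, a • ψ₀ = 0) ∧
      ∀ ψ : Dmod k₀ A, (∀ a ∈ maximalIdeal A, a • ψ = 0) → ∃ a : A, ψ = a • ψ₀ := by
  classical
  have hfin : Module.Finite k₀ (ResidueField A) := ‹Module.Finite k₀ (A ⧸ maximalIdeal A)›
  obtain ⟨mkl, hmkl⟩ : ∃ mkl : A →ₗ[k₀] ResidueField A,
      mkl = (IsScalarTower.toAlgHom k₀ A (ResidueField A)).toLinearMap := ⟨_, rfl⟩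
  have hmk : ∀ x : A, mkl x = residue A x := by intro x; rw [hmkl]; rfl
  obtain ⟨l₀, hl₀⟩ := Module.Projective.exists_dual_ne_zero k₀
    (one_ne_zero : (1 : ResidueField A) ≠ 0)
  obtain ⟨Θ, hΘdef⟩ : ∃ Θ : ResidueField A →ₗ[k₀] Module.Dual k₀ (ResidueField A),
      Θ = (LinearMap.mul k₀ (ResidueField A)).compr₂ l₀ := ⟨_, rfl⟩
  have hΘ : ∀ c x : ResidueField A, Θ c x = l₀ (c * x) := by
    intro c x; rw [hΘdef]; rfl
  have hΘinj : Function.Injective Θ := by
    rw [injective_iff_map_eq_zero]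
    intro c hc
    by_contra hc0
    apply hl₀
    have h1 := hΘ c c⁻¹
    rw [hc, mul_inv_cancel₀ hc0] at h1
    exact h1.symm
  have hΘsurj : Function.Surjective Θ :=
    (LinearMap.injective_iff_surjective_of_finrank_eq_finrank
      (Subspace.dual_finrank_eq (K := k₀) (V := ResidueField A)).symm).mp hΘinj
  have hmksurj : LinearMap.range mkl = ⊤ := by
    rw [LinearMap.range_eq_top]
    intro c
    obtain ⟨x, rfl⟩ := residue_surjective c
    exact ⟨x, hmk x⟩
  obtain ⟨sec, hsec⟩ := mkl.exists_rightInverse_of_surjective hmksurj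
  have hsec' : ∀ c : ResidueField A, mkl (sec c) = c := fun c => LinearMap.congr_fun hsec c
  refine ⟨toD (l₀ ∘ₗ mkl), ?_, ?_, ?_⟩
  · intro h0
    apply hl₀
    have h1 : ev (toD (l₀ ∘ₗ mkl)) 1 = 0 := by rw [h0, ev_zero]
    rw [ev_toD, LinearMap.comp_apply, hmk, map_one] at h1
    exact h1
  · intro a ha
    refine ev_ext fun x => ?_
    rw [ev_smul, ev_toD, LinearMap.comp_apply, hmk, ev_zero,
      (residue_eq_zero_iff (x * a)).mpr (Ideal.mul_mem_left _ _ ha), map_zero]
  · intro ψ hψ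
    have hvan : ∀ a ∈ maximalIdeal A, ev ψ a = 0 := by
      intro a ha
      have h1 : ev (a • ψ) 1 = 0 := by rw [hψ a ha, ev_zero]
      rwa [ev_smul, one_mul] at h1
    obtain ⟨c, hc⟩ := hΘsurj ((ofD ψ) ∘ₗ sec)
    obtain ⟨a, rfl⟩ := residue_surjective c
    refine ⟨a, ev_ext fun x => ?_⟩
    have h1 : ev ψ x = ev ψ (sec (mkl x)) := by
      have h2 : x - sec (mkl x) ∈ maximalIdeal A := by
        rw [← residue_eq_zero_iff, map_sub, ← hmk, ← hmk, hsec', sub_self]
      have h3 := hvan _ h2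
      have h4 : ev ψ x = ev ψ (x - sec (mkl x)) + ev ψ (sec (mkl x)) := by
        rw [← ev_add, sub_add_cancel]
      rw [h4, h3, zero_add]
    have h5 : ev ψ (sec (mkl x)) = Θ (residue A a) (mkl x) := by
      rw [hc]; rfl
    rw [h1, h5, hΘ, ev_smul, ev_toD, LinearMap.comp_apply, hmk, hmk, ← map_mul, mul_comm]

end dual

end Groth.Agent.Lib.Helper4.Matlis
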