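import Mathlib

/-!
# Torsion in the cokernel of a connected symmetric integer matrix (graph Laplacian bound)
-/

set_option autoImplicit false
set_option linter.style.haveILetI false
set_option linter.unusedSectionVars false
set_option linter.unusedVariables false
set_option linter.unusedSimpArgs false
set_option maxHeartbeats 1600000

namespace Groth.Agent.Lib.Helper4.GraphTor

open Finset

noncomputable section

variable {n : ℕ} (A : Matrix (Fin n) (Fin n) ℤ) (ℓ : ℕ)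

/-- reduction mod `ℓ` -/
def red (y : Fin n → ℤ) : Fin n → ZMod ℓ := fun i => (y i : ZMod ℓ)

/-- the kernel of `A` mod `ℓ` -/
def KK [Fact ℓ.Prime] : Submodule (ZMod ℓ) (Fin n → ZMod ℓ) :=
  LinearMap.ker (Matrix.mulVecLin (A.map (Int.cast : ℤ → ZMod ℓ)))

lemma mem_KK_iff [Fact ℓ.Prime] (v : Fin n → ZMod ℓ) :
    v ∈ KK A ℓ ↔ ∀ i, ∑ j, (A i j : ZMod ℓ) * v j = 0 := by
  unfold KK
  rw [LinearMap.mem_ker, Matrix.mulVecLin_apply]
  constructor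
  · intro h i; exact congrFun h i
  · intro h; funext i; exact h i

lemma red_mulVec [Fact ℓ.Prime] (y : Fin n → ℤ) (i : Fin n) :
    ∑ j, (A i j : ZMod ℓ) * red ℓ y j = ((A.mulVec y i : ℤ) : ZMod ℓ) := by
  have : A.mulVec y i = ∑ j, A i j * y j := rfl
  rw [this, Int.cast_sum]
  apply Finset.sum_congr rfl
  intro j _
  rw [Int.cast_mul]; rfl

lemma red_mem_KK [Fact ℓ.Prime] (y x : Fin n → ℤ) (h : A.mulVec y = (ℓ : ℤ) • x) :
    red ℓ y ∈ KK A ℓ := by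
  rw [mem_KK_iff]; intro i
  rw [red_mulVec, h, Pi.smul_apply, smul_eq_mul, Int.cast_mul, Int.cast_natCast,
    ZMod.natCast_self, zero_mul]

lemma red_eq_zero [Fact ℓ.Prime] (v : Fin n → ℤ) (h : red ℓ v = 0) :
    ∃ w : Fin n → ℤ, v = (ℓ : ℤ) • w := by
  have h1 : ∀ i, (ℓ : ℤ) ∣ v i := by
    intro i
    have := congrFun h i
    exact (ZMod.intCast_zmod_eq_zero_iff_dvd (v i) ℓ).mp this
  choose w hw using h1
  exact ⟨w, funext fun i => by rw [Pi.smul_apply, smul_eq_mul]; exact hw i⟩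

/-- the cokernel -/
abbrev QQ := (Fin n → ℤ) ⧸ LinearMap.range (Matrix.mulVecLin A)

/-- its `ℓ`-torsion -/
abbrev TT := Submodule.torsionBy ℤ (QQ A) (ℓ : ℤ)

lemma exists_rep (t : TT A ℓ) : ∃ p : (Fin n → ℤ) × (Fin n → ℤ),
    Submodule.Quotient.mk p.1 = (t : QQ A) ∧ A.mulVec p.2 = (ℓ : ℤ) • p.1 := by
  obtain ⟨x, hx⟩ := Submodule.Quotient.mk_surjective _ (t : QQ A)
  have ht := t.2
  rw [Submodule.mem_torsionBy_iff, ← hx, ← Submodule.Quotient.mk_smul,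
    Submodule.Quotient.mk_eq_zero, LinearMap.mem_range] at ht
  obtain ⟨y, hy⟩ := ht
  exact ⟨(x, y), hx, hy⟩

/-- chosen representatives -/
def rep (t : TT A ℓ) : (Fin n → ℤ) × (Fin n → ℤ) := Classical.choose (exists_rep A ℓ t)

lemma rep_spec (t : TT A ℓ) :
    Submodule.Quotient.mk (rep A ℓ t).1 = (t : QQ A) ∧
      A.mulVec (rep A ℓ t).2 = (ℓ : ℤ) • (rep A ℓ t).1 :=
  Classical.choose_spec (exists_rep A ℓ t)

/-- the injection -/
def iota [Fact ℓ.Prime] (m : Fin n → ℤ) (hAm : A.mulVec m = 0) :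
    TT A ℓ × ZMod ℓ → KK A ℓ := fun q =>
  ⟨red ℓ (rep A ℓ q.1).2 + q.2 • red ℓ m,
    (KK A ℓ).add_mem (red_mem_KK A ℓ _ _ (rep_spec A ℓ q.1).2)
      ((KK A ℓ).smul_mem _ (red_mem_KK A ℓ m 0 (by rw [hAm, smul_zero])))⟩

lemma iota_inj [Fact ℓ.Prime] (m : Fin n → ℤ) (hAm : A.mulVec m = 0) (i₀ : Fin n)
    (hm0 : (m i₀ : ZMod ℓ) ≠ 0) : Function.Injective (iota A ℓ m hAm) := by
  rintro ⟨t₁, c₁⟩ ⟨t₂, c₂⟩ h
  have h' : red ℓ (rep A ℓ t₁).2 + c₁ • red ℓ m = red ℓ (rep A ℓ t₂).2 + c₂ • red ℓ m :=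
    congrArg Subtype.val h
  obtain ⟨hx₁, hy₁⟩ := rep_spec A ℓ t₁
  obtain ⟨hx₂, hy₂⟩ := rep_spec A ℓ t₂
  obtain ⟨p₁, hp₁⟩ : ∃ p, p = rep A ℓ t₁ := ⟨_, rfl⟩
  obtain ⟨p₂, hp₂⟩ : ∃ p, p = rep A ℓ t₂ := ⟨_, rfl⟩
  rw [← hp₁] at h' hx₁ hy₁
  rw [← hp₂] at h' hx₂ hy₂
  obtain ⟨d, hd⟩ := ZMod.intCast_surjective (c₂ - c₁)
  have hred : red ℓ (p₁.2 - p₂.2 - d • m) = 0 := by
    funext i
    have hi := congrFun h' i
    simp only [Pi.add_apply, Pi.smul_apply, smul_eq_mul, red] at hi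
    show (((p₁.2 - p₂.2 - d • m) i : ℤ) : ZMod ℓ) = 0
    rw [Pi.sub_apply, Pi.sub_apply, Pi.smul_apply, smul_eq_mul, Int.cast_sub, Int.cast_sub,
      Int.cast_mul, hd]
    linear_combination hi
  obtain ⟨w, hw⟩ := red_eq_zero ℓ _ hred
  have hAw : A.mulVec w = p₁.1 - p₂.1 := by
    have h3 := congrArg A.mulVec hw
    rw [Matrix.mulVec_sub, Matrix.mulVec_sub, Matrix.mulVec_smul, Matrix.mulVec_smul, hAm,
      smul_zero, sub_zero, hy₁, hy₂] at h3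
    funext i
    have h4 := congrFun h3 i
    simp only [Pi.sub_apply, Pi.smul_apply, smul_eq_mul] at h4
    have hℓ0 : (ℓ : ℤ) ≠ 0 := by exact_mod_cast (Fact.out : ℓ.Prime).ne_zero
    apply mul_left_cancel₀ hℓ0
    rw [Pi.sub_apply]; linarith
  have ht : t₁ = t₂ := by
    apply Subtype.ext
    rw [← hx₁, ← hx₂, Submodule.Quotient.eq, ← hAw]
    exact LinearMap.mem_range_self _ w
  subst ht
  have hpp : p₁ = p₂ := hp₁.trans hp₂.symm
  rw [hpp] at h'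
  have hc : c₁ = c₂ := by
    have hi := congrFun h' i₀
    simp only [Pi.add_apply, Pi.smul_apply, smul_eq_mul, red] at hi
    have : (c₁ - c₂) * (m i₀ : ZMod ℓ) = 0 := by linear_combination hi
    rcases mul_eq_zero.mp this with h5 | h5
    · exact sub_eq_zero.mp h5
    · exact absurd h5 hm0
  rw [hc]

/-! ### the dimension bound -/

lemma sum_split {M : Type*} [AddCommMonoid M] (G : Fin n × Fin n → M) :
    ∑ p, G p = ∑ p ∈ univ.filter (fun p : Fin n × Fin n => p.1 < p.2), (G p + G p.swap) +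
      ∑ i, G (i, i) := by
  have h : ∀ p : Fin n × Fin n, G p = (if p.1 < p.2 then G p else 0) +
      (if p.2 < p.1 then G p else 0) + (if p.1 = p.2 then G p else 0) := by
    intro p
    rcases lt_trichotomy p.1 p.2 with h | h | h
    · rw [if_pos h, if_neg (lt_asymm h), if_neg (ne_of_lt h), add_zero, add_zero]
    · rw [if_neg (by rw [h]; exact lt_irrefl _), if_neg (by rw [h]; exact lt_irrefl _),
        if_pos h, zero_add, zero_add]
    · rw [if_neg (lt_asymm h), if_pos h, if_neg (ne_of_lt h).symm, zero_add, add_zero]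
  have h1 : ∑ p, G p = ∑ p : Fin n × Fin n, ((if p.1 < p.2 then G p else 0) +
      (if p.2 < p.1 then G p else 0) + (if p.1 = p.2 then G p else 0)) :=
    Finset.sum_congr rfl (fun p _ => h p)
  rw [h1, Finset.sum_add_distrib, Finset.sum_add_distrib, ← Finset.sum_filter,
    ← Finset.sum_filter, ← Finset.sum_filter]
  have h2 : ∑ p ∈ univ.filter (fun p : Fin n × Fin n => p.2 < p.1), G p =
      ∑ p ∈ univ.filter (fun p : Fin n × Fin n => p.1 < p.2), G p.swap := by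
    apply Finset.sum_nbij' Prod.swap Prod.swap
    · intro p hp; rw [mem_filter] at hp ⊢; exact ⟨mem_univ _, hp.2⟩
    · intro p hp; rw [mem_filter] at hp ⊢; exact ⟨mem_univ _, hp.2⟩
    · intro p _; exact Prod.swap_swap p
    · intro p _; exact Prod.swap_swap p
    · intro p _; rw [Prod.swap_swap]
  have h3 : ∑ p ∈ univ.filter (fun p : Fin n × Fin n => p.1 = p.2), G p = ∑ i, G (i, i) := by
    symm
    apply Finset.sum_nbij' (fun i => (i, i)) (fun p => p.1)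
    · intro i _; rw [mem_filter]; exact ⟨mem_univ _, rfl⟩
    · intro p _; exact mem_univ _
    · intro i _; rfl
    · intro p hp; rw [mem_filter] at hp; exact Prod.ext rfl hp.2
    · intro i _; rfl
  rw [h2, h3, Finset.sum_add_distrib]

/-- the edge set -/
def EE : Finset (Fin n × Fin n) :=
  univ.filter fun p : Fin n × Fin n => p.1 < p.2 ∧ 0 < A p.1 p.2

lemma mem_EE (p : Fin n × Fin n) : p ∈ EE A ↔ p.1 < p.2 ∧ 0 < A p.1 p.2 := by
  unfold EE; rw [mem_filter]; exact ⟨fun h => h.2, fun h => ⟨mem_univ _, h⟩⟩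

lemma const_of_ker {α : Type*} (hsymm : A.IsSymm) (hA : ∀ i j, i ≠ j → 0 ≤ A i j)
    (hconn : ∀ I : Finset (Fin n), I.Nonempty → I ≠ univ → ∃ i ∈ I, ∃ j ∉ I, A i j ≠ 0)
    (z : Fin n → α) (hz : ∀ p ∈ EE A, z p.2 = z p.1) (i₀ i : Fin n) : z i = z i₀ := by
  classical
  by_contra hne
  have hI : (univ.filter (fun j => z j = z i₀)).Nonempty :=
    ⟨i₀, by rw [mem_filter]; exact ⟨mem_univ _, rfl⟩⟩
  have hIne : univ.filter (fun j => z j = z i₀) ≠ univ := by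
    intro h
    have : i ∈ univ.filter (fun j => z j = z i₀) := by rw [h]; exact mem_univ i
    rw [mem_filter] at this
    exact hne this.2
  obtain ⟨a, ha, b, hb, hab⟩ := hconn _ hI hIne
  rw [mem_filter] at ha hb
  have hza : z a = z i₀ := ha.2
  have hzb : z b ≠ z i₀ := fun h => hb ⟨mem_univ _, h⟩
  have hne' : a ≠ b := by rintro rfl; exact hzb hza
  have hpos : 0 < A a b := lt_of_le_of_ne (hA a b hne') (Ne.symm hab)
  rcases lt_or_gt_of_ne hne' with h | h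
  · have := hz (a, b) ((mem_EE A (a, b)).mpr ⟨h, hpos⟩)
    exact hzb (this.trans hza)
  · have hpos' : 0 < A b a := by rw [← hsymm.apply b a]; exact hpos
    have := hz (b, a) ((mem_EE A (b, a)).mpr ⟨h, hpos'⟩)
    exact hzb (this.symm.trans hza)

section dim

variable [Fact ℓ.Prime] (m : Fin n → ℤ)

/-- the incidence map -/
def DD : (Fin n → ZMod ℓ) →ₗ[ZMod ℓ] (↥(EE A) → ZMod ℓ) :=
  LinearMap.pi fun e =>
    (LinearMap.proj (R := ZMod ℓ) (φ := fun _ : Fin n => ZMod ℓ) e.1.2 -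
      LinearMap.proj (R := ZMod ℓ) (φ := fun _ : Fin n => ZMod ℓ) e.1.1)

lemma DD_apply (z : Fin n → ZMod ℓ) (e : ↥(EE A)) : DD A ℓ z e = z e.1.2 - z e.1.1 := rfl

/-- division by `m` -/
def zmap : (Fin n → ZMod ℓ) →ₗ[ZMod ℓ] (Fin n → ZMod ℓ) :=
  LinearMap.pi fun i => ((m i : ZMod ℓ)⁻¹) • LinearMap.proj i

lemma zmap_apply (v : Fin n → ZMod ℓ) (i : Fin n) :
    zmap ℓ m v i = (m i : ZMod ℓ)⁻¹ * v i := rfl

/-- edge weights -/
def cw (e : ↥(EE A)) : ZMod ℓ :=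
  (A e.1.1 e.1.2 : ZMod ℓ) * (m e.1.1 : ZMod ℓ) * (m e.1.2 : ZMod ℓ)

/-- scaling by weights -/
def Cmul : (↥(EE A) → ZMod ℓ) →ₗ[ZMod ℓ] (↥(EE A) → ZMod ℓ) :=
  LinearMap.pi fun e => (cw A ℓ m e) • LinearMap.proj e

lemma Cmul_apply (t : ↥(EE A) → ZMod ℓ) (e : ↥(EE A)) :
    Cmul A ℓ m t e = cw A ℓ m e * t e := rfl

/-- the pairing map -/
def Theta : (Fin n → ZMod ℓ) →ₗ[ZMod ℓ] Module.Dual (ZMod ℓ) (↥(EE A) → ZMod ℓ) :=
  (Module.piEquiv ↥(EE A) (ZMod ℓ) (ZMod ℓ)).toLinearMap ∘ₗ Cmul A ℓ m ∘ₗ DD A ℓ ∘ₗ zmap ℓ m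

lemma Theta_eq (v : Fin n → ZMod ℓ) :
    Theta A ℓ m v =
      Module.piEquiv ↥(EE A) (ZMod ℓ) (ZMod ℓ) (Cmul A ℓ m (DD A ℓ (zmap ℓ m v))) := rfl

lemma Theta_apply (v : Fin n → ZMod ℓ) (t : ↥(EE A) → ZMod ℓ) :
    Theta A ℓ m v t = ∑ e : ↥(EE A),
      t e * (cw A ℓ m e * (zmap ℓ m v e.1.2 - zmap ℓ m v e.1.1)) := by
  rw [Theta_eq, Module.piEquiv_apply_apply]
  simp only [smul_eq_mul, Cmul_apply, DD_apply]

lemma cw_ne_zero (hℓA : ∀ i j, A i j ≠ 0 → ¬ ((ℓ : ℤ) ∣ A i j))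
    (hm0 : ∀ i, (m i : ZMod ℓ) ≠ 0) (e : ↥(EE A)) : cw A ℓ m e ≠ 0 := by
  have he := (mem_EE A e.1).mp e.2
  have h1 : (A e.1.1 e.1.2 : ZMod ℓ) ≠ 0 := by
    rw [ne_eq, ZMod.intCast_zmod_eq_zero_iff_dvd]
    exact hℓA _ _ he.2.ne'
  exact mul_ne_zero (mul_ne_zero h1 (hm0 _)) (hm0 _)

lemma key_identity (hsymm : A.IsSymm) (hA : ∀ i j, i ≠ j → 0 ≤ A i j)
    (hm0 : ∀ i, (m i : ZMod ℓ) ≠ 0) (hmK : red ℓ m ∈ KK A ℓ)
    (v : Fin n → ZMod ℓ) (hv : v ∈ KK A ℓ) (w : Fin n → ZMod ℓ) :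
    ∑ e : ↥(EE A), (w e.1.2 - w e.1.1) *
      (cw A ℓ m e * (zmap ℓ m v e.1.2 - zmap ℓ m v e.1.1)) = 0 := by
  obtain ⟨z, hz⟩ : ∃ z, z = zmap ℓ m v := ⟨_, rfl⟩
  rw [← hz]
  have hvz : ∀ j, v j = (m j : ZMod ℓ) * z j := by
    intro j; rw [hz, zmap_apply, ← mul_assoc, mul_inv_cancel₀ (hm0 j), one_mul]
  obtain ⟨G, hG⟩ : ∃ G : Fin n × Fin n → ZMod ℓ, G = fun p =>
      (A p.1 p.2 : ZMod ℓ) * (m p.1 : ZMod ℓ) * (m p.2 : ZMod ℓ) * (z p.2 - z p.1) * w p.1 :=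
    ⟨_, rfl⟩
  have hG0 : ∑ p, G p = 0 := by
    rw [Fintype.sum_prod_type]
    apply Finset.sum_eq_zero
    intro i _
    have e1 := (mem_KK_iff A ℓ v).mp hv i
    have e2 := (mem_KK_iff A ℓ _).mp hmK i
    have : ∑ j, G (i, j) = (m i : ZMod ℓ) * w i * (∑ j, (A i j : ZMod ℓ) * v j) -
        (m i : ZMod ℓ) * w i * z i * (∑ j, (A i j : ZMod ℓ) * red ℓ m j) := by
      rw [Finset.mul_sum, Finset.mul_sum, ← Finset.sum_sub_distrib]
      apply Finset.sum_congr rfl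
      intro j _
      rw [hG, hvz j]
      show (A i j : ZMod ℓ) * (m i : ZMod ℓ) * (m j : ZMod ℓ) * (z j - z i) * w i =
        (m i : ZMod ℓ) * w i * ((A i j : ZMod ℓ) * ((m j : ZMod ℓ) * z j)) -
          (m i : ZMod ℓ) * w i * z i * ((A i j : ZMod ℓ) * (m j : ZMod ℓ))
      ring
    rw [this, e1, e2, mul_zero, mul_zero, sub_zero]
  rw [sum_split] at hG0
  have hdiag : ∑ i, G (i, i) = 0 := by
    apply Finset.sum_eq_zero
    intro i _
    rw [hG]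
    show (A i i : ZMod ℓ) * (m i : ZMod ℓ) * (m i : ZMod ℓ) * (z i - z i) * w i = 0
    rw [sub_self, mul_zero, zero_mul]
  rw [hdiag, add_zero] at hG0
  have hpair : ∀ p : Fin n × Fin n, G p + G p.swap = -((w p.2 - w p.1) *
      ((A p.1 p.2 : ZMod ℓ) * (m p.1 : ZMod ℓ) * (m p.2 : ZMod ℓ) * (z p.2 - z p.1))) := by
    intro p
    have hs : (A p.2 p.1 : ZMod ℓ) = (A p.1 p.2 : ZMod ℓ) := by rw [hsymm.apply p.1 p.2]
    rw [hG]
    show (A p.1 p.2 : ZMod ℓ) * (m p.1 : ZMod ℓ) * (m p.2 : ZMod ℓ) * (z p.2 - z p.1) * w p.1 +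
      (A p.2 p.1 : ZMod ℓ) * (m p.2 : ZMod ℓ) * (m p.1 : ZMod ℓ) * (z p.1 - z p.2) * w p.2 = _
    rw [hs]; ring
  rw [Finset.sum_congr rfl (fun p _ => hpair p), Finset.sum_neg_distrib, neg_eq_zero] at hG0
  have hsub : ∑ p ∈ EE A, (w p.2 - w p.1) *
      ((A p.1 p.2 : ZMod ℓ) * (m p.1 : ZMod ℓ) * (m p.2 : ZMod ℓ) * (z p.2 - z p.1)) =
      ∑ p ∈ univ.filter (fun p : Fin n × Fin n => p.1 < p.2), (w p.2 - w p.1) *
      ((A p.1 p.2 : ZMod ℓ) * (m p.1 : ZMod ℓ) * (m p.2 : ZMod ℓ) * (z p.2 - z p.1)) := by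
    apply Finset.sum_subset
    · intro p hp; rw [mem_EE] at hp; rw [mem_filter]; exact ⟨mem_univ _, hp.1⟩
    · intro p hp hnp
      rw [mem_filter] at hp
      have hA0 : A p.1 p.2 = 0 := by
        have h1 := hA p.1 p.2 (ne_of_lt hp.2)
        have h2 : ¬ 0 < A p.1 p.2 := fun h => hnp ((mem_EE A p).mpr ⟨hp.2, h⟩)
        omega
      rw [hA0, Int.cast_zero, zero_mul, zero_mul, zero_mul, mul_zero]
  rw [← Finset.sum_coe_sort (EE A)] at hsub
  show ∑ e : ↥(EE A), (w e.1.2 - w e.1.1) *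
      ((A e.1.1 e.1.2 : ZMod ℓ) * (m e.1.1 : ZMod ℓ) * (m e.1.2 : ZMod ℓ) *
        (z e.1.2 - z e.1.1)) = 0
  rw [hsub]
  exact hG0

theorem finrank_KK_le (hsymm : A.IsSymm) (hA : ∀ i j, i ≠ j → 0 ≤ A i j)
    (hconn : ∀ I : Finset (Fin n), I.Nonempty → I ≠ univ → ∃ i ∈ I, ∃ j ∉ I, A i j ≠ 0)
    (hℓA : ∀ i j, A i j ≠ 0 → ¬ ((ℓ : ℤ) ∣ A i j))
    (hm0 : ∀ i, (m i : ZMod ℓ) ≠ 0) (hmK : red ℓ m ∈ KK A ℓ) (i₀ : Fin n) :
    Module.finrank (ZMod ℓ) (KK A ℓ) + n ≤ (EE A).card + 2 := by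
  have hconst : ∀ z : Fin n → ZMod ℓ, DD A ℓ z = 0 → ∀ i, z i = z i₀ := by
    intro z hz i
    apply const_of_ker A hsymm hA hconn z _ i₀ i
    intro p hp
    have := congrFun hz ⟨p, hp⟩
    rw [DD_apply] at this
    exact sub_eq_zero.mp this
  have hkerD : Module.finrank (ZMod ℓ) (LinearMap.ker (DD A ℓ)) ≤ 1 := by
    have hinj : Function.Injective
        ((LinearMap.proj i₀ : (Fin n → ZMod ℓ) →ₗ[ZMod ℓ] ZMod ℓ).domRestrict
          (LinearMap.ker (DD A ℓ))) := by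
      rw [injective_iff_map_eq_zero]
      intro z hz
      have hz0 : z.1 i₀ = 0 := hz
      apply Subtype.ext
      funext i
      rw [hconst z.1 (LinearMap.mem_ker.mp z.2) i, hz0]; rfl
    have := LinearMap.finrank_le_finrank_of_injective hinj
    rwa [Module.finrank_self] at this
  have hrn := LinearMap.finrank_range_add_finrank_ker (DD A ℓ)
  rw [Module.finrank_fin_fun] at hrn
  have hann := Subspace.finrank_add_finrank_dualAnnihilator_eq (LinearMap.range (DD A ℓ))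
  rw [Module.finrank_fintype_fun_eq_card, Fintype.card_coe] at hann
  have hTh : ∀ v ∈ KK A ℓ,
      Theta A ℓ m v ∈ (LinearMap.range (DD A ℓ)).dualAnnihilator := by
    intro v hv
    rw [Submodule.mem_dualAnnihilator]
    rintro _ ⟨w, rfl⟩
    rw [Theta_apply]
    simp only [DD_apply]
    exact key_identity A ℓ m hsymm hA hm0 hmK v hv w
  have hXi : Function.Injective (LinearMap.prod
      (((Theta A ℓ m).domRestrict (KK A ℓ)).codRestrict _ (fun v => hTh v.1 v.2))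
      ((LinearMap.proj i₀ ∘ₗ zmap ℓ m).domRestrict (KK A ℓ))) := by
    rw [injective_iff_map_eq_zero]
    intro v hv
    have h1 : Theta A ℓ m v.1 = 0 := congrArg Subtype.val (congrArg Prod.fst hv)
    have h2 : zmap ℓ m v.1 i₀ = 0 := congrArg Prod.snd hv
    rw [Theta_eq] at h1
    have h3 : Cmul A ℓ m (DD A ℓ (zmap ℓ m v.1)) = 0 :=
      (LinearEquiv.map_eq_zero_iff _).mp h1
    have h4 : DD A ℓ (zmap ℓ m v.1) = 0 := by
      funext e
      have h5 := congrFun h3 e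
      rw [Cmul_apply] at h5
      rcases mul_eq_zero.mp h5 with h6 | h6
      · exact absurd h6 (cw_ne_zero A ℓ m hℓA hm0 e)
      · exact h6
    have h7 : ∀ i, zmap ℓ m v.1 i = 0 := fun i => by rw [hconst _ h4 i, h2]
    apply Subtype.ext
    funext i
    have := h7 i
    rw [zmap_apply] at this
    rcases mul_eq_zero.mp this with h8 | h8
    · exact absurd (inv_eq_zero.mp h8) (hm0 i)
    · exact h8
  have hle := LinearMap.finrank_le_finrank_of_injective hXi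
  haveI hfree : Module.Free (ZMod ℓ) ↥((LinearMap.range (DD A ℓ)).dualAnnihilator) :=
    Module.Free.of_divisionRing _ _
  rw [Module.finrank_prod, Module.finrank_self] at hle
  omega

end dim

theorem graph_tor (m : Fin n → ℤ) (hsymm : A.IsSymm) (hA : ∀ i j, i ≠ j → 0 ≤ A i j)
    (hm : ∀ i, 0 < m i) (hAm : A.mulVec m = 0)
    (hconn : ∀ I : Finset (Fin n), I.Nonempty → I ≠ univ → ∃ i ∈ I, ∃ j ∉ I, A i j ≠ 0)
    (hℓ : ℓ.Prime) (hℓA : ∀ i j, A i j ≠ 0 → ¬ ((ℓ : ℤ) ∣ A i j))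
    (hℓm : ∀ i, ¬ ((ℓ : ℤ) ∣ m i)) :
    Nat.card (Submodule.torsionBy ℤ ((Fin n → ℤ) ⧸ LinearMap.range (Matrix.mulVecLin A)) (ℓ : ℤ))
      ≤ ℓ ^ ((univ.filter fun p : Fin n × Fin n => p.1 < p.2 ∧ 0 < A p.1 p.2).card + 1 - n) := by
  haveI : Fact ℓ.Prime := ⟨hℓ⟩
  rcases Nat.eq_zero_or_pos n with hn0 | hnpos
  · subst hn0
    have hsub : Subsingleton (TT A ℓ) := by
      constructor
      intro t₁ t₂
      apply Subtype.ext
      obtain ⟨x₁, hx₁⟩ := Submodule.Quotient.mk_surjective _ (t₁ : QQ A)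
      obtain ⟨x₂, hx₂⟩ := Submodule.Quotient.mk_surjective _ (t₂ : QQ A)
      rw [← hx₁, ← hx₂, Subsingleton.elim x₁ x₂]
    rw [Nat.card_of_subsingleton (0 : TT A ℓ)]
    exact Nat.one_le_pow _ _ hℓ.pos
  · have i₀ : Fin n := ⟨0, hnpos⟩
    have hm0 : ∀ i, (m i : ZMod ℓ) ≠ 0 := by
      intro i; rw [ne_eq, ZMod.intCast_zmod_eq_zero_iff_dvd]; exact hℓm i
    have hmK : red ℓ m ∈ KK A ℓ := red_mem_KK A ℓ m 0 (by rw [hAm, smul_zero])
    have hinj := iota_inj A ℓ m hAm i₀ (hm0 i₀)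
    have hc := Nat.card_le_card_of_injective _ hinj
    rw [Nat.card_prod, Nat.card_zmod, Module.natCard_eq_pow_finrank (K := ZMod ℓ) (V := ↥(KK A ℓ)),
      Nat.card_zmod] at hc
    have hd := finrank_KK_le A ℓ m hsymm hA hconn hℓA hm0 hmK i₀
    obtain ⟨d, hd'⟩ : ∃ d, d = Module.finrank (ZMod ℓ) (KK A ℓ) := ⟨_, rfl⟩
    rw [← hd'] at hc hd
    rcases Nat.eq_zero_or_pos d with hd0 | hdpos
    · rw [hd0, pow_zero] at hc
      have h0 : Nat.card (TT A ℓ) = 0 := by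
        have h2 := hℓ.two_le
        by_contra h
        have : 1 ≤ Nat.card (TT A ℓ) := Nat.one_le_iff_ne_zero.mpr h
        nlinarith
      show Nat.card (TT A ℓ) ≤ _
      rw [h0]; exact Nat.zero_le _
    · obtain ⟨d', hd''⟩ : ∃ d', d = d' + 1 := ⟨d - 1, by omega⟩
      rw [hd'', pow_succ] at hc
      have h3 : Nat.card (TT A ℓ) ≤ ℓ ^ d' := Nat.le_of_mul_le_mul_right hc hℓ.pos
      refine h3.trans (Nat.pow_le_pow_right hℓ.pos ?_)
      show d' ≤ (EE A).card + 1 - n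
      omega

end

end Groth.Agent.Lib.Helper4.GraphTor
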