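import Mathlib
import Groth.Agent.Lib.Helper4.GorTop
import Groth.Agent.Lib.Helper4.StalkDual
import Groth.Agent.Lib.Helper12.IntegralDim

/-!
# One-dimensional Gorenstein rings finite over a PID: torsionless / reflexive modules

* `ext_self_subsingleton_of_gt`: over a Gorenstein ring of dimension `≤ n`, `Ext^i(N, S) = 0`
  for `i > n` and `N` finite.
* `ext_one_subsingleton_of_reflexive`: Gorenstein of dimension `≤ 1`, `M` reflexive ⇒
  `Ext^1(M, S) = 0`.
* `free_of_eval_injective`, `eval_injective_of_free`, `eval_surjective_of_free`: for `S` finite free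
  reduced over a PID `Λ`: torsionless ⇔ `Λ`-free, and (Gorenstein) reflexive ⇔ `Λ`-free.
-/

set_option autoImplicit false
set_option linter.style.haveILetI false
set_option linter.unusedSectionVars false
set_option linter.unusedVariables false
set_option maxHeartbeats 800000

open CategoryTheory Limits Opposite Abelian IsLocalRing

universe u

namespace Groth.Agent.Lib.Helper4.GorOne

open Groth.Agent.Lib.Helper4 Groth.Agent.Lib.Helper4.LC

/-! ### small generalities -/

lemma exists_nat_eq (x : WithBot ℕ∞) (n : ℕ) (h0 : 0 ≤ x) (hn : x ≤ n) :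
    ∃ d : ℕ, x = d ∧ d ≤ n := by
  have hb : x ≠ ⊥ := by
    rintro rfl
    exact absurd h0 (by simp)
  lift x to ℕ∞ using hb
  have hn' : x ≤ (n : ℕ∞) := by exact_mod_cast hn
  have ht : x ≠ ⊤ := ne_top_of_le_ne_top (ENat.natCast_ne_top n) hn'
  lift x to ℕ using ht
  refine ⟨x, by norm_cast, ?_⟩
  exact_mod_cast hn'

lemma exists_maximal_of_ne_zero {S : Type u} [CommRing S] {E : Type*} [AddCommGroup E]
    [Module S E] (e : E) (he : e ≠ 0) :
    ∃ m : Ideal S, m.IsMaximal ∧ ∀ s : S, s • e = 0 → s ∈ m := by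
  have hI : LinearMap.ker (LinearMap.toSpanSingleton S E e) ≠ ⊤ := by
    intro h
    have h1 : (1 : S) ∈ LinearMap.ker (LinearMap.toSpanSingleton S E e) := h ▸ Submodule.mem_top
    rw [LinearMap.mem_ker, LinearMap.toSpanSingleton_apply, one_smul] at h1
    exact he h1
  obtain ⟨m, hm, hle⟩ := Ideal.exists_le_maximal _ hI
  exact ⟨m, hm, fun s hs => hle (by
    rw [LinearMap.mem_ker, LinearMap.toSpanSingleton_apply]; exact hs)⟩

lemma ringKrullDim_pid_le_one (Λ : Type*) [CommRing Λ] [IsDomain Λ] [IsPrincipalIdealRing Λ] :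
    ringKrullDim Λ ≤ ((1 : ℕ) : WithBot ℕ∞) := by
  rw [← Ring.krullDimLE_iff]
  infer_instance

lemma mem_minimalPrimes_of_comap_eq_bot (Λ : Type*) {S : Type*} [CommRing Λ] [CommRing S]
    [Algebra Λ S] [Algebra.IsIntegral Λ S] (p : Ideal S) [p.IsPrime]
    (h : p.comap (algebraMap Λ S) = ⊥) : p ∈ minimalPrimes S := by
  obtain ⟨q, hq, hqp⟩ := Ideal.exists_minimalPrimes_le (show (⊥ : Ideal S) ≤ p from bot_le)
  haveI : q.IsPrime := hq.1.1
  rcases eq_or_lt_of_le hqp with h' | h'
  · rw [← h']; exact hq
  · have := Ideal.IsIntegral.comap_lt_comap (R := Λ) h'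
    rw [h] at this
    exact absurd this not_lt_bot

lemma exists_dual_ne_zero_of_isField {K : Type*} [CommRing K] (hK : IsField K) {V : Type*}
    [AddCommGroup V] [Module K V] (v : V) (hv : v ≠ 0) : ∃ φ : V →ₗ[K] K, φ v ≠ 0 := by
  letI := hK.toField
  haveI : Module.Free K V := Module.Free.of_divisionRing K V
  exact Module.Projective.exists_dual_ne_zero K hv

lemma exists_dual_ne_zero_of_minimal (S : Type u) [CommRing S] [IsReduced S] (p : Ideal S)
    [p.IsPrime] (hp : p ∈ minimalPrimes S) (M : Type u) [AddCommGroup M] [Module S M]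
    (z : LocalizedModule p.primeCompl M) (hz : z ≠ 0) :
    ∃ φ : LocalizedModule p.primeCompl M →ₗ[Localization.AtPrime p] Localization.AtPrime p,
      φ z ≠ 0 := by
  haveI : Ring.KrullDimLE 0 (Localization.AtPrime p) := Ring.KrullDimLE.of_isLocalization p hp _
  exact exists_dual_ne_zero_of_isField Ring.KrullDimLE.isField_of_isReduced z hz

/-! ### vanishing of `Ext` above the dimension, globally -/

theorem ext_self_subsingleton_of_gt (S : Type u) [CommRing S] [LocCoh.IsGorensteinRing S]
    (n : ℕ) (hn : ringKrullDim S ≤ n) (N : Type u) [AddCommGroup N] [Module S N]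
    [Module.Finite S N] (i : ℕ) (hi : n < i) :
    Subsingleton (Ext.{u} (ModuleCat.of S N) (ModuleCat.of S S) i) := by
  refine subsingleton_of_forall_eq 0 (fun e => ?_)
  by_contra he
  obtain ⟨m, hm, hann⟩ := exists_maximal_of_ne_zero (S := S) e he
  haveI : m.IsPrime := hm.isPrime
  haveI : LocCoh.IsGorensteinLocalRing (Localization.AtPrime m) :=
    LocCoh.IsGorensteinRing.isGorensteinLocalRing_localization m
  have h1 : ringKrullDim (Localization.AtPrime m) ≤ n := by
    rw [IsLocalization.AtPrime.ringKrullDim_eq_height m (Localization.AtPrime m)]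
    exact (Ideal.height_le_ringKrullDim_of_ne_top hm.ne_top).trans hn
  obtain ⟨d, hd, hdn⟩ := exists_nat_eq _ n ringKrullDim_nonneg_of_nontrivial h1
  have hsub := gor_ext_self_subsingleton_of_gt (Localization.AtPrime m) d hd
    (LocalizedModule m.primeCompl N) i (lt_of_le_of_lt hdn hi)
  obtain ⟨s, hs⟩ := (StalkDual.subsingleton_ext_localization_iff m.primeCompl N i).1 hsub e
  exact s.2 (hann _ hs)

/-! ### reflexive modules over Gorenstein rings of dimension `≤ 1` -/

theorem ext_one_subsingleton_of_reflexive (S : Type u) [CommRing S] [LocCoh.IsGorensteinRing S]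
    (hdim : ringKrullDim S ≤ ((1 : ℕ) : WithBot ℕ∞)) (M : Type u) [AddCommGroup M] [Module S M]
    [Module.Finite S M] [Module.IsReflexive S M] :
    Subsingleton (Ext.{u} (ModuleCat.of S M) (ModuleCat.of S S) 1) := by
  haveI : Module.Finite S (Module.Dual S M) := inferInstance
  obtain ⟨a, π, hπ⟩ := Module.Finite.exists_fin' S (Module.Dual S M)
  have hex : Function.Exact π.dualMap ((LinearMap.ker π).subtype.dualMap).rangeRestrict := by
    rw [LinearMap.exact_iff, LinearMap.ker_rangeRestrict,
      LinearMap.ker_dualMap_eq_dualAnnihilator_range, Submodule.range_subtype,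
      LinearMap.range_dualMap_eq_dualAnnihilator_ker_of_surjective π hπ]
  have hsurj : Function.Surjective ((LinearMap.ker π).subtype.dualMap).rangeRestrict :=
    LinearMap.surjective_rangeRestrict ((LinearMap.ker π).subtype.dualMap)
  have hT := sesOf_shortExact (R := S) (N₁ := Module.Dual S (Module.Dual S M))
    (N₂ := Module.Dual S (Fin a → S))
    (N₃ := LinearMap.range ((LinearMap.ker π).subtype.dualMap))
    π.dualMap ((LinearMap.ker π).subtype.dualMap).rangeRestrict hex
    (LinearMap.dualMap_injective_of_surjective hπ) hsurj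
  haveI hproj : Projective (ModuleCat.of S (Module.Dual S (Fin a → S))) :=
    (IsProjective.iff_projective (R := S) (Module.Dual S (Fin a → S))).1 inferInstance
  haveI : Module.Finite S (LinearMap.range ((LinearMap.ker π).subtype.dualMap)) := inferInstance
  have h2 : Subsingleton (Ext.{u}
      (ModuleCat.of S (LinearMap.range ((LinearMap.ker π).subtype.dualMap)))
      (ModuleCat.of S S) 2) :=
    ext_self_subsingleton_of_gt S 1 hdim
      (LinearMap.range ((LinearMap.ker π).subtype.dualMap)) 2 (by norm_num)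
  have h1 : Subsingleton (Ext.{u} (ModuleCat.of S (Module.Dual S (Module.Dual S M)))
      (ModuleCat.of S S) 1) := by
    refine subsingleton_of_forall_eq 0 (fun x => ?_)
    obtain ⟨w, hw⟩ : ∃ w : Ext.{u} (ModuleCat.of S (Module.Dual S (Fin a → S)))
        (ModuleCat.of S S) 1,
        (Ext.mk₀ (ModuleCat.ofHom π.dualMap)).comp w (zero_add 1) = x :=
      Ext.contravariant_sequence_exact₁ hT (ModuleCat.of S S) x
        (show 1 + 1 = 2 from rfl) (@Subsingleton.elim _ h2 _ _)
    rw [← hw, Ext.eq_zero_of_projective w, Ext.comp_zero]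
  exact ((extCongrLeft (LinearEquiv.toModuleIso (Module.evalEquiv S M))
    (ModuleCat.of S S) 1).toEquiv.subsingleton_congr).2 h1

/-! ### finite free reduced algebras over a PID -/

lemma isNoetherianRing_of_finite (Λ S : Type*) [CommRing Λ] [IsNoetherianRing Λ] [CommRing S]
    [Algebra Λ S] [Module.Finite Λ S] : IsNoetherianRing S := by
  have h : IsNoetherian Λ S := isNoetherian_of_isNoetherianRing_of_finite Λ S
  exact isNoetherian_of_tower Λ h

section pid

variable (Λ : Type u) [CommRing Λ] [IsDomain Λ] [IsPrincipalIdealRing Λ]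
  (S : Type u) [CommRing S] [Algebra Λ S] [Module.Finite Λ S]

theorem free_of_eval_injective [Module.Free Λ S]
    (M : Type u) [AddCommGroup M] [Module S M] [Module Λ M] [IsScalarTower Λ S M]
    [Module.Finite S M] (h : Function.Injective (Module.Dual.eval S M)) : Module.Free Λ M := by
  haveI : Module.Finite Λ M := Module.Finite.trans S M
  haveI : Module.IsTorsionFree Λ M := by
    refine Module.IsTorsionFree.of_smul_eq_zero (fun a x hax => ?_)
    by_cases ha : a = 0
    · exact Or.inl ha
    right
    apply h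
    rw [map_zero]
    refine LinearMap.ext (fun f => ?_)
    rw [Module.Dual.eval_apply, LinearMap.zero_apply]
    have h2 : f (a • x) = a • f x := by
      rw [← algebraMap_smul S a x, map_smul, smul_eq_mul, Algebra.smul_def]
    have h1 : a • f x = 0 := by rw [← h2, hax, map_zero]
    exact (smul_eq_zero.1 h1).resolve_left ha
  exact Module.free_of_finite_type_torsion_free'

theorem eval_injective_of_free [IsReduced S]
    (M : Type u) [AddCommGroup M] [Module S M] [Module Λ M] [IsScalarTower Λ S M]
    [Module.Finite S M] [Module.Free Λ M] : Function.Injective (Module.Dual.eval S M) := by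
  haveI : IsNoetherianRing S := isNoetherianRing_of_finite Λ S
  haveI : Algebra.IsIntegral Λ S := Algebra.IsIntegral.of_finite Λ S
  rw [injective_iff_map_eq_zero]
  intro x hx
  by_contra hx0
  obtain ⟨p, hp, hle⟩ := exists_le_isAssociatedPrime_of_isNoetherianRing S x hx0
  obtain ⟨hpp, y, hy⟩ := isAssociatedPrime_iff.1 hp
  haveI := hpp
  have hmem : ∀ s : S, s ∈ p ↔ s • y = 0 := fun s => by
    rw [hy, Submodule.mem_colon_singleton, Submodule.mem_bot]
  have hy0 : y ≠ 0 := by
    rintro rfl
    exact hpp.ne_top ((Ideal.eq_top_iff_one _).2 ((hmem 1).2 (smul_zero _)))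
  have hcomap : p.comap (algebraMap Λ S) = ⊥ := by
    rw [eq_bot_iff]
    intro a ha
    rw [Ideal.mem_comap, hmem, algebraMap_smul] at ha
    exact Ideal.mem_bot.2 ((smul_eq_zero.1 ha).resolve_right hy0)
  have hpmin : p ∈ minimalPrimes S := mem_minimalPrimes_of_comap_eq_bot Λ p hcomap
  have hx1 : LocalizedModule.mkLinearMap p.primeCompl M x ≠ 0 := by
    intro h0
    obtain ⟨c, hc⟩ := (IsLocalizedModule.eq_zero_iff p.primeCompl
      (LocalizedModule.mkLinearMap p.primeCompl M)).1 h0
    exact c.2 (hle (by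
      rw [Submodule.mem_colon_singleton, Submodule.mem_bot]; exact hc))
  obtain ⟨φ, hφ⟩ := exists_dual_ne_zero_of_minimal S p hpmin M _ hx1
  haveI : Module.FinitePresentation S M := Module.finitePresentation_of_finite S M
  haveI : IsLocalizedModule p.primeCompl (Algebra.linearMap S (Localization.AtPrime p)) :=
    (isLocalizedModule_iff_isLocalization' _ _).2 inferInstance
  obtain ⟨h, s, hs⟩ := Module.FinitePresentation.exists_lift_of_isLocalizedModule p.primeCompl
    (Algebra.linearMap S (Localization.AtPrime p))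
    ((φ.restrictScalars S) ∘ₗ (LocalizedModule.mkLinearMap p.primeCompl M))
  have hhx : h x = 0 := by
    have := LinearMap.congr_fun hx h
    rwa [Module.Dual.eval_apply, LinearMap.zero_apply] at this
  have h1 := LinearMap.congr_fun hs x
  rw [LinearMap.comp_apply, hhx, map_zero, LinearMap.smul_apply, LinearMap.comp_apply,
    LinearMap.restrictScalars_apply, Submonoid.smul_def, Algebra.smul_def] at h1
  have hu : IsUnit (algebraMap S (Localization.AtPrime p) (s : S)) :=
    IsLocalization.map_units _ s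
  exact hφ ((hu.mul_right_eq_zero).1 h1.symm)

/-- `Ext^1(X, S) = 0` for finite `Λ`-torsion-free modules over a Gorenstein ring finite over
the PID `Λ`. -/
theorem ext_one_subsingleton_of_torsionFree [LocCoh.IsGorensteinRing S]
    (X : Type u) [AddCommGroup X] [Module S X] [Module.Finite S X]
    (htf : ∀ a : Λ, a ≠ 0 → ∀ x : X, algebraMap Λ S a • x = 0 → x = 0) :
    Subsingleton (Ext.{u} (ModuleCat.of S X) (ModuleCat.of S S) 1) := by
  haveI : Algebra.IsIntegral Λ S := Algebra.IsIntegral.of_finite Λ S
  have hdim : ringKrullDim S ≤ ((1 : ℕ) : WithBot ℕ∞) :=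
    (Groth.Agent.Lib.Helper12.ringKrullDim_le_of_isIntegral (R := Λ) (S := S)).trans
      (ringKrullDim_pid_le_one Λ)
  haveI : Module.Finite S (ModuleCat.of S X) := inferInstanceAs (Module.Finite S X)
  haveI : Module.Finite S (ModuleCat.of S S) := inferInstanceAs (Module.Finite S S)
  haveI : Module.Finite S (Ext.{u} (ModuleCat.of S X) (ModuleCat.of S S) 1) :=
    ModuleCat.finite_ext S _ _ 1
  -- divisibility by nonzero elements of `Λ`
  have hdiv : ∀ a : Λ, a ≠ 0 → ∀ e : Ext.{u} (ModuleCat.of S X) (ModuleCat.of S S) 1,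
      ∃ e' : Ext.{u} (ModuleCat.of S X) (ModuleCat.of S S) 1, algebraMap Λ S a • e' = e := by
    intro a ha e
    have hreg : IsSMulRegular X (algebraMap Λ S a) := by
      intro x y hxy
      have h0 : algebraMap Λ S a • (x - y) = 0 := by
        rw [smul_sub]; exact sub_eq_zero.2 hxy
      exact sub_eq_zero.1 (htf a ha _ h0)
    have hT := IsSMulRegular.smulShortComplex_shortExact (M := ModuleCat.of S X) hreg
    haveI : Module.Finite S (QuotSMulTop (algebraMap Λ S a) X) := inferInstance
    have h2 : Subsingleton (Ext.{u}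
        (ModuleCat.smulShortComplex (ModuleCat.of S X) (algebraMap Λ S a)).X₃
        (ModuleCat.of S S) 2) :=
      ext_self_subsingleton_of_gt S 1 hdim (QuotSMulTop (algebraMap Λ S a) X) 2 (by norm_num)
    obtain ⟨w, hw⟩ : ∃ w : Ext.{u} (ModuleCat.of S X) (ModuleCat.of S S) 1,
        (Ext.mk₀ ((algebraMap Λ S a) • 𝟙 (ModuleCat.of S X))).comp w (zero_add 1) = e :=
      Ext.contravariant_sequence_exact₁ hT (ModuleCat.of S S) e
        (show 1 + 1 = 2 from rfl) (@Subsingleton.elim _ h2 _ _)
    rw [Ext.mk₀_smul, Ext.smul_comp, Ext.mk₀_id_comp] at hw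
    exact ⟨w, hw⟩
  -- Nakayama
  have hann : ∀ a : Λ, a ≠ 0 → ∃ r : S, r - 1 ∈ Ideal.span {algebraMap Λ S a} ∧
      ∀ e : Ext.{u} (ModuleCat.of S X) (ModuleCat.of S S) 1, r • e = 0 := by
    intro a ha
    have hle : (⊤ : Submodule S (Ext.{u} (ModuleCat.of S X) (ModuleCat.of S S) 1)) ≤
        Ideal.span {algebraMap Λ S a} • ⊤ := by
      intro e _
      obtain ⟨e', rfl⟩ := hdiv a ha e
      exact Submodule.smul_mem_smul (Ideal.subset_span rfl) Submodule.mem_top
    obtain ⟨r, hr1, hr2⟩ := Submodule.exists_sub_one_mem_and_smul_eq_zero_of_fg_of_le_smul _ ⊤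
      Module.Finite.fg_top hle
    exact ⟨r, hr1, fun e => hr2 e Submodule.mem_top⟩
  refine subsingleton_of_forall_eq 0 (fun e => ?_)
  by_contra he
  obtain ⟨m, hm, hmann⟩ := exists_maximal_of_ne_zero (S := S) e he
  haveI : m.IsPrime := hm.isPrime
  have hcomap : m.comap (algebraMap Λ S) = ⊥ := by
    rw [eq_bot_iff]
    intro a ham
    by_contra ha0
    have ha : a ≠ 0 := fun h => ha0 (h ▸ Ideal.zero_mem _)
    obtain ⟨r, hr1, hr2⟩ := hann a ha
    have hrm : r ∈ m := hmann r (hr2 e)
    have h1m : r - 1 ∈ m :=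
      (Ideal.span_singleton_le_iff_mem (I := m)).2 (Ideal.mem_comap.1 ham) hr1
    have h1 : (1 : S) ∈ m := by
      have := m.sub_mem hrm h1m
      rwa [sub_sub_cancel] at this
    exact hm.ne_top ((Ideal.eq_top_iff_one m).2 h1)
  have hmmin : m ∈ minimalPrimes S := mem_minimalPrimes_of_comap_eq_bot Λ m hcomap
  have hht : m.height = 0 := Ideal.height_eq_zero_iff.2 hmmin
  haveI : LocCoh.IsGorensteinLocalRing (Localization.AtPrime m) :=
    LocCoh.IsGorensteinRing.isGorensteinLocalRing_localization m
  have hd0 : ringKrullDim (Localization.AtPrime m) = ((0 : ℕ) : WithBot ℕ∞) := by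
    rw [IsLocalization.AtPrime.ringKrullDim_eq_height m (Localization.AtPrime m), hht]
    rfl
  have hsub := gor_ext_self_subsingleton_of_gt (Localization.AtPrime m) 0 hd0
    (LocalizedModule m.primeCompl X) 1 Nat.zero_lt_one
  obtain ⟨s, hs⟩ := (StalkDual.subsingleton_ext_localization_iff m.primeCompl X 1).1 hsub e
  exact s.2 (hmann _ hs)

theorem eval_surjective_of_free [Module.Free Λ S] [LocCoh.IsGorensteinRing S]
    (M : Type u) [AddCommGroup M] [Module S M] [Module Λ M] [IsScalarTower Λ S M]
    [Module.Finite S M] [Module.Free Λ M] : Function.Surjective (Module.Dual.eval S M) := by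
  obtain ⟨n, π, hπ⟩ := Module.Finite.exists_fin' S M
  have htfM : ∀ a : Λ, a ≠ 0 → ∀ x : M, algebraMap Λ S a • x = 0 → x = 0 := by
    intro a ha x hx
    rw [algebraMap_smul] at hx
    exact (smul_eq_zero.1 hx).resolve_left ha
  have htfS : ∀ a : Λ, a ≠ 0 → ∀ s : S, algebraMap Λ S a * s = 0 → s = 0 := by
    intro a ha s hs
    rw [← Algebra.smul_def] at hs
    exact (smul_eq_zero.1 hs).resolve_left ha
  have hE1 := ext_one_subsingleton_of_torsionFree Λ S M htfM
  have htfK : ∀ a : Λ, a ≠ 0 → ∀ f : Module.Dual S (LinearMap.ker π),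
      algebraMap Λ S a • f = 0 → f = 0 := by
    intro a ha f hf
    refine LinearMap.ext (fun k => ?_)
    have := LinearMap.congr_fun hf k
    rw [LinearMap.smul_apply, smul_eq_mul, LinearMap.zero_apply] at this
    rw [LinearMap.zero_apply]
    exact htfS a ha _ this
  haveI : Module.Finite S (LinearMap.ker π) := inferInstance
  haveI : Module.Finite S (Module.Dual S (LinearMap.ker π)) := inferInstance
  have hE2 := ext_one_subsingleton_of_torsionFree Λ S (Module.Dual S (LinearMap.ker π)) htfK
  have hT := sesOf_shortExact (LinearMap.ker π).subtype π (LinearMap.exact_subtype_ker_map π)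
    (Submodule.injective_subtype _) hπ
  have hres : Function.Surjective (LinearMap.ker π).subtype.dualMap := by
    intro k
    obtain ⟨w, hw⟩ := Ext.contravariant_sequence_exact₁ hT (ModuleCat.of S S)
      (Ext.mk₀ (ModuleCat.ofHom k)) (show 1 + 0 = 1 from rfl) (@Subsingleton.elim _ hE1 _ _)
    obtain ⟨g, rfl⟩ := (Ext.mk₀_bijective _ _).2 w
    rw [Ext.mk₀_comp_mk₀] at hw
    have hw' := (Ext.mk₀_bijective _ _).1 hw
    refine ⟨g.hom, LinearMap.ext (fun x => ?_)⟩
    exact LinearMap.congr_fun (congrArg ModuleCat.Hom.hom hw') x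
  have hex2 : Function.Exact π.dualMap (LinearMap.ker π).subtype.dualMap := by
    rw [LinearMap.exact_iff, LinearMap.ker_dualMap_eq_dualAnnihilator_range,
      Submodule.range_subtype, LinearMap.range_dualMap_eq_dualAnnihilator_ker_of_surjective π hπ]
  have hT2 := sesOf_shortExact π.dualMap (LinearMap.ker π).subtype.dualMap hex2
    (LinearMap.dualMap_injective_of_surjective hπ) hres
  intro ψ
  obtain ⟨w, hw⟩ := Ext.contravariant_sequence_exact₁ hT2 (ModuleCat.of S S)
    (Ext.mk₀ (ModuleCat.ofHom ψ)) (show 1 + 0 = 1 from rfl) (@Subsingleton.elim _ hE2 _ _)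
  obtain ⟨G, rfl⟩ := (Ext.mk₀_bijective _ _).2 w
  rw [Ext.mk₀_comp_mk₀] at hw
  have hw' := (Ext.mk₀_bijective _ _).1 hw
  have hG : ∀ f : Module.Dual S M, G.hom (π.dualMap f) = ψ f := fun f =>
    LinearMap.congr_fun (congrArg ModuleCat.Hom.hom hw') f
  obtain ⟨v, hv⟩ := (Module.bijective_dual_eval S (Fin n → S)).2 G.hom
  refine ⟨π v, LinearMap.ext (fun f => ?_)⟩
  rw [Module.Dual.eval_apply, ← hG f, ← hv, Module.Dual.eval_apply, LinearMap.dualMap_apply]

end pid

end Groth.Agent.Lib.Helper4.GorOne
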