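import Mathlib
import Groth.Agent.Lib.Helper4.Sk
import Groth.Agent.Lib.Helper4.Unmixed2
import Groth.Agent.Lib.Helper4.GorLCI
import Groth.Agent.Lib.Helper4.GorRing
import Groth.Agent.Lib.Helper19.KRegCot
import Groth.Agent.S0341

/-!
# Rings without embedded primes and submodules of projective modules (helper4)

* `subsingleton_of_injective_projective`: over a Noetherian ring without embedded primes, a module
  embedding into a projective module and vanishing at all minimal primes is zero.
* `assoc_minimal_of_gorenstein`: Gorenstein rings have no embedded primes.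
* `gorenstein_of_lci_field`: a complete intersection over a field is Gorenstein.
-/

set_option autoImplicit false
set_option linter.style.haveILetI false
set_option linter.unusedSectionVars false
set_option linter.unusedVariables false
set_option maxHeartbeats 800000

open TensorProduct

universe u

namespace Groth.Agent.Lib.Helper4.NoEmb

theorem subsingleton_of_injective_projective {A : Type*} [CommRing A] [IsNoetherianRing A]
    (hAss : ∀ q : Ideal A, IsAssociatedPrime q A → q ∈ minimalPrimes A)
    {H M : Type*} [AddCommGroup H] [Module A H] [AddCommGroup M] [Module A M]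
    [Module.Projective A M] (j : H →ₗ[A] M) (hj : Function.Injective j)
    (hloc : ∀ p ∈ minimalPrimes A, ∀ x : H, ∃ s : A, s ∉ p ∧ s • x = 0) : Subsingleton H := by
  suffices h : ∀ x : H, x = 0 from ⟨fun x y => by rw [h x, h y]⟩
  intro x
  apply hj
  rw [map_zero]
  obtain ⟨s, hs⟩ := Module.projective_def'.1 (inferInstance : Module.Projective A M)
  have hz : s (j x) = 0 := by
    apply Finsupp.ext
    intro m
    rw [Finsupp.zero_apply]
    by_contra hne
    obtain ⟨q, hq, hle⟩ := exists_le_isAssociatedPrime_of_isNoetherianRing A ((s (j x)) m) hne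
    obtain ⟨t, htq, htx⟩ := hloc q (hAss q hq) x
    apply htq
    apply hle
    rw [Submodule.mem_colon_singleton, Submodule.mem_bot]
    have h1 : t • (s (j x)) m = (s (j (t • x))) m := by
      rw [map_smul, map_smul, Finsupp.smul_apply]
    rw [h1, htx, map_zero, map_zero, Finsupp.zero_apply]
  have h2 := LinearMap.congr_fun hs (j x)
  rw [LinearMap.comp_apply, hz, map_zero, LinearMap.id_apply] at h2
  exact h2.symm

theorem assoc_minimal_of_gorenstein (A : Type u) [CommRing A] (hG : LocCoh.IsGorensteinRing A) :
    ∀ q : Ideal A, IsAssociatedPrime q A → q ∈ minimalPrimes A := by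
  haveI := hG
  haveI : IsNoetherianRing A := inferInstance
  haveI hCM : LocCoh.IsCohenMacaulayRing A :=
    { isCohenMacaulayLocalRing_localization := fun p _ => by
        haveI := hG.isGorensteinLocalRing_localization p
        exact Groth.Agent.S0341.result (Localization.AtPrime p) }
  have hS1 : LocCoh.HasSk 1 A A := Groth.Agent.Lib.Helper4.Unmixed.hasSk_of_cm A 1
  have hann : Module.annihilator A A = ⊥ := by
    rw [eq_bot_iff]
    intro r hr
    rw [Module.mem_annihilator] at hr
    simpa using hr 1
  have h := (Groth.Agent.Lib.Helper4.noEmbedded_iff_hasS1 (R := A) (M := A)).2 hS1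
  rw [hann] at h
  intro q hq
  exact h q hq

theorem gorenstein_of_lci_field (k : Type u) [Field k] (A : Type u) [CommRing A] [Algebra k A]
    (n : ℕ) (f : MvPolynomial (Fin n) k →ₐ[k] A) (hf : Function.Surjective f)
    (hK : LCI.IsKoszulRegularIdeal (RingHom.ker f.toRingHom)) : LocCoh.IsGorensteinRing A := by
  have hG0 : LocCoh.IsGorensteinRing (A ⊗[k] k) :=
    Groth.Agent.Lib.Helper4.GorLCI.gorRing_tensor_of_flat_lci k n A f k hf hK
  exact Groth.Agent.Lib.Helper4.GorRing.gorRing_of_ringEquiv
    (Algebra.TensorProduct.rid k k A).toRingEquiv hG0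

/-- `H¹` of the cotangent complex vanishes for generically smooth complete intersections over a
field. -/
theorem subsingleton_h1Cotangent (k : Type u) [Field k] (A : Type u) [CommRing A] [Algebra k A]
    (n : ℕ) (f : MvPolynomial (Fin n) k →ₐ[k] A) (hf : Function.Surjective f)
    (hK : LCI.IsKoszulRegularIdeal (RingHom.ker f.toRingHom))
    (hgs : ∀ (p : Ideal A) [p.IsPrime], p ∈ minimalPrimes A →
      Algebra.FormallySmooth k (Localization.AtPrime p)) :
    Subsingleton (Algebra.H1Cotangent k A) := by
  have hG := gorenstein_of_lci_field k A n f hf hK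
  haveI := hG
  haveI : IsNoetherianRing A := inferInstance
  have hAss := assoc_minimal_of_gorenstein A hG
  have hφe : MvPolynomial.aeval (fun i => f (MvPolynomial.X i)) = f := by
    apply MvPolynomial.algHom_ext
    intro i
    simp
  have hsurj : Function.Surjective
      (MvPolynomial.aeval (R := k) (fun i => f (MvPolynomial.X i))) := by
    rw [hφe]; exact hf
  let G : Algebra.Generators k A (Fin n) :=
    Algebra.Generators.ofSurjective (fun i => f (MvPolynomial.X i)) hsurj
  have hker : G.ker = RingHom.ker f.toRingHom := by
    have hval : G.val = fun i => f (MvPolynomial.X i) := rfl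
    rw [Algebra.Generators.ker_eq_ker_aeval_val, hval, hφe]
    rfl
  have hK' : LCI.IsKoszulRegularIdeal G.toExtension.ker := by
    change LCI.IsKoszulRegularIdeal G.ker
    rw [hker]; exact hK
  obtain ⟨-, hproj⟩ :=
    Groth.Agent.Lib.Helper19.KRegCot.extension_cotangent_finite_projective G.toExtension hK'
  haveI := hproj
  let j : Algebra.H1Cotangent k A →ₗ[A] G.toExtension.Cotangent :=
    G.toExtension.h1Cotangentι ∘ₗ G.equivH1Cotangent.symm.toLinearMap
  have hj : Function.Injective j := by
    intro x y hxy
    apply G.equivH1Cotangent.symm.injective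
    exact Algebra.Extension.h1Cotangentι_ext _ _ hxy
  apply subsingleton_of_injective_projective hAss j hj
  intro p hp x
  haveI : p.IsPrime := hp.1.1
  haveI := hgs p hp
  have hsub : Subsingleton (Algebra.H1Cotangent k (Localization.AtPrime p)) :=
    Algebra.FormallySmooth.subsingleton_h1Cotangent
  have h0 : Algebra.H1Cotangent.map k k A (Localization.AtPrime p) x = 0 :=
    Subsingleton.elim _ _
  obtain ⟨c, hc⟩ := (IsLocalizedModule.eq_zero_iff p.primeCompl
    (Algebra.H1Cotangent.map k k A (Localization.AtPrime p))).1 h0
  exact ⟨c.1, c.2, hc⟩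

end Groth.Agent.Lib.Helper4.NoEmb
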