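import Mathlib

/-!
# Finite modules over a domain: free submodules of full rank, torsion-free modules (helper4)
-/

set_option autoImplicit false

universe u v

open Cardinal

namespace Groth.Agent.Lib.Helper4

section keyLemma

variable (R : Type u) [CommRing R] [IsDomain R] (M : Type v) [AddCommGroup M] [Module R M]
  [Module.Finite R M]

/-- A finite module over a domain contains a finite free submodule `g(Rⁿ)` with `c • M ⊆ g(Rⁿ)`
for some nonzero `c`. -/
theorem exists_free_sub_and_smul_mem :
    ∃ (n : ℕ) (g : (Fin n → R) →ₗ[R] M) (c : R), Function.Injective g ∧ c ≠ 0 ∧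
      ∀ m : M, c • m ∈ LinearMap.range g := by
  obtain ⟨s, hs, hli⟩ := exists_set_linearIndependent_of_isDomain R M
  have hfin : s.Finite := by
    rw [← Cardinal.lt_aleph0_iff_set_finite, hs]
    exact Module.rank_lt_aleph0 R M
  haveI : Fintype s := hfin.fintype
  let e : Fin (Fintype.card s) ≃ s := (Fintype.equivFin s).symm
  let w : Fin (Fintype.card s) → M := fun i => (e i : M)
  have hw : LinearIndependent R w := by
    have h0 : LinearIndependent R (fun x : s => (x : M)) := hli
    exact h0.comp e e.injective
  have hrange : Set.range w = s := by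
    ext x
    constructor
    · rintro ⟨i, rfl⟩
      exact (e i).2
    · intro hx
      exact ⟨e.symm ⟨x, hx⟩, by simp [w]⟩
  have hginj : Function.Injective (Fintype.linearCombination R w) :=
    linearIndependent_iff_injective_fintypeLinearCombination.mp hw
  have hgrange : LinearMap.range (Fintype.linearCombination R w) = Submodule.span R s := by
    rw [Fintype.range_linearCombination, hrange]
  have hrank : Module.rank R (M ⧸ Submodule.span R s) = 0 := by
    have h1 := rank_quotient_add_rank_of_isDomain (Submodule.span R s)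
    have h2 : Module.rank R (Submodule.span R s) = Module.rank R M := by
      rw [rank_span_set hli, hs]
    rw [h2] at h1
    have h3 : Module.rank R (M ⧸ Submodule.span R s) + Module.rank R M = 0 + Module.rank R M := by
      rw [h1, zero_add]
    exact Cardinal.eq_of_add_eq_add_right h3 (Module.rank_lt_aleph0 R M)
  have htors : Module.IsTorsion R (M ⧸ Submodule.span R s) :=
    Module.rank_eq_zero_iff_isTorsion.mp hrank
  obtain ⟨c, hcann, hc⟩ := Submodule.annihilator_top_inter_nonZeroDivisors htors
  refine ⟨Fintype.card s, Fintype.linearCombination R w, c, hginj, nonZeroDivisors.ne_zero hc,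
    fun m => ?_⟩
  rw [hgrange, ← Submodule.Quotient.mk_eq_zero, Submodule.Quotient.mk_smul]
  exact (Submodule.mem_annihilator.mp hcann) _ Submodule.mem_top

/-- A map `f : M → Rⁿ` and an injective `g : Rⁿ → M` with `g ∘ f = c`, `c ≠ 0`. -/
theorem exists_free_sandwich :
    ∃ (n : ℕ) (g : (Fin n → R) →ₗ[R] M) (f : M →ₗ[R] (Fin n → R)) (c : R),
      Function.Injective g ∧ c ≠ 0 ∧ ∀ m : M, g (f m) = c • m := by
  obtain ⟨n, g, c, hg, hc, hmem⟩ := exists_free_sub_and_smul_mem R M
  let e := LinearEquiv.ofInjective g hg
  let h : M →ₗ[R] LinearMap.range g :=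
    LinearMap.codRestrict (LinearMap.range g) (c • LinearMap.id) (fun m => by simpa using hmem m)
  refine ⟨n, g, e.symm.toLinearMap ∘ₗ h, c, hg, hc, fun m => ?_⟩
  have h1 : g (e.symm (h m)) = (e (e.symm (h m)) : M) := rfl
  simp only [LinearMap.coe_comp, LinearEquiv.coe_coe, Function.comp_apply]
  rw [h1, LinearEquiv.apply_symm_apply]
  simp [h]

/-- A finite torsion-free module over a domain embeds into a finite free module. -/
theorem exists_injective_of_isTorsionFree [Module.IsTorsionFree R M] :
    ∃ (n : ℕ) (f : M →ₗ[R] (Fin n → R)), Function.Injective f := by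
  obtain ⟨n, g, f, c, hg, hc, hgf⟩ := exists_free_sandwich R M
  refine ⟨n, f, fun m₁ m₂ h => ?_⟩
  have : c • m₁ = c • m₂ := by rw [← hgf, ← hgf, h]
  exact (smul_right_injective M hc) this

/-- torsion-free iff embeds into a finite free module -/
theorem isTorsionFree_iff_exists_injective :
    Module.IsTorsionFree R M ↔ ∃ (n : ℕ) (f : M →ₗ[R] (Fin n → R)), Function.Injective f := by
  constructor
  · intro h
    exact exists_injective_of_isTorsionFree R M
  · rintro ⟨n, f, hf⟩
    exact hf.moduleIsTorsionFree f (fun r m => map_smul f r m)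

/-- The evaluation map into the double dual is injective iff the module is torsion-free. -/
theorem dual_eval_injective_iff :
    Function.Injective (Module.Dual.eval R M) ↔ Module.IsTorsionFree R M := by
  constructor
  · intro h
    exact h.moduleIsTorsionFree _ (fun r m => map_smul (Module.Dual.eval R M) r m)
  · intro h
    obtain ⟨n, f, hf⟩ := exists_injective_of_isTorsionFree R M
    rw [← LinearMap.ker_eq_bot, LinearMap.ker_eq_bot']
    intro m hm
    apply hf
    rw [map_zero]
    funext i
    have := LinearMap.congr_fun hm ((LinearMap.proj i : (Fin n → R) →ₗ[R] R) ∘ₗ f)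
    simpa using this

/-- One nonzero `c` kills the kernel of `M → M**` and multiplies `M**` into the image. -/
theorem exists_dual_eval_bound :
    ∃ c : R, c ≠ 0 ∧ (∀ x : M, Module.Dual.eval R M x = 0 → c • x = 0) ∧
      ∀ y : Module.Dual R (Module.Dual R M), c • y ∈ LinearMap.range (Module.Dual.eval R M) := by
  obtain ⟨n, g, f, c, hg, hc, hgf⟩ := exists_free_sandwich R M
  refine ⟨c, hc, fun x hx => ?_, fun y => ?_⟩
  · rw [← hgf]
    have : f x = 0 := by
      funext i
      have := LinearMap.congr_fun hx ((LinearMap.proj i : (Fin n → R) →ₗ[R] R) ∘ₗ f)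
      simpa using this
    rw [this, map_zero]
  · refine ⟨g (fun i => y ((LinearMap.proj i : (Fin n → R) →ₗ[R] R) ∘ₗ f)), ?_⟩
    ext φ
    have hφ : c • φ = ∑ i, (φ (g (fun j => if i = j then 1 else 0))) •
        ((LinearMap.proj i : (Fin n → R) →ₗ[R] R) ∘ₗ f) := by
      ext m
      have h1 : (c • φ) m = φ (g (f m)) := by rw [hgf, map_smul]; rfl
      rw [h1]
      have h2 := LinearMap.pi_apply_eq_sum_univ (φ ∘ₗ g) (f m)
      simp only [LinearMap.coe_comp, Function.comp_apply] at h2
      rw [h2]
      simp [mul_comm]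
    have h3 : (c • y) φ = y (c • φ) := by
      rw [LinearMap.smul_apply, map_smul]
    rw [Module.Dual.eval_apply, h3, hφ, map_sum]
    have h2 := LinearMap.pi_apply_eq_sum_univ (φ ∘ₗ g)
      (fun i => y ((LinearMap.proj i : (Fin n → R) →ₗ[R] R) ∘ₗ f))
    simp only [LinearMap.coe_comp, Function.comp_apply] at h2
    rw [h2]
    refine Finset.sum_congr rfl fun i _ => ?_
    rw [map_smul, smul_eq_mul, smul_eq_mul, mul_comm]

end keyLemma

section flatBaseChange

open TensorProduct

/-- Flat base change along a map of domains preserves torsion-freeness. -/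
theorem isTorsionFree_baseChange (R R' : Type u) [CommRing R] [IsDomain R] [CommRing R']
    [IsDomain R'] [Algebra R R'] [Module.Flat R R'] (M : Type v) [AddCommGroup M] [Module R M]
    [Module.IsTorsionFree R M] : Module.IsTorsionFree R' (R' ⊗[R] M) := by
  refine ⟨fun r hr t₁ t₂ ht => ?_⟩
  have ht0 : r • t₁ = r • t₂ := ht
  have hr0 : r ≠ 0 := hr.ne_zero
  have ht' : r • (t₁ - t₂) = 0 := by
    rw [smul_sub]
    exact sub_eq_zero.mpr ht0
  rw [← sub_eq_zero]
  generalize t₁ - t₂ = t at ht' ⊢
  -- `t` comes from a finitely generated submodule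
  have key : ∀ t : R' ⊗[R] M, ∃ N : Submodule R M, N.FG ∧
      t ∈ LinearMap.range (N.subtype.lTensor R') := by
    intro t
    induction t using TensorProduct.induction_on with
    | zero => exact ⟨⊥, Submodule.fg_bot, Submodule.zero_mem _⟩
    | tmul a m =>
      refine ⟨Submodule.span R {m}, Submodule.fg_span_singleton m,
        ⟨a ⊗ₜ ⟨m, Submodule.mem_span_singleton_self m⟩, by simp⟩⟩
    | add x y hx hy =>
      obtain ⟨N₁, h1, ⟨x', hx'⟩⟩ := hx
      obtain ⟨N₂, h2, ⟨y', hy'⟩⟩ := hy
      refine ⟨N₁ ⊔ N₂, h1.sup h2, ?_⟩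
      refine ⟨(Submodule.inclusion (le_sup_left : N₁ ≤ N₁ ⊔ N₂)).lTensor R' x' +
        (Submodule.inclusion (le_sup_right : N₂ ≤ N₁ ⊔ N₂)).lTensor R' y', ?_⟩
      rw [map_add, ← hx', ← hy', ← LinearMap.comp_apply, ← LinearMap.comp_apply,
        ← LinearMap.lTensor_comp, ← LinearMap.lTensor_comp]
      rfl
  obtain ⟨N, hN, hNt⟩ := key t
  obtain ⟨t₀, ht₀⟩ := hNt
  have : Module.Finite R N := Module.Finite.iff_fg.mpr hN
  obtain ⟨n, f, hf⟩ := exists_injective_of_isTorsionFree R N
  have hinj1 : Function.Injective (N.subtype.lTensor R') :=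
    Module.Flat.lTensor_preserves_injective_linearMap _ (Submodule.injective_subtype N)
  have hinj2 : Function.Injective (f.baseChange R') := by
    have := Module.Flat.lTensor_preserves_injective_linearMap (M := R') f hf
    exact this
  have h0 : r • t₀ = 0 := by
    apply hinj1
    rw [map_zero]
    have : (N.subtype.lTensor R') (r • t₀) = r • (N.subtype.lTensor R') t₀ := by
      have := map_smul (N.subtype.baseChange R') r t₀
      exact this
    rw [this, ht₀, ht']
  have h1 : r • (f.baseChange R' t₀) = 0 := by
    rw [← map_smul, h0, map_zero]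
  have h2 : f.baseChange R' t₀ = 0 := by
    rcases smul_eq_zero.mp h1 with h | h
    · exact absurd h hr0
    · exact h
  have h3 : t₀ = 0 := hinj2 (by rw [h2, map_zero])
  rw [← ht₀, h3, map_zero]

end flatBaseChange

end Groth.Agent.Lib.Helper4
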