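import Mathlib

/-!
# (A) for S5309: a directed decreasing family of ideals in a Noetherian ring which is
"infinitesimally zero at every prime" is eventually zero

Requested by helper27.  Proof: Artin–Rees gives, for each prime `q`, an exponent `k` with
`(0 : q) ∩ q^(k+1) = 0`; there are finitely many associated primes; a nonzero element `b ∈ I i`
has a multiple `y ∈ I i` with `ann y = P` an associated prime, and then `t * y = 0` for some
`t ∉ P`, a contradiction.
-/

set_option autoImplicit false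
universe u

namespace Groth.Agent.Lib.Helper4.QfFiltA

/-- Artin–Rees step: for every prime `q` there is `k` with `(0 : q) ∩ q ^ (k + 1) = 0`. -/
theorem exists_pow_inf_annihilator_eq_bot {B : Type u} [CommRing B] [IsNoetherianRing B]
    (q : Ideal B) : ∃ k : ℕ, ∀ x : B, (∀ c ∈ q, c * x = 0) → x ∈ q ^ (k + 1) → x = 0 := by
  let N : Ideal B :=
    { carrier := {x | ∀ c ∈ q, c * x = 0}
      add_mem' := fun {a b} ha hb c hc => by rw [mul_add, ha c hc, hb c hc, add_zero]
      zero_mem' := fun c _ => mul_zero c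
      smul_mem' := fun r x hx c hc => by
        rw [smul_eq_mul, mul_left_comm, hx c hc, mul_zero] }
  obtain ⟨k, hk⟩ := Ideal.exists_pow_inf_eq_pow_smul q (N : Submodule B B)
  refine ⟨k, fun x hxN hxq => ?_⟩
  have h1 : x ∈ (q ^ (k + 1) • (⊤ : Submodule B B) ⊓ N : Submodule B B) := by
    refine ⟨?_, hxN⟩
    have h0 : x • (1 : B) ∈ (q ^ (k + 1) • (⊤ : Submodule B B)) :=
      Submodule.smul_mem_smul hxq Submodule.mem_top
    have e : x • (1 : B) = x := by rw [smul_eq_mul, mul_one]
    rw [e] at h0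
    exact h0
  rw [hk (k + 1) (Nat.le_succ k)] at h1
  have h2 : (q ^ (k + 1 - k) • (q ^ k • (⊤ : Submodule B B) ⊓ N) : Submodule B B) ≤ ⊥ := by
    rw [Submodule.smul_le]
    intro r hr n hn
    rw [Nat.add_sub_cancel_left, pow_one] at hr
    rw [Submodule.mem_bot, smul_eq_mul]
    exact hn.2 r hr
  exact (Submodule.mem_bot B).mp (h2 h1)

/-- (A) -/
theorem exists_eq_bot_of_directed_ideals {B : Type u} [CommRing B] [IsNoetherianRing B]
    {D : Type u} [Preorder D] [IsDirected D (fun a b => a ≤ b)] [Nonempty D] (I : D → Ideal B)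
    (hanti : ∀ i j, i ≤ j → I j ≤ I i)
    (h : ∀ (q : PrimeSpectrum B) (n : ℕ), ∃ i, ∀ b ∈ I i,
      ∃ t : B, t ∉ q.asIdeal ∧ t * b ∈ q.asIdeal ^ (n + 1)) :
    ∃ i, I i = ⊥ := by
  classical
  -- step 1: for each prime `q` an index killing the `q`-socle elements up to `q`-torsion
  have step1 : ∀ q : Ideal B, q.IsPrime → ∃ i, ∀ b ∈ I i, (∀ c ∈ q, c * b = 0) →
      ∃ t : B, t ∉ q ∧ t * b = 0 := by
    intro q hq
    obtain ⟨k, hk⟩ := exists_pow_inf_annihilator_eq_bot q
    obtain ⟨i, hi⟩ := h ⟨q, hq⟩ k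
    refine ⟨i, fun b hb hbq => ?_⟩
    obtain ⟨t, htq, htb⟩ := hi b hb
    refine ⟨t, htq, hk (t * b) (fun c hc => ?_) htb⟩
    rw [mul_left_comm, hbq c hc, mul_zero]
  let iq : Ideal B → D := fun q =>
    if hq : q.IsPrime then (step1 q hq).choose else Classical.arbitrary D
  have hiq : ∀ (q : Ideal B) (hq : q.IsPrime), ∀ b ∈ I (iq q), (∀ c ∈ q, c * b = 0) →
      ∃ t : B, t ∉ q ∧ t * b = 0 := by
    intro q hq
    have : iq q = (step1 q hq).choose := dif_pos hq
    rw [this]
    exact (step1 q hq).choose_spec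
  -- step 2: a common index for the finitely many associated primes
  have hfin : (associatedPrimes B B).Finite := associatedPrimes.finite B B
  obtain ⟨i, hi⟩ := Finset.exists_le (hfin.toFinset.image iq)
  refine ⟨i, ?_⟩
  -- step 3
  rw [eq_bot_iff]
  intro b hb
  rw [Ideal.mem_bot]
  by_contra hb0
  have hx : (⟨b, hb⟩ : ↥(I i)) ≠ 0 := fun hx => hb0 (congrArg Subtype.val hx)
  obtain ⟨P, hP, -⟩ := exists_le_isAssociatedPrime_of_isNoetherianRing B (⟨b, hb⟩ : ↥(I i)) hx
  have hPB : IsAssociatedPrime P B :=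
    hP.map_of_injective (I i).subtype Subtype.val_injective
  rw [isAssociatedPrime_iff] at hP
  obtain ⟨hPprime, y, hy⟩ := hP
  have hPi : iq P ≤ i := hi _ (Finset.mem_image_of_mem _ (hfin.mem_toFinset.mpr hPB))
  have hyI : (y : B) ∈ I (iq P) := hanti _ _ hPi y.2
  have hyP : ∀ c ∈ P, c * (y : B) = 0 := by
    intro c hc
    rw [hy, Submodule.mem_colon_singleton, Submodule.mem_bot] at hc
    exact congrArg Subtype.val hc
  obtain ⟨t, htP, hty⟩ := hiq P hPprime y hyI hyP
  apply htP
  rw [hy, Submodule.mem_colon_singleton, Submodule.mem_bot]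
  exact Subtype.ext hty

end Groth.Agent.Lib.Helper4.QfFiltA
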