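import Mathlib
import Groth.Agent.Lib.Helper9.ASCover

/-!
# The twisted operators `T_b h = u^b · h(t u)` on `k[[t]]`: cocycles modulo coboundaries
-/

set_option autoImplicit false
set_option linter.style.haveILetI false
set_option linter.unusedSectionVars false
set_option linter.unusedVariables false
set_option linter.unusedSimpArgs false
set_option maxHeartbeats 1600000
set_option maxSynthPendingDepth 3

namespace Groth.Agent.Lib.Helper4.ASCovB

open PowerSeries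
open Groth.Agent.Lib.Helper9.ASCover

section Expand

variable {k : Type*} [Field k]

lemma mul_expand {n : ℕ} (hn : 0 < n) {f g y y' : k⟦X⟧} (hf : f = 1 + X ^ n * y)
    (hg : g = 1 + X ^ n * y') :
    ∃ y'', f * g = 1 + X ^ n * y'' ∧ constantCoeff y'' = constantCoeff y + constantCoeff y' := by
  refine ⟨y + y' + X ^ n * (y * y'), by rw [hf, hg]; ring, ?_⟩
  simp [hn.ne']

lemma inv_expand {n : ℕ} (hn : 0 < n) (V : (k⟦X⟧)ˣ) {y : k⟦X⟧} (hV : (V : k⟦X⟧) = 1 + X ^ n * y) :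
    ∃ y', ((V⁻¹ : (k⟦X⟧)ˣ) : k⟦X⟧) = 1 + X ^ n * y' ∧ constantCoeff y' = - constantCoeff y := by
  have h1 : (V : k⟦X⟧) * ((V⁻¹ : (k⟦X⟧)ˣ) : k⟦X⟧) = 1 := Units.mul_inv V
  refine ⟨-(y * ((V⁻¹ : (k⟦X⟧)ˣ) : k⟦X⟧)), ?_, ?_⟩
  · rw [hV] at h1; linear_combination h1
  · have h2 : constantCoeff ((V⁻¹ : (k⟦X⟧)ˣ) : k⟦X⟧) = 1 := by
      have := congrArg constantCoeff h1
      rw [map_mul, hV] at this
      simpa [hn.ne'] using this
    rw [map_neg, map_mul, h2, mul_one]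

lemma zpow_expand {n : ℕ} (hn : 0 < n) (V : (k⟦X⟧)ˣ) {y : k⟦X⟧} (hV : (V : k⟦X⟧) = 1 + X ^ n * y)
    (b : ℤ) :
    ∃ y', ((V ^ b : (k⟦X⟧)ˣ) : k⟦X⟧) = 1 + X ^ n * y' ∧
      constantCoeff y' = (b : k) * constantCoeff y := by
  have hnat : ∀ (W : (k⟦X⟧)ˣ) (w : k⟦X⟧), (W : k⟦X⟧) = 1 + X ^ n * w → ∀ N : ℕ,
      ∃ y', ((W ^ N : (k⟦X⟧)ˣ) : k⟦X⟧) = 1 + X ^ n * y' ∧
        constantCoeff y' = (N : k) * constantCoeff w := by
    intro W w hW N
    induction N with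
    | zero => exact ⟨0, by simp, by simp⟩
    | succ N ih =>
      obtain ⟨y₁, h1, h2⟩ := ih
      obtain ⟨y₂, h3, h4⟩ := mul_expand hn h1 hW
      refine ⟨y₂, by rw [pow_succ, Units.val_mul]; exact h3, ?_⟩
      rw [h4, h2]; push_cast; ring
  obtain ⟨N, rfl | rfl⟩ := Int.eq_nat_or_neg b
  · obtain ⟨y', h1, h2⟩ := hnat V y hV N
    exact ⟨y', by rw [zpow_natCast]; exact h1, by rw [h2]; simp⟩
  · obtain ⟨yi, hi1, hi2⟩ := inv_expand hn V hV
    obtain ⟨y', h1, h2⟩ := hnat V⁻¹ yi hi1 N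
    refine ⟨y', by rw [zpow_neg, zpow_natCast, ← inv_pow]; exact h1, ?_⟩
    rw [h2, hi2]; push_cast; ring

/-- `1 + T + ⋯ + T^(p-1) = (T - 1)^(p-1)` in characteristic `p`. -/
lemma sum_pow_eq (p : ℕ) [hp : Fact p.Prime] [CharP k p] {V : Type*} [AddCommGroup V] [Module k V]
    (T : Module.End k V) : ∑ i ∈ Finset.range p, T ^ i = (T - 1) ^ (p - 1) := by
  have hpoly : (∑ i ∈ Finset.range p, (Polynomial.X : Polynomial k) ^ i)
      = (Polynomial.X - 1) ^ (p - 1) := by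
    have h1 : (Polynomial.X - 1 : Polynomial k) * ∑ i ∈ Finset.range p, Polynomial.X ^ i
        = Polynomial.X ^ p - 1 := mul_geom_sum _ _
    have h2 : (Polynomial.X - 1 : Polynomial k) ^ p = Polynomial.X ^ p - 1 := by
      rw [sub_pow_char, one_pow]
    have h3 : (Polynomial.X - 1 : Polynomial k) ≠ 0 := by
      have := Polynomial.X_sub_C_ne_zero (1 : k); simpa using this
    have h4 : (Polynomial.X - 1 : Polynomial k) ^ p
        = (Polynomial.X - 1) * (Polynomial.X - 1) ^ (p - 1) := by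
      rw [← pow_succ', Nat.sub_add_cancel hp.out.one_le]
    exact mul_left_cancel₀ h3 (h1.trans (h2.symm.trans h4))
  have := congrArg (Polynomial.aeval T) hpoly
  simpa using this

/-- `(T - 1)^p = T^p - 1` in characteristic `p`. -/
lemma sub_one_pow_p (p : ℕ) [hp : Fact p.Prime] [CharP k p] {V : Type*} [AddCommGroup V]
    [Module k V] (T : Module.End k V) : (T - 1) ^ p = T ^ p - 1 := by
  have h2 : (Polynomial.X - 1 : Polynomial k) ^ p = Polynomial.X ^ p - 1 := by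
    rw [sub_pow_char, one_pow]
  have := congrArg (Polynomial.aeval T) h2
  simpa using this

end Expand

section Ops

variable {k : Type*} [Field k] (u : k⟦X⟧) (U : (k⟦X⟧)ˣ)

/-- The twisted operator `h ↦ U^b · h(t u)`. -/
noncomputable def Tb (b : ℤ) : k⟦X⟧ →ₗ[k] k⟦X⟧ :=
  (LinearMap.mulLeft k (((U ^ b : (k⟦X⟧)ˣ)) : k⟦X⟧)).comp (sig u).toLinearMap

lemma Tb_apply (b : ℤ) (h : k⟦X⟧) :
    Tb u U b h = ((U ^ b : (k⟦X⟧)ˣ) : k⟦X⟧) * sig u h := rfl

/-- `T_b - 1`. -/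
noncomputable def Db (b : ℤ) : k⟦X⟧ →ₗ[k] k⟦X⟧ := Tb u U b - 1

lemma Db_apply (b : ℤ) (h : k⟦X⟧) : Db u U b h = Tb u U b h - h := rfl

/-- The substitution as a linear endomorphism. -/
noncomputable def σL : Module.End k k⟦X⟧ := (sig u).toLinearMap

lemma σL_apply (f : k⟦X⟧) : σL u f = sig u f := rfl

lemma Tb_pow_mul (b : ℤ) : ∀ (l : ℕ) (f h : k⟦X⟧),
    ((Tb u U b) ^ l) (f * h) = ((σL u) ^ l) f * ((Tb u U b) ^ l) h := by
  intro l
  induction l with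
  | zero => intro f h; simp
  | succ l ih =>
    intro f h
    have e1 : ((Tb u U b) ^ (l + 1)) (f * h) = Tb u U b (((Tb u U b) ^ l) (f * h)) := by
      rw [pow_succ', Module.End.mul_apply]
    have e2 : ((Tb u U b) ^ (l + 1)) h = Tb u U b (((Tb u U b) ^ l) h) := by
      rw [pow_succ', Module.End.mul_apply]
    have e3 : ((σL u) ^ (l + 1)) f = sig u (((σL u) ^ l) f) := by
      rw [pow_succ', Module.End.mul_apply, σL_apply]
    rw [e1, e2, e3, ih, Tb_apply, Tb_apply, map_mul]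
    ring

lemma sig_pow_eq_one {p : ℕ} (a : ℤ) (hTa : (Tb u U a) ^ p = 1) : (σL u) ^ p = 1 := by
  refine LinearMap.ext fun f => ?_
  have h := Tb_pow_mul u U a p f 1
  rw [mul_one, hTa, Module.End.one_apply, Module.End.one_apply, mul_one] at h
  rw [Module.End.one_apply]
  exact h.symm

/-- Data about `u`. -/
structure Data (n : ℕ) (u : k⟦X⟧) (U : (k⟦X⟧)ˣ) (z : k⟦X⟧) : Prop where
  hn : 0 < n
  hU : (U : k⟦X⟧) = u
  hz : u = 1 + X ^ n * z
  hz0 : constantCoeff z ≠ 0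
  hnk : (n : k) ≠ 0

variable {u U} {n : ℕ} {z : k⟦X⟧}

lemma Data.hUz (D : Data n u U z) : (U : k⟦X⟧) = 1 + X ^ n * z := by rw [D.hU]; exact D.hz

lemma Db_lead (D : Data n u U z) (b : ℤ) (x : k⟦X⟧) :
    ∃ r, Db u U b x = X ^ n * r ∧
      constantCoeff r = (b : k) * constantCoeff z * constantCoeff x := by
  obtain ⟨y, hy1, hy2⟩ := zpow_expand D.hn U D.hUz b
  have h := sig_sub_dvd D.hz (n + 1) x
  rw [min_self] at h
  obtain ⟨q, hq⟩ := h
  refine ⟨y * sig u x + X * q, ?_, ?_⟩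
  · rw [Db_apply, Tb_apply, hy1]; linear_combination hq
  · rw [map_add, map_mul, map_mul, constantCoeff_X, zero_mul, add_zero, constantCoeff_sig, hy2]

lemma Tb_X_pow_mul (D : Data n u U z) (b : ℤ) (s : ℕ) (x : k⟦X⟧) :
    Tb u U b (X ^ s * x) = X ^ s * Tb u U (b + s) x := by
  rw [Tb_apply, Tb_apply, map_mul, map_pow, sig_X, zpow_add, Units.val_mul, zpow_natCast,
    Units.val_pow_eq_pow_val, D.hU]
  ring

lemma Db_X_pow_mul (D : Data n u U z) (b : ℤ) (s : ℕ) (x : k⟦X⟧) :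
    Db u U b (X ^ s * x) = X ^ s * Db u U (b + s) x := by
  rw [Db_apply, Db_apply, Tb_X_pow_mul D, mul_sub]

lemma Tb_pow_X_pow_mul (D : Data n u U z) (b : ℤ) (s : ℕ) : ∀ (l : ℕ) (x : k⟦X⟧),
    ((Tb u U b) ^ l) (X ^ s * x) = X ^ s * ((Tb u U (b + s)) ^ l) x := by
  intro l
  induction l with
  | zero => intro x; simp
  | succ l ih =>
    intro x
    rw [pow_succ', Module.End.mul_apply, ih, Tb_X_pow_mul D, pow_succ', Module.End.mul_apply]

lemma Db_pow_X_pow_mul (D : Data n u U z) (b : ℤ) (s : ℕ) : ∀ (l : ℕ) (x : k⟦X⟧),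
    ((Db u U b) ^ l) (X ^ s * x) = X ^ s * ((Db u U (b + s)) ^ l) x := by
  intro l
  induction l with
  | zero => intro x; simp
  | succ l ih =>
    intro x
    rw [pow_succ', Module.End.mul_apply, ih, Db_X_pow_mul D, pow_succ', Module.End.mul_apply]

lemma Db_pow_lead (D : Data n u U z) : ∀ (l : ℕ) (b : ℤ) (x : k⟦X⟧),
    ∃ r, ((Db u U b) ^ l) x = X ^ (l * n) * r ∧
      constantCoeff r = (∏ i ∈ Finset.range l,
        (((b + ((i * n : ℕ) : ℤ) : ℤ) : k) * constantCoeff z)) * constantCoeff x := by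
  intro l
  induction l with
  | zero => intro b x; exact ⟨x, by simp, by simp⟩
  | succ l ih =>
    intro b x
    obtain ⟨r, h1, h2⟩ := ih b x
    obtain ⟨r', h3, h4⟩ := Db_lead D (b + ((l * n : ℕ) : ℤ)) r
    refine ⟨r', ?_, ?_⟩
    · rw [pow_succ', Module.End.mul_apply, h1, Db_X_pow_mul D, h3]; ring
    · rw [h4, h2, Finset.prod_range_succ]; ring

variable (p : ℕ) [hp : Fact p.Prime] [CharP k p]

lemma Tb_pow_eq_one_sub (D : Data n u U z) (a : ℤ) (hTa : (Tb u U a) ^ p = 1) (m : ℕ) :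
    (Tb u U (a - m)) ^ p = 1 := by
  have hσ := sig_pow_eq_one u U a hTa
  obtain ⟨w, hw⟩ : ∃ w, w = ((Tb u U (a - m)) ^ p) 1 := ⟨_, rfl⟩
  have h1 : ((Tb u U (a - m)) ^ p) (X ^ m * 1) = X ^ m * ((Tb u U (a - m + m)) ^ p) 1 :=
    Tb_pow_X_pow_mul D (a - m) m p 1
  rw [sub_add_cancel, hTa, Module.End.one_apply] at h1
  have h2 := Tb_pow_mul u U (a - m) p (X ^ m) 1
  rw [hσ, Module.End.one_apply, ← hw] at h2
  have hw1 : w = 1 := by
    have : X ^ m * w = X ^ m * 1 := h2.symm.trans h1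
    exact mul_left_cancel₀ (pow_ne_zero m X_ne_zero) this
  refine LinearMap.ext fun f => ?_
  have h3 := Tb_pow_mul u U (a - m) p f 1
  rw [mul_one, hσ, Module.End.one_apply, ← hw, hw1, mul_one] at h3
  rw [h3, Module.End.one_apply]

lemma Db_pow_p_eq_zero {b : ℤ} (hT : (Tb u U b) ^ p = 1) : (Db u U b) ^ p = 0 := by
  rw [Db, sub_one_pow_p, hT, sub_self]

lemma Db_pow_Db (a : ℤ) (hTa : (Tb u U a) ^ p = 1) (w : k⟦X⟧) :
    ((Db u U a) ^ (p - 1)) (Db u U a w) = 0 := by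
  rw [← Module.End.mul_apply, ← pow_succ, Nat.sub_add_cancel hp.out.one_le,
    Db_pow_p_eq_zero p hTa, LinearMap.zero_apply]

lemma Db_pow_c_eq_zero (D : Data n u U z) (a : ℤ) (hTa : (Tb u U a) ^ p = 1) {m : ℕ} {c : k⟦X⟧}
    (hc : X ^ m * c = ((U ^ (a - m) : (k⟦X⟧)ˣ) : k⟦X⟧) - 1) :
    ((Db u U a) ^ (p - 1)) c = 0 := by
  have hT := Tb_pow_eq_one_sub p D a hTa m
  have h1 : Db u U (a - m) 1 = X ^ m * c := by
    rw [Db_apply, Tb_apply, map_one, mul_one, hc]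
  have h2 : ((Db u U (a - m)) ^ (p - 1)) (Db u U (a - m) 1) = 0 := Db_pow_Db p (a - m) hT 1
  have h3 : ((Db u U (a - m)) ^ (p - 1)) (X ^ m * c)
      = X ^ m * ((Db u U (a - m + m)) ^ (p - 1)) c := Db_pow_X_pow_mul D (a - m) m (p - 1) c
  rw [sub_add_cancel, ← h1, h2] at h3
  exact (mul_eq_zero.1 h3.symm).resolve_left (pow_ne_zero m X_ne_zero)

lemma lead_zero_of_cocycle (D : Data n u U z) (a : ℤ) (s : ℕ) (x : k⟦X⟧)
    (hN : ((Db u U a) ^ (p - 1)) (X ^ s * x) = 0)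
    (hzero : ((a + (s : ℤ) - (n : ℤ) : ℤ) : k) = 0) : constantCoeff x = 0 := by
  rw [Db_pow_X_pow_mul D] at hN
  obtain ⟨r, h1, h2⟩ := Db_pow_lead D (p - 1) (a + s) x
  rw [h1] at hN
  have hr : r = 0 := by
    have h3 := (mul_eq_zero.1 hN).resolve_left (pow_ne_zero _ X_ne_zero)
    exact (mul_eq_zero.1 h3).resolve_left (pow_ne_zero _ X_ne_zero)
  rw [hr, map_zero] at h2
  have hprod : (∏ i ∈ Finset.range (p - 1),
      (((a + (s : ℤ) + ((i * n : ℕ) : ℤ) : ℤ) : k) * constantCoeff z)) ≠ 0 := by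
    rw [Finset.prod_ne_zero_iff]
    intro i hi
    have hi' : i + 1 < p := by
      have := Finset.mem_range.1 hi
      have := hp.out.one_le
      omega
    have e : (((a + (s : ℤ) + ((i * n : ℕ) : ℤ) : ℤ)) : k) = ((i + 1 : ℕ) : k) * (n : k) := by
      have e0 : ((a + (s : ℤ) + ((i * n : ℕ) : ℤ) : ℤ))
          = (a + (s : ℤ) - (n : ℤ)) + (((i + 1) * n : ℕ) : ℤ) := by push_cast; ring
      rw [e0, Int.cast_add, hzero, zero_add]; push_cast; ring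
    rw [e]
    refine mul_ne_zero (mul_ne_zero ?_ D.hnk) D.hz0
    intro h0
    rw [CharP.cast_eq_zero_iff k p] at h0
    exact Nat.not_dvd_of_pos_of_lt (Nat.succ_pos i) hi' h0
  exact (mul_eq_zero.1 h2.symm).resolve_left hprod

lemma kill_high (D : Data n u U z) (a : ℤ) (M : ℕ) (r : k⟦X⟧)
    (hN : ((Db u U a) ^ (p - 1)) r = 0) (hdvd : X ^ (n + M) ∣ r) :
    X ^ (n + M + 1) ∣ r - Db u U a
      (C (coeff (n + M) r / (((a + (M : ℤ) : ℤ) : k) * constantCoeff z)) * X ^ M) := by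
  obtain ⟨x, rfl⟩ := hdvd
  have hco : coeff (n + M) (X ^ (n + M) * x) = constantCoeff x := by
    rw [coeff_X_pow_mul', if_pos le_rfl, Nat.sub_self, coeff_zero_eq_constantCoeff_apply]
  rw [hco]
  obtain ⟨μ, hμ⟩ : ∃ μ : k, μ = constantCoeff x / (((a + (M : ℤ) : ℤ) : k) * constantCoeff z) :=
    ⟨_, rfl⟩
  rw [← hμ]
  obtain ⟨r1, h1, h2⟩ := Db_lead D (a + (M : ℤ)) (C μ)
  have e1 : Db u U a (C μ * X ^ M) = X ^ (n + M) * r1 := by
    rw [mul_comm (C μ) (X ^ M), Db_X_pow_mul D, h1]; ring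
  have hkey : constantCoeff (x - r1) = 0 := by
    rw [map_sub, h2, constantCoeff_C, sub_eq_zero]
    by_cases h0 : ((a + (M : ℤ) : ℤ) : k) = 0
    · have hx0 : constantCoeff x = 0 := by
        apply lead_zero_of_cocycle p D a (n + M) x hN
        have e0 : ((a + ((n + M : ℕ) : ℤ) - (n : ℤ) : ℤ)) = a + (M : ℤ) := by push_cast; ring
        rw [e0]; exact h0
      rw [hx0, h0]; ring
    · have hz0 := D.hz0
      rw [hμ]; field_simp
  obtain ⟨q, hq⟩ := X_dvd_iff.2 hkey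
  refine ⟨q, ?_⟩
  rw [e1, ← mul_sub, hq]; ring

/-- The index set of the basis. -/
def Sset (p n : ℕ) (a : ℤ) : Finset ℕ :=
  (Finset.Icc 1 n).filter (fun m : ℕ => ¬ (p : ℤ) ∣ a - (m : ℤ))

lemma mem_Sset {p n : ℕ} {a : ℤ} {m : ℕ} :
    m ∈ Sset p n a ↔ 1 ≤ m ∧ m ≤ n ∧ ¬ (p : ℤ) ∣ a - (m : ℤ) := by
  unfold Sset
  rw [Finset.mem_filter, Finset.mem_Icc, and_assoc]

lemma Db_pow_sub_sum (a : ℤ) (c : ℕ → k⟦X⟧)
    (hcN : ∀ m : ℕ, 1 ≤ m → m ≤ n → ((Db u U a) ^ (p - 1)) (c m) = 0)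
    (r : k⟦X⟧) (hr : ((Db u U a) ^ (p - 1)) r = 0) (lam : ℕ → k) :
    ((Db u U a) ^ (p - 1)) (r - ∑ m ∈ Sset p n a, lam m • c m) = 0 := by
  rw [map_sub, hr, map_sum, zero_sub, neg_eq_zero]
  refine Finset.sum_eq_zero fun m hm => ?_
  obtain ⟨h1, h2, _⟩ := mem_Sset.1 hm
  rw [map_smul, hcN m h1 h2, smul_zero]

lemma phase1 (D : Data n u U z) (a : ℤ) (c : ℕ → k⟦X⟧)
    (hc : ∀ m : ℕ, 1 ≤ m → m ≤ n → X ^ m * c m = ((U ^ (a - m) : (k⟦X⟧)ˣ) : k⟦X⟧) - 1)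
    (hcN : ∀ m : ℕ, 1 ≤ m → m ≤ n → ((Db u U a) ^ (p - 1)) (c m) = 0)
    (r : k⟦X⟧) (hr : ((Db u U a) ^ (p - 1)) r = 0) :
    ∀ s : ℕ, s ≤ n → ∃ lam : ℕ → k, X ^ s ∣ r - ∑ m ∈ Sset p n a, lam m • c m := by
  intro s
  induction s with
  | zero => intro _; exact ⟨fun _ => 0, by simp⟩
  | succ s ih =>
    intro hs
    obtain ⟨lam, x, hx⟩ := ih (by omega)
    have hr' : ((Db u U a) ^ (p - 1)) (X ^ s * x) = 0 := by
      rw [← hx]; exact Db_pow_sub_sum p a c hcN r hr lam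
    by_cases hx0 : constantCoeff x = 0
    · obtain ⟨q, hq⟩ := X_dvd_iff.2 hx0
      exact ⟨lam, q, by rw [hx, hq]; ring⟩
    · have hne : ((a + (s : ℤ) - (n : ℤ) : ℤ) : k) ≠ 0 :=
        fun h0 => hx0 (lead_zero_of_cocycle p D a s x hr' h0)
      obtain ⟨m, hm⟩ : ∃ m : ℕ, m = n - s := ⟨_, rfl⟩
      have hm1 : 1 ≤ m := by omega
      have hmn : m ≤ n := by omega
      have hms : m + s = n := by omega
      have hcast : (a - (m : ℤ)) = a + (s : ℤ) - (n : ℤ) := by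
        have e0 : (n : ℤ) = (m : ℤ) + (s : ℤ) := by exact_mod_cast hms.symm
        rw [e0]; ring
      have hmS : m ∈ Sset p n a := by
        rw [mem_Sset]; refine ⟨hm1, hmn, ?_⟩
        intro hdvd
        apply hne
        rw [← hcast]
        exact (CharP.intCast_eq_zero_iff k p _).2 hdvd
      obtain ⟨y, hy1, hy2⟩ := zpow_expand D.hn U D.hUz (a - (m : ℤ))
      have hcm : c m = X ^ s * y := by
        have h1 := hc m hm1 hmn
        rw [hy1, add_sub_cancel_left, ← hms, pow_add, mul_assoc] at h1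
        exact mul_left_cancel₀ (pow_ne_zero m X_ne_zero) h1
      have hy0 : constantCoeff y ≠ 0 := by
        rw [hy2, hcast]; exact mul_ne_zero hne D.hz0
      obtain ⟨t, ht⟩ : ∃ t : k, t = constantCoeff x / constantCoeff y := ⟨_, rfl⟩
      refine ⟨fun m' => lam m' + (if m' = m then t else 0), ?_⟩
      show X ^ (s + 1) ∣ r - ∑ m' ∈ Sset p n a, (lam m' + (if m' = m then t else 0)) • c m'
      have hsum : ∑ m' ∈ Sset p n a, (lam m' + (if m' = m then t else 0)) • c m'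
          = ∑ m' ∈ Sset p n a, lam m' • c m' + t • c m := by
        simp only [add_smul, Finset.sum_add_distrib, ite_smul, zero_smul, Finset.sum_ite_eq', hmS,
          if_true]
      have hk : constantCoeff (x - C t * y) = 0 := by
        rw [map_sub, map_mul, constantCoeff_C, ht, div_mul_cancel₀ _ hy0, sub_self]
      obtain ⟨q, hq⟩ := X_dvd_iff.2 hk
      refine ⟨q, ?_⟩
      rw [hsum, ← sub_sub, hx, hcm, smul_eq_C_mul]
      have e2 : X ^ s * x - C t * (X ^ s * y) = X ^ s * (x - C t * y) := by ring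
      rw [e2, hq]; ring

/-- successive approximations of a primitive -/
noncomputable def Wseq (n : ℕ) (u : k⟦X⟧) (U : (k⟦X⟧)ˣ) (z0 : k) (a : ℤ) (r : k⟦X⟧) : ℕ → k⟦X⟧
  | 0 => 0
  | (M + 1) => Wseq n u U z0 a r M +
      C (coeff (n + M) (r - Db u U a (Wseq n u U z0 a r M)) / (((a + (M : ℤ) : ℤ) : k) * z0)) * X ^ M

lemma Wseq_succ (z0 : k) (a : ℤ) (r : k⟦X⟧) (M : ℕ) :
    Wseq n u U z0 a r (M + 1) = Wseq n u U z0 a r M +
      C (coeff (n + M) (r - Db u U a (Wseq n u U z0 a r M)) / (((a + (M : ℤ) : ℤ) : k) * z0))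
        * X ^ M := rfl

lemma Wseq_dvd (D : Data n u U z) (a : ℤ) (hTa : (Tb u U a) ^ p = 1) (r : k⟦X⟧)
    (hr : ((Db u U a) ^ (p - 1)) r = 0) (hdvd : X ^ n ∣ r) :
    ∀ M : ℕ, X ^ (n + M) ∣ r - Db u U a (Wseq n u U (constantCoeff z) a r M) := by
  intro M
  induction M with
  | zero =>
    show X ^ (n + 0) ∣ r - Db u U a 0
    rw [map_zero, sub_zero, add_zero]; exact hdvd
  | succ M ih =>
    have hN' : ((Db u U a) ^ (p - 1)) (r - Db u U a (Wseq n u U (constantCoeff z) a r M)) = 0 := by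
      rw [map_sub, hr, Db_pow_Db p a hTa, sub_zero]
    have h := kill_high p D a M _ hN' ih
    rw [Wseq_succ, map_add, ← sub_sub]
    exact h

lemma Wseq_coeff_succ (z0 : k) (a : ℤ) (r : k⟦X⟧) (i M : ℕ) (h : i < M) :
    coeff i (Wseq n u U z0 a r (M + 1)) = coeff i (Wseq n u U z0 a r M) := by
  rw [Wseq_succ, map_add, coeff_C_mul, coeff_X_pow, if_neg (by omega), mul_zero, add_zero]

lemma Wseq_coeff (z0 : k) (a : ℤ) (r : k⟦X⟧) (i d : ℕ) :
    coeff i (Wseq n u U z0 a r (i + 1 + d)) = coeff i (Wseq n u U z0 a r (i + 1)) := by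
  induction d with
  | zero => rfl
  | succ d ih => rw [← add_assoc, Wseq_coeff_succ _ _ _ _ _ (by omega), ih]

lemma phase2 (D : Data n u U z) (a : ℤ) (hTa : (Tb u U a) ^ p = 1) (r : k⟦X⟧)
    (hr : ((Db u U a) ^ (p - 1)) r = 0) (hdvd : X ^ n ∣ r) : ∃ w, Db u U a w = r := by
  obtain ⟨W, hW⟩ : ∃ W : ℕ → k⟦X⟧, W = Wseq n u U (constantCoeff z) a r := ⟨_, rfl⟩
  obtain ⟨Wl, hWl⟩ : ∃ Wl : k⟦X⟧, Wl = PowerSeries.mk (fun i => coeff i (W (i + 1))) := ⟨_, rfl⟩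
  refine ⟨Wl, ?_⟩
  have hlim : ∀ M, X ^ M ∣ Wl - W M := by
    intro M
    rw [X_pow_dvd_iff]
    intro i hi
    obtain ⟨d, rfl⟩ : ∃ d, M = i + 1 + d := ⟨M - (i + 1), by omega⟩
    rw [map_sub, hWl, coeff_mk, hW, Wseq_coeff, sub_self]
  have hall : ∀ M, X ^ M ∣ r - Db u U a Wl := by
    intro M
    obtain ⟨q, hq⟩ := hlim M
    have h1 : X ^ M ∣ r - Db u U a (W M) := by
      rw [hW]
      exact dvd_trans (pow_dvd_pow X (Nat.le_add_left M n)) (Wseq_dvd p D a hTa r hr hdvd M)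
    have h2 : Db u U a Wl = Db u U a (W M) + X ^ M * Db u U (a + M) q := by
      have e : Wl = W M + X ^ M * q := by rw [← hq]; ring
      rw [e, map_add, Db_X_pow_mul D]
    rw [h2, ← sub_sub]
    exact dvd_sub h1 (dvd_mul_right _ _)
  have h0 : r - Db u U a Wl = 0 := by
    ext i
    have := (X_pow_dvd_iff.1 (hall (i + 1))) i (Nat.lt_succ_self i)
    rw [this, map_zero]
  exact (sub_eq_zero.1 h0).symm

/-- Every cocycle is a combination of the `c m` modulo a coboundary. -/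
theorem spanning (D : Data n u U z) (a : ℤ) (hTa : (Tb u U a) ^ p = 1) (c : ℕ → k⟦X⟧)
    (hc : ∀ m : ℕ, 1 ≤ m → m ≤ n → X ^ m * c m = ((U ^ (a - m) : (k⟦X⟧)ˣ) : k⟦X⟧) - 1)
    (r : k⟦X⟧) (hr : ((Db u U a) ^ (p - 1)) r = 0) :
    ∃ (lam : ℕ → k) (w : k⟦X⟧), r = ∑ m ∈ Sset p n a, lam m • c m + Db u U a w := by
  have hcN : ∀ m : ℕ, 1 ≤ m → m ≤ n → ((Db u U a) ^ (p - 1)) (c m) = 0 :=
    fun m h1 h2 => Db_pow_c_eq_zero p D a hTa (hc m h1 h2)
  obtain ⟨lam, hdvd⟩ := phase1 p D a c hc hcN r hr n le_rfl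
  have hr' := Db_pow_sub_sum p a c hcN r hr lam
  obtain ⟨w, hw⟩ := phase2 p D a hTa _ hr' hdvd
  exact ⟨lam, w, by rw [hw]; ring⟩

/-- the chosen cocycle representatives -/
lemma exists_c (D : Data n u U z) (a : ℤ) :
    ∃ c : ℕ → k⟦X⟧, ∀ m : ℕ, 1 ≤ m → m ≤ n →
      X ^ m * c m = ((U ^ (a - m) : (k⟦X⟧)ˣ) : k⟦X⟧) - 1 := by
  have h : ∀ m : ℕ, ∃ y : k⟦X⟧, ((U ^ (a - (m : ℤ)) : (k⟦X⟧)ˣ) : k⟦X⟧) = 1 + X ^ n * y := by
    intro m
    obtain ⟨y, hy, _⟩ := zpow_expand D.hn U D.hUz (a - (m : ℤ))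
    exact ⟨y, hy⟩
  choose y hy using h
  refine ⟨fun m => X ^ (n - m) * y m, fun m hm1 hmn => ?_⟩
  rw [hy m, add_sub_cancel_left, ← mul_assoc, ← pow_add, Nat.add_sub_cancel' hmn]

/-- counting -/
lemma sub_one_ediv (p : ℕ) (hp0 : 0 < p) (y : ℤ) :
    (y - 1) / (p : ℤ) = y / (p : ℤ) - (if (p : ℤ) ∣ y then 1 else 0) := by
  have hpz : (0 : ℤ) < p := by exact_mod_cast hp0
  by_cases h : (p : ℤ) ∣ y
  · rw [if_pos h]
    obtain ⟨q, rfl⟩ := h
    rw [Int.mul_ediv_cancel_left _ hpz.ne']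
    exact ((Int.ediv_emod_unique (a := (p : ℤ) * q - 1) (q := q - 1) (r := (p : ℤ) - 1) hpz).2
      ⟨by ring, by omega, by omega⟩).1
  · rw [if_neg h, sub_zero]
    have h1 : y % (p : ℤ) ≠ 0 := fun h0 => h (Int.dvd_of_emod_eq_zero h0)
    have h2 := Int.emod_nonneg y hpz.ne'
    have h3 := Int.emod_lt_of_pos y hpz
    have h4 := Int.emod_add_mul_ediv y p
    exact ((Int.ediv_emod_unique (a := y - 1) (q := y / (p : ℤ)) (r := y % (p : ℤ) - 1) hpz).2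
      ⟨by linarith, by omega, by omega⟩).1

lemma card_Sset (p : ℕ) (hp0 : 0 < p) (a : ℤ) (n : ℕ) :
    ((Sset p n a).card : ℤ) = n - (a - 1) / (p : ℤ) + (a - 1 - n) / (p : ℤ) := by
  induction n with
  | zero => simp [Sset]
  | succ n ih =>
    have hS : Sset p (n + 1) a = if ¬ (p : ℤ) ∣ a - ((n + 1 : ℕ) : ℤ) then insert (n + 1) (Sset p n a)
        else Sset p n a := by
      unfold Sset
      rw [← Finset.insert_Icc_right_eq_Icc_add_one (by omega : 1 ≤ n + 1), Finset.filter_insert]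
    have hnot : (n + 1) ∉ Sset p n a := by
      intro h; have := (mem_Sset.1 h).2.1; omega
    have hstep := sub_one_ediv p hp0 (a - 1 - n)
    have e1 : (a - 1 - ((n + 1 : ℕ) : ℤ)) = a - 1 - n - 1 := by push_cast; ring
    have e2 : a - ((n + 1 : ℕ) : ℤ) = a - 1 - n := by push_cast; ring
    rw [hS, e1, hstep, e2]
    by_cases h : (p : ℤ) ∣ a - 1 - n
    · rw [if_neg (not_not.2 h), if_pos h, ih]; push_cast; ring
    · rw [if_pos h, if_neg h, Finset.card_insert_of_notMem hnot]; push_cast; rw [ih]; ring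

end Ops

end Groth.Agent.Lib.Helper4.ASCovB
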