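import Mathlib

/-!
# `H¹` of a finite cyclic group, by hand, through the low-degree cocycle API

For `G` generated by `g` of order `p` and `A : Rep k G`, `H¹(G, A)` is the quotient of
`ker (1 + g + ⋯ + g^(p-1))` by the image of `g - 1`: we construct a surjection `Φ` from the kernel
of the partial norm `S p` onto `H¹` and identify its kernel.
-/

set_option autoImplicit false
set_option linter.style.haveILetI false
set_option linter.unusedSectionVars false
set_option linter.unusedVariables false
set_option linter.unusedSimpArgs false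
set_option maxHeartbeats 1600000
set_option maxSynthPendingDepth 3

universe u

namespace Groth.Agent.Lib.Helper4.CycH1

open CategoryTheory groupCohomology

section

variable {k G : Type u} [CommRing k] [Group G] (A : Rep k G) (g : G)

/-- The partial norm `1 + g + ⋯ + g^(i-1)`. -/
noncomputable def S (i : ℕ) : A.V →ₗ[k] A.V := ∑ j ∈ Finset.range i, (A.ρ g) ^ j

lemma S_apply (i : ℕ) (x : A.V) : S A g i x = ∑ j ∈ Finset.range i, ((A.ρ g) ^ j) x := by
  unfold S; rw [LinearMap.sum_apply]

lemma S_zero (x : A.V) : S A g 0 x = 0 := by simp [S_apply]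

lemma S_succ (i : ℕ) (x : A.V) : S A g (i + 1) x = A.ρ g (S A g i x) + x := by
  rw [S_apply, S_apply, Finset.sum_range_succ', map_sum]
  simp only [pow_zero, Module.End.one_apply, pow_succ', Module.End.mul_apply]

lemma S_one (x : A.V) : S A g 1 x = x := by
  rw [S_succ, S_zero, map_zero, zero_add]

lemma S_add (i j : ℕ) (x : A.V) :
    S A g (i + j) x = S A g i x + ((A.ρ g) ^ i) (S A g j x) := by
  rw [S_apply, S_apply, S_apply, Finset.sum_range_add, map_sum]
  congr 1
  refine Finset.sum_congr rfl fun l _ => ?_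
  rw [pow_add, Module.End.mul_apply]

lemma S_add_mul (p : ℕ) (x : A.V) (hN : S A g p x = 0) (i q : ℕ) :
    S A g (i + p * q) x = S A g i x := by
  induction q with
  | zero => simp
  | succ q ih =>
    have e : i + p * (q + 1) = (i + p * q) + p := by ring
    rw [e, S_add, hN, map_zero, add_zero, ih]

lemma S_congr (p : ℕ) (x : A.V) (hN : S A g p x = 0) {i i' : ℕ} (h : i ≡ i' [MOD p]) :
    S A g i x = S A g i' x := by
  have h1 := S_add_mul A g p x hN (i % p) (i / p)
  have h2 := S_add_mul A g p x hN (i' % p) (i' / p)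
  rw [Nat.mod_add_div] at h1 h2
  have h' : i % p = i' % p := h
  rw [h1, h2, h']

lemma cocycle_pow {f : G → A.V} (hf : f ∈ cocycles₁ A) (i : ℕ) :
    f (g ^ i) = S A g i (f g) := by
  induction i with
  | zero =>
    rw [pow_zero, S_zero]
    exact cocycles₁_map_one ⟨f, hf⟩
  | succ i ih =>
    rw [pow_succ', (mem_cocycles₁_iff f).1 hf g (g ^ i), ih, S_succ]

/-- `g` generates `G` and has order `p > 0`. -/
structure Gen (g : G) (p : ℕ) : Prop where
  gen : ∀ x, x ∈ Subgroup.zpowers g
  pos : 0 < p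
  order : orderOf g = p

variable {g} {p : ℕ}

lemma Gen.pow_eq_one (h : Gen g p) : g ^ p = 1 := by
  rw [← h.order]; exact pow_orderOf_eq_one g

lemma Gen.exists_pow (h : Gen g p) (x : G) : ∃ i : ℕ, g ^ i = x := by
  obtain ⟨z, hz⟩ := Subgroup.mem_zpowers_iff.1 (h.gen x)
  refine ⟨(z % (p : ℤ)).toNat, ?_⟩
  have h0 : 0 ≤ z % (p : ℤ) := Int.emod_nonneg z (by exact_mod_cast h.pos.ne')
  rw [← zpow_natCast, Int.toNat_of_nonneg h0, ← hz]
  exact (zpow_eq_zpow_emod' z h.pow_eq_one).symm

lemma cocycle_ext (h : Gen g p) {f₁ f₂ : G → A.V} (h₁ : f₁ ∈ cocycles₁ A)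
    (h₂ : f₂ ∈ cocycles₁ A) (he : f₁ g = f₂ g) : f₁ = f₂ := by
  funext x
  obtain ⟨i, rfl⟩ := h.exists_pow x
  rw [cocycle_pow A g h₁, cocycle_pow A g h₂, he]

/-- A chosen exponent. -/
noncomputable def idx (h : Gen g p) (x : G) : ℕ := Classical.choose (h.exists_pow x)

lemma idx_spec (h : Gen g p) (x : G) : g ^ idx h x = x := Classical.choose_spec (h.exists_pow x)

lemma idx_pow (h : Gen g p) (i : ℕ) : idx h (g ^ i) ≡ i [MOD p] := by
  have := idx_spec h (g ^ i)
  rw [pow_eq_pow_iff_modEq, h.order] at this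
  exact this

/-- The cocycle with value `x` at `g`. -/
noncomputable def cocycleOf (h : Gen g p) (x : A.V) : G → A.V := fun y => S A g (idx h y) x

lemma cocycleOf_mem (h : Gen g p) {x : A.V} (hN : S A g p x = 0) :
    cocycleOf A h x ∈ cocycles₁ A := by
  rw [mem_cocycles₁_iff]
  intro y y'
  have hy := idx_spec h y
  have hy' := idx_spec h y'
  have e : idx h (y * y') ≡ idx h y + idx h y' [MOD p] := by
    have := idx_pow h (idx h y + idx h y')
    rwa [pow_add, hy, hy'] at this
  have hρ : A.ρ y = (A.ρ g) ^ (idx h y) := by rw [← map_pow, hy]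
  show S A g (idx h (y * y')) x = A.ρ y (S A g (idx h y') x) + S A g (idx h y) x
  rw [S_congr A g p x hN e, S_add, add_comm, hρ]

lemma cocycleOf_g (h : Gen g p) {x : A.V} (hN : S A g p x = 0) : cocycleOf A h x g = x := by
  have e : idx h g ≡ 1 [MOD p] := by
    have := idx_pow h 1
    rwa [pow_one] at this
  show S A g (idx h g) x = x
  rw [S_congr A g p x hN e, S_one]

/-- The linear map from `ker (S p)` to the 1-cocycles. -/
noncomputable def F (h : Gen g p) : LinearMap.ker (S A g p) →ₗ[k] cocycles₁ A where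
  toFun x := ⟨cocycleOf A h x.1, cocycleOf_mem A h (LinearMap.mem_ker.1 x.2)⟩
  map_add' x y := by
    apply Subtype.ext
    funext z
    simp [cocycleOf, map_add]
  map_smul' c x := by
    apply Subtype.ext
    funext z
    simp [cocycleOf, map_smul]

lemma F_apply (h : Gen g p) (x : LinearMap.ker (S A g p)) (y : G) :
    (F A h x).1 y = cocycleOf A h x.1 y := rfl

/-- The surjection from `ker (S p)` onto `H¹`. -/
noncomputable def Φ (h : Gen g p) : LinearMap.ker (S A g p) →ₗ[k] (H1 A) :=
  (H1π A).hom ∘ₗ F A h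

lemma Φ_apply (h : Gen g p) (x : LinearMap.ker (S A g p)) : Φ A h x = H1π A (F A h x) := rfl

lemma S_p_cocycle (h : Gen g p) (f : cocycles₁ A) : S A g p (f.1 g) = 0 := by
  have h1 : f.1 (g ^ p) = S A g p (f.1 g) := cocycle_pow A g f.2 p
  rw [h.pow_eq_one] at h1
  rw [← h1]
  exact cocycles₁_map_one f

lemma Φ_surjective (h : Gen g p) : Function.Surjective (Φ A h) := by
  intro z
  refine H1_induction_on z (fun f => ?_)
  have hfN := S_p_cocycle A h f
  refine ⟨⟨f.1 g, LinearMap.mem_ker.2 hfN⟩, ?_⟩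
  rw [Φ_apply]
  congr 1
  apply Subtype.ext
  exact cocycle_ext A h (cocycleOf_mem A h hfN) f.2 (cocycleOf_g A h hfN)

lemma Φ_eq_zero_iff (h : Gen g p) (x : LinearMap.ker (S A g p)) :
    Φ A h x = 0 ↔ x.1 ∈ LinearMap.range (A.ρ g - 1) := by
  have hN : S A g p x.1 = 0 := LinearMap.mem_ker.1 x.2
  rw [Φ_apply, H1π_eq_zero_iff]
  unfold coboundaries₁
  rw [LinearMap.mem_range, LinearMap.mem_range]
  constructor
  · rintro ⟨w, hw⟩
    refine ⟨w, ?_⟩
    have h1 := congrFun hw g
    rw [d₀₁_hom_apply] at h1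
    rw [LinearMap.sub_apply, Module.End.one_apply, h1]
    exact cocycleOf_g A h hN
  · rintro ⟨w, hw⟩
    refine ⟨w, ?_⟩
    apply cocycle_ext A h (d₀₁_apply_mem_cocycles₁ w) (cocycleOf_mem A h hN)
    rw [d₀₁_hom_apply]
    rw [LinearMap.sub_apply, Module.End.one_apply] at hw
    rw [hw]
    exact (cocycleOf_g A h hN).symm

end

/-- Basis criterion: a surjection with a complement of its kernel spanned by a finite independent
family gives finiteness and the rank. -/
theorem finrank_of_surjective {k : Type*} [Field k] {W H : Type*} [AddCommGroup W] [Module k W]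
    [AddCommGroup H] [Module k H] (Φ : W →ₗ[k] H) (hΦ : Function.Surjective Φ)
    {ι : Type*} [Fintype ι] (e : ι → W)
    (hspan : ∀ x : W, ∃ lam : ι → k, Φ (x - ∑ i, lam i • e i) = 0)
    (hind : ∀ lam : ι → k, Φ (∑ i, lam i • e i) = 0 → ∀ i, lam i = 0) :
    Module.Finite k H ∧ Module.finrank k H = Fintype.card ι := by
  have hli : LinearIndependent k (fun i => Φ (e i)) := by
    rw [Fintype.linearIndependent_iff]
    intro lam hlam
    apply hind lam
    rw [map_sum]
    simp only [map_smul]
    exact hlam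
  have hsp : ⊤ ≤ Submodule.span k (Set.range fun i => Φ (e i)) := by
    intro z _
    obtain ⟨x, rfl⟩ := hΦ z
    obtain ⟨lam, hlam⟩ := hspan x
    rw [map_sub, sub_eq_zero] at hlam
    rw [hlam, map_sum]
    refine Submodule.sum_mem _ fun i _ => ?_
    rw [map_smul]
    exact Submodule.smul_mem _ _ (Submodule.subset_span ⟨i, rfl⟩)
  let b : Module.Basis ι k H := Module.Basis.mk hli hsp
  exact ⟨Module.Finite.of_basis b, Module.finrank_eq_card_basis b⟩

end Groth.Agent.Lib.Helper4.CycH1
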