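import Mathlib
import Groth.Agent.Lib.Helper9.ASCover
import Groth.Agent.Lib.Helper4.CycH1
import Groth.Agent.Lib.Helper4.ASCovB

/-!
# `H¹` of the order-`p` automorphism `t ↦ t u` on the twists of `k[[t]]`
-/

set_option autoImplicit false
set_option linter.style.haveILetI false
set_option linter.unusedSectionVars false
set_option linter.unusedVariables false
set_option linter.unusedSimpArgs false
set_option maxHeartbeats 1600000
set_option maxSynthPendingDepth 3

universe u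

namespace Groth.Agent.Lib.Helper4.ASCovC

open PowerSeries
open Groth.Agent.Lib.Helper9.ASCover
open Groth.Agent.Lib.Helper4.ASCovB
open Groth.Agent.Lib.Helper4

/-- The data attached to `u`. -/
lemma exists_data {k : Type u} [Field k] (p : ℕ) [Fact p.Prime] [CharP k p] (n : ℕ) (hn : 0 < n)
    (hpn : ¬ p ∣ n) (u : PowerSeries k) (hu1 : PowerSeries.constantCoeff u = 1)
    (hun : u ^ n * (1 + PowerSeries.X ^ n) = 1) (hu : IsUnit u) :
    ∃ z : PowerSeries k, Data n u hu.unit z := by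
  have hnk : (n : k) ≠ 0 := fun h0 => hpn ((CharP.cast_eq_zero_iff k p n).1 h0)
  obtain ⟨z, hz, hz0⟩ := exists_eq_one_add hnk hu1 (r := -u ^ n) (by linear_combination hun)
  rw [map_neg, map_pow, hu1, one_pow] at hz0
  have hz0' : constantCoeff z ≠ 0 := by
    intro h0
    rw [h0, zero_mul] at hz0
    exact one_ne_zero (neg_eq_zero.1 hz0.symm)
  exact ⟨z, ⟨hn, hu.unit_spec, hz, hz0', hnk⟩⟩

theorem H1_twist {k : Type u} [Field k] (p : ℕ) [Fact p.Prime] [CharP k p] (n : ℕ) (hn : 0 < n)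
    (hpn : ¬ p ∣ n) (u : PowerSeries k) (hu1 : PowerSeries.constantCoeff u = 1)
    (hun : u ^ n * (1 + PowerSeries.X ^ n) = 1) (hu : IsUnit u) (a : ℤ)
    {G : Type u} [Group G] [Finite G] (g : G) (hG : Nat.card G = p)
    (hg : ∀ x : G, x ∈ Subgroup.zpowers g)
    (ρ : Representation k G (PowerSeries k))
    (hρ : ∀ h : PowerSeries k, ρ g h =
      ((hu.unit ^ a : (PowerSeries k)ˣ) : PowerSeries k) * PowerSeries.subst (PowerSeries.X * u) h) :
    Module.Finite k (groupCohomology.H1 (Rep.of ρ)) ∧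
      (Module.finrank k (groupCohomology.H1 (Rep.of ρ)) : ℤ) =
        n - (a - 1) / (p : ℤ) + (a - 1 - n) / (p : ℤ) := by
  classical
  have hp := (Fact.out : p.Prime)
  obtain ⟨z, D⟩ := exists_data p n hn hpn u hu1 hun hu
  have horder : orderOf g = p := (orderOf_eq_card_of_forall_mem_zpowers hg).trans hG
  have gen : CycH1.Gen g p := ⟨hg, hp.pos, horder⟩
  have hT : ρ g = Tb u hu.unit a := LinearMap.ext fun h => by rw [hρ, Tb_apply, sig_apply]
  have hTa : (Tb u hu.unit a) ^ p = 1 := by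
    rw [← hT, ← map_pow, ← horder, pow_orderOf_eq_one, map_one]
  have hS : CycH1.S (Rep.of ρ) g p = (Db u hu.unit a) ^ (p - 1) := by
    have h1 := sum_pow_eq p (Tb u hu.unit a)
    unfold CycH1.S
    rw [Rep.of_ρ, hT]
    exact h1
  obtain ⟨c, hc⟩ := exists_c D a
  have hcN : ∀ m, 1 ≤ m → m ≤ n → ((Db u hu.unit a) ^ (p - 1)) (c m) = 0 :=
    fun m h1 h2 => Db_pow_c_eq_zero p D a hTa (hc m h1 h2)
  have hmemker : ∀ m : {m // m ∈ Sset p n a},
      (c m.1 : k⟦X⟧) ∈ LinearMap.ker (CycH1.S (Rep.of ρ) g p) := by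
    intro m
    obtain ⟨h1, h2, _⟩ := mem_Sset.1 m.2
    rw [LinearMap.mem_ker, hS]; exact hcN m.1 h1 h2
  obtain ⟨e, he⟩ : ∃ e : {m // m ∈ Sset p n a} → LinearMap.ker (CycH1.S (Rep.of ρ) g p),
      ∀ m, ((e m : LinearMap.ker (CycH1.S (Rep.of ρ) g p)) : k⟦X⟧) = c m.1 :=
    ⟨fun m => ⟨c m.1, hmemker m⟩, fun m => rfl⟩
  have hρD : ∀ w : k⟦X⟧, ((Rep.of ρ).ρ g - 1) w = Db u hu.unit a w := by
    intro w
    rw [LinearMap.sub_apply, Module.End.one_apply, Rep.of_ρ, hT, Db_apply]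
  have key := CycH1.finrank_of_surjective (CycH1.Φ (Rep.of ρ) gen)
    (CycH1.Φ_surjective (Rep.of ρ) gen) e ?_ ?_
  · obtain ⟨hfin, hrank⟩ := key
    refine ⟨hfin, ?_⟩
    rw [hrank, Fintype.card_coe]
    exact card_Sset p hp.pos a n
  · -- spanning
    intro x
    have hx : ((Db u hu.unit a) ^ (p - 1)) x.1 = 0 := by
      rw [← hS]; exact LinearMap.mem_ker.1 x.2
    obtain ⟨lam, w, hw⟩ := spanning p D a hTa c hc x.1 hx
    refine ⟨fun m => lam m.1, ?_⟩
    rw [CycH1.Φ_eq_zero_iff, LinearMap.mem_range]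
    refine ⟨w, ?_⟩
    rw [hρD]
    simp only [Submodule.coe_sub, Submodule.coe_sum, Submodule.coe_smul, he]
    rw [Finset.sum_coe_sort (Sset p n a) (fun m => lam m • c m), hw, add_sub_cancel_left]
  · -- independence
    intro lam hlam
    rw [CycH1.Φ_eq_zero_iff, LinearMap.mem_range] at hlam
    obtain ⟨w, hw⟩ := hlam
    rw [hρD] at hw
    simp only [Submodule.coe_sum, Submodule.coe_smul, he] at hw
    obtain ⟨coef, hcoef⟩ : ∃ coef : ℕ → k, coef =
        fun m => if h : m ∈ Sset p n a then lam ⟨m, h⟩ else 0 := ⟨_, rfl⟩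
    have hco : ∀ i : {m // m ∈ Sset p n a}, coef i.1 = lam i := by
      intro i
      rw [hcoef]
      simp only [i.2, dif_pos, Subtype.coe_eta]
    have hsum : ∑ i : {m // m ∈ Sset p n a}, lam i • c i.1
        = ∑ m ∈ Sset p n a, coef m • c m := by
      rw [← Finset.sum_coe_sort (Sset p n a) (fun m => coef m • c m)]
      refine Finset.sum_congr rfl fun i _ => ?_
      rw [hco]
    rw [hsum, Db_apply, Tb_apply, sig_apply] at hw
    have h64 := main64 p n hn hpn u hu1 hun hu a c hc coef w hw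
    intro i
    rw [← hco]
    exact h64 i.1 i.2

end Groth.Agent.Lib.Helper4.ASCovC
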