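import Mathlib
import Groth.Agent.Lib.Helper4.ASCovB

/-!
# Derivatives of the cocycle representatives for the Artin–Schreier substitution
-/

set_option autoImplicit false
set_option linter.style.haveILetI false
set_option linter.unusedSectionVars false
set_option linter.unusedVariables false
set_option linter.unusedSimpArgs false
set_option maxHeartbeats 1600000
set_option maxSynthPendingDepth 3

universe u

namespace Groth.Agent.Lib.Helper4.ASCovD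

open PowerSeries
open Groth.Agent.Lib.Helper4.ASCovB

section

variable {k : Type u} [Field k]

lemma natCast_ne_zero' {m : ℕ} (hm : (m : k) ≠ 0) : ((m : ℕ) : k⟦X⟧) ≠ 0 := by
  intro h0
  apply hm
  have := congrArg (constantCoeff (R := k)) h0
  rwa [map_natCast, map_zero] at this

/-- `u + t u' = u^(n+1)` when `u^n (1 + t^n) = 1`. -/
lemma key_deriv {n : ℕ} (hn : 0 < n) (hnk : (n : k) ≠ 0) (u : k⟦X⟧)
    (hun : u ^ n * (1 + X ^ n) = 1) :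
    u + X * derivative k u = u ^ (n + 1) := by
  obtain ⟨n', rfl⟩ : ∃ n', n = n' + 1 := ⟨n - 1, by omega⟩
  have hN := natCast_ne_zero' hnk
  have h := congrArg (derivative k) hun
  simp only [Derivation.leibniz, Derivation.leibniz_pow, map_add, Derivation.map_one_eq_zero,
    derivative_X, smul_eq_mul, nsmul_eq_mul, Nat.add_sub_cancel, zero_add, mul_one] at h
  have E : u ^ (n' + 1) * X ^ n' + (1 + X ^ (n' + 1)) * u ^ n' * derivative k u = 0 := by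
    apply mul_left_cancel₀ hN
    linear_combination h
  linear_combination (X * u) * E - (u + X * derivative k u) * hun

lemma deriv_c_aux {n : ℕ} (u : k⟦X⟧) (K : u + X * derivative k u = u ^ (n + 1)) (m : ℕ)
    (hm : 1 ≤ m) (V c0 : k⟦X⟧) (hV : V * u ^ m = 1) (hc0 : X ^ m * c0 = V - 1) :
    u ^ m * X ^ (m + 1) * derivative k c0 = -((m : ℕ) : k⟦X⟧) * (u ^ n - u ^ m) := by
  obtain ⟨m', rfl⟩ : ∃ m', m = m' + 1 := ⟨m - 1, by omega⟩
  have E1 := congrArg (derivative k) hc0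
  have E2 := congrArg (derivative k) hV
  simp only [Derivation.leibniz, Derivation.leibniz_pow, map_sub, Derivation.map_one_eq_zero,
    derivative_X, smul_eq_mul, nsmul_eq_mul, Nat.add_sub_cancel, sub_zero, mul_one] at E1 E2
  linear_combination (u ^ (m' + 1) * X) * E1 + X * E2
    - (((m' + 1 : ℕ) : k⟦X⟧) * V * u ^ m') * K
    - (((m' + 1 : ℕ) : k⟦X⟧) * u ^ (m' + 1)) * hc0 - (((m' + 1 : ℕ) : k⟦X⟧) * u ^ n) * hV

lemma deriv_c_lt {n : ℕ} (u : k⟦X⟧) (hu0 : u ≠ 0) (K : u + X * derivative k u = u ^ (n + 1))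
    (m : ℕ) (hm : 1 ≤ m) (V W c0 c1 : k⟦X⟧) (hV : V * u ^ m = 1) (hc0 : X ^ m * c0 = V - 1)
    (hW : W * u ^ m = u ^ n) (hc1 : X ^ (m + 1) * c1 = W - 1) :
    derivative k c0 = (-(m : k)) • c1 := by
  have h1 := deriv_c_aux u K m hm V c0 hV hc0
  have hne : u ^ m * X ^ (m + 1) ≠ 0 :=
    mul_ne_zero (pow_ne_zero _ hu0) (pow_ne_zero _ X_ne_zero)
  apply mul_left_cancel₀ hne
  rw [smul_eq_C_mul, map_neg, map_natCast]
  linear_combination h1 + (((m : ℕ) : k⟦X⟧) * u ^ m) * hc1 + ((m : ℕ) : k⟦X⟧) * hW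

lemma deriv_c_eq {n : ℕ} (u : k⟦X⟧) (hu0 : u ≠ 0) (K : u + X * derivative k u = u ^ (n + 1))
    (hn : 1 ≤ n) (V c0 : k⟦X⟧) (hV : V * u ^ n = 1) (hc0 : X ^ n * c0 = V - 1) :
    derivative k c0 = 0 := by
  have h1 := deriv_c_aux u K n hn V c0 hV hc0
  have hne : u ^ n * X ^ (n + 1) ≠ 0 :=
    mul_ne_zero (pow_ne_zero _ hu0) (pow_ne_zero _ X_ne_zero)
  apply mul_left_cancel₀ hne
  rw [h1]; ring

end

/-- The index set of the basis of the image. -/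
def Rset (p n : ℕ) (a : ℤ) : Finset ℕ :=
  (Sset p n a).filter (fun m' : ℕ => ¬ (p : ℤ) ∣ (m' : ℤ) - 1)

lemma mem_Rset {p n : ℕ} {a : ℤ} {m : ℕ} :
    m ∈ Rset p n a ↔ m ∈ Sset p n a ∧ ¬ (p : ℤ) ∣ (m : ℤ) - 1 := by
  unfold Rset
  rw [Finset.mem_filter]

lemma card_Rset (p : ℕ) (hp0 : 0 < p) (n : ℕ) (hpn : ¬ p ∣ n) :
    ((Rset p n ((n + 1 : ℕ) : ℤ)).card : ℤ) =
      ((n + 1) * (p - 1) : ℤ) / p - 1 - (n - 1 : ℤ) / p := by
  classical
  have hpz : (p : ℤ) ≠ 0 := by exact_mod_cast hp0.ne'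
  have hpn' : ¬ (p : ℤ) ∣ (n : ℤ) := fun h => hpn (Int.natCast_dvd_natCast.1 h)
  have h1 := Finset.card_filter_add_card_filter_not (s := Sset p n ((n + 1 : ℕ) : ℤ))
    (fun m' : ℕ => ¬ (p : ℤ) ∣ (m' : ℤ) - 1)
  have h2 : (Sset p n ((n + 1 : ℕ) : ℤ)).filter (fun m' : ℕ => ¬ ¬ (p : ℤ) ∣ (m' : ℤ) - 1)
      = (Finset.Icc 1 n).filter (fun m' : ℕ => ¬ ¬ (p : ℤ) ∣ (1 : ℤ) - (m' : ℤ)) := by
    ext m'
    simp only [Finset.mem_filter, mem_Sset, Finset.mem_Icc, not_not]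
    constructor
    · rintro ⟨⟨h1, h2, _⟩, h3⟩
      exact ⟨⟨h1, h2⟩, (dvd_sub_comm).1 h3⟩
    · rintro ⟨⟨h1, h2⟩, h3⟩
      have h3' : (p : ℤ) ∣ (m' : ℤ) - 1 := (dvd_sub_comm).1 h3
      refine ⟨⟨h1, h2, ?_⟩, h3'⟩
      intro h4
      apply hpn'
      have e : (n : ℤ) = (((n + 1 : ℕ) : ℤ) - (m' : ℤ)) + ((m' : ℤ) - 1) := by push_cast; ring
      rw [e]; exact dvd_add h4 h3'
  have h3 := Finset.card_filter_add_card_filter_not (s := Finset.Icc 1 n)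
    (fun m' : ℕ => ¬ (p : ℤ) ∣ (1 : ℤ) - (m' : ℤ))
  rw [h2] at h1
  rw [Nat.card_Icc, Nat.add_sub_cancel] at h3
  have h3' : (Sset p n 1).card + ((Finset.Icc 1 n).filter
      (fun m' : ℕ => ¬ ¬ (p : ℤ) ∣ (1 : ℤ) - (m' : ℤ))).card = n := h3
  have h1' : (Rset p n ((n + 1 : ℕ) : ℤ)).card + ((Finset.Icc 1 n).filter
      (fun m' : ℕ => ¬ ¬ (p : ℤ) ∣ (1 : ℤ) - (m' : ℤ))).card
        = (Sset p n ((n + 1 : ℕ) : ℤ)).card := h1
  have e5 : ((Sset p n ((n + 1 : ℕ) : ℤ)).card : ℤ) = (n : ℤ) - (n : ℤ) / (p : ℤ) := by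
    rw [card_Sset p hp0 ((n + 1 : ℕ) : ℤ) n]
    have a1 : (((n + 1 : ℕ) : ℤ) - 1) = (n : ℤ) := by push_cast; ring
    rw [a1, sub_self, Int.zero_ediv, add_zero]
  have e4 : ((Sset p n 1).card : ℤ) = (n : ℤ) + (-(n : ℤ)) / (p : ℤ) := by
    rw [card_Sset p hp0 1 n, sub_self, Int.zero_ediv, sub_zero, zero_sub]
  have i4 : ((n + 1) * (p - 1) : ℤ) / p = (n : ℤ) + 1 + (-(n : ℤ)) / (p : ℤ) := by
    have e : ((n : ℤ) + 1) * ((p : ℤ) - 1) = (-(n : ℤ) - 1) + ((n : ℤ) + 1) * (p : ℤ) := by ring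
    rw [e, Int.add_mul_ediv_right _ _ hpz, sub_one_ediv p hp0 (-(n : ℤ)),
      if_neg (fun h => hpn' ((dvd_neg).1 h))]
    ring
  have i5 : ((n : ℤ) - 1) / (p : ℤ) = (n : ℤ) / (p : ℤ) := by
    rw [sub_one_ediv p hp0 (n : ℤ), if_neg hpn', sub_zero]
  rw [i4, i5]
  generalize (Rset p n ((n + 1 : ℕ) : ℤ)).card = cR at *
  generalize (Sset p n ((n + 1 : ℕ) : ℤ)).card = cA at *
  generalize (Sset p n 1).card = cS at *
  generalize ((Finset.Icc 1 n).filter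
      (fun m' : ℕ => ¬ ¬ (p : ℤ) ∣ (1 : ℤ) - (m' : ℤ))).card = cF at *
  generalize (-(n : ℤ)) / (p : ℤ) = q1 at *
  generalize (n : ℤ) / (p : ℤ) = q2 at *
  omega

end Groth.Agent.Lib.Helper4.ASCovD
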