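import Mathlib
import Groth.Agent.Lib.Helper4.CycH1

/-!
# Naturality of the cyclic description of `H¹`
-/

set_option autoImplicit false
set_option linter.style.haveILetI false
set_option linter.unusedSectionVars false
set_option linter.unusedVariables false
set_option linter.unusedSimpArgs false
set_option maxHeartbeats 1600000
set_option maxSynthPendingDepth 3

universe u

namespace Groth.Agent.Lib.Helper4.CycH1

open CategoryTheory groupCohomology

section

variable {k G : Type u} [CommRing k] [Group G] {A B : Rep k G} (φ : A ⟶ B) {g : G} {p : ℕ}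

lemma S_map (i : ℕ) (x : A.V) : φ.hom (S A g i x) = S B g i (φ.hom x) := by
  rw [S_apply, S_apply, map_sum]
  refine Finset.sum_congr rfl fun j _ => ?_
  rw [← map_pow, ← map_pow, Rep.hom_comm_apply]

/-- The map induced on the kernels of the partial norms. -/
noncomputable def δ : LinearMap.ker (S A g p) →ₗ[k] LinearMap.ker (S B g p) :=
  (φ.hom.toLinearMap.comp (LinearMap.ker (S A g p)).subtype).codRestrict _ (fun x => by
    rw [LinearMap.mem_ker]
    show S B g p (φ.hom x.1) = 0
    rw [← S_map, LinearMap.mem_ker.1 x.2, map_zero])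

lemma δ_coe (x : LinearMap.ker (S A g p)) :
    ((δ φ x : LinearMap.ker (S B g p)) : B.V) = φ.hom x.1 := rfl

set_option backward.isDefEq.respectTransparency false in
lemma map_Φ (h : Gen g p) (x : LinearMap.ker (S A g p)) :
    ((groupCohomology.functor k G 1).map φ).hom (Φ A h x) = Φ B h (δ φ x) := by
  rw [Φ_apply, Φ_apply]
  have h1 := H1π_comp_map_apply (MonoidHom.id G) φ (F A h x)
  refine h1.trans ?_
  congr 1
  apply Subtype.ext
  refine cocycle_ext B h (mapCocycles₁ (MonoidHom.id G) φ (F A h x)).2 (F B h (δ φ x)).2 ?_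
  show φ.hom (cocycleOf A h x.1 g) = cocycleOf B h (φ.hom x.1) g
  have hxB : S B g p (φ.hom x.1) = 0 := LinearMap.mem_ker.1 (δ φ x).2
  rw [cocycleOf_g A h (LinearMap.mem_ker.1 x.2), cocycleOf_g B h hxB]

/-- `Φ` identifies elements differing by a coboundary. -/
lemma Φ_eq_of_sub_mem (h : Gen g p) (x₁ x₂ : LinearMap.ker (S A g p))
    (hx : x₁.1 - x₂.1 ∈ LinearMap.range (A.ρ g - 1)) : Φ A h x₁ = Φ A h x₂ := by
  rw [← sub_eq_zero, ← map_sub, Φ_eq_zero_iff]
  exact hx

end

end Groth.Agent.Lib.Helper4.CycH1
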