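import Mathlib
import Groth.Agent.Lib.Helper9.ASCover
import Groth.Agent.Lib.Helper4.CycH1
import Groth.Agent.Lib.Helper4.CycH1B
import Groth.Agent.Lib.Helper4.ASCovB
import Groth.Agent.Lib.Helper4.ASCovC
import Groth.Agent.Lib.Helper4.ASCovD

/-!
# The image of `d/dt` on `H¹` for the order-`p` automorphism `t ↦ t u`
-/

set_option autoImplicit false
set_option linter.style.haveILetI false
set_option linter.unusedSectionVars false
set_option linter.unusedVariables false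
set_option linter.unusedSimpArgs false
set_option maxHeartbeats 1600000
set_option maxSynthPendingDepth 3

universe u

namespace Groth.Agent.Lib.Helper4.ASCovE

open PowerSeries
open Groth.Agent.Lib.Helper9.ASCover
open Groth.Agent.Lib.Helper4.ASCovB
open Groth.Agent.Lib.Helper4.ASCovC
open Groth.Agent.Lib.Helper4.ASCovD
open Groth.Agent.Lib.Helper4

section

variable {k : Type u} [Field k] (p : ℕ) [Fact p.Prime] [CharP k p]

lemma twist_basic (u : k⟦X⟧) (hu : IsUnit u) (a : ℤ) {G : Type u} [Group G] (g : G)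
    (horder : orderOf g = p) (ρ : Representation k G k⟦X⟧)
    (hρ : ∀ h : k⟦X⟧, ρ g h = ((hu.unit ^ a : (k⟦X⟧)ˣ) : k⟦X⟧) * subst (X * u) h) :
    (Tb u hu.unit a) ^ p = 1 ∧ CycH1.S (Rep.of ρ) g p = (Db u hu.unit a) ^ (p - 1) ∧
      ∀ w : k⟦X⟧, ((Rep.of ρ).ρ g - 1) w = Db u hu.unit a w := by
  have hT : ρ g = Tb u hu.unit a := LinearMap.ext fun h => by rw [hρ, Tb_apply, sig_apply]
  have hTa : (Tb u hu.unit a) ^ p = 1 := by
    rw [← hT, ← map_pow, ← horder, pow_orderOf_eq_one, map_one]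
  refine ⟨hTa, ?_, ?_⟩
  · have h1 := sum_pow_eq p (Tb u hu.unit a)
    unfold CycH1.S
    rw [Rep.of_ρ, hT]
    exact h1
  · intro w
    rw [LinearMap.sub_apply, Module.End.one_apply, Rep.of_ρ, hT, Db_apply]

lemma twist_li (n : ℕ) (hn : 0 < n) (hpn : ¬ p ∣ n) (u : k⟦X⟧) (hu1 : constantCoeff u = 1)
    (hun : u ^ n * (1 + X ^ n) = 1) (hu : IsUnit u) (a : ℤ)
    {G : Type u} [Group G] (g : G) (gen : CycH1.Gen g p) (horder : orderOf g = p)
    (ρ : Representation k G k⟦X⟧)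
    (hρ : ∀ h : k⟦X⟧, ρ g h = ((hu.unit ^ a : (k⟦X⟧)ˣ) : k⟦X⟧) * subst (X * u) h)
    (c : ℕ → k⟦X⟧)
    (hc : ∀ m : ℕ, 1 ≤ m → m ≤ n → X ^ m * c m = ((hu.unit ^ (a - m) : (k⟦X⟧)ˣ) : k⟦X⟧) - 1)
    (e : {m // m ∈ Sset p n a} → LinearMap.ker (CycH1.S (Rep.of ρ) g p))
    (he : ∀ m, ((e m : LinearMap.ker (CycH1.S (Rep.of ρ) g p)) : k⟦X⟧) = c m.1) :
    LinearIndependent k (fun m => CycH1.Φ (Rep.of ρ) gen (e m)) := by
  classical
  obtain ⟨hTa, hS, hρD⟩ := twist_basic p u hu a g horder ρ hρ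
  rw [Fintype.linearIndependent_iff]
  intro lam hlam0
  have hlam : CycH1.Φ (Rep.of ρ) gen (∑ m, lam m • e m) = 0 := by
    rw [map_sum]
    simp only [map_smul]
    exact hlam0
  rw [CycH1.Φ_eq_zero_iff, LinearMap.mem_range] at hlam
  obtain ⟨w, hw⟩ := hlam
  rw [hρD] at hw
  simp only [Submodule.coe_sum, Submodule.coe_smul, he] at hw
  obtain ⟨coef, hcoef⟩ : ∃ coef : ℕ → k, coef =
      fun m => if h : m ∈ Sset p n a then lam ⟨m, h⟩ else 0 := ⟨_, rfl⟩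
  have hco : ∀ i : {m // m ∈ Sset p n a}, coef i.1 = lam i := by
    intro i
    rw [hcoef]
    simp only [i.2, dif_pos, Subtype.coe_eta]
  have hsum : ∑ i : {m // m ∈ Sset p n a}, lam i • c i.1
      = ∑ m ∈ Sset p n a, coef m • c m := by
    rw [← Finset.sum_coe_sort (Sset p n a) (fun m => coef m • c m)]
    refine Finset.sum_congr rfl fun i _ => ?_
    rw [hco]
  rw [hsum, Db_apply, Tb_apply, sig_apply] at hw
  have h64 := main64 p n hn hpn u hu1 hun hu a c hc coef w hw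
  intro i
  rw [← hco]
  exact h64 i.1 i.2

set_option backward.isDefEq.respectTransparency false in
theorem H1_range_derivative (n : ℕ) (hn : 0 < n) (hpn : ¬ p ∣ n) (u : k⟦X⟧)
    (hu1 : constantCoeff u = 1) (hun : u ^ n * (1 + X ^ n) = 1)
    {G : Type u} [Group G] [Finite G] (g : G) (hG : Nat.card G = p)
    (hg : ∀ x : G, x ∈ Subgroup.zpowers g)
    (ρ₀ ρ₁ : Representation k G k⟦X⟧)
    (hρ₀ : ∀ h : k⟦X⟧, ρ₀ g h = subst (X * u) h)
    (hρ₁ : ∀ h : k⟦X⟧, ρ₁ g h = u ^ (n + 1) * subst (X * u) h)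
    (φ : Rep.of ρ₀ ⟶ Rep.of ρ₁) (hφ : ∀ h : k⟦X⟧, φ.hom h = derivative k h) :
    Module.Finite k (LinearMap.range ((groupCohomology.functor k G 1).map φ).hom) ∧
      (Module.finrank k (LinearMap.range ((groupCohomology.functor k G 1).map φ).hom) : ℤ) =
        ((n + 1) * (p - 1) : ℤ) / p - 1 - (n - 1 : ℤ) / p := by
  classical
  have hp := (Fact.out : p.Prime)
  have hu : IsUnit u := isUnit_iff_constantCoeff.2 (by rw [hu1]; exact isUnit_one)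
  have hu0 : u ≠ 0 := hu.ne_zero
  obtain ⟨z, D⟩ := exists_data p n hn hpn u hu1 hun hu
  have horder : orderOf g = p := (orderOf_eq_card_of_forall_mem_zpowers hg).trans hG
  have gen : CycH1.Gen g p := ⟨hg, hp.pos, horder⟩
  have K := key_deriv hn D.hnk u hun
  obtain ⟨a₁, ha₁⟩ : ∃ a₁ : ℤ, a₁ = ((n + 1 : ℕ) : ℤ) := ⟨_, rfl⟩
  have Enat : ∀ N : ℕ, ((hu.unit ^ (N : ℤ) : (k⟦X⟧)ˣ) : k⟦X⟧) = u ^ N := by
    intro N; rw [zpow_natCast, Units.val_pow_eq_pow_val, hu.unit_spec]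
  have hρ₀' : ∀ h : k⟦X⟧,
      ρ₀ g h = ((hu.unit ^ (0 : ℤ) : (k⟦X⟧)ˣ) : k⟦X⟧) * subst (X * u) h := by
    intro h; rw [hρ₀, zpow_zero, Units.val_one, one_mul]
  have hρ₁' : ∀ h : k⟦X⟧,
      ρ₁ g h = ((hu.unit ^ a₁ : (k⟦X⟧)ˣ) : k⟦X⟧) * subst (X * u) h := by
    intro h; rw [hρ₁, ha₁, Enat (n + 1)]
  obtain ⟨hTa0, hS0, hρD0⟩ := twist_basic p u hu 0 g horder ρ₀ hρ₀'
  obtain ⟨hTa1, hS1, hρD1⟩ := twist_basic p u hu a₁ g horder ρ₁ hρ₁'
  obtain ⟨c0, hc0⟩ := exists_c D 0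
  obtain ⟨c1, hc1⟩ := exists_c D a₁
  have hVgen : ∀ m : ℕ,
      ((hu.unit ^ ((0 : ℤ) - (m : ℤ)) : (k⟦X⟧)ˣ) : k⟦X⟧) * u ^ m = 1 := by
    intro m
    rw [← Enat m, ← Units.val_mul, ← zpow_add, sub_add_cancel, zpow_zero, Units.val_one]
  have hWgen : ∀ m : ℕ,
      ((hu.unit ^ (a₁ - ((m + 1 : ℕ) : ℤ)) : (k⟦X⟧)ˣ) : k⟦X⟧) * u ^ m = u ^ n := by
    intro m
    have e : a₁ - ((m + 1 : ℕ) : ℤ) + (m : ℤ) = (n : ℤ) := by rw [ha₁]; push_cast; ring
    rw [← Enat m, ← Units.val_mul, ← zpow_add, e, Enat n]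
  have hderiv_lt : ∀ m : ℕ, 1 ≤ m → m < n →
      derivative k (c0 m) = (-(m : k)) • c1 (m + 1) :=
    fun m h1 h2 => deriv_c_lt u hu0 K m h1 _ _ (c0 m) (c1 (m + 1)) (hVgen m) (hc0 m h1 h2.le)
      (hWgen m) (hc1 (m + 1) (by omega) (by omega))
  have hderiv_eq : derivative k (c0 n) = 0 :=
    deriv_c_eq u hu0 K hn _ (c0 n) (hVgen n) (hc0 n hn le_rfl)
  have hmemker0 : ∀ m : {m // m ∈ Sset p n 0},
      (c0 m.1 : k⟦X⟧) ∈ LinearMap.ker (CycH1.S (Rep.of ρ₀) g p) := by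
    intro m
    obtain ⟨h1, h2, _⟩ := mem_Sset.1 m.2
    rw [LinearMap.mem_ker, hS0]; exact Db_pow_c_eq_zero p D 0 hTa0 (hc0 m.1 h1 h2)
  have hmemker1 : ∀ m : {m // m ∈ Sset p n a₁},
      (c1 m.1 : k⟦X⟧) ∈ LinearMap.ker (CycH1.S (Rep.of ρ₁) g p) := by
    intro m
    obtain ⟨h1, h2, _⟩ := mem_Sset.1 m.2
    rw [LinearMap.mem_ker, hS1]; exact Db_pow_c_eq_zero p D a₁ hTa1 (hc1 m.1 h1 h2)
  obtain ⟨e0, he0⟩ : ∃ e : {m // m ∈ Sset p n 0} → LinearMap.ker (CycH1.S (Rep.of ρ₀) g p),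
      ∀ m, ((e m : LinearMap.ker (CycH1.S (Rep.of ρ₀) g p)) : k⟦X⟧) = c0 m.1 :=
    ⟨fun m => ⟨c0 m.1, hmemker0 m⟩, fun m => rfl⟩
  obtain ⟨e1, he1⟩ : ∃ e : {m // m ∈ Sset p n a₁} → LinearMap.ker (CycH1.S (Rep.of ρ₁) g p),
      ∀ m, ((e m : LinearMap.ker (CycH1.S (Rep.of ρ₁) g p)) : k⟦X⟧) = c1 m.1 :=
    ⟨fun m => ⟨c1 m.1, hmemker1 m⟩, fun m => rfl⟩
  have hclaim : ∀ (m : ℕ) (h1 : 1 ≤ m) (h2 : m < n) (hm0 : m ∈ Sset p n 0)
      (hm1 : m + 1 ∈ Sset p n a₁),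
      CycH1.δ φ (e0 ⟨m, hm0⟩) = (-(m : k)) • e1 ⟨m + 1, hm1⟩ := by
    intro m h1 h2 hm0 hm1
    apply Subtype.ext
    rw [CycH1.δ_coe, Submodule.coe_smul, he0, he1, hφ]
    exact hderiv_lt m h1 h2
  suffices hmain : ∀ M' : groupCohomology.H1 (Rep.of ρ₀) →ₗ[k] groupCohomology.H1 (Rep.of ρ₁),
      (∀ x, M' (CycH1.Φ (Rep.of ρ₀) gen x) = CycH1.Φ (Rep.of ρ₁) gen (CycH1.δ φ x)) →
      Module.Finite k (LinearMap.range M') ∧
      (Module.finrank k (LinearMap.range M') : ℤ) =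
        ((n + 1) * (p - 1) : ℤ) / p - 1 - (n - 1 : ℤ) / p from
    hmain _ (fun x => CycH1.map_Φ φ gen x)
  intro M' hMΦ
  -- the spanning family of `H¹(ρ₀)`
  have htop : ∀ y : groupCohomology.H1 (Rep.of ρ₀),
      y ∈ Submodule.span k (Set.range fun m => CycH1.Φ (Rep.of ρ₀) gen (e0 m)) := by
    intro y
    obtain ⟨x, rfl⟩ := CycH1.Φ_surjective (Rep.of ρ₀) gen y
    have hx : ((Db u hu.unit 0) ^ (p - 1)) x.1 = 0 := by
      rw [← hS0]; exact LinearMap.mem_ker.1 x.2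
    obtain ⟨lam, w, hw⟩ := spanning p D 0 hTa0 c0 hc0 x.1 hx
    have hΦ : CycH1.Φ (Rep.of ρ₀) gen x =
        CycH1.Φ (Rep.of ρ₀) gen (∑ m : {m // m ∈ Sset p n 0}, lam m.1 • e0 m) := by
      apply CycH1.Φ_eq_of_sub_mem
      rw [LinearMap.mem_range]
      refine ⟨w, ?_⟩
      rw [hρD0]
      simp only [Submodule.coe_sum, Submodule.coe_smul, he0]
      rw [Finset.sum_coe_sort (Sset p n 0) (fun m => lam m • c0 m), hw, add_sub_cancel_left]
    rw [hΦ, map_sum]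
    refine Submodule.sum_mem _ fun m _ => ?_
    rw [map_smul]
    exact Submodule.smul_mem _ _ (Submodule.subset_span ⟨m, rfl⟩)
  obtain ⟨b, hb⟩ : ∃ b : {m // m ∈ Rset p n a₁} → groupCohomology.H1 (Rep.of ρ₁),
      b = fun i => CycH1.Φ (Rep.of ρ₁) gen (e1 ⟨i.1, (mem_Rset.1 i.2).1⟩) := ⟨_, rfl⟩
  have hbi : ∀ (m : ℕ) (hR : m ∈ Rset p n a₁) (hS : m ∈ Sset p n a₁),
      b ⟨m, hR⟩ = CycH1.Φ (Rep.of ρ₁) gen (e1 ⟨m, hS⟩) := by
    intro m hR hS; rw [hb]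
  have hmem : ∀ m : {m // m ∈ Sset p n 0},
      M' (CycH1.Φ (Rep.of ρ₀) gen (e0 m)) ∈ Submodule.span k (Set.range b) := by
    rintro ⟨m, hm⟩
    obtain ⟨hm1, hmn, hmp⟩ := mem_Sset.1 hm
    have hmp' : ¬ (p : ℤ) ∣ (m : ℤ) := fun h => hmp (by rw [zero_sub]; exact (dvd_neg).2 h)
    rw [hMΦ]
    rcases Nat.lt_or_ge m n with hlt | hge
    · by_cases hd : (p : ℤ) ∣ a₁ - ((m + 1 : ℕ) : ℤ)
      · obtain ⟨h, hh⟩ := main63 p n hn hpn u hu1 hun hu a₁ (m + 1) (by omega) (by omega) hd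
          (c1 (m + 1)) (hc1 (m + 1) (by omega) (by omega))
        have h0 : CycH1.Φ (Rep.of ρ₁) gen (CycH1.δ φ (e0 ⟨m, hm⟩)) = 0 := by
          rw [CycH1.Φ_eq_zero_iff, LinearMap.mem_range]
          refine ⟨(-(m : k)) • h, ?_⟩
          rw [hρD1, CycH1.δ_coe, he0, hφ, map_smul, Db_apply, Tb_apply, sig_apply, hh]
          exact (hderiv_lt m hm1 hlt).symm
        rw [h0]; exact Submodule.zero_mem _
      · have hm1S : m + 1 ∈ Sset p n a₁ := mem_Sset.2 ⟨by omega, by omega, hd⟩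
        have hmR : m + 1 ∈ Rset p n a₁ := mem_Rset.2 ⟨hm1S, fun h => hmp' (by
          have e : ((m + 1 : ℕ) : ℤ) - 1 = (m : ℤ) := by push_cast; ring
          rwa [e] at h)⟩
        rw [hclaim m hm1 hlt hm hm1S, map_smul, ← hbi (m + 1) hmR hm1S]
        exact Submodule.smul_mem _ _ (Submodule.subset_span ⟨⟨m + 1, hmR⟩, rfl⟩)
    · have hmn' : m = n := le_antisymm hmn hge
      have h0 : CycH1.δ φ (e0 ⟨m, hm⟩) = 0 := by
        apply Subtype.ext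
        rw [CycH1.δ_coe, he0, hφ]
        show derivative k (c0 m) = 0
        rw [hmn']; exact hderiv_eq
      rw [h0, map_zero]; exact Submodule.zero_mem _
  have hle : LinearMap.range M' ≤ Submodule.span k (Set.range b) := by
    have h1 : Submodule.map M' (Submodule.span k
        (Set.range fun m => CycH1.Φ (Rep.of ρ₀) gen (e0 m))) ≤ Submodule.span k (Set.range b) :=
      (Submodule.map_span_le M' _ _).2 (by rintro _ ⟨m, rfl⟩; exact hmem m)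
    rintro _ ⟨y, rfl⟩
    exact h1 (Submodule.mem_map_of_mem (htop y))
  have hge : Submodule.span k (Set.range b) ≤ LinearMap.range M' := by
    rw [Submodule.span_le]
    rintro _ ⟨⟨m', hm'⟩, rfl⟩
    obtain ⟨hS, hnd⟩ := mem_Rset.1 hm'
    obtain ⟨h1, h2, h3⟩ := mem_Sset.1 hS
    have hm2 : 2 ≤ m' := by
      by_contra hlt
      have h1' : m' = 1 := by omega
      apply hnd
      rw [h1']; simp
    obtain ⟨m, rfl⟩ : ∃ m, m' = m + 1 := ⟨m' - 1, by omega⟩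
    have e : ((m + 1 : ℕ) : ℤ) - 1 = (m : ℤ) := by push_cast; ring
    rw [e] at hnd
    have hm0 : m ∈ Sset p n 0 := mem_Sset.2 ⟨by omega, by omega, fun h => hnd (by
      rw [zero_sub] at h; exact (dvd_neg).1 h)⟩
    have hmk : (m : k) ≠ 0 := fun h0 =>
      hnd (Int.natCast_dvd_natCast.2 ((CharP.cast_eq_zero_iff k p m).1 h0))
    rw [SetLike.mem_coe, LinearMap.mem_range]
    refine ⟨(-(m : k))⁻¹ • CycH1.Φ (Rep.of ρ₀) gen (e0 ⟨m, hm0⟩), ?_⟩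
    rw [map_smul, hMΦ, hclaim m (by omega) (by omega) hm0 hS, map_smul, smul_smul,
      inv_mul_cancel₀ (neg_ne_zero.2 hmk), one_smul, hbi (m + 1) hm' hS]
  have hli_full := twist_li p n hn hpn u hu1 hun hu a₁ g gen horder ρ₁ hρ₁' c1 hc1 e1 he1
  have hli : LinearIndependent k b := by
    rw [hb]
    refine hli_full.comp (fun i : {m // m ∈ Rset p n a₁} =>
      (⟨i.1, (mem_Rset.1 i.2).1⟩ : {m // m ∈ Sset p n a₁})) ?_
    intro i j hij
    have hval := congrArg (fun x : {m // m ∈ Sset p n a₁} => x.1) hij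
    exact Subtype.ext hval
  have hrange : LinearMap.range M' = Submodule.span k (Set.range b) := le_antisymm hle hge
  rw [hrange]
  refine ⟨FiniteDimensional.span_of_finite k (Set.finite_range b), ?_⟩
  rw [finrank_span_eq_card hli, Fintype.card_coe, ha₁]
  exact card_Rset p hp.pos n hpn

end

end Groth.Agent.Lib.Helper4.ASCovE
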