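import Mathlib
import Groth.Agent.Lib.Helper1.PSOmega
import Groth.Agent.Lib.Helper7.CohenPres
import Groth.Agent.Lib.Helper9.RegLocal
import Groth.Agent.Lib.Helper12.IntegralDim
import Groth.Agent.Lib.Helper15.FiniteComplete

/-!
# Quotients of polynomial rings by monic one-variable relations: monomial basis
-/

set_option autoImplicit false
set_option linter.style.haveILetI false
set_option linter.unusedSectionVars false
set_option linter.unusedVariables false
set_option linter.unusedSimpArgs false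
set_option maxHeartbeats 1600000

universe u

namespace Groth.Agent.Lib.Helper4.ASFam

noncomputable section

theorem tower (R : Type u) [CommRing R] [Nontrivial R] (d : ℕ) (hd0 : 0 < d) :
    ∀ (n : ℕ) (f : Fin n → Polynomial R), (∀ i, (f i).Monic) → (∀ i, (f i).natDegree = d) →
    ∃ (B : Type u) (_ : CommRing B) (_ : Algebra R B) (v : Fin n → B),
      Nontrivial B ∧ (∀ i, Polynomial.aeval (v i) (f i) = 0) ∧
      (∃ bas : Module.Basis (Fin n → Fin d) R B, ∀ e, bas e = ∏ i, v i ^ (e i : ℕ)) ∧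
      (∀ (A' : Type u) [CommRing A'] [Algebra R A'] (w : Fin n → A'),
        (∀ i, Polynomial.aeval (w i) (f i) = 0) → ∃ ρ : B →ₐ[R] A', ∀ i, ρ (v i) = w i) := by
  intro n
  induction n with
  | zero =>
    intro f _ _
    refine ⟨R, inferInstance, inferInstance, Fin.elim0, inferInstance, fun i => i.elim0, ?_, ?_⟩
    · refine ⟨Module.Basis.singleton (Fin 0 → Fin d) R, fun e => ?_⟩
      rw [Module.Basis.singleton_apply]
      simp
    · intro A' _ _ w _
      exact ⟨Algebra.ofId R A', fun i => i.elim0⟩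
  | succ n ih =>
    intro f hm hd
    obtain ⟨B, _, _, v, hnt, hroot, ⟨bas, hbas⟩, huniv⟩ :=
      ih (fun i => f i.succ) (fun i => hm i.succ) (fun i => hd i.succ)
    haveI := hnt
    obtain ⟨q, hqdef⟩ : ∃ q : Polynomial B, q = (f 0).map (algebraMap R B) := ⟨_, rfl⟩
    have hq : q.Monic := by rw [hqdef]; exact (hm 0).map _
    have hqd : q.natDegree = d := by rw [hqdef, (hm 0).natDegree_map, hd 0]
    obtain ⟨pb, hpb⟩ : ∃ pb : PowerBasis B (AdjoinRoot q), pb = AdjoinRoot.powerBasis' hq :=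
      ⟨_, rfl⟩
    have hdim : pb.dim = d := by rw [hpb, AdjoinRoot.powerBasis'_dim, hqd]
    have hgen : pb.gen = AdjoinRoot.root q := by rw [hpb, AdjoinRoot.powerBasis'_gen]
    refine ⟨AdjoinRoot q, inferInstance, inferInstance,
      Fin.cons (AdjoinRoot.root q) (fun i => algebraMap B (AdjoinRoot q) (v i)), ?_, ?_, ?_, ?_⟩
    · exact ⟨⟨pb.basis ⟨0, by omega⟩, 0, pb.basis.ne_zero _⟩⟩
    · intro i
      refine Fin.cases ?_ (fun j => ?_) i
      · rw [Fin.cons_zero, ← Polynomial.aeval_map_algebraMap B, ← hqdef, AdjoinRoot.aeval_eq,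
          AdjoinRoot.mk_self]
      · rw [Fin.cons_succ]
        have := Polynomial.aeval_algHom_apply (IsScalarTower.toAlgHom R B (AdjoinRoot q)) (v j)
          (f j.succ)
        rw [IsScalarTower.coe_toAlgHom'] at this
        rw [this, hroot j, map_zero]
    · obtain ⟨E, hE⟩ : ∃ E : ((Fin n → Fin d) × Fin pb.dim) ≃ (Fin (n + 1) → Fin d),
          ∀ e, E.symm e = (fun i => e i.succ, (finCongr hdim).symm (e 0)) :=
        ⟨((Equiv.prodComm _ _).trans (Equiv.prodCongr (finCongr hdim) (Equiv.refl _))).trans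
          (Fin.consEquiv (fun _ : Fin (n + 1) => Fin d)), fun e => rfl⟩
      refine ⟨(bas.smulTower pb.basis).reindex E, fun e => ?_⟩
      rw [Module.Basis.reindex_apply, hE, Module.Basis.smulTower_apply, hbas, pb.basis_eq_pow, hgen,
        Fin.prod_univ_succ, Algebra.smul_def, map_prod, mul_comm]
      simp only [Fin.cons_zero, Fin.cons_succ, map_pow]
      congr 2
    · intro A' _ _ w hw
      obtain ⟨ρ, hρ⟩ := huniv A' (fun i => w i.succ) (fun i => hw i.succ)
      have h0 : q.eval₂ (ρ : B →+* A') (w 0) = 0 := by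
        rw [hqdef, Polynomial.eval₂_map, AlgHom.comp_algebraMap, ← Polynomial.aeval_def]
        exact hw 0
      refine ⟨AdjoinRoot.liftAlgHom q ρ (w 0) h0, fun i => ?_⟩
      refine Fin.cases ?_ (fun j => ?_) i
      · rw [Fin.cons_zero, AdjoinRoot.liftAlgHom_root]
      · rw [Fin.cons_succ, AdjoinRoot.algebraMap_eq, AdjoinRoot.liftAlgHom_of, hρ]

theorem quotBasis (R : Type u) [CommRing R] [Nontrivial R] (d : ℕ) (hd0 : 0 < d) (n : ℕ)
    (f : Fin n → Polynomial R) (hm : ∀ i, (f i).Monic) (hd : ∀ i, (f i).natDegree = d)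
    (I : Ideal (MvPolynomial (Fin n) R))
    (hI : I = Ideal.span (Set.range fun i =>
      Polynomial.aeval (MvPolynomial.X i : MvPolynomial (Fin n) R) (f i))) :
    ∃ bas : Module.Basis (Fin n → Fin d) R (MvPolynomial (Fin n) R ⧸ I),
      ∀ e, bas e = ∏ i, (Ideal.Quotient.mk I (MvPolynomial.X i)) ^ (e i : ℕ) := by
  obtain ⟨B, _, _, v, hnt, hroot, ⟨bas, hbas⟩, huniv⟩ := tower R d hd0 n f hm hd
  have hker : ∀ a ∈ I, (MvPolynomial.aeval v : MvPolynomial (Fin n) R →ₐ[R] B) a = 0 := by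
    have : I ≤ RingHom.ker (MvPolynomial.aeval v : MvPolynomial (Fin n) R →ₐ[R] B) := by
      rw [hI, Ideal.span_le]
      rintro _ ⟨i, rfl⟩
      rw [SetLike.mem_coe, RingHom.mem_ker, ← Polynomial.aeval_algHom_apply, MvPolynomial.aeval_X]
      exact hroot i
    intro a ha
    exact this ha
  obtain ⟨φ, hφ⟩ : ∃ φ : (MvPolynomial (Fin n) R ⧸ I) →ₐ[R] B,
      ∀ i, φ (Ideal.Quotient.mk I (MvPolynomial.X i)) = v i :=
    ⟨Ideal.Quotient.liftₐ I (MvPolynomial.aeval v) hker, fun i => by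
      rw [← Ideal.Quotient.mkₐ_eq_mk R, Ideal.Quotient.liftₐ_apply, Ideal.Quotient.mkₐ_eq_mk,
        Ideal.Quotient.lift_mk]
      exact MvPolynomial.aeval_X v i⟩
  have hw : ∀ i, Polynomial.aeval (Ideal.Quotient.mk I (MvPolynomial.X i)) (f i) = 0 := by
    intro i
    have := Polynomial.aeval_algHom_apply (Ideal.Quotient.mkₐ R I)
      (MvPolynomial.X i : MvPolynomial (Fin n) R) (f i)
    rw [Ideal.Quotient.mkₐ_eq_mk] at this
    rw [this, Ideal.Quotient.eq_zero_iff_mem, hI]
    exact Ideal.subset_span ⟨i, rfl⟩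
  obtain ⟨ψ, hψ⟩ := huniv (MvPolynomial (Fin n) R ⧸ I) _ hw
  have h1 : ψ.comp φ = AlgHom.id R _ := by
    apply Ideal.Quotient.algHom_ext
    apply MvPolynomial.algHom_ext
    intro i
    simp only [AlgHom.comp_apply, Ideal.Quotient.mkₐ_eq_mk, AlgHom.id_apply]
    rw [hφ, hψ]
  have h2 : φ.comp ψ = AlgHom.id R _ := by
    apply AlgHom.toLinearMap_injective
    apply bas.ext
    intro e
    simp only [AlgHom.toLinearMap_apply, AlgHom.comp_apply, AlgHom.id_apply]
    rw [hbas, map_prod, map_prod]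
    refine Finset.prod_congr rfl fun i _ => ?_
    rw [map_pow, map_pow, hψ, hφ]
  refine ⟨bas.map (AlgEquiv.ofAlgHom ψ φ h1 h2).toLinearEquiv, fun e => ?_⟩
  rw [Module.Basis.map_apply, hbas]
  show ψ (∏ i, v i ^ (e i : ℕ)) = _
  rw [map_prod]
  refine Finset.prod_congr rfl fun i _ => ?_
  rw [map_pow, hψ]

end

end Groth.Agent.Lib.Helper4.ASFam
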