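import Mathlib
import Groth.Agent.Lib.Helper4.ASFam

/-!
# The Artin–Schreier family `R[u]/(uᵢ^p - aᵢ^(p-1) uᵢ - xᵢ)` over `R = k[[x]]`
-/

set_option autoImplicit false
set_option linter.style.haveILetI false
set_option linter.unusedSectionVars false
set_option linter.unusedVariables false
set_option linter.unusedSimpArgs false
set_option maxHeartbeats 1600000
set_option maxSynthPendingDepth 3

universe u

namespace Groth.Agent.Lib.Helper4.ASFam

open MvPolynomial

noncomputable section

/-! ### completeness for cofinal ideals -/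

theorem isAdicComplete_of_le_of_pow_le {S M : Type*} [CommRing S] [AddCommGroup M] [Module S M]
    (I J : Ideal S) (hIJ : I ≤ J) (N : ℕ) (hN : J ^ N ≤ I) [IsAdicComplete I M] :
    IsAdicComplete J M := by
  have hN' : J ^ (N + 1) ≤ I := (Ideal.pow_le_pow_right (Nat.le_succ N)).trans hN
  have hJI : ∀ m, (J ^ ((N + 1) * m) • ⊤ : Submodule S M) ≤ I ^ m • ⊤ := by
    intro m
    apply Submodule.smul_mono_left
    rw [pow_mul]
    exact Ideal.pow_right_mono hN' m
  have hIJ' : ∀ m, (I ^ m • ⊤ : Submodule S M) ≤ J ^ m • ⊤ := fun m =>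
    Submodule.smul_mono_left (Ideal.pow_right_mono hIJ m)
  haveI : IsHausdorff J M := by
    refine ⟨fun x hx => ?_⟩
    apply IsHausdorff.haus (inferInstance : IsHausdorff I M) x
    intro m
    have := hx ((N + 1) * m)
    rw [SModEq.zero] at this ⊢
    exact hJI m this
  haveI : IsPrecomplete J M := by
    refine ⟨fun f hf => ?_⟩
    have hg : ∀ {m l}, m ≤ l →
        f ((N + 1) * m) ≡ f ((N + 1) * l) [SMOD (I ^ m • ⊤ : Submodule S M)] := by
      intro m l hml
      have := hf (Nat.mul_le_mul_left (N + 1) hml)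
      rw [SModEq.sub_mem] at this ⊢
      exact hJI m this
    obtain ⟨L, hL⟩ := IsPrecomplete.prec (inferInstance : IsPrecomplete I M)
      (f := fun m => f ((N + 1) * m)) hg
    refine ⟨L, fun m => ?_⟩
    have h1 : f m ≡ f ((N + 1) * m) [SMOD (J ^ m • ⊤ : Submodule S M)] :=
      hf (Nat.le_mul_of_pos_left m (Nat.succ_pos N))
    have h2 : f ((N + 1) * m) ≡ L [SMOD (J ^ m • ⊤ : Submodule S M)] := by
      have := hL m
      rw [SModEq.sub_mem] at this ⊢
      exact hIJ' m this
    exact h1.trans h2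
  exact {}

/-! ### the family -/

variable (p : ℕ) [hp : Fact p.Prime] (k : Type u) [Field k] (n : ℕ)
  (a : Fin n → MvPowerSeries (Fin n) k)

/-- the base ring `k[[x]]` -/
abbrev RR : Type u := MvPowerSeries (Fin n) k

/-- the ideal of relations -/
def asI : Ideal (MvPolynomial (Fin n) (MvPowerSeries (Fin n) k)) :=
  Ideal.span (Set.range fun i : Fin n =>
    X i ^ p - C (a i ^ (p - 1)) * X i - C (MvPowerSeries.X i))

/-- the ring `A` -/
abbrev AA : Type u := MvPolynomial (Fin n) (MvPowerSeries (Fin n) k) ⧸ asI p k n a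

/-- the relation as a one-variable polynomial -/
def asPoly (i : Fin n) : Polynomial (MvPowerSeries (Fin n) k) :=
  Polynomial.X ^ p -
    (Polynomial.C (a i ^ (p - 1)) * Polynomial.X + Polynomial.C (MvPowerSeries.X i))

lemma asPoly_monic (i : Fin n) : (asPoly p k n a i).Monic := by
  apply Polynomial.monic_X_pow_sub
  refine lt_of_le_of_lt Polynomial.degree_linear_le ?_
  exact_mod_cast hp.out.one_lt

lemma asPoly_natDegree (i : Fin n) : (asPoly p k n a i).natDegree = p := by
  unfold asPoly
  rw [Polynomial.natDegree_sub_eq_left_of_natDegree_lt, Polynomial.natDegree_X_pow]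
  rw [Polynomial.natDegree_X_pow]
  exact lt_of_le_of_lt Polynomial.natDegree_linear_le hp.out.one_lt

lemma asI_eq : asI p k n a = Ideal.span (Set.range fun i =>
    Polynomial.aeval (X i : MvPolynomial (Fin n) (MvPowerSeries (Fin n) k)) (asPoly p k n a i)) := by
  unfold asI asPoly
  congr 2
  funext i
  simp only [map_sub, map_add, map_mul, map_pow, Polynomial.aeval_X, Polynomial.aeval_C,
    MvPolynomial.algebraMap_eq]
  ring

theorem as_basis : ∃ bas : Module.Basis (Fin n → Fin p) (RR k n) (AA p k n a),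
    ∀ e, bas e = ∏ i, (Ideal.Quotient.mk (asI p k n a) (X i)) ^ (e i : ℕ) :=
  quotBasis _ p hp.out.pos n (asPoly p k n a) (asPoly_monic p k n a) (asPoly_natDegree p k n a) _
    (asI_eq p k n a)

lemma as_finite : Module.Finite (RR k n) (AA p k n a) := by
  obtain ⟨bas, -⟩ := as_basis p k n a
  exact Module.Finite.of_basis bas

lemma as_free : Module.Free (RR k n) (AA p k n a) := by
  obtain ⟨bas, -⟩ := as_basis p k n a
  exact Module.Free.of_basis bas

lemma as_finrank : Module.finrank (RR k n) (AA p k n a) = p ^ n := by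
  obtain ⟨bas, -⟩ := as_basis p k n a
  rw [Module.finrank_eq_card_basis bas]
  simp

lemma as_nontrivial : Nontrivial (AA p k n a) := by
  obtain ⟨bas, -⟩ := as_basis p k n a
  exact ⟨⟨bas (fun _ => ⟨0, hp.out.pos⟩), 0, bas.ne_zero _⟩⟩

lemma as_noeth : IsNoetherianRing (AA p k n a) := by
  haveI := as_finite p k n a
  exact IsNoetherianRing.of_finite (RR k n) _

/-- the class of `uᵢ` -/
def uu (i : Fin n) : AA p k n a := Ideal.Quotient.mk (asI p k n a) (X i)

lemma mk_C_eq (r : RR k n) :
    Ideal.Quotient.mk (asI p k n a) (C r) = algebraMap (RR k n) (AA p k n a) r := rfl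

lemma uu_rel (i : Fin n) : uu p k n a i ^ p =
    algebraMap (RR k n) (AA p k n a) (a i ^ (p - 1)) * uu p k n a i +
      algebraMap (RR k n) (AA p k n a) (MvPowerSeries.X i) := by
  have h : Ideal.Quotient.mk (asI p k n a)
      (X i ^ p - C (a i ^ (p - 1)) * X i - C (MvPowerSeries.X i)) = 0 :=
    Ideal.Quotient.eq_zero_iff_mem.mpr (Ideal.subset_span ⟨i, rfl⟩)
  rw [map_sub, map_sub, map_mul, map_pow, mk_C_eq, mk_C_eq] at h
  unfold uu
  linear_combination h

/-- the ideal `(u₁, …, uₙ)` -/
def nn : Ideal (AA p k n a) := Ideal.span (Set.range (uu p k n a))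

lemma nn_eq : Ideal.map (Ideal.Quotient.mk (asI p k n a))
    (Ideal.span (Set.range (X : Fin n → MvPolynomial (Fin n) (RR k n)))) = nn p k n a := by
  rw [Ideal.map_span, ← Set.range_comp]
  rfl

lemma uu_mem (i : Fin n) : uu p k n a i ∈ nn p k n a := Ideal.subset_span ⟨i, rfl⟩

lemma algebraMap_X_mem (i : Fin n) :
    algebraMap (RR k n) (AA p k n a) (MvPowerSeries.X i) ∈ nn p k n a := by
  have h := uu_rel p k n a i
  have e : algebraMap (RR k n) (AA p k n a) (MvPowerSeries.X i) =
      uu p k n a i ^ p - algebraMap (RR k n) (AA p k n a) (a i ^ (p - 1)) * uu p k n a i := by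
    rw [h]; ring
  rw [e]
  exact Ideal.sub_mem _ (Ideal.pow_mem_of_mem _ (uu_mem p k n a i) p hp.out.pos)
    (Ideal.mul_mem_left _ _ (uu_mem p k n a i))

lemma mem_max_iff (r : RR k n) :
    r ∈ IsLocalRing.maximalIdeal (RR k n) ↔ MvPowerSeries.constantCoeff r = 0 := by
  rw [Groth.Agent.Lib.Helper1.PSOmega.maximalIdeal_eq_ker, RingHom.mem_ker]

lemma map_max_le : Ideal.map (algebraMap (RR k n) (AA p k n a))
    (IsLocalRing.maximalIdeal (RR k n)) ≤ nn p k n a := by
  rw [Groth.Agent.Lib.Helper1.PSOmega.maximalIdeal_eq_span, Ideal.map_span, Ideal.span_le]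
  rintro _ ⟨_, ⟨i, rfl⟩, rfl⟩
  exact algebraMap_X_mem p k n a i

lemma dec (b : AA p k n a) :
    ∃ c : k, b - algebraMap (RR k n) (AA p k n a) (MvPowerSeries.C c) ∈ nn p k n a := by
  obtain ⟨P, rfl⟩ := Ideal.Quotient.mk_surjective b
  induction P using MvPolynomial.induction_on with
  | C r =>
    refine ⟨MvPowerSeries.constantCoeff r, ?_⟩
    rw [mk_C_eq, ← map_sub]
    apply map_max_le p k n a
    apply Ideal.mem_map_of_mem
    rw [mem_max_iff, map_sub, MvPowerSeries.constantCoeff_C, sub_self]
  | add P Q hP hQ =>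
    obtain ⟨c1, h1⟩ := hP
    obtain ⟨c2, h2⟩ := hQ
    refine ⟨c1 + c2, ?_⟩
    have := Ideal.add_mem _ h1 h2
    rw [map_add, map_add, map_add]
    convert this using 1
    ring
  | mul_X P i hP =>
    refine ⟨0, ?_⟩
    rw [map_zero, map_zero, sub_zero, map_mul]
    exact Ideal.mul_mem_left _ _ (uu_mem p k n a i)

variable (ham : ∀ i, MvPowerSeries.constantCoeff (a i) = 0)

include ham

lemma cc_apow (i : Fin n) : MvPowerSeries.constantCoeff (a i ^ (p - 1)) = 0 := by
  rw [map_pow, ham i, zero_pow (Nat.sub_ne_zero_of_lt hp.out.one_lt)]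

theorem max_eq_nn (M : Ideal (AA p k n a)) (hM : M.IsMaximal) : M = nn p k n a := by
  haveI := as_finite p k n a
  haveI : Algebra.IsIntegral (RR k n) (AA p k n a) := Algebra.IsIntegral.of_finite _ _
  haveI hc : (M.comap (algebraMap (RR k n) (AA p k n a))).IsMaximal :=
    Ideal.isMaximal_comap_of_isIntegral_of_isMaximal (R := RR k n) (S := AA p k n a) M
  have hc' := IsLocalRing.eq_maximalIdeal hc
  have hmem : ∀ r : RR k n, MvPowerSeries.constantCoeff r = 0 →
      algebraMap (RR k n) (AA p k n a) r ∈ M := by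
    intro r hr
    have : r ∈ M.comap (algebraMap (RR k n) (AA p k n a)) := by
      rw [hc', mem_max_iff]; exact hr
    exact this
  have hle : nn p k n a ≤ M := by
    unfold nn
    rw [Ideal.span_le]
    rintro _ ⟨i, rfl⟩
    have h := uu_rel p k n a i
    have : uu p k n a i ^ p ∈ M := by
      rw [h]
      exact Ideal.add_mem _ (Ideal.mul_mem_right _ _ (hmem _ (cc_apow p k n a ham i)))
        (hmem _ (MvPowerSeries.constantCoeff_X i))
    exact hM.isPrime.mem_of_pow_mem p this
  apply le_antisymm _ hle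
  intro b hb
  obtain ⟨c, hc⟩ := dec p k n a b
  have h1 : algebraMap (RR k n) (AA p k n a) (MvPowerSeries.C c) ∈ M := by
    have := Ideal.sub_mem _ hb (hle hc)
    rwa [sub_sub_cancel] at this
  have hc0 : c = 0 := by
    by_contra hne
    have hu : IsUnit (algebraMap (RR k n) (AA p k n a) (MvPowerSeries.C c)) :=
      ((IsUnit.mk0 c hne).map MvPowerSeries.C).map _
    exact hM.ne_top (Ideal.eq_top_of_isUnit_mem _ h1 hu)
  rw [hc0, map_zero, map_zero, sub_zero] at hc
  exact hc

theorem as_isLocalRing : IsLocalRing (AA p k n a) := by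
  haveI := as_nontrivial p k n a
  obtain ⟨M, hM⟩ := Ideal.exists_maximal (AA p k n a)
  have huniq : ∃! I : Ideal (AA p k n a), I.IsMaximal := ⟨M, hM, fun M' hM' => by
    rw [max_eq_nn p k n a ham M' hM', max_eq_nn p k n a ham M hM]⟩
  exact IsLocalRing.of_unique_max_ideal (R := AA p k n a) huniq

theorem nn_isMaximal : (nn p k n a).IsMaximal := by
  haveI := as_nontrivial p k n a
  obtain ⟨M, hM⟩ := Ideal.exists_maximal (AA p k n a)
  rw [← max_eq_nn p k n a ham M hM]
  exact hM

theorem as_regular : IsRegularLocalRing (AA p k n a) := by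
  haveI := as_isLocalRing p k n a ham
  haveI := as_finite p k n a
  haveI := as_noeth p k n a
  haveI := as_nontrivial p k n a
  haveI := as_free p k n a
  apply IsRegularLocalRing.of_spanFinrank_maximalIdeal_le
  have hmax : IsLocalRing.maximalIdeal (AA p k n a) = nn p k n a :=
    (IsLocalRing.eq_maximalIdeal (nn_isMaximal p k n a ham)).symm
  rw [hmax]
  have h1 : (nn p k n a).spanFinrank ≤ n := by
    unfold nn
    refine (Submodule.spanFinrank_span_le_ncard_of_finite (Set.finite_range _)).trans ?_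
    rw [← Set.image_univ]
    refine (Set.ncard_image_le Set.finite_univ).trans ?_
    rw [Set.ncard_univ, Nat.card_eq_fintype_card, Fintype.card_fin]
  have h2 : (n : WithBot ℕ∞) ≤ ringKrullDim (AA p k n a) := by
    haveI : Algebra.IsIntegral (RR k n) (AA p k n a) := Algebra.IsIntegral.of_finite _ _
    have hinj : Function.Injective (algebraMap (RR k n) (AA p k n a)) :=
      FaithfulSMul.algebraMap_injective _ _
    have h3 := Groth.Agent.Lib.Helper12.ringKrullDim_le_of_isIntegral_of_injective
      (R := RR k n) (S := AA p k n a) hinj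
    have h4 := Groth.Agent.Lib.Helper7.CohenPres.le_ringKrullDim_powser k n
    rw [ringKrullDim_eq_zero_of_field, zero_add] at h4
    exact h4.trans h3
  exact (by exact_mod_cast h1 : ((nn p k n a).spanFinrank : WithBot ℕ∞) ≤ n).trans h2

theorem as_complete : IsAdicComplete (R := AA p k n a) (nn p k n a) (AA p k n a) := by
  haveI := as_finite p k n a
  haveI := as_noeth p k n a
  haveI : IsAdicComplete (Groth.Agent.Lib.Helper15.FiniteComplete.mS (RR k n) (AA p k n a))
      (AA p k n a) :=
    Groth.Agent.Lib.Helper15.FiniteComplete.isAdicComplete_mS (RR k n) (AA p k n a)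
  have hrad : nn p k n a ≤
      (Groth.Agent.Lib.Helper15.FiniteComplete.mS (RR k n) (AA p k n a)).radical := by
    unfold nn
    rw [Ideal.span_le]
    rintro _ ⟨i, rfl⟩
    refine Ideal.mem_radical_iff.mpr ⟨p, ?_⟩
    rw [uu_rel]
    exact Ideal.add_mem _
      (Ideal.mul_mem_right _ _ (Ideal.mem_map_of_mem _
        ((mem_max_iff k n _).mpr (cc_apow p k n a ham i))))
      (Ideal.mem_map_of_mem _ ((mem_max_iff k n _).mpr (MvPowerSeries.constantCoeff_X i)))
  obtain ⟨N, hN⟩ := Ideal.exists_pow_le_of_le_radical_of_fg hrad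
    (IsNoetherian.noetherian _)
  exact isAdicComplete_of_le_of_pow_le _ _ (map_max_le p k n a) N hN

theorem as_isDomain : IsDomain (AA p k n a) := by
  haveI := as_regular p k n a ham
  exact Groth.Agent.Lib.Helper9.RegLocal.isDomain_of_isRegularLocalRing (AA p k n a)

end

end Groth.Agent.Lib.Helper4.ASFam
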