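import Mathlib
import Groth.Agent.Lib.Helper4.ASFam2

/-!
# Automorphisms of the Artin–Schreier family
-/

set_option autoImplicit false
set_option linter.style.haveILetI false
set_option linter.unusedSectionVars false
set_option linter.unusedVariables false
set_option linter.unusedSimpArgs false
set_option maxHeartbeats 1600000
set_option maxSynthPendingDepth 3

universe u

namespace Groth.Agent.Lib.Helper4.ASFam

open MvPolynomial

noncomputable section

/-- roots of `T^p - b^(p-1) T` in a domain of characteristic `p` -/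
theorem root_classify (p : ℕ) [hp : Fact p.Prime] {B : Type*} [CommRing B] [IsDomain B] [CharP B p]
    (β : ZMod p →+* B) (b δ : B) (hb : b ≠ 0)
    (hδ : δ ^ p = b ^ (p - 1) * δ) : ∃ c : ZMod p, δ = β c * b := by
  classical
  by_contra hne
  push_neg at hne
  obtain ⟨P, hP⟩ : ∃ P : Polynomial B,
      P = Polynomial.X ^ p - Polynomial.C (b ^ (p - 1)) * Polynomial.X := ⟨_, rfl⟩
  have hinj : Function.Injective (fun c : ZMod p => β c * b) := by
    intro c1 c2 h
    exact β.injective (mul_right_cancel₀ hb h)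
  obtain ⟨s, hs⟩ : ∃ s : Finset B,
      s = insert δ (Finset.image (fun c : ZMod p => β c * b) Finset.univ) := ⟨_, rfl⟩
  have hcard : s.card = p + 1 := by
    rw [hs, Finset.card_insert_of_notMem, Finset.card_image_of_injective _ hinj, Finset.card_univ,
      ZMod.card]
    intro hmem
    obtain ⟨c, -, hc⟩ := Finset.mem_image.mp hmem
    exact hne c hc.symm
  have hdeg : P.natDegree = p := by
    have h1 : (Polynomial.C (b ^ (p - 1)) * Polynomial.X : Polynomial B).natDegree ≤ 1 :=
      (Polynomial.natDegree_C_mul_le _ _).trans Polynomial.natDegree_X_le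
    rw [hP, Polynomial.natDegree_sub_eq_left_of_natDegree_lt, Polynomial.natDegree_X_pow]
    rw [Polynomial.natDegree_X_pow]
    exact lt_of_le_of_lt h1 hp.out.one_lt
  have hb' : b ^ p = b ^ (p - 1) * b := by rw [← pow_succ, Nat.sub_add_cancel hp.out.pos]
  have hroot : ∀ x ∈ s, P.eval x = 0 := by
    intro x hx
    rw [hs, Finset.mem_insert, Finset.mem_image] at hx
    rw [hP, Polynomial.eval_sub, Polynomial.eval_pow, Polynomial.eval_X, Polynomial.eval_mul,
      Polynomial.eval_C, Polynomial.eval_X]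
    rcases hx with rfl | ⟨c, -, rfl⟩
    · rw [hδ, sub_self]
    · rw [mul_pow, ← map_pow, ZMod.pow_card, hb']; ring
  have hzero := Polynomial.eq_zero_of_natDegree_lt_card_of_eval_eq_zero' P s hroot
    (by rw [hdeg, hcard]; exact Nat.lt_succ_self p)
  rw [hzero, Polynomial.natDegree_zero] at hdeg
  exact hp.out.ne_zero hdeg.symm

variable (p : ℕ) [hp : Fact p.Prime] (k : Type u) [Field k] [hk : CharP k p] (n : ℕ)
  (a : Fin n → MvPowerSeries (Fin n) k)

lemma algebraMap_inj : Function.Injective (algebraMap (RR k n) (AA p k n a)) := by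
  haveI := as_free p k n a
  haveI := as_nontrivial p k n a
  exact FaithfulSMul.algebraMap_injective _ _

include hk in
lemma charP_RR : CharP (RR k n) p :=
  charP_of_injective_ringHom (f := (MvPowerSeries.C : k →+* RR k n)) MvPowerSeries.C_injective p

include hk in
lemma charP_AA : CharP (AA p k n a) p := by
  haveI := charP_RR p k n
  exact charP_of_injective_algebraMap (algebraMap_inj p k n a) p

/-- the prime field inside `R` -/
def gam : ZMod p →+* RR k n :=
  (MvPowerSeries.C : k →+* RR k n).comp (ZMod.castHom (dvd_refl p) k)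

lemma gam_inj : Function.Injective (gam p k n) := RingHom.injective _

lemma gam_pow (c : ZMod p) : gam p k n c ^ p = gam p k n c := by
  rw [← map_pow, ZMod.pow_card]

/-- the value of the shifted generator -/
def shiftVal (c : Fin n → ZMod p) (i : Fin n) : AA p k n a :=
  uu p k n a i + algebraMap (RR k n) (AA p k n a) (gam p k n (c i) * a i)

lemma shift_rel (c : Fin n → ZMod p) (i : Fin n) :
    shiftVal p k n a c i ^ p -
        algebraMap (RR k n) (AA p k n a) (a i ^ (p - 1)) * shiftVal p k n a c i -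
      algebraMap (RR k n) (AA p k n a) (MvPowerSeries.X i) = 0 := by
  haveI := charP_AA p k n a
  unfold shiftVal
  have h2 : (algebraMap (RR k n) (AA p k n a) (gam p k n (c i) * a i)) ^ p =
      algebraMap (RR k n) (AA p k n a) (a i ^ (p - 1)) *
        algebraMap (RR k n) (AA p k n a) (gam p k n (c i) * a i) := by
    rw [← map_pow, ← map_mul, mul_pow, gam_pow]
    congr 1
    have : a i ^ p = a i ^ (p - 1) * a i := by
      rw [← pow_succ, Nat.sub_add_cancel hp.out.pos]
    rw [this]; ring
  rw [add_pow_char, h2, uu_rel]; ring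

lemma shift_ker (c : Fin n → ZMod p) : ∀ x ∈ asI p k n a,
    (MvPolynomial.aeval (shiftVal p k n a c) :
      MvPolynomial (Fin n) (RR k n) →ₐ[RR k n] AA p k n a) x = 0 := by
  intro x hx
  have hle : asI p k n a ≤ RingHom.ker (MvPolynomial.aeval (shiftVal p k n a c) :
      MvPolynomial (Fin n) (RR k n) →ₐ[RR k n] AA p k n a) := by
    refine Ideal.span_le.mpr ?_
    rintro _ ⟨i, rfl⟩
    rw [SetLike.mem_coe, RingHom.mem_ker, map_sub, map_sub, map_mul, map_pow, aeval_X, aeval_C,
      aeval_C]
    exact shift_rel p k n a c i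
  exact hle hx

/-- the endomorphism `uᵢ ↦ uᵢ + cᵢ aᵢ` -/
def shiftHom (c : Fin n → ZMod p) : AA p k n a →ₐ[RR k n] AA p k n a :=
  Ideal.Quotient.liftₐ (asI p k n a) (MvPolynomial.aeval (shiftVal p k n a c))
    (shift_ker p k n a c)

lemma shiftHom_uu (c : Fin n → ZMod p) (i : Fin n) :
    shiftHom p k n a c (uu p k n a i) = shiftVal p k n a c i := by
  unfold shiftHom uu
  rw [Ideal.Quotient.liftₐ_apply, Ideal.Quotient.lift_mk]
  simp

lemma algHom_ext_uu {f g : AA p k n a →ₐ[RR k n] AA p k n a}
    (h : ∀ i, f (uu p k n a i) = g (uu p k n a i)) : f = g := by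
  apply Ideal.Quotient.algHom_ext
  apply MvPolynomial.algHom_ext
  intro i
  exact h i

lemma shiftHom_comp (c c' : Fin n → ZMod p) :
    (shiftHom p k n a c).comp (shiftHom p k n a c') = shiftHom p k n a (c + c') := by
  apply algHom_ext_uu
  intro i
  rw [AlgHom.comp_apply, shiftHom_uu, shiftHom_uu]
  simp only [shiftVal, map_add, shiftHom_uu, AlgHom.commutes, Pi.add_apply, add_mul]
  ring

lemma shiftHom_zero : shiftHom p k n a 0 = AlgHom.id (RR k n) (AA p k n a) := by
  apply algHom_ext_uu
  intro i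
  rw [shiftHom_uu]
  simp [shiftVal]

/-- the automorphism `uᵢ ↦ uᵢ + cᵢ aᵢ` -/
def shiftEquiv (c : Fin n → ZMod p) : AA p k n a ≃ₐ[RR k n] AA p k n a :=
  AlgEquiv.ofAlgHom (shiftHom p k n a c) (shiftHom p k n a (-c))
    (by rw [shiftHom_comp, add_neg_cancel, shiftHom_zero])
    (by rw [shiftHom_comp, neg_add_cancel, shiftHom_zero])

lemma shiftEquiv_apply (c : Fin n → ZMod p) (x : AA p k n a) :
    shiftEquiv p k n a c x = shiftHom p k n a c x := rfl

lemma shiftEquiv_add (c c' : Fin n → ZMod p) :
    shiftEquiv p k n a (c + c') = shiftEquiv p k n a c * shiftEquiv p k n a c' := by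
  ext x
  rw [AlgEquiv.mul_apply, shiftEquiv_apply, shiftEquiv_apply, shiftEquiv_apply, ← shiftHom_comp,
    AlgHom.comp_apply]

lemma shiftEquiv_zero : shiftEquiv p k n a 0 = 1 := by
  ext x
  rw [shiftEquiv_apply, shiftHom_zero]
  rfl

lemma shiftEquiv_pow (c : Fin n → ZMod p) (m : ℕ) :
    shiftEquiv p k n a c ^ m = shiftEquiv p k n a (m • c) := by
  induction m with
  | zero => rw [pow_zero, zero_smul, shiftEquiv_zero]
  | succ m ih => rw [pow_succ, ih, succ_nsmul, shiftEquiv_add]

lemma delta_rel (σ : AA p k n a →ₐ[RR k n] AA p k n a) (i : Fin n) :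
    (σ (uu p k n a i) - uu p k n a i) ^ p =
      (algebraMap (RR k n) (AA p k n a) (a i)) ^ (p - 1) * (σ (uu p k n a i) - uu p k n a i) := by
  haveI := charP_AA p k n a
  have h1 := uu_rel p k n a i
  have h2 := congrArg σ h1
  rw [map_pow, map_add, map_mul, AlgHom.commutes, AlgHom.commutes] at h2
  rw [sub_pow_char, h1, h2, map_pow]
  ring

variable (ham : ∀ i, MvPowerSeries.constantCoeff (a i) = 0) (ha0 : ∀ i, a i ≠ 0)

include ham ha0

theorem exists_shift (σ : AA p k n a ≃ₐ[RR k n] AA p k n a) :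
    ∃ c, σ = shiftEquiv p k n a c := by
  haveI := as_isDomain p k n a ham
  haveI := charP_AA p k n a
  have hinj := algebraMap_inj p k n a
  have h : ∀ i, ∃ c : ZMod p, σ (uu p k n a i) - uu p k n a i =
      ((algebraMap (RR k n) (AA p k n a)).comp (gam p k n)) c *
        algebraMap (RR k n) (AA p k n a) (a i) := by
    intro i
    refine root_classify p _ _ _ ?_ ?_
    · intro h0; exact ha0 i (hinj (by rw [h0, map_zero]))
    · exact delta_rel p k n a (σ : AA p k n a →ₐ[RR k n] AA p k n a) i
  choose c hc using h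
  refine ⟨c, ?_⟩
  have hh : (σ : AA p k n a →ₐ[RR k n] AA p k n a) = shiftHom p k n a c := by
    apply algHom_ext_uu
    intro i
    rw [shiftHom_uu]
    unfold shiftVal
    have h3 := hc i
    rw [RingHom.comp_apply, ← map_mul] at h3
    rw [← h3]
    simp
  ext x
  exact DFunLike.congr_fun hh x

theorem shiftEquiv_injective : Function.Injective (shiftEquiv p k n a) := by
  intro c c' h
  funext i
  have h1 : shiftEquiv p k n a c (uu p k n a i) = shiftEquiv p k n a c' (uu p k n a i) := by
    rw [h]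
  rw [shiftEquiv_apply, shiftEquiv_apply, shiftHom_uu, shiftHom_uu] at h1
  unfold shiftVal at h1
  have h2 := algebraMap_inj p k n a (add_left_cancel h1)
  have h3 := mul_right_cancel₀ (ha0 i) h2
  exact gam_inj p k n h3

theorem card_autos : Nat.card (AA p k n a ≃ₐ[RR k n] AA p k n a) = p ^ n := by
  classical
  have hbij : Function.Bijective (shiftEquiv p k n a) :=
    ⟨shiftEquiv_injective p k n a ham ha0, fun σ => by
      obtain ⟨c, hc⟩ := exists_shift p k n a ham ha0 σ
      exact ⟨c, hc.symm⟩⟩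
  rw [← Nat.card_congr (Equiv.ofBijective _ hbij), Nat.card_eq_fintype_card, Fintype.card_fun,
    ZMod.card, Fintype.card_fin]

theorem autos_comm (σ τ : AA p k n a ≃ₐ[RR k n] AA p k n a) : σ * τ = τ * σ := by
  obtain ⟨c, rfl⟩ := exists_shift p k n a ham ha0 σ
  obtain ⟨c', rfl⟩ := exists_shift p k n a ham ha0 τ
  rw [← shiftEquiv_add, ← shiftEquiv_add, add_comm]

theorem autos_pow (σ : AA p k n a ≃ₐ[RR k n] AA p k n a) : σ ^ p = 1 := by
  obtain ⟨c, rfl⟩ := exists_shift p k n a ham ha0 σ
  rw [shiftEquiv_pow]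
  have h0 : p • c = 0 := by
    funext i
    rw [Pi.smul_apply, nsmul_eq_mul, CharP.cast_eq_zero, zero_mul]
    rfl
  rw [h0, shiftEquiv_zero]

theorem fixed_coord (bas : Module.Basis (Fin n → Fin p) (RR k n) (AA p k n a))
    (hbas : ∀ e, bas e = ∏ i, uu p k n a i ^ (e i : ℕ)) (b : AA p k n a)
    (j : Fin n) (hfix : ∀ γ : ZMod p, shiftHom p k n a (Pi.single j γ) b = b)
    (e₀ : Fin n → Fin p) (he₀ : (e₀ j : ℕ) ≠ 0) : bas.repr b e₀ = 0 := by
  classical
  haveI := as_isDomain p k n a ham
  obtain ⟨z, hz⟩ : ∃ z : Fin p, z = ⟨0, hp.out.pos⟩ := ⟨_, rfl⟩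
  have hzv : (z : ℕ) = 0 := by rw [hz]
  have hsplit : ∀ e, bas e = uu p k n a j ^ (e j : ℕ) * bas (Function.update e j z) := by
    intro e
    rw [hbas, hbas]
    have hpt : ∀ i, uu p k n a i ^ (e i : ℕ) =
        (if i = j then uu p k n a i ^ (e i : ℕ) else 1) *
          uu p k n a i ^ ((Function.update e j z i : Fin p) : ℕ) := by
      intro i
      by_cases hij : i = j
      · rw [hij, if_pos rfl, Function.update_self, hzv, pow_zero, mul_one]
      · rw [if_neg hij, Function.update_of_ne hij, one_mul]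
    rw [Finset.prod_congr rfl (fun i _ => hpt i), Finset.prod_mul_distrib,
      Finset.prod_ite_eq' Finset.univ j, if_pos (Finset.mem_univ j)]
  have hinv : ∀ (γ : ZMod p) (e : Fin n → Fin p), (e j : ℕ) = 0 →
      shiftHom p k n a (Pi.single j γ) (bas e) = bas e := by
    intro γ e hej
    rw [hbas, map_prod]
    refine Finset.prod_congr rfl (fun i _ => ?_)
    by_cases hij : i = j
    · rw [hij, hej, pow_zero, map_one]
    · rw [map_pow, shiftHom_uu]
      unfold shiftVal
      rw [Pi.single_eq_of_ne hij, map_zero, zero_mul, map_zero, add_zero]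
  obtain ⟨y, hy⟩ : ∃ y : ZMod p → AA p k n a, y = fun γ =>
      uu p k n a j + algebraMap (RR k n) (AA p k n a) (gam p k n γ * a j) := ⟨_, rfl⟩
  have hshift : ∀ (γ : ZMod p) (e : Fin n → Fin p),
      shiftHom p k n a (Pi.single j γ) (bas e) =
        y γ ^ (e j : ℕ) * bas (Function.update e j z) := by
    intro γ e
    have hv : shiftVal p k n a (Pi.single j γ) j = y γ := by
      rw [hy]; unfold shiftVal; rw [Pi.single_eq_same]
    rw [hsplit e, map_mul, map_pow, shiftHom_uu,
      hinv γ (Function.update e j z) (by rw [Function.update_self, hzv]), hv]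
  obtain ⟨r, hr⟩ : ∃ r : (Fin n → Fin p) → RR k n, r = fun e => bas.repr b e := ⟨_, rfl⟩
  have hb : b = ∑ e, r e • bas e := by rw [hr]; exact (bas.sum_repr b).symm
  obtain ⟨Q, hQ⟩ : ∃ Q : Polynomial (AA p k n a),
      Q = ∑ e, Polynomial.C (r e • bas (Function.update e j z)) * Polynomial.X ^ (e j : ℕ) :=
    ⟨_, rfl⟩
  have hQeval : ∀ t, Q.eval t = ∑ e, r e • (t ^ (e j : ℕ) * bas (Function.update e j z)) := by
    intro t
    rw [hQ, Polynomial.eval_finset_sum]
    refine Finset.sum_congr rfl (fun e _ => ?_)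
    rw [Polynomial.eval_mul, Polynomial.eval_C, Polynomial.eval_pow, Polynomial.eval_X,
      smul_mul_assoc, mul_comm]
  have hQy : ∀ γ, Q.eval (y γ) = b := by
    intro γ
    rw [hQeval]
    conv_rhs => rw [← hfix γ, hb, map_sum]
    refine Finset.sum_congr rfl (fun e _ => ?_)
    rw [map_smul, hshift]
  have hyinj : Function.Injective y := by
    intro γ1 γ2 h
    rw [hy] at h
    have h2 := algebraMap_inj p k n a (add_left_cancel h)
    exact gam_inj p k n (mul_right_cancel₀ (ha0 j) h2)
  have hdeg : (Q - Polynomial.C b).degree < (p : WithBot ℕ) := by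
    have h1 : Q ∈ Polynomial.degreeLT (AA p k n a) p := by
      rw [hQ]
      refine Submodule.sum_mem _ (fun e _ => ?_)
      rw [Polynomial.mem_degreeLT]
      exact lt_of_le_of_lt (Polynomial.degree_C_mul_X_pow_le _ _)
        (by exact_mod_cast (e j).isLt)
    have h2 : Polynomial.C b ∈ Polynomial.degreeLT (AA p k n a) p := by
      rw [Polynomial.mem_degreeLT]
      exact lt_of_le_of_lt Polynomial.degree_C_le (by exact_mod_cast hp.out.pos)
    exact Polynomial.mem_degreeLT.mp (Submodule.sub_mem _ h1 h2)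
  have hQC : Q = Polynomial.C b := by
    by_contra hne
    have hne' : Q - Polynomial.C b ≠ 0 := sub_ne_zero.mpr hne
    have hnat : (Q - Polynomial.C b).natDegree < Fintype.card (ZMod p) := by
      rw [ZMod.card]
      exact (Polynomial.natDegree_lt_iff_degree_lt hne').mpr hdeg
    exact hne' (Polynomial.eq_zero_of_natDegree_lt_card_of_eval_eq_zero _ hyinj
      (fun γ => by rw [Polynomial.eval_sub, Polynomial.eval_C, hQy, sub_self]) hnat)
  have h0 : b = ∑ e, (if (e j : ℕ) = 0 then r e else 0) • bas e := by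
    have h1 : Q.eval 0 = b := by rw [hQC, Polynomial.eval_C]
    rw [← h1, hQeval]
    refine Finset.sum_congr rfl (fun e _ => ?_)
    by_cases hej : (e j : ℕ) = 0
    · rw [if_pos hej, hej, pow_zero, one_mul]
      have hze : z = e j := Fin.ext (by rw [hzv, hej])
      rw [hze, Function.update_eq_self]
    · rw [if_neg hej, zero_pow hej, zero_mul, smul_zero, zero_smul]
  have h4 : ⇑(bas.repr (∑ e, (if (e j : ℕ) = 0 then r e else 0) • bas e)) =
      fun e => (if (e j : ℕ) = 0 then r e else 0) :=
    bas.repr_sum_self (fun e => if (e j : ℕ) = 0 then r e else 0)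
  rw [← h0] at h4
  have h5 : bas.repr b e₀ = if (e₀ j : ℕ) = 0 then r e₀ else 0 := congrFun h4 e₀
  rw [if_neg he₀] at h5
  exact h5

theorem fixed_iff (b : AA p k n a) :
    (∀ σ : AA p k n a ≃ₐ[RR k n] AA p k n a, σ b = b) ↔
      b ∈ Set.range (algebraMap (RR k n) (AA p k n a)) := by
  constructor
  · intro hfix
    obtain ⟨bas, hbas⟩ := as_basis p k n a
    obtain ⟨e0, he0⟩ : ∃ e0 : Fin n → Fin p, e0 = fun _ => ⟨0, hp.out.pos⟩ := ⟨_, rfl⟩
    have hr : ∀ e, e ≠ e0 → bas.repr b e = 0 := by
      intro e he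
      obtain ⟨j, hj⟩ : ∃ j, (e j : ℕ) ≠ 0 := by
        by_contra hcon
        push_neg at hcon
        apply he
        rw [he0]
        exact funext fun i => Fin.ext (hcon i)
      exact fixed_coord p k n a ham ha0 bas hbas b j
        (fun γ => hfix (shiftEquiv p k n a (Pi.single j γ))) e hj
    refine ⟨bas.repr b e0, ?_⟩
    have hsum := bas.sum_repr b
    rw [Fintype.sum_eq_single e0 (fun e he => by rw [hr e he, zero_smul])] at hsum
    have hb1 : bas e0 = 1 := by
      rw [hbas, he0]
      simp
    rw [hb1, Algebra.smul_def, mul_one] at hsum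
    exact hsum
  · rintro ⟨r, rfl⟩ σ
    exact σ.commutes r

end

end Groth.Agent.Lib.Helper4.ASFam
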