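import Mathlib
import Groth.Agent.Lib.Helper4.ASFam3

/-!
# The fixed-point ideal of the Artin–Schreier family
-/

set_option autoImplicit false
set_option linter.style.haveILetI false
set_option linter.unusedSectionVars false
set_option linter.unusedVariables false
set_option linter.unusedSimpArgs false
set_option maxHeartbeats 1600000
set_option maxSynthPendingDepth 3

universe u

namespace Groth.Agent.Lib.Helper4.ASFam

open MvPolynomial

noncomputable section

theorem length_quot_smul_top_of_basis {R : Type*} [CommRing R] {M : Type*} [AddCommGroup M]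
    [Module R M] {ι : Type*} [Fintype ι] (bas : Module.Basis ι R M) (I : Ideal R) :
    Module.length R (M ⧸ (I • ⊤ : Submodule R M)) =
      (Fintype.card ι : ℕ∞) * Module.length R (R ⧸ I) := by
  classical
  have e1 := TensorProduct.quotTensorEquivQuotSMul M I
  have e2 : TensorProduct R (R ⧸ I) M ≃ₗ[R] TensorProduct R (R ⧸ I) (ι → R) :=
    LinearEquiv.lTensor (R ⧸ I) bas.equivFun
  have e3 : TensorProduct R (R ⧸ I) (ι → R) ≃ₗ[R] (ι → R ⧸ I) :=
    TensorProduct.piScalarRight R R (R ⧸ I) ι
  rw [← e1.length_eq, e2.length_eq, e3.length_eq, Module.length_pi, ENat.card_eq_coe_fintype_card]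

variable (p : ℕ) [hp : Fact p.Prime] (k : Type u) [Field k] (n : ℕ)
  (a : Fin n → MvPowerSeries (Fin n) k)

/-- the ideal generated by the `aᵢ` in `A` -/
def aIdeal : Ideal (AA p k n a) :=
  Ideal.map (algebraMap (RR k n) (AA p k n a)) (Ideal.span (Set.range a))

lemma aIdeal_eq : aIdeal p k n a =
    Ideal.span (Set.range fun i => algebraMap (RR k n) (AA p k n a) (a i)) := by
  unfold aIdeal
  rw [Ideal.map_span, ← Set.range_comp]
  rfl

theorem fixIdeal_eq (σ : AA p k n a ≃ₐ[RR k n] AA p k n a)
    (hσ : ∀ i, σ (uu p k n a i) = uu p k n a i + algebraMap (RR k n) (AA p k n a) (a i)) :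
    Ideal.span (Set.range fun t : AA p k n a => σ t - t) = aIdeal p k n a := by
  apply le_antisymm
  · rw [Ideal.span_le]
    rintro _ ⟨t, rfl⟩
    show σ t - t ∈ aIdeal p k n a
    obtain ⟨P, rfl⟩ := Ideal.Quotient.mk_surjective t
    induction P using MvPolynomial.induction_on with
    | C r =>
      rw [mk_C_eq, AlgEquiv.commutes, sub_self]
      exact Ideal.zero_mem _
    | add P Q hP hQ =>
      have h1 : σ (Ideal.Quotient.mk (asI p k n a) (P + Q)) -
            Ideal.Quotient.mk (asI p k n a) (P + Q) =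
          (σ (Ideal.Quotient.mk (asI p k n a) P) - Ideal.Quotient.mk (asI p k n a) P) +
          (σ (Ideal.Quotient.mk (asI p k n a) Q) - Ideal.Quotient.mk (asI p k n a) Q) := by
        rw [map_add, map_add]; ring
      rw [h1]
      exact Ideal.add_mem _ hP hQ
    | mul_X P i hP =>
      have hx : Ideal.Quotient.mk (asI p k n a) (X i) = uu p k n a i := rfl
      have h1 : σ (Ideal.Quotient.mk (asI p k n a) (P * X i)) -
            Ideal.Quotient.mk (asI p k n a) (P * X i) =
          (σ (Ideal.Quotient.mk (asI p k n a) P) - Ideal.Quotient.mk (asI p k n a) P) *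
              uu p k n a i +
            σ (Ideal.Quotient.mk (asI p k n a) P) * algebraMap (RR k n) (AA p k n a) (a i) := by
        rw [map_mul, map_mul, hx, hσ]; ring
      rw [h1]
      refine Ideal.add_mem _ (Ideal.mul_mem_right _ _ hP) (Ideal.mul_mem_left _ _ ?_)
      exact Ideal.mem_map_of_mem _ (Ideal.subset_span ⟨i, rfl⟩)
  · rw [aIdeal_eq, Ideal.span_le]
    rintro _ ⟨i, rfl⟩
    have h1 : algebraMap (RR k n) (AA p k n a) (a i) = σ (uu p k n a i) - uu p k n a i := by
      rw [hσ]; ring
    show algebraMap (RR k n) (AA p k n a) (a i) ∈ _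
    rw [h1]
    exact Ideal.subset_span ⟨uu p k n a i, rfl⟩

lemma algebraMap_mem_nn (r : RR k n) (hr : MvPowerSeries.constantCoeff r = 0) :
    algebraMap (RR k n) (AA p k n a) r ∈ nn p k n a :=
  map_max_le p k n a (Ideal.mem_map_of_mem _ ((mem_max_iff k n r).mpr hr))

variable (ham : ∀ i, MvPowerSeries.constantCoeff (a i) = 0)

include ham

lemma algebraMap_X_mem_pow (l : Fin n) :
    algebraMap (RR k n) (AA p k n a) (MvPowerSeries.X l) ∈ nn p k n a ^ p := by
  have h := uu_rel p k n a l
  have e : algebraMap (RR k n) (AA p k n a) (MvPowerSeries.X l) =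
      uu p k n a l ^ p - algebraMap (RR k n) (AA p k n a) (a l) ^ (p - 1) * uu p k n a l := by
    rw [h, map_pow]; ring
  rw [e]
  refine Ideal.sub_mem _ (Ideal.pow_mem_pow (uu_mem p k n a l) p) ?_
  have h2 : algebraMap (RR k n) (AA p k n a) (a l) ^ (p - 1) * uu p k n a l ∈
      nn p k n a ^ (p - 1) * nn p k n a :=
    Ideal.mul_mem_mul (Ideal.pow_mem_pow (algebraMap_mem_nn p k n a _ (ham l)) (p - 1))
      (uu_mem p k n a l)
  rw [← pow_succ, Nat.sub_add_cancel hp.out.pos] at h2
  exact h2

lemma aIdeal_le : aIdeal p k n a ≤ nn p k n a ^ p := by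
  have h1 : Ideal.map (algebraMap (RR k n) (AA p k n a)) (IsLocalRing.maximalIdeal (RR k n)) ≤
      nn p k n a ^ p := by
    rw [Groth.Agent.Lib.Helper1.PSOmega.maximalIdeal_eq_span, Ideal.map_span, Ideal.span_le]
    rintro _ ⟨_, ⟨l, rfl⟩, rfl⟩
    exact algebraMap_X_mem_pow p k n a ham l
  refine le_trans (Ideal.map_mono ?_) h1
  rw [Ideal.span_le]
  rintro _ ⟨i, rfl⟩
  exact (mem_max_iff k n _).mpr (ham i)

lemma as_isLocalHom : IsLocalHom (algebraMap (RR k n) (AA p k n a)) := by
  refine ⟨fun r hr => ?_⟩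
  by_contra hnu
  have hmem : r ∈ IsLocalRing.maximalIdeal (RR k n) := (IsLocalRing.mem_maximalIdeal r).mpr hnu
  have h1 : algebraMap (RR k n) (AA p k n a) r ∈ nn p k n a :=
    map_max_le p k n a (Ideal.mem_map_of_mem _ hmem)
  exact (nn_isMaximal p k n a ham).ne_top (Ideal.eq_top_of_isUnit_mem _ h1 hr)

theorem length_restrict (M : Type*) [AddCommGroup M] [Module (AA p k n a) M] [Module (RR k n) M]
    [IsScalarTower (RR k n) (AA p k n a) M] :
    Module.length (RR k n) M = Module.length (AA p k n a) M := by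
  haveI := as_isLocalRing p k n a ham
  haveI := as_isLocalHom p k n a ham
  have h := IsLocalRing.length_restrictScalars (RR k n) (AA p k n a) M
  have hmax : IsLocalRing.maximalIdeal (AA p k n a) = nn p k n a :=
    (IsLocalRing.eq_maximalIdeal (nn_isMaximal p k n a ham)).symm
  have hsurj : Function.Surjective (algebraMap (IsLocalRing.ResidueField (RR k n))
      (IsLocalRing.ResidueField (AA p k n a))) := by
    intro y
    obtain ⟨b, rfl⟩ := IsLocalRing.residue_surjective y
    obtain ⟨c, hc⟩ := dec p k n a b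
    refine ⟨IsLocalRing.residue (RR k n) (MvPowerSeries.C c), ?_⟩
    rw [IsLocalRing.ResidueField.algebraMap_residue]
    symm
    rw [← sub_eq_zero, ← map_sub, IsLocalRing.residue_eq_zero_iff, hmax]
    exact hc
  have hone : Module.length (IsLocalRing.ResidueField (RR k n))
      (IsLocalRing.ResidueField (AA p k n a)) = 1 := by
    let e : IsLocalRing.ResidueField (RR k n) ≃ₗ[IsLocalRing.ResidueField (RR k n)]
        IsLocalRing.ResidueField (AA p k n a) :=
      LinearEquiv.ofBijective (Algebra.linearMap _ _)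
        ⟨(algebraMap (IsLocalRing.ResidueField (RR k n))
          (IsLocalRing.ResidueField (AA p k n a))).injective, hsurj⟩
    rw [← e.length_eq]
    exact Module.length_eq_one_iff.mpr inferInstance
  rw [h, hone, mul_one]

theorem length_aIdeal :
    Module.length (AA p k n a) (AA p k n a ⧸ aIdeal p k n a) =
      (p ^ n : ℕ∞) * Module.length (RR k n) (RR k n ⧸ Ideal.span (Set.range a)) := by
  classical
  obtain ⟨bas, -⟩ := as_basis p k n a
  rw [← length_restrict p k n a ham (AA p k n a ⧸ aIdeal p k n a)]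
  have hres : (aIdeal p k n a).restrictScalars (RR k n) =
      (Ideal.span (Set.range a) • ⊤ : Submodule (RR k n) (AA p k n a)) := by
    unfold aIdeal
    exact (Ideal.smul_top_eq_map _).symm
  have e1 : (AA p k n a ⧸ (aIdeal p k n a).restrictScalars (RR k n)) ≃ₗ[RR k n]
      (AA p k n a ⧸ aIdeal p k n a) :=
    Submodule.Quotient.restrictScalarsEquiv (RR k n) (aIdeal p k n a)
  have e2 : (AA p k n a ⧸ (aIdeal p k n a).restrictScalars (RR k n)) ≃ₗ[RR k n]
      (AA p k n a ⧸ (Ideal.span (Set.range a) • ⊤ : Submodule (RR k n) (AA p k n a))) :=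
    Submodule.quotEquivOfEq _ _ hres
  rw [← e1.length_eq, e2.length_eq, length_quot_smul_top_of_basis bas, Fintype.card_fun,
    Fintype.card_fin, Fintype.card_fin, Nat.cast_pow]

theorem fixedIdeal_main (σ : AA p k n a ≃ₐ[RR k n] AA p k n a)
    (hσ : ∀ i, σ (uu p k n a i) = uu p k n a i + algebraMap (RR k n) (AA p k n a) (a i)) :
    Ideal.span (Set.range fun t : AA p k n a => σ t - t) ≤
        Ideal.span (Set.range (uu p k n a)) ^ p ∧
      Module.length (AA p k n a)
          (AA p k n a ⧸ Ideal.span (Set.range fun t : AA p k n a => σ t - t)) =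
        (p ^ n : ℕ∞) * Module.length (RR k n) (RR k n ⧸ Ideal.span (Set.range a)) := by
  have hJ := fixIdeal_eq p k n a σ hσ
  rw [hJ]
  exact ⟨aIdeal_le p k n a ham, length_aIdeal p k n a ham⟩

end

end Groth.Agent.Lib.Helper4.ASFam
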