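import Mathlib

/-!
# Symmetric forms on skew group rings
-/

set_option autoImplicit false
set_option linter.style.haveILetI false
set_option linter.unusedSectionVars false
set_option linter.unusedVariables false
set_option linter.unusedSimpArgs false
set_option maxHeartbeats 1600000

namespace Groth.Agent.Lib.Helper4.SkewSym

open SkewMonoidAlgebra

noncomputable section

variable {R A G : Type*} [CommRing R] [CommRing A] [Algebra R A] [Group G]
  [MulSemiringAction G A] [SMulCommClass G R A]

/-- the linear form `x ↦ lam (x.coeff 1)` -/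
def phi (lam : A →ₗ[R] R) : SkewMonoidAlgebra A G →ₗ[R] R :=
  lam ∘ₗ (Finsupp.lapply (1 : G) : (G →₀ A) →ₗ[R] A) ∘ₗ
    (coeffLinearEquiv (S := R) (k := A) (G := G)).toLinearMap

lemma phi_apply (lam : A →ₗ[R] R) (x : SkewMonoidAlgebra A G) :
    phi lam x = lam (x.coeff 1) := rfl

lemma phi_single_mul (lam : A →ₗ[R] R) (h : G) (b : A) (y : SkewMonoidAlgebra A G) :
    phi lam (single h b * y) = lam (b * h • y.coeff h⁻¹) := by
  rw [phi_apply, coeff_single_mul, mul_one]

lemma phi_single_mul_single [DecidableEq G] (lam : A →ₗ[R] R) (h h' : G) (b c : A) :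
    phi lam (single h b * single h' c) = if h * h' = 1 then lam (b * h • c) else 0 := by
  rw [single_mul_single, phi_apply, coeff_single_apply]
  by_cases hh : h * h' = 1
  · rw [if_pos hh, if_pos hh]
  · rw [if_neg hh, if_neg hh, map_zero]

theorem phi_symm (lam : A →ₗ[R] R) (hinv : ∀ (g : G) (b : A), lam (g • b) = lam b)
    (x y : SkewMonoidAlgebra A G) : phi lam (x * y) = phi lam (y * x) := by
  classical
  induction x using SkewMonoidAlgebra.induction_on with
  | zero => rw [zero_mul, mul_zero]
  | single h b =>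
    induction y using SkewMonoidAlgebra.induction_on with
    | zero => rw [zero_mul, mul_zero]
    | single h' c =>
      rw [phi_single_mul_single, phi_single_mul_single]
      by_cases hh : h * h' = 1
      · have e : h' = h⁻¹ := eq_inv_of_mul_eq_one_right hh
        have hh' : h' * h = 1 := by rw [e, inv_mul_cancel]
        rw [if_pos hh, if_pos hh', e]
        calc lam (b * h • c) = lam (h • c * b) := by rw [mul_comm]
          _ = lam (h • (c * h⁻¹ • b)) := by rw [smul_mul', smul_inv_smul]
          _ = lam (c * h⁻¹ • b) := hinv h _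
      · have hh' : ¬ h' * h = 1 := by
          intro h1
          apply hh
          have e : h = h'⁻¹ := eq_inv_of_mul_eq_one_right h1
          rw [e, inv_mul_cancel]
        rw [if_neg hh, if_neg hh']
    | add y1 y2 h1 h2 => rw [mul_add, add_mul, map_add, map_add, h1, h2]
  | add x1 x2 h1 h2 => rw [add_mul, mul_add, map_add, map_add, h1, h2]

theorem phi_injective (lam : A →ₗ[R] R)
    (hinj : ∀ c c' : A, (∀ b, lam (b * c) = lam (b * c')) → c = c') :
    Function.Injective (fun y : SkewMonoidAlgebra A G =>
      fun x : SkewMonoidAlgebra A G => phi lam (x * y)) := by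
  intro y y' hyy
  apply SkewMonoidAlgebra.ext
  intro h
  have h1 : ∀ b : A, lam (b * h⁻¹ • y.coeff h) = lam (b * h⁻¹ • y'.coeff h) := by
    intro b
    have h2 : phi lam (single h⁻¹ b * y) = phi lam (single h⁻¹ b * y') :=
      congrFun hyy (single h⁻¹ b)
    rw [phi_single_mul, phi_single_mul, inv_inv] at h2
    exact h2
  exact smul_left_cancel h⁻¹ (hinj _ _ h1)

/-- `b ↦ single h b` as a linear map -/
def singleLin (h : G) : A →ₗ[R] SkewMonoidAlgebra A G where
  toFun b := single h b
  map_add' := single_add h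
  map_smul' r b := by rw [RingHom.id_apply, smul_single]

theorem phi_surjective [Finite G] (lam : A →ₗ[R] R)
    (hsurj : ∀ ψ : A →ₗ[R] R, ∃ c : A, ∀ b, ψ b = lam (b * c))
    (ψ : SkewMonoidAlgebra A G →ₗ[R] R) :
    ∃ y : SkewMonoidAlgebra A G, ∀ x, ψ x = phi lam (x * y) := by
  classical
  haveI := Fintype.ofFinite G
  have h1 : ∀ h : G, ∃ c : A, ∀ b, ψ (single h b) = lam (b * c) := by
    intro h
    exact hsurj (ψ ∘ₗ (singleLin (R := R) h))
  choose c hc using h1
  refine ⟨⟨Finsupp.equivFunOnFinite.symm (fun g => g • c g⁻¹)⟩, ?_⟩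
  intro x
  induction x using SkewMonoidAlgebra.induction_on with
  | zero => rw [zero_mul, map_zero, map_zero]
  | single h b =>
    rw [phi_single_mul, hc]
    have hy : (⟨Finsupp.equivFunOnFinite.symm (fun g => g • c g⁻¹)⟩ :
        SkewMonoidAlgebra A G).coeff h⁻¹ = h⁻¹ • c h := by
      simp
    rw [hy, smul_inv_smul]
  | add x1 x2 h1 h2 => rw [add_mul, map_add, map_add, h1, h2]

/-- the whole package -/
theorem symmetric_of_invariant_perfect [Finite G] (lam : A →ₗ[R] R)
    (hinv : ∀ (g : G) (b : A), lam (g • b) = lam b)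
    (hinj : ∀ c c' : A, (∀ b, lam (b * c) = lam (b * c')) → c = c')
    (hsurj : ∀ ψ : A →ₗ[R] R, ∃ c : A, ∀ b, ψ b = lam (b * c)) :
    ∃ φ : SkewMonoidAlgebra A G →ₗ[R] R,
      (∀ x y : SkewMonoidAlgebra A G, φ (x * y) = φ (y * x)) ∧
      Function.Injective (fun y : SkewMonoidAlgebra A G =>
        fun x : SkewMonoidAlgebra A G => φ (x * y)) ∧
      ∀ ψ : SkewMonoidAlgebra A G →ₗ[R] R, ∃ y : SkewMonoidAlgebra A G, ∀ x, ψ x = φ (x * y) :=
  ⟨phi lam, phi_symm lam hinv, phi_injective lam hinj, phi_surjective lam hsurj⟩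

/-- invariance under a generator suffices -/
theorem invariant_of_generator (lam : A →ₗ[R] R) (g : G)
    (hgen : ∀ h : G, h ∈ Subgroup.zpowers g) (hg : ∀ b : A, lam (g • b) = lam b) :
    ∀ (h : G) (b : A), lam (h • b) = lam b := by
  let S : Subgroup G :=
    { carrier := {h | ∀ b : A, lam (h • b) = lam b}
      mul_mem' := by
        intro x y hx hy b
        rw [mul_smul, hx, hy]
      one_mem' := by
        intro b
        rw [one_smul]
      inv_mem' := by
        intro x hx b
        have := hx (x⁻¹ • b)
        rw [smul_inv_smul] at this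
        exact this.symm }
  have hle : Subgroup.zpowers g ≤ S := (Subgroup.zpowers_le).mpr hg
  intro h
  exact hle (hgen h)

end

end Groth.Agent.Lib.Helper4.SkewSym
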