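import Mathlib
import Groth.Agent.Lib.Helper4.ASFam4
import Groth.Agent.Lib.Helper4.SkewSym

/-!
# The skew group ring of the Artin–Schreier family is symmetric
-/

set_option autoImplicit false
set_option linter.style.haveILetI false
set_option linter.unusedSectionVars false
set_option linter.unusedVariables false
set_option linter.unusedSimpArgs false
set_option maxHeartbeats 1600000
set_option maxSynthPendingDepth 3

universe u

namespace Groth.Agent.Lib.Helper4.ASFam

open MvPolynomial

noncomputable section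

variable (p : ℕ) [hp : Fact p.Prime] (k : Type u) [Field k] (n : ℕ)
  (a : Fin n → MvPowerSeries (Fin n) k)

/-- the top index -/
def topIdx : Fin n → Fin p := fun _ => ⟨p - 1, Nat.sub_lt hp.out.pos Nat.one_pos⟩

/-- index from natural exponents -/
def toIdx (q : Fin n → ℕ) : Fin n → Fin p := fun i => ⟨q i % p, Nat.mod_lt _ hp.out.pos⟩

lemma toIdx_eq_top_iff (q : Fin n → ℕ) (hq : ∀ i, q i < p) :
    toIdx p n q = topIdx p n ↔ ∀ i, q i = p - 1 := by
  constructor
  · intro h i
    have h1 : ((toIdx p n q i : Fin p) : ℕ) = ((topIdx p n i : Fin p) : ℕ) := by rw [h]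
    have h2 : q i % p = p - 1 := h1
    rwa [Nat.mod_eq_of_lt (hq i)] at h2
  · intro h
    funext i
    apply Fin.ext
    show q i % p = p - 1
    rw [Nat.mod_eq_of_lt (hq i), h i]

/-- the reversal -/
def revIdx (e : Fin n → Fin p) : Fin n → Fin p := fun i => (e i).rev

lemma revIdx_revIdx (e : Fin n → Fin p) : revIdx p n (revIdx p n e) = e := by
  funext i
  show ((e i).rev).rev = e i
  rw [Fin.rev_rev]

lemma eq_revIdx_iff (e e' : Fin n → Fin p) :
    e' = revIdx p n e ↔ ∀ i, (e i : ℕ) + (e' i : ℕ) = p - 1 := by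
  constructor
  · intro h i
    rw [h]
    show (e i : ℕ) + ((e i).rev : ℕ) = p - 1
    rw [Fin.val_rev]
    have := (e i).isLt
    omega
  · intro h
    funext i
    apply Fin.ext
    show (e' i : ℕ) = ((e i).rev : ℕ)
    rw [Fin.val_rev]
    have := h i
    have := (e i).isLt
    omega

lemma cc_coord_of_mem (bas : Module.Basis (Fin n → Fin p) (RR k n) (AA p k n a))
    (b : AA p k n a)
    (hb : b ∈ Ideal.map (algebraMap (RR k n) (AA p k n a)) (IsLocalRing.maximalIdeal (RR k n)))
    (e : Fin n → Fin p) : MvPowerSeries.constantCoeff (bas.coord e b) = 0 := by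
  have hb' : b ∈ (IsLocalRing.maximalIdeal (RR k n) • ⊤ :
      Submodule (RR k n) (AA p k n a)) := by
    rw [Ideal.smul_top_eq_map]
    exact hb
  refine Submodule.smul_induction_on hb' ?_ ?_
  · intro r hr x _
    rw [map_smul, smul_eq_mul, map_mul, (mem_max_iff k n r).mp hr, zero_mul]
  · intro x y hx hy
    rw [map_add, map_add, hx, hy, add_zero]

/-- the Gram matrix -/
def gram (bas : Module.Basis (Fin n → Fin p) (RR k n) (AA p k n a)) :
    Matrix (Fin n → Fin p) (Fin n → Fin p) (RR k n) :=
  Matrix.of fun e e' => bas.coord (topIdx p n) (bas e * bas e')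

lemma upow_mem (ham : ∀ i, MvPowerSeries.constantCoeff (a i) = 0) (i : Fin n) (m : ℕ)
    (hm : p ≤ m) :
    uu p k n a i ^ m ∈ Ideal.map (algebraMap (RR k n) (AA p k n a))
      (IsLocalRing.maximalIdeal (RR k n)) := by
  obtain ⟨d, rfl⟩ := Nat.exists_eq_add_of_le hm
  rw [pow_add, uu_rel]
  refine Ideal.mul_mem_right _ _ ?_
  exact Ideal.add_mem _
      (Ideal.mul_mem_right _ _ (Ideal.mem_map_of_mem _
        ((mem_max_iff k n _).mpr (cc_apow p k n a ham i))))
      (Ideal.mem_map_of_mem _ ((mem_max_iff k n _).mpr (MvPowerSeries.constantCoeff_X i)))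

section
variable (bas : Module.Basis (Fin n → Fin p) (RR k n) (AA p k n a))
  (hbas : ∀ e, bas e = ∏ i, uu p k n a i ^ (e i : ℕ))
include hbas

lemma bas_toIdx (q : Fin n → ℕ) (hq : ∀ i, q i < p) :
    ∏ i, uu p k n a i ^ q i = bas (toIdx p n q) := by
  rw [hbas]
  refine Finset.prod_congr rfl (fun i _ => ?_)
  show _ = uu p k n a i ^ (q i % p)
  rw [Nat.mod_eq_of_lt (hq i)]

omit hbas in
lemma coord_top_bas (e : Fin n → Fin p) :
    bas.coord (topIdx p n) (bas e) = if e = topIdx p n then 1 else 0 := by
  classical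
  rw [Module.Basis.coord_apply, Module.Basis.repr_self, Finsupp.single_apply]

theorem coord_top_shift (τ : AA p k n a →ₐ[RR k n] AA p k n a)
    (hτ : ∀ i, τ (uu p k n a i) = uu p k n a i + algebraMap (RR k n) (AA p k n a) (a i))
    (b : AA p k n a) :
    bas.coord (topIdx p n) (τ b) = bas.coord (topIdx p n) b := by
  classical
  suffices h : (bas.coord (topIdx p n)) ∘ₗ τ.toLinearMap = bas.coord (topIdx p n) by
    exact LinearMap.congr_fun h b
  apply bas.ext
  intro e
  rw [LinearMap.comp_apply, AlgHom.toLinearMap_apply, coord_top_bas p k n a bas, hbas, map_prod]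
  simp_rw [map_pow, hτ]
  have hexp : ∏ i, (uu p k n a i + algebraMap (RR k n) (AA p k n a) (a i)) ^ (e i : ℕ) =
      ∑ q ∈ Fintype.piFinset (fun i => Finset.range ((e i : ℕ) + 1)),
        (∏ i, (a i) ^ ((e i : ℕ) - q i) * (((e i : ℕ).choose (q i) : ℕ) : RR k n)) •
          ∏ i, uu p k n a i ^ (q i) := by
    simp_rw [add_pow]
    rw [Finset.prod_univ_sum]
    refine Finset.sum_congr rfl (fun q _ => ?_)
    rw [Algebra.smul_def, map_prod, ← Finset.prod_mul_distrib]
    refine Finset.prod_congr rfl (fun i _ => ?_)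
    rw [map_mul, map_pow, map_natCast]
    ring
  rw [hexp, map_sum]
  have hterm : ∀ q ∈ Fintype.piFinset (fun i => Finset.range ((e i : ℕ) + 1)),
      bas.coord (topIdx p n)
        ((∏ i, (a i) ^ ((e i : ℕ) - q i) * (((e i : ℕ).choose (q i) : ℕ) : RR k n)) •
          ∏ i, uu p k n a i ^ (q i)) =
      if (∀ i, q i = p - 1) then 1 else 0 := by
    intro q hq
    have hq' : ∀ i, q i < p := by
      intro i
      have h1 := Fintype.mem_piFinset.mp hq i
      rw [Finset.mem_range] at h1
      have h2 := (e i).isLt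
      omega
    rw [map_smul, smul_eq_mul, bas_toIdx p k n a bas hbas q hq', coord_top_bas p k n a bas]
    by_cases hall : ∀ i, q i = p - 1
    · rw [if_pos hall, if_pos ((toIdx_eq_top_iff p n q hq').mpr hall), mul_one]
      apply Finset.prod_eq_one
      intro i _
      have h1 := Fintype.mem_piFinset.mp hq i
      rw [Finset.mem_range] at h1
      have h2 := (e i).isLt
      have h3 : (e i : ℕ) = q i := by have := hall i; omega
      rw [h3, Nat.sub_self, pow_zero, Nat.choose_self, Nat.cast_one, mul_one]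
    · rw [if_neg hall, if_neg (fun h => hall ((toIdx_eq_top_iff p n q hq').mp h)), mul_zero]
  rw [Finset.sum_congr rfl hterm]
  by_cases he : e = topIdx p n
  · rw [if_pos he]
    rw [Finset.sum_eq_single (fun _ => p - 1)]
    · rw [if_pos (fun _ => rfl)]
    · intro q _ hne
      rw [if_neg]
      intro hall
      exact hne (funext hall)
    · intro hnot
      exfalso
      apply hnot
      rw [Fintype.mem_piFinset]
      intro i
      rw [Finset.mem_range, he]
      show p - 1 < (p - 1) + 1
      omega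
  · rw [if_neg he]
    apply Finset.sum_eq_zero
    intro q hq
    rw [if_neg]
    intro hall
    apply he
    funext i
    apply Fin.ext
    have h1 := Fintype.mem_piFinset.mp hq i
    rw [Finset.mem_range] at h1
    have h2 := (e i).isLt
    have h3 := hall i
    show (e i : ℕ) = p - 1
    omega

lemma bas_mul_bas (e e' : Fin n → Fin p) :
    bas e * bas e' = ∏ i, uu p k n a i ^ ((e i : ℕ) + (e' i : ℕ)) := by
  rw [hbas, hbas, ← Finset.prod_mul_distrib]
  refine Finset.prod_congr rfl (fun i _ => ?_)
  rw [pow_add]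

omit hbas in
theorem gram_mulVec (c : AA p k n a) (e : Fin n → Fin p) :
    bas.coord (topIdx p n) (bas e * c) =
      ((gram p k n a bas).mulVec (fun e' => bas.repr c e')) e := by
  show _ = ∑ e', gram p k n a bas e e' * bas.repr c e'
  conv_lhs => rw [← bas.sum_repr c]
  rw [Finset.mul_sum, map_sum]
  refine Finset.sum_congr rfl (fun e' _ => ?_)
  rw [mul_smul_comm, map_smul, smul_eq_mul]
  exact mul_comm _ _

variable (ham : ∀ i, MvPowerSeries.constantCoeff (a i) = 0)
include ham

theorem cc_gram (e e' : Fin n → Fin p) :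
    MvPowerSeries.constantCoeff (bas.coord (topIdx p n) (bas e * bas e')) =
      if e' = revIdx p n e then 1 else 0 := by
  classical
  by_cases hbig : ∃ i, p ≤ (e i : ℕ) + (e' i : ℕ)
  · obtain ⟨i, hi⟩ := hbig
    have hmem : bas e * bas e' ∈ Ideal.map (algebraMap (RR k n) (AA p k n a))
        (IsLocalRing.maximalIdeal (RR k n)) := by
      rw [bas_mul_bas p k n a bas hbas]
      obtain ⟨c, hc⟩ := Finset.dvd_prod_of_mem
        (fun i => uu p k n a i ^ ((e i : ℕ) + (e' i : ℕ))) (Finset.mem_univ i)
      rw [hc]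
      exact Ideal.mul_mem_right _ _ (upow_mem p k n a ham i _ hi)
    rw [cc_coord_of_mem p k n a bas _ hmem, if_neg]
    intro h
    have := (eq_revIdx_iff p n e e').mp h i
    omega
  · push_neg at hbig
    rw [bas_mul_bas p k n a bas hbas, bas_toIdx p k n a bas hbas _ hbig,
      coord_top_bas p k n a bas]
    by_cases h : e' = revIdx p n e
    · rw [if_pos h, if_pos, map_one]
      exact (toIdx_eq_top_iff p n _ hbig).mpr ((eq_revIdx_iff p n e e').mp h)
    · rw [if_neg h, if_neg, map_zero]
      intro h2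
      exact h ((eq_revIdx_iff p n e e').mpr ((toIdx_eq_top_iff p n _ hbig).mp h2))

theorem isUnit_det_gram : IsUnit (gram p k n a bas).det := by
  classical
  rw [MvPowerSeries.isUnit_iff_constantCoeff]
  have hmap : MvPowerSeries.constantCoeff ((gram p k n a bas).det) =
      ((MvPowerSeries.constantCoeff : RR k n →+* k).mapMatrix (gram p k n a bas)).det :=
    RingHom.map_det _ _
  rw [hmap]
  obtain ⟨P, hP⟩ : ∃ P : Matrix (Fin n → Fin p) (Fin n → Fin p) k,
      P = (MvPowerSeries.constantCoeff : RR k n →+* k).mapMatrix (gram p k n a bas) :=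
    ⟨_, rfl⟩
  rw [← hP]
  have hPe : ∀ e e', P e e' = if e' = revIdx p n e then 1 else 0 := by
    intro e e'
    rw [hP]
    exact cc_gram p k n a bas hbas ham e e'
  have hPP : P * P = 1 := by
    ext e e''
    rw [Matrix.mul_apply, Matrix.one_apply]
    rw [Finset.sum_eq_single (revIdx p n e)]
    · rw [hPe, if_pos rfl, one_mul, hPe, revIdx_revIdx]
      by_cases h : e = e''
      · rw [if_pos h, if_pos h.symm]
      · rw [if_neg h, if_neg (fun h' => h h'.symm)]
    · intro e' _ hne
      rw [hPe, if_neg hne, zero_mul]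
    · intro h; exact absurd (Finset.mem_univ _) h
  have hdet : P.det * P.det = 1 := by rw [← Matrix.det_mul, hPP, Matrix.det_one]
  exact IsUnit.of_mul_eq_one _ hdet

theorem lam_inj (c c' : AA p k n a)
    (h : ∀ b, bas.coord (topIdx p n) (b * c) = bas.coord (topIdx p n) (b * c')) : c = c' := by
  classical
  have hu := isUnit_det_gram p k n a bas hbas ham
  have h1 : (gram p k n a bas).mulVec (fun e' => bas.repr c e') =
      (gram p k n a bas).mulVec (fun e' => bas.repr c' e') := by
    funext e
    rw [← gram_mulVec, ← gram_mulVec, h]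
  have h2 : (fun e' => bas.repr c e') = (fun e' => bas.repr c' e') := by
    have h3 := congrArg ((gram p k n a bas)⁻¹).mulVec h1
    rwa [Matrix.mulVec_mulVec, Matrix.mulVec_mulVec, Matrix.nonsing_inv_mul _ hu,
      Matrix.one_mulVec, Matrix.one_mulVec] at h3
  apply bas.repr.injective
  apply Finsupp.ext
  intro e
  exact congrFun h2 e

theorem lam_surj (ψ : AA p k n a →ₗ[RR k n] RR k n) :
    ∃ c, ∀ b, ψ b = bas.coord (topIdx p n) (b * c) := by
  classical
  have hu := isUnit_det_gram p k n a bas hbas ham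
  obtain ⟨w, hw⟩ : ∃ w : (Fin n → Fin p) → RR k n,
      w = ((gram p k n a bas)⁻¹).mulVec (fun e => ψ (bas e)) := ⟨_, rfl⟩
  refine ⟨∑ e', w e' • bas e', ?_⟩
  have hrepr : (fun e' => bas.repr (∑ e'', w e'' • bas e'') e') = w := by
    funext e'
    rw [bas.repr_sum_self]
  have h3 : (gram p k n a bas).mulVec w = fun e => ψ (bas e) := by
    rw [hw, Matrix.mulVec_mulVec, Matrix.mul_nonsing_inv _ hu, Matrix.one_mulVec]
  have key : ψ = (bas.coord (topIdx p n)) ∘ₗ
      (LinearMap.mulRight (RR k n) (∑ e', w e' • bas e')) := by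
    apply bas.ext
    intro e
    rw [LinearMap.comp_apply, LinearMap.mulRight_apply, gram_mulVec p k n a bas, hrepr, h3]
  intro b
  conv_lhs => rw [key]
  rfl

end

theorem skew_symmetric (ham : ∀ i, MvPowerSeries.constantCoeff (a i) = 0)
    (G : Type*) [Group G] [Finite G] [MulSemiringAction G (AA p k n a)]
    [SMulCommClass G (RR k n) (AA p k n a)] (g : G) (hgen : ∀ h : G, h ∈ Subgroup.zpowers g)
    (hg : ∀ i, g • uu p k n a i = uu p k n a i + algebraMap (RR k n) (AA p k n a) (a i)) :
    ∃ φ : SkewMonoidAlgebra (AA p k n a) G →ₗ[RR k n] RR k n,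
      (∀ x y : SkewMonoidAlgebra (AA p k n a) G, φ (x * y) = φ (y * x)) ∧
      Function.Injective (fun y : SkewMonoidAlgebra (AA p k n a) G =>
        fun x : SkewMonoidAlgebra (AA p k n a) G => φ (x * y)) ∧
      ∀ ψ : SkewMonoidAlgebra (AA p k n a) G →ₗ[RR k n] RR k n,
        ∃ y : SkewMonoidAlgebra (AA p k n a) G, ∀ x, ψ x = φ (x * y) := by
  obtain ⟨bas, hbas⟩ := as_basis p k n a
  have hbas' : ∀ e, bas e = ∏ i, uu p k n a i ^ (e i : ℕ) := hbas
  apply SkewSym.symmetric_of_invariant_perfect (bas.coord (topIdx p n))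
  · apply SkewSym.invariant_of_generator _ g hgen
    intro b
    exact coord_top_shift p k n a bas hbas'
      (MulSemiringAction.toAlgHom (RR k n) (AA p k n a) g) hg b
  · exact lam_inj p k n a bas hbas' ham
  · exact lam_surj p k n a bas hbas' ham

end

end Groth.Agent.Lib.Helper4.ASFam
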