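import Mathlib
import Groth.Agent.Lib.Helper4.ASFam5

/-!
# Minor elements of the Artin–Schreier family
-/

set_option autoImplicit false
set_option linter.style.haveILetI false
set_option linter.unusedSectionVars false
set_option linter.unusedVariables false
set_option linter.unusedSimpArgs false
set_option maxHeartbeats 1600000
set_option maxSynthPendingDepth 3

universe u

namespace Groth.Agent.Lib.Helper4.ASFam

open MvPolynomial

noncomputable section

variable (p : ℕ) [hp : Fact p.Prime] (k : Type u) [Field k] [hk : CharP k p] (n : ℕ)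
  (b : Fin n → MvPowerSeries (Fin n) k) (a : Fin n → MvPowerSeries (Fin n) k) (i₀ : Fin n)

/-- minor elements -/
def zmin (j : {j : Fin n // j ≠ i₀}) : AA p k n b :=
  algebraMap (RR k n) (AA p k n b) (a i₀) * uu p k n b j.1 -
    algebraMap (RR k n) (AA p k n b) (a j.1) * uu p k n b i₀

/-- the map `Z_j ↦ z_j` -/
def psi : MvPolynomial {j : Fin n // j ≠ i₀} (RR k n) →ₐ[RR k n] AA p k n b :=
  MvPolynomial.aeval (zmin p k n b a i₀)

lemma psi_X (j : {j : Fin n // j ≠ i₀}) : psi p k n b a i₀ (X j) = zmin p k n b a i₀ j := by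
  unfold psi
  rw [aeval_X]

lemma psi_C (r : RR k n) :
    psi p k n b a i₀ (C r) = algebraMap (RR k n) (AA p k n b) r := by
  unfold psi
  rw [aeval_C]

/-- the map `R[Z][T] → A` -/
def Phi : Polynomial (MvPolynomial {j : Fin n // j ≠ i₀} (RR k n)) →+* AA p k n b :=
  Polynomial.eval₂RingHom (psi p k n b a i₀ : MvPolynomial {j : Fin n // j ≠ i₀} (RR k n) →+*
    AA p k n b) (uu p k n b i₀)

lemma Phi_C (g : MvPolynomial {j : Fin n // j ≠ i₀} (RR k n)) :
    Phi p k n b a i₀ (Polynomial.C g) = psi p k n b a i₀ g := by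
  unfold Phi
  rw [Polynomial.coe_eval₂RingHom, Polynomial.eval₂_C]
  rfl

lemma Phi_X : Phi p k n b a i₀ Polynomial.X = uu p k n b i₀ := by
  unfold Phi
  rw [Polynomial.coe_eval₂RingHom, Polynomial.eval₂_X]

lemma exists_pow_mul_eq_Phi (c : AA p k n b) :
    ∃ (N : ℕ) (P : Polynomial (MvPolynomial {j : Fin n // j ≠ i₀} (RR k n))),
      algebraMap (RR k n) (AA p k n b) (a i₀) ^ N * c = Phi p k n b a i₀ P := by
  obtain ⟨F, rfl⟩ := Ideal.Quotient.mk_surjective c
  induction F using MvPolynomial.induction_on with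
  | C r =>
    refine ⟨0, Polynomial.C (MvPolynomial.C r), ?_⟩
    rw [pow_zero, one_mul, mk_C_eq, Phi_C, psi_C]
  | add F G hF hG =>
    obtain ⟨N1, P1, h1⟩ := hF
    obtain ⟨N2, P2, h2⟩ := hG
    refine ⟨N1 + N2, Polynomial.C (MvPolynomial.C (a i₀ ^ N2)) * P1 +
      Polynomial.C (MvPolynomial.C (a i₀ ^ N1)) * P2, ?_⟩
    rw [map_add (Phi p k n b a i₀), map_mul (Phi p k n b a i₀), map_mul (Phi p k n b a i₀),
      ← h1, ← h2, Phi_C, Phi_C, psi_C, psi_C, map_pow, map_pow,
      map_add (Ideal.Quotient.mk (asI p k n b)), pow_add]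
    ring
  | mul_X F i hF =>
    obtain ⟨N, P, h⟩ := hF
    have hx : Ideal.Quotient.mk (asI p k n b) (X i) = uu p k n b i := rfl
    have key : ∃ Q, algebraMap (RR k n) (AA p k n b) (a i₀) * uu p k n b i =
        Phi p k n b a i₀ Q := by
      by_cases hi : i = i₀
      · refine ⟨Polynomial.C (MvPolynomial.C (a i₀)) * Polynomial.X, ?_⟩
        rw [hi, map_mul (Phi p k n b a i₀), Phi_C, psi_C, Phi_X]
      · refine ⟨Polynomial.C (MvPolynomial.X ⟨i, hi⟩) +
          Polynomial.C (MvPolynomial.C (a i)) * Polynomial.X, ?_⟩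
        rw [map_add (Phi p k n b a i₀), map_mul (Phi p k n b a i₀), Phi_C, Phi_C, psi_C, psi_X,
          Phi_X]
        unfold zmin
        ring
    obtain ⟨Q, hQ⟩ := key
    refine ⟨N + 1, P * Q, ?_⟩
    rw [map_mul (Ideal.Quotient.mk (asI p k n b)), hx, map_mul (Phi p k n b a i₀), ← h, ← hQ,
      pow_succ]
    ring

/-- the monic relation for `u_{i₀}` over `R[Z]` -/
def Frel : Polynomial (MvPolynomial {j : Fin n // j ≠ i₀} (RR k n)) :=
  Polynomial.X ^ p -
    (Polynomial.C (MvPolynomial.C (b i₀ ^ (p - 1))) * Polynomial.X +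
      Polynomial.C (MvPolynomial.C (MvPowerSeries.X i₀)))

lemma Frel_monic : (Frel p k n b i₀).Monic := by
  apply Polynomial.monic_X_pow_sub
  refine lt_of_le_of_lt Polynomial.degree_linear_le ?_
  exact_mod_cast hp.out.one_lt

lemma Frel_natDegree : (Frel p k n b i₀).natDegree = p := by
  unfold Frel
  rw [Polynomial.natDegree_sub_eq_left_of_natDegree_lt, Polynomial.natDegree_X_pow]
  rw [Polynomial.natDegree_X_pow]
  exact lt_of_le_of_lt Polynomial.natDegree_linear_le hp.out.one_lt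

lemma Frel_ne_one : Frel p k n b i₀ ≠ 1 := by
  intro h
  have h1 := Frel_natDegree p k n b i₀
  rw [h, Polynomial.natDegree_one] at h1
  exact hp.out.ne_zero h1.symm

lemma Phi_Frel : Phi p k n b a i₀ (Frel p k n b i₀) = 0 := by
  unfold Frel
  rw [map_sub, map_add, map_mul, map_pow, Phi_X, Phi_C, Phi_C, psi_C, psi_C, uu_rel, sub_self]

section sigma

variable (σ : AA p k n b ≃ₐ[RR k n] AA p k n b)
  (hσ : ∀ i, σ (uu p k n b i) = uu p k n b i + algebraMap (RR k n) (AA p k n b) (b i))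
  (hprop : ∀ j, a i₀ * b j = a j * b i₀)

include hσ hprop

lemma sigma_zmin (j : {j : Fin n // j ≠ i₀}) : σ (zmin p k n b a i₀ j) = zmin p k n b a i₀ j := by
  unfold zmin
  rw [map_sub, map_mul, map_mul, AlgEquiv.commutes, AlgEquiv.commutes, hσ, hσ]
  have h := congrArg (algebraMap (RR k n) (AA p k n b)) (hprop j.1)
  rw [map_mul, map_mul] at h
  linear_combination h

lemma sigma_psi (g : MvPolynomial {j : Fin n // j ≠ i₀} (RR k n)) :
    σ (psi p k n b a i₀ g) = psi p k n b a i₀ g := by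
  have h : (σ : AA p k n b →ₐ[RR k n] AA p k n b).comp (psi p k n b a i₀) =
      psi p k n b a i₀ := by
    apply MvPolynomial.algHom_ext
    intro j
    rw [AlgHom.comp_apply, psi_X]
    exact sigma_zmin p k n b a i₀ σ hσ hprop j
  exact DFunLike.congr_fun h g

variable (hbm : ∀ i, MvPowerSeries.constantCoeff (b i) = 0) (hb0 : b i₀ ≠ 0)

include hbm hb0

theorem minor_adjoin (t : AA p k n b) (ht : σ t = t) :
    ∃ N : ℕ, algebraMap (RR k n) (AA p k n b) (a i₀) ^ N * t ∈
      Algebra.adjoin (RR k n) (Set.range (zmin p k n b a i₀)) := by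
  classical
  haveI := as_isDomain p k n b hbm
  haveI := charP_AA p k n b
  obtain ⟨N, P, hNP⟩ := exists_pow_mul_eq_Phi p k n b a i₀ t
  obtain ⟨P', hP'⟩ : ∃ P', P' = P %ₘ Frel p k n b i₀ := ⟨_, rfl⟩
  obtain ⟨c, hc⟩ : ∃ c, c = algebraMap (RR k n) (AA p k n b) (a i₀) ^ N * t := ⟨_, rfl⟩
  obtain ⟨d, hd⟩ : ∃ d, d = algebraMap (RR k n) (AA p k n b) (b i₀) := ⟨_, rfl⟩
  obtain ⟨ψ', hψ'⟩ : ∃ ψ' : MvPolynomial {j : Fin n // j ≠ i₀} (RR k n) →+* AA p k n b,
      ψ' = (psi p k n b a i₀ : MvPolynomial {j : Fin n // j ≠ i₀} (RR k n) →+* AA p k n b) :=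
    ⟨_, rfl⟩
  have hd0 : d ≠ 0 := by
    rw [hd]
    intro h0
    exact hb0 (algebraMap_inj p k n b (by rw [h0, map_zero]))
  have hPhi : P'.eval₂ ψ' (uu p k n b i₀) = c := by
    have h1 := Polynomial.modByMonic_add_div P (Frel p k n b i₀)
    have h2 : Phi p k n b a i₀ P = Phi p k n b a i₀ P' := by
      conv_lhs => rw [← h1]
      rw [map_add, map_mul, Phi_Frel, zero_mul, add_zero, hP']
    rw [hc, hNP, h2, hψ']
    rfl
  have hdeg : P'.natDegree < p := by
    have h1 := Polynomial.natDegree_modByMonic_lt P (Frel_monic p k n b i₀)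
      (Frel_ne_one p k n b i₀)
    rwa [Frel_natDegree, ← hP'] at h1
  have hσc : σ c = c := by
    rw [hc, map_mul, map_pow, AlgEquiv.commutes, ht]
  have hσd : σ d = d := by
    rw [hd, AlgEquiv.commutes]
  have hE : ∀ y, σ (P'.eval₂ ψ' y) = P'.eval₂ ψ' (σ y) := by
    intro y
    have h1 := Polynomial.hom_eval₂ P' ψ' (σ : AA p k n b →+* AA p k n b) y
    have h2 : (σ : AA p k n b →+* AA p k n b).comp ψ' = ψ' := by
      ext g
      · rw [hψ']
        exact sigma_psi p k n b a i₀ σ hσ hprop (C g)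
      · rw [hψ']
        exact sigma_psi p k n b a i₀ σ hσ hprop (X _)
    rw [h2] at h1
    exact h1
  have hroots : ∀ j : ℕ, P'.eval₂ ψ' (uu p k n b i₀ + (j : AA p k n b) * d) = c := by
    intro j
    induction j with
    | zero => rw [Nat.cast_zero, zero_mul, add_zero, hPhi]
    | succ j ih =>
      have h1 := congrArg σ ih
      rw [hE, hσc, map_add, hσ, map_mul, map_natCast, hσd, ← hd] at h1
      rw [← h1]
      congr 1
      push_cast
      ring
  obtain ⟨Q, hQ⟩ : ∃ Q : Polynomial (AA p k n b), Q = P'.map ψ' - Polynomial.C c := ⟨_, rfl⟩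
  have hQdeg : Q.natDegree < Fintype.card (Fin p) := by
    rw [Fintype.card_fin, hQ]
    refine lt_of_le_of_lt (Polynomial.natDegree_sub_le _ _) ?_
    rw [Polynomial.natDegree_C, max_eq_left (Nat.zero_le _)]
    exact lt_of_le_of_lt Polynomial.natDegree_map_le hdeg
  have hQroot : ∀ j : Fin p, Q.eval (uu p k n b i₀ + ((j : ℕ) : AA p k n b) * d) = 0 := by
    intro j
    rw [hQ, Polynomial.eval_sub, Polynomial.eval_C, Polynomial.eval_map, hroots, sub_self]
  have hinj : Function.Injective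
      (fun j : Fin p => uu p k n b i₀ + ((j : ℕ) : AA p k n b) * d) := by
    intro j j' h
    have h1 : ((j : ℕ) : AA p k n b) * d = ((j' : ℕ) : AA p k n b) * d := add_left_cancel h
    have h2 : ((j : ℕ) : AA p k n b) = ((j' : ℕ) : AA p k n b) := mul_right_cancel₀ hd0 h1
    have h3 := (CharP.natCast_eq_natCast (AA p k n b) p).mp h2
    exact Fin.ext (Nat.ModEq.eq_of_lt_of_lt h3 j.isLt j'.isLt)
  have hQ0 := Polynomial.eq_zero_of_natDegree_lt_card_of_eval_eq_zero Q hinj hQroot hQdeg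
  have h0 : ψ' (P'.coeff 0) = c := by
    have h1 := congrArg (fun q => Polynomial.coeff q 0) hQ0
    simp only [hQ, Polynomial.coeff_sub, Polynomial.coeff_map, Polynomial.coeff_C_zero,
      Polynomial.coeff_zero] at h1
    exact sub_eq_zero.mp h1
  refine ⟨N, ?_⟩
  rw [← hc, ← h0, Algebra.adjoin_range_eq_range_aeval, hψ']
  exact ⟨P'.coeff 0, rfl⟩

end sigma

/-- nonvanishing from coprimality -/
lemma ne_zero_of_relPrime (hn : 2 ≤ n) (ham : ∀ i, MvPowerSeries.constantCoeff (a i) = 0)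
    (hcop : ∀ i j, i ≠ j → IsRelPrime (a i) (a j)) (i : Fin n) : a i ≠ 0 := by
  intro h0
  haveI := Fin.nontrivial_iff_two_le.mpr hn
  obtain ⟨j, hj⟩ := exists_ne i
  have hrel := hcop i j hj.symm
  have hu : IsUnit (a j) := hrel (by rw [h0]; exact dvd_zero _) dvd_rfl
  have h1 := MvPowerSeries.isUnit_iff_constantCoeff.mp hu
  rw [ham j] at h1
  exact not_isUnit_zero h1

theorem minor_adjoin_mu (hn : 2 ≤ n) (μ : MvPowerSeries (Fin n) k)
    (ham : ∀ i, MvPowerSeries.constantCoeff (a i) = 0)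
    (hcop : ∀ i j, i ≠ j → IsRelPrime (a i) (a j)) (hμ : μ ≠ 0)
    (σ : AA p k n (fun i => μ * a i) ≃ₐ[RR k n] AA p k n (fun i => μ * a i))
    (hσ : ∀ i, σ (uu p k n (fun i => μ * a i) i) = uu p k n (fun i => μ * a i) i +
      algebraMap (RR k n) (AA p k n (fun i => μ * a i)) (μ * a i))
    (t : AA p k n (fun i => μ * a i)) (ht : σ t = t) :
    ∃ N : ℕ, algebraMap (RR k n) (AA p k n (fun i => μ * a i)) (μ * a i₀) ^ N * t ∈
      Algebra.adjoin (RR k n) (Set.range (zmin p k n (fun i => μ * a i) a i₀)) := by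
  have hbm : ∀ i, MvPowerSeries.constantCoeff (μ * a i) = 0 := fun i => by
    rw [map_mul, ham i, mul_zero]
  have ha0 : a i₀ ≠ 0 := ne_zero_of_relPrime k n a hn ham hcop i₀
  have hb0 : μ * a i₀ ≠ 0 := mul_ne_zero hμ ha0
  obtain ⟨N, hN⟩ := minor_adjoin p k n (fun i => μ * a i) a i₀ σ hσ (fun j => by ring) hbm hb0
    t ht
  refine ⟨N, ?_⟩
  have h1 : algebraMap (RR k n) (AA p k n (fun i => μ * a i)) (μ * a i₀) ^ N * t =
      algebraMap (RR k n) (AA p k n (fun i => μ * a i)) μ ^ N *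
        (algebraMap (RR k n) (AA p k n (fun i => μ * a i)) (a i₀) ^ N * t) := by
    rw [map_mul, mul_pow, mul_assoc]
  rw [h1]
  exact Subalgebra.mul_mem _ (Subalgebra.pow_mem _ (Subalgebra.algebraMap_mem _ μ) N) hN

end

end Groth.Agent.Lib.Helper4.ASFam
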