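import Mathlib
import Groth.Agent.Lib.Helper4.ASFam6

/-!
# The kernel of the minor-element map
-/

set_option autoImplicit false
set_option linter.style.haveILetI false
set_option linter.unusedSectionVars false
set_option linter.unusedVariables false
set_option linter.unusedSimpArgs false
set_option maxHeartbeats 1600000
set_option maxSynthPendingDepth 3

universe u

namespace Groth.Agent.Lib.Helper4.ASFam

open MvPolynomial

noncomputable section

section reduce

variable {R : Type*} [CommRing R] {ι : Type*} (d : ℕ) (D c : ι → R)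

/-- reduced polynomials: all exponents `< d` -/
def redSub : Submodule R (MvPolynomial ι R) where
  carrier := {F | ∀ s ∈ F.support, ∀ j, s j < d}
  zero_mem' := by
    intro s hs
    simp at hs
  add_mem' := by
    classical
    intro F G hF hG s hs j
    rcases Finset.mem_union.mp (MvPolynomial.support_add hs) with h | h
    · exact hF s h j
    · exact hG s h j
  smul_mem' := by
    intro r F hF s hs j
    exact hF s (MvPolynomial.support_smul hs) j

lemma mem_redSub {F : MvPolynomial ι R} :
    F ∈ redSub (R := R) (ι := ι) d ↔ ∀ s ∈ F.support, ∀ j, s j < d := Iff.rfl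

lemma monomial_mem_redSub (t : ι →₀ ℕ) (r : R) (ht : ∀ l, t l < d) :
    MvPolynomial.monomial t r ∈ redSub (R := R) (ι := ι) d := by
  intro s hs j
  have h1 := Finset.mem_singleton.mp (MvPolynomial.support_monomial_subset hs)
  rw [h1]
  exact ht j

/-- the relations -/
def relF (j : ι) : MvPolynomial ι R := X j ^ d - C (D j) * X j - C (c j)

theorem reduce_mem (hd : 1 < d) (F : MvPolynomial ι R) :
    F ∈ redSub (R := R) (ι := ι) d ⊔
      (Ideal.span (Set.range (relF d D c))).restrictScalars R := by
  classical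
  obtain ⟨I, hI⟩ : ∃ I : Ideal (MvPolynomial ι R), I = Ideal.span (Set.range (relF d D c)) :=
    ⟨_, rfl⟩
  rw [← hI]
  induction F using MvPolynomial.induction_on with
  | C r =>
    apply Submodule.mem_sup_left
    have h1 : (C r : MvPolynomial ι R) = MvPolynomial.monomial 0 r := rfl
    rw [h1]
    apply monomial_mem_redSub
    intro l
    rw [Finsupp.zero_apply]
    omega
  | add F G hF hG => exact Submodule.add_mem _ hF hG
  | mul_X F j hF =>
    obtain ⟨w, hw, i, hi, rfl⟩ := Submodule.mem_sup.mp hF
    rw [add_mul]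
    refine Submodule.add_mem _ ?_ (Submodule.mem_sup_right ?_)
    · rw [← MvPolynomial.support_sum_monomial_coeff w, Finset.sum_mul]
      refine Submodule.sum_mem _ (fun s hs => ?_)
      have hsred : ∀ l, s l < d := fun l => (mem_redSub d).mp hw s hs l
      have h1 : MvPolynomial.monomial s (MvPolynomial.coeff s w) * X j =
          MvPolynomial.monomial (s + Finsupp.single j 1) (MvPolynomial.coeff s w) := by
        rw [MvPolynomial.monomial_add_single, pow_one]
      by_cases hlt : s j + 1 < d
      · apply Submodule.mem_sup_left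
        rw [h1]
        apply monomial_mem_redSub
        intro l
        rw [Finsupp.add_apply, Finsupp.single_apply]
        by_cases hl : j = l
        · rw [if_pos hl, ← hl]; exact hlt
        · rw [if_neg hl, add_zero]; exact hsred l
      · have hsj : s j + 1 = d := by have := hsred j; omega
        obtain ⟨s', hs'⟩ : ∃ s' : ι →₀ ℕ, s' = Finsupp.erase j s := ⟨_, rfl⟩
        have hs'j : s' j = 0 := by rw [hs', Finsupp.erase_same]
        have hs'l : ∀ l, l ≠ j → s' l = s l := fun l hl => by rw [hs', Finsupp.erase_ne hl]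
        have hs'red : ∀ l, s' l < d := by
          intro l
          by_cases hl : l = j
          · rw [hl, hs'j]; omega
          · rw [hs'l l hl]; exact hsred l
        have hsum : s + Finsupp.single j 1 = s' + Finsupp.single j d := by
          ext l
          rw [Finsupp.add_apply, Finsupp.add_apply, Finsupp.single_apply, Finsupp.single_apply]
          by_cases hl : j = l
          · rw [if_pos hl, if_pos hl, ← hl, hs'j]; omega
          · rw [if_neg hl, if_neg hl, hs'l l (fun h => hl h.symm)]
        have hXd : (X j : MvPolynomial ι R) ^ d =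
            relF d D c j + C (D j) * X j + C (c j) := by
          unfold relF; ring
        have h2 : MvPolynomial.monomial (s' + Finsupp.single j d) (MvPolynomial.coeff s w) =
            MvPolynomial.monomial s' (MvPolynomial.coeff s w) * X j ^ d :=
          MvPolynomial.monomial_add_single
        have h3 : MvPolynomial.monomial (s' + Finsupp.single j 1) (MvPolynomial.coeff s w) =
            MvPolynomial.monomial s' (MvPolynomial.coeff s w) * X j := by
          rw [MvPolynomial.monomial_add_single, pow_one]
        have e : MvPolynomial.monomial s (MvPolynomial.coeff s w) * X j =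
            MvPolynomial.monomial s' (MvPolynomial.coeff s w) * relF d D c j +
            D j • MvPolynomial.monomial (s' + Finsupp.single j 1) (MvPolynomial.coeff s w) +
            c j • MvPolynomial.monomial s' (MvPolynomial.coeff s w) := by
          rw [h1, hsum, h2, hXd, h3, MvPolynomial.smul_eq_C_mul, MvPolynomial.smul_eq_C_mul]
          ring
        rw [e]
        refine Submodule.add_mem _ (Submodule.add_mem _ (Submodule.mem_sup_right ?_)
          (Submodule.mem_sup_left ?_)) (Submodule.mem_sup_left ?_)
        · rw [hI]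
          exact Ideal.mul_mem_left _ _ (Ideal.subset_span ⟨j, rfl⟩)
        · apply Submodule.smul_mem
          apply monomial_mem_redSub
          intro l
          rw [Finsupp.add_apply, Finsupp.single_apply]
          by_cases hl : j = l
          · rw [if_pos hl, ← hl, hs'j]; omega
          · rw [if_neg hl, add_zero]; exact hs'red l
        · apply Submodule.smul_mem
          exact monomial_mem_redSub d s' _ hs'red
    · exact Ideal.mul_mem_right _ _ hi

end reduce

lemma pow_id {S : Type*} [CommRing S] (x y m : S) (q : ℕ) (hq : 0 < q) :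
    x ^ q * (m * y) ^ (q - 1) = (m * x * y) ^ (q - 1) * x := by
  obtain ⟨r, rfl⟩ : ∃ r, q = r + 1 := ⟨q - 1, (Nat.sub_add_cancel hq).symm⟩
  simp only [Nat.add_sub_cancel]
  ring

variable (p : ℕ) [hp : Fact p.Prime] (k : Type u) [Field k] [hk : CharP k p] (n : ℕ)
  (b : Fin n → MvPowerSeries (Fin n) k) (a : Fin n → MvPowerSeries (Fin n) k) (i₀ : Fin n)

theorem eq_zero_of_red_of_psi (w : MvPolynomial {j : Fin n // j ≠ i₀} (RR k n))
    (hw : w ∈ redSub (R := RR k n) (ι := {j : Fin n // j ≠ i₀}) p)
    (hψw : psi p k n b a i₀ w = 0) (hb0 : ∀ i, b i ≠ 0) (ha0 : a i₀ ≠ 0)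
    (hbm : ∀ i, MvPowerSeries.constantCoeff (b i) = 0) : w = 0 := by
  classical
  haveI := as_isDomain p k n b hbm
  have hinjα := algebraMap_inj p k n b
  obtain ⟨P, hP⟩ : ∃ P : MvPolynomial {j : Fin n // j ≠ i₀} (AA p k n b),
      P = MvPolynomial.map (algebraMap (RR k n) (AA p k n b)) w := ⟨_, rfl⟩
  obtain ⟨S, hS⟩ : ∃ S : {j : Fin n // j ≠ i₀} → Finset (AA p k n b),
      S = fun l => Finset.image (fun γ : ZMod p => zmin p k n b a i₀ l +
        algebraMap (RR k n) (AA p k n b) (gam p k n γ * (a i₀ * b l.1))) Finset.univ :=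
    ⟨_, rfl⟩
  have hcard : ∀ l, (S l).card = p := by
    intro l
    rw [hS]
    show (Finset.image _ Finset.univ).card = p
    rw [Finset.card_image_of_injective, Finset.card_univ, ZMod.card]
    intro γ γ' h
    have h1 := hinjα (add_left_cancel h)
    have h2 : a i₀ * b l.1 ≠ 0 := mul_ne_zero ha0 (hb0 l.1)
    exact gam_inj p k n (mul_right_cancel₀ h2 h1)
  have hP0 : P = 0 := by
    apply MvPolynomial.eq_zero_of_eval_zero_at_prod_finset P S
    · intro l
      rw [hcard l, MvPolynomial.degreeOf_lt_iff hp.out.pos]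
      intro s hs
      have hs' : s ∈ w.support := by
        rw [hP] at hs
        exact MvPolynomial.support_map_subset _ _ hs
      exact (mem_redSub p).mp hw s hs' l
    · intro x hx
      have hx' : ∀ l, ∃ γ : ZMod p, zmin p k n b a i₀ l +
          algebraMap (RR k n) (AA p k n b) (gam p k n γ * (a i₀ * b l.1)) = x l := by
        intro l
        have h1 := hx l
        rw [hS] at h1
        obtain ⟨γ, -, hγ⟩ := Finset.mem_image.mp h1
        exact ⟨γ, hγ⟩
      choose γ hγ using hx'
      obtain ⟨c', hc'⟩ : ∃ c' : Fin n → ZMod p,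
          c' = fun i => if h : i ≠ i₀ then γ ⟨i, h⟩ else 0 := ⟨_, rfl⟩
      have hτz : ∀ l, shiftHom p k n b c' (zmin p k n b a i₀ l) = x l := by
        intro l
        rw [← hγ l]
        unfold zmin
        rw [map_sub, map_mul, map_mul, AlgHom.commutes, AlgHom.commutes, shiftHom_uu,
          shiftHom_uu]
        unfold shiftVal
        have h1 : c' l.1 = γ l := by
          rw [hc']
          simp only [dif_pos l.2]
        have h2 : c' i₀ = 0 := by
          rw [hc']
          simp
        rw [h1, h2, map_zero, zero_mul, map_zero, add_zero, map_mul, map_mul, map_mul]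
        ring
      rw [hP, MvPolynomial.eval_map, ← MvPolynomial.aeval_def]
      have h3 : (MvPolynomial.aeval x : MvPolynomial {j : Fin n // j ≠ i₀} (RR k n) →ₐ[RR k n]
          AA p k n b) = (shiftHom p k n b c').comp (psi p k n b a i₀) := by
        apply MvPolynomial.algHom_ext
        intro l
        rw [aeval_X, AlgHom.comp_apply, psi_X, hτz]
      rw [h3, AlgHom.comp_apply, hψw, map_zero]
  apply MvPolynomial.map_injective _ hinjα
  rw [← hP, hP0, map_zero]

lemma psi_rmin (μ : MvPowerSeries (Fin n) k) (j : {j : Fin n // j ≠ i₀}) :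
    psi p k n (fun i => μ * a i) a i₀
      (X j ^ p - C ((μ * a i₀ * a j.1) ^ (p - 1)) * X j
        - C (a i₀ ^ p * MvPowerSeries.X j.1 - a j.1 ^ p * MvPowerSeries.X i₀)) = 0 := by
  haveI := charP_AA p k n (fun i => μ * a i)
  rw [map_sub, map_sub, map_mul, map_pow, psi_X, psi_C, psi_C]
  unfold zmin
  rw [sub_pow_char, mul_pow, mul_pow, uu_rel, uu_rel]
  have e1 := congrArg (algebraMap (RR k n) (AA p k n (fun i => μ * a i)))
    (pow_id (a i₀) (a j.1) μ p hp.out.pos)
  have e2 := congrArg (algebraMap (RR k n) (AA p k n (fun i => μ * a i)))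
    (pow_id (a j.1) (a i₀) μ p hp.out.pos)
  simp only [map_mul, map_pow, map_sub] at e1 e2 ⊢
  linear_combination (uu p k n (fun i => μ * a i) j.1) * e1 -
    (uu p k n (fun i => μ * a i) i₀) * e2

theorem ker_psi_mu (hn : 2 ≤ n) (μ : MvPowerSeries (Fin n) k)
    (ham : ∀ i, MvPowerSeries.constantCoeff (a i) = 0)
    (hcop : ∀ i j, i ≠ j → IsRelPrime (a i) (a j)) (hμ : μ ≠ 0) :
    RingHom.ker (MvPolynomial.aeval (zmin p k n (fun i => μ * a i) a i₀) :
        MvPolynomial {j : Fin n // j ≠ i₀} (RR k n) →ₐ[RR k n] AA p k n (fun i => μ * a i)) =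
      Ideal.span (Set.range fun j : {j : Fin n // j ≠ i₀} =>
        (X j ^ p - C ((μ * a i₀ * a j.1) ^ (p - 1)) * X j
          - C (a i₀ ^ p * MvPowerSeries.X j.1 - a j.1 ^ p * MvPowerSeries.X i₀) :
            MvPolynomial {j : Fin n // j ≠ i₀} (RR k n))) := by
  have hbm : ∀ i, MvPowerSeries.constantCoeff (μ * a i) = 0 := fun i => by
    rw [map_mul, ham i, mul_zero]
  have ha0 : ∀ i, a i ≠ 0 := ne_zero_of_relPrime k n a hn ham hcop
  have hb0 : ∀ i, μ * a i ≠ 0 := fun i => mul_ne_zero hμ (ha0 i)
  have hle : Ideal.span (Set.range fun j : {j : Fin n // j ≠ i₀} =>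
        (X j ^ p - C ((μ * a i₀ * a j.1) ^ (p - 1)) * X j
          - C (a i₀ ^ p * MvPowerSeries.X j.1 - a j.1 ^ p * MvPowerSeries.X i₀) :
            MvPolynomial {j : Fin n // j ≠ i₀} (RR k n))) ≤
      RingHom.ker (MvPolynomial.aeval (zmin p k n (fun i => μ * a i) a i₀) :
        MvPolynomial {j : Fin n // j ≠ i₀} (RR k n) →ₐ[RR k n] AA p k n (fun i => μ * a i)) := by
    rw [Ideal.span_le]
    rintro _ ⟨j, rfl⟩
    rw [SetLike.mem_coe, RingHom.mem_ker]
    exact psi_rmin p k n a i₀ μ j
  apply le_antisymm _ hle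
  intro F hF
  rw [RingHom.mem_ker] at hF
  have hred := reduce_mem p (fun j : {j : Fin n // j ≠ i₀} => (μ * a i₀ * a j.1) ^ (p - 1))
    (fun j : {j : Fin n // j ≠ i₀} =>
      a i₀ ^ p * MvPowerSeries.X j.1 - a j.1 ^ p * MvPowerSeries.X i₀) hp.out.one_lt F
  obtain ⟨w, hw, i, hi, rfl⟩ := Submodule.mem_sup.mp hred
  have hi' : i ∈ Ideal.span (Set.range fun j : {j : Fin n // j ≠ i₀} =>
        (X j ^ p - C ((μ * a i₀ * a j.1) ^ (p - 1)) * X j
          - C (a i₀ ^ p * MvPowerSeries.X j.1 - a j.1 ^ p * MvPowerSeries.X i₀) :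
            MvPolynomial {j : Fin n // j ≠ i₀} (RR k n))) := hi
  have hψi := hle hi'
  rw [RingHom.mem_ker] at hψi
  have hψw : psi p k n (fun i => μ * a i) a i₀ w = 0 := by
    rw [map_add, hψi, add_zero] at hF
    exact hF
  have hw0 := eq_zero_of_red_of_psi p k n (fun i => μ * a i) a i₀ w hw hψw hb0 (ha0 i₀) hbm
  rw [hw0, zero_add]
  exact hi'

end

end Groth.Agent.Lib.Helper4.ASFam
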