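import Mathlib

/-!
# Artin–Schreier generators for Galois extensions of degree `p` in characteristic `p`
-/

set_option autoImplicit false
set_option linter.style.haveILetI false
set_option linter.unusedSectionVars false
set_option linter.unusedVariables false
set_option linter.unusedSimpArgs false
set_option maxHeartbeats 1600000
set_option maxSynthPendingDepth 3

universe u

namespace Groth.Agent.Lib.Helper4.ASchA

open Polynomial

/-- A Galois extension `E/F` of degree `p` in characteristic `p` is generated by an element `y`
with `y ^ p - y ∈ F` (additive Hilbert 90, proved through the trace). -/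
theorem exists_generator {F E : Type*} [Field F] [Field E] [Algebra F E] [FiniteDimensional F E]
    [IsGalois F E] (p : ℕ) [hp : Fact p.Prime] [CharP F p] (hdeg : Module.finrank F E = p) :
    ∃ y : E, ∃ β : F, y ^ p - y = algebraMap F E β ∧ IntermediateField.adjoin F {y} = ⊤ := by
  classical
  haveI : CharP E p := charP_of_injective_algebraMap (algebraMap F E).injective p
  have hcard : Nat.card (E ≃ₐ[F] E) = p := by rw [IsGalois.card_aut_eq_finrank, hdeg]
  obtain ⟨σ, hσ⟩ : ∃ σ : E ≃ₐ[F] E, σ ≠ 1 := by
    haveI : Finite (E ≃ₐ[F] E) :=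
      Nat.finite_of_card_ne_zero (by rw [hcard]; exact hp.out.ne_zero)
    haveI : Nontrivial (E ≃ₐ[F] E) := by
      rw [← Finite.one_lt_card_iff_nontrivial, hcard]; exact hp.out.one_lt
    exact exists_ne 1
  have htop : Subgroup.zpowers σ = ⊤ := zpowers_eq_top_of_prime_card hcard hσ
  have hfix : ∀ x : E, σ x = x → x ∈ Set.range (algebraMap F E) := by
    intro x hx
    rw [IsGalois.mem_range_algebraMap_iff_fixed]
    intro τ
    have hle : Subgroup.zpowers σ ≤ MulAction.stabilizer (E ≃ₐ[F] E) x :=
      Subgroup.zpowers_le.mpr (MulAction.mem_stabilizer_iff.mpr hx)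
    have hτ : τ ∈ MulAction.stabilizer (E ≃ₐ[F] E) x := hle (htop ▸ Subgroup.mem_top τ)
    exact MulAction.mem_stabilizer_iff.mp hτ
  let D : E →ₗ[F] E := σ.toLinearMap - LinearMap.id
  have hD : ∀ x, D x = σ x - x := fun x => rfl
  have hrangeD : LinearMap.range D ≤ LinearMap.ker (Algebra.trace F E) := by
    rintro _ ⟨x, rfl⟩
    rw [LinearMap.mem_ker, hD, map_sub]
    have : Algebra.trace F E (σ x) = Algebra.trace F E x := Algebra.trace_eq_of_algEquiv σ x
    rw [this, sub_self]
  have hkerD : LinearMap.ker D = LinearMap.range (Algebra.linearMap F E) := by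
    ext x
    rw [LinearMap.mem_ker, hD, sub_eq_zero, LinearMap.mem_range]
    constructor
    · intro h; obtain ⟨c, hc⟩ := hfix x h; exact ⟨c, hc⟩
    · rintro ⟨c, rfl⟩; exact σ.commutes c
  have h1 : Module.finrank F (LinearMap.range (Algebra.linearMap F E)) = 1 := by
    rw [LinearMap.finrank_range_of_inj (algebraMap F E).injective, Module.finrank_self]
  have hD_rank : Module.finrank F (LinearMap.range D) + 1 = p := by
    have := LinearMap.finrank_range_add_finrank_ker D
    rw [hkerD, h1, hdeg] at this; exact this
  have hT_surj : Function.Surjective (Algebra.trace F E) := Algebra.trace_surjective F E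
  have hT_rank : Module.finrank F (LinearMap.ker (Algebra.trace F E)) + 1 = p := by
    have := LinearMap.finrank_range_add_finrank_ker (Algebra.trace F E)
    rw [LinearMap.range_eq_top.mpr hT_surj, finrank_top, Module.finrank_self, hdeg] at this
    omega
  have heq : LinearMap.range D = LinearMap.ker (Algebra.trace F E) :=
    Submodule.eq_of_le_of_finrank_eq hrangeD (by omega)
  have hone : (1 : E) ∈ LinearMap.ker (Algebra.trace F E) := by
    rw [LinearMap.mem_ker]
    have := Algebra.trace_algebraMap (S := E) (1 : F)
    rw [map_one] at this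
    rw [this, hdeg]
    simp [CharP.cast_eq_zero F p]
  rw [← heq] at hone
  obtain ⟨w, hw⟩ := hone
  have hσw : σ w = w + 1 := by
    have := hw; rw [hD] at this; linear_combination this
  refine ⟨w, ?_⟩
  have hfixed : σ (w ^ p - w) = w ^ p - w := by
    rw [map_sub, map_pow, hσw, add_pow_char w 1 p, one_pow]; ring
  obtain ⟨β, hβ⟩ := hfix _ hfixed
  refine ⟨β, hβ.symm, ?_⟩
  haveI := IntermediateField.isSimpleOrder_of_finrank_prime F E (hdeg ▸ hp.out)
  rcases eq_bot_or_eq_top (IntermediateField.adjoin F {w}) with h | h
  · exfalso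
    have hw_mem : w ∈ (⊥ : IntermediateField F E) :=
      h ▸ IntermediateField.mem_adjoin_simple_self F w
    rw [IntermediateField.mem_bot] at hw_mem
    obtain ⟨c, rfl⟩ := hw_mem
    have : σ (algebraMap F E c) = algebraMap F E c := σ.commutes c
    rw [hσw] at this
    exact one_ne_zero (add_left_cancel (this.trans (add_zero _).symm))
  · exact h

end Groth.Agent.Lib.Helper4.ASchA
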