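import Mathlib

/-!
# Artin–Schreier normal form over `K((t))`: reducing the pole order
-/

set_option autoImplicit false
set_option linter.style.haveILetI false
set_option linter.unusedSectionVars false
set_option linter.unusedVariables false
set_option linter.unusedSimpArgs false
set_option maxHeartbeats 1600000
set_option maxSynthPendingDepth 3

universe u

namespace Groth.Agent.Lib.Helper4.ASchB

open PowerSeries

section

variable (p : ℕ) [hp : Fact p.Prime] (K : Type*) [Field K] [CharP K p] [PerfectField K]
  {F E : Type*} [Field F] [Field E] [Algebra (PowerSeries K) F] [IsFractionRing (PowerSeries K) F]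
  [Algebra F E] [CharP F p] [CharP E p]

local notation "ι" => algebraMap (PowerSeries K) F

lemma iota_X_ne_zero : ι (X : PowerSeries K) ≠ 0 := by
  intro h0
  exact PowerSeries.X_ne_zero
    ((IsFractionRing.injective (PowerSeries K) F) (by rw [h0, map_zero]))

lemma frac_rep (β : F) : ∃ (n : ℕ) (a : PowerSeries K), β = ι a / (ι X) ^ n := by
  obtain ⟨num, den, hden, rfl⟩ := IsFractionRing.div_surjective (A := PowerSeries K) β
  have hden0 : den ≠ 0 := nonZeroDivisors.ne_zero hden
  obtain ⟨n, u, hu⟩ :=
    IsDiscreteValuationRing.eq_unit_mul_pow_irreducible hden0 PowerSeries.X_irreducible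
  refine ⟨n, ↑u⁻¹ * num, ?_⟩
  have h1 : ι den ≠ 0 := by
    intro h0
    exact hden0 ((IsFractionRing.injective (PowerSeries K) F) (by rw [h0, map_zero]))
  have h2 : (ι (X : PowerSeries K)) ^ n ≠ 0 := pow_ne_zero _ (iota_X_ne_zero K)
  rw [div_eq_div_iff h1 h2, ← map_pow, ← map_mul, ← map_mul]
  congr 1
  have h3 : ((↑u⁻¹ : PowerSeries K)) * ↑u = 1 := Units.inv_mul u
  rw [hu]
  linear_combination (-(num * X ^ n)) * h3

/-- Pole-order reduction. -/
theorem normal_form
    (hbad : ∀ (y : E) (a : PowerSeries K), IntermediateField.adjoin F {y} = ⊤ →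
      y ^ p - y = algebraMap F E (ι a) → False) :
    ∀ (n : ℕ) (y : E) (a : PowerSeries K), IntermediateField.adjoin F {y} = ⊤ →
      y ^ p - y = algebraMap F E (ι a / (ι X) ^ n) →
      ∃ x : E, ∃ m : ℕ, ∃ a' : PowerSeries K,
        IntermediateField.adjoin F {x} = ⊤ ∧ 0 < m ∧ ¬ p ∣ m ∧
        PowerSeries.constantCoeff a' ≠ 0 ∧
        x ^ p - x + algebraMap F E (ι a' / (ι X) ^ m) = 0 := by
  intro n
  induction n with
  | zero =>
    intro y a hy h
    exact (hbad y a hy (by rw [h, pow_zero, div_one])).elim
  | succ n ih =>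
    intro y a hy h
    have ht : ι (X : PowerSeries K) ≠ 0 := iota_X_ne_zero K
    by_cases ha0 : PowerSeries.constantCoeff a = 0
    · obtain ⟨a₁, rfl⟩ := PowerSeries.X_dvd_iff.mpr ha0
      refine ih y a₁ hy ?_
      rw [h]; congr 1
      rw [map_mul, pow_succ]; field_simp
    · by_cases hpn : p ∣ n + 1
      · obtain ⟨n', hn'⟩ := hpn
        haveI : ExpChar K p := ExpChar.prime hp.out
        obtain ⟨c₀, hc₀⟩ := surjective_frobenius K p (PowerSeries.constantCoeff a)
        rw [frobenius_def] at hc₀
        obtain ⟨a₂, ha₂⟩ : ∃ a₂, a - PowerSeries.C (PowerSeries.constantCoeff a) = X * a₂ := by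
          apply PowerSeries.X_dvd_iff.mpr; simp
        have hn'pos : 0 < n' := by
          rcases Nat.eq_zero_or_pos n' with h0 | h0
          · rw [h0] at hn'; omega
          · exact h0
        have hn'le : n' ≤ n := by
          have h2 : 2 * n' ≤ p * n' := Nat.mul_le_mul_right _ hp.out.two_le
          omega
        obtain ⟨k, hk⟩ := Nat.exists_eq_add_of_le hn'le
        obtain ⟨γ, hγ⟩ : ∃ γ : F, γ = ι (PowerSeries.C c₀) / (ι X) ^ n' := ⟨_, rfl⟩
        have hy' : IntermediateField.adjoin F {y - algebraMap F E γ} = ⊤ := by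
          rw [eq_top_iff, ← hy, IntermediateField.adjoin_simple_le_iff]
          have h1 : y - algebraMap F E γ ∈ IntermediateField.adjoin F {y - algebraMap F E γ} :=
            IntermediateField.mem_adjoin_simple_self F _
          have h2 : algebraMap F E γ ∈ IntermediateField.adjoin F {y - algebraMap F E γ} :=
            IntermediateField.algebraMap_mem _ γ
          have := add_mem h1 h2
          rwa [sub_add_cancel] at this
        refine ih (y - algebraMap F E γ) (a₂ + PowerSeries.C c₀ * X ^ k) hy' ?_
        rw [sub_pow_char y (algebraMap F E γ)]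
        have e0 : y ^ p - (algebraMap F E γ) ^ p - (y - algebraMap F E γ)
            = (y ^ p - y) - algebraMap F E (γ ^ p - γ) := by
          rw [map_sub, map_pow]; ring
        rw [e0, h, ← map_sub]
        congr 1
        have hγp : γ ^ p = ι (PowerSeries.C (PowerSeries.constantCoeff a)) / (ι X) ^ (n + 1) := by
          rw [hγ, div_pow, ← map_pow, ← map_pow, hc₀, ← pow_mul, mul_comm n' p, ← hn']
        have e1 : ι a = ι (PowerSeries.C (PowerSeries.constantCoeff a)) + ι X * ι a₂ := by
          rw [← map_mul, ← map_add, ← ha₂]; congr 1; ring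
        rw [hγp, hγ, e1, map_add, map_mul, map_pow, hk]
        field_simp
        ring
      · refine ⟨y, n + 1, -a, hy, Nat.succ_pos n, hpn, by simpa using ha0, ?_⟩
        rw [h, map_neg, neg_div, map_neg, add_neg_cancel]

end

end Groth.Agent.Lib.Helper4.ASchB
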