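import Mathlib
import Groth.Agent.Lib.Helper4.ASchA
import Groth.Agent.Lib.Helper4.ASchB

/-!
# Artin–Schreier normal form for totally ramified Galois extensions of degree `p` of `K((t))`
-/

set_option autoImplicit false
set_option linter.style.haveILetI false
set_option linter.unusedSectionVars false
set_option linter.unusedVariables false
set_option linter.unusedSimpArgs false
set_option maxHeartbeats 1600000
set_option maxSynthPendingDepth 3

universe u

namespace Groth.Agent.Lib.Helper4.ASchC

open Polynomial

section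

variable (p : ℕ) [hp : Fact p.Prime] (K : Type*) [Field K] [CharP K p]
  (B : Type*) [CommRing B] [IsDedekindDomain B] [Algebra (PowerSeries K) B]
  [Module.Finite (PowerSeries K) B] [Module.IsTorsionFree (PowerSeries K) B]
  {F E : Type*} [Field F] [Field E] [Algebra (PowerSeries K) F]
  [IsFractionRing (PowerSeries K) F]
  [Algebra B E] [IsFractionRing B E] [Algebra F E] [Algebra (PowerSeries K) E]
  [IsScalarTower (PowerSeries K) F E] [IsScalarTower (PowerSeries K) B E]

/-- An Artin–Schreier generator with integral constant term cannot exist when some prime of `B`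
has ramification index `p`. -/
theorem no_integral_generator [FiniteDimensional F E] [Algebra.IsSeparable F E] [CharP F p]
    [CharP E p] (hdeg : Module.finrank F E = p)
    (M : Ideal B) [M.IsMaximal] (hram : M.ramificationIdx (PowerSeries K) = p)
    (y : E) (a : PowerSeries K) (hy : IntermediateField.adjoin F {y} = ⊤)
    (heq : y ^ p - y = algebraMap F E (algebraMap (PowerSeries K) F a)) : False := by
  classical
  have hp2 : 2 ≤ p := hp.out.two_le
  have hyA : algebraMap (PowerSeries K) E a = algebraMap F E (algebraMap (PowerSeries K) F a) :=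
    IsScalarTower.algebraMap_apply _ F E a
  -- integrality over `A`
  have hmonicA : (X ^ p - (X + C a) : (PowerSeries K)[X]).Monic := by
    apply Polynomial.monic_X_pow_sub
    rw [degree_X_add_C]; exact_mod_cast hp.out.one_lt
  have hintA : IsIntegral (PowerSeries K) y :=
    ⟨_, hmonicA, by
      simp only [eval₂_sub, eval₂_add, eval₂_pow, eval₂_X, eval₂_C]
      rw [hyA, ← heq]; ring⟩
  have hintF : IsIntegral F y := hintA.tower_top
  -- the minimal polynomial over `F`
  obtain ⟨gF, hgF⟩ : ∃ gF : F[X], gF = X ^ p - (X + C (algebraMap (PowerSeries K) F a)) :=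
    ⟨_, rfl⟩
  have hmonicF : gF.Monic := by
    rw [hgF]
    apply Polynomial.monic_X_pow_sub
    rw [degree_X_add_C]; exact_mod_cast hp.out.one_lt
  have hrootF : aeval y gF = 0 := by
    rw [hgF]
    simp only [map_sub, map_add, map_pow, aeval_X, aeval_C]; rw [← heq]; ring
  have hnat : gF.natDegree = p := by
    rw [hgF, natDegree_sub_eq_left_of_natDegree_lt, natDegree_X_pow]
    rw [natDegree_X_add_C, natDegree_X_pow]; exact hp.out.one_lt
  have hmin_deg : (minpoly F y).natDegree = p := by
    have h1 := IntermediateField.adjoin.finrank hintF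
    have h2 : Module.finrank F (IntermediateField.adjoin F {y}) = Module.finrank F E := by
      rw [hy]; exact IntermediateField.finrank_top'
    rw [← h1, h2, hdeg]
  have hmin : minpoly F y = gF :=
    (Polynomial.eq_of_monic_of_dvd_of_natDegree_le (minpoly.monic hintF) hmonicF
      (minpoly.dvd F y hrootF) (by rw [hnat, hmin_deg])).symm
  have hder : derivative gF = -1 := by
    rw [hgF, derivative_sub, derivative_X_pow, derivative_add, derivative_X, derivative_C,
      add_zero, CharP.cast_eq_zero F p, map_zero, zero_mul, zero_sub]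
  -- the discriminant of the power basis is `±1`
  have hadj : Algebra.adjoin F {y} = ⊤ := by
    have := IntermediateField.adjoin_simple_toSubalgebra_of_isAlgebraic hintF.isAlgebraic
    rw [hy, IntermediateField.top_toSubalgebra] at this
    exact this.symm
  obtain ⟨pb, hpbgen⟩ : ∃ pb : PowerBasis F E, pb.gen = y :=
    ⟨PowerBasis.ofAdjoinEqTop hintF hadj, rfl⟩
  have hdiscr : Algebra.discr F pb.basis = 1 ∨ Algebra.discr F pb.basis = -1 := by
    rw [Algebra.discr_powerBasis_eq_norm, hpbgen, hmin, hder]
    have h1 : aeval y (-1 : F[X]) = algebraMap F E (-1) := by simp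
    rw [h1, Algebra.norm_algebraMap, ← pow_add]
    exact neg_one_pow_eq_or F _
  have hmem : ∀ z : E, IsIntegral (PowerSeries K) z →
      z ∈ Algebra.adjoin (PowerSeries K) ({y} : Set E) := by
    intro z hz
    have h1 := Algebra.discr_mul_isIntegral_mem_adjoin (R := PowerSeries K) (K := F) (B := pb)
      (by rw [hpbgen]; exact hintA) hz
    rw [hpbgen] at h1
    rcases hdiscr with h | h
    · rw [h, one_smul] at h1; exact h1
    · rw [h, neg_smul, one_smul] at h1
      have := Subalgebra.neg_mem _ h1
      rwa [neg_neg] at this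
  -- `B = A[y_B]`
  have hinjBE : Function.Injective (algebraMap B E) := IsFractionRing.injective B E
  obtain ⟨yB, hyB⟩ := IsIntegrallyClosed.algebraMap_eq_of_integral (R := B) (K := E) (x := y)
    hintA.tower_top
  have hgen : ∀ b : B, ∃ P : (PowerSeries K)[X], b = aeval yB P := by
    intro b
    have hb : IsIntegral (PowerSeries K) (algebraMap B E b) :=
      (Algebra.IsIntegral.isIntegral (R := PowerSeries K) b).algebraMap
    have := hmem _ hb
    rw [Algebra.adjoin_singleton_eq_range_aeval] at this
    obtain ⟨P, hP⟩ := this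
    refine ⟨P, hinjBE ?_⟩
    have hP' : aeval y P = algebraMap B E b := hP
    rw [← hP', ← hyB, Polynomial.aeval_algebraMap_apply]
  have hyBeq : yB ^ p - yB = algebraMap (PowerSeries K) B a := by
    apply hinjBE
    rw [map_sub, map_pow, hyB, heq, ← hyA, IsScalarTower.algebraMap_apply (PowerSeries K) B E]
  -- `t ∈ M ^ 2`
  have hXmax : (PowerSeries.X : PowerSeries K) ∈ IsLocalRing.maximalIdeal (PowerSeries K) := by
    rw [IsLocalRing.mem_maximalIdeal, mem_nonunits_iff, PowerSeries.isUnit_iff_constantCoeff]
    simp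
  have hunder : M.under (PowerSeries K) = IsLocalRing.maximalIdeal (PowerSeries K) :=
    IsLocalRing.eq_maximalIdeal inferInstance
  have hp0 : M.under (PowerSeries K) ≠ ⊥ := by
    intro h
    have hXmax' : (PowerSeries.X : PowerSeries K) ∈ M.under (PowerSeries K) := hunder ▸ hXmax
    rw [h] at hXmax'
    exact PowerSeries.X_ne_zero ((Ideal.mem_bot).mp hXmax')
  have hbridge := Ideal.ramificationIdx'_eq_ramificationIdx (M.under (PowerSeries K)) M hp0
  have hle : Ideal.map (algebraMap (PowerSeries K) B) (M.under (PowerSeries K)) ≤ M ^ p := by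
    have := Ideal.le_pow_ramificationIdx' (p := M.under (PowerSeries K)) (P := M)
    rwa [hbridge, hram] at this
  have hXB : algebraMap (PowerSeries K) B PowerSeries.X ∈ M ^ 2 := by
    apply Ideal.pow_le_pow_right hp2
    apply hle
    exact Ideal.mem_map_of_mem _ (hunder ▸ hXmax)
  have hXB0 : algebraMap (PowerSeries K) B PowerSeries.X ≠ 0 := by
    intro h0
    have h1 : algebraMap (PowerSeries K) E PowerSeries.X = 0 := by
      rw [IsScalarTower.algebraMap_apply (PowerSeries K) B E, h0, map_zero]
    rw [IsScalarTower.algebraMap_apply (PowerSeries K) F E] at h1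
    have h2 : algebraMap (PowerSeries K) F PowerSeries.X = 0 :=
      (algebraMap F E).injective (by rw [h1, map_zero])
    exact PowerSeries.X_ne_zero
      ((IsFractionRing.injective (PowerSeries K) F) (by rw [h2, map_zero]))
  have hM0 : M ≠ ⊥ := by
    intro h
    rw [h, ← Ideal.zero_eq_bot, zero_pow two_ne_zero, Ideal.zero_eq_bot, Ideal.mem_bot] at hXB
    exact hXB0 hXB
  obtain ⟨π, hπ1, hπ2⟩ :=
    Ideal.exists_mem_pow_notMem_pow_succ M hM0 (Ideal.IsMaximal.ne_top inferInstance) 1
  rw [pow_one] at hπ1
  obtain ⟨P, hP⟩ := hgen π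
  -- the `K`-algebra `B / M ^ 2`
  let κ : K →+* B ⧸ M ^ 2 :=
    (Ideal.Quotient.mk (M ^ 2)).comp ((algebraMap (PowerSeries K) B).comp PowerSeries.C)
  letI : Algebra K (B ⧸ M ^ 2) := κ.toAlgebra
  have hkey : (Ideal.Quotient.mk (M ^ 2)).comp (algebraMap (PowerSeries K) B)
      = κ.comp PowerSeries.constantCoeff := by
    refine RingHom.ext fun a' => ?_
    obtain ⟨r, hr⟩ : ∃ r, a' - PowerSeries.C (PowerSeries.constantCoeff a')
        = PowerSeries.X * r := by
      apply PowerSeries.X_dvd_iff.mpr; simp
    have : (Ideal.Quotient.mk (M ^ 2)) (algebraMap (PowerSeries K) B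
        (a' - PowerSeries.C (PowerSeries.constantCoeff a'))) = 0 := by
      rw [hr, map_mul, map_mul, Ideal.Quotient.eq_zero_iff_mem.mpr hXB, zero_mul]
    rw [map_sub, map_sub, sub_eq_zero] at this
    exact this
  have hred : ∀ Q : (PowerSeries K)[X], (Ideal.Quotient.mk (M ^ 2)) (aeval yB Q)
      = aeval ((Ideal.Quotient.mk (M ^ 2)) yB) (Q.map PowerSeries.constantCoeff) := by
    intro Q
    rw [aeval_def, aeval_def, hom_eval₂, eval₂_map]
    congr 1
  have hgt : aeval ((Ideal.Quotient.mk (M ^ 2)) yB)
      (X ^ p - (X + C (PowerSeries.constantCoeff a)) : K[X]) = 0 := by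
    have h1 := hred (X ^ p - (X + C a))
    have h2 : aeval yB (X ^ p - (X + C a) : (PowerSeries K)[X]) = 0 := by
      simp only [map_sub, map_add, map_pow, aeval_X, aeval_C]; rw [← hyBeq]; ring
    have h3 : (X ^ p - (X + C a) : (PowerSeries K)[X]).map PowerSeries.constantCoeff
        = X ^ p - (X + C (PowerSeries.constantCoeff a)) := by
      simp [Polynomial.map_sub, Polynomial.map_add, Polynomial.map_pow]
    rw [h2, map_zero, h3] at h1
    exact h1.symm
  have hsep : (X ^ p - (X + C (PowerSeries.constantCoeff a)) : K[X]).Separable := by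
    rw [Polynomial.separable_def]
    have hd : derivative (X ^ p - (X + C (PowerSeries.constantCoeff a)) : K[X]) = -1 := by
      rw [derivative_sub, derivative_X_pow, derivative_add, derivative_X, derivative_C,
        add_zero, CharP.cast_eq_zero K p, map_zero, zero_mul, zero_sub]
    rw [hd]
    exact isCoprime_one_right.neg_right
  have hm := minpoly.dvd K ((Ideal.Quotient.mk (M ^ 2)) yB) hgt
  have hsq : Squarefree (minpoly K ((Ideal.Quotient.mk (M ^ 2)) yB)) :=
    (hsep.of_dvd hm).squarefree
  have hπsq : aeval ((Ideal.Quotient.mk (M ^ 2)) yB) ((P.map PowerSeries.constantCoeff) ^ 2) = 0 := by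
    rw [map_pow, ← hred, ← hP, ← map_pow, Ideal.Quotient.eq_zero_iff_mem]
    exact Ideal.pow_mem_pow hπ1 2
  have hdvd2 := minpoly.dvd K ((Ideal.Quotient.mk (M ^ 2)) yB) hπsq
  have hdvd1 := (hsq.dvd_pow_iff_dvd two_ne_zero).mp hdvd2
  obtain ⟨r, hr⟩ := hdvd1
  have hπ0 : (Ideal.Quotient.mk (M ^ 2)) π = 0 := by
    rw [hP, hred, hr, map_mul, minpoly.aeval, zero_mul]
  exact hπ2 (Ideal.Quotient.eq_zero_iff_mem.mp hπ0)

/-- **Artin–Schreier normal form.** -/
theorem main [PerfectField K] [IsGalois F E] (hdeg : Module.finrank F E = p)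
    (M : Ideal B) [M.IsMaximal] (hram : M.ramificationIdx (PowerSeries K) = p) :
    ∃ x : E, ∃ m : ℕ, ∃ a : PowerSeries K,
      IntermediateField.adjoin F {x} = ⊤ ∧ 0 < m ∧ ¬ p ∣ m ∧
      PowerSeries.constantCoeff a ≠ 0 ∧
      x ^ p - x + algebraMap F E (algebraMap (PowerSeries K) F a /
        algebraMap (PowerSeries K) F (PowerSeries.X ^ m)) = 0 := by
  haveI : FiniteDimensional F E :=
    Module.finite_of_finrank_pos (by rw [hdeg]; exact hp.out.pos)
  haveI : CharP (PowerSeries K) p :=
    charP_of_injective_algebraMap (algebraMap K (PowerSeries K)).injective p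
  haveI : CharP F p :=
    charP_of_injective_algebraMap (IsFractionRing.injective (PowerSeries K) F) p
  haveI : CharP E p := charP_of_injective_algebraMap (algebraMap F E).injective p
  obtain ⟨y, β, hyβ, hy⟩ := ASchA.exists_generator (F := F) (E := E) p hdeg
  obtain ⟨n, a, hβ⟩ := ASchB.frac_rep K β
  obtain ⟨x, m, a', h1, h2, h3, h4, h5⟩ := ASchB.normal_form p K
    (fun y a hy h => no_integral_generator p K B hdeg M hram y a hy h) n y a hy
    (by rw [hyβ, hβ])
  exact ⟨x, m, a', h1, h2, h3, h4, by rw [map_pow]; exact h5⟩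

end

end Groth.Agent.Lib.Helper4.ASchC
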