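import Mathlib
import Groth.Agent.Lib.Helper12.DimFT

/-!
# Algebraic independence of `x_1, …, x_n, Σ g_i x_i, g_0`

If `g_0, g_1 ∈ A` cut out an irreducible component of codimension two in a finitely generated
domain `A` over a field `k`, then `g_0, g_1` are algebraically independent over `k`, and the
elements `x_1, …, x_n, Σ g_i x_i, g_0` of `Frac(A)(x)` are algebraically independent (translation
trick: the substitution `x_1 ↦ x_1 + 1` preserves `k[x, g_0]`).
-/

set_option autoImplicit false
set_option linter.style.haveILetI false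
set_option linter.unusedSectionVars false
set_option linter.unusedVariables false
set_option linter.unusedSimpArgs false
set_option maxHeartbeats 1600000
set_option maxSynthPendingDepth 3

universe u

open MvPolynomial

namespace Groth.Agent.Lib.Helper4.AlgIndepLin

/-- Reindexing `Option (Option (Fin n)) ≃ Fin n ⊕ Fin 2`. -/
def optEquiv (n : ℕ) : Option (Option (Fin n)) ≃ Fin n ⊕ Fin 2 where
  toFun o := o.elim (Sum.inr 0) (fun o' => o'.elim (Sum.inr 1) Sum.inl)
  invFun s := Sum.elim (fun i => some (some i)) ![none, some none] s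
  left_inv o := by
    rcases o with _ | _ | i <;> rfl
  right_inv s := by
    rcases s with i | j
    · rfl
    · fin_cases j <;> rfl

section translation

variable {k K : Type u} [Field k] [Field K] [Algebra k K] {n : ℕ}

/-- The translation `x_i ↦ x_i + δ_i`. -/
noncomputable def tau (δ : Fin n → K) : MvPolynomial (Fin n) K →ₐ[K] MvPolynomial (Fin n) K :=
  MvPolynomial.aeval (fun i => X i + C (δ i))

lemma tau_X (δ : Fin n → K) (i : Fin n) : tau δ (X i) = X i + C (δ i) := by simp [tau]

lemma tau_C (δ : Fin n → K) (c : K) : tau δ (C c) = C c := by simp [tau]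

lemma tau_injective (δ : Fin n → K) : Function.Injective (tau δ) := by
  have h : (tau (fun i => - δ i)).comp (tau δ) = AlgHom.id K _ := by
    apply MvPolynomial.algHom_ext
    intro i
    simp [tau_X, tau_C]
  refine Function.LeftInverse.injective (g := tau (fun i => - δ i)) (fun a => ?_)
  have := DFunLike.congr_fun h a
  simpa using this

theorem algebraicIndependent_X_lin (a : Fin n → K) (i0 i1 : Fin n)
    (ha : AlgebraicIndependent k ![a i1, a i0]) :
    AlgebraicIndependent k
      (Sum.elim (fun i : Fin n => (X i : MvPolynomial (Fin n) K))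
        ![∑ i, C (a i) * X i, C (a i0)]) := by
  classical
  have hz := ha.sumElim_comp (MvPolynomial.algebraicIndependent_X (Fin n) K)
  set y : Option (Fin n) → MvPolynomial (Fin n) K :=
    fun o' => o'.elim (C (a i0)) (fun i => (X i : MvPolynomial (Fin n) K)) with hydef
  set ℓ : MvPolynomial (Fin n) K := ∑ i, C (a i) * X i with hℓdef
  have h2 : AlgebraicIndependent k
      (fun o : Option (Option (Fin n)) => o.elim (C (a i1)) y) := by
    have := (algebraicIndependent_equiv (optEquiv n)).2 hz
    convert this using 1
    funext o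
    rcases o with _ | _ | i <;> first | rfl | simp [optEquiv, hydef, MvPolynomial.algebraMap_eq]
  obtain ⟨hy, hT1⟩ := AlgebraicIndependent.option_iff.mp h2
  set B := Algebra.adjoin k (Set.range y) with hB
  have hℓ : Transcendental B ℓ := by
    intro halg
    apply hT1
    let δ : Fin n → K := Pi.single i1 1
    let τ := tau δ
    have hτy : ∀ o, τ (y o) ∈ B := by
      intro o
      cases o with
      | none =>
        have : τ (y none) = y none := tau_C δ (a i0)
        rw [this]
        exact Algebra.subset_adjoin ⟨none, rfl⟩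
      | some i =>
        have : τ (y (some i)) = y (some i) + C (δ i) := tau_X δ i
        rw [this]
        refine B.add_mem (Algebra.subset_adjoin ⟨some i, rfl⟩) ?_
        by_cases hi : i = i1
        · have : C (δ i) = (1 : MvPolynomial (Fin n) K) := by simp [δ, hi]
          rw [this]; exact B.one_mem
        · have : C (δ i) = (0 : MvPolynomial (Fin n) K) := by simp [δ, Pi.single_apply, hi]
          rw [this]; exact B.zero_mem
    have hτB : B ≤ B.comap (τ.restrictScalars k) :=
      Algebra.adjoin_le (by rintro _ ⟨o, rfl⟩; exact hτy o)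
    let τB : B →ₐ[k] B :=
      ((τ.restrictScalars k).comp B.val).codRestrict B (fun b => hτB b.2)
    have hinj : Function.Injective τB := by
      intro b1 b2 h
      apply Subtype.ext
      apply tau_injective δ
      exact congrArg Subtype.val h
    have h1 : IsAlgebraic B (τ ℓ) := by
      refine halg.ringHom_of_comp_eq τB τ hinj ?_
      ext b
      rfl
    have hτℓ : τ ℓ = ℓ + C (a i1) := by
      simp only [hℓdef, τ, map_sum, map_mul, tau_C, tau_X, mul_add, Finset.sum_add_distrib]
      congr 1
      simp [δ, Pi.single_apply, apply_ite (C : K → MvPolynomial (Fin n) K)]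
    have h3 : IsAlgebraic B (τ ℓ - ℓ) := h1.sub halg
    rwa [hτℓ, add_sub_cancel_left] at h3
  have h3 : AlgebraicIndependent k
      (fun o : Option (Option (Fin n)) => o.elim ℓ y) :=
    AlgebraicIndependent.option_iff.mpr ⟨hy, hℓ⟩
  have h4 := (algebraicIndependent_equiv (optEquiv n).symm).2 h3
  convert h4 using 1
  funext s
  rcases s with i | j
  · rfl
  · fin_cases j <;> rfl

end translation

section pair

variable {k A : Type u} [Field k] [CommRing A] [IsDomain A] [Algebra k A]
  [Algebra.FiniteType k A]

theorem algebraicIndependent_pair_of_minimal (g0 g1 : A) (p : Ideal A)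
    (hp : p ∈ (Ideal.span {g0, g1}).minimalPrimes)
    (hdim : ringKrullDim (A ⧸ p) + 2 = ringKrullDim A) :
    AlgebraicIndependent k ![g1, g0] := by
  classical
  haveI hpP : p.IsPrime := hp.1.1
  haveI : IsNoetherianRing A := Algebra.FiniteType.isNoetherianRing k A
  obtain ⟨d, hd, -⟩ := Groth.Agent.Lib.Helper12.DimFT.exists_dim_eq_trdeg k A
  let y : PrimeSpectrum A := ⟨p, hpP⟩
  have hfin : Order.height y < ⊤ := by
    have h1 := Order.height_le_krullDim y
    have h2 : Order.krullDim (PrimeSpectrum A) = d := hd
    rw [h2] at h1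
    have h3 : (Order.height y : ℕ∞) ≤ d := by exact_mod_cast h1
    exact lt_of_le_of_lt h3 (ENat.coe_lt_top d)
  obtain ⟨m, hm⟩ := ENat.ne_top_iff_exists.mp hfin.ne
  have hhc := Groth.Agent.Lib.Helper12.DimFT.height_add_coheight k A d hd m y hm.symm
  have hco : ringKrullDim (A ⧸ p) = (Order.coheight y : WithBot ℕ∞) :=
    Groth.Agent.Lib.Helper12.DimFT.ringKrullDim_quotient_eq_coheight y
  rw [hco, hd] at hdim
  have hdim' : (Order.coheight y : ℕ∞) + 2 = d := by
    have h2 : ((2 : ℕ∞) : WithBot ℕ∞) = 2 := rfl
    have hd' : ((d : ℕ∞) : WithBot ℕ∞) = (d : WithBot ℕ∞) := rfl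
    apply WithBot.coe_injective
    rw [WithBot.coe_add, h2, hd']
    exact hdim
  have hht : p.height = 2 := by
    have h1 : p.height = Order.height y := PrimeSpectrum.height_eq_orderHeight y
    have hc_ne : Order.coheight y ≠ ⊤ := by
      intro h; rw [h] at hdim'; simp at hdim'
    obtain ⟨c', hc'⟩ := ENat.ne_top_iff_exists.mp hc_ne
    rw [← hc'] at hdim' hhc
    rw [← hm] at hhc
    have e1 : m + c' = d := by exact_mod_cast hhc
    have e2 : c' + 2 = d := by exact_mod_cast hdim'
    have hm2 : m = 2 := by omega
    rw [h1, ← hm, hm2]; rfl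
  by_contra hdep
  let φ : MvPolynomial (Fin 2) k →ₐ[k] A := MvPolynomial.aeval ![g1, g0]
  have hninj : ¬ Function.Injective φ :=
    fun h => hdep (algebraicIndependent_iff_injective_aeval.mpr h)
  obtain ⟨f, hf0, hfφ⟩ : ∃ f, f ≠ 0 ∧ φ f = 0 := by
    by_contra hcon
    push_neg at hcon
    exact hninj ((injective_iff_map_eq_zero φ).mpr
      (fun f hf => by_contra (fun h => hcon f h hf)))
  let I : Ideal (MvPolynomial (Fin 2) k) := RingHom.ker φ.toRingHom
  let ψ : MvPolynomial (Fin 2) k ⧸ I →+* A :=
    Ideal.Quotient.lift I φ.toRingHom (fun a ha => ha)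
  letI : Algebra (MvPolynomial (Fin 2) k ⧸ I) A := ψ.toAlgebra
  have hdimR' : ringKrullDim (MvPolynomial (Fin 2) k ⧸ I) ≤ 1 := by
    have hfI : Ideal.span {f} ≤ I := by
      rw [Ideal.span_singleton_le_iff_mem]; exact hfφ
    have h1 : ringKrullDim (MvPolynomial (Fin 2) k ⧸ I) ≤
        ringKrullDim (MvPolynomial (Fin 2) k ⧸ Ideal.span {f}) :=
      ringKrullDim_le_of_surjective (Ideal.Quotient.factor hfI)
        (Ideal.Quotient.factor_surjective hfI)
    have h2 := ringKrullDim_quotient_succ_le_of_nonZeroDivisor (r := f)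
      (mem_nonZeroDivisors_of_ne_zero hf0)
    rw [Groth.Agent.Lib.Helper12.ringKrullDim_mvPolynomial_field k 2] at h2
    refine h1.trans ?_
    generalize ringKrullDim (MvPolynomial (Fin 2) k ⧸ Ideal.span {f}) = x at h2
    induction x using WithBot.recBotCoe with
    | bot => exact bot_le
    | coe a =>
      have h3 : a + 1 ≤ (2 : ℕ∞) := by
        have h1' : ((1 : ℕ∞) : WithBot ℕ∞) = 1 := rfl
        have h2' : ((2 : ℕ∞) : WithBot ℕ∞) = ((2 : ℕ) : WithBot ℕ∞) := rfl
        rw [← WithBot.coe_le_coe, WithBot.coe_add, h1', h2']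
        exact h2
      have h4 : a ≤ 1 := by
        induction a using ENat.recTopCoe with
        | top => simp at h3
        | coe a =>
          have : a + 1 ≤ 2 := by exact_mod_cast h3
          exact_mod_cast (by omega : a ≤ 1)
      exact WithBot.coe_le_coe.mpr h4
  let Q' : Ideal (MvPolynomial (Fin 2) k ⧸ I) :=
    p.comap (algebraMap (MvPolynomial (Fin 2) k ⧸ I) A)
  haveI : Q'.IsPrime := Ideal.comap_isPrime _ _
  haveI : p.LiesOver Q' := ⟨rfl⟩
  have hineq := Ideal.height_le_height_add_of_liesOver Q' p
  set J := Q'.map (algebraMap (MvPolynomial (Fin 2) k ⧸ I) A) with hJ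
  have hJp : J ≤ p := Ideal.map_comap_le
  have hgJ : Ideal.span {g0, g1} ≤ J := by
    rw [Ideal.span_le]
    intro x hx
    have hxp : x ∈ p := hp.1.2 (Ideal.subset_span hx)
    rcases hx with rfl | rfl
    · have hx' : algebraMap (MvPolynomial (Fin 2) k ⧸ I) A (Ideal.Quotient.mk I (X 1)) = x := by
        simp [RingHom.algebraMap_toAlgebra, ψ, φ]
      rw [← hx']
      apply Ideal.mem_map_of_mem
      show _ ∈ p.comap _
      rw [Ideal.mem_comap, hx']; exact hxp
    · have hx' : algebraMap (MvPolynomial (Fin 2) k ⧸ I) A (Ideal.Quotient.mk I (X 0)) = x := by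
        simp [RingHom.algebraMap_toAlgebra, ψ, φ]
      rw [← hx']
      apply Ideal.mem_map_of_mem
      show _ ∈ p.comap _
      rw [Ideal.mem_comap, hx']; exact hxp
  have hpmin : p ∈ J.minimalPrimes := by
    refine ⟨⟨hpP, hJp⟩, fun q hq hqp => ?_⟩
    exact hp.2 ⟨hq.1, hgJ.trans hq.2⟩ hqp
  have hfib : (p.map (Ideal.Quotient.mk J)).height = 0 := by
    rw [Ideal.minimalPrimes_eq_comap] at hpmin
    obtain ⟨p', hp', hpe⟩ := hpmin
    have hmap : p.map (Ideal.Quotient.mk J) = p' := by
      calc p.map (Ideal.Quotient.mk J)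
          = (Ideal.comap (Ideal.Quotient.mk J) p').map (Ideal.Quotient.mk J) := by rw [hpe]
        _ = p' := Ideal.map_comap_of_surjective _ Ideal.Quotient.mk_surjective _
    haveI : p'.IsPrime := hp'.1.1
    rw [hmap, Ideal.height_eq_zero_iff]
    exact hp'
  have hQ' : Q'.height ≤ 1 := by
    have h1 := Ideal.height_le_ringKrullDim_of_ne_top (I := Q') Ideal.IsPrime.ne_top'
    have h2 : (Q'.height : WithBot ℕ∞) ≤ 1 := h1.trans hdimR'
    exact WithBot.coe_le_coe.mp h2
  rw [hfib, add_zero] at hineq
  have h21 : (2 : ℕ∞) ≤ 1 := by rw [← hht]; exact hineq.trans hQ'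
  exact absurd (by exact_mod_cast h21 : (2 : ℕ) ≤ 1) (by omega)

end pair

section main

variable {k A : Type u} [Field k] [CommRing A] [IsDomain A] [Algebra k A]
  [Algebra.FiniteType k A]

theorem main (m : ℕ) (g : Fin (m + 2) → A)
    (p : Ideal A) (hp : p ∈ (Ideal.span {g 0, g 1}).minimalPrimes)
    (hdim : ringKrullDim (A ⧸ p) + 2 = ringKrullDim A) :
    ∃ c : Fin (m + 2) → k,
      AlgebraicIndependent k
        (Sum.elim
          (fun i : Fin (m + 2) => algebraMap (MvPolynomial (Fin (m + 2)) (FractionRing A)) (FractionRing (MvPolynomial (Fin (m + 2)) (FractionRing A))) (MvPolynomial.X i))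
          ![∑ i, algebraMap A (FractionRing (MvPolynomial (Fin (m + 2)) (FractionRing A))) (g i) *
              algebraMap (MvPolynomial (Fin (m + 2)) (FractionRing A)) (FractionRing (MvPolynomial (Fin (m + 2)) (FractionRing A))) (MvPolynomial.X i),
            algebraMap A (FractionRing (MvPolynomial (Fin (m + 2)) (FractionRing A))) (∑ i, c i • g i)]) := by
  classical
  refine ⟨Pi.single 0 1, ?_⟩
  have h1 := algebraicIndependent_pair_of_minimal (k := k) (g 0) (g 1) p hp hdim
  have h2 : AlgebraicIndependent k
      ![algebraMap A (FractionRing A) (g 1), algebraMap A (FractionRing A) (g 0)] := by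
    have := h1.map' (f := IsScalarTower.toAlgHom k A (FractionRing A))
      (by intro x y h; exact IsFractionRing.injective A (FractionRing A) h)
    convert this using 1
    funext j; fin_cases j <;> rfl
  have h3 := algebraicIndependent_X_lin (k := k)
    (fun i => algebraMap A (FractionRing A) (g i)) 0 1 h2
  have h4 := h3.map' (f := IsScalarTower.toAlgHom k (MvPolynomial (Fin (m + 2)) (FractionRing A))
      (FractionRing (MvPolynomial (Fin (m + 2)) (FractionRing A))))
    (by
      intro x y h
      exact IsFractionRing.injective (MvPolynomial (Fin (m + 2)) (FractionRing A))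
        (FractionRing (MvPolynomial (Fin (m + 2)) (FractionRing A))) h)
  have hA : ∀ x : A, algebraMap A (FractionRing (MvPolynomial (Fin (m + 2)) (FractionRing A))) x
      = algebraMap (MvPolynomial (Fin (m + 2)) (FractionRing A))
          (FractionRing (MvPolynomial (Fin (m + 2)) (FractionRing A)))
          (C (algebraMap A (FractionRing A) x)) := by
    intro x
    rw [IsScalarTower.algebraMap_apply A (FractionRing A)
        (FractionRing (MvPolynomial (Fin (m + 2)) (FractionRing A))),
      IsScalarTower.algebraMap_apply (FractionRing A) (MvPolynomial (Fin (m + 2)) (FractionRing A))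
        (FractionRing (MvPolynomial (Fin (m + 2)) (FractionRing A))),
      MvPolynomial.algebraMap_eq]
  convert h4 using 1
  funext s
  rcases s with i | j
  · rfl
  · fin_cases j
    · show (∑ i, algebraMap A (FractionRing (MvPolynomial (Fin (m + 2)) (FractionRing A))) (g i) *
          algebraMap (MvPolynomial (Fin (m + 2)) (FractionRing A))
            (FractionRing (MvPolynomial (Fin (m + 2)) (FractionRing A))) (MvPolynomial.X i)) =
        algebraMap (MvPolynomial (Fin (m + 2)) (FractionRing A))
          (FractionRing (MvPolynomial (Fin (m + 2)) (FractionRing A)))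
          (∑ i, C (algebraMap A (FractionRing A) (g i)) * X i)
      rw [map_sum]
      refine Finset.sum_congr rfl (fun i _ => ?_)
      rw [map_mul, hA]
    · have hs : ∑ i, (Pi.single (0 : Fin (m + 2)) (1 : k) : Fin (m + 2) → k) i • g i = g 0 := by
        simp [Pi.single_apply]
      show algebraMap A (FractionRing (MvPolynomial (Fin (m + 2)) (FractionRing A)))
          (∑ i, (Pi.single (0 : Fin (m + 2)) (1 : k) : Fin (m + 2) → k) i • g i) =
        algebraMap (MvPolynomial (Fin (m + 2)) (FractionRing A))
          (FractionRing (MvPolynomial (Fin (m + 2)) (FractionRing A)))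
          (C (algebraMap A (FractionRing A) (g 0)))
      rw [hs, hA]

end main

end Groth.Agent.Lib.Helper4.AlgIndepLin
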