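import Mathlib
import Groth.Prelude.Def_W4c1arstab1appArSing

/-!
# Normal form for the `A_r` singularity algebra `k[[x,y]]/(y^2 - x^(r+1))`

Every element is uniquely `a(x) + b(x) y` with `a, b ∈ k[[t]]`.
-/

set_option autoImplicit false
set_option linter.style.haveILetI false
set_option linter.unusedSectionVars false
set_option linter.unusedVariables false
set_option maxHeartbeats 800000

universe u

namespace Groth.Agent.Lib.Helper4.ArS

open MvPowerSeries

noncomputable section

variable (k : Type u) [Field k] (r : ℕ)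

/-- exponent vector `(i, j)` -/
def mon (i j : ℕ) : Fin 2 →₀ ℕ := Finsupp.single 0 i + Finsupp.single 1 j

@[simp] lemma mon_zero (i j : ℕ) : mon i j 0 = i := by simp [mon]
@[simp] lemma mon_one (i j : ℕ) : mon i j 1 = j := by simp [mon]

lemma eq_mon (d : Fin 2 →₀ ℕ) : d = mon (d 0) (d 1) := by
  ext t; fin_cases t <;> simp [mon]

variable {k} in
lemma ext_c {f g : MvPowerSeries (Fin 2) k}
    (h : ∀ i j, coeff (mon i j) f = coeff (mon i j) g) : f = g := by
  ext d; rw [eq_mon d]; exact h _ _

lemma single1_le (n i j : ℕ) : Finsupp.single (1 : Fin 2) n ≤ mon i j ↔ n ≤ j := by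
  rw [Finsupp.le_def]
  constructor
  · intro h; simpa using h 1
  · intro h t; fin_cases t <;> simp [h]

lemma single0_le (n i j : ℕ) : Finsupp.single (0 : Fin 2) n ≤ mon i j ↔ n ≤ i := by
  rw [Finsupp.le_def]
  constructor
  · intro h; simpa using h 0
  · intro h t; fin_cases t <;> simp [h]

lemma mon_sub_single1 (n i j : ℕ) : mon i j - Finsupp.single 1 n = mon i (j - n) := by
  ext t; fin_cases t <;> simp [mon]

lemma mon_sub_single0 (n i j : ℕ) : mon i j - Finsupp.single 0 n = mon (i - n) j := by
  ext t; fin_cases t <;> simp [mon]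

variable {k} in
lemma coeff_mul_y_pow (q : MvPowerSeries (Fin 2) k) (n i j : ℕ) :
    coeff (mon i j) (q * X 1 ^ n) = if n ≤ j then coeff (mon i (j - n)) q else 0 := by
  rw [X_pow_eq, coeff_mul_monomial]
  simp only [single1_le, mon_sub_single1, mul_one]

variable {k} in
lemma coeff_mul_x_pow (q : MvPowerSeries (Fin 2) k) (n i j : ℕ) :
    coeff (mon i j) (q * X 0 ^ n) = if n ≤ i then coeff (mon (i - n) j) q else 0 := by
  rw [X_pow_eq, coeff_mul_monomial]
  simp only [single0_le, mon_sub_single0, mul_one]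

lemma hS : PowerSeries.HasSubst (MvPowerSeries.X (0 : Fin 2) : MvPowerSeries (Fin 2) k) :=
  PowerSeries.HasSubst.of_constantCoeff_zero (MvPowerSeries.constantCoeff_X (0 : Fin 2))

/-- `a ↦ a(x)` -/
def inc : PowerSeries k →ₐ[k] MvPowerSeries (Fin 2) k := PowerSeries.substAlgHom (hS k)

lemma inc_X : inc k PowerSeries.X = X 0 := PowerSeries.substAlgHom_X (hS k)

lemma xMap_apply (a : PowerSeries k) :
    ArSing.xMap k r a = Ideal.Quotient.mk (Ideal.span {ArSing.eqn k r}) (inc k a) := rfl

lemma coeff_inc (a : PowerSeries k) (i j : ℕ) :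
    coeff (mon i j) (inc k a) = if j = 0 then PowerSeries.coeff i a else 0 := by
  show coeff (mon i j) (PowerSeries.substAlgHom (hS k) a) = _
  rw [PowerSeries.coe_substAlgHom, PowerSeries.coeff_subst_single, mon_zero]
  by_cases hj : j = 0
  · subst hj
    rw [if_pos rfl, if_pos]
    simp [mon]
  · rw [if_neg hj, if_neg]
    intro h
    apply hj
    have := DFunLike.congr_fun h 1
    simpa using this

lemma coeff_inc_mul_y (b : PowerSeries k) (i j : ℕ) :
    coeff (mon i j) (inc k b * X 1) = if j = 1 then PowerSeries.coeff i b else 0 := by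
  have := coeff_mul_y_pow (inc k b) 1 i j
  rw [pow_one] at this
  rw [this, coeff_inc]
  by_cases h1 : 1 ≤ j
  · rw [if_pos h1]
    by_cases h2 : j = 1
    · rw [if_pos h2, if_pos (by omega)]
    · rw [if_neg h2, if_neg (by omega)]
  · rw [if_neg h1, if_neg (by omega)]

/-- explicit quotient in the division by `y^2 - x^s` -/
def quo (s : ℕ) (f : MvPowerSeries (Fin 2) k) : MvPowerSeries (Fin 2) k :=
  fun d => ∑ l ∈ Finset.range (d 0 / s + 1), coeff (mon (d 0 - l * s) (d 1 + 2 + 2 * l)) f

lemma coeff_quo (s : ℕ) (f : MvPowerSeries (Fin 2) k) (i j : ℕ) :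
    coeff (mon i j) (quo k s f) =
      ∑ l ∈ Finset.range (i / s + 1), coeff (mon (i - l * s) (j + 2 + 2 * l)) f := by
  show quo k s f (mon i j) = _
  simp only [quo, mon_zero, mon_one]

lemma quo_rec (s : ℕ) (hs : 0 < s) (f : MvPowerSeries (Fin 2) k) (i j : ℕ) :
    coeff (mon i j) (quo k s f) = coeff (mon i (j + 2)) f +
      if s ≤ i then coeff (mon (i - s) (j + 2)) (quo k s f) else 0 := by
  rw [coeff_quo, Finset.sum_range_succ']
  simp only [zero_mul, Nat.sub_zero, mul_zero, add_zero]
  rw [add_comm]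
  congr 1
  split_ifs with h
  · rw [coeff_quo, Nat.div_eq_sub_div hs h]
    apply Finset.sum_congr rfl
    intro l _
    have e1 : i - (l + 1) * s = i - s - l * s := by
      rw [add_mul, one_mul, add_comm (l * s) s, Nat.sub_add_eq]
    have e2 : j + 2 + 2 * (l + 1) = j + 2 + 2 + 2 * l := by ring
    rw [e1, e2]
  · have : i / s = 0 := Nat.div_eq_of_lt (not_le.mp h)
    simp [this]

/-- remainder -/
def rem (s : ℕ) (f : MvPowerSeries (Fin 2) k) : MvPowerSeries (Fin 2) k :=
  f - quo k s f * (X 1 ^ 2 - X 0 ^ s)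

lemma coeff_rem (s : ℕ) (hs : 0 < s) (f : MvPowerSeries (Fin 2) k) (i j : ℕ) :
    coeff (mon i (j + 2)) (rem k s f) = 0 := by
  rw [rem, map_sub, mul_sub, map_sub, coeff_mul_y_pow, coeff_mul_x_pow, if_pos (by omega),
    Nat.add_sub_cancel, quo_rec k s hs f i j]
  ring

lemma exists_normal (s : ℕ) (hs : 0 < s) (f : MvPowerSeries (Fin 2) k) :
    ∃ (q : MvPowerSeries (Fin 2) k) (a b : PowerSeries k),
      f = q * (X 1 ^ 2 - X 0 ^ s) + inc k a + inc k b * X 1 := by
  refine ⟨quo k s f, PowerSeries.mk fun i => coeff (mon i 0) (rem k s f),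
    PowerSeries.mk fun i => coeff (mon i 1) (rem k s f), ?_⟩
  have h : rem k s f = inc k (PowerSeries.mk fun i => coeff (mon i 0) (rem k s f)) +
      inc k (PowerSeries.mk fun i => coeff (mon i 1) (rem k s f)) * X 1 := by
    apply ext_c
    intro i j
    rw [map_add, coeff_inc, coeff_inc_mul_y]
    rcases j with _ | _ | j
    · simp [PowerSeries.coeff_mk]
    · simp [PowerSeries.coeff_mk]
    · rw [coeff_rem k s hs, if_neg (by omega), if_neg (by omega), add_zero]
  rw [add_assoc, ← h, rem]
  ring

lemma normal_unique (s : ℕ) (hs : 0 < s) (q : MvPowerSeries (Fin 2) k) (a b : PowerSeries k)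
    (h : inc k a + inc k b * X 1 = q * (X 1 ^ 2 - X 0 ^ s)) : a = 0 ∧ b = 0 := by
  have hq : ∀ i j, coeff (mon i j) q =
      if s ≤ i then coeff (mon (i - s) (j + 2)) q else 0 := by
    intro i j
    have := congrArg (coeff (mon i (j + 2))) h
    rw [map_add, coeff_inc, coeff_inc_mul_y, mul_sub, map_sub, coeff_mul_y_pow,
      coeff_mul_x_pow, if_neg (by omega), if_neg (by omega), if_pos (by omega),
      Nat.add_sub_cancel, add_zero] at this
    exact sub_eq_zero.mp this.symm
  have hq0 : ∀ i j, coeff (mon i j) q = 0 := by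
    intro i
    induction i using Nat.strong_induction_on with
    | _ i ih =>
      intro j
      rw [hq]
      split_ifs with h'
      · exact ih (i - s) (by omega) _
      · rfl
  have hq' : q = 0 := ext_c (by intro i j; rw [hq0]; simp)
  rw [hq', zero_mul] at h
  constructor
  · ext i
    have := congrArg (coeff (mon i 0)) h
    rw [map_add, coeff_inc, coeff_inc_mul_y] at this
    simpa using this
  · ext i
    have := congrArg (coeff (mon i 1)) h
    rw [map_add, coeff_inc, coeff_inc_mul_y] at this
    simpa using this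

end

end Groth.Agent.Lib.Helper4.ArS
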