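import Mathlib
import Groth.Agent.Lib.Helper4.ArSing

/-!
# Module structure of the `A_r` singularity algebra over `k[[x]]`
-/

set_option autoImplicit false
set_option linter.style.haveILetI false
set_option linter.unusedSectionVars false
set_option linter.unusedVariables false
set_option maxHeartbeats 800000

universe u

namespace Groth.Agent.Lib.Helper4.ArS

open MvPowerSeries

noncomputable section

variable (k : Type u) [Field k] (r : ℕ)

/-- `θ(a,b) = a(x) + b(x) y` -/
def theta (p : PowerSeries k × PowerSeries k) : ArSing.ring k r :=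
  ArSing.xMap k r p.1 + ArSing.xMap k r p.2 * ArSing.y k r

lemma theta_mk (a b : PowerSeries k) :
    theta k r (a, b) = ArSing.xMap k r a + ArSing.xMap k r b * ArSing.y k r := rfl

lemma mk_eqn : Ideal.Quotient.mk (Ideal.span {ArSing.eqn k r})
    (X 1 ^ 2 - X 0 ^ (r + 1) : MvPowerSeries (Fin 2) k) = 0 :=
  Ideal.Quotient.eq_zero_iff_mem.mpr (Ideal.subset_span rfl)

lemma theta_surj : Function.Surjective (theta k r) := by
  intro z
  obtain ⟨f, rfl⟩ := Ideal.Quotient.mk_surjective z
  obtain ⟨q, a, b, h⟩ := exists_normal k (r + 1) (Nat.succ_pos r) f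
  refine ⟨(a, b), ?_⟩
  rw [theta_mk, xMap_apply, xMap_apply, h]
  simp only [map_add, map_mul]
  rw [mk_eqn, mul_zero, zero_add]

lemma theta_inj : Function.Injective (theta k r) := by
  rintro ⟨a, b⟩ ⟨a', b'⟩ h
  have h' : Ideal.Quotient.mk (Ideal.span {ArSing.eqn k r})
      (inc k (a - a') + inc k (b - b') * X 1) = 0 := by
    have : theta k r (a, b) - theta k r (a', b') = 0 := sub_eq_zero.mpr h
    rw [← this]
    simp only [theta_mk, xMap_apply, map_sub, map_add, map_mul]
    ring
  rw [Ideal.Quotient.eq_zero_iff_mem, Ideal.mem_span_singleton'] at h'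
  obtain ⟨q, hq⟩ := h'
  obtain ⟨h1, h2⟩ := normal_unique k (r + 1) (Nat.succ_pos r) q (a - a') (b - b') hq.symm
  rw [sub_eq_zero] at h1 h2
  rw [h1, h2]

lemma xMap_X : ArSing.xMap k r PowerSeries.X = ArSing.x k r := by
  rw [xMap_apply, inc_X]

lemma y_sq : ArSing.y k r * ArSing.y k r = ArSing.xMap k r (PowerSeries.X ^ (r + 1)) := by
  rw [map_pow, xMap_X]
  have := mk_eqn k r
  rw [map_sub, map_pow, map_pow, sub_eq_zero] at this
  rw [← pow_two]
  exact this

lemma theta_mul_y (a b : PowerSeries k) :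
    theta k r (a, b) * ArSing.y k r = theta k r (PowerSeries.X ^ (r + 1) * b, a) := by
  rw [theta_mk, theta_mk, map_mul, ← y_sq]
  ring

lemma xMap_mul_theta (c a b : PowerSeries k) :
    ArSing.xMap k r c * theta k r (a, b) = theta k r (c * a, c * b) := by
  rw [theta_mk, theta_mk, map_mul, map_mul]
  ring

lemma theta_add (p q : PowerSeries k × PowerSeries k) :
    theta k r (p + q) = theta k r p + theta k r q := by
  simp only [theta, Prod.fst_add, Prod.snd_add, map_add]
  ring

lemma theta_zero : theta k r (0, 0) = 0 := by simp [theta]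

lemma theta_fst (a : PowerSeries k) : theta k r (a, 0) = ArSing.xMap k r a := by simp [theta]

lemma theta_one : theta k r (1, 0) = 1 := by simp [theta]

lemma theta_snd_one : theta k r (0, 1) = ArSing.y k r := by simp [theta]

lemma eq_zero_of_forall_X_pow_dvd (c : PowerSeries k) (hc : ∀ n, PowerSeries.X ^ n ∣ c) :
    c = 0 := by
  ext m
  have := (PowerSeries.X_pow_dvd_iff.mp (hc (m + 1))) m (Nat.lt_succ_self m)
  simpa using this

lemma eq_zero_of_forall_x_pow_dvd (z : ArSing.ring k r) (h : ∀ n, ArSing.x k r ^ n ∣ z) :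
    z = 0 := by
  obtain ⟨⟨a, b⟩, rfl⟩ := theta_surj k r z
  have key : ∀ n, PowerSeries.X ^ n ∣ a ∧ PowerSeries.X ^ n ∣ b := by
    intro n
    obtain ⟨w, hw⟩ := h n
    obtain ⟨⟨a', b'⟩, rfl⟩ := theta_surj k r w
    rw [← xMap_X, ← map_pow, xMap_mul_theta] at hw
    have := theta_inj k r hw
    rw [Prod.mk.injEq] at this
    exact ⟨⟨a', this.1⟩, ⟨b', this.2⟩⟩
  rw [eq_zero_of_forall_X_pow_dvd k a (fun n => (key n).1),
    eq_zero_of_forall_X_pow_dvd k b (fun n => (key n).2), theta_zero]

lemma algHom_eq_of_X (ψ₁ ψ₂ : PowerSeries k →ₐ[k] ArSing.ring k r)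
    (h : ψ₁ PowerSeries.X = ψ₂ PowerSeries.X) (hx : ArSing.x k r ∣ ψ₁ PowerSeries.X) :
    ψ₁ = ψ₂ := by
  have hC : ∀ c : k, (PowerSeries.C c : PowerSeries k) = algebraMap k (PowerSeries k) c :=
    fun c => by simp [PowerSeries.algebraMap_apply]
  have hpoly : ∀ p : Polynomial k, ψ₁ (p : PowerSeries k) = ψ₂ (p : PowerSeries k) := by
    intro p
    have : (ψ₁ : PowerSeries k →+* ArSing.ring k r).comp Polynomial.coeToPowerSeries.ringHom =
        (ψ₂ : PowerSeries k →+* ArSing.ring k r).comp Polynomial.coeToPowerSeries.ringHom := by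
      apply Polynomial.ringHom_ext
      · intro c
        simp only [RingHom.comp_apply, Polynomial.coeToPowerSeries.ringHom_apply,
          Polynomial.coe_C, hC, RingHom.coe_coe, AlgHom.commutes]
      · simp only [RingHom.comp_apply, Polynomial.coeToPowerSeries.ringHom_apply,
          Polynomial.coe_X, RingHom.coe_coe, h]
    exact DFunLike.congr_fun this p
  ext a
  apply sub_eq_zero.mp
  apply eq_zero_of_forall_x_pow_dvd
  intro n
  have ha := PowerSeries.eq_X_pow_mul_shift_add_trunc n a
  have e1 : ψ₁ a - ψ₂ a = ψ₁ PowerSeries.X ^ n *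
      (ψ₁ (PowerSeries.mk fun i => PowerSeries.coeff (i + n) a) -
        ψ₂ (PowerSeries.mk fun i => PowerSeries.coeff (i + n) a)) := by
    conv_lhs => rw [ha]
    simp only [map_add, map_mul, map_pow, hpoly, ← h]
    ring
  rw [e1]
  exact Dvd.dvd.mul_right (pow_dvd_pow_of_dvd hx n) _

lemma xMap_flat : (ArSing.xMap k r).toRingHom.Flat := by
  letI : Algebra (PowerSeries k) (ArSing.ring k r) := (ArSing.xMap k r).toRingHom.toAlgebra
  have hsm : ∀ (c : PowerSeries k) (z : ArSing.ring k r), c • z = ArSing.xMap k r c * z :=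
    fun c z => rfl
  let L : (PowerSeries k × PowerSeries k) →ₗ[PowerSeries k] ArSing.ring k r :=
    { toFun := theta k r
      map_add' := theta_add k r
      map_smul' := by
        rintro c ⟨a, b⟩
        simp only [RingHom.id_apply, Prod.smul_mk, smul_eq_mul, hsm]
        exact (xMap_mul_theta k r c a b).symm }
  have e : (PowerSeries k × PowerSeries k) ≃ₗ[PowerSeries k] ArSing.ring k r :=
    LinearEquiv.ofBijective L ⟨theta_inj k r, theta_surj k r⟩
  have : Module.Flat (PowerSeries k) (ArSing.ring k r) := Module.Flat.of_linearEquiv e.symm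
  exact this

lemma x_not_isUnit : ¬ IsUnit (ArSing.x k r) := by
  intro h
  obtain ⟨w, hw⟩ := isUnit_iff_exists_inv.mp h
  obtain ⟨⟨a, b⟩, rfl⟩ := theta_surj k r w
  rw [← xMap_X, xMap_mul_theta, ← theta_one] at hw
  have := theta_inj k r hw
  rw [Prod.mk.injEq] at this
  have h0 := congrArg (PowerSeries.coeff 0) this.1
  simp at h0

lemma map_maximalIdeal_ne_top :
    Ideal.map (ArSing.xMap k r) (IsLocalRing.maximalIdeal (PowerSeries k)) ≠ ⊤ := by
  rw [PowerSeries.maximalIdeal_eq_span_X, Ideal.map_span, Set.image_singleton, xMap_X, Ne,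
    Ideal.span_singleton_eq_top]
  exact x_not_isUnit k r

lemma y_mem_nonZeroDivisors : ArSing.y k r ∈ nonZeroDivisors (ArSing.ring k r) := by
  rw [mem_nonZeroDivisors_iff_right]
  intro z hz
  obtain ⟨⟨a, b⟩, rfl⟩ := theta_surj k r z
  rw [theta_mul_y, ← theta_zero] at hz
  have := theta_inj k r hz
  rw [Prod.mk.injEq] at this
  have hb : b = 0 := by
    rcases mul_eq_zero.mp this.1 with h | h
    · exact absurd h (pow_ne_zero _ PowerSeries.X_ne_zero)
    · exact h
  rw [this.2, hb, theta_zero]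

omit k in
lemma length_self_of_surj_dvr {B Q : Type*} [CommRing B] [IsDomain B] [IsDiscreteValuationRing B]
    [CommRing Q] (g : B →+* Q) (hg : Function.Surjective g) (n : ℕ)
    (hker : RingHom.ker g = IsLocalRing.maximalIdeal B ^ n) : Module.length Q Q = n := by
  letI := g.toAlgebra
  have h2 : Module.length B Q = Module.length Q Q := Module.length_eq_of_surjective hg
  have hk : IsLocalRing.maximalIdeal B ^ n = LinearMap.ker (Algebra.linearMap B Q) := by
    rw [← hker]
    ext x
    rw [RingHom.mem_ker, LinearMap.mem_ker, Algebra.linearMap_apply]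
    rfl
  have e : (B ⧸ IsLocalRing.maximalIdeal B ^ n) ≃ₗ[B] Q :=
    (Submodule.quotEquivOfEq _ _ hk).trans
      (LinearMap.quotKerEquivOfSurjective (Algebra.linearMap B Q) hg)
  rw [← h2, ← e.length_eq, IsDiscreteValuationRing.length_quotient_pow_maximalIdeal]

lemma length_quot_y : Module.length (ArSing.ring k r)
    (ArSing.ring k r ⧸ Ideal.span {ArSing.y k r}) = r + 1 := by
  obtain ⟨J, hJ⟩ : ∃ J : Ideal (ArSing.ring k r), J = Ideal.span {ArSing.y k r} := ⟨_, rfl⟩
  rw [← hJ]
  have h1 : Module.length (ArSing.ring k r) (ArSing.ring k r ⧸ J) =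
      Module.length (ArSing.ring k r ⧸ J) (ArSing.ring k r ⧸ J) :=
    Module.length_eq_of_surjective Ideal.Quotient.mk_surjective
  have gsurj : Function.Surjective
      ((Ideal.Quotient.mk J).comp (ArSing.xMap k r).toRingHom) := by
    intro z
    obtain ⟨w, rfl⟩ := Ideal.Quotient.mk_surjective z
    obtain ⟨⟨a, b⟩, rfl⟩ := theta_surj k r w
    refine ⟨a, ?_⟩
    show Ideal.Quotient.mk J (ArSing.xMap k r a) = Ideal.Quotient.mk J (theta k r (a, b))
    rw [Ideal.Quotient.eq, theta_mk, sub_add_cancel_left, hJ]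
    exact neg_mem (Ideal.mul_mem_left _ _ (Ideal.subset_span rfl))
  have hker : RingHom.ker ((Ideal.Quotient.mk J).comp (ArSing.xMap k r).toRingHom) =
      (IsLocalRing.maximalIdeal (PowerSeries k)) ^ (r + 1) := by
    rw [PowerSeries.maximalIdeal_eq_span_X, Ideal.span_singleton_pow]
    ext a
    rw [RingHom.mem_ker, Ideal.mem_span_singleton]
    show Ideal.Quotient.mk J (ArSing.xMap k r a) = 0 ↔ _
    rw [Ideal.Quotient.eq_zero_iff_mem, hJ, Ideal.mem_span_singleton']
    constructor
    · rintro ⟨w, hw⟩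
      obtain ⟨⟨a', b'⟩, rfl⟩ := theta_surj k r w
      rw [theta_mul_y, ← theta_fst] at hw
      have := theta_inj k r hw
      rw [Prod.mk.injEq] at this
      exact ⟨b', this.1.symm⟩
    · rintro ⟨c, rfl⟩
      refine ⟨ArSing.xMap k r c * ArSing.y k r, ?_⟩
      rw [map_mul, ← y_sq]
      ring
  rw [h1]
  have h3 := length_self_of_surj_dvr (B := PowerSeries k) (Q := ArSing.ring k r ⧸ J)
    ((Ideal.Quotient.mk J).comp (ArSing.xMap k r).toRingHom) gsurj (r + 1) hker
  exact h3.trans (by push_cast; rfl)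

end

end Groth.Agent.Lib.Helper4.ArS
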