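import Mathlib
import Groth.Agent.Lib.Helper4.ArSingB

/-!
# Even/odd decomposition of power series and homs out of `k[[t]]` into the `A_r` algebra
-/

set_option autoImplicit false
set_option linter.style.haveILetI false
set_option linter.unusedSectionVars false
set_option linter.unusedVariables false
set_option maxHeartbeats 800000

universe u

namespace Groth.Agent.Lib.Helper4.ArS

open MvPowerSeries

noncomputable section

variable (k : Type u) [Field k] (r : ℕ)

/-- `a(X) ↦ a(-X)` -/
def negX : PowerSeries k →ₐ[k] PowerSeries k :=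
  { PowerSeries.rescale (-1 : k) with
    commutes' := fun c => by
      show PowerSeries.rescale (-1 : k) (algebraMap k (PowerSeries k) c) =
        algebraMap k (PowerSeries k) c
      ext n
      rw [PowerSeries.coeff_rescale, PowerSeries.algebraMap_apply, PowerSeries.coeff_C]
      split_ifs with h
      · subst h; simp
      · simp }

lemma coeff_negX (a : PowerSeries k) (n : ℕ) :
    PowerSeries.coeff n (negX k a) = (-1) ^ n * PowerSeries.coeff n a :=
  PowerSeries.coeff_rescale a (-1) n

lemma negX_X : negX k PowerSeries.X = -PowerSeries.X := by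
  show PowerSeries.rescale (-1 : k) PowerSeries.X = _
  rw [PowerSeries.rescale_X]
  simp

/-- `a(X) ↦ a(X^2)` -/
abbrev sq : PowerSeries k →ₐ[k] PowerSeries k := PowerSeries.expand 2 two_ne_zero

lemma coeff_sq (a : PowerSeries k) (n : ℕ) :
    PowerSeries.coeff n (sq k a) = if 2 ∣ n then PowerSeries.coeff (n / 2) a else 0 :=
  PowerSeries.coeff_expand 2 two_ne_zero a

lemma sq_X : sq k PowerSeries.X = PowerSeries.X ^ 2 := PowerSeries.expand_X 2 two_ne_zero

lemma sq_injective : Function.Injective (sq k) := by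
  intro a b h
  ext n
  have := congrArg (PowerSeries.coeff (2 * n)) h
  simp only [coeff_sq, if_pos (dvd_mul_right 2 n), Nat.mul_div_cancel_left n two_pos] at this
  exact this

/-- even part -/
def ev (a : PowerSeries k) : PowerSeries k := PowerSeries.mk fun i => PowerSeries.coeff (2 * i) a

/-- odd part -/
def od (a : PowerSeries k) : PowerSeries k :=
  PowerSeries.mk fun i => PowerSeries.coeff (2 * i + 1) a

lemma coeff_even_X_mul_sq (m : ℕ) (c : PowerSeries k) :
    PowerSeries.coeff (2 * m) (PowerSeries.X * sq k c) = 0 := by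
  rcases m with _ | m
  · simp
  · rw [show 2 * (m + 1) = (2 * m + 1) + 1 by ring, PowerSeries.coeff_succ_X_mul, coeff_sq,
      if_neg (by omega)]

lemma coeff_odd_X_mul_sq (m : ℕ) (c : PowerSeries k) :
    PowerSeries.coeff (2 * m + 1) (PowerSeries.X * sq k c) = PowerSeries.coeff m c := by
  rw [PowerSeries.coeff_succ_X_mul, coeff_sq, if_pos (dvd_mul_right 2 m),
    Nat.mul_div_cancel_left m two_pos]

lemma eq_sq_ev_add (a : PowerSeries k) :
    a = sq k (ev k a) + PowerSeries.X * sq k (od k a) := by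
  ext n
  rw [map_add]
  rcases Nat.even_or_odd' n with ⟨m, rfl | rfl⟩
  · rw [coeff_even_X_mul_sq, add_zero, coeff_sq, if_pos (dvd_mul_right 2 m),
      Nat.mul_div_cancel_left m two_pos, ev, PowerSeries.coeff_mk]
  · rw [coeff_odd_X_mul_sq, coeff_sq, if_neg (by omega), zero_add, od, PowerSeries.coeff_mk]

lemma ev_sq_add (a₀ a₁ : PowerSeries k) :
    ev k (sq k a₀ + PowerSeries.X * sq k a₁) = a₀ := by
  ext m
  rw [ev, PowerSeries.coeff_mk, map_add, coeff_even_X_mul_sq, add_zero, coeff_sq,
    if_pos (dvd_mul_right 2 m), Nat.mul_div_cancel_left m two_pos]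

lemma od_sq_add (a₀ a₁ : PowerSeries k) :
    od k (sq k a₀ + PowerSeries.X * sq k a₁) = a₁ := by
  ext m
  rw [od, PowerSeries.coeff_mk, map_add, coeff_odd_X_mul_sq, coeff_sq, if_neg (by omega),
    zero_add]

lemma sq_add_inj {a₀ a₁ b₀ b₁ : PowerSeries k}
    (h : sq k a₀ + PowerSeries.X * sq k a₁ = sq k b₀ + PowerSeries.X * sq k b₁) :
    a₀ = b₀ ∧ a₁ = b₁ := by
  constructor
  · rw [← ev_sq_add k a₀ a₁, h, ev_sq_add]
  · rw [← od_sq_add k a₀ a₁, h, od_sq_add]

lemma negX_sq (b : PowerSeries k) : negX k (sq k b) = sq k b := by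
  ext n
  rw [coeff_negX, coeff_sq]
  split_ifs with hd
  · obtain ⟨m, rfl⟩ := hd
    rw [pow_mul]
    simp
  · simp

lemma negX_decomp (a : PowerSeries k) :
    negX k a = sq k (ev k a) - PowerSeries.X * sq k (od k a) := by
  conv_lhs => rw [eq_sq_ev_add k a]
  rw [map_add, map_mul, negX_sq, negX_sq, negX_X]
  ring

lemma od_eq_zero_of_negX {a : PowerSeries k} (h2 : (2 : k) ≠ 0) (h : negX k a = a) :
    od k a = 0 := by
  ext m
  rw [od, PowerSeries.coeff_mk, map_zero]
  have := congrArg (PowerSeries.coeff (2 * m + 1)) h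
  rw [coeff_negX, Odd.neg_one_pow ⟨m, rfl⟩, neg_one_mul] at this
  have h' : (2 : k) * PowerSeries.coeff (2 * m + 1) a = 0 := by
    rw [two_mul]
    nth_rewrite 1 [← this]
    exact neg_add_cancel _
  exact (mul_eq_zero.mp h').resolve_left h2

lemma ev_eq_zero_of_negX {a : PowerSeries k} (h2 : (2 : k) ≠ 0) (h : negX k a = -a) :
    ev k a = 0 := by
  ext m
  rw [ev, PowerSeries.coeff_mk, map_zero]
  have := congrArg (PowerSeries.coeff (2 * m)) h
  rw [coeff_negX, Even.neg_one_pow (even_two_mul m), one_mul, map_neg] at this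
  have h' : (2 : k) * PowerSeries.coeff (2 * m) a = 0 := by
    rw [two_mul]
    nth_rewrite 2 [this]
    exact add_neg_cancel _
  exact (mul_eq_zero.mp h').resolve_left h2

lemma theta_mul (a b a' b' : PowerSeries k) :
    theta k r (a, b) * theta k r (a', b') =
      theta k r (a * a' + PowerSeries.X ^ (r + 1) * (b * b'), a * b' + a' * b) := by
  simp only [theta_mk, map_add, map_mul]
  rw [← y_sq]
  ring

lemma algHom_eq_of_X' (ψ₁ ψ₂ : PowerSeries k →ₐ[k] ArSing.ring k r)
    (h : ψ₁ PowerSeries.X = ψ₂ PowerSeries.X) (hx : ArSing.x k r ∣ ψ₁ PowerSeries.X ^ 2) :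
    ψ₁ = ψ₂ := by
  have hC : ∀ c : k, (PowerSeries.C c : PowerSeries k) = algebraMap k (PowerSeries k) c :=
    fun c => by simp [PowerSeries.algebraMap_apply]
  have hpoly : ∀ p : Polynomial k, ψ₁ (p : PowerSeries k) = ψ₂ (p : PowerSeries k) := by
    intro p
    have : (ψ₁ : PowerSeries k →+* ArSing.ring k r).comp Polynomial.coeToPowerSeries.ringHom =
        (ψ₂ : PowerSeries k →+* ArSing.ring k r).comp Polynomial.coeToPowerSeries.ringHom := by
      apply Polynomial.ringHom_ext
      · intro c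
        simp only [RingHom.comp_apply, Polynomial.coeToPowerSeries.ringHom_apply,
          Polynomial.coe_C, hC, RingHom.coe_coe, AlgHom.commutes]
      · simp only [RingHom.comp_apply, Polynomial.coeToPowerSeries.ringHom_apply,
          Polynomial.coe_X, RingHom.coe_coe, h]
    exact DFunLike.congr_fun this p
  ext a
  apply sub_eq_zero.mp
  apply eq_zero_of_forall_x_pow_dvd
  intro n
  have ha := PowerSeries.eq_X_pow_mul_shift_add_trunc (2 * n) a
  have e1 : ψ₁ a - ψ₂ a = (ψ₁ PowerSeries.X ^ 2) ^ n *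
      (ψ₁ (PowerSeries.mk fun i => PowerSeries.coeff (i + 2 * n) a) -
        ψ₂ (PowerSeries.mk fun i => PowerSeries.coeff (i + 2 * n) a)) := by
    conv_lhs => rw [ha]
    simp only [map_add, map_mul, map_pow, hpoly, ← h]
    rw [pow_mul]
    ring
  rw [e1]
  exact Dvd.dvd.mul_right (pow_dvd_pow_of_dvd hx n) _

lemma algHom_xMap_neg (σ : ArSing.ring k r →ₐ[k] ArSing.ring k r)
    (hx : σ (ArSing.x k r) = -ArSing.x k r) (a : PowerSeries k) :
    σ (ArSing.xMap k r a) = ArSing.xMap k r (negX k a) := by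
  have := algHom_eq_of_X k r (σ.comp (ArSing.xMap k r)) ((ArSing.xMap k r).comp (negX k))
    (by simp only [AlgHom.comp_apply]; rw [xMap_X, hx, negX_X, map_neg, xMap_X])
    (by simp only [AlgHom.comp_apply]; rw [xMap_X, hx]; exact ⟨-1, by ring⟩)
  exact DFunLike.congr_fun this a

lemma algHom_xMap_sq (r' : ℕ) (φ : ArSing.ring k r' →ₐ[k] ArSing.ring k r)
    (hx : φ (ArSing.x k r') = ArSing.x k r ^ 2) (a : PowerSeries k) :
    φ (ArSing.xMap k r' a) = ArSing.xMap k r (sq k a) := by
  have := algHom_eq_of_X k r (φ.comp (ArSing.xMap k r')) ((ArSing.xMap k r).comp (sq k))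
    (by simp only [AlgHom.comp_apply]; rw [xMap_X, hx, sq_X, map_pow, xMap_X])
    (by simp only [AlgHom.comp_apply]; rw [xMap_X, hx]; exact dvd_pow_self _ two_ne_zero)
  exact DFunLike.congr_fun this a

lemma x_mul_theta (a b : PowerSeries k) :
    ArSing.x k r * theta k r (a, b) = theta k r (PowerSeries.X * a, PowerSeries.X * b) := by
  rw [← xMap_X, xMap_mul_theta]

lemma x_mem_nonZeroDivisors : ArSing.x k r ∈ nonZeroDivisors (ArSing.ring k r) := by
  rw [mem_nonZeroDivisors_iff_right]
  intro z hz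
  obtain ⟨⟨a, b⟩, rfl⟩ := theta_surj k r z
  rw [mul_comm, x_mul_theta, ← theta_zero] at hz
  have := theta_inj k r hz
  rw [Prod.mk.injEq] at this
  have ha := (mul_eq_zero.mp this.1).resolve_left PowerSeries.X_ne_zero
  have hb := (mul_eq_zero.mp this.2).resolve_left PowerSeries.X_ne_zero
  rw [ha, hb, theta_zero]

lemma isUnit_theta (a b : PowerSeries k) (ha : PowerSeries.constantCoeff a ≠ 0) :
    IsUnit (theta k r (a, b)) := by
  have e : theta k r (a, b) =
      Ideal.Quotient.mk (Ideal.span {ArSing.eqn k r}) (inc k a + inc k b * X 1) := by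
    rw [theta_mk, xMap_apply, xMap_apply, map_add, map_mul]
  rw [e]
  apply IsUnit.map
  rw [MvPowerSeries.isUnit_iff_constantCoeff, ← MvPowerSeries.coeff_zero_eq_constantCoeff_apply]
  have h0 : (0 : Fin 2 →₀ ℕ) = mon 0 0 := by simp [mon]
  rw [h0, map_add, coeff_inc, coeff_inc_mul_y, if_pos rfl, if_neg (by omega), add_zero]
  exact isUnit_iff_ne_zero.mpr (by rw [PowerSeries.coeff_zero_eq_constantCoeff_apply]; exact ha)

end

end Groth.Agent.Lib.Helper4.ArS
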