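import Mathlib
import Groth.Agent.Lib.Helper4.ArSingC

/-!
# The involution `x ↦ -x, y ↦ y` of the `A_r` algebra (r odd)
-/

set_option autoImplicit false
set_option linter.style.haveILetI false
set_option linter.unusedSectionVars false
set_option linter.unusedVariables false
set_option maxHeartbeats 1600000

universe u

namespace Groth.Agent.Lib.Helper4.ArS

open MvPowerSeries

noncomputable section

variable (k : Type u) [Field k] (r : ℕ)

lemma C_eq_algebraMap (c : k) :
    (PowerSeries.C c : PowerSeries k) = algebraMap k (PowerSeries k) c := by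
  simp [PowerSeries.algebraMap_apply]

lemma xMap_C (c : k) : ArSing.xMap k r (PowerSeries.C c) = algebraMap k (ArSing.ring k r) c := by
  rw [C_eq_algebraMap, AlgHom.commutes]

lemma theta_C (c d : k) : theta k r (PowerSeries.C c, PowerSeries.C d) =
    algebraMap k (ArSing.ring k r) c + algebraMap k (ArSing.ring k r) d * ArSing.y k r := by
  rw [theta_mk, xMap_C, xMap_C]

lemma hS1 : PowerSeries.HasSubst (MvPowerSeries.X (1 : Fin 2) : MvPowerSeries (Fin 2) k) :=
  PowerSeries.HasSubst.of_constantCoeff_zero (MvPowerSeries.constantCoeff_X (1 : Fin 2))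

/-- `c ↦ c(y)` -/
def yMap : PowerSeries k →ₐ[k] ArSing.ring k r :=
  (Ideal.Quotient.mkₐ k (Ideal.span {ArSing.eqn k r})).comp (PowerSeries.substAlgHom (hS1 k))

lemma yMap_X : yMap k r PowerSeries.X = ArSing.y k r := by
  show Ideal.Quotient.mk _ (PowerSeries.substAlgHom (hS1 k) PowerSeries.X) = _
  rw [PowerSeries.substAlgHom_X]

lemma yMap_C (c : k) : yMap k r (PowerSeries.C c) = algebraMap k (ArSing.ring k r) c := by
  rw [C_eq_algebraMap, AlgHom.commutes]

lemma mem_of_neg_sub_mem (I : Ideal (ArSing.ring k r)) (g : ArSing.ring k r) (h2 : (2 : k) ≠ 0)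
    (h : -g - g ∈ I) : g ∈ I := by
  have := Ideal.mul_mem_left I (algebraMap k (ArSing.ring k r) (-2)⁻¹) h
  have h2' : (-2 : k) ≠ 0 := neg_ne_zero.mpr h2
  have e : algebraMap k (ArSing.ring k r) (-2)⁻¹ * (-g - g) = g := by
    have h3 : (-g - g) = algebraMap k (ArSing.ring k r) (-2) * g := by
      rw [map_neg, map_ofNat]
      ring
    rw [h3, ← mul_assoc, ← map_mul, inv_mul_cancel₀ h2', map_one, one_mul]
  rwa [e] at this

lemma X_dvd_negX_sub (c : PowerSeries k) : PowerSeries.X ∣ negX k c - c := by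
  rw [PowerSeries.X_dvd_iff, ← PowerSeries.coeff_zero_eq_constantCoeff_apply, map_sub, coeff_negX]
  simp

lemma xMap_sub_const_mem (J : Ideal (ArSing.ring k r)) (hxJ : ∀ z, ArSing.x k r * z ∈ J)
    (a : PowerSeries k) :
    ArSing.xMap k r a - algebraMap k (ArSing.ring k r) (PowerSeries.constantCoeff a) ∈ J := by
  have : PowerSeries.X ∣ a - PowerSeries.C (PowerSeries.constantCoeff a) := by
    rw [PowerSeries.X_dvd_iff, map_sub, PowerSeries.constantCoeff_C, sub_self]
  obtain ⟨a', ha'⟩ := this
  have e : ArSing.xMap k r a - algebraMap k (ArSing.ring k r) (PowerSeries.constantCoeff a) =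
      ArSing.x k r * ArSing.xMap k r a' := by
    rw [← xMap_X, ← map_mul, ← ha', map_sub, xMap_C]
  rw [e]
  exact hxJ _

lemma length_quot_x : Module.length (ArSing.ring k r)
    (ArSing.ring k r ⧸ Ideal.span {ArSing.x k r}) = 2 := by
  obtain ⟨J, hJ⟩ : ∃ J : Ideal (ArSing.ring k r), J = Ideal.span {ArSing.x k r} := ⟨_, rfl⟩
  rw [← hJ]
  have h1 : Module.length (ArSing.ring k r) (ArSing.ring k r ⧸ J) =
      Module.length (ArSing.ring k r ⧸ J) (ArSing.ring k r ⧸ J) :=
    Module.length_eq_of_surjective Ideal.Quotient.mk_surjective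
  have hxJ : ∀ z, ArSing.x k r * z ∈ J := fun z => by
    rw [hJ]
    exact Ideal.mul_mem_right _ _ (Ideal.subset_span rfl)
  have gsurj : Function.Surjective
      ((Ideal.Quotient.mk J).comp (yMap k r).toRingHom) := by
    intro z
    obtain ⟨w, rfl⟩ := Ideal.Quotient.mk_surjective z
    obtain ⟨⟨a, b⟩, rfl⟩ := theta_surj k r w
    refine ⟨PowerSeries.C (PowerSeries.constantCoeff a) +
      PowerSeries.C (PowerSeries.constantCoeff b) * PowerSeries.X, ?_⟩
    show Ideal.Quotient.mk J (yMap k r _) = Ideal.Quotient.mk J (theta k r (a, b))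
    rw [Ideal.Quotient.eq, map_add, map_mul, yMap_X, yMap_C, yMap_C, theta_mk]
    have e : algebraMap k (ArSing.ring k r) (PowerSeries.constantCoeff a) +
        algebraMap k (ArSing.ring k r) (PowerSeries.constantCoeff b) * ArSing.y k r -
        (ArSing.xMap k r a + ArSing.xMap k r b * ArSing.y k r) =
        -(ArSing.xMap k r a - algebraMap k (ArSing.ring k r) (PowerSeries.constantCoeff a)) +
        -(ArSing.xMap k r b - algebraMap k (ArSing.ring k r) (PowerSeries.constantCoeff b)) *
          ArSing.y k r := by ring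
    rw [e]
    exact add_mem (neg_mem (xMap_sub_const_mem k r J hxJ a))
      (Ideal.mul_mem_right _ _ (neg_mem (xMap_sub_const_mem k r J hxJ b)))
  have hker : RingHom.ker ((Ideal.Quotient.mk J).comp (yMap k r).toRingHom) =
      (IsLocalRing.maximalIdeal (PowerSeries k)) ^ 2 := by
    rw [PowerSeries.maximalIdeal_eq_span_X, Ideal.span_singleton_pow]
    ext c
    rw [RingHom.mem_ker, Ideal.mem_span_singleton]
    show Ideal.Quotient.mk J (yMap k r c) = 0 ↔ _
    rw [Ideal.Quotient.eq_zero_iff_mem]
    have hdec : PowerSeries.X ^ 2 ∣ c - (PowerSeries.C (PowerSeries.coeff 0 c) +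
        PowerSeries.C (PowerSeries.coeff 1 c) * PowerSeries.X) := by
      rw [PowerSeries.X_pow_dvd_iff]
      intro n hn
      interval_cases n <;> simp
    obtain ⟨c', hc'⟩ := hdec
    have hy : yMap k r c - (algebraMap k (ArSing.ring k r) (PowerSeries.coeff 0 c) +
        algebraMap k (ArSing.ring k r) (PowerSeries.coeff 1 c) * ArSing.y k r) ∈ J := by
      have e : yMap k r c - (algebraMap k (ArSing.ring k r) (PowerSeries.coeff 0 c) +
          algebraMap k (ArSing.ring k r) (PowerSeries.coeff 1 c) * ArSing.y k r) =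
          yMap k r (c - (PowerSeries.C (PowerSeries.coeff 0 c) +
            PowerSeries.C (PowerSeries.coeff 1 c) * PowerSeries.X)) := by
        rw [map_sub, map_add, map_mul, yMap_X, yMap_C, yMap_C]
      rw [e, hc', map_mul, map_pow, yMap_X, pow_two, y_sq, map_pow, xMap_X, pow_succ', mul_assoc]
      exact hxJ _
    constructor
    · intro h
      have h' : algebraMap k (ArSing.ring k r) (PowerSeries.coeff 0 c) +
          algebraMap k (ArSing.ring k r) (PowerSeries.coeff 1 c) * ArSing.y k r ∈ J := by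
        have := sub_mem h hy
        rwa [sub_sub_cancel] at this
      rw [hJ, Ideal.mem_span_singleton] at h'
      obtain ⟨w, hw⟩ := h'
      obtain ⟨⟨a', b'⟩, rfl⟩ := theta_surj k r w
      rw [x_mul_theta, ← theta_C] at hw
      have := theta_inj k r hw
      rw [Prod.mk.injEq] at this
      have h0 : PowerSeries.coeff 0 c = 0 := by
        have := congrArg (PowerSeries.coeff 0) this.1
        simpa using this
      have h1' : PowerSeries.coeff 1 c = 0 := by
        have := congrArg (PowerSeries.coeff 0) this.2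
        simpa using this
      rw [PowerSeries.X_pow_dvd_iff]
      intro n hn
      interval_cases n
      · exact h0
      · exact h1'
    · intro h
      rw [PowerSeries.X_pow_dvd_iff] at h
      have h0 := h 0 (by norm_num)
      have h1' := h 1 (by norm_num)
      rw [h0, h1', map_zero, zero_mul, add_zero, sub_zero] at hy
      exact hy
  rw [h1]
  have h3 := length_self_of_surj_dvr (B := PowerSeries k) (Q := ArSing.ring k r ⧸ J)
    ((Ideal.Quotient.mk J).comp (yMap k r).toRingHom) gsurj 2 hker
  exact h3.trans Nat.cast_ofNat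

theorem negx_main (m : ℕ) (h2 : (2 : k) ≠ 0)
    (σ : ArSing.ring k r ≃ₐ[k] ArSing.ring k r) (hx : σ (ArSing.x k r) = -ArSing.x k r)
    (hy : σ (ArSing.y k r) = ArSing.y k r)
    (φ : ArSing.ring k (m - 1) →ₐ[k] ArSing.ring k r)
    (hφx : φ (ArSing.x k (m - 1)) = ArSing.x k r ^ 2)
    (hφy : φ (ArSing.y k (m - 1)) = ArSing.y k r) :
    (∀ a : ArSing.ring k r, σ a = a ↔ a ∈ φ.range) ∧
    (φ.toRingHom.Flat ∧ ∀ I : Ideal (ArSing.ring k (m - 1)), I.IsMaximal → Ideal.map φ I ≠ ⊤) ∧
    (∃ g : ArSing.ring k r, g ∈ nonZeroDivisors (ArSing.ring k r) ∧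
      Ideal.span (Set.range fun a : ArSing.ring k r => σ a - a) = Ideal.span {g}) ∧
    Module.length (ArSing.ring k r)
      (ArSing.ring k r ⧸ Ideal.span (Set.range fun a : ArSing.ring k r => σ a - a)) = 2 := by
  have hσx := algHom_xMap_neg k r (σ : ArSing.ring k r →ₐ[k] ArSing.ring k r) hx
  have hσθ : ∀ a b, σ (theta k r (a, b)) = theta k r (negX k a, negX k b) := by
    intro a b
    have e1 : σ (ArSing.xMap k r a) = ArSing.xMap k r (negX k a) := hσx a
    have e2 : σ (ArSing.xMap k r b) = ArSing.xMap k r (negX k b) := hσx b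
    rw [theta_mk, theta_mk, map_add, map_mul, hy, e1, e2]
  have hφθ : ∀ a b, φ (theta k (m - 1) (a, b)) = theta k r (sq k a, sq k b) := by
    intro a b
    rw [theta_mk, theta_mk, map_add, map_mul, hφy, algHom_xMap_sq k r (m - 1) φ hφx,
      algHom_xMap_sq k r (m - 1) φ hφx]
  have part1 : ∀ z : ArSing.ring k r, σ z = z ↔ z ∈ φ.range := by
    intro z
    obtain ⟨⟨a, b⟩, rfl⟩ := theta_surj k r z
    rw [hσθ, AlgHom.mem_range]
    constructor
    · intro h
      have := theta_inj k r h
      rw [Prod.mk.injEq] at this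
      have ha := od_eq_zero_of_negX k h2 this.1
      have hb := od_eq_zero_of_negX k h2 this.2
      refine ⟨theta k (m - 1) (ev k a, ev k b), ?_⟩
      rw [hφθ]
      have ea := eq_sq_ev_add k a
      have eb := eq_sq_ev_add k b
      rw [ha, map_zero, mul_zero, add_zero] at ea
      rw [hb, map_zero, mul_zero, add_zero] at eb
      rw [← ea, ← eb]
    · rintro ⟨w, hw⟩
      obtain ⟨⟨a', b'⟩, rfl⟩ := theta_surj k (m - 1) w
      rw [hφθ] at hw
      have := theta_inj k r hw
      rw [Prod.mk.injEq] at this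
      rw [← this.1, ← this.2, negX_sq, negX_sq]
  have hnt : Nontrivial (ArSing.ring k r) := by
    refine nontrivial_of_ne (1 : ArSing.ring k r) 0 ?_
    intro h
    rw [← theta_one, ← theta_zero] at h
    have := theta_inj k r h
    simp at this
  have part2 : φ.toRingHom.Flat ∧
      ∀ I : Ideal (ArSing.ring k (m - 1)), I.IsMaximal → Ideal.map φ I ≠ ⊤ := by
    letI : Algebra (ArSing.ring k (m - 1)) (ArSing.ring k r) := φ.toRingHom.toAlgebra
    have hsm : ∀ (c : ArSing.ring k (m - 1)) (z : ArSing.ring k r), c • z = φ c * z :=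
      fun c z => rfl
    let L : (ArSing.ring k (m - 1) × ArSing.ring k (m - 1)) →ₗ[ArSing.ring k (m - 1)]
        ArSing.ring k r :=
      { toFun := fun p => φ p.1 + ArSing.x k r * φ p.2
        map_add' := by
          intro p q
          simp only [Prod.fst_add, Prod.snd_add, map_add]
          ring
        map_smul' := by
          rintro c ⟨u, v⟩
          simp only [RingHom.id_apply, Prod.smul_mk, smul_eq_mul, hsm, map_mul]
          ring }
    have hLθ : ∀ a₀ b₀ a₁ b₁ : PowerSeries k,
        L (theta k (m - 1) (a₀, b₀), theta k (m - 1) (a₁, b₁)) =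
          theta k r (sq k a₀ + PowerSeries.X * sq k a₁, sq k b₀ + PowerSeries.X * sq k b₁) := by
      intro a₀ b₀ a₁ b₁
      show φ _ + ArSing.x k r * φ _ = _
      rw [hφθ, hφθ, x_mul_theta, ← theta_add]
      rfl
    have hLinj : Function.Injective L := by
      rintro ⟨u, v⟩ ⟨u', v'⟩ h
      obtain ⟨⟨a₀, b₀⟩, rfl⟩ := theta_surj k (m - 1) u
      obtain ⟨⟨a₁, b₁⟩, rfl⟩ := theta_surj k (m - 1) v
      obtain ⟨⟨a₀', b₀'⟩, rfl⟩ := theta_surj k (m - 1) u'
      obtain ⟨⟨a₁', b₁'⟩, rfl⟩ := theta_surj k (m - 1) v'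
      rw [hLθ, hLθ] at h
      have := theta_inj k r h
      rw [Prod.mk.injEq] at this
      obtain ⟨e1, e2⟩ := sq_add_inj k this.1
      obtain ⟨e3, e4⟩ := sq_add_inj k this.2
      rw [e1, e2, e3, e4]
    have hLsurj : Function.Surjective L := by
      intro z
      obtain ⟨⟨a, b⟩, rfl⟩ := theta_surj k r z
      refine ⟨(theta k (m - 1) (ev k a, ev k b), theta k (m - 1) (od k a, od k b)), ?_⟩
      rw [hLθ, ← eq_sq_ev_add, ← eq_sq_ev_add]
    have e : (ArSing.ring k (m - 1) × ArSing.ring k (m - 1)) ≃ₗ[ArSing.ring k (m - 1)]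
        ArSing.ring k r := LinearEquiv.ofBijective L ⟨hLinj, hLsurj⟩
    have hfree : Module.Free (ArSing.ring k (m - 1)) (ArSing.ring k r) := Module.Free.of_equiv e
    have hff : Module.FaithfullyFlat (ArSing.ring k (m - 1)) (ArSing.ring k r) := inferInstance
    refine ⟨?_, ?_⟩
    · have : Module.Flat (ArSing.ring k (m - 1)) (ArSing.ring k r) := inferInstance
      exact this
    · intro I hI htop
      have h1 := hff.submodule_ne_top hI
      apply h1
      rw [Ideal.smul_top_eq_map]
      have : Ideal.map (algebraMap (ArSing.ring k (m - 1)) (ArSing.ring k r)) I = ⊤ := htop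
      rw [this]
      rfl
  have hI : Ideal.span (Set.range fun a : ArSing.ring k r => σ a - a) =
      Ideal.span {ArSing.x k r} := by
    apply le_antisymm
    · rw [Ideal.span_le]
      rintro _ ⟨z, rfl⟩
      obtain ⟨⟨a, b⟩, rfl⟩ := theta_surj k r z
      show σ (theta k r (a, b)) - theta k r (a, b) ∈ _
      rw [hσθ, SetLike.mem_coe, Ideal.mem_span_singleton]
      obtain ⟨a', ha'⟩ := X_dvd_negX_sub k a
      obtain ⟨b', hb'⟩ := X_dvd_negX_sub k b
      refine ⟨theta k r (a', b'), ?_⟩
      rw [x_mul_theta, ← ha', ← hb']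
      simp only [theta_mk, map_sub]
      ring
    · rw [Ideal.span_le, Set.singleton_subset_iff, SetLike.mem_coe]
      apply mem_of_neg_sub_mem k r _ _ h2
      rw [← hx]
      exact Ideal.subset_span ⟨ArSing.x k r, rfl⟩
  refine ⟨part1, part2, ⟨ArSing.x k r, x_mem_nonZeroDivisors k r, hI⟩, ?_⟩
  have key : ∀ I : Ideal (ArSing.ring k r), I = Ideal.span {ArSing.x k r} →
      Module.length (ArSing.ring k r) (ArSing.ring k r ⧸ I) = 2 := by
    rintro I rfl
    exact length_quot_x k r
  exact key _ hI

end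

end Groth.Agent.Lib.Helper4.ArS
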