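import Mathlib
import Groth.Agent.Lib.Helper4.ArSingD

/-!
# The involution `x ↦ -x, y ↦ -y` of the `A_r` algebra (r odd)
-/

set_option autoImplicit false
set_option linter.style.haveILetI false
set_option linter.unusedSectionVars false
set_option linter.unusedVariables false
set_option maxHeartbeats 1600000

universe u

namespace Groth.Agent.Lib.Helper4.ArS

open MvPowerSeries

noncomputable section

variable (k : Type u) [Field k] (r : ℕ)

lemma theta_mem_span_xy_iff (a b : PowerSeries k) :
    theta k r (a, b) ∈ Ideal.span {ArSing.x k r, ArSing.y k r} ↔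
      PowerSeries.constantCoeff a = 0 := by
  constructor
  · intro h
    obtain ⟨c, d, hcd⟩ := Ideal.mem_span_pair.mp h
    obtain ⟨⟨a₁, b₁⟩, rfl⟩ := theta_surj k r c
    obtain ⟨⟨a₂, b₂⟩, rfl⟩ := theta_surj k r d
    rw [mul_comm, x_mul_theta, theta_mul_y, ← theta_add] at hcd
    have := theta_inj k r hcd
    rw [Prod.mk_add_mk, Prod.mk.injEq] at this
    rw [← this.1]
    simp
  · intro h
    obtain ⟨a', rfl⟩ := PowerSeries.X_dvd_iff.mpr h
    refine Ideal.mem_span_pair.mpr ⟨ArSing.xMap k r a', ArSing.xMap k r b, ?_⟩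
    rw [theta_mk, map_mul, xMap_X]
    ring

lemma one_notMem_span_xy : (1 : ArSing.ring k r) ∉ Ideal.span {ArSing.x k r, ArSing.y k r} := by
  rw [← theta_one, theta_mem_span_xy_iff]
  simp

lemma length_quot_xy : Module.length (ArSing.ring k r)
    (ArSing.ring k r ⧸ Ideal.span {ArSing.x k r, ArSing.y k r}) = 1 := by
  obtain ⟨J, hJ⟩ : ∃ J : Ideal (ArSing.ring k r),
    J = Ideal.span {ArSing.x k r, ArSing.y k r} := ⟨_, rfl⟩
  rw [← hJ]
  have h1 : Module.length (ArSing.ring k r) (ArSing.ring k r ⧸ J) =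
      Module.length (ArSing.ring k r ⧸ J) (ArSing.ring k r ⧸ J) :=
    Module.length_eq_of_surjective Ideal.Quotient.mk_surjective
  have gsurj : Function.Surjective
      ((Ideal.Quotient.mk J).comp (ArSing.xMap k r).toRingHom) := by
    intro z
    obtain ⟨w, rfl⟩ := Ideal.Quotient.mk_surjective z
    obtain ⟨⟨a, b⟩, rfl⟩ := theta_surj k r w
    refine ⟨a, ?_⟩
    show Ideal.Quotient.mk J (ArSing.xMap k r a) = Ideal.Quotient.mk J (theta k r (a, b))
    rw [Ideal.Quotient.eq, theta_mk, sub_add_cancel_left, hJ]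
    exact neg_mem (Ideal.mul_mem_left _ _ (Ideal.subset_span (by simp)))
  have hker : RingHom.ker ((Ideal.Quotient.mk J).comp (ArSing.xMap k r).toRingHom) =
      (IsLocalRing.maximalIdeal (PowerSeries k)) ^ 1 := by
    rw [pow_one, PowerSeries.maximalIdeal_eq_span_X]
    ext a
    rw [RingHom.mem_ker, Ideal.mem_span_singleton, PowerSeries.X_dvd_iff]
    show Ideal.Quotient.mk J (ArSing.xMap k r a) = 0 ↔ _
    rw [Ideal.Quotient.eq_zero_iff_mem, hJ, ← theta_fst, theta_mem_span_xy_iff]
  rw [h1]
  have h3 := length_self_of_surj_dvr (B := PowerSeries k) (Q := ArSing.ring k r ⧸ J)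
    ((Ideal.Quotient.mk J).comp (ArSing.xMap k r).toRingHom) gsurj 1 hker
  exact h3.trans Nat.cast_one

theorem negxy_main (m : ℕ) (hr : 1 ≤ r) (h2 : (2 : k) ≠ 0)
    (σ : ArSing.ring k r ≃ₐ[k] ArSing.ring k r) (hx : σ (ArSing.x k r) = -ArSing.x k r)
    (hy : σ (ArSing.y k r) = -ArSing.y k r)
    (φ : ArSing.ring k m →ₐ[k] ArSing.ring k r) (hφx : φ (ArSing.x k m) = ArSing.x k r ^ 2)
    (hφy : φ (ArSing.y k m) = ArSing.x k r * ArSing.y k r) :
    (∀ a : ArSing.ring k r, σ a = a ↔ a ∈ φ.range) ∧ Function.Injective φ ∧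
    ¬ φ.toRingHom.Flat ∧
    Module.length (ArSing.ring k r)
      (ArSing.ring k r ⧸ Ideal.span (Set.range fun a : ArSing.ring k r => σ a - a)) = 1 ∧
    ¬ (∃ g : ArSing.ring k r, g ∈ nonZeroDivisors (ArSing.ring k r) ∧
      Ideal.span (Set.range fun a : ArSing.ring k r => σ a - a) = Ideal.span {g}) := by
  have hσx := algHom_xMap_neg k r (σ : ArSing.ring k r →ₐ[k] ArSing.ring k r) hx
  have hσθ : ∀ a b, σ (theta k r (a, b)) = theta k r (negX k a, -negX k b) := by
    intro a b
    have e1 : σ (ArSing.xMap k r a) = ArSing.xMap k r (negX k a) := hσx a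
    have e2 : σ (ArSing.xMap k r b) = ArSing.xMap k r (negX k b) := hσx b
    rw [theta_mk, theta_mk, map_add, map_mul, hy, e1, e2, map_neg]
    ring
  have hφθ : ∀ a b, φ (theta k m (a, b)) = theta k r (sq k a, PowerSeries.X * sq k b) := by
    intro a b
    rw [theta_mk, theta_mk, map_add, map_mul, hφy, algHom_xMap_sq k r m φ hφx,
      algHom_xMap_sq k r m φ hφx, map_mul, xMap_X]
    ring
  have part1 : ∀ z : ArSing.ring k r, σ z = z ↔ z ∈ φ.range := by
    intro z
    obtain ⟨⟨a, b⟩, rfl⟩ := theta_surj k r z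
    rw [hσθ, AlgHom.mem_range]
    constructor
    · intro h
      have := theta_inj k r h
      rw [Prod.mk.injEq] at this
      have ha := od_eq_zero_of_negX k h2 this.1
      have hb := ev_eq_zero_of_negX k h2 (neg_eq_iff_eq_neg.mp this.2)
      refine ⟨theta k m (ev k a, od k b), ?_⟩
      rw [hφθ]
      have ea := eq_sq_ev_add k a
      have eb := eq_sq_ev_add k b
      rw [ha, map_zero, mul_zero, add_zero] at ea
      rw [hb, map_zero, zero_add] at eb
      rw [← ea, ← eb]
    · rintro ⟨w, hw⟩
      obtain ⟨⟨a', b'⟩, rfl⟩ := theta_surj k m w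
      rw [hφθ] at hw
      have := theta_inj k r hw
      rw [Prod.mk.injEq] at this
      rw [← this.1, ← this.2, negX_sq, map_mul, negX_sq, negX_X]
      congr 2
      ring
  have part2 : Function.Injective φ := by
    intro u v h
    obtain ⟨⟨a, b⟩, rfl⟩ := theta_surj k m u
    obtain ⟨⟨a', b'⟩, rfl⟩ := theta_surj k m v
    rw [hφθ, hφθ] at h
    have := theta_inj k r h
    rw [Prod.mk.injEq] at this
    have e1 := sq_injective k this.1
    have e2 := sq_injective k (mul_left_cancel₀ PowerSeries.X_ne_zero this.2)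
    rw [e1, e2]
  have hI : Ideal.span (Set.range fun a : ArSing.ring k r => σ a - a) =
      Ideal.span {ArSing.x k r, ArSing.y k r} := by
    apply le_antisymm
    · rw [Ideal.span_le]
      rintro _ ⟨z, rfl⟩
      obtain ⟨⟨a, b⟩, rfl⟩ := theta_surj k r z
      show σ (theta k r (a, b)) - theta k r (a, b) ∈ _
      have e : σ (theta k r (a, b)) - theta k r (a, b) =
          theta k r (negX k a - a, -negX k b - b) := by
        rw [hσθ]
        simp only [theta_mk, map_sub, map_neg]
        ring
      rw [e, SetLike.mem_coe, theta_mem_span_xy_iff]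
      exact PowerSeries.X_dvd_iff.mp (X_dvd_negX_sub k a)
    · rw [Ideal.span_le]
      intro z hz
      rcases hz with rfl | hz
      · apply mem_of_neg_sub_mem k r _ _ h2
        rw [← hx]
        exact Ideal.subset_span ⟨ArSing.x k r, rfl⟩
      · rw [Set.mem_singleton_iff] at hz
        subst hz
        apply mem_of_neg_sub_mem k r _ _ h2
        rw [← hy]
        exact Ideal.subset_span ⟨ArSing.y k r, rfl⟩
  have part3 : ¬ φ.toRingHom.Flat := by
    intro hflat
    letI : Algebra (ArSing.ring k m) (ArSing.ring k r) := φ.toRingHom.toAlgebra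
    have hsm : ∀ (c : ArSing.ring k m) (z : ArSing.ring k r), c • z = φ c * z :=
      fun c z => rfl
    have hfl : Module.Flat (ArSing.ring k m) (ArSing.ring k r) := hflat
    have htriv : Module.IsTrivialRelation
        (![ArSing.y k m, -ArSing.x k m] : Fin 2 → ArSing.ring k m)
        (![ArSing.x k r, ArSing.y k r] : Fin 2 → ArSing.ring k r) := by
      apply Module.Flat.isTrivialRelation_of_sum_smul_eq_zero
      rw [Fin.sum_univ_two]
      simp only [Matrix.cons_val_zero, Matrix.cons_val_one]
      show φ (ArSing.y k m) * ArSing.x k r + φ (-ArSing.x k m) * ArSing.y k r = 0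
      rw [map_neg, hφx, hφy]
      ring
    obtain ⟨k', a, yy, h1, h2'⟩ := htriv
    have hx1 := h1 0
    simp only [Matrix.cons_val_zero, hsm] at hx1
    have key : ∀ j, ∃ w ∈ Ideal.span {ArSing.x k r, ArSing.y k r},
        φ (a 0 j) * yy j = ArSing.x k r * w := by
      intro j
      have hj := h2' j
      rw [Fin.sum_univ_two] at hj
      simp only [Matrix.cons_val_zero, Matrix.cons_val_one] at hj
      obtain ⟨⟨α, β⟩, hα⟩ := theta_surj k m (a 0 j)
      have hα0 : PowerSeries.constantCoeff α = 0 := by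
        by_contra hne
        have hu : IsUnit (a 0 j) := hα ▸ isUnit_theta k m α β hne
        obtain ⟨u, hu'⟩ := hu
        have hy' : ArSing.y k m = ArSing.x k m * (a 1 j * ↑u⁻¹) := by
          have : ArSing.y k m * a 0 j = ArSing.x k m * a 1 j := by
            linear_combination hj
          calc ArSing.y k m = ArSing.y k m * a 0 j * ↑u⁻¹ := by
                rw [← hu', mul_assoc, Units.mul_inv, mul_one]
            _ = ArSing.x k m * (a 1 j * ↑u⁻¹) := by rw [this, mul_assoc]
        obtain ⟨⟨a', b'⟩, hw⟩ := theta_surj k m (a 1 j * ↑u⁻¹)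
        rw [← hw, x_mul_theta, ← theta_snd_one] at hy'
        have := theta_inj k m hy'
        rw [Prod.mk.injEq] at this
        have h0 := congrArg (PowerSeries.coeff 0) this.2
        simp at h0
      obtain ⟨α', rfl⟩ := PowerSeries.X_dvd_iff.mpr hα0
      refine ⟨theta k r (PowerSeries.X * sq k α', sq k β) * yy j,
        Ideal.mul_mem_right _ _ ((theta_mem_span_xy_iff k r _ _).mpr (by simp)), ?_⟩
      have e1 : φ (a 0 j) = ArSing.x k r * theta k r (PowerSeries.X * sq k α', sq k β) := by
        rw [← hα, hφθ, x_mul_theta, map_mul, sq_X, pow_two, mul_assoc]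
      rw [e1, mul_assoc]
    choose w hw hw' using key
    have hsum : ArSing.x k r * (1 - ∑ j, w j) = 0 := by
      rw [mul_sub, mul_one, Finset.mul_sum]
      nth_rewrite 1 [hx1]
      rw [sub_eq_zero]
      exact Finset.sum_congr rfl (fun j _ => hw' j)
    have h1' : (1 - ∑ j, w j) = 0 := by
      have := (mem_nonZeroDivisors_iff_right.mp (x_mem_nonZeroDivisors k r)) (1 - ∑ j, w j)
      apply this
      rw [mul_comm]
      exact hsum
    apply one_notMem_span_xy k r
    rw [sub_eq_zero.mp h1']
    exact Ideal.sum_mem _ (fun j _ => hw j)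
  refine ⟨part1, part2, part3, ?_, ?_⟩
  · have key : ∀ I : Ideal (ArSing.ring k r), I = Ideal.span {ArSing.x k r, ArSing.y k r} →
        Module.length (ArSing.ring k r) (ArSing.ring k r ⧸ I) = 1 := by
      rintro I rfl
      exact length_quot_xy k r
    exact key _ hI
  · rintro ⟨g, -, hg⟩
    rw [hI] at hg
    have hgm : g ∈ Ideal.span {ArSing.x k r, ArSing.y k r} := by
      rw [hg]
      exact Ideal.subset_span rfl
    have hxm : ArSing.x k r ∈ Ideal.span {g} := by
      rw [← hg]
      exact Ideal.subset_span (by simp)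
    have hym : ArSing.y k r ∈ Ideal.span {g} := by
      rw [← hg]
      exact Ideal.subset_span (by simp)
    obtain ⟨⟨gc, d⟩, rfl⟩ := theta_surj k r g
    rw [theta_mem_span_xy_iff] at hgm
    obtain ⟨c, rfl⟩ := PowerSeries.X_dvd_iff.mpr hgm
    rw [Ideal.mem_span_singleton] at hxm hym
    obtain ⟨u, hu⟩ := hxm
    obtain ⟨v, hv⟩ := hym
    obtain ⟨⟨au, bu⟩, rfl⟩ := theta_surj k r u
    obtain ⟨⟨av, bv⟩, rfl⟩ := theta_surj k r v
    rw [theta_mul] at hu hv
    have ex : ArSing.x k r = theta k r (PowerSeries.X, 0) := by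
      rw [theta_fst, xMap_X]
    rw [ex] at hu
    rw [← theta_snd_one] at hv
    have hu' := theta_inj k r hu
    have hv' := theta_inj k r hv
    rw [Prod.mk.injEq] at hu' hv'
    obtain ⟨r', rfl⟩ : ∃ r', r = r' + 1 := ⟨r - 1, by omega⟩
    have hu1 := congrArg (PowerSeries.coeff 1) hu'.1
    have hu2 := congrArg (PowerSeries.coeff 0) hu'.2
    have hv2 := congrArg (PowerSeries.coeff 0) hv'.2
    rw [show (r' + 1 + 1) = r' + 2 by ring, pow_add, pow_two] at hu1
    simp only [mul_assoc, map_add, PowerSeries.coeff_succ_X_mul, PowerSeries.coeff_zero_X_mul,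
      PowerSeries.coeff_one_X] at hu1 hu2 hv2
    have e3 : PowerSeries.X ^ r' * (PowerSeries.X * (PowerSeries.X * (d * bu))) =
        PowerSeries.X * (PowerSeries.X * (PowerSeries.X ^ r' * (d * bu))) := by ring
    rw [e3, show (1 : ℕ) = 0 + 1 from rfl, PowerSeries.coeff_succ_X_mul,
      PowerSeries.coeff_zero_X_mul, add_zero] at hu1
    simp only [PowerSeries.coeff_zero_eq_constantCoeff_apply, map_mul, map_zero, map_one,
      zero_add] at hu1 hu2 hv2
    have hau : PowerSeries.constantCoeff au ≠ 0 := by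
      intro h
      rw [h, mul_zero] at hu1
      exact one_ne_zero hu1
    have hd : PowerSeries.constantCoeff d = 0 := (mul_eq_zero.mp hu2.symm).resolve_left hau
    rw [hd, mul_zero] at hv2
    exact one_ne_zero hv2

end

end Groth.Agent.Lib.Helper4.ArS
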