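import Mathlib
import Groth.Agent.Lib.Helper4.ArSingE

/-!
# The node `A_1`: branches and the swap involution
-/

set_option autoImplicit false
set_option linter.style.haveILetI false
set_option linter.unusedSectionVars false
set_option linter.unusedVariables false
set_option maxHeartbeats 1600000

universe u

namespace Groth.Agent.Lib.Helper4.ArS

open MvPowerSeries

noncomputable section

variable (k : Type u) [Field k] (r : ℕ)

/-- `a(X) ↦ a(cX)` -/
def resc (c : k) : PowerSeries k →ₐ[k] PowerSeries k :=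
  { PowerSeries.rescale c with
    commutes' := fun d => by
      show PowerSeries.rescale c (algebraMap k (PowerSeries k) d) =
        algebraMap k (PowerSeries k) d
      ext n
      rw [PowerSeries.coeff_rescale, PowerSeries.algebraMap_apply, PowerSeries.coeff_C]
      split_ifs with h
      · subst h; simp
      · simp }

lemma coeff_resc (c : k) (a : PowerSeries k) (n : ℕ) :
    PowerSeries.coeff n (resc k c a) = c ^ n * PowerSeries.coeff n a :=
  PowerSeries.coeff_rescale a c n

lemma resc_X (c : k) : resc k c PowerSeries.X = PowerSeries.C c * PowerSeries.X :=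
  PowerSeries.rescale_X c

lemma resc_resc_inv (c : k) (hc : c ≠ 0) (a : PowerSeries k) :
    resc k c (resc k c⁻¹ a) = a := by
  ext n
  rw [coeff_resc, coeff_resc, ← mul_assoc, ← mul_pow, mul_inv_cancel₀ hc, one_pow, one_mul]

lemma resc_injective (c : k) (hc : c ≠ 0) : Function.Injective (resc k c) := by
  intro a b h
  ext n
  have := congrArg (PowerSeries.coeff n) h
  rw [coeff_resc, coeff_resc] at this
  exact mul_left_cancel₀ (pow_ne_zero n hc) this

lemma algHom_eq_of_sep {T : Type*} [CommRing T] [Algebra k T] (t : T)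
    (hsep : ∀ z : T, (∀ n, t ^ n ∣ z) → z = 0) (ψ₁ ψ₂ : PowerSeries k →ₐ[k] T)
    (h : ψ₁ PowerSeries.X = ψ₂ PowerSeries.X) (hx : t ∣ ψ₁ PowerSeries.X) : ψ₁ = ψ₂ := by
  have hpoly : ∀ p : Polynomial k, ψ₁ (p : PowerSeries k) = ψ₂ (p : PowerSeries k) := by
    intro p
    have : (ψ₁ : PowerSeries k →+* T).comp Polynomial.coeToPowerSeries.ringHom =
        (ψ₂ : PowerSeries k →+* T).comp Polynomial.coeToPowerSeries.ringHom := by
      apply Polynomial.ringHom_ext
      · intro c
        simp only [RingHom.comp_apply, Polynomial.coeToPowerSeries.ringHom_apply,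
          Polynomial.coe_C, C_eq_algebraMap, RingHom.coe_coe, AlgHom.commutes]
      · simp only [RingHom.comp_apply, Polynomial.coeToPowerSeries.ringHom_apply,
          Polynomial.coe_X, RingHom.coe_coe, h]
    exact DFunLike.congr_fun this p
  apply AlgHom.ext
  intro a
  apply sub_eq_zero.mp
  apply hsep
  intro n
  have ha := PowerSeries.eq_X_pow_mul_shift_add_trunc n a
  have e1 : ψ₁ a - ψ₂ a = ψ₁ PowerSeries.X ^ n *
      (ψ₁ (PowerSeries.mk fun i => PowerSeries.coeff (i + n) a) -
        ψ₂ (PowerSeries.mk fun i => PowerSeries.coeff (i + n) a)) := by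
    conv_lhs => rw [ha]
    simp only [map_add, map_mul, map_pow, hpoly, ← h]
    ring
  rw [e1]
  exact Dvd.dvd.mul_right (pow_dvd_pow_of_dvd hx n) _

lemma algHom_to_B_ext (ψ₁ ψ₂ : ArSing.ring k r →ₐ[k] PowerSeries k)
    (hx : ψ₁ (ArSing.x k r) = ψ₂ (ArSing.x k r)) (hy : ψ₁ (ArSing.y k r) = ψ₂ (ArSing.y k r))
    (hd : PowerSeries.X ∣ ψ₁ (ArSing.x k r)) : ψ₁ = ψ₂ := by
  have h := algHom_eq_of_sep k PowerSeries.X (eq_zero_of_forall_X_pow_dvd k)
    (ψ₁.comp (ArSing.xMap k r)) (ψ₂.comp (ArSing.xMap k r))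
    (by simp only [AlgHom.comp_apply]; rw [xMap_X, hx])
    (by simp only [AlgHom.comp_apply]; rw [xMap_X]; exact hd)
  apply AlgHom.ext
  intro z
  obtain ⟨⟨a, b⟩, rfl⟩ := theta_surj k r z
  have ha := DFunLike.congr_fun h a
  have hb := DFunLike.congr_fun h b
  simp only [AlgHom.comp_apply] at ha hb
  rw [theta_mk, map_add, map_mul, map_add, map_mul, ha, hb, hy]

/-- coordinates -/
def thetaEquiv : (PowerSeries k × PowerSeries k) ≃ ArSing.ring k r :=
  Equiv.ofBijective (theta k r) ⟨theta_inj k r, theta_surj k r⟩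

lemma thetaEquiv_symm_theta (p : PowerSeries k × PowerSeries k) :
    (thetaEquiv k r).symm (theta k r p) = p :=
  (thetaEquiv k r).symm_apply_apply p

/-- the branch `y = e x` of the node (`e * e = 1`) -/
def br (e : PowerSeries k) (he : e * e = 1) : ArSing.ring k 1 →ₐ[k] PowerSeries k :=
  { toFun := fun z => ((thetaEquiv k 1).symm z).1 + e * PowerSeries.X * ((thetaEquiv k 1).symm z).2
    map_one' := by
      rw [← theta_one, thetaEquiv_symm_theta]
      simp
    map_mul' := by
      intro z w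
      obtain ⟨⟨a, b⟩, rfl⟩ := theta_surj k 1 z
      obtain ⟨⟨a', b'⟩, rfl⟩ := theta_surj k 1 w
      rw [theta_mul, thetaEquiv_symm_theta, thetaEquiv_symm_theta, thetaEquiv_symm_theta]
      simp only
      linear_combination (-(PowerSeries.X ^ 2 * b * b')) * he
    map_zero' := by
      rw [← theta_zero, thetaEquiv_symm_theta]
      simp
    map_add' := by
      intro z w
      obtain ⟨⟨a, b⟩, rfl⟩ := theta_surj k 1 z
      obtain ⟨⟨a', b'⟩, rfl⟩ := theta_surj k 1 w
      rw [← theta_add, thetaEquiv_symm_theta, thetaEquiv_symm_theta, thetaEquiv_symm_theta]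
      simp only [Prod.mk_add_mk]
      ring
    commutes' := by
      intro c
      rw [← xMap_C, ← theta_fst, thetaEquiv_symm_theta]
      simp [C_eq_algebraMap] }

lemma br_theta (e : PowerSeries k) (he : e * e = 1) (a b : PowerSeries k) :
    br k e he (theta k 1 (a, b)) = a + e * PowerSeries.X * b := by
  show ((thetaEquiv k 1).symm (theta k 1 (a, b))).1 +
    e * PowerSeries.X * ((thetaEquiv k 1).symm (theta k 1 (a, b))).2 = _
  rw [thetaEquiv_symm_theta]

/-- branch `y = x` -/
def b1 : ArSing.ring k 1 →ₐ[k] PowerSeries k := br k 1 (one_mul 1)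

/-- branch `y = -x` -/
def b2 : ArSing.ring k 1 →ₐ[k] PowerSeries k := br k (-1) (by ring)

lemma b1_theta (a b : PowerSeries k) : b1 k (theta k 1 (a, b)) = a + PowerSeries.X * b := by
  rw [b1, br_theta, one_mul]

lemma b2_theta (a b : PowerSeries k) : b2 k (theta k 1 (a, b)) = a - PowerSeries.X * b := by
  rw [b2, br_theta]
  ring

lemma x_eq_theta : ArSing.x k r = theta k r (PowerSeries.X, 0) := by
  rw [theta_fst, xMap_X]

lemma b1_x : b1 k (ArSing.x k 1) = PowerSeries.X := by
  rw [x_eq_theta, b1_theta, mul_zero, add_zero]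

lemma b1_y : b1 k (ArSing.y k 1) = PowerSeries.X := by
  rw [← theta_snd_one, b1_theta, mul_one, zero_add]

lemma b2_x : b2 k (ArSing.x k 1) = PowerSeries.X := by
  rw [x_eq_theta, b2_theta, mul_zero, sub_zero]

lemma b2_y : b2 k (ArSing.y k 1) = -PowerSeries.X := by
  rw [← theta_snd_one, b2_theta, mul_one, zero_sub]

lemma b2_xMap (e : PowerSeries k) : b2 k (ArSing.xMap k 1 e) = e := by
  rw [← theta_fst, b2_theta, mul_zero, sub_zero]

lemma two_ne_zero_B (h2 : (2 : k) ≠ 0) : (2 : PowerSeries k) ≠ 0 := by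
  rw [← map_ofNat (algebraMap k (PowerSeries k)) 2]
  exact (map_ne_zero_iff _ (algebraMap k (PowerSeries k)).injective).mpr h2

lemma br_inj (h2 : (2 : k) ≠ 0) {z w : ArSing.ring k 1} (h1 : b1 k z = b1 k w)
    (h2' : b2 k z = b2 k w) : z = w := by
  obtain ⟨⟨a, b⟩, rfl⟩ := theta_surj k 1 z
  obtain ⟨⟨a', b'⟩, rfl⟩ := theta_surj k 1 w
  rw [b1_theta, b1_theta] at h1
  rw [b2_theta, b2_theta] at h2'
  have ha : a = a' := by
    apply mul_left_cancel₀ (two_ne_zero_B k h2)
    linear_combination h1 + h2'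
  have hb : b = b' := by
    apply mul_left_cancel₀ PowerSeries.X_ne_zero
    apply mul_left_cancel₀ (two_ne_zero_B k h2)
    linear_combination h1 - h2'
  rw [ha, hb]

lemma br_const (z : ArSing.ring k 1) :
    PowerSeries.constantCoeff (b1 k z) = PowerSeries.constantCoeff (b2 k z) := by
  obtain ⟨⟨a, b⟩, rfl⟩ := theta_surj k 1 z
  rw [b1_theta, b2_theta]
  simp

lemma half_mul_two (h2 : (2 : k) ≠ 0) : PowerSeries.C (2⁻¹ : k) * (2 : PowerSeries k) = 1 := by
  rw [← map_ofNat (PowerSeries.C (R := k)) 2, ← map_mul, inv_mul_cancel₀ h2, map_one]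

lemma br_exists (h2 : (2 : k) ≠ 0) (f g : PowerSeries k)
    (h0 : PowerSeries.constantCoeff f = PowerSeries.constantCoeff g) :
    ∃ w : ArSing.ring k 1, b1 k w = f ∧ b2 k w = g := by
  have hdvd : PowerSeries.X ∣ f - g := by
    rw [PowerSeries.X_dvd_iff, map_sub, h0, sub_self]
  obtain ⟨d, hd⟩ := hdvd
  have hh := half_mul_two k h2
  refine ⟨theta k 1 (PowerSeries.C (2⁻¹ : k) * (f + g), PowerSeries.C (2⁻¹ : k) * d), ?_, ?_⟩
  · rw [b1_theta]
    linear_combination (-(PowerSeries.C (2⁻¹ : k))) * hd + f * hh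
  · rw [b2_theta]
    linear_combination (PowerSeries.C (2⁻¹ : k)) * hd + g * hh

end

end Groth.Agent.Lib.Helper4.ArS
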