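import Mathlib
import Groth.Agent.Lib.Helper4.ArSingF

/-!
# The swap involution of the node `A_1`
-/

set_option autoImplicit false
set_option linter.style.haveILetI false
set_option linter.unusedSectionVars false
set_option linter.unusedVariables false
set_option maxHeartbeats 1600000

universe u

namespace Groth.Agent.Lib.Helper4.ArS

open MvPowerSeries

noncomputable section

lemma not_flat_of_relation {R S : Type*} [CommRing R] [CommRing S] (φ : R →+* S) (u : R) (v : S)
    (hrel : φ u * v = 0)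
    (hno : ¬ ∃ (n : ℕ) (a : Fin n → R) (y : Fin n → S),
      v = ∑ j, φ (a j) * y j ∧ ∀ j, u * a j = 0) : ¬ φ.Flat := by
  intro hflat
  letI : Algebra R S := φ.toAlgebra
  have hfl : Module.Flat R S := hflat
  have htriv : Module.IsTrivialRelation (fun _ : Fin 1 => u) (fun _ : Fin 1 => v) := by
    apply Module.Flat.isTrivialRelation_of_sum_smul_eq_zero
    rw [Fin.sum_univ_one]
    exact hrel
  obtain ⟨n, a, y, h1, h2⟩ := htriv
  apply hno
  refine ⟨n, a 0, y, h1 0, fun j => ?_⟩
  have := h2 j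
  rw [Fin.sum_univ_one] at this
  exact this

variable (k : Type u) [Field k]

theorem swap_main (h2 : (2 : k) ≠ 0)
    (σ : ArSing.ring k 1 ≃ₐ[k] ArSing.ring k 1) (hx : σ (ArSing.x k 1) = ArSing.y k 1)
    (hy : σ (ArSing.y k 1) = ArSing.x k 1)
    (φ : ArSing.ring k 1 →ₐ[k] ArSing.ring k 1)
    (hφu : φ (ArSing.x k 1 + ArSing.y k 1) = ArSing.x k 1 + ArSing.y k 1)
    (hφv : φ (ArSing.y k 1 - ArSing.x k 1) = (ArSing.y k 1 - ArSing.x k 1) ^ 2) :
    (∀ a : ArSing.ring k 1, σ a = a ↔ a ∈ φ.range) ∧ Function.Injective φ ∧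
    Ideal.span (Set.range fun a : ArSing.ring k 1 => σ a - a) =
      Ideal.span {ArSing.y k 1 - ArSing.x k 1} ∧
    (ArSing.y k 1 - ArSing.x k 1) ∉ nonZeroDivisors (ArSing.ring k 1) ∧
    Ideal.span {ArSing.y k 1 - ArSing.x k 1} ∈ minimalPrimes (ArSing.ring k 1) ∧
    ¬ φ.toRingHom.Flat := by
  have h2B := two_ne_zero_B k h2
  have hh := half_mul_two k h2
  have F1 : ∀ z, b1 k (σ z) = b1 k z := by
    have := algHom_to_B_ext k 1
      ((b1 k).comp (σ : ArSing.ring k 1 →ₐ[k] ArSing.ring k 1)) (b1 k)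
      (show b1 k (σ (ArSing.x k 1)) = b1 k (ArSing.x k 1) by rw [hx, b1_y, b1_x])
      (show b1 k (σ (ArSing.y k 1)) = b1 k (ArSing.y k 1) by rw [hy, b1_x, b1_y])
      (show PowerSeries.X ∣ b1 k (σ (ArSing.x k 1)) by rw [hx, b1_y])
    intro z
    exact DFunLike.congr_fun this z
  have F2 : ∀ z, b2 k (σ z) = negX k (b2 k z) := by
    have := algHom_to_B_ext k 1
      ((b2 k).comp (σ : ArSing.ring k 1 →ₐ[k] ArSing.ring k 1)) ((negX k).comp (b2 k))
      (show b2 k (σ (ArSing.x k 1)) = negX k (b2 k (ArSing.x k 1)) by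
        rw [hx, b2_y, b2_x, negX_X])
      (show b2 k (σ (ArSing.y k 1)) = negX k (b2 k (ArSing.y k 1)) by
        rw [hy, b2_x, b2_y, map_neg, negX_X, neg_neg])
      (show PowerSeries.X ∣ b2 k (σ (ArSing.x k 1)) by
        rw [hx, b2_y]; exact ⟨-1, by ring⟩)
    intro z
    exact DFunLike.congr_fun this z
  have hφsum : φ (ArSing.x k 1) + φ (ArSing.y k 1) = ArSing.x k 1 + ArSing.y k 1 := by
    rw [← map_add]; exact hφu
  have hφdiff : φ (ArSing.y k 1) - φ (ArSing.x k 1) = (ArSing.y k 1 - ArSing.x k 1) ^ 2 := by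
    rw [← map_sub]; exact hφv
  have s1 : b1 k (φ (ArSing.x k 1)) + b1 k (φ (ArSing.y k 1)) =
      PowerSeries.X + PowerSeries.X := by
    rw [← map_add, hφsum, map_add, b1_x, b1_y]
  have d1 : b1 k (φ (ArSing.y k 1)) - b1 k (φ (ArSing.x k 1)) = 0 := by
    rw [← map_sub, hφdiff, map_pow, map_sub, b1_x, b1_y, sub_self]
    simp
  have e1x : b1 k (φ (ArSing.x k 1)) = PowerSeries.X := by
    apply mul_left_cancel₀ h2B
    linear_combination s1 - d1
  have e1y : b1 k (φ (ArSing.y k 1)) = PowerSeries.X := by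
    apply mul_left_cancel₀ h2B
    linear_combination s1 + d1
  have s2 : b2 k (φ (ArSing.x k 1)) + b2 k (φ (ArSing.y k 1)) =
      PowerSeries.X + -PowerSeries.X := by
    rw [← map_add, hφsum, map_add, b2_x, b2_y]
  have d2 : b2 k (φ (ArSing.y k 1)) - b2 k (φ (ArSing.x k 1)) =
      (-PowerSeries.X - PowerSeries.X) ^ 2 := by
    rw [← map_sub, hφdiff, map_pow, map_sub, b2_x, b2_y]
  have e2x : b2 k (φ (ArSing.x k 1)) = -(2 * PowerSeries.X ^ 2) := by
    apply mul_left_cancel₀ h2B
    linear_combination s2 - d2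
  have e2y : b2 k (φ (ArSing.y k 1)) = 2 * PowerSeries.X ^ 2 := by
    apply mul_left_cancel₀ h2B
    linear_combination s2 + d2
  have hτX : sq k (resc k (-2) PowerSeries.X) = -(2 * PowerSeries.X ^ 2) := by
    rw [resc_X, map_mul, sq_X, C_eq_algebraMap, AlgHom.commutes, ← C_eq_algebraMap, map_neg,
      map_ofNat]
    ring
  have F3 : ∀ z, b1 k (φ z) = b1 k z := by
    have := algHom_to_B_ext k 1 ((b1 k).comp φ) (b1 k)
      (show b1 k (φ (ArSing.x k 1)) = b1 k (ArSing.x k 1) by rw [e1x, b1_x])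
      (show b1 k (φ (ArSing.y k 1)) = b1 k (ArSing.y k 1) by rw [e1y, b1_y])
      (show PowerSeries.X ∣ b1 k (φ (ArSing.x k 1)) by rw [e1x])
    intro z
    exact DFunLike.congr_fun this z
  have F4 : ∀ z, b2 k (φ z) = sq k (resc k (-2) (b2 k z)) := by
    have := algHom_to_B_ext k 1 ((b2 k).comp φ) (((sq k).comp (resc k (-2))).comp (b2 k))
      (show b2 k (φ (ArSing.x k 1)) = sq k (resc k (-2) (b2 k (ArSing.x k 1))) by
        rw [e2x, b2_x, hτX])
      (show b2 k (φ (ArSing.y k 1)) = sq k (resc k (-2) (b2 k (ArSing.y k 1))) by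
        rw [e2y, b2_y, map_neg, map_neg, hτX, neg_neg])
      (show PowerSeries.X ∣ b2 k (φ (ArSing.x k 1)) by
        rw [e2x]; exact ⟨-(2 * PowerSeries.X), by ring⟩)
    intro z
    exact DFunLike.congr_fun this z
  have hm2 : (-2 : k) ≠ 0 := neg_ne_zero.mpr h2
  have hτinj : ∀ a b : PowerSeries k,
      sq k (resc k (-2) a) = sq k (resc k (-2) b) → a = b :=
    fun a b h => resc_injective k (-2) hm2 (sq_injective k h)
  have hb1v : b1 k (ArSing.y k 1 - ArSing.x k 1) = 0 := by
    rw [map_sub, b1_y, b1_x, sub_self]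
  have hb2v : b2 k (ArSing.y k 1 - ArSing.x k 1) = -(2 * PowerSeries.X) := by
    rw [map_sub, b2_y, b2_x]; ring
  have huv : (ArSing.x k 1 + ArSing.y k 1) * (ArSing.y k 1 - ArSing.x k 1) = 0 := by
    have := y_sq k 1
    rw [map_pow, xMap_X] at this
    linear_combination this
  have hu_ne : b1 k (ArSing.x k 1 + ArSing.y k 1) ≠ 0 := by
    rw [map_add, b1_x, b1_y]
    intro h
    have h' : (2 : PowerSeries k) * PowerSeries.X = 0 := by linear_combination h
    rcases mul_eq_zero.mp h' with h'' | h''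
    · exact h2B h''
    · exact PowerSeries.X_ne_zero h''
  have hker : Ideal.span {ArSing.y k 1 - ArSing.x k 1} =
      RingHom.ker (b1 k : ArSing.ring k 1 →+* PowerSeries k) := by
    ext z
    rw [Ideal.mem_span_singleton, RingHom.mem_ker]
    constructor
    · rintro ⟨w, rfl⟩
      show b1 k ((ArSing.y k 1 - ArSing.x k 1) * w) = 0
      rw [map_mul, hb1v, zero_mul]
    · intro hz
      obtain ⟨⟨a, b⟩, rfl⟩ := theta_surj k 1 z
      have hz' : b1 k (theta k 1 (a, b)) = 0 := hz
      rw [b1_theta] at hz'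
      have ha : a = -(PowerSeries.X * b) := eq_neg_of_add_eq_zero_left hz'
      refine ⟨ArSing.xMap k 1 b, ?_⟩
      rw [theta_mk, ha, map_neg, map_mul, xMap_X]
      ring
  refine ⟨?_, ?_, ?_, ?_, ?_, ?_⟩
  · intro z
    rw [AlgHom.mem_range]
    constructor
    · intro h
      have hn : negX k (b2 k z) = b2 k z := by rw [← F2, h]
      have hod := od_eq_zero_of_negX k h2 hn
      have eg := eq_sq_ev_add k (b2 k z)
      rw [hod, map_zero, mul_zero, add_zero] at eg
      obtain ⟨w, hw1, hw2⟩ := br_exists k h2 (b1 k z) (resc k (-2)⁻¹ (ev k (b2 k z))) (by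
        rw [br_const k z, ← PowerSeries.coeff_zero_eq_constantCoeff_apply,
          ← PowerSeries.coeff_zero_eq_constantCoeff_apply, coeff_resc, pow_zero, one_mul, ev,
          PowerSeries.coeff_mk, mul_zero])
      refine ⟨w, br_inj k h2 ?_ ?_⟩
      · rw [F3, hw1]
      · rw [F4, hw2, resc_resc_inv k (-2) hm2]
        exact eg.symm
    · rintro ⟨w, rfl⟩
      apply br_inj k h2
      · rw [F1]
      · rw [F2, F4, negX_sq]
  · intro z w h
    apply br_inj k h2
    · rw [← F3 z, h, F3]
    · apply hτinj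
      rw [← F4, ← F4, h]
  · apply le_antisymm
    · rw [Ideal.span_le]
      rintro _ ⟨z, rfl⟩
      show σ z - z ∈ _
      rw [SetLike.mem_coe, Ideal.mem_span_singleton]
      obtain ⟨c, hc⟩ := X_dvd_negX_sub k (b2 k z)
      refine ⟨ArSing.xMap k 1 (-(PowerSeries.C (2⁻¹ : k) * c)), ?_⟩
      apply br_inj k h2
      · rw [map_sub, F1, sub_self, map_mul, hb1v, zero_mul]
      · rw [map_sub, F2, hc, map_mul, hb2v, b2_xMap]
        linear_combination (-(PowerSeries.X * c)) * hh
    · rw [Ideal.span_le, Set.singleton_subset_iff, SetLike.mem_coe]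
      have hmem : σ (ArSing.y k 1) - ArSing.y k 1 ∈
          Ideal.span (Set.range fun a : ArSing.ring k 1 => σ a - a) :=
        Ideal.subset_span ⟨ArSing.y k 1, rfl⟩
      rw [hy] at hmem
      have := neg_mem hmem
      rwa [neg_sub] at this
  · intro h
    have h0 := (mem_nonZeroDivisors_iff_right.mp h) _ huv
    apply hu_ne
    rw [h0, map_zero]
  · have hprime : (Ideal.span {ArSing.y k 1 - ArSing.x k 1}).IsPrime := by
      rw [hker]
      exact RingHom.ker_isPrime _
    refine ⟨⟨hprime, bot_le⟩, ?_⟩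
    rintro q ⟨hq, -⟩ hle
    rw [Ideal.span_le, Set.singleton_subset_iff, SetLike.mem_coe]
    have hmem : (ArSing.x k 1 + ArSing.y k 1) * (ArSing.y k 1 - ArSing.x k 1) ∈ q := by
      rw [huv]
      exact q.zero_mem
    rcases hq.mem_or_mem hmem with hu | hv
    · exfalso
      have := hle hu
      rw [hker, RingHom.mem_ker] at this
      exact hu_ne this
    · exact hv
  · apply not_flat_of_relation φ.toRingHom (ArSing.x k 1 + ArSing.y k 1)
      (ArSing.y k 1 - ArSing.x k 1)
    · show φ (ArSing.x k 1 + ArSing.y k 1) * (ArSing.y k 1 - ArSing.x k 1) = 0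
      rw [hφu]
      exact huv
    · rintro ⟨n, a, yy, hv, hua⟩
      have hav : ∀ j, ∃ c, a j = (ArSing.y k 1 - ArSing.x k 1) * c := by
        intro j
        have h1 := congrArg (b1 k) (hua j)
        rw [map_mul, map_zero] at h1
        have h2' := (mul_eq_zero.mp h1).resolve_left hu_ne
        have : a j ∈ Ideal.span {ArSing.y k 1 - ArSing.x k 1} := by
          rw [hker, RingHom.mem_ker]
          exact h2'
        exact Ideal.mem_span_singleton.mp this
      choose c hc using hav
      have e : ArSing.y k 1 - ArSing.x k 1 =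
          (ArSing.y k 1 - ArSing.x k 1) ^ 2 * ∑ j, φ (c j) * yy j := by
        conv_lhs => rw [hv]
        rw [Finset.mul_sum]
        apply Finset.sum_congr rfl
        intro j _
        show φ (a j) * yy j = _
        rw [hc j, map_mul, hφv]
        ring
      have e2 := congrArg (b2 k) e
      rw [map_mul, map_pow, hb2v] at e2
      have e3 : PowerSeries.X * (-(2 : PowerSeries k) -
          4 * PowerSeries.X * b2 k (∑ j, φ (c j) * yy j)) = 0 := by
        linear_combination e2
      have e4 := (mul_eq_zero.mp e3).resolve_left PowerSeries.X_ne_zero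
      have e5 := congrArg PowerSeries.constantCoeff e4
      rw [map_sub, map_neg, map_mul, map_mul, PowerSeries.constantCoeff_X, mul_zero, zero_mul,
        sub_zero, map_ofNat, map_zero, neg_eq_zero] at e5
      exact h2 e5

end

end Groth.Agent.Lib.Helper4.ArS
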