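import Mathlib
import Groth.Agent.Lib.Helper4.ArSingG

/-!
# Automorphisms of `k[[t]]` and of the node `A_1` via its two branches
-/

set_option autoImplicit false
set_option linter.style.haveILetI false
set_option linter.unusedSectionVars false
set_option linter.unusedVariables false
set_option maxHeartbeats 1600000

universe u

namespace Groth.Agent.Lib.Helper4.ArS

open MvPowerSeries

noncomputable section

variable (k : Type u) [Field k]

lemma b1_xMap (f : PowerSeries k) : b1 k (ArSing.xMap k 1 f) = f := by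
  rw [← theta_fst, b1_theta, mul_zero, add_zero]

lemma b1_u : b1 k (ArSing.x k 1 + ArSing.y k 1) = 2 * PowerSeries.X := by
  rw [map_add, b1_x, b1_y]; ring

lemma b2_u : b2 k (ArSing.x k 1 + ArSing.y k 1) = 0 := by
  rw [map_add, b2_x, b2_y]; ring

lemma b1_v : b1 k (ArSing.y k 1 - ArSing.x k 1) = 0 := by
  rw [map_sub, b1_x, b1_y]; ring

lemma b2_v : b2 k (ArSing.y k 1 - ArSing.x k 1) = -(2 * PowerSeries.X) := by
  rw [map_sub, b2_x, b2_y]; ring

lemma ker_b1 (z : ArSing.ring k 1) (h : b1 k z = 0) :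
    ∃ w, z = (ArSing.y k 1 - ArSing.x k 1) * w := by
  obtain ⟨⟨a, b⟩, rfl⟩ := theta_surj k 1 z
  rw [b1_theta] at h
  have ha : a = -(PowerSeries.X * b) := eq_neg_of_add_eq_zero_left h
  refine ⟨ArSing.xMap k 1 b, ?_⟩
  rw [theta_mk, ha, map_neg, map_mul, xMap_X]
  ring

lemma ker_b2 (z : ArSing.ring k 1) (h : b2 k z = 0) :
    ∃ w, z = (ArSing.x k 1 + ArSing.y k 1) * w := by
  obtain ⟨⟨a, b⟩, rfl⟩ := theta_surj k 1 z
  rw [b2_theta] at h
  have ha : a = PowerSeries.X * b := sub_eq_zero.mp h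
  refine ⟨ArSing.xMap k 1 b, ?_⟩
  rw [theta_mk, ha, map_mul, xMap_X]
  ring

lemma algHom_C (α : PowerSeries k →ₐ[k] PowerSeries k) (c : k) :
    α (PowerSeries.C c) = PowerSeries.C c := by
  rw [C_eq_algebraMap, AlgHom.commutes]

lemma constantCoeff_algHom_X (α : PowerSeries k →ₐ[k] PowerSeries k) :
    PowerSeries.constantCoeff (α PowerSeries.X) = 0 := by
  by_contra hc
  have hu : IsUnit (PowerSeries.X - PowerSeries.C (PowerSeries.constantCoeff (α PowerSeries.X)) :
      PowerSeries k) := by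
    rw [PowerSeries.isUnit_iff_constantCoeff, map_sub, PowerSeries.constantCoeff_X,
      PowerSeries.constantCoeff_C, zero_sub, IsUnit.neg_iff, isUnit_iff_ne_zero]
    exact hc
  have hu' := hu.map α
  rw [map_sub, algHom_C, PowerSeries.isUnit_iff_constantCoeff, map_sub,
    PowerSeries.constantCoeff_C, sub_self] at hu'
  exact not_isUnit_zero hu'

lemma constantCoeff_algHom (α : PowerSeries k →ₐ[k] PowerSeries k) (f : PowerSeries k) :
    PowerSeries.constantCoeff (α f) = PowerSeries.constantCoeff f := by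
  have hd : PowerSeries.X ∣ f - PowerSeries.C (PowerSeries.constantCoeff f) := by
    rw [PowerSeries.X_dvd_iff, map_sub, PowerSeries.constantCoeff_C, sub_self]
  obtain ⟨g, hg⟩ := hd
  have hf : f = PowerSeries.C (PowerSeries.constantCoeff f) + PowerSeries.X * g := by
    rw [← hg]; ring
  conv_lhs => rw [hf]
  rw [map_add, map_mul, algHom_C, map_add, map_mul, constantCoeff_algHom_X, zero_mul, add_zero,
    PowerSeries.constantCoeff_C]

lemma algHom_B_ext (α β : PowerSeries k →ₐ[k] PowerSeries k)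
    (h : α PowerSeries.X = β PowerSeries.X) : α = β :=
  algHom_eq_of_sep k PowerSeries.X (eq_zero_of_forall_X_pow_dvd k) α β h
    (PowerSeries.X_dvd_iff.mpr (constantCoeff_algHom_X k α))

/-- substitution `X ↦ T` as an automorphism of `k[[X]]` -/
def substEquiv (T : PowerSeries k) (h0 : PowerSeries.constantCoeff T = 0)
    (h1 : PowerSeries.coeff 1 T ≠ 0) : PowerSeries k ≃ₐ[k] PowerSeries k :=
  letI : Invertible (PowerSeries.coeff 1 T) := invertibleOfNonzero h1
  AlgEquiv.ofAlgHom (PowerSeries.substAlgHom (PowerSeries.HasSubst.of_constantCoeff_zero' h0))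
    (PowerSeries.substAlgHom (PowerSeries.HasSubst.substInv T))
    (by
      apply algHom_B_ext
      rw [AlgHom.comp_apply, PowerSeries.substAlgHom_X, PowerSeries.coe_substAlgHom,
        AlgHom.id_apply]
      exact PowerSeries.subst_substInv_left T h0)
    (by
      apply algHom_B_ext
      rw [AlgHom.comp_apply, PowerSeries.substAlgHom_X, PowerSeries.coe_substAlgHom,
        AlgHom.id_apply]
      exact PowerSeries.subst_substInv_right T h0)

lemma substEquiv_X (T : PowerSeries k) (h0 : PowerSeries.constantCoeff T = 0)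
    (h1 : PowerSeries.coeff 1 T ≠ 0) : substEquiv k T h0 h1 PowerSeries.X = T := by
  show PowerSeries.substAlgHom (PowerSeries.HasSubst.of_constantCoeff_zero' h0) PowerSeries.X = T
  rw [PowerSeries.substAlgHom_X]

lemma invol_B (h2 : (2 : k) ≠ 0) (α : PowerSeries k →ₐ[k] PowerSeries k)
    (hα : ∀ f, α (α f) = f) :
    α = AlgHom.id k (PowerSeries k) ∨
      ∃ ε : PowerSeries k ≃ₐ[k] PowerSeries k, ∀ f, α (ε f) = ε (negX k f) := by
  have hh := half_mul_two k h2
  obtain ⟨Tm, hTm⟩ : ∃ Tm : PowerSeries k,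
    Tm = PowerSeries.C (2⁻¹ : k) * (PowerSeries.X - α PowerSeries.X) := ⟨_, rfl⟩
  obtain ⟨Tp, hTp⟩ : ∃ Tp : PowerSeries k,
    Tp = PowerSeries.C (2⁻¹ : k) * (PowerSeries.X + α PowerSeries.X) := ⟨_, rfl⟩
  have hTm_α : α Tm = -Tm := by
    rw [hTm, map_mul, algHom_C, map_sub, hα]; ring
  have hTp_α : α Tp = Tp := by
    rw [hTp, map_mul, algHom_C, map_add, hα]; ring
  have h0m : PowerSeries.constantCoeff Tm = 0 := by
    rw [hTm, map_mul, map_sub, constantCoeff_algHom_X, PowerSeries.constantCoeff_X, sub_zero,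
      mul_zero]
  have h0p : PowerSeries.constantCoeff Tp = 0 := by
    rw [hTp, map_mul, map_add, constantCoeff_algHom_X, PowerSeries.constantCoeff_X, add_zero,
      mul_zero]
  by_cases h1 : PowerSeries.coeff 1 Tm = 0
  · left
    have h1p : PowerSeries.coeff 1 Tp ≠ 0 := by
      have hsum : Tp + Tm = PowerSeries.X := by
        rw [hTp, hTm]
        linear_combination PowerSeries.X * hh
      have := congrArg (PowerSeries.coeff 1) hsum
      rw [map_add, h1, add_zero, PowerSeries.coeff_one_X] at this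
      rw [this]
      exact one_ne_zero
    have hcomp : α.comp (substEquiv k Tp h0p h1p : PowerSeries k →ₐ[k] PowerSeries k) =
        (substEquiv k Tp h0p h1p : PowerSeries k →ₐ[k] PowerSeries k) := by
      apply algHom_B_ext
      show α (substEquiv k Tp h0p h1p PowerSeries.X) = substEquiv k Tp h0p h1p PowerSeries.X
      rw [substEquiv_X]
      exact hTp_α
    apply AlgHom.ext
    intro f
    obtain ⟨g, rfl⟩ := (substEquiv k Tp h0p h1p).surjective f
    exact DFunLike.congr_fun hcomp g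
  · right
    refine ⟨substEquiv k Tm h0m h1, ?_⟩
    have hcomp : α.comp (substEquiv k Tm h0m h1 : PowerSeries k →ₐ[k] PowerSeries k) =
        (substEquiv k Tm h0m h1 : PowerSeries k →ₐ[k] PowerSeries k).comp (negX k) := by
      apply algHom_B_ext
      show α (substEquiv k Tm h0m h1 PowerSeries.X) =
        substEquiv k Tm h0m h1 (negX k PowerSeries.X)
      rw [substEquiv_X, negX_X, map_neg, substEquiv_X]
      exact hTm_α
    intro f
    exact DFunLike.congr_fun hcomp f

section mk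

variable (h2 : (2 : k) ≠ 0) (β₁ β₂ : ArSing.ring k 1 →ₐ[k] PowerSeries k)
  (hc : ∀ z, PowerSeries.constantCoeff (β₁ z) = PowerSeries.constantCoeff (β₂ z))

/-- the element with prescribed branch components -/
def mkFun (z : ArSing.ring k 1) : ArSing.ring k 1 :=
  Classical.choose (br_exists k h2 (β₁ z) (β₂ z) (hc z))

lemma b1_mkFun (z : ArSing.ring k 1) : b1 k (mkFun k h2 β₁ β₂ hc z) = β₁ z :=
  (Classical.choose_spec (br_exists k h2 (β₁ z) (β₂ z) (hc z))).1

lemma b2_mkFun (z : ArSing.ring k 1) : b2 k (mkFun k h2 β₁ β₂ hc z) = β₂ z :=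
  (Classical.choose_spec (br_exists k h2 (β₁ z) (β₂ z) (hc z))).2

/-- the endomorphism of the node with prescribed branch components -/
def mkHom : ArSing.ring k 1 →ₐ[k] ArSing.ring k 1 :=
  { toFun := mkFun k h2 β₁ β₂ hc
    map_one' := br_inj k h2 (by rw [b1_mkFun, map_one, map_one])
      (by rw [b2_mkFun, map_one, map_one])
    map_mul' := fun z w => br_inj k h2
      (by rw [b1_mkFun, map_mul, map_mul, b1_mkFun, b1_mkFun])
      (by rw [b2_mkFun, map_mul, map_mul, b2_mkFun, b2_mkFun])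
    map_zero' := br_inj k h2 (by rw [b1_mkFun, map_zero, map_zero])
      (by rw [b2_mkFun, map_zero, map_zero])
    map_add' := fun z w => br_inj k h2
      (by rw [b1_mkFun, map_add, map_add, b1_mkFun, b1_mkFun])
      (by rw [b2_mkFun, map_add, map_add, b2_mkFun, b2_mkFun])
    commutes' := fun c => br_inj k h2
      (by rw [b1_mkFun, AlgHom.commutes, AlgHom.commutes])
      (by rw [b2_mkFun, AlgHom.commutes, AlgHom.commutes]) }

lemma b1_mkHom (z : ArSing.ring k 1) : b1 k (mkHom k h2 β₁ β₂ hc z) = β₁ z :=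
  b1_mkFun k h2 β₁ β₂ hc z

lemma b2_mkHom (z : ArSing.ring k 1) : b2 k (mkHom k h2 β₁ β₂ hc z) = β₂ z :=
  b2_mkFun k h2 β₁ β₂ hc z

end mk

lemma glue_hc (α₁ α₂ : PowerSeries k ≃ₐ[k] PowerSeries k) (z : ArSing.ring k 1) :
    PowerSeries.constantCoeff (((α₁ : PowerSeries k →ₐ[k] PowerSeries k).comp (b1 k)) z) =
      PowerSeries.constantCoeff (((α₂ : PowerSeries k →ₐ[k] PowerSeries k).comp (b2 k)) z) := by
  rw [AlgHom.comp_apply, AlgHom.comp_apply, constantCoeff_algHom, constantCoeff_algHom,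
    br_const]

lemma glueSwap_hc (α₁ α₂ : PowerSeries k ≃ₐ[k] PowerSeries k) (z : ArSing.ring k 1) :
    PowerSeries.constantCoeff (((α₁ : PowerSeries k →ₐ[k] PowerSeries k).comp (b2 k)) z) =
      PowerSeries.constantCoeff (((α₂ : PowerSeries k →ₐ[k] PowerSeries k).comp (b1 k)) z) := by
  rw [AlgHom.comp_apply, AlgHom.comp_apply, constantCoeff_algHom, constantCoeff_algHom,
    br_const]

/-- branch-preserving automorphism of the node -/
def glue (h2 : (2 : k) ≠ 0) (α₁ α₂ : PowerSeries k ≃ₐ[k] PowerSeries k) :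
    ArSing.ring k 1 ≃ₐ[k] ArSing.ring k 1 :=
  AlgEquiv.ofAlgHom
    (mkHom k h2 ((α₁ : PowerSeries k →ₐ[k] PowerSeries k).comp (b1 k))
      ((α₂ : PowerSeries k →ₐ[k] PowerSeries k).comp (b2 k)) (glue_hc k α₁ α₂))
    (mkHom k h2 ((α₁.symm : PowerSeries k →ₐ[k] PowerSeries k).comp (b1 k))
      ((α₂.symm : PowerSeries k →ₐ[k] PowerSeries k).comp (b2 k)) (glue_hc k α₁.symm α₂.symm))
    (by
      apply AlgHom.ext
      intro z
      apply br_inj k h2
      · rw [AlgHom.comp_apply, b1_mkHom, AlgHom.comp_apply, b1_mkHom, AlgHom.comp_apply]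
        simp
      · rw [AlgHom.comp_apply, b2_mkHom, AlgHom.comp_apply, b2_mkHom, AlgHom.comp_apply]
        simp)
    (by
      apply AlgHom.ext
      intro z
      apply br_inj k h2
      · rw [AlgHom.comp_apply, b1_mkHom, AlgHom.comp_apply, b1_mkHom, AlgHom.comp_apply]
        simp
      · rw [AlgHom.comp_apply, b2_mkHom, AlgHom.comp_apply, b2_mkHom, AlgHom.comp_apply]
        simp)

lemma b1_glue (h2 : (2 : k) ≠ 0) (α₁ α₂ : PowerSeries k ≃ₐ[k] PowerSeries k)
    (z : ArSing.ring k 1) : b1 k (glue k h2 α₁ α₂ z) = α₁ (b1 k z) :=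
  b1_mkHom k h2 ((α₁ : PowerSeries k →ₐ[k] PowerSeries k).comp (b1 k))
      ((α₂ : PowerSeries k →ₐ[k] PowerSeries k).comp (b2 k)) (glue_hc k α₁ α₂) z

lemma b2_glue (h2 : (2 : k) ≠ 0) (α₁ α₂ : PowerSeries k ≃ₐ[k] PowerSeries k)
    (z : ArSing.ring k 1) : b2 k (glue k h2 α₁ α₂ z) = α₂ (b2 k z) :=
  b2_mkHom k h2 ((α₁ : PowerSeries k →ₐ[k] PowerSeries k).comp (b1 k))
      ((α₂ : PowerSeries k →ₐ[k] PowerSeries k).comp (b2 k)) (glue_hc k α₁ α₂) z

/-- branch-swapping automorphism of the node -/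
def glueSwap (h2 : (2 : k) ≠ 0) (α₁ α₂ : PowerSeries k ≃ₐ[k] PowerSeries k) :
    ArSing.ring k 1 ≃ₐ[k] ArSing.ring k 1 :=
  AlgEquiv.ofAlgHom
    (mkHom k h2 ((α₁ : PowerSeries k →ₐ[k] PowerSeries k).comp (b2 k))
      ((α₂ : PowerSeries k →ₐ[k] PowerSeries k).comp (b1 k)) (glueSwap_hc k α₁ α₂))
    (mkHom k h2 ((α₂.symm : PowerSeries k →ₐ[k] PowerSeries k).comp (b2 k))
      ((α₁.symm : PowerSeries k →ₐ[k] PowerSeries k).comp (b1 k))
      (glueSwap_hc k α₂.symm α₁.symm))
    (by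
      apply AlgHom.ext
      intro z
      apply br_inj k h2
      · rw [AlgHom.comp_apply, b1_mkHom, AlgHom.comp_apply, b2_mkHom, AlgHom.comp_apply]
        simp
      · rw [AlgHom.comp_apply, b2_mkHom, AlgHom.comp_apply, b1_mkHom, AlgHom.comp_apply]
        simp)
    (by
      apply AlgHom.ext
      intro z
      apply br_inj k h2
      · rw [AlgHom.comp_apply, b1_mkHom, AlgHom.comp_apply, b2_mkHom, AlgHom.comp_apply]
        simp
      · rw [AlgHom.comp_apply, b2_mkHom, AlgHom.comp_apply, b1_mkHom, AlgHom.comp_apply]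
        simp)

lemma b1_glueSwap (h2 : (2 : k) ≠ 0) (α₁ α₂ : PowerSeries k ≃ₐ[k] PowerSeries k)
    (z : ArSing.ring k 1) : b1 k (glueSwap k h2 α₁ α₂ z) = α₁ (b2 k z) :=
  b1_mkHom k h2 ((α₁ : PowerSeries k →ₐ[k] PowerSeries k).comp (b2 k))
      ((α₂ : PowerSeries k →ₐ[k] PowerSeries k).comp (b1 k)) (glueSwap_hc k α₁ α₂) z

lemma b2_glueSwap (h2 : (2 : k) ≠ 0) (α₁ α₂ : PowerSeries k ≃ₐ[k] PowerSeries k)
    (z : ArSing.ring k 1) : b2 k (glueSwap k h2 α₁ α₂ z) = α₂ (b1 k z) :=
  b2_mkHom k h2 ((α₁ : PowerSeries k →ₐ[k] PowerSeries k).comp (b2 k))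
      ((α₂ : PowerSeries k →ₐ[k] PowerSeries k).comp (b1 k)) (glueSwap_hc k α₁ α₂) z

end

end Groth.Agent.Lib.Helper4.ArS
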