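import Mathlib
import Groth.Agent.Lib.Helper4.ArSingH

/-!
# Classification of involutions of the node `A_1`
-/

set_option autoImplicit false
set_option linter.style.haveILetI false
set_option linter.unusedSectionVars false
set_option linter.unusedVariables false
set_option linter.unusedSimpArgs false
set_option maxHeartbeats 1600000

universe u

namespace Groth.Agent.Lib.Helper4.ArS

open MvPowerSeries

noncomputable section

variable (k : Type u) [Field k]

theorem node_invol (h2 : (2 : k) ≠ 0)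
    (σ : ArSing.ring k 1 ≃ₐ[k] ArSing.ring k 1) (hσ : ∀ a, σ (σ a) = a)
    (hne : σ ≠ AlgEquiv.refl) :
    ∃ φ : ArSing.ring k 1 ≃ₐ[k] ArSing.ring k 1,
      (φ.symm (σ (φ (ArSing.x k 1))) = ArSing.x k 1 ∧
        φ.symm (σ (φ (ArSing.y k 1))) = -ArSing.y k 1) ∨
      (φ.symm (σ (φ (ArSing.x k 1))) = -ArSing.x k 1 ∧
        φ.symm (σ (φ (ArSing.y k 1))) = -ArSing.y k 1) ∨
      (φ.symm (σ (φ (ArSing.x k 1))) = ArSing.y k 1 ∧
        φ.symm (σ (φ (ArSing.y k 1))) = ArSing.x k 1) := by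
  have h2B := two_ne_zero_B k h2
  have huv : (ArSing.x k 1 + ArSing.y k 1) * (ArSing.y k 1 - ArSing.x k 1) = 0 := by
    have := y_sq k 1
    rw [map_pow, xMap_X] at this
    linear_combination this
  have hu_ne : ArSing.x k 1 + ArSing.y k 1 ≠ 0 := by
    intro h
    have := congrArg (b1 k) h
    rw [b1_u, map_zero] at this
    rcases mul_eq_zero.mp this with h' | h'
    · exact h2B h'
    · exact PowerSeries.X_ne_zero h'
  have hv_ne : ArSing.y k 1 - ArSing.x k 1 ≠ 0 := by
    intro h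
    have := congrArg (b2 k) h
    rw [b2_v, map_zero, neg_eq_zero] at this
    rcases mul_eq_zero.mp this with h' | h'
    · exact h2B h'
    · exact PowerSeries.X_ne_zero h'
  have hσu_ne : σ (ArSing.x k 1 + ArSing.y k 1) ≠ 0 :=
    fun h => hu_ne (σ.injective (h.trans (map_zero σ).symm))
  have hσv_ne : σ (ArSing.y k 1 - ArSing.x k 1) ≠ 0 :=
    fun h => hv_ne (σ.injective (h.trans (map_zero σ).symm))
  have hprod : σ (ArSing.x k 1 + ArSing.y k 1) * σ (ArSing.y k 1 - ArSing.x k 1) = 0 := by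
    rw [← map_mul, huv, map_zero]
  have hp := congrArg (b1 k) hprod
  have hq := congrArg (b2 k) hprod
  rw [map_mul, map_zero] at hp hq
  obtain ⟨g1, hg1⟩ : ∃ g1 : PowerSeries k →ₐ[k] PowerSeries k,
      g1 = ((b1 k).comp (σ : ArSing.ring k 1 →ₐ[k] ArSing.ring k 1)).comp (ArSing.xMap k 1) :=
    ⟨_, rfl⟩
  obtain ⟨g2, hg2⟩ : ∃ g2 : PowerSeries k →ₐ[k] PowerSeries k,
      g2 = ((b2 k).comp (σ : ArSing.ring k 1 →ₐ[k] ArSing.ring k 1)).comp (ArSing.xMap k 1) :=
    ⟨_, rfl⟩
  have hg1a : ∀ f, g1 f = b1 k (σ (ArSing.xMap k 1 f)) := fun f => by rw [hg1]; rfl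
  have hg2a : ∀ f, g2 f = b2 k (σ (ArSing.xMap k 1 f)) := fun f => by rw [hg2]; rfl
  by_cases hp0 : b1 k (σ (ArSing.x k 1 + ArSing.y k 1)) = 0
  · -- branch-swapping case
    have hq0 : b2 k (σ (ArSing.x k 1 + ArSing.y k 1)) ≠ 0 :=
      fun h => hσu_ne (br_inj k h2 (by rw [hp0, map_zero]) (by rw [h, map_zero]))
    have hq' : b2 k (σ (ArSing.y k 1 - ArSing.x k 1)) = 0 :=
      (mul_eq_zero.mp hq).resolve_left hq0
    have H1 : ∀ z, b1 k (σ z) = g1 (b2 k z) := by
      intro z
      obtain ⟨w, hw⟩ := ker_b2 k (z - ArSing.xMap k 1 (b2 k z))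
        (by rw [map_sub, b2_xMap, sub_self])
      have hz : z = ArSing.xMap k 1 (b2 k z) + (ArSing.x k 1 + ArSing.y k 1) * w := by
        rw [← hw]; ring
      conv_lhs => rw [hz]
      rw [map_add, map_mul, map_add, map_mul, hp0, zero_mul, add_zero, hg1a]
    have H2 : ∀ z, b2 k (σ z) = g2 (b1 k z) := by
      intro z
      obtain ⟨w, hw⟩ := ker_b1 k (z - ArSing.xMap k 1 (b1 k z))
        (by rw [map_sub, b1_xMap, sub_self])
      have hz : z = ArSing.xMap k 1 (b1 k z) + (ArSing.y k 1 - ArSing.x k 1) * w := by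
        rw [← hw]; ring
      conv_lhs => rw [hz]
      rw [map_add, map_mul, map_add, map_mul, hq', zero_mul, add_zero, hg2a]
    have h12 : ∀ f, g1 (g2 f) = f := by
      intro f
      have := H1 (σ (ArSing.xMap k 1 f))
      rw [hσ, b1_xMap, ← hg2a] at this
      exact this.symm
    have h21 : ∀ f, g2 (g1 f) = f := by
      intro f
      have := H2 (σ (ArSing.xMap k 1 f))
      rw [hσ, b2_xMap, ← hg1a] at this
      exact this.symm
    obtain ⟨γ, hγ⟩ : ∃ γ : PowerSeries k ≃ₐ[k] PowerSeries k, ∀ f, γ f = g1 f :=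
      ⟨AlgEquiv.ofAlgHom g1 g2 (AlgHom.ext h12) (AlgHom.ext h21), fun f => rfl⟩
    refine ⟨glue k h2 γ AlgEquiv.refl, Or.inl ⟨?_, ?_⟩⟩
    · rw [AlgEquiv.symm_apply_eq]
      apply br_inj k h2
      · rw [H1]
        simp only [b1_glue, b2_glue, b1_x, b2_x, b1_y, b2_y, hγ, h21, h12, AlgEquiv.coe_refl,
          id_eq, map_neg, neg_neg]
      · rw [H2]
        simp only [b1_glue, b2_glue, b1_x, b2_x, b1_y, b2_y, hγ, h21, h12, AlgEquiv.coe_refl,
          id_eq, map_neg, neg_neg]
    · rw [AlgEquiv.symm_apply_eq]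
      apply br_inj k h2
      · rw [H1]
        simp only [b1_glue, b2_glue, b1_x, b2_x, b1_y, b2_y, hγ, h21, h12, AlgEquiv.coe_refl,
          id_eq, map_neg, neg_neg]
      · rw [H2]
        simp only [b1_glue, b2_glue, b1_x, b2_x, b1_y, b2_y, hγ, h21, h12, AlgEquiv.coe_refl,
          id_eq, map_neg, neg_neg]
  · -- branch-preserving case
    have hp' : b1 k (σ (ArSing.y k 1 - ArSing.x k 1)) = 0 :=
      (mul_eq_zero.mp hp).resolve_left hp0
    have hq0' : b2 k (σ (ArSing.y k 1 - ArSing.x k 1)) ≠ 0 :=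
      fun h => hσv_ne (br_inj k h2 (by rw [hp', map_zero]) (by rw [h, map_zero]))
    have hq0 : b2 k (σ (ArSing.x k 1 + ArSing.y k 1)) = 0 :=
      (mul_eq_zero.mp hq).resolve_right hq0'
    have H1 : ∀ z, b1 k (σ z) = g1 (b1 k z) := by
      intro z
      obtain ⟨w, hw⟩ := ker_b1 k (z - ArSing.xMap k 1 (b1 k z))
        (by rw [map_sub, b1_xMap, sub_self])
      have hz : z = ArSing.xMap k 1 (b1 k z) + (ArSing.y k 1 - ArSing.x k 1) * w := by
        rw [← hw]; ring
      conv_lhs => rw [hz]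
      rw [map_add, map_mul, map_add, map_mul, hp', zero_mul, add_zero, hg1a]
    have H2 : ∀ z, b2 k (σ z) = g2 (b2 k z) := by
      intro z
      obtain ⟨w, hw⟩ := ker_b2 k (z - ArSing.xMap k 1 (b2 k z))
        (by rw [map_sub, b2_xMap, sub_self])
      have hz : z = ArSing.xMap k 1 (b2 k z) + (ArSing.x k 1 + ArSing.y k 1) * w := by
        rw [← hw]; ring
      conv_lhs => rw [hz]
      rw [map_add, map_mul, map_add, map_mul, hq0, zero_mul, add_zero, hg2a]
    have hg1i : ∀ f, g1 (g1 f) = f := by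
      intro f
      have := H1 (σ (ArSing.xMap k 1 f))
      rw [hσ, b1_xMap, ← hg1a] at this
      exact this.symm
    have hg2i : ∀ f, g2 (g2 f) = f := by
      intro f
      have := H2 (σ (ArSing.xMap k 1 f))
      rw [hσ, b2_xMap, ← hg2a] at this
      exact this.symm
    rcases invol_B k h2 g1 hg1i with e1 | ⟨ε₁, hε₁⟩
    · rcases invol_B k h2 g2 hg2i with e2 | ⟨ε₂, hε₂⟩
      · exfalso
        apply hne
        apply AlgEquiv.ext
        intro z
        apply br_inj k h2
        · rw [H1, e1]; rfl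
        · rw [H2, e2]; rfl
      · refine ⟨glue k h2 AlgEquiv.refl ε₂, Or.inr (Or.inr ⟨?_, ?_⟩)⟩
        · rw [AlgEquiv.symm_apply_eq]
          apply br_inj k h2
          · rw [H1, e1]
            simp only [b1_glue, b2_glue, b1_x, b2_x, b1_y, b2_y, AlgEquiv.coe_refl, id_eq,
              AlgHom.coe_id, map_neg, neg_neg, negX_X, hε₂]
          · rw [H2]
            simp only [b1_glue, b2_glue, b1_x, b2_x, b1_y, b2_y, AlgEquiv.coe_refl, id_eq,
              AlgHom.coe_id, map_neg, neg_neg, negX_X, hε₂]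
        · rw [AlgEquiv.symm_apply_eq]
          apply br_inj k h2
          · rw [H1, e1]
            simp only [b1_glue, b2_glue, b1_x, b2_x, b1_y, b2_y, AlgEquiv.coe_refl, id_eq,
              AlgHom.coe_id, map_neg, neg_neg, negX_X, hε₂]
          · rw [H2]
            simp only [b1_glue, b2_glue, b1_x, b2_x, b1_y, b2_y, AlgEquiv.coe_refl, id_eq,
              AlgHom.coe_id, map_neg, neg_neg, negX_X, hε₂]
    · rcases invol_B k h2 g2 hg2i with e2 | ⟨ε₂, hε₂⟩
      · refine ⟨glueSwap k h2 ε₁ AlgEquiv.refl, Or.inr (Or.inr ⟨?_, ?_⟩)⟩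
        · rw [AlgEquiv.symm_apply_eq]
          apply br_inj k h2
          · rw [H1]
            simp only [b1_glueSwap, b2_glueSwap, b1_x, b2_x, b1_y, b2_y, AlgEquiv.coe_refl,
              id_eq, AlgHom.coe_id, map_neg, neg_neg, negX_X, hε₁]
          · rw [H2, e2]
            simp only [b1_glueSwap, b2_glueSwap, b1_x, b2_x, b1_y, b2_y, AlgEquiv.coe_refl,
              id_eq, AlgHom.coe_id, map_neg, neg_neg, negX_X, hε₁]
        · rw [AlgEquiv.symm_apply_eq]
          apply br_inj k h2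
          · rw [H1]
            simp only [b1_glueSwap, b2_glueSwap, b1_x, b2_x, b1_y, b2_y, AlgEquiv.coe_refl,
              id_eq, AlgHom.coe_id, map_neg, neg_neg, negX_X, hε₁]
          · rw [H2, e2]
            simp only [b1_glueSwap, b2_glueSwap, b1_x, b2_x, b1_y, b2_y, AlgEquiv.coe_refl,
              id_eq, AlgHom.coe_id, map_neg, neg_neg, negX_X, hε₁]
      · refine ⟨glue k h2 ε₁ ε₂, Or.inr (Or.inl ⟨?_, ?_⟩)⟩
        · rw [AlgEquiv.symm_apply_eq]
          apply br_inj k h2
          · rw [H1]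
            simp only [b1_glue, b2_glue, b1_x, b2_x, b1_y, b2_y, map_neg, neg_neg, negX_X,
              hε₁, hε₂]
          · rw [H2]
            simp only [b1_glue, b2_glue, b1_x, b2_x, b1_y, b2_y, map_neg, neg_neg, negX_X,
              hε₁, hε₂]
        · rw [AlgEquiv.symm_apply_eq]
          apply br_inj k h2
          · rw [H1]
            simp only [b1_glue, b2_glue, b1_x, b2_x, b1_y, b2_y, map_neg, neg_neg, negX_X,
              hε₁, hε₂]
          · rw [H2]
            simp only [b1_glue, b2_glue, b1_x, b2_x, b1_y, b2_y, map_neg, neg_neg, negX_X,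
              hε₁, hε₂]

end

end Groth.Agent.Lib.Helper4.ArS
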