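import Mathlib
import Groth.Agent.Lib.Helper4.ArSingI

/-!
# The two branches `y = ± x^n` of `A_r`, `r + 1 = 2 n`, and gluing of automorphisms
-/

set_option autoImplicit false
set_option linter.style.haveILetI false
set_option linter.unusedSectionVars false
set_option linter.unusedVariables false
set_option linter.unusedSimpArgs false
set_option maxHeartbeats 1600000

universe u

namespace Groth.Agent.Lib.Helper4.ArS

open MvPowerSeries

noncomputable section

variable (k : Type u) [Field k]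

/-- congruence of endomorphisms of `k[[X]]` modulo `X^n` -/
def CongN (n : ℕ) (α β : PowerSeries k →ₐ[k] PowerSeries k) : Prop :=
  ∀ f, PowerSeries.X ^ n ∣ α f - β f

lemma X_dvd_algHom_X (α : PowerSeries k →ₐ[k] PowerSeries k) :
    PowerSeries.X ∣ α PowerSeries.X :=
  PowerSeries.X_dvd_iff.mpr (constantCoeff_algHom_X k α)

lemma X_pow_dvd_algHom (n : ℕ) (δ : PowerSeries k →ₐ[k] PowerSeries k) {g : PowerSeries k}
    (h : PowerSeries.X ^ n ∣ g) : PowerSeries.X ^ n ∣ δ g := by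
  obtain ⟨w, rfl⟩ := h
  rw [map_mul, map_pow]
  exact Dvd.dvd.mul_right (pow_dvd_pow_of_dvd (X_dvd_algHom_X k δ) n) _

lemma congN_of_X (n : ℕ) (α β : PowerSeries k →ₐ[k] PowerSeries k)
    (h : PowerSeries.X ^ n ∣ α PowerSeries.X - β PowerSeries.X) : CongN k n α β := by
  have key : (Ideal.Quotient.mkₐ k (Ideal.span {(PowerSeries.X : PowerSeries k) ^ n})).comp α =
      (Ideal.Quotient.mkₐ k (Ideal.span {(PowerSeries.X : PowerSeries k) ^ n})).comp β := by
    apply algHom_eq_of_sep k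
      (Ideal.Quotient.mk (Ideal.span {(PowerSeries.X : PowerSeries k) ^ n}) PowerSeries.X)
    · intro z hz
      obtain ⟨w, hw⟩ := hz n
      have h0 : Ideal.Quotient.mk (Ideal.span {(PowerSeries.X : PowerSeries k) ^ n})
          (PowerSeries.X ^ n) = 0 :=
        Ideal.Quotient.eq_zero_iff_mem.mpr (Ideal.subset_span (Set.mem_singleton _))
      rw [hw, ← map_pow, h0, zero_mul]
    · show Ideal.Quotient.mk _ (α PowerSeries.X) = Ideal.Quotient.mk _ (β PowerSeries.X)
      rw [Ideal.Quotient.eq, Ideal.mem_span_singleton]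
      exact h
    · show Ideal.Quotient.mk _ PowerSeries.X ∣ Ideal.Quotient.mk _ (α PowerSeries.X)
      exact map_dvd _ (X_dvd_algHom_X k α)
  intro f
  have := DFunLike.congr_fun key f
  have h' : Ideal.Quotient.mk (Ideal.span {(PowerSeries.X : PowerSeries k) ^ n}) (α f) =
      Ideal.Quotient.mk _ (β f) := this
  rw [Ideal.Quotient.eq, Ideal.mem_span_singleton] at h'
  exact h'

lemma congN_comp_left (n : ℕ) (δ α β : PowerSeries k →ₐ[k] PowerSeries k)
    (h : CongN k n α β) : CongN k n (δ.comp α) (δ.comp β) := by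
  intro f
  rw [AlgHom.comp_apply, AlgHom.comp_apply, ← map_sub]
  exact X_pow_dvd_algHom k n δ (h f)

lemma congN_symm (n : ℕ) (α β : PowerSeries k ≃ₐ[k] PowerSeries k)
    (h : CongN k n (α : PowerSeries k →ₐ[k] PowerSeries k) β) :
    CongN k n (α.symm : PowerSeries k →ₐ[k] PowerSeries k) β.symm := by
  intro f
  have e : (α.symm : PowerSeries k →ₐ[k] PowerSeries k) f -
      (β.symm : PowerSeries k →ₐ[k] PowerSeries k) f =
      (α.symm : PowerSeries k →ₐ[k] PowerSeries k) (β (β.symm f) - α (β.symm f)) := by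
    rw [map_sub]
    simp
  rw [e]
  apply X_pow_dvd_algHom
  have := h (β.symm f)
  have h2 : β (β.symm f) - α (β.symm f) = -(α (β.symm f) - β (β.symm f)) := by ring
  rw [h2]
  exact (dvd_neg).mpr this

/-- `negX` as an automorphism -/
def negXEquiv : PowerSeries k ≃ₐ[k] PowerSeries k :=
  AlgEquiv.ofAlgHom (negX k) (negX k)
    (by apply algHom_B_ext; rw [AlgHom.comp_apply, negX_X, map_neg, negX_X, neg_neg]; rfl)
    (by apply algHom_B_ext; rw [AlgHom.comp_apply, negX_X, map_neg, negX_X, neg_neg]; rfl)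

lemma negXEquiv_apply (f : PowerSeries k) : negXEquiv k f = negX k f := rfl

lemma negX_X_pow (n : ℕ) : negX k (PowerSeries.X ^ n) = (-1) ^ n * PowerSeries.X ^ n := by
  rw [map_pow, negX_X, neg_pow]

section invol

variable (h2 : (2 : k) ≠ 0) (α : PowerSeries k →ₐ[k] PowerSeries k) (hα : ∀ f, α (α f) = f)

/-- anti-invariant coordinate -/
def Tm : PowerSeries k := PowerSeries.C (2⁻¹ : k) * (PowerSeries.X - α PowerSeries.X)

/-- invariant coordinate -/
def Tp : PowerSeries k := PowerSeries.C (2⁻¹ : k) * (PowerSeries.X + α PowerSeries.X)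

lemma constantCoeff_Tm : PowerSeries.constantCoeff (Tm k α) = 0 := by
  rw [Tm, map_mul, map_sub, constantCoeff_algHom_X, PowerSeries.constantCoeff_X, sub_zero,
    mul_zero]

lemma constantCoeff_Tp : PowerSeries.constantCoeff (Tp k α) = 0 := by
  rw [Tp, map_mul, map_add, constantCoeff_algHom_X, PowerSeries.constantCoeff_X, add_zero,
    mul_zero]

include h2 in
lemma Tp_add_Tm : Tp k α + Tm k α = PowerSeries.X := by
  rw [Tp, Tm]
  linear_combination PowerSeries.X * half_mul_two k h2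

include h2 in
lemma coeff_one_Tp_of (h1 : PowerSeries.coeff 1 (Tm k α) = 0) :
    PowerSeries.coeff 1 (Tp k α) ≠ 0 := by
  have := congrArg (PowerSeries.coeff 1) (Tp_add_Tm k h2 α)
  rw [map_add, h1, add_zero, PowerSeries.coeff_one_X] at this
  rw [this]
  exact one_ne_zero

include hα in
lemma alg_Tm : α (Tm k α) = -Tm k α := by
  rw [Tm, map_mul, algHom_C, map_sub, hα]; ring

include hα in
lemma alg_Tp : α (Tp k α) = Tp k α := by
  rw [Tp, map_mul, algHom_C, map_add, hα]; ring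

end invol

lemma algHom_substEquiv_of (α : PowerSeries k →ₐ[k] PowerSeries k)
    (β : PowerSeries k →ₐ[k] PowerSeries k) (T : PowerSeries k)
    (h0 : PowerSeries.constantCoeff T = 0) (h1 : PowerSeries.coeff 1 T ≠ 0)
    (h : α T = substEquiv k T h0 h1 (β PowerSeries.X)) (f : PowerSeries k) :
    α (substEquiv k T h0 h1 f) = substEquiv k T h0 h1 (β f) := by
  have hcomp : α.comp (substEquiv k T h0 h1 : PowerSeries k →ₐ[k] PowerSeries k) =
      (substEquiv k T h0 h1 : PowerSeries k →ₐ[k] PowerSeries k).comp β := by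
    apply algHom_B_ext
    show α (substEquiv k T h0 h1 PowerSeries.X) = substEquiv k T h0 h1 (β PowerSeries.X)
    rw [substEquiv_X]
    exact h
  exact DFunLike.congr_fun hcomp f

section branches

variable (r n : ℕ) (hrn : r + 1 = 2 * n)

include hrn in
lemma X_pow_succ_eq : (PowerSeries.X : PowerSeries k) ^ (r + 1) =
    PowerSeries.X ^ n * PowerSeries.X ^ n := by
  rw [hrn, two_mul, pow_add]

/-- the branch `y = e x^n` (`e * e = 1`) -/
def cbr (e : PowerSeries k) (he : e * e = 1) : ArSing.ring k r →ₐ[k] PowerSeries k :=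
  { toFun := fun z => ((thetaEquiv k r).symm z).1 +
      e * PowerSeries.X ^ n * ((thetaEquiv k r).symm z).2
    map_one' := by
      rw [← theta_one, thetaEquiv_symm_theta]
      simp
    map_mul' := by
      intro z w
      obtain ⟨⟨a, b⟩, rfl⟩ := theta_surj k r z
      obtain ⟨⟨a', b'⟩, rfl⟩ := theta_surj k r w
      rw [theta_mul, thetaEquiv_symm_theta, thetaEquiv_symm_theta, thetaEquiv_symm_theta]
      simp only
      rw [X_pow_succ_eq k r n hrn]
      linear_combination (-(PowerSeries.X ^ n * PowerSeries.X ^ n * b * b')) * he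
    map_zero' := by
      rw [← theta_zero, thetaEquiv_symm_theta]
      simp
    map_add' := by
      intro z w
      obtain ⟨⟨a, b⟩, rfl⟩ := theta_surj k r z
      obtain ⟨⟨a', b'⟩, rfl⟩ := theta_surj k r w
      rw [← theta_add, thetaEquiv_symm_theta, thetaEquiv_symm_theta, thetaEquiv_symm_theta]
      simp only [Prod.mk_add_mk]
      ring
    commutes' := by
      intro c
      rw [← xMap_C, ← theta_fst, thetaEquiv_symm_theta]
      simp [C_eq_algebraMap] }

lemma cbr_theta (e : PowerSeries k) (he : e * e = 1) (a b : PowerSeries k) :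
    cbr k r n hrn e he (theta k r (a, b)) = a + e * PowerSeries.X ^ n * b := by
  show ((thetaEquiv k r).symm (theta k r (a, b))).1 +
    e * PowerSeries.X ^ n * ((thetaEquiv k r).symm (theta k r (a, b))).2 = _
  rw [thetaEquiv_symm_theta]

/-- branch `y = x^n` -/
def c1 : ArSing.ring k r →ₐ[k] PowerSeries k := cbr k r n hrn 1 (one_mul 1)

/-- branch `y = -x^n` -/
def c2 : ArSing.ring k r →ₐ[k] PowerSeries k := cbr k r n hrn (-1) (by ring)

lemma c1_theta (a b : PowerSeries k) :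
    c1 k r n hrn (theta k r (a, b)) = a + PowerSeries.X ^ n * b := by
  rw [c1, cbr_theta, one_mul]

lemma c2_theta (a b : PowerSeries k) :
    c2 k r n hrn (theta k r (a, b)) = a - PowerSeries.X ^ n * b := by
  rw [c2, cbr_theta]
  ring

lemma c1_x : c1 k r n hrn (ArSing.x k r) = PowerSeries.X := by
  rw [x_eq_theta, c1_theta, mul_zero, add_zero]

lemma c1_y : c1 k r n hrn (ArSing.y k r) = PowerSeries.X ^ n := by
  rw [← theta_snd_one, c1_theta, mul_one, zero_add]

lemma c2_x : c2 k r n hrn (ArSing.x k r) = PowerSeries.X := by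
  rw [x_eq_theta, c2_theta, mul_zero, sub_zero]

lemma c2_y : c2 k r n hrn (ArSing.y k r) = -PowerSeries.X ^ n := by
  rw [← theta_snd_one, c2_theta, mul_one, zero_sub]

lemma c1_xMap (f : PowerSeries k) : c1 k r n hrn (ArSing.xMap k r f) = f := by
  rw [← theta_fst, c1_theta, mul_zero, add_zero]

lemma c2_xMap (f : PowerSeries k) : c2 k r n hrn (ArSing.xMap k r f) = f := by
  rw [← theta_fst, c2_theta, mul_zero, sub_zero]

lemma cr_inj (h2 : (2 : k) ≠ 0) {z w : ArSing.ring k r}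
    (h1 : c1 k r n hrn z = c1 k r n hrn w) (h2' : c2 k r n hrn z = c2 k r n hrn w) : z = w := by
  obtain ⟨⟨a, b⟩, rfl⟩ := theta_surj k r z
  obtain ⟨⟨a', b'⟩, rfl⟩ := theta_surj k r w
  rw [c1_theta, c1_theta] at h1
  rw [c2_theta, c2_theta] at h2'
  have ha : a = a' := by
    apply mul_left_cancel₀ (two_ne_zero_B k h2)
    linear_combination h1 + h2'
  have hb : b = b' := by
    apply mul_left_cancel₀ (pow_ne_zero n (PowerSeries.X_ne_zero (R := k)))
    apply mul_left_cancel₀ (two_ne_zero_B k h2)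
    linear_combination h1 - h2'
  rw [ha, hb]

lemma cr_cong (z : ArSing.ring k r) :
    PowerSeries.X ^ n ∣ c1 k r n hrn z - c2 k r n hrn z := by
  obtain ⟨⟨a, b⟩, rfl⟩ := theta_surj k r z
  rw [c1_theta, c2_theta]
  exact ⟨2 * b, by ring⟩

lemma cr_exists (h2 : (2 : k) ≠ 0) (f g : PowerSeries k) (h0 : PowerSeries.X ^ n ∣ f - g) :
    ∃ w : ArSing.ring k r, c1 k r n hrn w = f ∧ c2 k r n hrn w = g := by
  obtain ⟨d, hd⟩ := h0
  have hh := half_mul_two k h2
  refine ⟨theta k r (PowerSeries.C (2⁻¹ : k) * (f + g), PowerSeries.C (2⁻¹ : k) * d), ?_, ?_⟩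
  · rw [c1_theta]
    linear_combination (-(PowerSeries.C (2⁻¹ : k))) * hd + f * hh
  · rw [c2_theta]
    linear_combination (PowerSeries.C (2⁻¹ : k)) * hd + g * hh

lemma c1_u : c1 k r n hrn (ArSing.y k r + ArSing.x k r ^ n) = 2 * PowerSeries.X ^ n := by
  rw [map_add, map_pow, c1_x, c1_y]; ring

lemma c2_u : c2 k r n hrn (ArSing.y k r + ArSing.x k r ^ n) = 0 := by
  rw [map_add, map_pow, c2_x, c2_y]; ring

lemma c1_v : c1 k r n hrn (ArSing.y k r - ArSing.x k r ^ n) = 0 := by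
  rw [map_sub, map_pow, c1_x, c1_y]; ring

lemma c2_v : c2 k r n hrn (ArSing.y k r - ArSing.x k r ^ n) = -(2 * PowerSeries.X ^ n) := by
  rw [map_sub, map_pow, c2_x, c2_y]; ring

include hrn in
lemma u_mul_v : (ArSing.y k r + ArSing.x k r ^ n) * (ArSing.y k r - ArSing.x k r ^ n) = 0 := by
  have := y_sq k r
  rw [map_pow, xMap_X, hrn, two_mul, pow_add] at this
  linear_combination this

lemma ker_c1 (z : ArSing.ring k r) (h : c1 k r n hrn z = 0) :
    ∃ w, z = (ArSing.y k r - ArSing.x k r ^ n) * w := by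
  obtain ⟨⟨a, b⟩, rfl⟩ := theta_surj k r z
  rw [c1_theta] at h
  have ha : a = -(PowerSeries.X ^ n * b) := eq_neg_of_add_eq_zero_left h
  refine ⟨ArSing.xMap k r b, ?_⟩
  rw [theta_mk, ha, map_neg, map_mul, map_pow, xMap_X]
  ring

lemma ker_c2 (z : ArSing.ring k r) (h : c2 k r n hrn z = 0) :
    ∃ w, z = (ArSing.y k r + ArSing.x k r ^ n) * w := by
  obtain ⟨⟨a, b⟩, rfl⟩ := theta_surj k r z
  rw [c2_theta] at h
  have ha : a = PowerSeries.X ^ n * b := sub_eq_zero.mp h
  refine ⟨ArSing.xMap k r b, ?_⟩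
  rw [theta_mk, ha, map_mul, map_pow, xMap_X]
  ring

section mk

variable (h2 : (2 : k) ≠ 0) (β₁ β₂ : ArSing.ring k r →ₐ[k] PowerSeries k)
  (hc : ∀ z, PowerSeries.X ^ n ∣ β₁ z - β₂ z)

/-- the element with prescribed branch components -/
def mkFunR (z : ArSing.ring k r) : ArSing.ring k r :=
  Classical.choose (cr_exists k r n hrn h2 (β₁ z) (β₂ z) (hc z))

lemma c1_mkFunR (z : ArSing.ring k r) : c1 k r n hrn (mkFunR k r n hrn h2 β₁ β₂ hc z) = β₁ z :=
  (Classical.choose_spec (cr_exists k r n hrn h2 (β₁ z) (β₂ z) (hc z))).1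

lemma c2_mkFunR (z : ArSing.ring k r) : c2 k r n hrn (mkFunR k r n hrn h2 β₁ β₂ hc z) = β₂ z :=
  (Classical.choose_spec (cr_exists k r n hrn h2 (β₁ z) (β₂ z) (hc z))).2

/-- the endomorphism with prescribed branch components -/
def mkHomR : ArSing.ring k r →ₐ[k] ArSing.ring k r :=
  { toFun := mkFunR k r n hrn h2 β₁ β₂ hc
    map_one' := cr_inj k r n hrn h2 (by rw [c1_mkFunR, map_one, map_one])
      (by rw [c2_mkFunR, map_one, map_one])
    map_mul' := fun z w => cr_inj k r n hrn h2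
      (by rw [c1_mkFunR, map_mul, map_mul, c1_mkFunR, c1_mkFunR])
      (by rw [c2_mkFunR, map_mul, map_mul, c2_mkFunR, c2_mkFunR])
    map_zero' := cr_inj k r n hrn h2 (by rw [c1_mkFunR, map_zero, map_zero])
      (by rw [c2_mkFunR, map_zero, map_zero])
    map_add' := fun z w => cr_inj k r n hrn h2
      (by rw [c1_mkFunR, map_add, map_add, c1_mkFunR, c1_mkFunR])
      (by rw [c2_mkFunR, map_add, map_add, c2_mkFunR, c2_mkFunR])
    commutes' := fun c => cr_inj k r n hrn h2
      (by rw [c1_mkFunR, AlgHom.commutes, AlgHom.commutes])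
      (by rw [c2_mkFunR, AlgHom.commutes, AlgHom.commutes]) }

lemma c1_mkHomR (z : ArSing.ring k r) : c1 k r n hrn (mkHomR k r n hrn h2 β₁ β₂ hc z) = β₁ z :=
  c1_mkFunR k r n hrn h2 β₁ β₂ hc z

lemma c2_mkHomR (z : ArSing.ring k r) : c2 k r n hrn (mkHomR k r n hrn h2 β₁ β₂ hc z) = β₂ z :=
  c2_mkFunR k r n hrn h2 β₁ β₂ hc z

end mk

lemma glueR_hc (δ₁ δ₂ : PowerSeries k →ₐ[k] PowerSeries k) (h : CongN k n δ₁ δ₂)
    (z : ArSing.ring k r) :
    PowerSeries.X ^ n ∣ (δ₁.comp (c1 k r n hrn)) z - (δ₂.comp (c2 k r n hrn)) z := by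
  rw [AlgHom.comp_apply, AlgHom.comp_apply]
  have e : δ₁ (c1 k r n hrn z) - δ₂ (c2 k r n hrn z) =
      δ₁ (c1 k r n hrn z - c2 k r n hrn z) + (δ₁ (c2 k r n hrn z) - δ₂ (c2 k r n hrn z)) := by
    rw [map_sub]; ring
  rw [e]
  exact dvd_add (X_pow_dvd_algHom k n δ₁ (cr_cong k r n hrn z)) (h _)

/-- branch-preserving automorphism of `A_r` -/
def glueR (h2 : (2 : k) ≠ 0) (δ₁ δ₂ : PowerSeries k ≃ₐ[k] PowerSeries k)
    (h : CongN k n (δ₁ : PowerSeries k →ₐ[k] PowerSeries k) δ₂) :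
    ArSing.ring k r ≃ₐ[k] ArSing.ring k r :=
  AlgEquiv.ofAlgHom
    (mkHomR k r n hrn h2 ((δ₁ : PowerSeries k →ₐ[k] PowerSeries k).comp (c1 k r n hrn))
      ((δ₂ : PowerSeries k →ₐ[k] PowerSeries k).comp (c2 k r n hrn))
      (glueR_hc k r n hrn _ _ h))
    (mkHomR k r n hrn h2 ((δ₁.symm : PowerSeries k →ₐ[k] PowerSeries k).comp (c1 k r n hrn))
      ((δ₂.symm : PowerSeries k →ₐ[k] PowerSeries k).comp (c2 k r n hrn))
      (glueR_hc k r n hrn _ _ (congN_symm k n δ₁ δ₂ h)))
    (by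
      apply AlgHom.ext
      intro z
      apply cr_inj k r n hrn h2
      · rw [AlgHom.comp_apply, c1_mkHomR, AlgHom.comp_apply, c1_mkHomR, AlgHom.comp_apply]
        simp
      · rw [AlgHom.comp_apply, c2_mkHomR, AlgHom.comp_apply, c2_mkHomR, AlgHom.comp_apply]
        simp)
    (by
      apply AlgHom.ext
      intro z
      apply cr_inj k r n hrn h2
      · rw [AlgHom.comp_apply, c1_mkHomR, AlgHom.comp_apply, c1_mkHomR, AlgHom.comp_apply]
        simp
      · rw [AlgHom.comp_apply, c2_mkHomR, AlgHom.comp_apply, c2_mkHomR, AlgHom.comp_apply]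
        simp)

lemma c1_glueR (h2 : (2 : k) ≠ 0) (δ₁ δ₂ : PowerSeries k ≃ₐ[k] PowerSeries k)
    (h : CongN k n (δ₁ : PowerSeries k →ₐ[k] PowerSeries k) δ₂) (z : ArSing.ring k r) :
    c1 k r n hrn (glueR k r n hrn h2 δ₁ δ₂ h z) = δ₁ (c1 k r n hrn z) :=
  c1_mkHomR k r n hrn h2 ((δ₁ : PowerSeries k →ₐ[k] PowerSeries k).comp (c1 k r n hrn))
      ((δ₂ : PowerSeries k →ₐ[k] PowerSeries k).comp (c2 k r n hrn))
      (glueR_hc k r n hrn _ _ h) z

lemma c2_glueR (h2 : (2 : k) ≠ 0) (δ₁ δ₂ : PowerSeries k ≃ₐ[k] PowerSeries k)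
    (h : CongN k n (δ₁ : PowerSeries k →ₐ[k] PowerSeries k) δ₂) (z : ArSing.ring k r) :
    c2 k r n hrn (glueR k r n hrn h2 δ₁ δ₂ h z) = δ₂ (c2 k r n hrn z) :=
  c2_mkHomR k r n hrn h2 ((δ₁ : PowerSeries k →ₐ[k] PowerSeries k).comp (c1 k r n hrn))
      ((δ₂ : PowerSeries k →ₐ[k] PowerSeries k).comp (c2 k r n hrn))
      (glueR_hc k r n hrn _ _ h) z

end branches

end

end Groth.Agent.Lib.Helper4.ArS
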