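import Mathlib
import Groth.Agent.Lib.Helper4.ArSingJ

/-!
# Classification of involutions of `A_r`, `r` odd, `r ≥ 3`
-/

set_option autoImplicit false
set_option linter.style.haveILetI false
set_option linter.unusedSectionVars false
set_option linter.unusedVariables false
set_option linter.unusedSimpArgs false
set_option maxHeartbeats 3200000

universe u

namespace Groth.Agent.Lib.Helper4.ArS

open MvPowerSeries

noncomputable section

variable (k : Type u) [Field k]

theorem odd_invol (r n : ℕ) (hrn : r + 1 = 2 * n) (hn : 2 ≤ n) (h2 : (2 : k) ≠ 0)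
    (σ : ArSing.ring k r ≃ₐ[k] ArSing.ring k r) (hσ : ∀ a, σ (σ a) = a)
    (hne : σ ≠ AlgEquiv.refl) :
    ∃ φ : ArSing.ring k r ≃ₐ[k] ArSing.ring k r,
      (φ.symm (σ (φ (ArSing.x k r))) = ArSing.x k r ∧
        φ.symm (σ (φ (ArSing.y k r))) = -ArSing.y k r) ∨
      (φ.symm (σ (φ (ArSing.x k r))) = -ArSing.x k r ∧
        φ.symm (σ (φ (ArSing.y k r))) = ArSing.y k r) ∨
      (φ.symm (σ (φ (ArSing.x k r))) = -ArSing.x k r ∧
        φ.symm (σ (φ (ArSing.y k r))) = -ArSing.y k r) := by
  have h2B := two_ne_zero_B k h2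
  have hXn : (PowerSeries.X : PowerSeries k) ^ n ≠ 0 := pow_ne_zero n PowerSeries.X_ne_zero
  have huv := u_mul_v k r n hrn
  have hu_ne : ArSing.y k r + ArSing.x k r ^ n ≠ 0 := by
    intro h
    have := congrArg (c1 k r n hrn) h
    rw [c1_u, map_zero] at this
    rcases mul_eq_zero.mp this with h' | h'
    · exact h2B h'
    · exact hXn h'
  have hv_ne : ArSing.y k r - ArSing.x k r ^ n ≠ 0 := by
    intro h
    have := congrArg (c2 k r n hrn) h
    rw [c2_v, map_zero, neg_eq_zero] at this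
    rcases mul_eq_zero.mp this with h' | h'
    · exact h2B h'
    · exact hXn h'
  have hσu_ne : σ (ArSing.y k r + ArSing.x k r ^ n) ≠ 0 :=
    fun h => hu_ne (σ.injective (h.trans (map_zero σ).symm))
  have hσv_ne : σ (ArSing.y k r - ArSing.x k r ^ n) ≠ 0 :=
    fun h => hv_ne (σ.injective (h.trans (map_zero σ).symm))
  have hprod : σ (ArSing.y k r + ArSing.x k r ^ n) * σ (ArSing.y k r - ArSing.x k r ^ n) = 0 := by
    rw [← map_mul, huv, map_zero]
  have hp := congrArg (c1 k r n hrn) hprod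
  have hq := congrArg (c2 k r n hrn) hprod
  rw [map_mul, map_zero] at hp hq
  obtain ⟨g1, hg1⟩ : ∃ g1 : PowerSeries k →ₐ[k] PowerSeries k,
      g1 = ((c1 k r n hrn).comp (σ : ArSing.ring k r →ₐ[k] ArSing.ring k r)).comp
        (ArSing.xMap k r) := ⟨_, rfl⟩
  obtain ⟨g2, hg2⟩ : ∃ g2 : PowerSeries k →ₐ[k] PowerSeries k,
      g2 = ((c2 k r n hrn).comp (σ : ArSing.ring k r →ₐ[k] ArSing.ring k r)).comp
        (ArSing.xMap k r) := ⟨_, rfl⟩
  have hg1a : ∀ f, g1 f = c1 k r n hrn (σ (ArSing.xMap k r f)) := fun f => by rw [hg1]; rfl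
  have hg2a : ∀ f, g2 f = c2 k r n hrn (σ (ArSing.xMap k r f)) := fun f => by rw [hg2]; rfl
  have hcong : CongN k n g1 g2 := fun f => by
    rw [hg1a, hg2a]
    exact cr_cong k r n hrn _
  by_cases hp0 : c1 k r n hrn (σ (ArSing.y k r + ArSing.x k r ^ n)) = 0
  · -- branch-swapping case
    have hq0 : c2 k r n hrn (σ (ArSing.y k r + ArSing.x k r ^ n)) ≠ 0 :=
      fun h => hσu_ne (cr_inj k r n hrn h2 (by rw [hp0, map_zero]) (by rw [h, map_zero]))
    have hq' : c2 k r n hrn (σ (ArSing.y k r - ArSing.x k r ^ n)) = 0 :=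
      (mul_eq_zero.mp hq).resolve_left hq0
    have H1 : ∀ z, c1 k r n hrn (σ z) = g1 (c2 k r n hrn z) := by
      intro z
      obtain ⟨w, hw⟩ := ker_c2 k r n hrn (z - ArSing.xMap k r (c2 k r n hrn z))
        (by rw [map_sub, c2_xMap, sub_self])
      have hz : z = ArSing.xMap k r (c2 k r n hrn z) +
          (ArSing.y k r + ArSing.x k r ^ n) * w := by
        rw [← hw]; ring
      conv_lhs => rw [hz]
      rw [map_add, map_mul, map_add, map_mul, hp0, zero_mul, add_zero, hg1a]
    have H2 : ∀ z, c2 k r n hrn (σ z) = g2 (c1 k r n hrn z) := by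
      intro z
      obtain ⟨w, hw⟩ := ker_c1 k r n hrn (z - ArSing.xMap k r (c1 k r n hrn z))
        (by rw [map_sub, c1_xMap, sub_self])
      have hz : z = ArSing.xMap k r (c1 k r n hrn z) +
          (ArSing.y k r - ArSing.x k r ^ n) * w := by
        rw [← hw]; ring
      conv_lhs => rw [hz]
      rw [map_add, map_mul, map_add, map_mul, hq', zero_mul, add_zero, hg2a]
    have h12 : ∀ f, g1 (g2 f) = f := by
      intro f
      have := H1 (σ (ArSing.xMap k r f))
      rw [hσ, c1_xMap, ← hg2a] at this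
      exact this.symm
    have h21 : ∀ f, g2 (g1 f) = f := by
      intro f
      have := H2 (σ (ArSing.xMap k r f))
      rw [hσ, c2_xMap, ← hg1a] at this
      exact this.symm
    obtain ⟨γ, hγ⟩ : ∃ γ : PowerSeries k ≃ₐ[k] PowerSeries k, ∀ f, γ f = g1 f :=
      ⟨AlgEquiv.ofAlgHom g1 g2 (AlgHom.ext h12) (AlgHom.ext h21), fun f => rfl⟩
    have hkey : PowerSeries.X ^ n ∣ g1 (g1 PowerSeries.X) - PowerSeries.X := by
      have := X_pow_dvd_algHom k n g1 (hcong PowerSeries.X)
      rw [map_sub, h12] at this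
      exact this
    by_cases h1 : PowerSeries.coeff 1 (Tm k g1) = 0
    · have h1p := coeff_one_Tp_of k h2 g1 h1
      obtain ⟨ε, hεX⟩ : ∃ ε : PowerSeries k ≃ₐ[k] PowerSeries k, ε PowerSeries.X = Tp k g1 :=
        ⟨substEquiv k (Tp k g1) (constantCoeff_Tp k g1) h1p, substEquiv_X k _ _ _⟩
      have hδ : CongN k n ((ε.trans γ : PowerSeries k ≃ₐ[k] PowerSeries k) :
          PowerSeries k →ₐ[k] PowerSeries k) ε := by
        apply congN_of_X
        show PowerSeries.X ^ n ∣ γ (ε PowerSeries.X) - ε PowerSeries.X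
        rw [hεX, hγ]
        have e : g1 (Tp k g1) - Tp k g1 =
            PowerSeries.C (2⁻¹ : k) * (g1 (g1 PowerSeries.X) - PowerSeries.X) := by
          rw [Tp, map_mul, algHom_C, map_add]; ring
        rw [e]
        exact Dvd.dvd.mul_left hkey _
      refine ⟨glueR k r n hrn h2 (ε.trans γ) ε hδ, Or.inl ⟨?_, ?_⟩⟩
      · rw [AlgEquiv.symm_apply_eq]
        apply cr_inj k r n hrn h2
        · rw [H1]
          simp only [c1_glueR, c2_glueR, c1_x, c2_x, c1_y, c2_y, AlgEquiv.trans_apply, hγ, h21,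
            h12, map_neg, neg_neg, map_pow]
        · rw [H2]
          simp only [c1_glueR, c2_glueR, c1_x, c2_x, c1_y, c2_y, AlgEquiv.trans_apply, hγ, h21,
            h12, map_neg, neg_neg, map_pow]
      · rw [AlgEquiv.symm_apply_eq]
        apply cr_inj k r n hrn h2
        · rw [H1]
          simp only [c1_glueR, c2_glueR, c1_x, c2_x, c1_y, c2_y, AlgEquiv.trans_apply, hγ, h21,
            h12, map_neg, neg_neg, map_pow]
        · rw [H2]
          simp only [c1_glueR, c2_glueR, c1_x, c2_x, c1_y, c2_y, AlgEquiv.trans_apply, hγ, h21,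
            h12, map_neg, neg_neg, map_pow]
    · obtain ⟨ε, hεX⟩ : ∃ ε : PowerSeries k ≃ₐ[k] PowerSeries k, ε PowerSeries.X = Tm k g1 :=
        ⟨substEquiv k (Tm k g1) (constantCoeff_Tm k g1) h1, substEquiv_X k _ _ _⟩
      have hδ : CongN k n (((negXEquiv k).trans (ε.trans γ) :
          PowerSeries k ≃ₐ[k] PowerSeries k) : PowerSeries k →ₐ[k] PowerSeries k) ε := by
        apply congN_of_X
        show PowerSeries.X ^ n ∣ γ (ε (negX k PowerSeries.X)) - ε PowerSeries.X
        rw [negX_X, map_neg, hεX, hγ, map_neg]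
        have e : -g1 (Tm k g1) - Tm k g1 =
            PowerSeries.C (2⁻¹ : k) * (g1 (g1 PowerSeries.X) - PowerSeries.X) := by
          rw [Tm, map_mul, algHom_C, map_sub]; ring
        rw [e]
        exact Dvd.dvd.mul_left hkey _
      rcases Nat.even_or_odd n with hev | hodd
      · refine ⟨glueR k r n hrn h2 ((negXEquiv k).trans (ε.trans γ)) ε hδ,
          Or.inr (Or.inr ⟨?_, ?_⟩)⟩
        · rw [AlgEquiv.symm_apply_eq]
          apply cr_inj k r n hrn h2
          · rw [H1]
            simp only [c1_glueR, c2_glueR, c1_x, c2_x, c1_y, c2_y, AlgEquiv.trans_apply,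
              negXEquiv_apply, hγ, h21, h12, map_neg, neg_neg, map_pow, negX_X, hev.neg_pow]
          · rw [H2]
            simp only [c1_glueR, c2_glueR, c1_x, c2_x, c1_y, c2_y, AlgEquiv.trans_apply,
              negXEquiv_apply, hγ, h21, h12, map_neg, neg_neg, map_pow, negX_X, hev.neg_pow]
        · rw [AlgEquiv.symm_apply_eq]
          apply cr_inj k r n hrn h2
          · rw [H1]
            simp only [c1_glueR, c2_glueR, c1_x, c2_x, c1_y, c2_y, AlgEquiv.trans_apply,
              negXEquiv_apply, hγ, h21, h12, map_neg, neg_neg, map_pow, negX_X, hev.neg_pow]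
          · rw [H2]
            simp only [c1_glueR, c2_glueR, c1_x, c2_x, c1_y, c2_y, AlgEquiv.trans_apply,
              negXEquiv_apply, hγ, h21, h12, map_neg, neg_neg, map_pow, negX_X, hev.neg_pow]
      · refine ⟨glueR k r n hrn h2 ((negXEquiv k).trans (ε.trans γ)) ε hδ,
          Or.inr (Or.inl ⟨?_, ?_⟩)⟩
        · rw [AlgEquiv.symm_apply_eq]
          apply cr_inj k r n hrn h2
          · rw [H1]
            simp only [c1_glueR, c2_glueR, c1_x, c2_x, c1_y, c2_y, AlgEquiv.trans_apply,
              negXEquiv_apply, hγ, h21, h12, map_neg, neg_neg, map_pow, negX_X, hodd.neg_pow]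
          · rw [H2]
            simp only [c1_glueR, c2_glueR, c1_x, c2_x, c1_y, c2_y, AlgEquiv.trans_apply,
              negXEquiv_apply, hγ, h21, h12, map_neg, neg_neg, map_pow, negX_X, hodd.neg_pow]
        · rw [AlgEquiv.symm_apply_eq]
          apply cr_inj k r n hrn h2
          · rw [H1]
            simp only [c1_glueR, c2_glueR, c1_x, c2_x, c1_y, c2_y, AlgEquiv.trans_apply,
              negXEquiv_apply, hγ, h21, h12, map_neg, neg_neg, map_pow, negX_X, hodd.neg_pow]
          · rw [H2]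
            simp only [c1_glueR, c2_glueR, c1_x, c2_x, c1_y, c2_y, AlgEquiv.trans_apply,
              negXEquiv_apply, hγ, h21, h12, map_neg, neg_neg, map_pow, negX_X, hodd.neg_pow]
  · -- branch-preserving case
    have hp' : c1 k r n hrn (σ (ArSing.y k r - ArSing.x k r ^ n)) = 0 :=
      (mul_eq_zero.mp hp).resolve_left hp0
    have hq0' : c2 k r n hrn (σ (ArSing.y k r - ArSing.x k r ^ n)) ≠ 0 :=
      fun h => hσv_ne (cr_inj k r n hrn h2 (by rw [hp', map_zero]) (by rw [h, map_zero]))
    have hq0 : c2 k r n hrn (σ (ArSing.y k r + ArSing.x k r ^ n)) = 0 :=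
      (mul_eq_zero.mp hq).resolve_right hq0'
    have H1 : ∀ z, c1 k r n hrn (σ z) = g1 (c1 k r n hrn z) := by
      intro z
      obtain ⟨w, hw⟩ := ker_c1 k r n hrn (z - ArSing.xMap k r (c1 k r n hrn z))
        (by rw [map_sub, c1_xMap, sub_self])
      have hz : z = ArSing.xMap k r (c1 k r n hrn z) +
          (ArSing.y k r - ArSing.x k r ^ n) * w := by
        rw [← hw]; ring
      conv_lhs => rw [hz]
      rw [map_add, map_mul, map_add, map_mul, hp', zero_mul, add_zero, hg1a]
    have H2 : ∀ z, c2 k r n hrn (σ z) = g2 (c2 k r n hrn z) := by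
      intro z
      obtain ⟨w, hw⟩ := ker_c2 k r n hrn (z - ArSing.xMap k r (c2 k r n hrn z))
        (by rw [map_sub, c2_xMap, sub_self])
      have hz : z = ArSing.xMap k r (c2 k r n hrn z) +
          (ArSing.y k r + ArSing.x k r ^ n) * w := by
        rw [← hw]; ring
      conv_lhs => rw [hz]
      rw [map_add, map_mul, map_add, map_mul, hq0, zero_mul, add_zero, hg2a]
    have hg1i : ∀ f, g1 (g1 f) = f := by
      intro f
      have := H1 (σ (ArSing.xMap k r f))
      rw [hσ, c1_xMap, ← hg1a] at this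
      exact this.symm
    have hg2i : ∀ f, g2 (g2 f) = f := by
      intro f
      have := H2 (σ (ArSing.xMap k r f))
      rw [hσ, c2_xMap, ← hg2a] at this
      exact this.symm
    have hT : PowerSeries.X ^ n ∣ Tm k g1 - Tm k g2 := by
      have e : Tm k g1 - Tm k g2 =
          PowerSeries.C (2⁻¹ : k) * (-(g1 PowerSeries.X - g2 PowerSeries.X)) := by
        rw [Tm, Tm]; ring
      rw [e]
      exact Dvd.dvd.mul_left ((dvd_neg).mpr (hcong PowerSeries.X)) _
    have hc1 : PowerSeries.coeff 1 (Tm k g1) = PowerSeries.coeff 1 (Tm k g2) := by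
      have := (PowerSeries.X_pow_dvd_iff.mp hT) 1 (by omega)
      rw [map_sub, sub_eq_zero] at this
      exact this
    by_cases h1 : PowerSeries.coeff 1 (Tm k g1) = 0
    · exfalso
      have h1' : PowerSeries.coeff 1 (Tm k g2) = 0 := hc1 ▸ h1
      have e1 : ∀ f, g1 f = f := by
        have h1p := coeff_one_Tp_of k h2 g1 h1
        have := algHom_substEquiv_of k g1 (AlgHom.id k _) (Tp k g1) (constantCoeff_Tp k g1) h1p
          (by rw [AlgHom.id_apply, substEquiv_X]; exact alg_Tp k g1 hg1i)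
        intro f
        obtain ⟨g, rfl⟩ := (substEquiv k (Tp k g1) (constantCoeff_Tp k g1) h1p).surjective f
        rw [this]; rfl
      have e2 : ∀ f, g2 f = f := by
        have h1p := coeff_one_Tp_of k h2 g2 h1'
        have := algHom_substEquiv_of k g2 (AlgHom.id k _) (Tp k g2) (constantCoeff_Tp k g2) h1p
          (by rw [AlgHom.id_apply, substEquiv_X]; exact alg_Tp k g2 hg2i)
        intro f
        obtain ⟨g, rfl⟩ := (substEquiv k (Tp k g2) (constantCoeff_Tp k g2) h1p).surjective f
        rw [this]; rfl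
      apply hne
      apply AlgEquiv.ext
      intro z
      apply cr_inj k r n hrn h2
      · rw [H1, e1]; rfl
      · rw [H2, e2]; rfl
    · have h1' : PowerSeries.coeff 1 (Tm k g2) ≠ 0 := hc1 ▸ h1
      obtain ⟨ε₁, hε₁X, hε₁⟩ : ∃ ε₁ : PowerSeries k ≃ₐ[k] PowerSeries k,
          ε₁ PowerSeries.X = Tm k g1 ∧ ∀ f, g1 (ε₁ f) = ε₁ (negX k f) :=
        ⟨substEquiv k (Tm k g1) (constantCoeff_Tm k g1) h1, substEquiv_X k _ _ _,
          algHom_substEquiv_of k g1 (negX k) _ _ _
            (by rw [negX_X, map_neg, substEquiv_X]; exact alg_Tm k g1 hg1i)⟩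
      obtain ⟨ε₂, hε₂X, hε₂⟩ : ∃ ε₂ : PowerSeries k ≃ₐ[k] PowerSeries k,
          ε₂ PowerSeries.X = Tm k g2 ∧ ∀ f, g2 (ε₂ f) = ε₂ (negX k f) :=
        ⟨substEquiv k (Tm k g2) (constantCoeff_Tm k g2) h1', substEquiv_X k _ _ _,
          algHom_substEquiv_of k g2 (negX k) _ _ _
            (by rw [negX_X, map_neg, substEquiv_X]; exact alg_Tm k g2 hg2i)⟩
      have hδ : CongN k n (ε₁ : PowerSeries k →ₐ[k] PowerSeries k) ε₂ := by
        apply congN_of_X
        show PowerSeries.X ^ n ∣ ε₁ PowerSeries.X - ε₂ PowerSeries.X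
        rw [hε₁X, hε₂X]
        exact hT
      rcases Nat.even_or_odd n with hev | hodd
      · refine ⟨glueR k r n hrn h2 ε₁ ε₂ hδ, Or.inr (Or.inl ⟨?_, ?_⟩)⟩
        · rw [AlgEquiv.symm_apply_eq]
          apply cr_inj k r n hrn h2
          · rw [H1]
            simp only [c1_glueR, c2_glueR, c1_x, c2_x, c1_y, c2_y, hε₁, hε₂, map_neg, neg_neg,
              map_pow, negX_X, hev.neg_pow]
          · rw [H2]
            simp only [c1_glueR, c2_glueR, c1_x, c2_x, c1_y, c2_y, hε₁, hε₂, map_neg, neg_neg,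
              map_pow, negX_X, hev.neg_pow]
        · rw [AlgEquiv.symm_apply_eq]
          apply cr_inj k r n hrn h2
          · rw [H1]
            simp only [c1_glueR, c2_glueR, c1_x, c2_x, c1_y, c2_y, hε₁, hε₂, map_neg, neg_neg,
              map_pow, negX_X, hev.neg_pow]
          · rw [H2]
            simp only [c1_glueR, c2_glueR, c1_x, c2_x, c1_y, c2_y, hε₁, hε₂, map_neg, neg_neg,
              map_pow, negX_X, hev.neg_pow]
      · refine ⟨glueR k r n hrn h2 ε₁ ε₂ hδ, Or.inr (Or.inr ⟨?_, ?_⟩)⟩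
        · rw [AlgEquiv.symm_apply_eq]
          apply cr_inj k r n hrn h2
          · rw [H1]
            simp only [c1_glueR, c2_glueR, c1_x, c2_x, c1_y, c2_y, hε₁, hε₂, map_neg, neg_neg,
              map_pow, negX_X, hodd.neg_pow]
          · rw [H2]
            simp only [c1_glueR, c2_glueR, c1_x, c2_x, c1_y, c2_y, hε₁, hε₂, map_neg, neg_neg,
              map_pow, negX_X, hodd.neg_pow]
        · rw [AlgEquiv.symm_apply_eq]
          apply cr_inj k r n hrn h2
          · rw [H1]
            simp only [c1_glueR, c2_glueR, c1_x, c2_x, c1_y, c2_y, hε₁, hε₂, map_neg, neg_neg,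
              map_pow, negX_X, hodd.neg_pow]
          · rw [H2]
            simp only [c1_glueR, c2_glueR, c1_x, c2_x, c1_y, c2_y, hε₁, hε₂, map_neg, neg_neg,
              map_pow, negX_X, hodd.neg_pow]

end

end Groth.Agent.Lib.Helper4.ArS
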