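import Mathlib
import Groth.Agent.Lib.Helper4.ArSingK

/-!
# The parametrisation `x ↦ t^2`, `y ↦ t^(r+1)` of `A_r` (injective for even `r`)
and lifting of automorphisms of `k[[t]]`.
-/

set_option autoImplicit false
set_option linter.style.haveILetI false
set_option linter.unusedSectionVars false
set_option linter.unusedVariables false
set_option linter.unusedSimpArgs false
set_option maxHeartbeats 1600000

universe u

namespace Groth.Agent.Lib.Helper4.ArS

open MvPowerSeries

noncomputable section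

variable (k : Type u) [Field k] (r : ℕ)

/-- the parametrisation `x ↦ t^2`, `y ↦ t^(r+1)` -/
def bt : ArSing.ring k r →ₐ[k] PowerSeries k :=
  { toFun := fun z => sq k ((thetaEquiv k r).symm z).1 +
      PowerSeries.X ^ (r + 1) * sq k ((thetaEquiv k r).symm z).2
    map_one' := by
      rw [← theta_one, thetaEquiv_symm_theta]
      simp
    map_mul' := by
      intro z w
      obtain ⟨⟨a, b⟩, rfl⟩ := theta_surj k r z
      obtain ⟨⟨a', b'⟩, rfl⟩ := theta_surj k r w
      rw [theta_mul, thetaEquiv_symm_theta, thetaEquiv_symm_theta, thetaEquiv_symm_theta]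
      simp only [map_add, map_mul, map_pow, sq_X]
      ring
    map_zero' := by
      rw [← theta_zero, thetaEquiv_symm_theta]
      simp
    map_add' := by
      intro z w
      obtain ⟨⟨a, b⟩, rfl⟩ := theta_surj k r z
      obtain ⟨⟨a', b'⟩, rfl⟩ := theta_surj k r w
      rw [← theta_add, thetaEquiv_symm_theta, thetaEquiv_symm_theta, thetaEquiv_symm_theta]
      simp only [Prod.mk_add_mk, map_add]
      ring
    commutes' := by
      intro c
      rw [← xMap_C, ← theta_fst, thetaEquiv_symm_theta]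
      simp [C_eq_algebraMap] }

lemma bt_theta (a b : PowerSeries k) :
    bt k r (theta k r (a, b)) = sq k a + PowerSeries.X ^ (r + 1) * sq k b := by
  show sq k ((thetaEquiv k r).symm (theta k r (a, b))).1 +
    PowerSeries.X ^ (r + 1) * sq k ((thetaEquiv k r).symm (theta k r (a, b))).2 = _
  rw [thetaEquiv_symm_theta]

lemma bt_x : bt k r (ArSing.x k r) = PowerSeries.X ^ 2 := by
  rw [x_eq_theta, bt_theta, map_zero, mul_zero, add_zero, sq_X]

lemma bt_y : bt k r (ArSing.y k r) = PowerSeries.X ^ (r + 1) := by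
  rw [← theta_snd_one, bt_theta, map_zero, map_one, mul_one, zero_add]

lemma bt_negX (z : ArSing.ring k r) :
    PowerSeries.X ^ r ∣ bt k r z - negX k (bt k r z) := by
  obtain ⟨⟨a, b⟩, rfl⟩ := theta_surj k r z
  rw [bt_theta, map_add, map_mul, negX_sq, negX_sq, negX_X_pow]
  exact ⟨(1 - (-1) ^ (r + 1)) * PowerSeries.X * sq k b, by ring⟩

lemma constantCoeff_algHom_x (χ : ArSing.ring k r →ₐ[k] PowerSeries k) :
    PowerSeries.constantCoeff (χ (ArSing.x k r)) = 0 := by
  have := constantCoeff_algHom_X k (χ.comp (ArSing.xMap k r))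
  rw [AlgHom.comp_apply, xMap_X] at this
  exact this

lemma od_dvd_of (m : ℕ) (h2 : (2 : k) ≠ 0) (f : PowerSeries k)
    (hf : PowerSeries.X ^ (2 * m) ∣ f - negX k f) : PowerSeries.X ^ m ∣ od k f := by
  rw [PowerSeries.X_pow_dvd_iff] at hf ⊢
  intro i hi
  have := hf (2 * i + 1) (by omega)
  have e : (-1 : k) ^ (2 * i + 1) = -1 := by rw [pow_succ, pow_mul]; simp
  rw [map_sub, coeff_negX, e] at this
  have h3 : (2 : k) * PowerSeries.coeff (2 * i + 1) f = 0 := by linear_combination this
  rw [od, PowerSeries.coeff_mk]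
  exact (mul_eq_zero.mp h3).resolve_left h2

section even

variable (m : ℕ) (hr : r = 2 * m)

include hr in
lemma X_pow_mul_sq_eq (c : PowerSeries k) :
    PowerSeries.X ^ (r + 1) * sq k c = PowerSeries.X * sq k (PowerSeries.X ^ m * c) := by
  rw [map_mul, map_pow, sq_X, hr]
  ring

include hr in
lemma bt_inj : Function.Injective (bt k r) := by
  intro z w h
  obtain ⟨⟨a, b⟩, rfl⟩ := theta_surj k r z
  obtain ⟨⟨a', b'⟩, rfl⟩ := theta_surj k r w
  rw [bt_theta, bt_theta, X_pow_mul_sq_eq k r m hr, X_pow_mul_sq_eq k r m hr] at h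
  obtain ⟨ha, hb⟩ := sq_add_inj k h
  have hb' : b = b' := mul_left_cancel₀ (pow_ne_zero m (PowerSeries.X_ne_zero (R := k))) hb
  rw [ha, hb']

include hr in
lemma mem_range_bt (h2 : (2 : k) ≠ 0) (f : PowerSeries k)
    (hf : PowerSeries.X ^ r ∣ f - negX k f) : ∃ z, bt k r z = f := by
  rw [hr] at hf
  obtain ⟨c, hc⟩ := od_dvd_of k m h2 f hf
  refine ⟨theta k r (ev k f, c), ?_⟩
  rw [bt_theta, X_pow_mul_sq_eq k r m hr, ← hc]
  exact (eq_sq_ev_add k f).symm

/-- commuting with `negX` modulo `X^r` -/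
def GCond (δ : PowerSeries k →ₐ[k] PowerSeries k) : Prop :=
  ∀ f, PowerSeries.X ^ r ∣ negX k (δ f) - δ (negX k f)

lemma gcond_of_X (δ : PowerSeries k →ₐ[k] PowerSeries k)
    (h : PowerSeries.X ^ r ∣ negX k (δ PowerSeries.X) + δ PowerSeries.X) : GCond k r δ := by
  have := congN_of_X k r ((negX k).comp δ) (δ.comp (negX k))
    (by rw [AlgHom.comp_apply, AlgHom.comp_apply, negX_X, map_neg, sub_neg_eq_add]; exact h)
  intro f
  exact this f

lemma gcond_symm (δ : PowerSeries k ≃ₐ[k] PowerSeries k)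
    (h : GCond k r (δ : PowerSeries k →ₐ[k] PowerSeries k)) :
    GCond k r (δ.symm : PowerSeries k →ₐ[k] PowerSeries k) := by
  intro f
  have e : negX k ((δ.symm : PowerSeries k →ₐ[k] PowerSeries k) f) -
      (δ.symm : PowerSeries k →ₐ[k] PowerSeries k) (negX k f) =
      (δ.symm : PowerSeries k →ₐ[k] PowerSeries k)
        (-(negX k ((δ : PowerSeries k →ₐ[k] PowerSeries k) (δ.symm f)) -
          (δ : PowerSeries k →ₐ[k] PowerSeries k) (negX k (δ.symm f)))) := by
    rw [map_neg, map_sub]
    simp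
  rw [e]
  apply X_pow_dvd_algHom
  exact (dvd_neg).mpr (h (δ.symm f))

section lift

variable (h2 : (2 : k) ≠ 0) (δ : PowerSeries k →ₐ[k] PowerSeries k) (hδ : GCond k r δ)

include hr h2 hδ in
lemma lift_exists (z : ArSing.ring k r) : ∃ w, bt k r w = δ (bt k r z) := by
  apply mem_range_bt k r m hr h2
  have e : δ (bt k r z) - negX k (δ (bt k r z)) =
      δ (bt k r z - negX k (bt k r z)) - (negX k (δ (bt k r z)) - δ (negX k (bt k r z))) := by
    rw [map_sub]; ring
  rw [e]
  exact dvd_sub (X_pow_dvd_algHom k r δ (bt_negX k r z)) (hδ _)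

/-- the lift to `A_r` of an endomorphism of `k[[t]]` -/
def liftFun (z : ArSing.ring k r) : ArSing.ring k r :=
  Classical.choose (lift_exists k r m hr h2 δ hδ z)

lemma bt_liftFun (z : ArSing.ring k r) : bt k r (liftFun k r m hr h2 δ hδ z) = δ (bt k r z) :=
  Classical.choose_spec (lift_exists k r m hr h2 δ hδ z)

/-- the lift to `A_r` of an endomorphism of `k[[t]]` -/
def liftHom : ArSing.ring k r →ₐ[k] ArSing.ring k r :=
  { toFun := liftFun k r m hr h2 δ hδ
    map_one' := bt_inj k r m hr (by rw [bt_liftFun, map_one, map_one])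
    map_mul' := fun z w => bt_inj k r m hr
      (by rw [bt_liftFun, map_mul, map_mul, map_mul, bt_liftFun, bt_liftFun])
    map_zero' := bt_inj k r m hr (by rw [bt_liftFun, map_zero, map_zero])
    map_add' := fun z w => bt_inj k r m hr
      (by rw [bt_liftFun, map_add, map_add, map_add, bt_liftFun, bt_liftFun])
    commutes' := fun c => bt_inj k r m hr
      (by rw [bt_liftFun, AlgHom.commutes, AlgHom.commutes]) }

lemma bt_liftHom (z : ArSing.ring k r) : bt k r (liftHom k r m hr h2 δ hδ z) = δ (bt k r z) :=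
  bt_liftFun k r m hr h2 δ hδ z

end lift

/-- the lift to `A_r` of an automorphism of `k[[t]]` -/
def liftEquiv (h2 : (2 : k) ≠ 0) (δ : PowerSeries k ≃ₐ[k] PowerSeries k)
    (hδ : GCond k r (δ : PowerSeries k →ₐ[k] PowerSeries k)) :
    ArSing.ring k r ≃ₐ[k] ArSing.ring k r :=
  AlgEquiv.ofAlgHom
    (liftHom k r m hr h2 (δ : PowerSeries k →ₐ[k] PowerSeries k) hδ)
    (liftHom k r m hr h2 (δ.symm : PowerSeries k →ₐ[k] PowerSeries k) (gcond_symm k r δ hδ))
    (by
      apply AlgHom.ext
      intro z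
      apply bt_inj k r m hr
      rw [AlgHom.comp_apply, bt_liftHom, bt_liftHom]
      simp)
    (by
      apply AlgHom.ext
      intro z
      apply bt_inj k r m hr
      rw [AlgHom.comp_apply, bt_liftHom, bt_liftHom]
      simp)

lemma bt_liftEquiv (h2 : (2 : k) ≠ 0) (δ : PowerSeries k ≃ₐ[k] PowerSeries k)
    (hδ : GCond k r (δ : PowerSeries k →ₐ[k] PowerSeries k)) (z : ArSing.ring k r) :
    bt k r (liftEquiv k r m hr h2 δ hδ z) = δ (bt k r z) :=
  bt_liftHom k r m hr h2 (δ : PowerSeries k →ₐ[k] PowerSeries k) hδ z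

end even

/-- roots in the normal domain `k[[t]]` -/
lemma exists_root (m : ℕ) (g₂ gs : PowerSeries k) (h : gs ^ 2 = g₂ ^ (2 * m + 1)) (hne : g₂ ≠ 0) :
    ∃ T : PowerSeries k, T ^ 2 = g₂ ∧ T ^ (2 * m + 1) = gs := by
  have hinj := IsFractionRing.injective (PowerSeries k) (FractionRing (PowerSeries k))
  have hne' : algebraMap (PowerSeries k) (FractionRing (PowerSeries k)) g₂ ≠ 0 := by
    intro h0
    exact hne (hinj (h0.trans (map_zero _).symm))
  have hsq : (algebraMap (PowerSeries k) (FractionRing (PowerSeries k)) gs /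
      algebraMap (PowerSeries k) (FractionRing (PowerSeries k)) g₂ ^ m) ^ 2 =
      algebraMap (PowerSeries k) (FractionRing (PowerSeries k)) g₂ := by
    rw [div_pow, ← map_pow, h, map_pow, ← pow_mul, mul_comm m 2, pow_succ]
    field_simp
  obtain ⟨T, hT⟩ := IsIntegrallyClosed.exists_algebraMap_eq_of_isIntegral_pow
    (R := PowerSeries k) (K := FractionRing (PowerSeries k))
    (x := algebraMap (PowerSeries k) (FractionRing (PowerSeries k)) gs /
      algebraMap (PowerSeries k) (FractionRing (PowerSeries k)) g₂ ^ m) (n := 2) two_pos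
    (by rw [hsq]; exact isIntegral_algebraMap)
  refine ⟨T, ?_, ?_⟩
  · apply hinj
    rw [map_pow, hT, hsq]
  · apply hinj
    rw [map_pow, hT, pow_succ, pow_mul, hsq]
    field_simp

end

end Groth.Agent.Lib.Helper4.ArS
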