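import Mathlib
import Groth.Agent.Lib.Helper4.ArSingL

/-!
# Involutions of `A_r`, `r` even
-/

set_option autoImplicit false
set_option linter.style.haveILetI false
set_option linter.unusedSectionVars false
set_option linter.unusedVariables false
set_option linter.unusedSimpArgs false
set_option maxHeartbeats 1600000

universe u

namespace Groth.Agent.Lib.Helper4.ArS

open MvPowerSeries

noncomputable section

variable (k : Type u) [Field k]

theorem even_invol (r m : ℕ) (hr : r = 2 * m) (h2 : (2 : k) ≠ 0)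
    (σ : ArSing.ring k r ≃ₐ[k] ArSing.ring k r) (hσ : ∀ a, σ (σ a) = a)
    (hne : σ ≠ AlgEquiv.refl) :
    ∃ φ : ArSing.ring k r ≃ₐ[k] ArSing.ring k r,
      φ.symm (σ (φ (ArSing.x k r))) = ArSing.x k r ∧
      φ.symm (σ (φ (ArSing.y k r))) = -ArSing.y k r := by
  subst hr
  have h2B := two_ne_zero_B k h2
  have hinj := bt_inj k (2 * m) m rfl
  have hx_ne : ArSing.x k (2 * m) ≠ 0 := by
    intro h
    have := congrArg (bt k (2 * m)) h
    rw [bt_x, map_zero] at this
    exact pow_ne_zero 2 PowerSeries.X_ne_zero this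
  have hg2_ne : bt k (2 * m) (σ (ArSing.x k (2 * m))) ≠ 0 := by
    intro h
    apply hx_ne
    apply σ.injective
    apply hinj
    rw [h, map_zero, map_zero]
  have hrel : bt k (2 * m) (σ (ArSing.y k (2 * m))) ^ 2 =
      bt k (2 * m) (σ (ArSing.x k (2 * m))) ^ (2 * m + 1) := by
    have h1 : ArSing.y k (2 * m) ^ 2 = ArSing.x k (2 * m) ^ (2 * m + 1) := by
      have := y_sq k (2 * m)
      rw [map_pow, xMap_X] at this
      rw [pow_two]
      exact this
    calc bt k (2 * m) (σ (ArSing.y k (2 * m))) ^ 2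
        = bt k (2 * m) (σ (ArSing.y k (2 * m) ^ 2)) := by rw [map_pow, map_pow]
      _ = bt k (2 * m) (σ (ArSing.x k (2 * m) ^ (2 * m + 1))) := by rw [h1]
      _ = _ := by rw [map_pow, map_pow]
  obtain ⟨T, hT2, hTs⟩ := exists_root k m _ _ hrel hg2_ne
  have hT0 : PowerSeries.constantCoeff T = 0 := by
    have := constantCoeff_algHom_x k (2 * m)
      ((bt k (2 * m)).comp (σ : ArSing.ring k (2 * m) →ₐ[k] ArSing.ring k (2 * m)))
    have h3 : PowerSeries.constantCoeff (T ^ 2) = 0 := by rw [hT2]; exact this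
    rw [map_pow] at h3
    exact (pow_eq_zero_iff two_ne_zero).mp h3
  obtain ⟨α, hαX⟩ : ∃ α : PowerSeries k →ₐ[k] PowerSeries k, α PowerSeries.X = T :=
    ⟨PowerSeries.substAlgHom (PowerSeries.HasSubst.of_constantCoeff_zero' hT0),
      PowerSeries.substAlgHom_X _⟩
  have hαbt' : α.comp (bt k (2 * m)) =
      (bt k (2 * m)).comp (σ : ArSing.ring k (2 * m) →ₐ[k] ArSing.ring k (2 * m)) := by
    apply algHom_to_B_ext
    · show α (bt k (2 * m) (ArSing.x k (2 * m))) = bt k (2 * m) (σ (ArSing.x k (2 * m)))
      rw [bt_x, map_pow, hαX, hT2]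
    · show α (bt k (2 * m) (ArSing.y k (2 * m))) = bt k (2 * m) (σ (ArSing.y k (2 * m)))
      rw [bt_y, map_pow, hαX, hTs]
    · show PowerSeries.X ∣ α (bt k (2 * m) (ArSing.x k (2 * m)))
      rw [bt_x, map_pow]
      exact dvd_pow (X_dvd_algHom_X k α) two_ne_zero
  have hαbt : ∀ z, α (bt k (2 * m) z) = bt k (2 * m) (σ z) :=
    fun z => DFunLike.congr_fun hαbt' z
  have hU2 : α (α PowerSeries.X) ^ 2 = PowerSeries.X ^ 2 := by
    have := hαbt (σ (ArSing.x k (2 * m)))
    rw [hσ, ← hαbt, bt_x, map_pow, map_pow] at this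
    exact this
  have hUs : α (α PowerSeries.X) ^ (2 * m + 1) = PowerSeries.X ^ (2 * m + 1) := by
    have := hαbt (σ (ArSing.y k (2 * m)))
    rw [hσ, ← hαbt, bt_y, map_pow, map_pow] at this
    exact this
  have hU : α (α PowerSeries.X) = PowerSeries.X := by
    have h3 : (α (α PowerSeries.X) - PowerSeries.X) * (α (α PowerSeries.X) + PowerSeries.X) = 0 := by
      linear_combination hU2
    rcases mul_eq_zero.mp h3 with h4 | h4
    · exact sub_eq_zero.mp h4
    · exfalso
      have h5 : α (α PowerSeries.X) = -PowerSeries.X := eq_neg_of_add_eq_zero_left h4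
      rw [h5, Odd.neg_pow ⟨m, rfl⟩] at hUs
      have h6 : (2 : PowerSeries k) * PowerSeries.X ^ (2 * m + 1) = 0 := by
        linear_combination -hUs
      rcases mul_eq_zero.mp h6 with h7 | h7
      · exact h2B h7
      · exact pow_ne_zero _ PowerSeries.X_ne_zero h7
  have hαα : ∀ f, α (α f) = f := by
    have : α.comp α = AlgHom.id k (PowerSeries k) := by
      apply algHom_B_ext
      show α (α PowerSeries.X) = PowerSeries.X
      exact hU
    intro f
    exact DFunLike.congr_fun this f
  have hα_ne : ¬ (∀ f, α f = f) := by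
    intro h
    apply hne
    ext z
    apply hinj
    show bt k (2 * m) (σ z) = bt k (2 * m) z
    rw [← hαbt, h]
  have hc1 : PowerSeries.coeff 1 (α PowerSeries.X) ≠ 0 := by
    intro h
    have hd : PowerSeries.X ^ 2 ∣ α PowerSeries.X := by
      rw [PowerSeries.X_pow_dvd_iff]
      intro i hi
      interval_cases i
      · rw [PowerSeries.coeff_zero_eq_constantCoeff_apply]
        exact constantCoeff_algHom_X k α
      · exact h
    have h3 := X_pow_dvd_algHom k 2 α hd
    rw [hU, PowerSeries.X_pow_dvd_iff] at h3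
    have h4 := h3 1 (by norm_num)
    rw [PowerSeries.coeff_one_X] at h4
    exact one_ne_zero h4
  by_cases h1 : PowerSeries.coeff 1 (Tm k α) = 0
  · exfalso
    have h1p := coeff_one_Tp_of k h2 α h1
    have hcomp : α.comp (substEquiv k (Tp k α) (constantCoeff_Tp k α) h1p :
        PowerSeries k →ₐ[k] PowerSeries k) =
        (substEquiv k (Tp k α) (constantCoeff_Tp k α) h1p :
          PowerSeries k →ₐ[k] PowerSeries k) := by
      apply algHom_B_ext
      show α (substEquiv k (Tp k α) (constantCoeff_Tp k α) h1p PowerSeries.X) =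
        substEquiv k (Tp k α) (constantCoeff_Tp k α) h1p PowerSeries.X
      rw [substEquiv_X]
      exact alg_Tp k α hαα
    apply hα_ne
    intro f
    obtain ⟨g, rfl⟩ := (substEquiv k (Tp k α) (constantCoeff_Tp k α) h1p).surjective f
    exact DFunLike.congr_fun hcomp g
  · obtain ⟨ε, hεX⟩ : ∃ ε : PowerSeries k ≃ₐ[k] PowerSeries k, ε PowerSeries.X = Tm k α :=
      ⟨substEquiv k (Tm k α) (constantCoeff_Tm k α) h1, substEquiv_X k _ _ _⟩
    have hαε : ∀ f, α (ε f) = ε (negX k f) := by
      have hcomp : α.comp (ε : PowerSeries k →ₐ[k] PowerSeries k) =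
          (ε : PowerSeries k →ₐ[k] PowerSeries k).comp (negX k) := by
        apply algHom_B_ext
        show α (ε PowerSeries.X) = ε (negX k PowerSeries.X)
        rw [hεX, negX_X, map_neg, hεX]
        exact alg_Tm k α hαα
      intro f
      exact DFunLike.congr_fun hcomp f
    have hE : PowerSeries.X ^ (2 * m) ∣ α PowerSeries.X + negX k (α PowerSeries.X) := by
      have hd := bt_negX k (2 * m) (σ (ArSing.x k (2 * m)))
      rw [← hαbt, bt_x, map_pow] at hd
      have hexp : α PowerSeries.X ^ 2 =
          sq k (ev k (α PowerSeries.X) ^ 2 + PowerSeries.X * od k (α PowerSeries.X) ^ 2) +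
            PowerSeries.X * sq k (2 * ev k (α PowerSeries.X) * od k (α PowerSeries.X)) := by
        conv_lhs => rw [eq_sq_ev_add k (α PowerSeries.X)]
        simp only [map_add, map_mul, map_pow, sq_X, map_ofNat]
        ring
      have hod := od_dvd_of k m h2 _ hd
      rw [hexp, od_sq_add] at hod
      have hu : IsUnit (2 * od k (α PowerSeries.X)) := by
        rw [PowerSeries.isUnit_iff_constantCoeff, map_mul, isUnit_iff_ne_zero]
        have h3 : PowerSeries.constantCoeff (od k (α PowerSeries.X)) =
            PowerSeries.coeff 1 (α PowerSeries.X) := by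
          rw [← PowerSeries.coeff_zero_eq_constantCoeff_apply, od, PowerSeries.coeff_mk]
        have h22 : PowerSeries.constantCoeff (2 : PowerSeries k) = 2 := map_ofNat _ 2
        rw [h22, h3]
        exact mul_ne_zero h2 hc1
      have hev : PowerSeries.X ^ m ∣ ev k (α PowerSeries.X) := by
        have e : 2 * ev k (α PowerSeries.X) * od k (α PowerSeries.X) =
            ev k (α PowerSeries.X) * (2 * od k (α PowerSeries.X)) := by ring
        rw [e] at hod
        exact (hu.dvd_mul_right).mp hod
      obtain ⟨c, hc⟩ := hev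
      have e1 := eq_sq_ev_add k (α PowerSeries.X)
      have e2 := negX_decomp k (α PowerSeries.X)
      have e3 : α PowerSeries.X + negX k (α PowerSeries.X) =
          2 * sq k (ev k (α PowerSeries.X)) := by
        linear_combination e1 + e2
      rw [e3, hc, map_mul, map_pow, sq_X]
      exact ⟨2 * sq k c, by ring⟩
    have hG : GCond k (2 * m) (ε : PowerSeries k →ₐ[k] PowerSeries k) := by
      apply gcond_of_X
      show PowerSeries.X ^ (2 * m) ∣ negX k (ε PowerSeries.X) + ε PowerSeries.X
      rw [hεX]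
      have e : negX k (Tm k α) + Tm k α =
          -(PowerSeries.C (2⁻¹ : k) * (α PowerSeries.X + negX k (α PowerSeries.X))) := by
        rw [Tm, map_mul, algHom_C, map_sub, negX_X]
        ring
      rw [e]
      exact (dvd_neg).mpr (Dvd.dvd.mul_left hE _)
    refine ⟨liftEquiv k (2 * m) m rfl h2 ε hG, ?_, ?_⟩
    · rw [AlgEquiv.symm_apply_eq]
      apply hinj
      rw [← hαbt, bt_liftEquiv, hαε, bt_x, negX_X_pow]
      simp
    · rw [AlgEquiv.symm_apply_eq]
      apply hinj
      rw [← hαbt, bt_liftEquiv, hαε, bt_liftEquiv, map_neg, bt_y, negX_X_pow,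
        Odd.neg_one_pow ⟨m, rfl⟩]
      simp

end

end Groth.Agent.Lib.Helper4.ArS
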