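import Mathlib
import Groth.Agent.Lib.Helper4.ArSingM

/-!
# `k[[x,y]]`: order filtration, the ideal `(x,y)`, and quotients by one element
-/

set_option autoImplicit false
set_option linter.style.haveILetI false
set_option linter.unusedSectionVars false
set_option linter.unusedVariables false
set_option linter.unusedSimpArgs false
set_option maxHeartbeats 1600000

universe u

namespace Groth.Agent.Lib.Helper4.ArS

open MvPowerSeries

noncomputable section

variable (k : Type u) [Field k]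

lemma degree_mon (i j : ℕ) : Finsupp.degree (mon i j) = i + j := by
  rw [mon, map_add, Finsupp.degree_single, Finsupp.degree_single]

lemma degree_eq (m : Fin 2 →₀ ℕ) : Finsupp.degree m = m 0 + m 1 := by
  conv_lhs => rw [eq_mon m]
  exact degree_mon _ _

lemma mon_zero_zero : mon 0 0 = 0 := by
  ext t; fin_cases t <;> simp [mon]

/-- the ideal `(x, y)` -/
def MM : Ideal (MvPowerSeries (Fin 2) k) := Ideal.span {X 0, X 1}

/-- series of order at least `j` -/
def OO (j : ℕ) : Ideal (MvPowerSeries (Fin 2) k) where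
  carrier := {U | (j : ℕ∞) ≤ U.order}
  add_mem' := fun {a b} ha hb => le_trans (le_min ha hb) min_order_le_add
  zero_mem' := by simp [order_zero]
  smul_mem' := fun c {U} hU => by
    show (j : ℕ∞) ≤ (c * U).order
    exact le_trans (le_trans hU le_add_self) le_order_mul

lemma mem_OO (j : ℕ) (U : MvPowerSeries (Fin 2) k) : U ∈ OO k j ↔ (j : ℕ∞) ≤ U.order := Iff.rfl

lemma one_le_order_iff (U : MvPowerSeries (Fin 2) k) :
    ((1 : ℕ) : ℕ∞) ≤ U.order ↔ constantCoeff U = 0 := by
  rw [Nat.cast_one]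
  exact one_le_order_iff_constCoeff_eq_zero

lemma X_mem_OO_one (i : Fin 2) : (X i : MvPowerSeries (Fin 2) k) ∈ OO k 1 :=
  (one_le_order_iff k _).mpr (constantCoeff_X i)

lemma X0_mem_MM : (X 0 : MvPowerSeries (Fin 2) k) ∈ MM k := Ideal.subset_span (by simp)

lemma X1_mem_MM : (X 1 : MvPowerSeries (Fin 2) k) ∈ MM k := Ideal.subset_span (by simp)

lemma MM_le_OO : MM k ≤ OO k 1 := by
  rw [MM, Ideal.span_le]
  rintro z (rfl | rfl)
  · exact X_mem_OO_one k 0
  · exact X_mem_OO_one k 1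

lemma OO_mul_le (i j : ℕ) : OO k i * OO k j ≤ OO k (i + j) := by
  rw [Ideal.mul_le]
  intro a ha b hb
  show ((i + j : ℕ) : ℕ∞) ≤ (a * b).order
  rw [Nat.cast_add]
  exact le_trans (add_le_add ha hb) le_order_mul

lemma MM_pow_le (j : ℕ) : MM k ^ j ≤ OO k j := by
  induction j with
  | zero =>
    intro z _
    show ((0 : ℕ) : ℕ∞) ≤ z.order
    simp
  | succ j ih =>
    rw [pow_succ]
    exact le_trans (Ideal.mul_mono ih (MM_le_OO k)) (OO_mul_le k j 1)

/-- the part of `U` not involving `y` -/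
def noY (U : MvPowerSeries (Fin 2) k) : MvPowerSeries (Fin 2) k :=
  fun d => if d 1 = 0 then coeff d U else 0

lemma coeff_noY (U : MvPowerSeries (Fin 2) k) (d : Fin 2 →₀ ℕ) :
    coeff d (noY k U) = if d 1 = 0 then coeff d U else 0 := rfl

lemma X1_dvd_sub_noY (U : MvPowerSeries (Fin 2) k) :
    (X 1 : MvPowerSeries (Fin 2) k) ∣ U - noY k U := by
  rw [X_dvd_iff]
  intro m hm
  rw [map_sub, coeff_noY, if_pos hm, sub_self]

lemma X0_pow_dvd_noY (U : MvPowerSeries (Fin 2) k) (j : ℕ) (hU : (j : ℕ∞) ≤ U.order) :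
    (X 0 : MvPowerSeries (Fin 2) k) ^ j ∣ noY k U := by
  rw [X_pow_dvd_iff]
  intro m hm
  rw [coeff_noY]
  split_ifs with h1
  · apply coeff_of_lt_order
    have hd : Finsupp.degree m = m 0 := by rw [degree_eq, h1, add_zero]
    rw [hd]
    exact lt_of_lt_of_le (by exact_mod_cast hm) hU
  · rfl

lemma mem_MM_iff (U : MvPowerSeries (Fin 2) k) : U ∈ MM k ↔ constantCoeff U = 0 := by
  constructor
  · intro h
    exact (one_le_order_iff k U).mp (MM_le_OO k h)
  · intro h
    obtain ⟨A, hA⟩ := X0_pow_dvd_noY k U 1 ((one_le_order_iff k U).mpr h)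
    obtain ⟨B, hB⟩ := X1_dvd_sub_noY k U
    have hU : U = X 0 * A + X 1 * B := by linear_combination hB + hA
    rw [hU]
    exact add_mem (Ideal.mul_mem_right _ _ (X0_mem_MM k)) (Ideal.mul_mem_right _ _ (X1_mem_MM k))

lemma mem_MM_sq_of_order (U : MvPowerSeries (Fin 2) k) (hU : ((2 : ℕ) : ℕ∞) ≤ U.order) :
    U ∈ MM k ^ 2 := by
  obtain ⟨A, hA⟩ := X0_pow_dvd_noY k U 2 hU
  obtain ⟨B, hB⟩ := X1_dvd_sub_noY k U
  have hUeq : U = X 0 ^ 2 * A + X 1 * B := by linear_combination hB + hA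
  have hB0 : constantCoeff B = 0 := by
    have h1 : coeff (mon 0 1) U = 0 := by
      apply coeff_of_lt_order
      rw [degree_mon]
      exact lt_of_lt_of_le (by exact_mod_cast (by norm_num : (0 + 1 : ℕ) < 2)) hU
    rw [hUeq, map_add] at h1
    have e1 : coeff (mon 0 1) (X 0 ^ 2 * A) = 0 := by
      rw [mul_comm, coeff_mul_x_pow, if_neg (by norm_num)]
    have e2 : coeff (mon 0 1) (X 1 * B) = coeff (mon 0 0) B := by
      have := coeff_mul_y_pow B 1 0 1
      rw [pow_one] at this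
      rw [mul_comm, this, if_pos le_rfl]
    rw [e1, e2, zero_add, mon_zero_zero, coeff_zero_eq_constantCoeff_apply] at h1
    exact h1
  rw [hUeq, pow_two (MM k)]
  refine add_mem (Ideal.mul_mem_right _ _ ?_) (Ideal.mul_mem_mul (X1_mem_MM k) ((mem_MM_iff k B).mpr hB0))
  rw [pow_two]
  exact Ideal.mul_mem_mul (X0_mem_MM k) (X0_mem_MM k)

lemma isUnit_iff_cc (U : MvPowerSeries (Fin 2) k) : IsUnit U ↔ constantCoeff U ≠ 0 := by
  rw [MvPowerSeries.isUnit_iff_constantCoeff, isUnit_iff_ne_zero]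

lemma hc0_eq (A : MvPowerSeries (Fin 2) k) :
    homogeneousComponent 0 A = C (constantCoeff A) := by
  ext d
  rw [coeff_homogeneousComponent, coeff_C]
  by_cases hd : d = 0
  · subst hd
    simp
  · rw [if_neg hd, if_neg]
    intro h
    exact hd ((Finsupp.degree_eq_zero_iff d).mp h)

lemma hc1_X (i : Fin 2) :
    homogeneousComponent 1 (X i : MvPowerSeries (Fin 2) k) = X i := by
  ext d
  rw [coeff_homogeneousComponent]
  split_ifs with h
  · rfl
  · rw [coeff_X, if_neg]
    intro hd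
    apply h
    rw [hd, Finsupp.degree_single]

lemma hc1_ne_zero (U : MvPowerSeries (Fin 2) k) (h0 : constantCoeff U = 0)
    (h2 : U ∉ MM k ^ 2) : homogeneousComponent 1 U ≠ 0 := by
  intro h
  apply h2
  apply mem_MM_sq_of_order
  apply nat_le_order
  intro d hd
  have hd' : Finsupp.degree d = 0 ∨ Finsupp.degree d = 1 := by omega
  rcases hd' with h' | h'
  · have : d = 0 := (Finsupp.degree_eq_zero_iff d).mp h'
    rw [this, coeff_zero_eq_constantCoeff_apply]
    exact h0
  · have := congrArg (coeff d) h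
    rw [coeff_homogeneousComponent, if_pos h', map_zero] at this
    exact this

section quot

variable (G : MvPowerSeries (Fin 2) k)

/-- the image of `(x, y)` in `k[[x,y]]/(G)` -/
def IQ : Ideal (MvPowerSeries (Fin 2) k ⧸ Ideal.span {G}) :=
  Ideal.map (Ideal.Quotient.mk (Ideal.span {G})) (MM k)

lemma IQ_pow (j : ℕ) : IQ k G ^ j = Ideal.map (Ideal.Quotient.mk (Ideal.span {G})) (MM k ^ j) := by
  rw [IQ, Ideal.map_pow]

lemma mk_mem_IQ_pow_of (U : MvPowerSeries (Fin 2) k) (j : ℕ) (h : U ∈ MM k ^ j) :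
    Ideal.Quotient.mk (Ideal.span {G}) U ∈ IQ k G ^ j := by
  rw [IQ_pow]
  exact Ideal.mem_map_of_mem _ h

lemma mk_mem_IQ_pow (U : MvPowerSeries (Fin 2) k) (j : ℕ)
    (h : Ideal.Quotient.mk (Ideal.span {G}) U ∈ IQ k G ^ j) :
    ∃ V ∈ MM k ^ j, ∃ A, U = V + G * A := by
  rw [IQ_pow, Ideal.mem_map_iff_of_surjective _ Ideal.Quotient.mk_surjective] at h
  obtain ⟨V, hV, hVU⟩ := h
  rw [Ideal.Quotient.eq, Ideal.mem_span_singleton'] at hVU
  obtain ⟨A, hA⟩ := hVU
  exact ⟨V, hV, -A, by linear_combination hA⟩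

variable (hG : constantCoeff G = 0)

include hG in
lemma mk_mem_IQ_iff (U : MvPowerSeries (Fin 2) k) :
    Ideal.Quotient.mk (Ideal.span {G}) U ∈ IQ k G ↔ constantCoeff U = 0 := by
  constructor
  · intro h
    have h' : Ideal.Quotient.mk (Ideal.span {G}) U ∈ IQ k G ^ 1 := by rw [pow_one]; exact h
    obtain ⟨V, hV, A, hA⟩ := mk_mem_IQ_pow k G U 1 h'
    rw [pow_one] at hV
    rw [hA, map_add, map_mul, hG, zero_mul, add_zero]
    exact (mem_MM_iff k V).mp hV
  · intro h
    exact Ideal.mem_map_of_mem _ ((mem_MM_iff k U).mpr h)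

include hG in
lemma isUnit_mk_iff (U : MvPowerSeries (Fin 2) k) :
    IsUnit (Ideal.Quotient.mk (Ideal.span {G}) U) ↔ constantCoeff U ≠ 0 := by
  constructor
  · intro hu h0
    have hmem := (mk_mem_IQ_iff k G hG U).mpr h0
    have htop := Ideal.eq_top_of_isUnit_mem _ hmem hu
    have h1 : Ideal.Quotient.mk (Ideal.span {G}) 1 ∈ IQ k G := by
      rw [htop]; exact Submodule.mem_top
    have := (mk_mem_IQ_iff k G hG 1).mp h1
    rw [map_one] at this
    exact one_ne_zero this
  · intro h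
    exact ((isUnit_iff_cc k U).mpr h).map _

include hG in
lemma mem_IQ_iff_not_isUnit (z : MvPowerSeries (Fin 2) k ⧸ Ideal.span {G}) :
    z ∈ IQ k G ↔ ¬ IsUnit z := by
  obtain ⟨U, rfl⟩ := Ideal.Quotient.mk_surjective z
  rw [mk_mem_IQ_iff k G hG, isUnit_mk_iff k G hG, not_not]

end quot

section transport

variable (F G : MvPowerSeries (Fin 2) k) (hF : constantCoeff F = 0) (hG : constantCoeff G = 0)
  (e : (MvPowerSeries (Fin 2) k ⧸ Ideal.span {F}) ≃+* (MvPowerSeries (Fin 2) k ⧸ Ideal.span {G}))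

include hF hG in
lemma IQ_map : Ideal.map (e : (MvPowerSeries (Fin 2) k ⧸ Ideal.span {F}) →+*
    (MvPowerSeries (Fin 2) k ⧸ Ideal.span {G})) (IQ k F) = IQ k G := by
  apply le_antisymm
  · rw [Ideal.map_le_iff_le_comap]
    intro z hz
    rw [Ideal.mem_comap, mem_IQ_iff_not_isUnit k G hG]
    rw [mem_IQ_iff_not_isUnit k F hF] at hz
    intro hu
    apply hz
    have := hu.map e.symm
    simpa using this
  · intro w hw
    have hz : e.symm w ∈ IQ k F := by
      rw [mem_IQ_iff_not_isUnit k F hF]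
      rw [mem_IQ_iff_not_isUnit k G hG] at hw
      intro hu
      apply hw
      have := hu.map e
      simpa using this
    have := Ideal.mem_map_of_mem (e : (MvPowerSeries (Fin 2) k ⧸ Ideal.span {F}) →+*
      (MvPowerSeries (Fin 2) k ⧸ Ideal.span {G})) hz
    simpa using this

include hF hG in
lemma IQ_mem_map (z : MvPowerSeries (Fin 2) k ⧸ Ideal.span {F}) (hz : z ∈ IQ k F) :
    e z ∈ IQ k G := by
  rw [← IQ_map k F G hF hG e]
  exact Ideal.mem_map_of_mem _ hz

include hF hG in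
lemma IQ_pow_map (j : ℕ) (z : MvPowerSeries (Fin 2) k ⧸ Ideal.span {F}) (hz : z ∈ IQ k F ^ j) :
    e z ∈ IQ k G ^ j := by
  rw [← IQ_map k F G hF hG e, ← Ideal.map_pow]
  exact Ideal.mem_map_of_mem _ hz

end transport

end

end Groth.Agent.Lib.Helper4.ArS
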