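import Mathlib
import Groth.Agent.Lib.Helper4.ArSingN

/-!
# A series of order `≥ 3` does not define an `A_n` singularity or a double line
-/

set_option autoImplicit false
set_option linter.style.haveILetI false
set_option linter.unusedSectionVars false
set_option linter.unusedVariables false
set_option linter.unusedSimpArgs false
set_option maxHeartbeats 1600000

universe u

namespace Groth.Agent.Lib.Helper4.ArS

open MvPowerSeries

noncomputable section

variable (k : Type u) [Field k]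

/-- two non-square non-units with product in the cube of the maximal ideal -/
def Inv (G : MvPowerSeries (Fin 2) k) : Prop :=
  ∃ u v : MvPowerSeries (Fin 2) k ⧸ Ideal.span {G}, u ∈ IQ k G ∧ v ∈ IQ k G ∧
    u ∉ IQ k G ^ 2 ∧ v ∉ IQ k G ^ 2 ∧ u * v ∈ IQ k G ^ 3

/-- the maximal ideal is principal -/
def InvP (G : MvPowerSeries (Fin 2) k) : Prop :=
  ∃ g : MvPowerSeries (Fin 2) k ⧸ Ideal.span {G}, IQ k G = Ideal.span {g}

section transport

variable (F G : MvPowerSeries (Fin 2) k) (hF : constantCoeff F = 0) (hG : constantCoeff G = 0)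
  (e : (MvPowerSeries (Fin 2) k ⧸ Ideal.span {F}) ≃+* (MvPowerSeries (Fin 2) k ⧸ Ideal.span {G}))

include hF hG e in
lemma inv_transport (h : Inv k G) : Inv k F := by
  obtain ⟨u, v, hu, hv, hu2, hv2, huv⟩ := h
  refine ⟨e.symm u, e.symm v, ?_, ?_, ?_, ?_, ?_⟩
  · exact IQ_mem_map k G F hG hF e.symm u hu
  · exact IQ_mem_map k G F hG hF e.symm v hv
  · intro h2
    apply hu2
    have := IQ_pow_map k F G hF hG e 2 _ h2
    simpa using this
  · intro h2
    apply hv2
    have := IQ_pow_map k F G hF hG e 2 _ h2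
    simpa using this
  · rw [← map_mul]
    exact IQ_pow_map k G F hG hF e.symm 3 _ huv

include hF hG e in
lemma invP_transport (h : InvP k G) : InvP k F := by
  obtain ⟨g, hg⟩ := h
  refine ⟨e.symm g, ?_⟩
  rw [← IQ_map k G F hG hF e.symm, hg, Ideal.map_span, Set.image_singleton]
  rfl

end transport

lemma not_inv_of_order (F : MvPowerSeries (Fin 2) k) (hF : ((3 : ℕ) : ℕ∞) ≤ F.order) :
    ¬ Inv k F := by
  have hF0 : constantCoeff F = 0 :=
    (one_le_order_iff k F).mp (le_trans (by exact_mod_cast (by norm_num : (1 : ℕ) ≤ 3)) hF)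
  rintro ⟨u, v, hu, hv, hu2, hv2, huv⟩
  obtain ⟨U, rfl⟩ := Ideal.Quotient.mk_surjective u
  obtain ⟨V, rfl⟩ := Ideal.Quotient.mk_surjective v
  have hU0 := (mk_mem_IQ_iff k F hF0 U).mp hu
  have hV0 := (mk_mem_IQ_iff k F hF0 V).mp hv
  have hU2 : U ∉ MM k ^ 2 := fun h => hu2 (mk_mem_IQ_pow_of k F U 2 h)
  have hV2 : V ∉ MM k ^ 2 := fun h => hv2 (mk_mem_IQ_pow_of k F V 2 h)
  have h1U := hc1_ne_zero k U hU0 hU2
  have h1V := hc1_ne_zero k V hV0 hV2
  rw [← map_mul] at huv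
  obtain ⟨Z, hZ, A, hA⟩ := mk_mem_IQ_pow k F (U * V) 3 huv
  have hord : ((3 : ℕ) : ℕ∞) ≤ (U * V).order := by
    rw [hA]
    exact (mem_OO k 3 _).mp ((OO k 3).add_mem (MM_pow_le k 3 hZ)
      ((OO k 3).mul_mem_right A ((mem_OO k 3 F).mpr hF)))
  have hzero : homogeneousComponent 2 (U * V) = 0 :=
    homogeneousComponent_of_lt_order_eq_zero
      (lt_of_lt_of_le (by exact_mod_cast (by norm_num : (2 : ℕ) < 3)) hord)
  have hmul : homogeneousComponent (1 + 1) (U * V) =
      homogeneousComponent 1 U * homogeneousComponent 1 V :=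
    homogeneousComponent_mul_of_le_order ((one_le_order_iff k U).mpr hU0)
      ((one_le_order_iff k V).mpr hV0)
  rw [show (1 + 1 : ℕ) = 2 from rfl, hzero] at hmul
  exact mul_ne_zero h1U h1V hmul.symm

lemma single_ne : (Finsupp.single (1 : Fin 2) 1 : Fin 2 →₀ ℕ) ≠ Finsupp.single 0 1 := by
  intro h
  have := (Finsupp.single_left_inj (one_ne_zero)).mp h
  exact absurd this (by decide)

lemma not_invP_of_order (F : MvPowerSeries (Fin 2) k) (hF : ((3 : ℕ) : ℕ∞) ≤ F.order) :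
    ¬ InvP k F := by
  have hF0 : constantCoeff F = 0 :=
    (one_le_order_iff k F).mp (le_trans (by exact_mod_cast (by norm_num : (1 : ℕ) ≤ 3)) hF)
  rintro ⟨g, hg⟩
  obtain ⟨W, rfl⟩ := Ideal.Quotient.mk_surjective g
  have hW0 : constantCoeff W = 0 :=
    (mk_mem_IQ_iff k F hF0 W).mp (by rw [hg]; exact Ideal.subset_span (Set.mem_singleton _))
  have key : ∀ T : MvPowerSeries (Fin 2) k, constantCoeff T = 0 →
      ∃ c : k, homogeneousComponent 1 T = C c * homogeneousComponent 1 W := by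
    intro T hT
    have hmem : Ideal.Quotient.mk (Ideal.span {F}) T ∈
        Ideal.span {Ideal.Quotient.mk (Ideal.span {F}) W} := by
      rw [← hg]; exact (mk_mem_IQ_iff k F hF0 T).mpr hT
    obtain ⟨a, ha⟩ := Ideal.mem_span_singleton'.mp hmem
    obtain ⟨A, rfl⟩ := Ideal.Quotient.mk_surjective a
    rw [← map_mul, Ideal.Quotient.eq, Ideal.mem_span_singleton'] at ha
    obtain ⟨B, hB⟩ := ha
    have hT' : T = A * W - B * F := by linear_combination hB
    refine ⟨constantCoeff A, ?_⟩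
    have e1 : homogeneousComponent 1 (B * F) = 0 := by
      apply homogeneousComponent_of_lt_order_eq_zero
      have h3 : ((3 : ℕ) : ℕ∞) ≤ (B * F).order :=
        le_trans (le_trans hF le_add_self) le_order_mul
      exact lt_of_lt_of_le (by exact_mod_cast (by norm_num : (1 : ℕ) < 3)) h3
    have e2 : homogeneousComponent (0 + 1) (A * W) =
        homogeneousComponent 0 A * homogeneousComponent 1 W :=
      homogeneousComponent_mul_of_le_order (by simp) ((one_le_order_iff k W).mpr hW0)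
    rw [zero_add] at e2
    rw [hT', map_sub, e1, sub_zero, e2, hc0_eq]
  obtain ⟨α, hα⟩ := key (X 0) (constantCoeff_X 0)
  obtain ⟨γ, hγ⟩ := key (X 1) (constantCoeff_X 1)
  rw [hc1_X] at hα hγ
  have a1 := congrArg (coeff (Finsupp.single (0 : Fin 2) 1)) hα
  have a2 := congrArg (coeff (Finsupp.single (1 : Fin 2) 1)) hα
  have a3 := congrArg (coeff (Finsupp.single (1 : Fin 2) 1)) hγ
  rw [coeff_C_mul, coeff_X, if_pos rfl] at a1
  rw [coeff_C_mul, coeff_X, if_neg (single_ne)] at a2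
  rw [coeff_C_mul, coeff_X, if_pos rfl] at a3
  have hα0 : α ≠ 0 := by
    intro h
    rw [h, zero_mul] at a1
    exact one_ne_zero a1
  have hL : coeff (Finsupp.single (1 : Fin 2) 1) (homogeneousComponent 1 W) = 0 :=
    (mul_eq_zero.mp a2.symm).resolve_left hα0
  rw [hL, mul_zero] at a3
  exact one_ne_zero a3

lemma not_mem_IQ_sq (G : MvPowerSeries (Fin 2) k) (hG2 : ((2 : ℕ) : ℕ∞) ≤ G.order)
    (U : MvPowerSeries (Fin 2) k) (d : Fin 2 →₀ ℕ) (hd : Finsupp.degree d = 1)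
    (hU : coeff d U ≠ 0) : Ideal.Quotient.mk (Ideal.span {G}) U ∉ IQ k G ^ 2 := by
  intro h
  obtain ⟨V, hV, A, hA⟩ := mk_mem_IQ_pow k G U 2 h
  have hord : ((2 : ℕ) : ℕ∞) ≤ U.order := by
    rw [hA]
    exact (mem_OO k 2 _).mp ((OO k 2).add_mem (MM_pow_le k 2 hV)
      ((OO k 2).mul_mem_right A ((mem_OO k 2 G).mpr hG2)))
  apply hU
  apply coeff_of_lt_order
  rw [hd]
  exact lt_of_lt_of_le (by exact_mod_cast (by norm_num : (1 : ℕ) < 2)) hord

lemma eqn_order (n : ℕ) (hn : 1 ≤ n) : ((2 : ℕ) : ℕ∞) ≤ (ArSing.eqn k n).order := by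
  apply (mem_OO k 2 _).mp
  rw [ArSing.eqn]
  apply (OO k 2).sub_mem
  · exact MM_pow_le k 2 (Ideal.pow_mem_pow (X1_mem_MM k) 2)
  · exact MM_pow_le k 2 (Ideal.pow_le_pow_right (by omega : 2 ≤ n + 1)
      (Ideal.pow_mem_pow (X0_mem_MM k) (n + 1)))

lemma ysq_order : ((2 : ℕ) : ℕ∞) ≤ ((X 1 : MvPowerSeries (Fin 2) k) ^ 2).order :=
  (mem_OO k 2 _).mp (MM_pow_le k 2 (Ideal.pow_mem_pow (X1_mem_MM k) 2))

lemma constantCoeff_eqn (n : ℕ) : constantCoeff (ArSing.eqn k n) = 0 := by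
  simp [ArSing.eqn]

lemma coeff_single1_X1 :
    coeff (Finsupp.single (1 : Fin 2) 1) (X 1 : MvPowerSeries (Fin 2) k) = 1 := by
  rw [coeff_X, if_pos rfl]

lemma coeff_single1_X0 :
    coeff (Finsupp.single (1 : Fin 2) 1) (X 0 : MvPowerSeries (Fin 2) k) = 0 := by
  rw [coeff_X, if_neg single_ne]

lemma inv_eqn_ge2 (n : ℕ) (hn : 2 ≤ n) : Inv k (ArSing.eqn k n) := by
  have h0 := constantCoeff_eqn k n
  have h2 := eqn_order k n (by omega)
  have hy1 := (mk_mem_IQ_iff k _ h0 (X 1)).mpr (constantCoeff_X 1)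
  have hy2 := not_mem_IQ_sq k _ h2 (X 1) (Finsupp.single 1 1) (Finsupp.degree_single _ _)
    (by rw [coeff_single1_X1]; exact one_ne_zero)
  refine ⟨_, _, hy1, hy1, hy2, hy2, ?_⟩
  rw [← map_mul]
  have e : Ideal.Quotient.mk (Ideal.span {ArSing.eqn k n}) (X 1 * X 1) =
      Ideal.Quotient.mk (Ideal.span {ArSing.eqn k n}) (X 0 ^ (n + 1)) := by
    rw [Ideal.Quotient.eq]
    exact Ideal.subset_span (Set.mem_singleton_iff.mpr (by rw [ArSing.eqn]; ring))
  rw [e]
  exact mk_mem_IQ_pow_of k _ _ 3 (Ideal.pow_le_pow_right (by omega : 3 ≤ n + 1)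
    (Ideal.pow_mem_pow (X0_mem_MM k) (n + 1)))

lemma inv_eqn_one : Inv k (ArSing.eqn k 1) := by
  have h0 := constantCoeff_eqn k 1
  have h2 := eqn_order k 1 le_rfl
  refine ⟨Ideal.Quotient.mk _ (X 1 - X 0), Ideal.Quotient.mk _ (X 1 + X 0), ?_, ?_, ?_, ?_, ?_⟩
  · exact (mk_mem_IQ_iff k _ h0 _).mpr (by simp)
  · exact (mk_mem_IQ_iff k _ h0 _).mpr (by simp)
  · apply not_mem_IQ_sq k _ h2 _ (Finsupp.single 1 1) (Finsupp.degree_single _ _)
    rw [map_sub, coeff_single1_X1, coeff_single1_X0, sub_zero]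
    exact one_ne_zero
  · apply not_mem_IQ_sq k _ h2 _ (Finsupp.single 1 1) (Finsupp.degree_single _ _)
    rw [map_add, coeff_single1_X1, coeff_single1_X0, add_zero]
    exact one_ne_zero
  · rw [← map_mul]
    have e : Ideal.Quotient.mk (Ideal.span {ArSing.eqn k 1}) ((X 1 - X 0) * (X 1 + X 0)) = 0 :=
      Ideal.Quotient.eq_zero_iff_mem.mpr
        (Ideal.subset_span (Set.mem_singleton_iff.mpr (by rw [ArSing.eqn]; ring)))
    rw [e]
    exact zero_mem _

lemma inv_ysq : Inv k ((X 1 : MvPowerSeries (Fin 2) k) ^ 2) := by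
  have h0 : constantCoeff ((X 1 : MvPowerSeries (Fin 2) k) ^ 2) = 0 := by simp
  have h2 := ysq_order k
  have hy1 := (mk_mem_IQ_iff k _ h0 (X 1)).mpr (constantCoeff_X 1)
  have hy2 := not_mem_IQ_sq k _ h2 (X 1) (Finsupp.single 1 1) (Finsupp.degree_single _ _)
    (by rw [coeff_single1_X1]; exact one_ne_zero)
  refine ⟨_, _, hy1, hy1, hy2, hy2, ?_⟩
  rw [← map_mul]
  have e : Ideal.Quotient.mk (Ideal.span {(X 1 : MvPowerSeries (Fin 2) k) ^ 2}) (X 1 * X 1) = 0 :=
    Ideal.Quotient.eq_zero_iff_mem.mpr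
      (Ideal.subset_span (Set.mem_singleton_iff.mpr (by ring)))
  rw [e]
  exact zero_mem _

lemma invP_eqn_zero : InvP k (ArSing.eqn k 0) := by
  have h0 := constantCoeff_eqn k 0
  refine ⟨Ideal.Quotient.mk _ (X 1), ?_⟩
  apply le_antisymm
  · rw [IQ, MM, Ideal.map_span, Ideal.span_le]
    rintro z ⟨w, (rfl | rfl), rfl⟩
    · have e : Ideal.Quotient.mk (Ideal.span {ArSing.eqn k 0}) (X 0) =
          Ideal.Quotient.mk (Ideal.span {ArSing.eqn k 0}) (X 1) *
            Ideal.Quotient.mk (Ideal.span {ArSing.eqn k 0}) (X 1) := by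
        rw [← map_mul, Ideal.Quotient.eq]
        exact Ideal.mem_span_singleton'.mpr ⟨-1, by rw [ArSing.eqn]; ring⟩
      show Ideal.Quotient.mk (Ideal.span {ArSing.eqn k 0}) (X 0) ∈ _
      rw [e]
      exact Ideal.mul_mem_left _ _ (Ideal.subset_span (Set.mem_singleton _))
    · exact Ideal.subset_span (Set.mem_singleton _)
  · rw [Ideal.span_le, Set.singleton_subset_iff]
    exact (mk_mem_IQ_iff k _ h0 _).mpr (constantCoeff_X 1)

theorem no_equiv_of_order (F : MvPowerSeries (Fin 2) k) (hF : ((3 : ℕ) : ℕ∞) ≤ F.order) :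
    (∀ n : ℕ, IsEmpty ((MvPowerSeries (Fin 2) k ⧸ Ideal.span {F}) ≃ₐ[k] ArSing.ring k n)) ∧
    IsEmpty ((MvPowerSeries (Fin 2) k ⧸ Ideal.span {F}) ≃ₐ[k]
      (MvPowerSeries (Fin 2) k ⧸ Ideal.span ({X 1 ^ 2} : Set (MvPowerSeries (Fin 2) k)))) := by
  have hF0 : constantCoeff F = 0 :=
    (one_le_order_iff k F).mp (le_trans (by exact_mod_cast (by norm_num : (1 : ℕ) ≤ 3)) hF)
  constructor
  · intro n
    constructor
    intro e
    rcases n with _ | _ | n
    · exact not_invP_of_order k F hF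
        (invP_transport k F _ hF0 (constantCoeff_eqn k 0) e.toRingEquiv (invP_eqn_zero k))
    · exact not_inv_of_order k F hF
        (inv_transport k F _ hF0 (constantCoeff_eqn k 1) e.toRingEquiv (inv_eqn_one k))
    · exact not_inv_of_order k F hF
        (inv_transport k F _ hF0 (constantCoeff_eqn k (n + 2)) e.toRingEquiv
          (inv_eqn_ge2 k (n + 2) (by omega)))
  · constructor
    intro e
    exact not_inv_of_order k F hF
      (inv_transport k F _ hF0 (by simp) e.toRingEquiv (inv_ysq k))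

end

end Groth.Agent.Lib.Helper4.ArS
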