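import Mathlib
import Groth.Agent.Lib.Helper4.ArSingO

/-!
# Substitution automorphisms of `k[[x,y]]` and the relation "same ideal up to automorphism"
-/

set_option autoImplicit false
set_option linter.style.haveILetI false
set_option linter.unusedSectionVars false
set_option linter.unusedVariables false
set_option linter.unusedSimpArgs false
set_option maxHeartbeats 1600000

universe u

namespace Groth.Agent.Lib.Helper4.ArS

open MvPowerSeries

noncomputable section

variable (k : Type u) [Field k]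

lemma hS2 (a b : MvPowerSeries (Fin 2) k) (ha : constantCoeff a = 0) (hb : constantCoeff b = 0) :
    HasSubst (![a, b] : Fin 2 → MvPowerSeries (Fin 2) k) :=
  hasSubst_of_constantCoeff_zero (fun s => by fin_cases s; exacts [ha, hb])

open scoped Classical in
/-- substitution `x ↦ a`, `y ↦ b` -/
def sHom (a b : MvPowerSeries (Fin 2) k) : MvPowerSeries (Fin 2) k →ₐ[k] MvPowerSeries (Fin 2) k :=
  if h : constantCoeff a = 0 ∧ constantCoeff b = 0 then substAlgHom (hS2 k a b h.1 h.2)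
  else AlgHom.id k _

section basic

variable (a b : MvPowerSeries (Fin 2) k) (ha : constantCoeff a = 0) (hb : constantCoeff b = 0)

include ha hb in
lemma sHom_apply (f : MvPowerSeries (Fin 2) k) : sHom k a b f = subst ![a, b] f := by
  rw [sHom, dif_pos ⟨ha, hb⟩, substAlgHom_apply]

include ha hb in
lemma sHom_X0 : sHom k a b (X 0) = a := by
  rw [sHom_apply k a b ha hb, subst_X (hS2 k a b ha hb)]
  rfl

include ha hb in
lemma sHom_X1 : sHom k a b (X 1) = b := by
  rw [sHom_apply k a b ha hb, subst_X (hS2 k a b ha hb)]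
  rfl

include ha hb in
lemma cc_sHom (f : MvPowerSeries (Fin 2) k) (hf : constantCoeff f = 0) :
    constantCoeff (sHom k a b f) = 0 := by
  rw [sHom_apply k a b ha hb]
  exact constantCoeff_subst_eq_zero (hS2 k a b ha hb) (fun i => by fin_cases i; exacts [ha, hb]) hf

include ha hb in
lemma order_sHom (f : MvPowerSeries (Fin 2) k) : f.order ≤ (sHom k a b f).order := by
  rw [sHom_apply k a b ha hb]
  have h1 : (1 : ℕ∞) ≤ ⨅ i, ((![a, b] : Fin 2 → MvPowerSeries (Fin 2) k) i).order := by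
    apply le_iInf
    intro i
    fin_cases i
    · exact one_le_order_iff_constCoeff_eq_zero.mpr ha
    · exact one_le_order_iff_constCoeff_eq_zero.mpr hb
  calc f.order = 1 * f.order := (one_mul _).symm
    _ ≤ (⨅ i, ((![a, b] : Fin 2 → MvPowerSeries (Fin 2) k) i).order) * f.order :=
        mul_le_mul_left h1 _
    _ ≤ _ := le_order_subst (hS2 k a b ha hb) f

end basic

lemma sHom_comp (a b c d : MvPowerSeries (Fin 2) k)
    (ha : constantCoeff a = 0) (hb : constantCoeff b = 0)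
    (hc : constantCoeff c = 0) (hd : constantCoeff d = 0) (f : MvPowerSeries (Fin 2) k) :
    sHom k a b (sHom k c d f) = sHom k (sHom k a b c) (sHom k a b d) f := by
  rw [sHom_apply k c d hc hd f, sHom_apply k a b ha hb (subst ![c, d] f),
    sHom_apply k _ _ (cc_sHom k a b ha hb c hc) (cc_sHom k a b ha hb d hd) f,
    subst_comp_subst_apply (hS2 k c d hc hd) (hS2 k a b ha hb)]
  congr 1
  funext s
  fin_cases s
  · show subst ![a, b] c = sHom k a b c
    rw [sHom_apply k a b ha hb]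
  · show subst ![a, b] d = sHom k a b d
    rw [sHom_apply k a b ha hb]

lemma sHom_id (f : MvPowerSeries (Fin 2) k) : sHom k (X 0) (X 1) f = f := by
  rw [sHom_apply k _ _ (constantCoeff_X 0) (constantCoeff_X 1)]
  have : (![X 0, X 1] : Fin 2 → MvPowerSeries (Fin 2) k) = X := by
    funext s; fin_cases s <;> rfl
  rw [this, subst_self]
  rfl

/-- an automorphism given by mutually inverse substitutions -/
def sEquiv (a b c d : MvPowerSeries (Fin 2) k)
    (ha : constantCoeff a = 0) (hb : constantCoeff b = 0)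
    (hc : constantCoeff c = 0) (hd : constantCoeff d = 0)
    (h1 : sHom k a b c = X 0) (h2 : sHom k a b d = X 1)
    (h3 : sHom k c d a = X 0) (h4 : sHom k c d b = X 1) :
    MvPowerSeries (Fin 2) k ≃ₐ[k] MvPowerSeries (Fin 2) k :=
  AlgEquiv.ofAlgHom (sHom k a b) (sHom k c d)
    (AlgHom.ext fun f => by
      rw [AlgHom.comp_apply, sHom_comp k a b c d ha hb hc hd, h1, h2, sHom_id]; rfl)
    (AlgHom.ext fun f => by
      rw [AlgHom.comp_apply, sHom_comp k c d a b hc hd ha hb, h3, h4, sHom_id]; rfl)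

lemma sEquiv_apply (a b c d : MvPowerSeries (Fin 2) k)
    (ha : constantCoeff a = 0) (hb : constantCoeff b = 0)
    (hc : constantCoeff c = 0) (hd : constantCoeff d = 0)
    (h1 : sHom k a b c = X 0) (h2 : sHom k a b d = X 1)
    (h3 : sHom k c d a = X 0) (h4 : sHom k c d b = X 1) (f : MvPowerSeries (Fin 2) k) :
    sEquiv k a b c d ha hb hc hd h1 h2 h3 h4 f = sHom k a b f := rfl

lemma sepP (z : MvPowerSeries (Fin 2) k)
    (h : ∀ n, (X 0 : MvPowerSeries (Fin 2) k) ^ n ∣ z) : z = 0 := by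
  ext d
  have := (X_pow_dvd_iff.mp (h (d 0 + 1))) d (Nat.lt_succ_self _)
  simpa using this

lemma cc_inc (f : PowerSeries k) :
    constantCoeff (inc k f) = PowerSeries.constantCoeff f := by
  have := coeff_inc k f 0 0
  rw [mon_zero_zero, if_pos rfl, coeff_zero_eq_constantCoeff_apply,
    PowerSeries.coeff_zero_eq_constantCoeff_apply] at this
  exact this

lemma sHom_inc (b : MvPowerSeries (Fin 2) k) (hb : constantCoeff b = 0) (f : PowerSeries k) :
    sHom k (X 0) b (inc k f) = inc k f := by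
  have h0 := sHom_X0 k (X 0) b (constantCoeff_X 0) hb
  have := algHom_eq_of_sep k (X 0 : MvPowerSeries (Fin 2) k) (sepP k)
    ((sHom k (X 0) b).comp (inc k)) (inc k)
    (by rw [AlgHom.comp_apply, inc_X, h0])
    (by rw [AlgHom.comp_apply, inc_X, h0])
  exact DFunLike.congr_fun this f

/-- `F` and `G` generate the same ideal up to an automorphism of `k[[x,y]]` -/
def Rel (F G : MvPowerSeries (Fin 2) k) : Prop :=
  ∃ (φ : MvPowerSeries (Fin 2) k ≃ₐ[k] MvPowerSeries (Fin 2) k) (u : MvPowerSeries (Fin 2) k),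
    IsUnit u ∧ φ F = u * G

lemma Rel.trans {F G H : MvPowerSeries (Fin 2) k} (h1 : Rel k F G) (h2 : Rel k G H) :
    Rel k F H := by
  obtain ⟨φ₁, u₁, hu₁, e₁⟩ := h1
  obtain ⟨φ₂, u₂, hu₂, e₂⟩ := h2
  refine ⟨φ₁.trans φ₂, φ₂ u₁ * u₂, (hu₁.map φ₂).mul hu₂, ?_⟩
  rw [AlgEquiv.trans_apply, e₁, map_mul, e₂, mul_assoc]

lemma Rel.of_eq_mul {F G u : MvPowerSeries (Fin 2) k} (hu : IsUnit u) (h : F = u * G) :
    Rel k F G :=
  ⟨AlgEquiv.refl, u, hu, h⟩

lemma Rel.of_equiv {F G : MvPowerSeries (Fin 2) k}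
    (φ : MvPowerSeries (Fin 2) k ≃ₐ[k] MvPowerSeries (Fin 2) k) (h : φ F = G) : Rel k F G :=
  ⟨φ, 1, isUnit_one, by rw [h, one_mul]⟩

lemma Rel.nonempty_equiv {F G : MvPowerSeries (Fin 2) k} (h : Rel k F G) :
    Nonempty ((MvPowerSeries (Fin 2) k ⧸ Ideal.span {F}) ≃ₐ[k]
      (MvPowerSeries (Fin 2) k ⧸ Ideal.span {G})) := by
  obtain ⟨φ, u, hu, e⟩ := h
  refine ⟨Ideal.quotientEquivAlg _ _ φ ?_⟩
  rw [Ideal.map_span, Set.image_singleton]
  show Ideal.span {G} = Ideal.span {φ F}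
  rw [e, Ideal.span_singleton_mul_left_unit hu]

/-- `y ↦ y - c(x)` -/
def yshiftE (c : PowerSeries k) (hc : PowerSeries.constantCoeff c = 0) :
    MvPowerSeries (Fin 2) k ≃ₐ[k] MvPowerSeries (Fin 2) k :=
  have h0 : constantCoeff (inc k c) = 0 := by rw [cc_inc, hc]
  have hm : constantCoeff (X 1 - inc k c : MvPowerSeries (Fin 2) k) = 0 := by
    rw [map_sub, h0, constantCoeff_X, sub_zero]
  have hp : constantCoeff (X 1 + inc k c : MvPowerSeries (Fin 2) k) = 0 := by
    rw [map_add, h0, constantCoeff_X, add_zero]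
  sEquiv k (X 0) (X 1 - inc k c) (X 0) (X 1 + inc k c) (constantCoeff_X 0) hm
    (constantCoeff_X 0) hp
    (sHom_X0 k _ _ (constantCoeff_X 0) hm)
    (by rw [map_add, sHom_X1 k _ _ (constantCoeff_X 0) hm, sHom_inc k _ hm]; ring)
    (sHom_X0 k _ _ (constantCoeff_X 0) hp)
    (by rw [map_sub, sHom_X1 k _ _ (constantCoeff_X 0) hp, sHom_inc k _ hp]; ring)

lemma yshiftE_X1 (c : PowerSeries k) (hc : PowerSeries.constantCoeff c = 0) :
    yshiftE k c hc (X 1) = X 1 - inc k c := by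
  have h0 : constantCoeff (inc k c) = 0 := by rw [cc_inc, hc]
  have hm : constantCoeff (X 1 - inc k c : MvPowerSeries (Fin 2) k) = 0 := by
    rw [map_sub, h0, constantCoeff_X, sub_zero]
  exact sHom_X1 k _ _ (constantCoeff_X 0) hm

lemma yshiftE_inc (c : PowerSeries k) (hc : PowerSeries.constantCoeff c = 0) (f : PowerSeries k) :
    yshiftE k c hc (inc k f) = inc k f := by
  have h0 : constantCoeff (inc k c) = 0 := by rw [cc_inc, hc]
  have hm : constantCoeff (X 1 - inc k c : MvPowerSeries (Fin 2) k) = 0 := by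
    rw [map_sub, h0, constantCoeff_X, sub_zero]
  exact sHom_inc k _ hm f

/-- `y ↦ w(x) y` -/
def yscaleE (w w' : PowerSeries k) (hw : w * w' = 1) :
    MvPowerSeries (Fin 2) k ≃ₐ[k] MvPowerSeries (Fin 2) k :=
  have h1 : constantCoeff (inc k w * X 1 : MvPowerSeries (Fin 2) k) = 0 := by
    rw [map_mul, constantCoeff_X, mul_zero]
  have h2 : constantCoeff (inc k w' * X 1 : MvPowerSeries (Fin 2) k) = 0 := by
    rw [map_mul, constantCoeff_X, mul_zero]
  have hww : inc k w * inc k w' = 1 := by rw [← map_mul, hw, map_one]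
  sEquiv k (X 0) (inc k w * X 1) (X 0) (inc k w' * X 1) (constantCoeff_X 0) h1
    (constantCoeff_X 0) h2
    (sHom_X0 k _ _ (constantCoeff_X 0) h1)
    (by rw [map_mul, sHom_X1 k _ _ (constantCoeff_X 0) h1, sHom_inc k _ h1]
        linear_combination X 1 * hww)
    (sHom_X0 k _ _ (constantCoeff_X 0) h2)
    (by rw [map_mul, sHom_X1 k _ _ (constantCoeff_X 0) h2, sHom_inc k _ h2]
        linear_combination X 1 * hww)

lemma yscaleE_X1 (w w' : PowerSeries k) (hw : w * w' = 1) :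
    yscaleE k w w' hw (X 1) = inc k w * X 1 := by
  have h1 : constantCoeff (inc k w * X 1 : MvPowerSeries (Fin 2) k) = 0 := by
    rw [map_mul, constantCoeff_X, mul_zero]
  exact sHom_X1 k _ _ (constantCoeff_X 0) h1

lemma yscaleE_inc (w w' : PowerSeries k) (hw : w * w' = 1) (f : PowerSeries k) :
    yscaleE k w w' hw (inc k f) = inc k f := by
  have h1 : constantCoeff (inc k w * X 1 : MvPowerSeries (Fin 2) k) = 0 := by
    rw [map_mul, constantCoeff_X, mul_zero]
  exact sHom_inc k _ h1 f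

lemma cc_aux1 : constantCoeff (X 1 ^ 2 - X 0 : MvPowerSeries (Fin 2) k) = 0 := by simp

lemma cc_aux2 : constantCoeff (X 0 ^ 2 - X 1 : MvPowerSeries (Fin 2) k) = 0 := by simp

/-- `x ↦ y`, `y ↦ y^2 - x` -/
def smoothE : MvPowerSeries (Fin 2) k ≃ₐ[k] MvPowerSeries (Fin 2) k :=
  sEquiv k (X 1) (X 1 ^ 2 - X 0) (X 0 ^ 2 - X 1) (X 0) (constantCoeff_X 1) (cc_aux1 k)
    (cc_aux2 k) (constantCoeff_X 0)
    (by rw [map_sub, map_pow, sHom_X0 k _ _ (constantCoeff_X 1) (cc_aux1 k),
          sHom_X1 k _ _ (constantCoeff_X 1) (cc_aux1 k)]; ring)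
    (sHom_X0 k _ _ (constantCoeff_X 1) (cc_aux1 k))
    (sHom_X1 k _ _ (cc_aux2 k) (constantCoeff_X 0))
    (by rw [map_sub, map_pow, sHom_X0 k _ _ (cc_aux2 k) (constantCoeff_X 0),
          sHom_X1 k _ _ (cc_aux2 k) (constantCoeff_X 0)]; ring)

lemma smoothE_X1 : smoothE k (X 1) = X 1 ^ 2 - X 0 :=
  sHom_X1 k _ _ (constantCoeff_X 1) (cc_aux1 k)

lemma cc_aux3 : constantCoeff (X 0 + X 1 : MvPowerSeries (Fin 2) k) = 0 := by simp

lemma cc_aux4 : constantCoeff (X 0 - X 1 : MvPowerSeries (Fin 2) k) = 0 := by simp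

/-- `x ↦ x + y` -/
def shearE : MvPowerSeries (Fin 2) k ≃ₐ[k] MvPowerSeries (Fin 2) k :=
  sEquiv k (X 0 + X 1) (X 1) (X 0 - X 1) (X 1) (cc_aux3 k) (constantCoeff_X 1)
    (cc_aux4 k) (constantCoeff_X 1)
    (by rw [map_sub, sHom_X0 k _ _ (cc_aux3 k) (constantCoeff_X 1),
          sHom_X1 k _ _ (cc_aux3 k) (constantCoeff_X 1)]; ring)
    (sHom_X1 k _ _ (cc_aux3 k) (constantCoeff_X 1))
    (by rw [map_add, sHom_X0 k _ _ (cc_aux4 k) (constantCoeff_X 1),
          sHom_X1 k _ _ (cc_aux4 k) (constantCoeff_X 1)]; ring)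
    (sHom_X1 k _ _ (cc_aux4 k) (constantCoeff_X 1))

lemma shearE_X0 : shearE k (X 0) = X 0 + X 1 :=
  sHom_X0 k _ _ (cc_aux3 k) (constantCoeff_X 1)

lemma shearE_X1 : shearE k (X 1) = X 1 :=
  sHom_X1 k _ _ (cc_aux3 k) (constantCoeff_X 1)

lemma order_shearE (f : MvPowerSeries (Fin 2) k) : f.order ≤ (shearE k f).order :=
  order_sHom k _ _ (cc_aux3 k) (constantCoeff_X 1) f

lemma cc_shearE (f : MvPowerSeries (Fin 2) k) (hf : constantCoeff f = 0) :
    constantCoeff (shearE k f) = 0 :=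
  cc_sHom k _ _ (cc_aux3 k) (constantCoeff_X 1) f hf

/-- `x ↔ y` -/
def swapE : MvPowerSeries (Fin 2) k ≃ₐ[k] MvPowerSeries (Fin 2) k :=
  renameEquiv k (Equiv.swap (0 : Fin 2) 1)

lemma coeff_swapE (F : MvPowerSeries (Fin 2) k) (i j : ℕ) :
    coeff (mon i j) (swapE k F) = coeff (mon j i) F := by
  have h := coeff_embDomain_rename (R := k) (Equiv.swap (0 : Fin 2) 1).toEmbedding F (mon j i)
  have e : Finsupp.embDomain (Equiv.swap (0 : Fin 2) 1).toEmbedding (mon j i) = mon i j := by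
    rw [mon, Finsupp.embDomain_add, Finsupp.embDomain_single, Finsupp.embDomain_single, mon,
      add_comm]
    rfl
  rw [e] at h
  exact h

end

end Groth.Agent.Lib.Helper4.ArS
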