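import Mathlib
import Groth.Agent.Lib.Helper4.ArSingP

/-!
# Weierstrass preparation in `k[[x,y]]` (order `≤ 2` in `y`), square roots of units in `k[[t]]`
-/

set_option autoImplicit false
set_option linter.style.haveILetI false
set_option linter.unusedSectionVars false
set_option linter.unusedVariables false
set_option linter.unusedSimpArgs false
set_option maxHeartbeats 1600000

universe u

namespace Groth.Agent.Lib.Helper4.ArS

open MvPowerSeries

noncomputable section

variable (k : Type u) [Field k]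

/-- index equivalence: `0 ↦ some ()`, `1 ↦ none` -/
def eOpt : Fin 2 ≃ Option Unit where
  toFun := fun i => if i = 0 then some () else none
  invFun := fun o => match o with
    | some _ => 0
    | none => 1
  left_inv := by intro i; fin_cases i <;> rfl
  right_inv := by intro o; rcases o with _ | ⟨⟩ <;> rfl

lemma eOpt_zero : eOpt 0 = some () := rfl

lemma eOpt_one : eOpt 1 = none := rfl

/-- `k[[x,y]] ≃ k[[x]][[Y]]` -/
def Psi : MvPowerSeries (Fin 2) k ≃ₐ[k] PowerSeries (PowerSeries k) :=
  (renameEquiv k eOpt).trans (optionEquivLeft Unit k)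

lemma Psi_apply (F : MvPowerSeries (Fin 2) k) :
    Psi k F = optionEquivLeft Unit k (rename eOpt F) := rfl

lemma Psi_X0 : Psi k (X 0) = PowerSeries.C (PowerSeries.X : PowerSeries k) := by
  rw [Psi_apply, rename_X, eOpt_zero, optionEquivLeft_X_some]
  rfl

lemma Psi_X1 : Psi k (X 1) = (PowerSeries.X : PowerSeries (PowerSeries k)) := by
  rw [Psi_apply, rename_X, eOpt_one, optionEquivLeft_X_none]

lemma Psi_symm_X : (Psi k).symm (PowerSeries.X : PowerSeries (PowerSeries k)) = X 1 := by
  rw [AlgEquiv.symm_apply_eq, Psi_X1]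

/-- constants `k[[x]] → k[[x]][[Y]]` as a `k`-algebra map -/
def CAlg : PowerSeries k →ₐ[k] PowerSeries (PowerSeries k) :=
  { (PowerSeries.C : PowerSeries k →+* PowerSeries (PowerSeries k)) with
    commutes' := fun r => by
      show PowerSeries.C (algebraMap k (PowerSeries k) r) = _
      rw [PowerSeries.algebraMap_apply (A := PowerSeries k)] }

lemma CAlg_apply (c : PowerSeries k) : CAlg k c = PowerSeries.C c := rfl

lemma Psi_symm_C (c : PowerSeries k) : (Psi k).symm (PowerSeries.C c) = inc k c := by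
  have hX : ((Psi k).symm : PowerSeries (PowerSeries k) →ₐ[k] MvPowerSeries (Fin 2) k)
      (CAlg k PowerSeries.X) = X 0 := by
    show (Psi k).symm (PowerSeries.C PowerSeries.X) = X 0
    rw [AlgEquiv.symm_apply_eq, Psi_X0]
  have := algHom_eq_of_sep k (X 0 : MvPowerSeries (Fin 2) k) (sepP k)
    (((Psi k).symm : PowerSeries (PowerSeries k) →ₐ[k] MvPowerSeries (Fin 2) k).comp (CAlg k))
    (inc k)
    (by rw [AlgHom.comp_apply, hX, inc_X])
    (by rw [AlgHom.comp_apply, hX])
  exact DFunLike.congr_fun this c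

lemma cc_coeff_Psi (F : MvPowerSeries (Fin 2) k) (j : ℕ) :
    PowerSeries.constantCoeff (PowerSeries.coeff j (Psi k F)) = coeff (mon 0 j) F := by
  rw [← PowerSeries.coeff_zero_eq_constantCoeff_apply]
  show MvPowerSeries.coeff (Finsupp.single () 0)
    (PowerSeries.coeff j (optionEquivLeft Unit k (rename eOpt F))) = _
  rw [coeff_coeff_optionEquivLeft]
  have e : (Finsupp.single () 0 : Unit →₀ ℕ).optionElim j =
      Finsupp.embDomain eOpt.toEmbedding (mon 0 j) := by
    rw [Finsupp.single_zero, Finsupp.optionElim_zero, mon, Finsupp.embDomain_add,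
      Finsupp.embDomain_single, Finsupp.embDomain_single, Finsupp.single_zero, zero_add]
    rfl
  rw [e]
  exact coeff_embDomain_rename (R := k) eOpt.toEmbedding F (mon 0 j)

lemma mem_max_iff (b : PowerSeries k) :
    b ∈ IsLocalRing.maximalIdeal (PowerSeries k) ↔ PowerSeries.constantCoeff b = 0 := by
  rw [PowerSeries.maximalIdeal_eq_span_X, Ideal.mem_span_singleton, PowerSeries.X_dvd_iff]

lemma residue_eq_zero_iff' (b : PowerSeries k) :
    IsLocalRing.residue (PowerSeries k) b = 0 ↔ PowerSeries.constantCoeff b = 0 := by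
  rw [IsLocalRing.residue_eq_zero_iff, mem_max_iff]

theorem weier (F : MvPowerSeries (Fin 2) k) (h0 : coeff (mon 0 0) F = 0)
    (h12 : coeff (mon 0 1) F ≠ 0 ∨ coeff (mon 0 2) F ≠ 0) :
    (∃ (c : PowerSeries k) (u : MvPowerSeries (Fin 2) k), PowerSeries.constantCoeff c = 0 ∧
      IsUnit u ∧ F = u * (X 1 + inc k c)) ∨
    (∃ (a b : PowerSeries k) (u : MvPowerSeries (Fin 2) k), PowerSeries.constantCoeff a = 0 ∧
      PowerSeries.constantCoeff b = 0 ∧ IsUnit u ∧
      F = u * (X 1 ^ 2 + inc k a * X 1 + inc k b)) := by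
  haveI : IsAdicComplete (IsLocalRing.maximalIdeal (PowerSeries k)) (PowerSeries k) := by
    rw [PowerSeries.maximalIdeal_eq_span_X]; infer_instance
  have hres : ∀ j, PowerSeries.coeff j ((Psi k F).map (IsLocalRing.residue (PowerSeries k))) = 0 ↔
      coeff (mon 0 j) F = 0 := by
    intro j
    rw [PowerSeries.coeff_map, residue_eq_zero_iff', cc_coeff_Psi]
  have hg : (Psi k F).map (IsLocalRing.residue (PowerSeries k)) ≠ 0 := by
    intro h
    rcases h12 with h1 | h1
    · exact h1 ((hres 1).mp (by rw [h, map_zero]))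
    · exact h1 ((hres 2).mp (by rw [h, map_zero]))
  obtain ⟨f, h, H⟩ := PowerSeries.exists_isWeierstrassFactorization hg
  have hd := H.natDegree_eq_toNat_order_map
  have hle : ((Psi k F).map (IsLocalRing.residue (PowerSeries k))).order ≤ ((2 : ℕ) : ℕ∞) := by
    rcases h12 with h1 | h1
    · exact le_trans (PowerSeries.order_le 1 (fun h' => h1 ((hres 1).mp h')))
        (by exact_mod_cast (by norm_num : (1 : ℕ) ≤ 2))
    · exact PowerSeries.order_le 2 (fun h' => h1 ((hres 2).mp h'))
  have hge : ((1 : ℕ) : ℕ∞) ≤ ((Psi k F).map (IsLocalRing.residue (PowerSeries k))).order := by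
    apply PowerSeries.nat_le_order
    intro i hi
    have : i = 0 := by omega
    rw [this]
    exact (hres 0).mpr h0
  have hlt : ((Psi k F).map (IsLocalRing.residue (PowerSeries k))).order < ⊤ :=
    lt_of_le_of_lt hle (ENat.coe_lt_top 2)
  obtain ⟨n, hn⟩ := ENat.ne_top_iff_exists.mp hlt.ne
  rw [← hn] at hle hge hd
  rw [ENat.toNat_coe] at hd
  have hn1 : 1 ≤ n := by exact_mod_cast hge
  have hn2 : n ≤ 2 := by exact_mod_cast hle
  have hmonic := H.isDistinguishedAt.monic
  have hmem : ∀ i, i < f.natDegree →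
      PowerSeries.constantCoeff (f.coeff i) = 0 := fun i hi =>
    (mem_max_iff k _).mp (H.isDistinguishedAt.mem hi)
  have hF : F = (Psi k).symm (↑f * h) := by
    rw [← H.eq_mul, AlgEquiv.symm_apply_apply]
  have hu : IsUnit ((Psi k).symm h) := H.isUnit.map (Psi k).symm
  have hcases : n = 1 ∨ n = 2 := by omega
  rcases hcases with h1 | h1
  · left
    rw [h1] at hd
    have hf : f = Polynomial.X + Polynomial.C (f.coeff 0) := by
      have hs := hmonic.as_sum
      rw [hd, Finset.sum_range_one, pow_zero, mul_one, pow_one] at hs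
      exact hs
    refine ⟨f.coeff 0, (Psi k).symm h, hmem 0 (by omega), hu, ?_⟩
    rw [hF, map_mul]
    conv_lhs => rw [hf]
    rw [Polynomial.coe_add, Polynomial.coe_X, Polynomial.coe_C, map_add, Psi_symm_X, Psi_symm_C]
    ring
  · right
    rw [h1] at hd
    have hf : f = Polynomial.X ^ 2 +
        (Polynomial.C (f.coeff 0) + Polynomial.C (f.coeff 1) * Polynomial.X) := by
      have hs := hmonic.as_sum
      rw [hd, Finset.sum_range_succ, Finset.sum_range_one, pow_zero, mul_one, pow_one] at hs
      exact hs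
    refine ⟨f.coeff 1, f.coeff 0, (Psi k).symm h, hmem 1 (by omega), hmem 0 (by omega), hu, ?_⟩
    rw [hF, map_mul]
    conv_lhs => rw [hf]
    rw [Polynomial.coe_add, Polynomial.coe_add, Polynomial.coe_pow, Polynomial.coe_mul,
      Polynomial.coe_X, Polynomial.coe_C, Polynomial.coe_C, map_add, map_add, map_pow, map_mul,
      Psi_symm_X, Psi_symm_C, Psi_symm_C]
    ring

lemma exists_sqrt [IsAlgClosed k] (h2 : (2 : k) ≠ 0) (u : PowerSeries k)
    (hu : PowerSeries.constantCoeff u ≠ 0) : ∃ w : PowerSeries k, w * w = u := by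
  obtain ⟨s, hs⟩ := IsAlgClosed.exists_pow_nat_eq (PowerSeries.constantCoeff u) (n := 2) two_pos
  have hs0 : s ≠ 0 := by
    rintro rfl
    apply hu
    rw [← hs]
    ring
  have hd : (Polynomial.derivative (Polynomial.X ^ 2 - Polynomial.C u)).eval (PowerSeries.C s) =
      2 * PowerSeries.C s := by
    rw [Polynomial.derivative_sub, Polynomial.derivative_C, sub_zero, Polynomial.derivative_X_pow,
      Polynomial.eval_mul, Polynomial.eval_C, Polynomial.eval_pow, Polynomial.eval_X]
    norm_num
  have H := HenselianRing.is_henselian (R := PowerSeries k)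
    (I := Ideal.span {(PowerSeries.X : PowerSeries k)})
    (Polynomial.X ^ 2 - Polynomial.C u) (Polynomial.monic_X_pow_sub_C u two_ne_zero)
    (PowerSeries.C s)
    (by
      rw [Polynomial.eval_sub, Polynomial.eval_pow, Polynomial.eval_X, Polynomial.eval_C,
        Ideal.mem_span_singleton, PowerSeries.X_dvd_iff, map_sub, map_pow,
        PowerSeries.constantCoeff_C, hs, sub_self])
    (by
      apply IsUnit.map
      rw [hd, PowerSeries.isUnit_iff_constantCoeff, map_mul, PowerSeries.constantCoeff_C,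
        isUnit_iff_ne_zero]
      have h22 : PowerSeries.constantCoeff (2 : PowerSeries k) = 2 := map_ofNat _ 2
      rw [h22]
      exact mul_ne_zero h2 hs0)
  obtain ⟨w, hw, _⟩ := H
  refine ⟨w, ?_⟩
  rw [Polynomial.IsRoot.def, Polynomial.eval_sub, Polynomial.eval_pow, Polynomial.eval_X,
    Polynomial.eval_C] at hw
  linear_combination hw

lemma exists_eq_X_pow_mul (c : PowerSeries k) (hc : c ≠ 0)
    (h0 : PowerSeries.constantCoeff c = 0) :
    ∃ (n : ℕ) (u : PowerSeries k), PowerSeries.constantCoeff u ≠ 0 ∧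
      c = PowerSeries.X ^ (n + 1) * u := by
  classical
  have hex : ∃ i, PowerSeries.coeff i c ≠ 0 := by
    by_contra h
    push_neg at h
    apply hc
    ext i
    rw [h i, map_zero]
  obtain ⟨N, hN, hmin⟩ : ∃ N, PowerSeries.coeff N c ≠ 0 ∧ ∀ m < N, PowerSeries.coeff m c = 0 :=
    ⟨Nat.find hex, Nat.find_spec hex, fun m hm => not_not.mp (Nat.find_min hex hm)⟩
  have hNpos : N ≠ 0 := by
    intro h
    rw [h, PowerSeries.coeff_zero_eq_constantCoeff_apply] at hN
    exact hN h0
  obtain ⟨n, hn⟩ := Nat.exists_eq_succ_of_ne_zero hNpos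
  obtain ⟨u, hu⟩ := PowerSeries.X_pow_dvd_iff.mpr hmin
  refine ⟨n, u, ?_, by rw [← Nat.succ_eq_add_one, ← hn]; exact hu⟩
  have hN' := hN
  rw [hu, PowerSeries.coeff_X_pow_mul', if_pos le_rfl, Nat.sub_self,
    PowerSeries.coeff_zero_eq_constantCoeff_apply] at hN'
  exact hN'

end

end Groth.Agent.Lib.Helper4.ArS
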