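import Mathlib
import Groth.Agent.Lib.Helper4.ArSingQ

/-!
# Classification of plane curve germs of order `≤ 2` (char `≠ 2`, algebraically closed)
-/

set_option autoImplicit false
set_option linter.style.haveILetI false
set_option linter.unusedSectionVars false
set_option linter.unusedVariables false
set_option linter.unusedSimpArgs false
set_option maxHeartbeats 1600000

universe u

namespace Groth.Agent.Lib.Helper4.ArS

open MvPowerSeries

noncomputable section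

variable (k : Type u) [Field k]

lemma CXY_eq (c : k) :
    (C c * X 0 * X 1 : MvPowerSeries (Fin 2) k) = monomial (mon 1 1) c := by
  rw [X_def, X_def, mul_assoc, monomial_mul_monomial, ← monomial_zero_eq_C_apply,
    monomial_mul_monomial, zero_add, mul_one, mul_one]
  rfl

lemma mon_eq_iff (i j i' j' : ℕ) : mon i j = mon i' j' ↔ i = i' ∧ j = j' := by
  constructor
  · intro h
    have h0 := DFunLike.congr_fun h 0
    have h1 := DFunLike.congr_fun h 1
    simp only [mon_zero, mon_one] at h0 h1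
    exact ⟨h0, h1⟩
  · rintro ⟨rfl, rfl⟩; rfl

lemma coeff_CXY (c : k) (i j : ℕ) :
    coeff (mon i j) (C c * X 0 * X 1 : MvPowerSeries (Fin 2) k) =
      if i = 1 ∧ j = 1 then c else 0 := by
  rw [CXY_eq, coeff_monomial]
  simp only [mon_eq_iff]

lemma algEquiv_C (φ : MvPowerSeries (Fin 2) k ≃ₐ[k] MvPowerSeries (Fin 2) k) (c : k) :
    φ (C c) = C c := by
  rw [c_eq_algebraMap]
  exact φ.commutes c

lemma exists_regular (F : MvPowerSeries (Fin 2) k) (h00 : coeff (mon 0 0) F = 0)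
    (h : coeff (mon 1 0) F ≠ 0 ∨ coeff (mon 0 1) F ≠ 0 ∨ coeff (mon 2 0) F ≠ 0 ∨
      coeff (mon 1 1) F ≠ 0 ∨ coeff (mon 0 2) F ≠ 0) :
    ∃ φ : MvPowerSeries (Fin 2) k ≃ₐ[k] MvPowerSeries (Fin 2) k,
      coeff (mon 0 0) (φ F) = 0 ∧ (coeff (mon 0 1) (φ F) ≠ 0 ∨ coeff (mon 0 2) (φ F) ≠ 0) := by
  by_cases hA : coeff (mon 0 1) F ≠ 0 ∨ coeff (mon 0 2) F ≠ 0
  · exact ⟨AlgEquiv.refl, h00, hA⟩
  by_cases hB : coeff (mon 1 0) F ≠ 0 ∨ coeff (mon 2 0) F ≠ 0
  · refine ⟨swapE k, ?_, ?_⟩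
    · rw [coeff_swapE]; exact h00
    · rw [coeff_swapE, coeff_swapE]; exact hB
  push_neg at hA hB
  have h11 : coeff (mon 1 1) F ≠ 0 := by
    rcases h with h | h | h | h | h
    · exact absurd hB.1 h
    · exact absurd hA.1 h
    · exact absurd hB.2 h
    · exact h
    · exact absurd hA.2 h
  have hcc : constantCoeff F = 0 := by
    rw [← coeff_zero_eq_constantCoeff_apply, ← mon_zero_zero]; exact h00
  obtain ⟨R, hR⟩ : ∃ R, R = F - C (coeff (mon 1 1) F) * X 0 * X 1 := ⟨_, rfl⟩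
  have hRord : ((3 : ℕ) : ℕ∞) ≤ R.order := by
    apply nat_le_order
    intro d hd
    rw [degree_eq] at hd
    rw [eq_mon d, hR, map_sub, coeff_CXY]
    have hi : d 0 ≤ 2 := by omega
    have hj : d 1 ≤ 2 := by omega
    interval_cases h0 : d 0 <;> interval_cases h1 : d 1 <;> simp_all
  have hFR : F = C (coeff (mon 1 1) F) * X 0 * X 1 + R := by rw [hR]; ring
  have hsh : shearE k F = C (coeff (mon 1 1) F) * X 0 * X 1 +
      C (coeff (mon 1 1) F) * X 1 ^ 2 + shearE k R := by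
    conv_lhs => rw [hFR]
    rw [map_add, map_mul, map_mul, algEquiv_C, shearE_X0, shearE_X1]
    ring
  have hRsh : coeff (mon 0 2) (shearE k R) = 0 := by
    apply coeff_of_lt_order
    rw [degree_mon]
    exact lt_of_lt_of_le (by exact_mod_cast (by norm_num : (0 + 2 : ℕ) < 3))
      (le_trans hRord (order_shearE k R))
  refine ⟨shearE k, ?_, Or.inr ?_⟩
  · rw [mon_zero_zero, coeff_zero_eq_constantCoeff_apply]
    exact cc_shearE k F hcc
  · rw [hsh, map_add, map_add, hRsh, coeff_CXY, if_neg (by norm_num), coeff_mul_y_pow,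
      if_pos le_rfl, Nat.sub_self, mon_zero_zero, coeff_zero_C, zero_add, add_zero]
    exact h11

lemma rel_lin (c : PowerSeries k) (hc : PowerSeries.constantCoeff c = 0) :
    Rel k (X 1 + inc k c) (ArSing.eqn k 0) := by
  apply Rel.of_equiv k ((yshiftE k c hc).trans (smoothE k))
  rw [AlgEquiv.trans_apply, map_add, yshiftE_X1, yshiftE_inc, sub_add_cancel, smoothE_X1,
    ArSing.eqn]
  ring

lemma rel_quad [IsAlgClosed k] (h2 : (2 : k) ≠ 0) (a b : PowerSeries k)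
    (ha : PowerSeries.constantCoeff a = 0) (hb : PowerSeries.constantCoeff b = 0) :
    (∃ n : ℕ, Rel k (X 1 ^ 2 + inc k a * X 1 + inc k b) (ArSing.eqn k n)) ∨
      Rel k (X 1 ^ 2 + inc k a * X 1 + inc k b) (X 1 ^ 2) := by
  obtain ⟨a', ha'def⟩ : ∃ a', a' = PowerSeries.C (2⁻¹ : k) * a := ⟨_, rfl⟩
  have ha' : PowerSeries.constantCoeff a' = 0 := by rw [ha'def, map_mul, ha, mul_zero]
  have h2a : inc k a = 2 * inc k a' := by
    rw [← map_ofNat (inc k) 2, ← map_mul]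
    congr 1
    rw [ha'def, ← mul_assoc, mul_comm 2, half_mul_two k h2, one_mul]
  obtain ⟨c, hcdef⟩ : ∃ c, c = a' ^ 2 - b := ⟨_, rfl⟩
  have hc0 : PowerSeries.constantCoeff c = 0 := by
    rw [hcdef, map_sub, map_pow, ha', hb]; ring
  have e₁ : yshiftE k a' ha' (X 1 ^ 2 + inc k a * X 1 + inc k b) = X 1 ^ 2 - inc k c := by
    rw [map_add, map_add, map_mul, map_pow, yshiftE_X1, yshiftE_inc, yshiftE_inc, h2a, hcdef,
      map_sub, map_pow]
    ring
  by_cases hc : c = 0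
  · right
    apply Rel.of_equiv k (yshiftE k a' ha')
    rw [e₁, hc, map_zero, sub_zero]
  · left
    obtain ⟨n, u₀, hu₀, hcu⟩ := exists_eq_X_pow_mul k c hc hc0
    obtain ⟨w, hw⟩ := exists_sqrt k h2 u₀ hu₀
    have hwu : IsUnit w := by
      rw [PowerSeries.isUnit_iff_constantCoeff, isUnit_iff_ne_zero]
      intro h
      apply hu₀
      rw [← hw, map_mul, h, mul_zero]
    obtain ⟨w', hw'⟩ := hwu.exists_right_inv
    have e₃ : yscaleE k w w' hw' (X 1 ^ 2 - inc k c) = inc k u₀ * ArSing.eqn k n := by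
      rw [map_sub, map_pow, yscaleE_X1, yscaleE_inc, hcu, map_mul, map_pow, inc_X, ArSing.eqn,
        ← hw, map_mul]
      ring
    refine ⟨n, (yshiftE k a' ha').trans (yscaleE k w w' hw'), inc k u₀, ?_, ?_⟩
    · exact (PowerSeries.isUnit_iff_constantCoeff.mpr (isUnit_iff_ne_zero.mpr hu₀)).map (inc k)
    · rw [AlgEquiv.trans_apply, e₁, e₃]

theorem classify [IsAlgClosed k] (h2 : (2 : k) ≠ 0) (F : MvPowerSeries (Fin 2) k)
    (h00 : coeff (mon 0 0) F = 0)
    (h : coeff (mon 1 0) F ≠ 0 ∨ coeff (mon 0 1) F ≠ 0 ∨ coeff (mon 2 0) F ≠ 0 ∨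
      coeff (mon 1 1) F ≠ 0 ∨ coeff (mon 0 2) F ≠ 0) :
    (∃ n : ℕ, Nonempty ((MvPowerSeries (Fin 2) k ⧸ Ideal.span {F}) ≃ₐ[k] ArSing.ring k n)) ∨
    Nonempty ((MvPowerSeries (Fin 2) k ⧸ Ideal.span {F}) ≃ₐ[k]
      (MvPowerSeries (Fin 2) k ⧸ Ideal.span ({X 1 ^ 2} : Set (MvPowerSeries (Fin 2) k)))) := by
  obtain ⟨φ, h0', h12⟩ := exists_regular k F h00 h
  have r0 : Rel k F (φ F) := Rel.of_equiv k φ rfl
  rcases weier k (φ F) h0' h12 with ⟨c, u, hc, hu, e⟩ | ⟨a, b, u, ha, hb, hu, e⟩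
  · have r1 : Rel k (φ F) (X 1 + inc k c) := Rel.of_eq_mul k hu e
    have r2 := rel_lin k c hc
    exact Or.inl ⟨0, Rel.nonempty_equiv k (Rel.trans k r0 (Rel.trans k r1 r2))⟩
  · have r1 : Rel k (φ F) (X 1 ^ 2 + inc k a * X 1 + inc k b) := Rel.of_eq_mul k hu e
    rcases rel_quad k h2 a b ha hb with ⟨n, r2⟩ | r2
    · exact Or.inl ⟨n, Rel.nonempty_equiv k (Rel.trans k r0 (Rel.trans k r1 r2))⟩
    · exact Or.inr (Rel.nonempty_equiv k (Rel.trans k r0 (Rel.trans k r1 r2)))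

end

end Groth.Agent.Lib.Helper4.ArS
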