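import Mathlib
import Groth.Agent.Lib.Helper4.ArSingR

/-!
# Taylor coefficients of a recentred polynomial and the `A_n` criterion
-/

set_option autoImplicit false
set_option linter.style.haveILetI false
set_option linter.unusedSectionVars false
set_option linter.unusedVariables false
set_option linter.unusedSimpArgs false
set_option maxHeartbeats 1600000

universe u

namespace Groth.Agent.Lib.Helper4.ArS

open MvPowerSeries

noncomputable section

variable (k : Type u) [Field k]

/-- recentring at `a` -/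
def sh (a : Fin 2 → k) : MvPolynomial (Fin 2) k →ₐ[k] MvPolynomial (Fin 2) k :=
  MvPolynomial.aeval (fun i : Fin 2 => MvPolynomial.X i + MvPolynomial.C (a i))

lemma sh_X (a : Fin 2 → k) (i : Fin 2) :
    sh k a (MvPolynomial.X i) = MvPolynomial.X i + MvPolynomial.C (a i) :=
  MvPolynomial.aeval_X _ _

lemma sh_C (a : Fin 2 → k) (c : k) : sh k a (MvPolynomial.C c) = MvPolynomial.C c :=
  MvPolynomial.aeval_C _ _

lemma coeff_zero_sh (a : Fin 2 → k) (p : MvPolynomial (Fin 2) k) :
    MvPolynomial.coeff 0 (sh k a p) = MvPolynomial.eval a p := by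
  have : (MvPolynomial.constantCoeff.comp (sh k a).toRingHom :
      MvPolynomial (Fin 2) k →+* k) = MvPolynomial.eval a := by
    apply MvPolynomial.ringHom_ext
    · intro r
      show MvPolynomial.constantCoeff (sh k a (MvPolynomial.C r)) = _
      rw [sh_C]; simp
    · intro i
      show MvPolynomial.constantCoeff (sh k a (MvPolynomial.X i)) = _
      rw [sh_X]; simp
  exact DFunLike.congr_fun this p

lemma pderiv_sh (a : Fin 2 → k) (i : Fin 2) (p : MvPolynomial (Fin 2) k) :
    MvPolynomial.pderiv i (sh k a p) = sh k a (MvPolynomial.pderiv i p) := by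
  induction p using MvPolynomial.induction_on with
  | C r => rw [sh_C, MvPolynomial.pderiv_C, map_zero]
  | add p q hp hq => simp only [map_add, hp, hq]
  | mul_X p j hp =>
    have e1 : MvPolynomial.pderiv i (sh k a (p * MvPolynomial.X j)) =
        MvPolynomial.pderiv i (sh k a p) * (MvPolynomial.X j + MvPolynomial.C (a j)) +
          sh k a p * MvPolynomial.pderiv i (MvPolynomial.X j + MvPolynomial.C (a j)) := by
      rw [map_mul, sh_X, MvPolynomial.pderiv_mul]
    have e2 : sh k a (MvPolynomial.pderiv i (p * MvPolynomial.X j)) =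
        sh k a (MvPolynomial.pderiv i p) * (MvPolynomial.X j + MvPolynomial.C (a j)) +
          sh k a p * sh k a (MvPolynomial.pderiv i (MvPolynomial.X j)) := by
      rw [MvPolynomial.pderiv_mul, map_add, map_mul, map_mul, sh_X]
    rw [e1, e2, hp, map_add, MvPolynomial.pderiv_C, add_zero]
    by_cases hij : j = i
    · subst hij
      rw [MvPolynomial.pderiv_X_self, map_one]
    · rw [MvPolynomial.pderiv_X_of_ne hij, map_zero]

lemma eval_pderiv (a : Fin 2 → k) (i : Fin 2) (p : MvPolynomial (Fin 2) k) :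
    MvPolynomial.eval a (MvPolynomial.pderiv i p) =
      MvPolynomial.coeff (Finsupp.single i 1) (sh k a p) := by
  rw [← coeff_zero_sh, ← pderiv_sh, MvPolynomial.coeff_pderiv, zero_add]
  simp

lemma eval_pderiv2 (a : Fin 2 → k) (i j : Fin 2) (p : MvPolynomial (Fin 2) k) :
    MvPolynomial.eval a (MvPolynomial.pderiv i (MvPolynomial.pderiv j p)) =
      MvPolynomial.coeff (Finsupp.single i 1 + Finsupp.single j 1) (sh k a p) *
        (((Finsupp.single i 1 : Fin 2 →₀ ℕ) j : k) + 1) := by
  rw [eval_pderiv, ← pderiv_sh, MvPolynomial.coeff_pderiv]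

theorem main_iff [IsAlgClosed k] (h2 : (2 : k) ≠ 0) (f : MvPolynomial (Fin 2) k) (a : Fin 2 → k)
    (hfa : MvPolynomial.eval a f = 0) :
    ((∀ i : Fin 2, MvPolynomial.eval a (MvPolynomial.pderiv i f) = 0) ∧
      ∀ i j : Fin 2, MvPolynomial.eval a (MvPolynomial.pderiv i (MvPolynomial.pderiv j f)) = 0) ↔
    ¬ ((∃ n : ℕ, Nonempty ((MvPowerSeries (Fin 2) k ⧸ Ideal.span
        ({(MvPolynomial.aeval (fun i : Fin 2 => MvPolynomial.X i + MvPolynomial.C (a i))
            f).toMvPowerSeries} : Set (MvPowerSeries (Fin 2) k))) ≃ₐ[k] ArSing.ring k n)) ∨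
        Nonempty ((MvPowerSeries (Fin 2) k ⧸ Ideal.span
        ({(MvPolynomial.aeval (fun i : Fin 2 => MvPolynomial.X i + MvPolynomial.C (a i))
            f).toMvPowerSeries} : Set (MvPowerSeries (Fin 2) k))) ≃ₐ[k]
          (MvPowerSeries (Fin 2) k ⧸
            Ideal.span ({MvPowerSeries.X 1 ^ 2} : Set (MvPowerSeries (Fin 2) k))))) := by
  obtain ⟨G, hG⟩ : ∃ G : MvPolynomial (Fin 2) k, G = sh k a f := ⟨_, rfl⟩
  have hGF : (MvPolynomial.aeval (fun i : Fin 2 => MvPolynomial.X i + MvPolynomial.C (a i))
      f) = G := by rw [hG]; rfl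
  rw [hGF]
  have hcoe : ∀ d, MvPowerSeries.coeff d G.toMvPowerSeries = MvPolynomial.coeff d G :=
    fun d => MvPolynomial.coeff_coe G d
  have m10 : mon 1 0 = Finsupp.single 0 1 := by simp [mon]
  have m01 : mon 0 1 = Finsupp.single 1 1 := by simp [mon]
  have m11 : mon 1 1 = Finsupp.single 0 1 + Finsupp.single 1 1 := rfl
  have m11' : mon 1 1 = Finsupp.single 1 1 + Finsupp.single 0 1 := by rw [m11, add_comm]
  have m20 : mon 2 0 = Finsupp.single 0 1 + Finsupp.single 0 1 := by
    simp [mon, ← Finsupp.single_add]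
  have m02 : mon 0 2 = Finsupp.single 1 1 + Finsupp.single 1 1 := by
    simp [mon, ← Finsupp.single_add]
  have c00 : MvPowerSeries.coeff (mon 0 0) G.toMvPowerSeries = 0 := by
    rw [hcoe, mon_zero_zero, hG, coeff_zero_sh]; exact hfa
  have c10 : MvPolynomial.eval a (MvPolynomial.pderiv 0 f) =
      MvPowerSeries.coeff (mon 1 0) G.toMvPowerSeries := by
    rw [hcoe, m10, hG, eval_pderiv]
  have c01 : MvPolynomial.eval a (MvPolynomial.pderiv 1 f) =
      MvPowerSeries.coeff (mon 0 1) G.toMvPowerSeries := by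
    rw [hcoe, m01, hG, eval_pderiv]
  have c11 : MvPolynomial.eval a (MvPolynomial.pderiv 0 (MvPolynomial.pderiv 1 f)) =
      MvPowerSeries.coeff (mon 1 1) G.toMvPowerSeries := by
    rw [hcoe, m11, hG, eval_pderiv2]
    simp
  have c11' : MvPolynomial.eval a (MvPolynomial.pderiv 1 (MvPolynomial.pderiv 0 f)) =
      MvPowerSeries.coeff (mon 1 1) G.toMvPowerSeries := by
    rw [hcoe, m11', hG, eval_pderiv2]
    simp
  have c20 : MvPolynomial.eval a (MvPolynomial.pderiv 0 (MvPolynomial.pderiv 0 f)) =
      MvPowerSeries.coeff (mon 2 0) G.toMvPowerSeries * 2 := by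
    rw [hcoe, m20, hG, eval_pderiv2]
    simp
    norm_num
  have c02 : MvPolynomial.eval a (MvPolynomial.pderiv 1 (MvPolynomial.pderiv 1 f)) =
      MvPowerSeries.coeff (mon 0 2) G.toMvPowerSeries * 2 := by
    rw [hcoe, m02, hG, eval_pderiv2]
    simp
    norm_num
  constructor
  · rintro ⟨h1, h2'⟩
    have z10 : MvPowerSeries.coeff (mon 1 0) G.toMvPowerSeries = 0 := by rw [← c10]; exact h1 0
    have z01 : MvPowerSeries.coeff (mon 0 1) G.toMvPowerSeries = 0 := by rw [← c01]; exact h1 1
    have z11 : MvPowerSeries.coeff (mon 1 1) G.toMvPowerSeries = 0 := by rw [← c11]; exact h2' 0 1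
    have z20 : MvPowerSeries.coeff (mon 2 0) G.toMvPowerSeries = 0 := by
      have := h2' 0 0
      rw [c20] at this
      exact (mul_eq_zero.mp this).resolve_right h2
    have z02 : MvPowerSeries.coeff (mon 0 2) G.toMvPowerSeries = 0 := by
      have := h2' 1 1
      rw [c02] at this
      exact (mul_eq_zero.mp this).resolve_right h2
    have hord : ((3 : ℕ) : ℕ∞) ≤ (G.toMvPowerSeries).order := by
      apply nat_le_order
      intro d hd
      rw [degree_eq] at hd
      rw [eq_mon d]
      have hi : d 0 ≤ 2 := by omega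
      have hj : d 1 ≤ 2 := by omega
      interval_cases h0 : d 0 <;> interval_cases h1' : d 1 <;>
        first | exact c00 | exact z10 | exact z01 | exact z11 | exact z20 | exact z02 | omega
    obtain ⟨hA, hB⟩ := no_equiv_of_order k G.toMvPowerSeries hord
    rintro (⟨n, ⟨e⟩⟩ | ⟨⟨e⟩⟩)
    · exact (hA n).false e
    · exact hB.false e
  · intro hnot
    by_contra hL
    apply hnot
    apply classify k h2 G.toMvPowerSeries c00
    by_contra hall
    push_neg at hall
    obtain ⟨z10, z01, z20, z11, z02⟩ := hall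
    apply hL
    have d0 : MvPolynomial.eval a (MvPolynomial.pderiv 0 f) = 0 := by rw [c10]; exact z10
    have d1 : MvPolynomial.eval a (MvPolynomial.pderiv 1 f) = 0 := by rw [c01]; exact z01
    have d00 : MvPolynomial.eval a (MvPolynomial.pderiv 0 (MvPolynomial.pderiv 0 f)) = 0 := by
      rw [c20, z20, zero_mul]
    have d01 : MvPolynomial.eval a (MvPolynomial.pderiv 0 (MvPolynomial.pderiv 1 f)) = 0 := by
      rw [c11]; exact z11
    have d10 : MvPolynomial.eval a (MvPolynomial.pderiv 1 (MvPolynomial.pderiv 0 f)) = 0 := by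
      rw [c11']; exact z11
    have d11 : MvPolynomial.eval a (MvPolynomial.pderiv 1 (MvPolynomial.pderiv 1 f)) = 0 := by
      rw [c02, z02, zero_mul]
    constructor
    · intro i
      fin_cases i
      · exact d0
      · exact d1
    · intro i j
      fin_cases i <;> fin_cases j
      · exact d00
      · exact d01
      · exact d10
      · exact d11

end

end Groth.Agent.Lib.Helper4.ArS
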