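import Mathlib

/-!
# Ax's theorem, part A: the digit-sum estimate for multinomial coefficients
-/

set_option autoImplicit false
set_option linter.style.haveILetI false
set_option linter.unusedSectionVars false
set_option linter.unusedVariables false
set_option linter.unusedSimpArgs false
set_option maxHeartbeats 1600000
set_option maxSynthPendingDepth 3

universe u

namespace Groth.Agent.Lib.Helper4.AxA

open Finset

/-- fold of a digit list with cyclic exponents: `∑ₜ L[t] * p ^ ((a + t) % e)`. -/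
def fold (p e : ℕ) : ℕ → List ℕ → ℕ
  | _, [] => 0
  | a, x :: L => x * p ^ (a % e) + fold p e (a + 1) L

lemma fold_nil (p e a : ℕ) : fold p e a [] = 0 := by rw [fold]

lemma fold_cons (p e a x : ℕ) (L : List ℕ) :
    fold p e a (x :: L) = x * p ^ (a % e) + fold p e (a + 1) L := by rw [fold]

lemma pow_modEq (p e a : ℕ) (hp : 0 < p) : p ^ a ≡ p ^ (a % e) [MOD p ^ e - 1] := by
  have h1 : p ^ e ≡ 1 [MOD p ^ e - 1] := Nat.modEq_sub (Nat.one_le_pow _ _ hp)
  have h2 : (p ^ e) ^ (a / e) * p ^ (a % e) ≡ 1 ^ (a / e) * p ^ (a % e) [MOD p ^ e - 1] :=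
    (h1.pow (a / e)).mul_right (p ^ (a % e))
  rw [one_pow, one_mul, ← pow_mul, ← pow_add, Nat.div_add_mod] at h2
  exact h2

lemma modEq_sum {ι : Type*} (S : Finset ι) (f g : ι → ℕ) (n : ℕ)
    (h : ∀ i ∈ S, f i ≡ g i [MOD n]) : ∑ i ∈ S, f i ≡ ∑ i ∈ S, g i [MOD n] := by
  classical
  induction S using Finset.induction_on with
  | empty => exact Nat.ModEq.refl _
  | insert a S ha ih =>
    rw [Finset.sum_insert ha, Finset.sum_insert ha]
    exact Nat.ModEq.add (h a (Finset.mem_insert_self _ _))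
      (ih (fun i hi => h i (Finset.mem_insert_of_mem hi)))

lemma fold_modEq (p e : ℕ) (hp : 0 < p) (L : List ℕ) :
    ∀ a : ℕ, fold p e a L ≡ p ^ a * Nat.ofDigits p L [MOD p ^ e - 1] := by
  induction L with
  | nil =>
    intro a
    have : fold p e a [] = p ^ a * Nat.ofDigits p ([] : List ℕ) := by
      rw [fold_nil, Nat.ofDigits_nil, mul_zero]
    rw [this]
  | cons x L ih =>
    intro a
    have h0 : x * p ^ (a % e) ≡ x * p ^ a [MOD p ^ e - 1] :=
      ((pow_modEq p e a hp).symm).mul_left x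
    have h1 := ih (a + 1)
    have h2 : fold p e a (x :: L) ≡ x * p ^ a + p ^ (a + 1) * Nat.ofDigits p L
        [MOD p ^ e - 1] := by
      rw [fold_cons]; exact h0.add h1
    have h3 : x * p ^ a + p ^ (a + 1) * Nat.ofDigits p L = p ^ a * Nat.ofDigits p (x :: L) := by
      simp only [Nat.ofDigits_cons, Nat.cast_id]; ring
    rw [← h3]; exact h2

lemma fold_add_period (p e : ℕ) (L : List ℕ) :
    ∀ a : ℕ, fold p e (a + e) L = fold p e a L := by
  induction L with
  | nil => intro a; rw [fold_nil, fold_nil]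
  | cons x L ih =>
    intro a
    rw [fold_cons, fold_cons, Nat.add_mod_right, show a + e + 1 = (a + 1) + e by ring, ih (a + 1)]

lemma sum_fold (p e : ℕ) (L : List ℕ) :
    ∑ a ∈ range e, fold p e a L = L.sum * ∑ a ∈ range e, p ^ a := by
  induction L with
  | nil => simp [fold_nil]
  | cons x L ih =>
    have hshift : ∑ a ∈ range e, fold p e (a + 1) L = ∑ a ∈ range e, fold p e a L := by
      have h1 := Finset.sum_range_succ (fun a => fold p e a L) e
      have h2 := Finset.sum_range_succ' (fun a => fold p e a L) e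
      have h3 : fold p e e L = fold p e 0 L := by simpa using fold_add_period p e L 0
      omega
    have hmod : ∑ a ∈ range e, x * p ^ (a % e) = x * ∑ a ∈ range e, p ^ a := by
      rw [Finset.mul_sum]
      exact Finset.sum_congr rfl
        (fun a ha => by rw [Nat.mod_eq_of_lt (Finset.mem_range.mp ha)])
    calc ∑ a ∈ range e, fold p e a (x :: L)
        = ∑ a ∈ range e, (x * p ^ (a % e) + fold p e (a + 1) L) :=
          Finset.sum_congr rfl (fun a _ => fold_cons p e a x L)
      _ = ∑ a ∈ range e, x * p ^ (a % e) + ∑ a ∈ range e, fold p e (a + 1) L :=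
          Finset.sum_add_distrib
      _ = x * ∑ a ∈ range e, p ^ a + L.sum * ∑ a ∈ range e, p ^ a := by rw [hmod, hshift, ih]
      _ = (x :: L).sum * ∑ a ∈ range e, p ^ a := by rw [List.sum_cons]; ring

lemma le_fold (p e : ℕ) (hp : 0 < p) (L : List ℕ) : ∀ a, L.sum ≤ fold p e a L := by
  induction L with
  | nil => intro a; simp
  | cons x L ih =>
    intro a
    rw [fold_cons, List.sum_cons]
    exact Nat.add_le_add (Nat.le_mul_of_pos_right x (pow_pos hp _)) (ih (a + 1))

lemma ofDigits_eq_zero (p : ℕ) (L : List ℕ) (h : L.sum = 0) : Nat.ofDigits p L = 0 := by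
  induction L with
  | nil => simp
  | cons x L ih =>
    rw [List.sum_cons] at h
    have hx : x = 0 := by omega
    have hL : L.sum = 0 := by omega
    simp only [Nat.ofDigits_cons, Nat.cast_id, ih hL, hx, mul_zero, add_zero]

/-- cyclically folded value of `p^a * k`. -/
def w (p e a k : ℕ) : ℕ := fold p e a (Nat.digits p k)

lemma w_modEq (p e : ℕ) (hp : 1 < p) (a k : ℕ) : w p e a k ≡ p ^ a * k [MOD p ^ e - 1] := by
  have := fold_modEq p e (by omega) (Nat.digits p k) a
  rwa [Nat.ofDigits_digits] at this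

lemma w_pos (p e : ℕ) (hp : 0 < p) (a k : ℕ) (hk : 0 < k) : 0 < w p e a k := by
  by_contra h
  have h0 : w p e a k = 0 := by omega
  have h1 : (Nat.digits p k).sum = 0 := by
    have := le_fold p e hp (Nat.digits p k) a
    unfold w at h0; omega
  have := ofDigits_eq_zero p _ h1
  rw [Nat.ofDigits_digits] at this
  omega

lemma sum_w (p e k : ℕ) :
    ∑ a ∈ range e, w p e a k = (Nat.digits p k).sum * ∑ a ∈ range e, p ^ a :=
  sum_fold p e _

lemma geom (p e : ℕ) (hp : 0 < p) : (p - 1) * ∑ a ∈ range e, p ^ a + 1 = p ^ e := by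
  obtain ⟨r, rfl⟩ : ∃ r, p = r + 1 := ⟨p - 1, by omega⟩
  simp only [Nat.add_sub_cancel]
  induction e with
  | zero => simp
  | succ e ih => rw [Finset.sum_range_succ, mul_add, pow_succ, ← ih]; ring

lemma legendre_add (p : ℕ) [Fact p.Prime] (n : ℕ) :
    (p - 1) * padicValNat p n.factorial + (Nat.digits p n).sum = n := by
  have h := sub_one_mul_padicValNat_factorial (p := p) n
  have h2 := Nat.digit_sum_le p n
  omega

lemma padicValNat_prod_factorial (p : ℕ) [Fact p.Prime] {ι : Type*} (S : Finset ι) (κ : ι → ℕ) :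
    padicValNat p (∏ i ∈ S, (κ i).factorial) = ∑ i ∈ S, padicValNat p (κ i).factorial := by
  classical
  induction S using Finset.induction_on with
  | empty => simp
  | insert a S ha ih =>
    rw [Finset.prod_insert ha, Finset.sum_insert ha, padicValNat.mul (Nat.factorial_ne_zero _)
      (Finset.prod_ne_zero_iff.mpr (fun i _ => Nat.factorial_ne_zero _)), ih]

/-- The combinatorial core of Ax's theorem. -/
theorem core {ι τ : Type*} [Fintype τ] (p e s d j : ℕ) (hp : p.Prime) (he : 0 < e) (hd : 0 < d)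
    (S : Finset ι) (u : ι → τ → ℕ) (κ : ι → ℕ)
    (hκ : ∑ i ∈ S, κ i = (p ^ e - 1) * p ^ s)
    (hdeg : ∀ i ∈ S, ∑ l, u i l ≤ d)
    (hv : ∀ l, (p ^ e - 1) ∣ ∑ i ∈ S, κ i * u i l)
    (hj : j * d < Fintype.card τ) :
    p ^ (e * j) ∣ Nat.multinomial S κ *
      (p ^ e) ^ (Finset.univ.filter (fun l => ∑ i ∈ S, κ i * u i l = 0)).card := by
  classical
  haveI := Fact.mk hp
  have hp0 : 0 < p := hp.pos
  have hp1 : 1 < p := hp.one_lt
  obtain ⟨Q, hQ⟩ : ∃ Q, Q = p ^ e - 1 := ⟨_, rfl⟩
  have hpe : p ≤ p ^ e := by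
    have h2 : p ^ 1 ≤ p ^ e := Nat.pow_le_pow_right hp0 he
    rwa [pow_one] at h2
  have hQpos : 0 < Q := by omega
  have hQ1 : Q + 1 = p ^ e := by omega
  rw [← hQ] at hκ hv
  obtain ⟨Z, hZ⟩ : ∃ Z : Finset τ, Z = Finset.univ.filter (fun l => ∑ i ∈ S, κ i * u i l = 0) :=
    ⟨_, rfl⟩
  rw [← hZ]
  -- divisibility of the row sums
  have hB_dvd : ∀ a, Q ∣ ∑ i ∈ S, w p e a (κ i) := by
    intro a
    have h1 : ∑ i ∈ S, w p e a (κ i) ≡ ∑ i ∈ S, p ^ a * κ i [MOD Q] := by
      apply modEq_sum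
      intro i _
      rw [hQ]; exact w_modEq p e hp1 a (κ i)
    rw [← Finset.mul_sum, hκ] at h1
    exact (h1.dvd_iff dvd_rfl).mpr ⟨p ^ a * p ^ s, by ring⟩
  -- each nonzero column contributes at least `Q`
  have hC : ∀ a, ∀ l, l ∉ Z → Q ≤ ∑ i ∈ S, w p e a (κ i) * u i l := by
    intro a l hl
    have hvl : ∑ i ∈ S, κ i * u i l ≠ 0 := by
      intro h; exact hl (by rw [hZ]; exact Finset.mem_filter.mpr ⟨Finset.mem_univ _, h⟩)
    have h1 : ∑ i ∈ S, w p e a (κ i) * u i l ≡ ∑ i ∈ S, p ^ a * κ i * u i l [MOD Q] := by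
      apply modEq_sum
      intro i _
      rw [hQ]; exact (w_modEq p e hp1 a (κ i)).mul_right (u i l)
    have h2 : Q ∣ ∑ i ∈ S, p ^ a * κ i * u i l := by
      have : ∑ i ∈ S, p ^ a * κ i * u i l = p ^ a * ∑ i ∈ S, κ i * u i l := by
        rw [Finset.mul_sum]; exact Finset.sum_congr rfl (fun i _ => by ring)
      rw [this]; exact Dvd.dvd.mul_left (hv l) _
    have h3 : Q ∣ ∑ i ∈ S, w p e a (κ i) * u i l := (h1.dvd_iff dvd_rfl).mpr h2
    obtain ⟨i, hi, hne⟩ := Finset.exists_ne_zero_of_sum_ne_zero hvl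
    have hκi : 0 < κ i := Nat.pos_of_ne_zero (fun h => hne (by rw [h, zero_mul]))
    have hui : 0 < u i l := Nat.pos_of_ne_zero (fun h => hne (by rw [h, mul_zero]))
    have hpos : 0 < ∑ i ∈ S, w p e a (κ i) * u i l := by
      apply Nat.pos_of_ne_zero
      intro h0
      have := (Finset.sum_eq_zero_iff.mp h0) i hi
      have hw := w_pos p e hp0 a (κ i) hκi
      rcases Nat.mul_eq_zero.mp this with h | h <;> omega
    exact Nat.le_of_dvd hpos h3
  have hNz : ∀ a, (Fintype.card τ - Z.card) * Q ≤ d * ∑ i ∈ S, w p e a (κ i) := by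
    intro a
    have h1 : (Zᶜ).card • Q ≤ ∑ l ∈ Zᶜ, ∑ i ∈ S, w p e a (κ i) * u i l :=
      Finset.card_nsmul_le_sum _ _ _ (fun l hl => hC a l (Finset.mem_compl.mp hl))
    have h2 : ∑ l ∈ Zᶜ, ∑ i ∈ S, w p e a (κ i) * u i l
        ≤ ∑ l, ∑ i ∈ S, w p e a (κ i) * u i l :=
      Finset.sum_le_sum_of_subset (Finset.subset_univ _)
    have h3 : ∑ l, ∑ i ∈ S, w p e a (κ i) * u i l = ∑ i ∈ S, w p e a (κ i) * ∑ l, u i l := by
      rw [Finset.sum_comm]
      exact Finset.sum_congr rfl (fun i _ => (Finset.mul_sum _ _ _).symm)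
    have h4 : ∑ i ∈ S, w p e a (κ i) * ∑ l, u i l ≤ ∑ i ∈ S, w p e a (κ i) * d :=
      Finset.sum_le_sum (fun i hi => Nat.mul_le_mul_left _ (hdeg i hi))
    have h5 : ∑ i ∈ S, w p e a (κ i) * d = d * ∑ i ∈ S, w p e a (κ i) := by
      rw [← Finset.sum_mul, mul_comm]
    rw [Finset.card_compl, smul_eq_mul] at h1
    linarith
  have hb : ∀ a, ∃ b, ∑ i ∈ S, w p e a (κ i) = Q * b ∧ j + 1 ≤ b + Z.card := by
    intro a
    obtain ⟨b, hb⟩ := hB_dvd a
    refine ⟨b, hb, ?_⟩
    have h1 := hNz a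
    rw [hb] at h1
    have h2 : (Fintype.card τ - Z.card) ≤ d * b := by
      have : (Fintype.card τ - Z.card) * Q ≤ (d * b) * Q := by
        calc _ ≤ d * (Q * b) := h1
          _ = (d * b) * Q := by ring
      exact Nat.le_of_mul_le_mul_right this hQpos
    by_contra hcon
    push_neg at hcon
    have h3 : b + Z.card ≤ j := by omega
    have h4 : d * (b + Z.card) ≤ d * j := Nat.mul_le_mul_left d h3
    have h5 : Z.card ≤ d * Z.card := Nat.le_mul_of_pos_left _ hd
    have h6 : Fintype.card τ ≤ d * b + Z.card := by omega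
    rw [mul_add] at h4
    have h7 : j * d = d * j := mul_comm _ _
    omega
  choose b hb1 hb2 using hb
  have hsum1 : e * (j + 1) ≤ ∑ a ∈ range e, b a + e * Z.card := by
    have : ∑ a ∈ range e, (j + 1) ≤ ∑ a ∈ range e, (b a + Z.card) :=
      Finset.sum_le_sum (fun a _ => hb2 a)
    rw [Finset.sum_const, Finset.card_range, smul_eq_mul, Finset.sum_add_distrib,
      Finset.sum_const, Finset.card_range, smul_eq_mul] at this
    exact this
  obtain ⟨T, hT⟩ : ∃ T, T = ∑ i ∈ S, (Nat.digits p (κ i)).sum := ⟨_, rfl⟩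
  have hG : (p - 1) * ∑ a ∈ range e, p ^ a = Q := by
    have := geom p e hp0
    omega
  have hsum2 : (p - 1) * ∑ a ∈ range e, b a = T := by
    have h1 : ∑ a ∈ range e, ∑ i ∈ S, w p e a (κ i)
        = ∑ i ∈ S, (Nat.digits p (κ i)).sum * ∑ a ∈ range e, p ^ a := by
      rw [Finset.sum_comm]
      exact Finset.sum_congr rfl (fun i _ => sum_w p e (κ i))
    have h2 : ∑ a ∈ range e, ∑ i ∈ S, w p e a (κ i) = Q * ∑ a ∈ range e, b a := by
      rw [Finset.mul_sum]; exact Finset.sum_congr rfl (fun a _ => hb1 a)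
    have h3 : ∑ i ∈ S, (Nat.digits p (κ i)).sum * ∑ a ∈ range e, p ^ a
        = T * ∑ a ∈ range e, p ^ a := by
      rw [hT, Finset.sum_mul]
    have h4 : Q * ((p - 1) * ∑ a ∈ range e, b a) = Q * T := by
      calc Q * ((p - 1) * ∑ a ∈ range e, b a)
          = (p - 1) * (Q * ∑ a ∈ range e, b a) := by ring
        _ = (p - 1) * (T * ∑ a ∈ range e, p ^ a) := by rw [← h2, h1, h3]
        _ = T * ((p - 1) * ∑ a ∈ range e, p ^ a) := by ring
        _ = Q * T := by rw [hG]; ring
    exact Nat.eq_of_mul_eq_mul_left hQpos h4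
  have hleg : (p - 1) * padicValNat p (Nat.multinomial S κ) + (Nat.digits p (Q * p ^ s)).sum
      = T := by
    have hspec := Nat.multinomial_spec S κ
    rw [hκ] at hspec
    have hmne : Nat.multinomial S κ ≠ 0 := by
      intro h
      rw [h, mul_zero] at hspec
      exact (Nat.factorial_ne_zero _) hspec.symm
    have hprodne : (∏ i ∈ S, (κ i).factorial) ≠ 0 :=
      Finset.prod_ne_zero_iff.mpr (fun i _ => Nat.factorial_ne_zero _)
    have hval : padicValNat p (Q * p ^ s).factorial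
        = ∑ i ∈ S, padicValNat p (κ i).factorial + padicValNat p (Nat.multinomial S κ) := by
      rw [← hspec, padicValNat.mul hprodne hmne, padicValNat_prod_factorial]
    have hE := legendre_add p (Q * p ^ s)
    have hi : ∑ i ∈ S, ((p - 1) * padicValNat p (κ i).factorial + (Nat.digits p (κ i)).sum)
        = ∑ i ∈ S, κ i :=
      Finset.sum_congr rfl (fun i _ => legendre_add p (κ i))
    rw [Finset.sum_add_distrib, ← Finset.mul_sum, hκ, ← hT] at hi
    rw [hval, mul_add] at hE
    omega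
  have hsE : (Nat.digits p (Q * p ^ s)).sum ≤ e * (p - 1) := by
    rw [mul_comm Q, Nat.digits_base_pow_mul hp1 hQpos, List.sum_append, List.sum_replicate,
      smul_zero, zero_add]
    have hlen : (Nat.digits p Q).length ≤ e := by
      rw [Nat.digits_length_le_iff hp1]
      omega
    have hdig : ∀ x ∈ Nat.digits p Q, x ≤ p - 1 := fun x hx => by
      have := Nat.digits_lt_base hp1 hx; omega
    calc (Nat.digits p Q).sum ≤ (Nat.digits p Q).length • (p - 1) :=
          List.sum_le_card_nsmul _ _ hdig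
      _ ≤ e * (p - 1) := by rw [smul_eq_mul]; exact Nat.mul_le_mul_right _ hlen
  have hfin : e * j ≤ padicValNat p (Nat.multinomial S κ) + e * Z.card := by
    have h1 : (p - 1) * ∑ a ∈ range e, b a
        ≤ (p - 1) * (padicValNat p (Nat.multinomial S κ) + e) := by
      rw [hsum2, ← hleg, mul_add]
      have : (Nat.digits p (Q * p ^ s)).sum ≤ (p - 1) * e := by rw [mul_comm (p - 1) e]; exact hsE
      omega
    have h2 : ∑ a ∈ range e, b a ≤ padicValNat p (Nat.multinomial S κ) + e :=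
      Nat.le_of_mul_le_mul_left h1 (by omega)
    have h3 : e * (j + 1) = e * j + e := by ring
    omega
  calc p ^ (e * j) ∣ p ^ (padicValNat p (Nat.multinomial S κ) + e * Z.card) :=
        pow_dvd_pow p hfin
    _ = p ^ padicValNat p (Nat.multinomial S κ) * (p ^ e) ^ Z.card := by rw [pow_add, pow_mul]
    _ ∣ Nat.multinomial S κ * (p ^ e) ^ Z.card := Nat.mul_dvd_mul pow_padicValNat_dvd dvd_rfl

end Groth.Agent.Lib.Helper4.AxA
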