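import Mathlib

/-!
# Ax's theorem, part B: Teichmüller lifts in the Witt vectors of a finite field
-/

set_option autoImplicit false
set_option linter.style.haveILetI false
set_option linter.unusedSectionVars false
set_option linter.unusedVariables false
set_option linter.unusedSimpArgs false
set_option maxHeartbeats 1600000
set_option maxSynthPendingDepth 3

universe u

namespace Groth.Agent.Lib.Helper4.AxB

open Finset

variable (p : ℕ) [hp : Fact p.Prime] (k : Type u) [Field k] [CharP k p] [PerfectRing k p]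

lemma exists_p_mul (a : WittVector p k) (h : a.coeff 0 = 0) :
    ∃ b : WittVector p k, a = (p : WittVector p k) * b := by
  by_cases ha : a = 0
  · exact ⟨0, by rw [ha, mul_zero]⟩
  · obtain ⟨m, b, hb, hab⟩ := WittVector.exists_eq_pow_p_mul a ha
    cases m with
    | zero => rw [pow_zero, one_mul] at hab; rw [hab] at h; exact absurd h hb
    | succ m => exact ⟨(p : WittVector p k) ^ m * b, by rw [hab, pow_succ']; ring⟩

lemma nat_dvd_of_witt_dvd : ∀ (m n : ℕ),
    ((p : WittVector p k) ^ m ∣ (n : WittVector p k)) → p ^ m ∣ n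
  | 0, n, _ => by simp
  | m + 1, n, h => by
    have hp_ne : (p : WittVector p k) ≠ 0 := WittVector.p_nonzero p k
    have h1 : (p : WittVector p k) ∣ (n : WittVector p k) :=
      dvd_trans (dvd_pow_self _ (Nat.succ_ne_zero m)) h
    have h2 : (n : k) = 0 := by
      obtain ⟨c, hc⟩ := h1
      have := congrArg (WittVector.constantCoeff) hc
      rw [map_natCast, map_mul, map_natCast, CharP.cast_eq_zero k p, zero_mul] at this
      exact this
    obtain ⟨n1, rfl⟩ := (CharP.cast_eq_zero_iff k p n).mp h2
    have h3 : (p : WittVector p k) ^ m ∣ (n1 : WittVector p k) := by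
      rw [pow_succ', Nat.cast_mul] at h
      exact (mul_dvd_mul_iff_left hp_ne).mp h
    rw [pow_succ']
    exact Nat.mul_dvd_mul_left p (nat_dvd_of_witt_dvd m n1 h3)

variable [Fintype k]

lemma indicator [DecidableEq k] (a : WittVector p k) (s : ℕ) :
    (p : WittVector p k) ^ (s + 1) ∣
      (1 - a ^ ((Fintype.card k - 1) * p ^ s)) - (if a.coeff 0 = 0 then 1 else 0) := by
  have hp1 : 1 < p := hp.out.one_lt
  by_cases h : a.coeff 0 = 0
  · rw [if_pos h]
    obtain ⟨b, rfl⟩ := exists_p_mul p k a h
    have hq : 1 ≤ Fintype.card k - 1 := by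
      have := Fintype.one_lt_card (α := k); omega
    have hE : s + 1 ≤ (Fintype.card k - 1) * p ^ s := by
      have h1 : s < p ^ s := Nat.lt_pow_self hp1
      calc s + 1 ≤ p ^ s := h1
        _ = 1 * p ^ s := (one_mul _).symm
        _ ≤ (Fintype.card k - 1) * p ^ s := Nat.mul_le_mul_right _ hq
    have : (p : WittVector p k) ^ (s + 1) ∣
        ((p : WittVector p k) * b) ^ ((Fintype.card k - 1) * p ^ s) := by
      rw [mul_pow]
      exact Dvd.dvd.mul_right (pow_dvd_pow _ hE) _
    have h2 : (1 - ((p : WittVector p k) * b) ^ ((Fintype.card k - 1) * p ^ s)) - 1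
        = -(((p : WittVector p k) * b) ^ ((Fintype.card k - 1) * p ^ s)) := by ring
    rw [h2]; exact (dvd_neg).mpr this
  · rw [if_neg h, sub_zero]
    have h1 : (a ^ (Fintype.card k - 1) - 1).coeff 0 = 0 := by
      have : WittVector.constantCoeff (a ^ (Fintype.card k - 1) - 1) = 0 := by
        rw [map_sub, map_pow, map_one]
        have : WittVector.constantCoeff a ≠ 0 := h
        rw [FiniteField.pow_card_sub_one_eq_one _ this, sub_self]
      exact this
    obtain ⟨c, hc⟩ := exists_p_mul p k _ h1
    have h2 : (p : WittVector p k) ∣ a ^ (Fintype.card k - 1) - 1 := ⟨c, hc⟩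
    have h3 := dvd_sub_pow_of_dvd_sub h2 s
    rw [one_pow, ← pow_mul] at h3
    have h4 : 1 - a ^ ((Fintype.card k - 1) * p ^ s)
        = -(a ^ ((Fintype.card k - 1) * p ^ s) - 1) := by ring
    rw [h4]; exact (dvd_neg).mpr h3

lemma sum_teich_pow_zero :
    ∑ t : k, (WittVector.teichmuller p t) ^ 0 = (Fintype.card k : WittVector p k) := by
  simp

lemma sum_teich_pow_eq_zero (v : ℕ) (hv : ¬ (Fintype.card k - 1) ∣ v) :
    ∑ t : k, (WittVector.teichmuller p t) ^ v = 0 := by
  classical
  have hex : ∃ x : kˣ, x ^ v ≠ 1 := by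
    by_contra hcon
    push_neg at hcon
    exact hv ((FiniteField.forall_pow_eq_one_iff k v).mp hcon)
  obtain ⟨x, hx⟩ := hex
  obtain ⟨g, hg⟩ : ∃ g : k, g = (x : k) := ⟨_, rfl⟩
  have hg0 : g ≠ 0 := by rw [hg]; exact x.ne_zero
  have hgv : g ^ v ≠ 1 := by
    intro h
    apply hx
    apply Units.ext
    rw [Units.val_pow_eq_pow_val, Units.val_one, ← hg]; exact h
  obtain ⟨Ssum, hS⟩ : ∃ S : WittVector p k, S = ∑ t : k, (WittVector.teichmuller p t) ^ v :=
    ⟨_, rfl⟩
  rw [← hS]
  have h1 : Ssum = (WittVector.teichmuller p g) ^ v * Ssum := by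
    calc Ssum = ∑ t : k, (WittVector.teichmuller p t) ^ v := hS
      _ = ∑ t : k, (WittVector.teichmuller p (g * t)) ^ v :=
          (Equiv.sum_comp (Equiv.mulLeft₀ g hg0)
            (fun t => (WittVector.teichmuller p t) ^ v)).symm
      _ = ∑ t : k, (WittVector.teichmuller p g) ^ v * (WittVector.teichmuller p t) ^ v :=
          Finset.sum_congr rfl (fun t _ => by rw [map_mul, mul_pow])
      _ = (WittVector.teichmuller p g) ^ v * Ssum := by rw [hS, Finset.mul_sum]
  have h2 : (WittVector.teichmuller p g) ^ v ≠ 1 := by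
    intro h
    apply hgv
    have h' := congrArg WittVector.constantCoeff h
    rw [map_pow, map_one] at h'
    have hc : WittVector.constantCoeff (WittVector.teichmuller p g) = g :=
      WittVector.teichmuller_coeff_zero p g
    rw [hc] at h'
    exact h'
  have h3 : ((WittVector.teichmuller p g) ^ v - 1) * Ssum = 0 := by
    rw [sub_mul, one_mul, ← h1, sub_self]
  rcases mul_eq_zero.mp h3 with h | h
  · exact absurd (sub_eq_zero.mp h) h2
  · exact h

end Groth.Agent.Lib.Helper4.AxB
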