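import Mathlib
import Groth.Agent.Lib.Helper4.AxA
import Groth.Agent.Lib.Helper4.AxB

/-!
# Ax's theorem: `q^j` divides the number of zeros of a polynomial of degree `d` in `N > j d`
variables over a field with `q` elements.
-/

set_option autoImplicit false
set_option linter.style.haveILetI false
set_option linter.unusedSectionVars false
set_option linter.unusedVariables false
set_option linter.unusedSimpArgs false
set_option maxHeartbeats 1600000
set_option maxSynthPendingDepth 3

universe u

namespace Groth.Agent.Lib.Helper4.AxC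

open Finset

section

variable (p : ℕ) [hp : Fact p.Prime] {k : Type u} [Field k] [CharP k p] {N : ℕ}

/-- The Teichmüller lift of `F`, evaluated at the Teichmüller lift of `y`. -/
noncomputable def G (F : MvPolynomial (Fin N) k) (y : Fin N → k) : WittVector p k :=
  ∑ u ∈ F.support, WittVector.teichmuller p (F.coeff u) *
    ∏ l, WittVector.teichmuller p (y l) ^ (u l)

lemma G_coeff_zero (F : MvPolynomial (Fin N) k) (y : Fin N → k) :
    (G p F y).coeff 0 = MvPolynomial.eval y F := by
  have hcτ : ∀ c : k, WittVector.constantCoeff (WittVector.teichmuller p c) = c :=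
    fun c => WittVector.teichmuller_coeff_zero p c
  have : WittVector.constantCoeff (G p F y) = MvPolynomial.eval y F := by
    unfold G
    rw [map_sum, MvPolynomial.eval_eq']
    refine Finset.sum_congr rfl (fun u _ => ?_)
    rw [map_mul, map_prod, hcτ]
    congr 1
    refine Finset.prod_congr rfl (fun l _ => ?_)
    rw [map_pow, hcτ]
  exact this

variable [Fintype k]

lemma sum_G_pow (F : MvPolynomial (Fin N) k) (E : ℕ) :
    ∑ y : Fin N → k, G p F y ^ E = ∑ κ ∈ Finset.piAntidiag F.support E,
      (Nat.multinomial F.support κ : WittVector p k) *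
        (∏ u ∈ F.support, WittVector.teichmuller p (F.coeff u) ^ κ u) *
        ∏ l, ∑ t : k, WittVector.teichmuller p t ^ (∑ u ∈ F.support, κ u * u l) := by
  classical
  have hexp : ∀ y : Fin N → k, G p F y ^ E = ∑ κ ∈ Finset.piAntidiag F.support E,
      (Nat.multinomial F.support κ : WittVector p k) *
        ∏ u ∈ F.support, (WittVector.teichmuller p (F.coeff u) *
          ∏ l, WittVector.teichmuller p (y l) ^ (u l)) ^ κ u := fun y => by
    unfold G
    exact Finset.sum_pow_eq_sum_piAntidiag _ _ _
  rw [Finset.sum_congr rfl (fun y _ => hexp y), Finset.sum_comm]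
  refine Finset.sum_congr rfl (fun κ _ => ?_)
  have hterm : ∀ y : Fin N → k, ∏ u ∈ F.support, (WittVector.teichmuller p (F.coeff u) *
          ∏ l, WittVector.teichmuller p (y l) ^ (u l)) ^ κ u
      = (∏ u ∈ F.support, WittVector.teichmuller p (F.coeff u) ^ κ u) *
          ∏ l, WittVector.teichmuller p (y l) ^ (∑ u ∈ F.support, κ u * u l) := by
    intro y
    have h1 : ∀ u ∈ F.support, (WittVector.teichmuller p (F.coeff u) *
          ∏ l, WittVector.teichmuller p (y l) ^ (u l)) ^ κ u
        = WittVector.teichmuller p (F.coeff u) ^ κ u *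
            ∏ l, WittVector.teichmuller p (y l) ^ (κ u * u l) := by
      intro u _
      rw [mul_pow, ← Finset.prod_pow]
      congr 1
      exact Finset.prod_congr rfl (fun l _ => by rw [← pow_mul, mul_comm])
    rw [Finset.prod_congr rfl h1, Finset.prod_mul_distrib, Finset.prod_comm]
    congr 1
    exact Finset.prod_congr rfl (fun l _ => Finset.prod_pow_eq_pow_sum _ _ _)
  have h2 : ∀ y : Fin N → k, (Nat.multinomial F.support κ : WittVector p k) *
        ∏ u ∈ F.support, (WittVector.teichmuller p (F.coeff u) *
          ∏ l, WittVector.teichmuller p (y l) ^ (u l)) ^ κ u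
      = ((Nat.multinomial F.support κ : WittVector p k) *
          ∏ u ∈ F.support, WittVector.teichmuller p (F.coeff u) ^ κ u) *
          ∏ l, WittVector.teichmuller p (y l) ^ (∑ u ∈ F.support, κ u * u l) := by
    intro y; rw [hterm y, mul_assoc]
  rw [Finset.sum_congr rfl (fun y _ => h2 y), ← Finset.mul_sum]
  congr 1
  rw [Finset.prod_univ_sum, Fintype.piFinset_univ]

theorem ax_aux [DecidableEq k] [PerfectRing k p]
    (e : ℕ) (he : 0 < e) (hq : Fintype.card k = p ^ e)
    (d j : ℕ) (hd : 0 < d) (hjpos : 0 < j)
    (F : MvPolynomial (Fin N) k) (hF : F.totalDegree ≤ d) (hj : j * d < N) :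
    p ^ (e * j) ∣ Fintype.card {x : Fin N → k // MvPolynomial.eval x F = 0} := by
  classical
  obtain ⟨s, hs⟩ : ∃ s, s + 1 = e * j :=
    ⟨e * j - 1, by have := Nat.mul_pos he hjpos; omega⟩
  rw [← hs]
  apply AxB.nat_dvd_of_witt_dvd p k
  obtain ⟨E, hE⟩ : ∃ E, E = (Fintype.card k - 1) * p ^ s := ⟨_, rfl⟩
  have hcount : ((Fintype.card {x : Fin N → k // MvPolynomial.eval x F = 0} : ℕ) :
        WittVector p k)
      = ∑ y : Fin N → k, (if (G p F y).coeff 0 = 0 then (1 : WittVector p k) else 0) := by
    rw [Fintype.card_subtype, Finset.card_filter, Nat.cast_sum]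
    refine Finset.sum_congr rfl (fun y _ => ?_)
    rw [G_coeff_zero p F y]; split_ifs <;> simp
  have hcong : (p : WittVector p k) ^ (s + 1) ∣
      ∑ y : Fin N → k, (1 - G p F y ^ E) -
        ∑ y : Fin N → k, (if (G p F y).coeff 0 = 0 then (1 : WittVector p k) else 0) := by
    rw [← Finset.sum_sub_distrib]
    refine Finset.dvd_sum (fun y _ => ?_)
    rw [hE]
    exact AxB.indicator p k (G p F y) s
  have hjN : j ≤ N := Nat.le_of_lt (lt_of_le_of_lt (Nat.le_mul_of_pos_right j hd) hj)
  have hdeg : ∀ u ∈ F.support, ∑ l, u l ≤ d := by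
    intro u hu
    have h1 := MvPolynomial.le_totalDegree hu
    rw [Finsupp.sum_fintype _ _ (fun _ => rfl)] at h1
    exact le_trans h1 hF
  have hmain : (p : WittVector p k) ^ (s + 1) ∣ ∑ y : Fin N → k, (1 - G p F y ^ E) := by
    rw [Finset.sum_sub_distrib]
    apply dvd_sub
    · have hcardfun : Fintype.card (Fin N → k) = (p ^ e) ^ N := by
        rw [Fintype.card_fun, Fintype.card_fin, hq]
      simp only [Finset.sum_const, Finset.card_univ, hcardfun, nsmul_eq_mul, mul_one]
      rw [← pow_mul, Nat.cast_pow]
      apply pow_dvd_pow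
      rw [hs]; exact Nat.mul_le_mul_left e hjN
    · rw [sum_G_pow p F E]
      refine Finset.dvd_sum (fun κ hκ => ?_)
      rw [Finset.mem_piAntidiag] at hκ
      by_cases hall : ∀ l, (Fintype.card k - 1) ∣ ∑ u ∈ F.support, κ u * u l
      · have hcore := AxA.core (ι := Fin N →₀ ℕ) (τ := Fin N) p e s d j hp.out he hd F.support
          (fun u l => u l) κ (by rw [hκ.1, hE, hq]) hdeg
          (by intro l; rw [← hq]; exact hall l) (by rw [Fintype.card_fin]; exact hj)
        have hsplit : ∏ l, ∑ t : k, WittVector.teichmuller p t ^ (∑ u ∈ F.support, κ u * u l)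
            = (∏ l ∈ Finset.univ.filter (fun l => ∑ u ∈ F.support, κ u * u l = 0),
                ∑ t : k, WittVector.teichmuller p t ^ (∑ u ∈ F.support, κ u * u l)) *
              ∏ l ∈ Finset.univ.filter (fun l => ¬ ∑ u ∈ F.support, κ u * u l = 0),
                ∑ t : k, WittVector.teichmuller p t ^ (∑ u ∈ F.support, κ u * u l) :=
          (Finset.prod_filter_mul_prod_filter_not _ _ _).symm
        have hz : ∏ l ∈ Finset.univ.filter (fun l => ∑ u ∈ F.support, κ u * u l = 0),
                ∑ t : k, WittVector.teichmuller p t ^ (∑ u ∈ F.support, κ u * u l)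
            = ((p ^ e : ℕ) : WittVector p k) ^
                (Finset.univ.filter (fun l => ∑ u ∈ F.support, κ u * u l = 0)).card := by
          rw [Finset.prod_congr rfl (fun l hl => by
            rw [(Finset.mem_filter.mp hl).2, AxB.sum_teich_pow_zero, hq])]
          rw [Finset.prod_const]
        rw [hsplit, hz]
        have hdv : (p : WittVector p k) ^ (s + 1) ∣
            ((Nat.multinomial F.support κ * (p ^ e) ^
              (Finset.univ.filter (fun l => ∑ u ∈ F.support, κ u * u l = 0)).card : ℕ) :
              WittVector p k) := by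
          rw [hs]
          have := Nat.cast_dvd_cast (α := WittVector p k) hcore
          rwa [Nat.cast_pow] at this
        rw [Nat.cast_mul, Nat.cast_pow] at hdv
        obtain ⟨c, hc⟩ := hdv
        refine ⟨c * (∏ u ∈ F.support, WittVector.teichmuller p (F.coeff u) ^ κ u) *
          ∏ l ∈ Finset.univ.filter (fun l => ¬ ∑ u ∈ F.support, κ u * u l = 0),
            ∑ t : k, WittVector.teichmuller p t ^ (∑ u ∈ F.support, κ u * u l), ?_⟩
        have hgen : ∀ (M C Qz R P c : WittVector p k), M * Qz = P * c →
            M * C * (Qz * R) = P * (c * C * R) := by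
          intro M C Qz R P c h
          calc M * C * (Qz * R) = (M * Qz) * (C * R) := by ring
            _ = (P * c) * (C * R) := by rw [h]
            _ = P * (c * C * R) := by ring
        exact hgen _ _ _ _ _ _ hc
      · push_neg at hall
        obtain ⟨l, hl⟩ := hall
        have : ∏ l, ∑ t : k, WittVector.teichmuller p t ^ (∑ u ∈ F.support, κ u * u l) = 0 :=
          Finset.prod_eq_zero (Finset.mem_univ l) (AxB.sum_teich_pow_eq_zero p k _ hl)
        rw [this, mul_zero]; exact dvd_zero _
  rw [hcount]
  have := dvd_sub hmain hcong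
  rwa [sub_sub_cancel] at this

end

/-- **Ax's theorem.** -/
theorem ax (k : Type u) [Field k] [Fintype k] [DecidableEq k] (N d j : ℕ) (hd : 0 < d)
    (F : MvPolynomial (Fin N) k) (hF : F.totalDegree ≤ d) (hj : j * d < N) :
    Fintype.card k ^ j ∣ Fintype.card {x : Fin N → k // MvPolynomial.eval x F = 0} := by
  rcases Nat.eq_zero_or_pos j with rfl | hjpos
  · simp
  obtain ⟨p, hchar⟩ := CharP.exists k
  haveI := hchar
  haveI hp : Fact p.Prime := ⟨CharP.char_is_prime k p⟩
  obtain ⟨⟨e, he⟩, _, hq⟩ := FiniteField.card k p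
  have hq' : Fintype.card k = p ^ e := hq
  haveI : ExpChar k p := ExpChar.prime hp.out
  haveI : PerfectRing k p := inferInstance
  rw [hq', ← pow_mul]
  exact ax_aux p e he hq' d j hd hjpos F hF hj

end Groth.Agent.Lib.Helper4.AxC
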