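import Groth.Agent.Lib.Helper4.PolyKos2
import Groth.Agent.Lib.Helper7.TorARU
import Groth.Prelude.Def_BlowUp2

/-!
# Tor of the affine blow-up algebra `A[I/a₀]` is killed by a power of `I` in degrees `≥` number of
generators of `I`

`main`: if `I^c` kills `Tor_i(M, A/I^q)` for all `i > t₁` (as provided by `PolyKos.main`), `A` is
Noetherian and `a₀ ∈ I`, then a power of `I` kills `Tor_i(A[I/a₀], M)` for all `i ≥ max t₁ 1`.
The blow-up algebra is the directed union of the images of `I^n → A_{a₀}`, `y ↦ y / a₀^n`.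
-/

set_option autoImplicit false
set_option linter.style.haveILetI false
set_option linter.unusedSectionVars false
set_option linter.unusedVariables false
set_option maxHeartbeats 1600000

universe u

open CategoryTheory CategoryTheory.Limits

namespace Groth.Agent.Lib.Helper4.BlowTor

open Groth.Agent.Lib.Helper7 Groth.Agent.Lib.Helper4.TorChain

variable {A : Type u} [CommRing A] (I : Ideal A) (a₀ : A)

/-- the inverse of `a₀` in `A_{a₀}`. -/
noncomputable def uu : Localization.Away a₀ := IsLocalization.Away.invSelf a₀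

lemma alg_mul_uu : algebraMap A (Localization.Away a₀) a₀ * uu a₀ = 1 :=
  IsLocalization.Away.mul_invSelf a₀

/-- `y ↦ y / a₀^n`. -/
noncomputable def phi (n : ℕ) : A →ₗ[A] Localization.Away a₀ :=
  (LinearMap.mulLeft A (uu a₀ ^ n)).comp (Algebra.linearMap A (Localization.Away a₀))

lemma phi_apply (n : ℕ) (y : A) :
    phi a₀ n y = uu a₀ ^ n * algebraMap A (Localization.Away a₀) y := rfl

lemma pow_mul_pow (m : ℕ) : uu a₀ ^ m * algebraMap A (Localization.Away a₀) a₀ ^ m = 1 := by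
  rw [← mul_pow, mul_comm, alg_mul_uu, one_pow]

lemma phi_shift (n m : ℕ) (y : A) : phi a₀ (n + m) (a₀ ^ m * y) = phi a₀ n y := by
  rw [phi_apply, phi_apply, map_mul, map_pow, pow_add]
  calc uu a₀ ^ n * uu a₀ ^ m * (algebraMap A (Localization.Away a₀) a₀ ^ m *
        algebraMap A (Localization.Away a₀) y)
      = uu a₀ ^ n * (uu a₀ ^ m * algebraMap A (Localization.Away a₀) a₀ ^ m) *
        algebraMap A (Localization.Away a₀) y := by ring
    _ = uu a₀ ^ n * algebraMap A (Localization.Away a₀) y := by rw [pow_mul_pow, mul_one]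

lemma phi_mul (n m : ℕ) (y z : A) : phi a₀ n y * phi a₀ m z = phi a₀ (n + m) (y * z) := by
  rw [phi_apply, phi_apply, phi_apply, map_mul, pow_add]
  ring

lemma phi_zero (y : A) : phi a₀ 0 y = algebraMap A (Localization.Away a₀) y := by
  rw [phi_apply, pow_zero, one_mul]

lemma mk'_eq_phi_one (x : A) :
    IsLocalization.mk' (Localization.Away a₀) x
      (⟨a₀, Submonoid.mem_powers a₀⟩ : Submonoid.powers a₀) = phi a₀ 1 x := by
  rw [IsLocalization.mk'_eq_iff_eq_mul, phi_apply, pow_one]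
  show algebraMap A (Localization.Away a₀) x =
    uu a₀ * algebraMap A (Localization.Away a₀) x * algebraMap A (Localization.Away a₀) a₀
  linear_combination (-(algebraMap A (Localization.Away a₀) x)) * alg_mul_uu a₀

lemma alg_eq_pow_mul_phi (n : ℕ) (x : A) :
    algebraMap A (Localization.Away a₀) x =
      algebraMap A (Localization.Away a₀) a₀ ^ n * phi a₀ n x := by
  rw [phi_apply, ← mul_assoc, mul_comm _ (uu a₀ ^ n), pow_mul_pow, one_mul]

lemma phi_eq_zero (n : ℕ) (y : A) (h : phi a₀ n y = 0) : ∃ k : ℕ, a₀ ^ k * y = 0 := by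
  have h1 : algebraMap A (Localization.Away a₀) y = 0 := by
    rw [alg_eq_pow_mul_phi a₀ n y, h, mul_zero]
  obtain ⟨⟨m, hm'⟩, hm⟩ :=
    (IsLocalization.map_eq_zero_iff (Submonoid.powers a₀) (Localization.Away a₀) y).mp h1
  obtain ⟨k, rfl⟩ := (Submonoid.mem_powers_iff _ _).mp hm'
  exact ⟨k, hm⟩

lemma exists_torsion_bound [IsNoetherianRing A] :
    ∃ c' : ℕ, ∀ y : A, (∃ k : ℕ, a₀ ^ k * y = 0) → a₀ ^ c' * y = 0 := by
  let f : ℕ →o Submodule A A :=
    ⟨fun k => LinearMap.ker (LinearMap.mulLeft A (a₀ ^ k)), fun k k' hkk' y hy => by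
      rw [LinearMap.mem_ker, LinearMap.mulLeft_apply] at hy ⊢
      obtain ⟨d, rfl⟩ := Nat.exists_eq_add_of_le hkk'
      rw [pow_add, mul_comm (a₀ ^ k), mul_assoc, hy, mul_zero]⟩
  obtain ⟨c', hc'⟩ := monotone_stabilizes_iff_noetherian.mpr
    (inferInstance : IsNoetherian A A) f
  refine ⟨c', fun y ⟨k, hk⟩ => ?_⟩
  have hy : y ∈ f (max k c') := by
    show y ∈ LinearMap.ker (LinearMap.mulLeft A (a₀ ^ (max k c')))
    rw [LinearMap.mem_ker, LinearMap.mulLeft_apply]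
    obtain ⟨d, hd⟩ := Nat.exists_eq_add_of_le (le_max_left k c')
    rw [hd, pow_add, mul_comm (a₀ ^ k), mul_assoc, hk, mul_zero]
  rw [← hc' (max k c') (le_max_right _ _)] at hy
  exact hy

/-- the blow-up algebra. -/
noncomputable abbrev BB : Subalgebra A (Localization.Away a₀) := BlowUp.affineAlgebra A I a₀

variable {I a₀}

lemma phi_mem (ha₀ : a₀ ∈ I) : ∀ (n : ℕ) (y : A), y ∈ I ^ n → phi a₀ n y ∈ BB I a₀ := by
  intro n
  induction n with
  | zero =>
    intro y _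
    rw [phi_zero]
    exact Subalgebra.algebraMap_mem _ y
  | succ n ih =>
    intro y hy
    rw [pow_succ] at hy
    refine Submodule.smul_induction_on (p := fun y => phi a₀ (n + 1) y ∈ BB I a₀) hy ?_ ?_
    · intro y' hy' x hx
      rw [smul_eq_mul, ← phi_mul]
      refine mul_mem (ih y' hy') ?_
      rw [← mk'_eq_phi_one]
      exact Algebra.subset_adjoin ⟨x, hx, rfl⟩
    · intro y z hy hz
      rw [map_add]
      exact add_mem hy hz

lemma exists_phi_eq (ha₀ : a₀ ∈ I) (b : Localization.Away a₀) (hb : b ∈ BB I a₀) :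
    ∃ n : ℕ, ∃ y ∈ I ^ n, phi a₀ n y = b := by
  induction hb using Algebra.adjoin_induction with
  | mem x hx =>
    obtain ⟨x', hx', rfl⟩ := hx
    exact ⟨1, x', by rwa [pow_one], (mk'_eq_phi_one a₀ x').symm⟩
  | algebraMap r => exact ⟨0, r, by rw [pow_zero, Ideal.one_eq_top]; trivial, phi_zero a₀ r⟩
  | add x y _ _ hx hy =>
    obtain ⟨n, y₁, hy₁, rfl⟩ := hx
    obtain ⟨m, y₂, hy₂, rfl⟩ := hy
    refine ⟨n + m, a₀ ^ m * y₁ + a₀ ^ n * y₂, ?_, ?_⟩
    · refine Ideal.add_mem _ ?_ ?_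
      · have h := Ideal.mul_mem_mul (Ideal.pow_mem_pow ha₀ m) hy₁
        rwa [← pow_add, add_comm] at h
      · have h := Ideal.mul_mem_mul (Ideal.pow_mem_pow ha₀ n) hy₂
        rwa [← pow_add] at h
    · rw [map_add, phi_shift, add_comm n m, phi_shift]
  | mul x y _ _ hx hy =>
    obtain ⟨n, y₁, hy₁, rfl⟩ := hx
    obtain ⟨m, y₂, hy₂, rfl⟩ := hy
    refine ⟨n + m, y₁ * y₂, ?_, (phi_mul a₀ n m y₁ y₂).symm⟩
    rw [pow_add]
    exact Ideal.mul_mem_mul hy₁ hy₂

/-- `I^n → A[I/a₀]`, `y ↦ y / a₀^n`. -/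
noncomputable def psi (ha₀ : a₀ ∈ I) (n : ℕ) : ↥(I ^ n) →ₗ[A] ↥(BB I a₀) where
  toFun y := ⟨phi a₀ n y.1, phi_mem ha₀ n y.1 y.2⟩
  map_add' y z := Subtype.ext (by
    show phi a₀ n (y.1 + z.1) = phi a₀ n y.1 + phi a₀ n z.1
    exact map_add _ _ _)
  map_smul' r y := Subtype.ext (by
    show phi a₀ n (r • y.1) = r • phi a₀ n y.1
    exact map_smul _ _ _)

lemma psi_val (ha₀ : a₀ ∈ I) (n : ℕ) (y : ↥(I ^ n)) : (psi ha₀ n y).1 = phi a₀ n y.1 := rfl

lemma range_psi_mono (ha₀ : a₀ ∈ I) (n m : ℕ) :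
    LinearMap.range (psi ha₀ n) ≤ LinearMap.range (psi ha₀ (n + m)) := by
  rintro _ ⟨y, rfl⟩
  refine ⟨⟨a₀ ^ m * y.1, ?_⟩, ?_⟩
  · have h := Ideal.mul_mem_mul (Ideal.pow_mem_pow ha₀ m) y.2
    rwa [← pow_add, add_comm] at h
  · apply Subtype.ext
    rw [psi_val, psi_val]
    exact phi_shift a₀ n m y.1

lemma exists_le_range_psi (ha₀ : a₀ ∈ I) (B' : Submodule A ↥(BB I a₀)) (hB' : B'.FG) :
    ∃ n : ℕ, B' ≤ LinearMap.range (psi ha₀ n) := by
  have hall : ∀ b : ↥(BB I a₀), ∃ n : ℕ, b ∈ LinearMap.range (psi ha₀ n) := by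
    intro b
    obtain ⟨n, y, hy, hyb⟩ := exists_phi_eq ha₀ b.1 b.2
    exact ⟨n, ⟨y, hy⟩, Subtype.ext hyb⟩
  choose nf hnf using hall
  obtain ⟨S, rfl⟩ := hB'
  refine ⟨∑ s ∈ S, nf s, ?_⟩
  rw [Submodule.span_le]
  intro s hs
  have hle : nf s ≤ ∑ s ∈ S, nf s :=
    Finset.single_le_sum (f := nf) (fun _ _ => Nat.zero_le _) hs
  obtain ⟨d, hd⟩ := Nat.exists_eq_add_of_le hle
  rw [hd]
  exact range_psi_mono ha₀ (nf s) d (hnf s)

section main

variable [IsNoetherianRing A] (ha₀ : a₀ ∈ I) (t₁ c : ℕ)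
  (hc : ∀ (M : Type u) [AddCommGroup M] [Module A M] (i q : ℕ), t₁ < i → ∀ r ∈ I ^ c,
    ∀ x : DRing.Tor A i M (A ⧸ I ^ q), r • x = 0)

include hc in
/-- `I^c` kills `Tor_i(M, I^n)` for `i ≥ t₁`, `i ≥ 1`. -/
lemma kills_tor_pow (M : ModuleCat.{u} A) (i n : ℕ) (hi : t₁ ≤ i + 1) (r : A) (hr : r ∈ I ^ c)
    (w : T (i + 1) M (idealSC (I ^ n)).X₁) : r • w = 0 := by
  have hS := idealSC_shortExact (I ^ n)
  haveI : Subsingleton (T (i + 1) M (idealSC (I ^ n)).X₂) :=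
    Tor_subsingleton_of_flat_right M (ModuleCat.of A A) inferInstance (i + 1) (Nat.succ_pos _)
  obtain ⟨v, hv⟩ := exact₁_elem M (idealSC (I ^ n)) hS (i + 1) w (Subsingleton.elim _ _)
  have hv0 : r • v = 0 := hc M (i + 1 + 1) n (by omega) r hr v
  rw [← hv, ← map_smul, hv0, map_zero]

include hc ha₀ in
theorem key (c' : ℕ) (hc' : ∀ y : A, (∃ k : ℕ, a₀ ^ k * y = 0) → a₀ ^ c' * y = 0)
    (M : ModuleCat.{u} A) (i : ℕ) (hi : t₁ ≤ i + 1) (r₂ : A) (hr₂ : r₂ ∈ I ^ c)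
    (y' : T (i + 1) M (ModuleCat.of A ↥(BB I a₀))) : (r₂ * a₀ ^ c') • y' = 0 := by
  obtain ⟨B', hB', y1, hy1⟩ := exists_Tor_lift_fg (i + 1) M ↥(BB I a₀) y'
  obtain ⟨n, hn⟩ := exists_le_range_psi ha₀ B' hB'
  let F := (Tor (ModuleCat.{u} A) (i + 1)).obj M
  let Rn : Submodule A ↥(BB I a₀) := LinearMap.range (psi ha₀ n)
  let j1 : ModuleCat.of A ↥B' ⟶ ModuleCat.of A ↥Rn := ModuleCat.ofHom (Submodule.inclusion hn)
  let j2 : ModuleCat.of A ↥Rn ⟶ ModuleCat.of A ↥(BB I a₀) := ModuleCat.ofHom Rn.subtype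
  let j : ModuleCat.of A ↥B' ⟶ ModuleCat.of A ↥(BB I a₀) := ModuleCat.ofHom B'.subtype
  have hj : j1 ≫ j2 = j := rfl
  let y2 : T (i + 1) M (ModuleCat.of A ↥Rn) := (F.map j1).hom y1
  have hy2 : (F.map j2).hom y2 = y' := by
    have h1 : F.map j1 ≫ F.map j2 = F.map j := by
      rw [← CategoryTheory.Functor.map_comp, hj]
    have h2 := congrArg (fun g => g.hom y1) h1
    exact h2.trans hy1
  let S : ShortComplex (ModuleCat.{u} A) :=
    ModuleCat.shortComplexOfCompEqZero (M := ↥(LinearMap.ker (psi ha₀ n))) (N := ↥(I ^ n))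
      (L := ↥(LinearMap.range (psi ha₀ n))) (LinearMap.ker (psi ha₀ n)).subtype
      (psi ha₀ n).rangeRestrict (by
        apply LinearMap.ext
        intro z
        apply Subtype.ext
        exact z.2)
  have hS : S.ShortExact := ModuleCat.shortComplex_shortExact S (by
      intro x
      constructor
      · intro hx
        have hx' : psi ha₀ n x = 0 := congrArg Subtype.val hx
        exact ⟨⟨x, hx'⟩, rfl⟩
      · rintro ⟨z, rfl⟩
        apply Subtype.ext
        exact z.2) (Submodule.subtype_injective _) (psi ha₀ n).surjective_rangeRestrict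
  have hker : ∀ w : S.X₁, a₀ ^ c' • w = 0 := by
    intro w
    have hw : psi ha₀ n w.1 = 0 := w.2
    have hw' : phi a₀ n w.1.1 = 0 := congrArg Subtype.val hw
    have h3 := hc' w.1.1 (phi_eq_zero a₀ n w.1.1 hw')
    apply Subtype.ext
    apply Subtype.ext
    exact h3
  have hδ : (torδ M S hS i).hom (a₀ ^ c' • y2) = 0 := by
    rw [map_smul]
    exact tor_smul_eq_zero_of_smul_eq_zero i M S.X₁ (a₀ ^ c') hker _
  obtain ⟨w, hw⟩ := exact₃_elem M S hS i (a₀ ^ c' • y2) hδ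
  have hw0 : r₂ • w = 0 := kills_tor_pow t₁ c hc M i n hi r₂ hr₂ w
  have h4 : (r₂ * a₀ ^ c') • y2 = 0 := by
    rw [mul_smul, ← hw, ← map_smul, hw0, map_zero]
  rw [← hy2, ← map_smul, h4, map_zero]

include hc ha₀ in
theorem main : ∃ c₂ : ℕ, ∀ (M : Type u) [AddCommGroup M] [Module A M] (i : ℕ), t₁ ≤ i → 1 ≤ i →
    ∀ x ∈ I ^ c₂, ∀ y : DRing.Tor A i ↥(BlowUp.affineAlgebra A I a₀) M, x • y = 0 := by
  obtain ⟨c', hc'⟩ := exists_torsion_bound (A := A) a₀
  refine ⟨c + c', ?_⟩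
  intro M _ _ i hi hi1 x hx y
  obtain ⟨i', rfl⟩ : ∃ i', i = i' + 1 := ⟨i - 1, by omega⟩
  let Bm : ModuleCat.{u} A := ModuleCat.of A ↥(BB I a₀)
  let Mm : ModuleCat.{u} A := ModuleCat.of A M
  let F := (Tor (ModuleCat.{u} A) (i' + 1)).obj Mm
  -- everything in the second variable
  have hsecond : ∀ y' : T (i' + 1) Mm Bm, x • y' = 0 := by
    intro y'
    rw [pow_add] at hx
    refine Submodule.smul_induction_on (p := fun x => x • y' = 0) hx ?_ ?_
    · intro r₂ hr₂ x' hx'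
      let β : ↥(BB I a₀) := psi ha₀ c' ⟨x', hx'⟩
      let mβ : Bm ⟶ Bm := ModuleCat.ofHom (LinearMap.mulLeft A β)
      have hmor : x' • 𝟙 Bm = mβ ≫ (a₀ ^ c' • 𝟙 Bm) := by
        apply ModuleCat.hom_ext
        apply LinearMap.ext
        intro b
        apply Subtype.ext
        show x' • b.1 = a₀ ^ c' • (phi a₀ c' x' * b.1)
        rw [Algebra.smul_def, Algebra.smul_def, alg_eq_pow_mul_phi a₀ c' x', map_pow]
        ring
      have h1 : x' • 𝟙 (F.obj Bm) = F.map mβ ≫ (a₀ ^ c' • 𝟙 (F.obj Bm)) := by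
        rw [← tor_obj_map_smul_id, ← tor_obj_map_smul_id, hmor, CategoryTheory.Functor.map_comp]
      have h2 : x' • y' = a₀ ^ c' • (F.map mβ).hom y' := congrArg (fun g => g.hom y') h1
      rw [smul_eq_mul, mul_smul, h2, ← mul_smul]
      exact key ha₀ t₁ c hc c' hc' Mm i' hi r₂ hr₂ _
    · intro u v hu hv
      rw [add_smul, hu, hv, add_zero]
  -- flip
  have h1 := hsecond ((torFlipIso (i' + 1) Bm Mm).hom.hom y)
  rw [← map_smul] at h1
  apply (torFlipIso (i' + 1) Bm Mm).toLinearEquiv.injective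
  show (torFlipIso (i' + 1) Bm Mm).hom.hom (x • y) = (torFlipIso (i' + 1) Bm Mm).hom.hom 0
  rw [h1, map_zero]

end main

end Groth.Agent.Lib.Helper4.BlowTor
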