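import Groth.Agent.Lib.Helper4.TorsionFree
import Groth.Agent.Lib.Helper4.Depth2
import Groth.Agent.Lib.Helper4.CMChain
import Groth.Agent.Lib.Helper4.FaltLocal
import Groth.Agent.Lib.Helper4.QuotCanon
import Groth.Agent.Lib.Helper22.DimFibre
import Groth.Agent.S0342
import Groth.Agent.S7702
import Groth.Agent.S7703

/-!
# The canonical module of a Cohen–Macaulay local domain is an ideal (helper4)

For a CM local domain `A` with canonical module `K`:
* `exists_ideal_equiv`: `K ≅ I` for some ideal `I`;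
* `height_eq_one_of_mem_ass`: if `K ≅ I ≠ A`, every associated prime of `A/I` has height one;
* `ufd_equiv_self`: if `A` is factorial then `K ≅ A`;
* `exists_canon_data`: for `B` regular local, `p` prime with `B/p` CM, `Ext^{ht p}_B(B/p, B)` is a
  canonical module of `B/p`.
-/

set_option autoImplicit false
set_option linter.style.haveILetI false
set_option linter.unusedSectionVars false
set_option linter.unusedVariables false
set_option maxHeartbeats 800000

open CategoryTheory Limits Opposite Abelian IsLocalRing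

universe u

namespace Groth.Agent.Lib.Helper4.CanonIdeal

open Groth.Agent.Lib.Helper4 Groth.Agent.Lib.Helper4.QuotCanon
  Groth.Agent.Lib.Helper1.InjHullLib Groth.Agent.Lib.Helper4.StalkDual

section domain

variable (A : Type u) [CommRing A] [IsDomain A] [LocCoh.IsCohenMacaulayLocalRing A]
  (n : ℕ) (hn : ringKrullDim A = n)
  (E : Type u) [AddCommGroup E] [Module A E] (f : ResidueField A →ₗ[A] E)
  (hf : InjHull.IsInjectiveHull f)
  (K : Type u) [AddCommGroup K] [Module A K] [Module.Finite A K]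
  (eK : (K →ₗ[A] E) ≃ₗ[A] LocCoh.H (maximalIdeal A) n A)

include hn in
lemma depth_self : LocCoh.idealDepth (maximalIdeal A) A = (n : ℕ∞) := by
  have h1 := LocCoh.IsCohenMacaulayLocalRing.supportDim_eq_depth (R := A)
  rw [Module.supportDim_self_eq_ringKrullDim, hn] at h1
  have h2 : ((n : ℕ∞) : WithBot ℕ∞) =
      ((LocCoh.idealDepth (maximalIdeal A) A : ℕ∞) : WithBot ℕ∞) := by exact_mod_cast h1
  exact (WithBot.coe_injective h2).symm

include hn hf eK in
lemma nontrivial_K : Nontrivial K := by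
  by_contra h
  rw [not_nontrivial_iff_subsingleton] at h
  have hend := Groth.Agent.S7703.result A n hn E f hf K eK
  have h1 : (1 : A) • (LinearMap.id : K →ₗ[A] K) = (0 : A) • (LinearMap.id : K →ₗ[A] K) := by
    apply LinearMap.ext
    intro x
    exact Subsingleton.elim _ _
  exact one_ne_zero (hend.1 h1)

include hn hf eK in
lemma isSMulRegular_of_ne_zero (a : A) (ha : a ≠ 0) : IsSMulRegular K a := by
  haveI := nontrivial_K A n hn E f hf K eK
  by_cases hm : a ∈ maximalIdeal A
  · have hmem : ∀ b ∈ [a], b ∈ maximalIdeal A := by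
      intro b hb
      rw [List.mem_singleton] at hb
      rw [hb]
      exact hm
    have h1 := (Groth.Agent.S7702.result A n hn E f hf K eK [a] hmem).1
    have h2 : RingTheory.Sequence.IsRegular A [a] := by
      apply isRegular_of_isWeaklyRegular_of_mem (maximalIdeal A) maximalIdeal_smul_top_ne_top
      · rw [RingTheory.Sequence.isWeaklyRegular_singleton_iff]
        exact (isRegular_of_ne_zero ha).left.isSMulRegular
      · exact hmem
    have h3 := (h1.1 h2).toIsWeaklyRegular
    exact (RingTheory.Sequence.isWeaklyRegular_singleton_iff K a).1 h3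
  · have hu : IsUnit a := IsLocalRing.notMem_maximalIdeal.1 hm
    exact hu.isSMulRegular K

include hn hf eK in
lemma eq_zero_of_smul_eq_zero (a : A) (y : K) (h : a • y = 0) (hy : y ≠ 0) : a = 0 := by
  by_contra hne
  exact hy ((isSMulRegular_of_ne_zero A n hn E f hf K eK a hne)
    (show a • y = a • (0 : K) by rw [h, smul_zero]))

include hn hf eK in
lemma le_depth_K : (n : ℕ∞) ≤ LocCoh.idealDepth (maximalIdeal A) K := by
  haveI := nontrivial_K A n hn E f hf K eK
  have hA : (n : ℕ∞) ≤ LocCoh.idealDepth (maximalIdeal A) A := le_of_eq (depth_self A n hn).symm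
  obtain ⟨rs, hlen, hmem, hreg⟩ :=
    (le_idealDepth_iff_exists_isRegular (maximalIdeal A) maximalIdeal_smul_top_ne_top n).1 hA
  have hK := ((Groth.Agent.S7702.result A n hn E f hf K eK rs hmem).1).1 hreg
  exact (le_idealDepth_iff_exists_isRegular (maximalIdeal A) maximalIdeal_smul_top_ne_top n).2
    ⟨rs, hlen, hmem, hK⟩

include hn hf eK in
/-- the canonical module is isomorphic to an ideal. -/
theorem exists_ideal_equiv : ∃ I : Ideal A, Nonempty (K ≃ₗ[A] I) := by
  haveI := nontrivial_K A n hn E f hf K eK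
  have hreg := isSMulRegular_of_ne_zero A n hn E f hf K eK
  haveI : Module.IsTorsionFree A K := ⟨fun r hr => hreg r hr.ne_zero⟩
  obtain ⟨k, g, hg⟩ := exists_injective_of_isTorsionFree A K
  obtain ⟨x, hx⟩ := exists_ne (0 : K)
  have hgx : g x ≠ 0 := fun h => hx (hg (by rw [h, map_zero]))
  obtain ⟨j, hj⟩ : ∃ j, g x j ≠ 0 := by
    by_contra hcon
    push Not at hcon
    exact hgx (funext hcon)
  let θ : K →ₗ[A] A := (LinearMap.proj j) ∘ₗ g
  have hθx : θ x ≠ 0 := hj
  have hend := Groth.Agent.S7703.result A n hn E f hf K eK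
  have hθ : Function.Injective θ := by
    rw [injective_iff_map_eq_zero]
    intro y hy
    by_contra hy0
    obtain ⟨a, ha⟩ := hend.2 (θ.smulRight x)
    have ha' : a • (LinearMap.id : K →ₗ[A] K) = θ.smulRight x := ha
    have h1 : a • y = 0 := by
      have := LinearMap.congr_fun ha' y
      rw [LinearMap.smul_apply, LinearMap.id_apply, LinearMap.smulRight_apply, hy, zero_smul]
        at this
      exact this
    have ha0 : a = 0 := eq_zero_of_smul_eq_zero A n hn E f hf K eK a y h1 hy0
    have h2 : θ x • x = 0 := by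
      have := LinearMap.congr_fun ha' x
      rw [LinearMap.smul_apply, LinearMap.id_apply, LinearMap.smulRight_apply, ha0, zero_smul]
        at this
      exact this.symm
    exact hθx (eq_zero_of_smul_eq_zero A n hn E f hf K eK (θ x) x h2 hx)
  exact ⟨LinearMap.range θ, ⟨LinearEquiv.ofInjective θ hθ⟩⟩

include hn hf eK in
lemma ideal_ne_bot (I : Ideal A) (e : K ≃ₗ[A] I) : I ≠ ⊥ := by
  haveI := nontrivial_K A n hn E f hf K eK
  obtain ⟨x, hx⟩ := exists_ne (0 : K)
  intro hI
  have h1 : (e x : A) ∈ (⊥ : Ideal A) := by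
    rw [← hI]
    exact (e x).2
  have h2 : e x = 0 := Subtype.ext ((Submodule.mem_bot A).1 h1)
  exact hx (e.injective (by rw [h2, map_zero]))

include hn hf eK in
/-- if `K ≅ I ≠ A`, the associated primes of `A/I` have height one. -/
theorem height_eq_one_of_mem_ass (I : Ideal A) (e : K ≃ₗ[A] I) (hI : I ≠ ⊤) (q : Ideal A)
    (hq : q ∈ associatedPrimes A (A ⧸ I)) : q.height = 1 := by
  haveI := nontrivial_K A n hn E f hf K eK
  haveI hqp : q.IsPrime := hq.isPrime
  have hIq : I ≤ q := by
    have h1 := hq.annihilator_le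
    rw [Submodule.annihilator_top, Ideal.annihilator_quotient] at h1
    exact h1
  have hI0 : I ≠ ⊥ := ideal_ne_bot A n hn E f hf K eK I e
  have hq0 : q ≠ ⊥ := fun h => hI0 (le_bot_iff.1 (h ▸ hIq))
  have h6 : 1 ≤ q.height := by
    rw [ENat.one_le_iff_ne_zero]
    intro h0
    exact hq0 (Ideal.height_eq_zero_iff_eq_bot.1 h0)
  have hcm : LocCoh.IsCohenMacaulayModule A A :=
    LocCoh.IsCohenMacaulayLocalRing.supportDim_eq_depth (R := A)
  have hsupp : Module.support A A = Set.univ := by
    rw [Module.support_of_algebra]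
    have hk : RingHom.ker (algebraMap A A) = ⊥ :=
      (RingHom.injective_iff_ker_eq_bot _).mp (fun a b h => h)
    rw [hk]
    simp
  have hsum := cm_height_add_ringKrullDim_quotient hcm hsupp ⟨q, hqp⟩
  obtain ⟨d, hd⟩ := Falt.exists_nat_ringKrullDim_quotient q
  have hfin : q.height ≠ ⊤ := Ideal.height_ne_top_of_isPrime
  obtain ⟨h', hh'⟩ := ENat.ne_top_iff_exists.1 hfin
  change ((q.height : ℕ∞) : WithBot ℕ∞) + ringKrullDim (A ⧸ q) = ringKrullDim A at hsum
  rw [hd, hn, ← hh'] at hsum
  have hsum' : h' + d = n := by exact_mod_cast hsum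
  have hdep1 : ((LocCoh.idealDepth (maximalIdeal A) (A ⧸ I) : ℕ∞) : WithBot ℕ∞) ≤
      ringKrullDim (A ⧸ q) := depth_le_ringKrullDim_quotient hq
  have hdep2 : ((n - 1 : ℕ) : ℕ∞) ≤ LocCoh.idealDepth (maximalIdeal A) (A ⧸ I) := by
    have hses := (idealDepth_shortExact (maximalIdeal A) I.subtype I.mkQ
      (Submodule.injective_subtype I) (Submodule.mkQ_surjective I)
      (LinearMap.exact_subtype_mkQ I)).2.1
    refine le_trans (le_min ?_ ?_) hses
    · rw [depth_self A n hn]
      exact_mod_cast Nat.sub_le n 1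
    · have h1 : (n : ℕ∞) ≤ LocCoh.idealDepth (maximalIdeal A) I := by
        rw [← idealDepth_congr (maximalIdeal A) e]
        exact le_depth_K A n hn E f hf K eK
      have h2 : ((n - 1 : ℕ) : ℕ∞) = (n : ℕ∞) - 1 := by
        push_cast
        rfl
      rw [h2]
      exact tsub_le_tsub_right h1 1
  have h3 : ((n - 1 : ℕ) : WithBot ℕ∞) ≤ (d : WithBot ℕ∞) := by
    rw [← hd]
    refine le_trans ?_ hdep1
    have h9 : (((n - 1 : ℕ) : ℕ∞) : WithBot ℕ∞) ≤
        ((LocCoh.idealDepth (maximalIdeal A) (A ⧸ I) : ℕ∞) : WithBot ℕ∞) :=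
      WithBot.coe_le_coe.2 hdep2
    exact h9
  have h4 : n - 1 ≤ d := by exact_mod_cast h3
  have h5 : h' ≤ 1 := by omega
  rw [← hh'] at h6 ⊢
  have h7 : 1 ≤ h' := by exact_mod_cast h6
  have h8 : h' = 1 := by omega
  exact_mod_cast h8

include hn hf eK in
/-- over a factorial CM local domain the canonical module is free of rank one. -/
theorem ufd_equiv_self [UniqueFactorizationMonoid A] : Nonempty (K ≃ₗ[A] A) := by
  haveI := nontrivial_K A n hn E f hf K eK
  let 𝒮 : Set (Submodule A A) := {I | Nonempty (K ≃ₗ[A] I)}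
  have hne : 𝒮.Nonempty := by
    obtain ⟨I, hI⟩ := exists_ideal_equiv A n hn E f hf K eK
    exact ⟨I, hI⟩
  obtain ⟨I, ⟨e⟩, hmax⟩ :=
    (set_has_maximal_iff_noetherian (R := A) (M := A)).2 inferInstance 𝒮 hne
  by_cases hI : I = ⊤
  · exact ⟨e.trans (LinearEquiv.ofTop I hI)⟩
  · exfalso
    haveI : Nontrivial (A ⧸ I) := Submodule.Quotient.nontrivial_iff.2 hI
    obtain ⟨q, hq⟩ := associatedPrimes.nonempty A (A ⧸ I)
    have hq1 := height_eq_one_of_mem_ass A n hn E f hf K eK I e hI q hq
    haveI hqp : q.IsPrime := hq.isPrime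
    have hIq : I ≤ q := by
      have h1 := hq.annihilator_le
      rw [Submodule.annihilator_top, Ideal.annihilator_quotient] at h1
      exact h1
    have hprinc := UniqueFactorizationMonoid.isPrincipal_of_height_eq_one hq1
    obtain ⟨π, hπ⟩ := hprinc.principal
    have hπ' : q = Ideal.span {π} := hπ
    have hq0 : q ≠ ⊥ := Ideal.ne_bot_of_height_eq_one hq1
    have hπ0 : π ≠ 0 := by
      intro h0
      apply hq0
      rw [hπ', h0]
      exact Ideal.span_singleton_eq_bot.2 rfl
    have hπm : π ∈ maximalIdeal A := by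
      have h1 : q ≤ maximalIdeal A := IsLocalRing.le_maximalIdeal hqp.ne_top
      apply h1
      rw [hπ']
      exact Ideal.subset_span rfl
    -- the colon ideal
    let J : Submodule A A := Submodule.comap (π • (LinearMap.id : A →ₗ[A] A)) I
    have hJmem : ∀ z : A, z ∈ J ↔ π * z ∈ I := fun z => Iff.rfl
    have hIJ : I ≤ J := fun z hz => (hJmem z).2 (Ideal.mul_mem_left I π hz)
    let μ : J →ₗ[A] I :=
      { toFun := fun z => ⟨π * z.1, (hJmem z.1).1 z.2⟩
        map_add' := fun z w => Subtype.ext (mul_add π z.1 w.1)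
        map_smul' := fun c z => Subtype.ext (by
          change π * (c * z.1) = c * (π * z.1)
          ring) }
    have hμinj : Function.Injective μ := by
      intro z w h
      have h1 : π * z.1 = π * w.1 := congrArg Subtype.val h
      exact Subtype.ext (mul_left_cancel₀ hπ0 h1)
    have hμsurj : Function.Surjective μ := by
      intro w
      have h1 : (w : A) ∈ Ideal.span {π} := by
        rw [← hπ']
        exact hIq w.2
      obtain ⟨z, hz⟩ := Ideal.mem_span_singleton'.1 h1
      have hz' : π * z = w := by rw [mul_comm]; exact hz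
      refine ⟨⟨z, (hJmem z).2 (by rw [hz']; exact w.2)⟩, Subtype.ext hz'⟩
    have hJS : J ∈ 𝒮 := ⟨e.trans (LinearEquiv.ofBijective μ ⟨hμinj, hμsurj⟩).symm⟩
    have hJI : J = I := by
      by_contra hne'
      exact hmax J hJS (lt_of_le_of_ne hIJ (fun h => hne' h.symm))
    have hle : I ≤ maximalIdeal A • I := by
      intro w hw
      have h1 : w ∈ Ideal.span {π} := by
        rw [← hπ']
        exact hIq hw
      obtain ⟨z, hz⟩ := Ideal.mem_span_singleton'.1 h1
      have hz' : π * z = w := by rw [mul_comm]; exact hz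
      have hzI : z ∈ I := by
        rw [← hJI]
        exact (hJmem z).2 (by rw [hz']; exact hw)
      rw [← hz', ← smul_eq_mul]
      exact Submodule.smul_mem_smul hπm hzI
    have hbot : I = ⊥ := Submodule.eq_bot_of_le_smul_of_le_jacobson_bot (maximalIdeal A) I
      (IsNoetherian.noetherian I) hle
      (by rw [IsLocalRing.jacobson_eq_maximalIdeal ⊥ bot_ne_top])
    exact ideal_ne_bot A n hn E f hf K eK I e hbot

end domain

/-! ### quotients of regular local rings -/

section regular

variable (B : Type u) [CommRing B] [IsRegularLocalRing B] (p : Ideal B) [p.IsPrime]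
  [LocCoh.IsCohenMacaulayLocalRing (B ⧸ p)]

/-- `Ext^{ht p}_B(B/p, B)` is a canonical module of `B/p`. -/
theorem exists_canon_data (r : ℕ) (hr : p.height = r) :
    ∃ (n : ℕ) (_ : ringKrullDim (B ⧸ p) = n) (E : Type u) (_ : AddCommGroup E)
      (_ : Module (B ⧸ p) E) (f : ResidueField (B ⧸ p) →ₗ[B ⧸ p] E)
      (_ : InjHull.IsInjectiveHull f)
      (_ : Module (B ⧸ p) (KExt B (B ⧸ p) r)) (_ : IsScalarTower B (B ⧸ p) (KExt B (B ⧸ p) r))
      (_ : Module.Finite (B ⧸ p) (KExt B (B ⧸ p) r)),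
      Nonempty ((KExt B (B ⧸ p) r →ₗ[B ⧸ p] E) ≃ₗ[B ⧸ p]
        LocCoh.H (maximalIdeal (B ⧸ p)) n (B ⧸ p)) := by
  classical
  haveI : LocCoh.IsGorensteinLocalRing B := Groth.Agent.S0342.result B
  have hsurj : Function.Surjective (algebraMap B (B ⧸ p)) :=
    fun x => Ideal.Quotient.mk_surjective x
  obtain ⟨n', hn'⟩ := gor_exists_nat_dim B
  obtain ⟨n, hn⟩ := Groth.Agent.Lib.Helper22.DimFibre.exists_nat_ringKrullDim_eq (B ⧸ p)
  have hsum := gor_height_add_ringKrullDim_quotient B p
  rw [hr, hn, hn'] at hsum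
  have hc : n + r = n' := by
    have h2 : r + n = n' := by exact_mod_cast hsum
    omega
  obtain ⟨E, _, _, f, hf⟩ := exists_injective_hull (B ⧸ p) (ResidueField (B ⧸ p))
  letI : Module B E := Module.compHom E (algebraMap B (B ⧸ p))
  haveI : IsScalarTower B (B ⧸ p) E := IsScalarTower.of_algebraMap_smul (fun _ _ => rfl)
  have hK := KExt_smul_eq_zero (R := B ⧸ p) hsurj r
  letI instM : Module (B ⧸ p) (KExt B (B ⧸ p) r) := quotModule hsurj (KExt B (B ⧸ p) r) hK
  haveI instT : IsScalarTower B (B ⧸ p) (KExt B (B ⧸ p) r) :=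
    IsScalarTower.of_algebraMap_smul
      (fun b t => quotModule_algebraMap_smul hsurj (KExt B (B ⧸ p) r) hK b t)
  exact ⟨n, hn, E, inferInstance, inferInstance, f, hf, instM, instT, KExt_finite hsurj r,
    canonMod_KExt hsurj f hf n hn n' hn' r hc⟩

/-- `Ext^{ht p}_B(B/p, B)` is `B/p` or an unmixed height-one ideal of `B/p`. -/
theorem main_ideal (r : ℕ) (hr : p.height = r) :
    Nonempty (KExt B (B ⧸ p) r ≃ₗ[B] (B ⧸ p)) ∨
      ∃ I : Ideal (B ⧸ p), I ≠ ⊤ ∧
        (∀ q ∈ associatedPrimes (B ⧸ p) ((B ⧸ p) ⧸ I), q.height = 1) ∧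
        Nonempty (KExt B (B ⧸ p) r ≃ₗ[B] I) := by
  obtain ⟨n, hn, E, _, _, f, hf, _, _, _, ⟨eK⟩⟩ := exists_canon_data B p r hr
  obtain ⟨I, ⟨e⟩⟩ := exists_ideal_equiv (B ⧸ p) n hn E f hf (KExt B (B ⧸ p) r) eK
  by_cases hI : I = ⊤
  · exact Or.inl ⟨(e.trans (LinearEquiv.ofTop I hI)).restrictScalars B⟩
  · exact Or.inr ⟨I, hI,
      height_eq_one_of_mem_ass (B ⧸ p) n hn E f hf (KExt B (B ⧸ p) r) eK I e hI,
      ⟨e.restrictScalars B⟩⟩

/-- a factorial CM quotient of a regular local ring is Gorenstein: `K ≅ B/p`. -/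
theorem main_ufd [UniqueFactorizationMonoid (B ⧸ p)] :
    ∃ (n : ℕ) (_ : ringKrullDim (B ⧸ p) = n) (E : Type u) (_ : AddCommGroup E)
      (_ : Module (B ⧸ p) E) (f : ResidueField (B ⧸ p) →ₗ[B ⧸ p] E)
      (_ : InjHull.IsInjectiveHull f) (K : Type u) (_ : AddCommGroup K) (_ : Module (B ⧸ p) K)
      (_ : Module.Finite (B ⧸ p) K),
      Nonempty ((K →ₗ[B ⧸ p] E) ≃ₗ[B ⧸ p] LocCoh.H (maximalIdeal (B ⧸ p)) n (B ⧸ p)) ∧
        Nonempty (K ≃ₗ[B ⧸ p] (B ⧸ p)) := by
  have hfin : p.height ≠ ⊤ := Ideal.height_ne_top_of_isPrime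
  obtain ⟨r, hr⟩ := ENat.ne_top_iff_exists.1 hfin
  obtain ⟨n, hn, E, _, _, f, hf, _, _, _, ⟨eK⟩⟩ := exists_canon_data B p r hr.symm
  exact ⟨n, hn, E, inferInstance, inferInstance, f, hf, KExt B (B ⧸ p) r, inferInstance,
    inferInstance, inferInstance, ⟨eK⟩,
    ufd_equiv_self (B ⧸ p) n hn E f hf (KExt B (B ⧸ p) r) eK⟩

end regular

end Groth.Agent.Lib.Helper4.CanonIdeal
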