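import Groth.Agent.Lib.Helper4.KosLim
import Groth.Agent.Lib.Helper14.KoszulH0

/-!
# Top Koszul cohomology and the transition maps of the powers

`topπ M l d hd : M ⟶ H^d(K(l; M))` (`d = 0`) is surjective with kernel `(l) M`, and the transition
map `K(fs^n) → K(fs^m)` corresponds to multiplication by `cf fs (m - n) = ∏ f^(m-n)`.
-/

set_option autoImplicit false
set_option linter.style.haveILetI false
set_option linter.unusedSectionVars false
set_option linter.unusedVariables false
set_option maxHeartbeats 800000

universe u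

open CategoryTheory CategoryTheory.Limits CochainComplex HomComplex

namespace Groth.Agent.Lib.Helper4.KosTop

open CohIII Groth.Agent.Lib.Helper14.KoszulFun Groth.Agent.Lib.Helper4.KosCone
  Groth.Agent.Lib.Helper4.KosLim

variable {A : Type u} [CommRing A]

/-- the scalar of the transition map on top cohomology. -/
def cf (fs : List A) (k : ℕ) : A := (fs.map (· ^ k)).prod

lemma cf_nil (k : ℕ) : cf ([] : List A) k = 1 := rfl

lemma cf_cons (f : A) (fs : List A) (k : ℕ) : cf (f :: fs) k = f ^ k * cf fs k := rfl

lemma toH0_trans (M : ModuleCat.{u} A) (n m : ℕ) (h : n ≤ m) : ∀ fs : List A,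
    toH0 M (pw fs n) ≫ HomologicalComplex.homologyMap (koszulTrans M n m h fs) 0 =
      cf fs (m - n) • toH0 M (pw fs m)
  | [] => by
    change toH0 M [] ≫ HomologicalComplex.homologyMap (𝟙 (koszulCx M [])) 0 =
      (1 : A) • toH0 M []
    rw [HomologicalComplex.homologyMap_id, Category.comp_id, one_smul]
  | f :: fs => by
    have ih := toH0_trans M n m h fs
    have e1 : mappingCone.inr (f ^ n • 𝟙 (koszulCx M (pw fs n))) ≫
        mappingCone.map (f ^ n • 𝟙 (koszulCx M (pw fs n))) (f ^ m • 𝟙 (koszulCx M (pw fs m)))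
          (koszulTrans M n m h fs) (f ^ (m - n) • koszulTrans M n m h fs)
          (trans_comm M n m h f fs) =
        (f ^ (m - n) • koszulTrans M n m h fs) ≫
          mappingCone.inr (f ^ m • 𝟙 (koszulCx M (pw fs m))) := inr_comp_map _ _ _ _ _
    change (toH0 M (pw fs n) ≫ HomologicalComplex.homologyMap
        (mappingCone.inr (f ^ n • 𝟙 (koszulCx M (pw fs n)))) 0) ≫
        HomologicalComplex.homologyMap
          (mappingCone.map (f ^ n • 𝟙 (koszulCx M (pw fs n))) (f ^ m • 𝟙 (koszulCx M (pw fs m)))
            (koszulTrans M n m h fs) (f ^ (m - n) • koszulTrans M n m h fs)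
            (trans_comm M n m h f fs)) 0 =
      (f ^ (m - n) * cf fs (m - n)) • (toH0 M (pw fs m) ≫ HomologicalComplex.homologyMap
        (mappingCone.inr (f ^ m • 𝟙 (koszulCx M (pw fs m)))) 0)
    rw [Category.assoc, ← HomologicalComplex.homologyMap_comp, e1,
      HomologicalComplex.homologyMap_comp, homologyMap_smul, Linear.smul_comp, Linear.comp_smul,
      ← Category.assoc, ih, Linear.smul_comp, smul_smul]

/-- the natural map `M → H^d(K(l; M))` for `d = 0`. -/
noncomputable def topπ (M : ModuleCat.{u} A) (l : List A) (d : ℤ) (hd : d = 0) :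
    M ⟶ (koszulCx M l).homology d := by
  subst hd
  exact toH0 M l

lemma topπ_zero (M : ModuleCat.{u} A) (l : List A) (h : (0 : ℤ) = 0) :
    topπ M l 0 h = toH0 M l := rfl

lemma topπ_surjective (M : ModuleCat.{u} A) (l : List A) (d : ℤ) (hd : d = 0) :
    Function.Surjective (topπ M l d hd).hom := by
  subst hd
  exact toH0_surjective M l

lemma topπ_eq_zero_iff (M : ModuleCat.{u} A) (l : List A) (d : ℤ) (hd : d = 0) (x : M) :
    (topπ M l d hd).hom x = 0 ↔ x ∈ Ideal.ofList l • (⊤ : Submodule A M) := by
  subst hd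
  exact toH0_eq_zero_iff M l x

lemma topπ_trans (M : ModuleCat.{u} A) (n m : ℕ) (h : n ≤ m) (fs : List A) (d : ℤ) (hd : d = 0)
    (x : M) :
    (HomologicalComplex.homologyMap (koszulTrans M n m h fs) d).hom
        ((topπ M (pw fs n) d hd).hom x) =
      (topπ M (pw fs m) d hd).hom (cf fs (m - n) • x) := by
  subst hd
  have e := congrArg (fun g => g.hom x) (toH0_trans M n m h fs)
  simp only [ModuleCat.hom_comp, LinearMap.comp_apply, ModuleCat.hom_smul,
    LinearMap.smul_apply] at e
  rw [map_smul]
  exact e

/-- descend a linear map along a surjection. -/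
noncomputable def descSurj {R : Type*} [Ring R] {M N P : Type*} [AddCommGroup M] [Module R M]
    [AddCommGroup N] [Module R N] [AddCommGroup P] [Module R P] (π : M →ₗ[R] N)
    (hπ : Function.Surjective π) (f : M →ₗ[R] P) (hf : LinearMap.ker π ≤ LinearMap.ker f) :
    N →ₗ[R] P :=
  (LinearMap.ker π).liftQ f hf ∘ₗ (π.quotKerEquivOfSurjective hπ).symm.toLinearMap

lemma descSurj_apply {R : Type*} [Ring R] {M N P : Type*} [AddCommGroup M] [Module R M]
    [AddCommGroup N] [Module R N] [AddCommGroup P] [Module R P] (π : M →ₗ[R] N)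
    (hπ : Function.Surjective π) (f : M →ₗ[R] P) (hf : LinearMap.ker π ≤ LinearMap.ker f)
    (x : M) : descSurj π hπ f hf (π x) = f x := by
  simp only [descSurj, LinearMap.comp_apply, LinearEquiv.coe_coe,
    LinearMap.quotKerEquivOfSurjective_symm_apply, Submodule.liftQ_apply]

end Groth.Agent.Lib.Helper4.KosTop
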