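import Mathlib
import Groth.Agent.Lib.Helper4.KosTop
import Groth.Agent.S5173
import Groth.Agent.S11665
import Groth.Agent.Lib.Helper1.InjHullLib2

/-!
# The top Čech quotient `R_t / Σ_i R_{t/x_i}` and the injective hull (helper4)

For elements `x_1, …, x_d` of a ring `R` with product `t`, the direct limit `colim_n H^d(x^n; R)` of
the top Koszul cohomology of the powers is `R_t / Σ`, where `Σ` is the `R`-span of the fractions
`x_i^n / t^n` (`nonempty_equiv`).  For a Gorenstein local ring of dimension `d` and a system of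
parameters this is `H^d_𝔪(R)`, an injective hull of the residue field (`main`).
-/

set_option autoImplicit false
set_option linter.style.haveILetI false
set_option linter.unusedSectionVars false
set_option linter.unusedVariables false
set_option linter.deprecated false
set_option maxHeartbeats 800000

universe u

open CategoryTheory CategoryTheory.Limits

namespace Groth.Agent.Lib.Helper4.CechHull

open CohIII Groth.Agent.Lib.Helper14.KoszulFun Groth.Agent.Lib.Helper4.KosLim
  Groth.Agent.Lib.Helper4.KosTop Groth.Agent.Lib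

section transport

/-- transport an injective hull along a linear equivalence of the target. -/
theorem hull_of_equiv {R : Type u} [CommRing R] {M E E' : Type u} [AddCommGroup M] [Module R M]
    [AddCommGroup E] [Module R E] [AddCommGroup E'] [Module R E'] (g : M →ₗ[R] E)
    (hg : InjHull.IsInjectiveHull g) (e : E ≃ₗ[R] E') :
    InjHull.IsInjectiveHull (e.toLinearMap ∘ₗ g) := by
  haveI := hg.isInjective
  obtain ⟨hginj, hess⟩ := (Helper1.InjHullLib.isEssentialInj_iff g).1 hg.toIsEssentialInj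
  refine ⟨(Helper1.InjHullLib.isEssentialInj_iff _).2 ⟨?_, ?_⟩,
    Helper1.InjHullLib.injective_of_linearEquiv e⟩
  · exact e.injective.comp hginj
  · intro y hy
    have hy' : e.symm y ≠ 0 := by
      intro h0
      apply hy
      rw [← e.apply_symm_apply y, h0, map_zero]
    obtain ⟨r, hr0, ⟨c, hc⟩⟩ := hess (e.symm y) hy'
    refine ⟨r, ?_, ⟨c, ?_⟩⟩
    · intro h0
      apply hr0
      rw [← map_smul, h0, map_zero]
    · rw [LinearMap.comp_apply, hc, LinearEquiv.coe_coe, map_smul, LinearEquiv.apply_symm_apply]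

end transport

variable {R : Type u} [CommRing R] {d : ℕ} (x : Fin d → R)

/-- the inverse of the product in the localization. -/
noncomputable abbrev iv : Localization.Away (∏ i, x i) :=
  IsLocalization.Away.invSelf (∏ i, x i)

/-- the `R`-submodule spanned by the fractions `x_i^n / t^n`. -/
abbrev Sg : Submodule R (Localization.Away (∏ i, x i)) :=
  Submodule.span R {y : Localization.Away (∏ i, x i) | ∃ (i : Fin d) (n : ℕ),
    y = algebraMap R (Localization.Away (∏ i, x i)) (x i ^ n) *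
      IsLocalization.Away.invSelf (∏ i, x i) ^ n}

/-- the ideal generated by the `n`-th powers. -/
def In (n : ℕ) : Ideal R := Ideal.span (Set.range fun i => x i ^ n)

lemma raise (a b : ℕ) (c : R) (hc : c ∈ In x a) : c * (∏ i, x i) ^ b ∈ In x (a + b) := by
  unfold In at hc
  induction hc using Submodule.span_induction with
  | mem c hc =>
    obtain ⟨i, rfl⟩ := hc
    have ht : (∏ i, x i) = x i * ∏ j ∈ Finset.univ.erase i, x j :=
      (Finset.mul_prod_erase Finset.univ x (Finset.mem_univ i)).symm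
    have h1 : x i ^ a * (∏ i, x i) ^ b =
        x i ^ (a + b) * (∏ j ∈ Finset.univ.erase i, x j) ^ b := by
      rw [ht, mul_pow, pow_add]
      ring
    change x i ^ a * (∏ i, x i) ^ b ∈ _
    rw [h1]
    exact Ideal.mul_mem_right _ _ (Ideal.subset_span ⟨i, rfl⟩)
  | zero =>
    rw [zero_mul]
    exact Submodule.zero_mem _
  | add c c' _ _ h h' =>
    rw [add_mul]
    exact Submodule.add_mem _ h h'
  | smul r c _ h =>
    rw [smul_eq_mul, mul_assoc]
    exact Ideal.mul_mem_left _ r h

lemma hd0 : ((d : ℕ) : ℤ) - ((List.ofFn x).length : ℤ) = 0 := by simp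

/-- projection onto the `n`-th top Koszul cohomology. -/
noncomputable def pin (n : ℕ) : R →ₗ[R] koszulHPow (List.ofFn x) (ModuleCat.of R R) d n :=
  (topπ (ModuleCat.of R R) (pw (List.ofFn x) n) _ (hd0 x)).hom

lemma pin_surjective (n : ℕ) : Function.Surjective (pin x n) :=
  topπ_surjective (ModuleCat.of R R) (pw (List.ofFn x) n) _ (hd0 x)

lemma ofList_pw (n : ℕ) :
    Ideal.ofList (pw (List.ofFn x) n) • (⊤ : Submodule R R) = In x n := by
  rw [smul_eq_mul, Ideal.mul_top]
  unfold In
  change Ideal.span _ = _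
  congr 1
  ext a
  simp only [Set.mem_setOf_eq, List.mem_map, List.mem_ofFn, Set.mem_range]
  constructor
  · rintro ⟨_, ⟨i, rfl⟩, rfl⟩
    exact ⟨i, rfl⟩
  · rintro ⟨i, rfl⟩
    exact ⟨x i, ⟨i, rfl⟩, rfl⟩

lemma pin_eq_zero_iff (n : ℕ) (p : R) : pin x n p = 0 ↔ p ∈ In x n := by
  have h := topπ_eq_zero_iff (ModuleCat.of R R) (pw (List.ofFn x) n) _ (hd0 x) p
  have h2 := ofList_pw x n
  constructor
  · intro h0
    rw [← h2]
    exact h.mp h0
  · intro hp
    rw [← h2] at hp
    exact h.mpr hp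

lemma tr_pin (n m : ℕ) (h : n ≤ m) (p : R) :
    trH (List.ofFn x) (ModuleCat.of R R) d n m h (pin x n p) =
      pin x m (cf (List.ofFn x) (m - n) * p) :=
  topπ_trans (ModuleCat.of R R) n m h (List.ofFn x) _ (hd0 x) p

lemma cf_xs (k : ℕ) : cf (List.ofFn x) k = (∏ i, x i) ^ k := by
  change ((List.ofFn x).map (· ^ k)).prod = _
  rw [List.map_ofFn, List.prod_ofFn]
  simp only [Function.comp_apply, Finset.prod_pow]

/-- the leg maps `r ↦ r / t^n`. -/
noncomputable def leg (n : ℕ) : R →ₗ[R] (Localization.Away (∏ i, x i) ⧸ Sg x) :=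
  (Sg x).mkQ ∘ₗ LinearMap.toSpanSingleton R (Localization.Away (∏ i, x i)) (iv x ^ n)

lemma leg_apply (n : ℕ) (r : R) :
    leg x n r = (Sg x).mkQ (algebraMap R (Localization.Away (∏ i, x i)) r * iv x ^ n) := by
  unfold leg
  rw [LinearMap.comp_apply, LinearMap.toSpanSingleton_apply, Algebra.smul_def]

lemma In_le_ker (n : ℕ) (p : R) (hp : p ∈ In x n) : leg x n p = 0 := by
  have hle : In x n ≤ LinearMap.ker (leg x n) := by
    unfold In
    rw [Ideal.span, Submodule.span_le]
    rintro _ ⟨i, rfl⟩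
    rw [SetLike.mem_coe, LinearMap.mem_ker, leg_apply, Submodule.mkQ_apply,
      Submodule.Quotient.mk_eq_zero]
    exact Submodule.subset_span ⟨i, n, rfl⟩
  exact hle hp

lemma ker_pin_le (n : ℕ) : LinearMap.ker (pin x n) ≤ LinearMap.ker (leg x n) := by
  intro p hp
  rw [LinearMap.mem_ker] at hp ⊢
  exact In_le_ker x n p ((pin_eq_zero_iff x n p).1 hp)

/-- the induced maps on top Koszul cohomology. -/
noncomputable def ghat (n : ℕ) :
    koszulHPow (List.ofFn x) (ModuleCat.of R R) d n →ₗ[R]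
      (Localization.Away (∏ i, x i) ⧸ Sg x) :=
  descSurj (pin x n) (pin_surjective x n) (leg x n) (ker_pin_le x n)

lemma ghat_pin (n : ℕ) (p : R) : ghat x n (pin x n p) = leg x n p :=
  descSurj_apply _ _ _ _ p

lemma iv_spec (k n : ℕ) :
    algebraMap R (Localization.Away (∏ i, x i)) ((∏ i, x i) ^ k) * iv x ^ (k + n) = iv x ^ n := by
  rw [map_pow, pow_add, ← mul_assoc, ← mul_pow, IsLocalization.Away.mul_invSelf, one_pow, one_mul]

lemma iv_spec' (k : ℕ) :
    algebraMap R (Localization.Away (∏ i, x i)) ((∏ i, x i) ^ k) * iv x ^ k = 1 := by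
  rw [map_pow, ← mul_pow, IsLocalization.Away.mul_invSelf, one_pow]

lemma leg_compat (n m : ℕ) (h : n ≤ m) (p : R) :
    leg x m ((∏ i, x i) ^ (m - n) * p) = leg x n p := by
  rw [leg_apply, leg_apply]
  congr 1
  obtain ⟨k, rfl⟩ := Nat.exists_eq_add_of_le h
  rw [Nat.add_sub_cancel_left, map_mul,
    mul_comm (algebraMap R (Localization.Away (∏ i, x i)) ((∏ i, x i) ^ k)), mul_assoc,
    add_comm n k, iv_spec]

lemma ghat_compat (n m : ℕ) (h : n ≤ m)
    (y : koszulHPow (List.ofFn x) (ModuleCat.of R R) d n) :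
    ghat x m (trHF (List.ofFn x) (ModuleCat.of R R) d n m h y) = ghat x n y := by
  obtain ⟨p, rfl⟩ := pin_surjective x n y
  change ghat x m (trH (List.ofFn x) (ModuleCat.of R R) d n m h (pin x n p)) = _
  rw [tr_pin, ghat_pin, ghat_pin, cf_xs, leg_compat x n m h]

/-- the comparison map. -/
noncomputable def PhiHat :
    TT (List.ofFn x) (ModuleCat.of R R) d →ₗ[R] (Localization.Away (∏ i, x i) ⧸ Sg x) :=
  Module.DirectLimit.lift R ℕ
    (fun n : ℕ => (koszulHPow (List.ofFn x) (ModuleCat.of R R) d n : Type u))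
    (trHF (List.ofFn x) (ModuleCat.of R R) d) (ghat x) (ghat_compat x)

lemma PhiHat_of (n : ℕ) (y : koszulHPow (List.ofFn x) (ModuleCat.of R R) d n) :
    PhiHat x (TT.of (List.ofFn x) (ModuleCat.of R R) d n y) = ghat x n y := by
  unfold PhiHat TT.of
  exact Module.DirectLimit.lift_of (ghat x) (ghat_compat x) y

lemma PhiHat_surjective : Function.Surjective (PhiHat x) := by
  intro z
  obtain ⟨l, rfl⟩ := Submodule.mkQ_surjective (Sg x) z
  obtain ⟨n, a, ha⟩ := IsLocalization.Away.surj (∏ i, x i) l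
  refine ⟨TT.of (List.ofFn x) (ModuleCat.of R R) d n (pin x n a), ?_⟩
  rw [PhiHat_of, ghat_pin, leg_apply]
  congr 1
  rw [← ha, mul_assoc, ← mul_pow, IsLocalization.Away.mul_invSelf, one_pow, mul_one]

lemma exists_of_mem_Sg (l : Localization.Away (∏ i, x i)) (hl : l ∈ Sg x) :
    ∃ N : ℕ, ∀ m, N ≤ m → ∃ c ∈ In x m,
      l = algebraMap R (Localization.Away (∏ i, x i)) c * iv x ^ m := by
  induction hl using Submodule.span_induction with
  | mem l hl =>
    obtain ⟨i, a, rfl⟩ := hl
    refine ⟨a, fun m hm => ?_⟩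
    obtain ⟨b, rfl⟩ := Nat.exists_eq_add_of_le hm
    refine ⟨x i ^ a * (∏ i, x i) ^ b, raise x a b _ (Ideal.subset_span ⟨i, rfl⟩), ?_⟩
    rw [map_mul, mul_assoc, add_comm a b, iv_spec]
  | zero =>
    exact ⟨0, fun m _ => ⟨0, Submodule.zero_mem _, by rw [map_zero, zero_mul]⟩⟩
  | add l l' _ _ h h' =>
    obtain ⟨N, hN⟩ := h
    obtain ⟨N', hN'⟩ := h'
    refine ⟨max N N', fun m hm => ?_⟩
    obtain ⟨c, hc, rfl⟩ := hN m (le_trans (le_max_left _ _) hm)
    obtain ⟨c', hc', rfl⟩ := hN' m (le_trans (le_max_right _ _) hm)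
    exact ⟨c + c', Submodule.add_mem _ hc hc', by rw [map_add, add_mul]⟩
  | smul r l _ h =>
    obtain ⟨N, hN⟩ := h
    refine ⟨N, fun m hm => ?_⟩
    obtain ⟨c, hc, rfl⟩ := hN m hm
    exact ⟨r * c, Ideal.mul_mem_left _ r hc, by rw [Algebra.smul_def, map_mul, mul_assoc]⟩

lemma PhiHat_injective : Function.Injective (PhiHat x) := by
  rw [injective_iff_map_eq_zero]
  intro z hz
  obtain ⟨n, y, rfl⟩ := TT.exists_of _ _ _ z
  obtain ⟨r, rfl⟩ := pin_surjective x n y
  rw [PhiHat_of, ghat_pin, leg_apply, Submodule.mkQ_apply, Submodule.Quotient.mk_eq_zero] at hz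
  obtain ⟨N, hN⟩ := exists_of_mem_Sg x _ hz
  obtain ⟨m, hm⟩ : ∃ m : ℕ, m = max N n := ⟨_, rfl⟩
  have hNm : N ≤ m := hm ▸ le_max_left _ _
  have hnm : n ≤ m := hm ▸ le_max_right _ _
  obtain ⟨c, hc, hceq⟩ := hN m hNm
  have h1 : algebraMap R (Localization.Away (∏ i, x i)) ((∏ i, x i) ^ (m - n) * r) =
      algebraMap R (Localization.Away (∏ i, x i)) c := by
    have h4 : algebraMap R (Localization.Away (∏ i, x i)) ((∏ i, x i) ^ m) *
        (algebraMap R (Localization.Away (∏ i, x i)) c * iv x ^ m) =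
          algebraMap R (Localization.Away (∏ i, x i)) c := by
      rw [mul_left_comm, iv_spec', mul_one]
    have h5 : algebraMap R (Localization.Away (∏ i, x i)) ((∏ i, x i) ^ m) *
        (algebraMap R (Localization.Away (∏ i, x i)) r * iv x ^ n) =
          algebraMap R (Localization.Away (∏ i, x i)) ((∏ i, x i) ^ (m - n) * r) := by
      have h6 : (∏ i, x i) ^ m = (∏ i, x i) ^ (m - n) * (∏ i, x i) ^ n := by
        rw [← pow_add, Nat.sub_add_cancel hnm]
      rw [h6, map_mul, map_mul, mul_assoc,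
        mul_left_comm (algebraMap R (Localization.Away (∏ i, x i)) ((∏ i, x i) ^ n)),
        iv_spec', mul_one]
    rw [← h5, hceq, h4]
  obtain ⟨⟨_, k, rfl⟩, hk⟩ :=
    (IsLocalization.eq_iff_exists (Submonoid.powers (∏ i, x i))
      (Localization.Away (∏ i, x i))).1 h1
  have hk' : (∏ i, x i) ^ k * ((∏ i, x i) ^ (m - n) * r) = (∏ i, x i) ^ k * c := hk
  rw [TT.of_eq_zero_iff]
  refine ⟨m + k, le_trans hnm (Nat.le_add_right _ _), ?_⟩
  rw [tr_pin, cf_xs, pin_eq_zero_iff]
  have h6 : (∏ i, x i) ^ (m + k - n) * r = c * (∏ i, x i) ^ k := by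
    have h7 : m + k - n = k + (m - n) := by omega
    rw [h7, pow_add, mul_assoc, hk', mul_comm]
  rw [h6]
  exact raise x m k c hc

/-- the top Koszul limit is the Čech quotient. -/
theorem nonempty_equiv :
    Nonempty (koszulHLim (List.ofFn x) (ModuleCat.of R R) d ≃ₗ[R]
      (Localization.Away (∏ i, x i) ⧸ Sg x)) :=
  ⟨(toTT (List.ofFn x) (ModuleCat.of R R) d).trans
    (LinearEquiv.ofBijective (PhiHat x) ⟨PhiHat_injective x, PhiHat_surjective x⟩)⟩

theorem main (R : Type u) [CommRing R] [LocCoh.IsGorensteinLocalRing R] (d : ℕ)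
    (hd : ringKrullDim R = d) (x : Fin d → R)
    (hx : (Ideal.span (Set.range x)).radical = IsLocalRing.maximalIdeal R) :
    ∃ f : IsLocalRing.ResidueField R →ₗ[R] (Localization.Away (∏ i, x i) ⧸ Sg x),
      InjHull.IsInjectiveHull f := by
  obtain ⟨g, hg⟩ := Groth.Agent.S11665.result R d hd
  have hrad : (IsLocalRing.maximalIdeal R).radical =
      (Ideal.span {a | a ∈ List.ofFn x}).radical := by
    have hset : {a | a ∈ List.ofFn x} = Set.range x := by
      ext a
      simp [List.mem_ofFn]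
    rw [hset, hx]
    exact (IsLocalRing.maximalIdeal.isMaximal R).isPrime.radical
  let e1 : LocCoh.H (IsLocalRing.maximalIdeal R) d R ≃ₗ[R]
      LocCoh.H (Ideal.span {a | a ∈ List.ofFn x}) d R :=
    ((localCohomology.isoOfSameRadical hrad d).app (ModuleCat.of R R)).toLinearEquiv
  obtain ⟨e2⟩ := Groth.Agent.S5173.result R (List.ofFn x) R d
  obtain ⟨e3⟩ := nonempty_equiv x
  exact ⟨_, hull_of_equiv g hg ((e1.trans e2).trans e3)⟩

end Groth.Agent.Lib.Helper4.CechHull
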