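import Mathlib

/-!
# Lengths along a six-term exact sequence (pure algebra, Mathlib only)

Used by `Groth.Agent.Lib.Helper4.ChiAdditive` (sub-lemma A3 for helper7's S3325).
-/

set_option autoImplicit false
set_option linter.unusedSectionVars false
set_option linter.unusedVariables false

namespace Groth.Agent.Lib.Helper4.SixTermLen

variable {R : Type*} [Ring R]

theorem length_ker_add_range {M N : Type*} [AddCommGroup M] [Module R M] [AddCommGroup N]
    [Module R N] (f : M →ₗ[R] N) :
    Module.length R M =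
      Module.length R (LinearMap.ker f) + Module.length R (LinearMap.range f) := by
  refine Module.length_eq_add_of_exact (LinearMap.ker f).subtype f.rangeRestrict
    (Submodule.subtype_injective _) f.surjective_rangeRestrict ?_
  intro y
  constructor
  · intro h
    have h' : f y = 0 := congrArg Subtype.val h
    exact ⟨⟨y, h'⟩, rfl⟩
  · rintro ⟨⟨x, hx⟩, rfl⟩
    exact Subtype.ext hx

theorem length_ker_eq_of_exact {M N P : Type*} [AddCommGroup M] [Module R M] [AddCommGroup N]
    [Module R N] [AddCommGroup P] [Module R P] (f : M →ₗ[R] N) (g : N →ₗ[R] P)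
    (h : Function.Exact f g) :
    Module.length R (LinearMap.ker g) = Module.length R (LinearMap.range f) :=
  (LinearEquiv.ofEq _ _ (LinearMap.exact_iff.mp h)).length_eq

theorem length_ne_top_of_exact {A B C : Type*} [AddCommGroup A] [Module R A] [AddCommGroup B]
    [Module R B] [AddCommGroup C] [Module R C] (f : A →ₗ[R] B) (g : B →ₗ[R] C)
    (h : Function.Exact f g) (hA : Module.length R A ≠ ⊤) (hC : Module.length R C ≠ ⊤) :
    Module.length R B ≠ ⊤ := by
  rw [length_ker_add_range g, length_ker_eq_of_exact f g h]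
  have h1 : Module.length R (LinearMap.range f) ≤ Module.length R A :=
    Module.length_le_of_surjective f.rangeRestrict f.surjective_rangeRestrict
  have h2 : Module.length R (LinearMap.range g) ≤ Module.length R C :=
    Module.length_le_of_injective (LinearMap.range g).subtype (Submodule.subtype_injective _)
  have h3 : Module.length R A + Module.length R C ≠ ⊤ := WithTop.add_ne_top.mpr ⟨hA, hC⟩
  exact ne_top_of_le_ne_top h3 (add_le_add h1 h2)

theorem length_six_term {M₁ M₂ M₃ M₄ M₅ M₆ : Type*}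
    [AddCommGroup M₁] [Module R M₁] [AddCommGroup M₂] [Module R M₂] [AddCommGroup M₃] [Module R M₃]
    [AddCommGroup M₄] [Module R M₄] [AddCommGroup M₅] [Module R M₅] [AddCommGroup M₆] [Module R M₆]
    (f₁ : M₁ →ₗ[R] M₂) (f₂ : M₂ →ₗ[R] M₃) (f₃ : M₃ →ₗ[R] M₄) (f₄ : M₄ →ₗ[R] M₅) (f₅ : M₅ →ₗ[R] M₆)
    (hinj : Function.Injective f₁) (e₁ : Function.Exact f₁ f₂) (e₂ : Function.Exact f₂ f₃)
    (e₃ : Function.Exact f₃ f₄) (e₄ : Function.Exact f₄ f₅) (hsurj : Function.Surjective f₅) :
    Module.length R M₁ + Module.length R M₃ + Module.length R M₅ =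
      Module.length R M₂ + Module.length R M₄ + Module.length R M₆ := by
  have k1 : Module.length R (LinearMap.ker f₁) = 0 := by
    rw [Module.length_eq_zero_iff, LinearMap.ker_eq_bot.mpr hinj]
    infer_instance
  have r5 : Module.length R (LinearMap.range f₅) = Module.length R M₆ := by
    rw [LinearMap.range_eq_top.mpr hsurj]
    exact Module.length_top
  have h1 := length_ker_add_range f₁
  have h2 := length_ker_add_range f₂
  have h3 := length_ker_add_range f₃
  have h4 := length_ker_add_range f₄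
  have h5 := length_ker_add_range f₅
  rw [k1, zero_add] at h1
  rw [length_ker_eq_of_exact f₁ f₂ e₁] at h2
  rw [length_ker_eq_of_exact f₂ f₃ e₂] at h3
  rw [length_ker_eq_of_exact f₃ f₄ e₃] at h4
  rw [length_ker_eq_of_exact f₄ f₅ e₄, r5] at h5
  rw [h1, h2, h3, h4, h5]
  ring

theorem chi_of_six_term {A0 B0 C0 A1 B1 C1 : Type*}
    [AddCommGroup A0] [Module R A0] [AddCommGroup B0] [Module R B0] [AddCommGroup C0] [Module R C0]
    [AddCommGroup A1] [Module R A1] [AddCommGroup B1] [Module R B1] [AddCommGroup C1] [Module R C1]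
    (f0 : A0 →ₗ[R] B0) (g0 : B0 →ₗ[R] C0) (d : C0 →ₗ[R] A1) (f1 : A1 →ₗ[R] B1) (g1 : B1 →ₗ[R] C1)
    (hinj : Function.Injective f0) (e₁ : Function.Exact f0 g0) (e₂ : Function.Exact g0 d)
    (e₃ : Function.Exact d f1) (e₄ : Function.Exact f1 g1) (hsurj : Function.Surjective g1)
    (hA0 : Module.length R A0 ≠ ⊤) (hC0 : Module.length R C0 ≠ ⊤)
    (hA1 : Module.length R A1 ≠ ⊤) (hC1 : Module.length R C1 ≠ ⊤)
    (hB0 : Module.length R B0 ≠ ⊤) (hB1 : Module.length R B1 ≠ ⊤) :
    ((Module.length R B0).toNat : ℤ) - ((Module.length R B1).toNat : ℤ) =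
      (((Module.length R A0).toNat : ℤ) - ((Module.length R A1).toNat : ℤ)) +
      (((Module.length R C0).toNat : ℤ) - ((Module.length R C1).toNat : ℤ)) := by
  have h := length_six_term f0 g0 d f1 g1 hinj e₁ e₂ e₃ e₄ hsurj
  obtain ⟨a0, ha0⟩ := ENat.ne_top_iff_exists.mp hA0
  obtain ⟨c0, hc0⟩ := ENat.ne_top_iff_exists.mp hC0
  obtain ⟨a1, ha1⟩ := ENat.ne_top_iff_exists.mp hA1
  obtain ⟨c1, hc1⟩ := ENat.ne_top_iff_exists.mp hC1
  obtain ⟨b0, hb0⟩ := ENat.ne_top_iff_exists.mp hB0
  obtain ⟨b1, hb1⟩ := ENat.ne_top_iff_exists.mp hB1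
  rw [← ha0, ← hc0, ← ha1, ← hc1, ← hb0, ← hb1] at h ⊢
  simp only [ENat.toNat_natCast]
  have h' : a0 + c0 + b1 = b0 + a1 + c1 := by exact_mod_cast h
  omega

end Groth.Agent.Lib.Helper4.SixTermLen
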