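import Mathlib
import Groth.Prelude
import Groth.Agent.Lib.Helper23.T2A
import Groth.Agent.Lib.Helper4.SixTermLen

/-!
# Additivity of the Euler characteristic (degrees 0, 1) measured by `R`-lengths

Sub-lemma (A3) requested by helper7 for S3325.
-/

set_option autoImplicit false
set_option linter.unusedSectionVars false
set_option linter.unusedVariables false
set_option linter.style.haveILetI false

universe u

open CategoryTheory CategoryTheory.Limits AlgebraicGeometry

namespace Groth.Agent.Lib.Helper4.ChiAdditive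

open Groth.Agent.Lib.Helper23 Groth.Agent.Lib.Helper4.SixTermLen

section ToR

variable {R : Type u} [CommRing R] {X : Scheme.{u}} [X.Over (Spec (CommRingCat.of R))]

/-- A `Γ(X, O_X)`-linear map between cohomology groups is `R`-linear for `X` over `Spec R`. -/
noncomputable def toR {M N : X.Modules} {m n : ℕ}
    (f : Coh.HH X M m →ₗ[Coh.Γtop X] Coh.HH X N n) : Coh.HH X M m →ₗ[R] Coh.HH X N n where
  toFun := f
  map_add' := f.map_add
  map_smul' c x := f.map_smul (Coh.toGlobal (X ↘ Spec (CommRingCat.of R)) c) x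

@[simp] lemma toR_apply {M N : X.Modules} {m n : ℕ}
    (f : Coh.HH X M m →ₗ[Coh.Γtop X] Coh.HH X N n) (x : Coh.HH X M m) :
    toR (R := R) f x = f x := rfl

end ToR

theorem chi_additive {R : Type u} [CommRing R] [IsDomain R] [IsDiscreteValuationRing R]
    {X : Over (Spec (CommRingCat.of R))} (S : ShortComplex X.left.Modules) (hS : S.ShortExact)
    (h₁ : ∀ i : ℕ, Module.length R (Coh.HH X.left S.X₁ i) ≠ ⊤)
    (h₃ : ∀ i : ℕ, Module.length R (Coh.HH X.left S.X₃ i) ≠ ⊤)
    (h2 : Subsingleton (Coh.HH X.left S.X₁ 2)) :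
    (∀ i : ℕ, Module.length R (Coh.HH X.left S.X₂ i) ≠ ⊤) ∧
      ((Module.length R (Coh.HH X.left S.X₂ 0)).toNat : ℤ) - ((Module.length R (Coh.HH X.left S.X₂ 1)).toNat : ℤ) =
        (((Module.length R (Coh.HH X.left S.X₁ 0)).toNat : ℤ) - ((Module.length R (Coh.HH X.left S.X₁ 1)).toNat : ℤ)) +
        (((Module.length R (Coh.HH X.left S.X₃ 0)).toNat : ℤ) - ((Module.length R (Coh.HH X.left S.X₃ 1)).toNat : ℤ)) := by
  haveI : Mono S.f := hS.mono_f
  let f (i : ℕ) : Coh.HH X.left S.X₁ i →ₗ[R] Coh.HH X.left S.X₂ i := toR (T2.Hmap S.f i)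
  let g (i : ℕ) : Coh.HH X.left S.X₂ i →ₗ[R] Coh.HH X.left S.X₃ i := toR (T2.Hmap S.g i)
  let d : Coh.HH X.left S.X₃ 0 →ₗ[R] Coh.HH X.left S.X₁ 1 := toR (T2.Hδ S hS 0)
  have efg : ∀ i, Function.Exact (f i) (g i) := by
    intro i y
    constructor
    · intro h
      exact T2.exact₂ S hS i y h
    · rintro ⟨x, rfl⟩
      exact T2.Hmap_comp_eq_zero S.f S.g S.zero i x
  have egd : Function.Exact (g 0) d := by
    intro y
    constructor
    · intro h
      exact T2.exact₃ S hS 0 y h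
    · rintro ⟨x, rfl⟩
      exact T2.Hδ_Hmap_g S hS 0 x
  have edf : Function.Exact d (f 1) := by
    intro y
    constructor
    · intro h
      exact T2.exact₁ S hS 0 y h
    · rintro ⟨x, rfl⟩
      exact T2.Hmap_f_Hδ S hS 0 x
  have hinj : Function.Injective (f 0) := T2.Hmap_injective_zero S.f
  have hsurj : Function.Surjective (g 1) := by
    intro x
    exact T2.exact₃ S hS 1 x (@Subsingleton.elim _ h2 _ _)
  have hfin : ∀ i, Module.length R (Coh.HH X.left S.X₂ i) ≠ ⊤ := fun i =>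
    length_ne_top_of_exact (f i) (g i) (efg i) (h₁ i) (h₃ i)
  exact ⟨hfin, chi_of_six_term (f 0) (g 0) d (f 1) (g 1) hinj (efg 0) egd edf (efg 1) hsurj
    (h₁ 0) (h₃ 0) (h₁ 1) (h₃ 1) (hfin 0) (hfin 1)⟩

end Groth.Agent.Lib.Helper4.ChiAdditive
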