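import Mathlib
import Groth.Agent.Lib.Helper4.LC7
import Groth.Agent.Lib.Helper4.CM
import Groth.Agent.Lib.Helper4.Depth2
import Groth.Agent.Lib.Helper20.LCFinite
import Groth.Agent.Lib.Helper20.LCNonVanish
import Groth.Agent.Lib.Helper1.Matlis
import Groth.Agent.S0317

/-!
# Matlis duals of local cohomology over a complete local ring (helper4)

* `rightExact_single`, `mem_smul_top_of_forall_dim_lt`, `mem_ideal_smul_top_of_forall_dim_lt`:
  right exactness of the top local cohomology `H^n_I` on modules of dimension `≤ n`.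
* `finite_dual`, `supportDim_dual_le`: `Hom(H^i_𝔪(M), E)` is finite of dimension `≤ i`.
* `top_dual`: `dim Hom(H^n_𝔪(M), E) = n` and `Ass = {p ∈ Ass M | dim R/p = n}` for `n = dim M`.
-/

set_option autoImplicit false
set_option linter.style.haveILetI false
set_option linter.unusedSectionVars false
set_option linter.unusedVariables false
set_option maxHeartbeats 800000

open CategoryTheory Limits Opposite Abelian IsLocalRing Pointwise

universe u

namespace Groth.Agent.Lib.Helper4.MatlisLC

open Groth.Agent.Lib.Helper4 Groth.Agent.Lib.Helper4.LC Groth.Agent.Lib.Helper20.LCFinite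

section general

variable {R : Type u} [CommRing R]

/-- a finite power-torsion module is killed by a single power. -/
lemma exists_pow_forall_smul_eq_zero (I : Ideal R) (N : Type u) [AddCommGroup N] [Module R N]
    [Module.Finite R N] (h : LocCoh.IsPowerTorsion I N) :
    ∃ k : ℕ, ∀ a ∈ I ^ k, ∀ x : N, a • x = 0 := by
  obtain ⟨s, hs⟩ := Module.finite_def.1 (inferInstance : Module.Finite R N)
  choose k hk using h
  refine ⟨s.sup k, fun a ha x => ?_⟩
  have hx : x ∈ Submodule.span R (s : Set N) := by rw [hs]; exact Submodule.mem_top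
  induction hx using Submodule.span_induction with
  | mem y hy => exact hk y a (Ideal.pow_le_pow_right (Finset.le_sup (Finset.mem_coe.1 hy)) ha)
  | zero => exact smul_zero a
  | add y z _ _ hy hz => rw [smul_add, hy, hz, add_zero]
  | smul r y _ hy => rw [smul_comm, hy, smul_zero]

/-- there is a prime in the support of maximal dimension. -/
lemma exists_mem_support_dim_eq (M : Type u) [AddCommGroup M] [Module R M] (n : ℕ)
    (hn : Module.supportDim R M = n) :
    ∃ p : PrimeSpectrum R, p ∈ Module.support R M ∧ ringKrullDim (R ⧸ p.asIdeal) = n := by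
  have h1 : (n : WithBot ℕ∞) ≤ Order.krullDim (Module.support R M) := le_of_eq hn.symm
  obtain ⟨l, hl⟩ := Order.le_krullDim_iff.1 h1
  refine ⟨l.head.1, l.head.2, le_antisymm ?_ ?_⟩
  · rw [← hn]; exact ringKrullDim_quotient_le_supportDim l.head.2
  · rw [ringKrullDim_quotient_eq_coheight l.head.1, ← hl]
    have h2 : Order.coheight l.head ≤ Order.coheight l.head.1 :=
      Order.coheight_le_coheight_apply_of_strictMono Subtype.val (fun a b h => h) l.head
    exact WithBot.coe_le_coe.2 (Order.length_le_coheight_head.trans h2)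

/-- a prime of maximal dimension in the support of a finite module is an associated prime. -/
lemma mem_associatedPrimes_of_dim_eq [IsNoetherianRing R] (M : Type u) [AddCommGroup M]
    [Module R M] [Module.Finite R M] (n : ℕ) (hn : Module.supportDim R M = n)
    (p : PrimeSpectrum R) (hp : p ∈ Module.support R M)
    (hpn : ringKrullDim (R ⧸ p.asIdeal) = n) : p.asIdeal ∈ associatedPrimes R M := by
  apply Module.associatedPrimes.minimalPrimes_annihilator_subset_associatedPrimes R M
  have hle : Module.annihilator R M ≤ p.asIdeal := Module.mem_support_iff_of_finite.1 hp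
  obtain ⟨q, hq, hqp⟩ := Ideal.exists_minimalPrimes_le hle
  haveI hqprime : q.IsPrime := hq.1.1
  rcases eq_or_lt_of_le hqp with h | h
  · rw [← h]; exact hq
  · exfalso
    have h1 := ringKrullDim_quotient_add_one_le_of_lt (p := q) (q := p.asIdeal) h
    have hqs : (⟨q, hqprime⟩ : PrimeSpectrum R) ∈ Module.support R M :=
      Module.mem_support_iff_of_finite.2 hq.1.2
    have h2 := ringKrullDim_quotient_le_supportDim (M := M) hqs
    dsimp only at h2
    rw [hpn] at h1
    rw [hn] at h2
    exact lt_irrefl _ (withBot_lt_of_add_one_le _ n (h1.trans h2))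

variable [IsLocalRing R]

/-- a module killed by a power of the maximal ideal has dimension `≤ 0`. -/
lemma supportDim_le_zero_of_pow_smul (T : Type u) [AddCommGroup T] [Module R T] (k : ℕ)
    (h : ∀ a ∈ maximalIdeal R ^ k, ∀ t : T, a • t = 0) :
    Module.supportDim R T ≤ 0 := by
  have hsub : ∀ p ∈ Module.support R T, p = IsLocalRing.closedPoint R := by
    intro p hp
    obtain ⟨t, ht⟩ := Module.mem_support_iff_exists_annihilator.1 hp
    have h1 : maximalIdeal R ^ k ≤ p.asIdeal := by
      intro a ha
      exact ht ((Submodule.mem_annihilator_span_singleton t a).2 (h a ha t))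
    have h2 : maximalIdeal R ≤ p.asIdeal := Ideal.IsPrime.le_of_pow_le h1
    apply PrimeSpectrum.ext
    exact ((IsLocalRing.maximalIdeal.isMaximal R).eq_of_le p.2.ne_top h2).symm
  haveI : Subsingleton (Module.support R T) :=
    ⟨fun a b => Subtype.ext ((hsub a.1 a.2).trans (hsub b.1 b.2).symm)⟩
  exact Order.krullDim_nonpos_of_subsingleton

end general

/-! ### right exactness of the top local cohomology -/

section rightExact

variable {R : Type u} [CommRing R] [IsNoetherianRing R] (I : Ideal R)

/-- right exactness for a single element: if `H^{n+1}_I` vanishes on the submodules of `M`, then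
`H^n_I(M) → H^n_I(M/aM)` is surjective with kernel `a H^n_I(M)`. -/
theorem rightExact_single (M : Type u) [AddCommGroup M] [Module R M] (a : R) (n : ℕ)
    (hvan : ∀ N : Submodule R M, Subsingleton (HH I (ModuleCat.of R N) (n + 1))) :
    Function.Surjective (HH.map I (ModuleCat.ofHom (a • (⊤ : Submodule R M)).mkQ) n) ∧
    ∀ h : HH I (ModuleCat.of R M) n,
      HH.map I (ModuleCat.ofHom (a • (⊤ : Submodule R M)).mkQ) n h = 0 → ∃ h', h = a • h' := by
  set P : Submodule R M := a • ⊤ with hP
  have hS2 := sesOf_shortExact P.subtype P.mkQ (LinearMap.exact_subtype_mkQ P)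
    (Submodule.injective_subtype P) (Submodule.mkQ_surjective P)
  let μ' : M →ₗ[R] P := (LinearMap.lsmul R M a).codRestrict P
    (fun m => Submodule.smul_mem_pointwise_smul m a ⊤ Submodule.mem_top)
  have hμ' : Function.Surjective μ' := by
    rintro ⟨y, hy⟩
    obtain ⟨m, -, rfl⟩ := (Submodule.mem_smul_pointwise_iff_exists y a ⊤).1 hy
    exact ⟨m, Subtype.ext rfl⟩
  have hS1 := sesOf_shortExact (LinearMap.ker μ').subtype μ' (LinearMap.exact_subtype_ker_map μ')
    (Submodule.injective_subtype _) hμ'
  constructor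
  · exact HH.map_g_surjective I hS2 n (hvan P)
  · intro h hh
    obtain ⟨y, hy⟩ := HH.exact₂ I hS2 n h hh
    obtain ⟨h', hh'⟩ := HH.map_g_surjective I hS1 n (hvan (LinearMap.ker μ')) y
    refine ⟨h', ?_⟩
    have hcomp : (ModuleCat.ofHom μ' ≫ ModuleCat.ofHom P.subtype) =
        a • 𝟙 (ModuleCat.of R M) := by
      apply ModuleCat.hom_ext
      apply LinearMap.ext
      intro m
      rfl
    calc h = HH.map I (ModuleCat.ofHom P.subtype) n (HH.map I (ModuleCat.ofHom μ') n h') := by
            rw [← hy, ← hh']
      _ = HH.map I (ModuleCat.ofHom μ' ≫ ModuleCat.ofHom P.subtype) n h' :=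
            (HH.map_comp I _ _ n h').symm
      _ = HH.map I (a • 𝟙 (ModuleCat.of R M)) n h' := by rw [hcomp]
      _ = a • h' := (HH.smul_eq_map I n a h').symm

/-- right exactness of `H^n_I` on modules of dimension `≤ n`: if all primes of `Supp M` containing
`s` have dimension `< n`, then `H^n_I(M) = (s) H^n_I(M)`. -/
theorem mem_smul_top_of_forall_dim_lt (n : ℕ) : ∀ (s : Finset R) (M : Type u) [AddCommGroup M]
    [Module R M] [Module.Finite R M],
    Module.supportDim R M ≤ (n : WithBot ℕ∞) →
    (∀ p ∈ Module.support R M, (s : Set R) ⊆ p.asIdeal →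
      ringKrullDim (R ⧸ p.asIdeal) < (n : WithBot ℕ∞)) →
    ∀ h : HH I (ModuleCat.of R M) n,
      h ∈ (Ideal.span (s : Set R)) • (⊤ : Submodule R (HH I (ModuleCat.of R M) n)) := by
  classical
  intro s
  induction s using Finset.induction_on with
  | empty =>
    intro M _ _ _ hM hq h
    have hlt : Module.supportDim R M < (n : WithBot ℕ∞) := by
      by_contra hcon
      rw [not_lt] at hcon
      obtain ⟨p, hp, hpn⟩ := exists_mem_support_dim_eq M n (le_antisymm hM hcon)
      have := hq p hp (by simp)
      rw [hpn] at this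
      exact lt_irrefl _ this
    haveI : Subsingleton (HH I (ModuleCat.of R M) n) :=
      HH.subsingleton_of_supportDim_lt I (ModuleCat.of R M) n hlt
    rw [Subsingleton.elim h 0]
    exact Submodule.zero_mem _
  | insert a s has ih =>
    intro M _ _ _ hM hq h
    have hvan : ∀ N : Submodule R M, Subsingleton (HH I (ModuleCat.of R N) (n + 1)) := by
      intro N
      refine HH.subsingleton_of_supportDim_lt I (ModuleCat.of R N) (n + 1) (lt_of_le_of_lt
        ((Module.supportDim_le_of_injective N.subtype (Submodule.injective_subtype N)).trans hM)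
        ?_)
      exact_mod_cast Nat.lt_succ_self n
    obtain ⟨hsurj, hker⟩ := rightExact_single I M a n hvan
    have hN : Module.supportDim R (M ⧸ a • (⊤ : Submodule R M)) ≤ (n : WithBot ℕ∞) :=
      (Module.supportDim_le_of_surjective (Submodule.mkQ _) (Submodule.mkQ_surjective _)).trans hM
    have hqN : ∀ p ∈ Module.support R (M ⧸ a • (⊤ : Submodule R M)), (s : Set R) ⊆ p.asIdeal →
        ringKrullDim (R ⧸ p.asIdeal) < (n : WithBot ℕ∞) := by
      intro p hp hs
      have hpM : p ∈ Module.support R M :=
        Module.support_subset_of_surjective (Submodule.mkQ _) (Submodule.mkQ_surjective _) hp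
      obtain ⟨t, ht⟩ := Module.mem_support_iff_exists_annihilator.1 hp
      have hap : a ∈ p.asIdeal := by
        apply ht
        rw [Submodule.mem_annihilator_span_singleton]
        obtain ⟨m, rfl⟩ := Submodule.mkQ_surjective _ t
        rw [← map_smul, Submodule.mkQ_apply, Submodule.Quotient.mk_eq_zero]
        exact Submodule.smul_mem_pointwise_smul m a ⊤ Submodule.mem_top
      refine hq p hpM ?_
      rw [Finset.coe_insert, Set.insert_subset_iff]
      exact ⟨hap, hs⟩
    set πH := HH.map I (ModuleCat.ofHom (a • (⊤ : Submodule R M)).mkQ) n with hπH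
    have h1 := ih (M ⧸ a • (⊤ : Submodule R M)) hN hqN (πH h)
    have h2 : (Ideal.span (s : Set R)) •
        (⊤ : Submodule R (HH I (ModuleCat.of R (M ⧸ a • (⊤ : Submodule R M))) n)) =
        Submodule.map πH ((Ideal.span (s : Set R)) •
          (⊤ : Submodule R (HH I (ModuleCat.of R M) n))) := by
      rw [Submodule.map_smul'', Submodule.map_top, LinearMap.range_eq_top.2 hsurj]
    rw [h2] at h1
    obtain ⟨h₁, hh₁, e⟩ := Submodule.mem_map.1 h1
    have h3 : πH (h - h₁) = 0 := by rw [map_sub, e, sub_self]
    obtain ⟨h', hh'⟩ := hker (h - h₁) h3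
    have h4 : h = h₁ + a • h' := by rw [← hh']; abel
    rw [h4]
    refine Submodule.add_mem _ ?_ ?_
    · exact Submodule.smul_mono_left
        (Ideal.span_mono (Finset.coe_subset.2 (Finset.subset_insert a s))) hh₁
    · exact Submodule.smul_mem_smul
        (Ideal.subset_span (Finset.mem_coe.2 (Finset.mem_insert_self a s))) Submodule.mem_top

/-- ideal form of `mem_smul_top_of_forall_dim_lt`. -/
theorem mem_ideal_smul_top_of_forall_dim_lt (n : ℕ) (q : Ideal R) (M : Type u) [AddCommGroup M]
    [Module R M] [Module.Finite R M] (hM : Module.supportDim R M ≤ (n : WithBot ℕ∞))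
    (hq : ∀ p ∈ Module.support R M, q ≤ p.asIdeal →
      ringKrullDim (R ⧸ p.asIdeal) < (n : WithBot ℕ∞))
    (h : HH I (ModuleCat.of R M) n) :
    h ∈ q • (⊤ : Submodule R (HH I (ModuleCat.of R M) n)) := by
  obtain ⟨s, hs⟩ := IsNoetherian.noetherian q
  have h1 := mem_smul_top_of_forall_dim_lt I n s M hM
    (fun p hp hsp => hq p hp (by rw [← hs]; exact Ideal.span_le.2 hsp)) h
  have h2 : Ideal.span (s : Set R) = q := hs
  rw [h2] at h1
  exact h1

end rightExact

/-! ### the duals -/

section dual

variable {R : Type u} [CommRing R] [IsLocalRing R] [IsNoetherianRing R]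
  {E : Type u} [AddCommGroup E] [Module R E]

/-- functionals vanishing on `ker (x • ·) = range g` are multiples of `x`. -/
lemma exists_smul_eq_of_comp_eq_zero [Module.Injective R E] {X H : Type u} [AddCommGroup X]
    [Module R X] [AddCommGroup H] [Module R H] (g : X →ₗ[R] H) (x : R)
    (hg : ∀ h : H, x • h = 0 → ∃ y, g y = h) (φ : H →ₗ[R] E) (hφ : ∀ y, φ (g y) = 0) :
    ∃ ψ : H →ₗ[R] E, x • ψ = φ := by
  let μ : H →ₗ[R] H := LinearMap.lsmul R H x
  have hker : LinearMap.ker μ ≤ LinearMap.ker φ := by
    intro h hh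
    have hh' : x • h = 0 := hh
    obtain ⟨y, rfl⟩ := hg h hh'
    exact hφ y
  let μ' : (H ⧸ LinearMap.ker μ) →ₗ[R] H := (LinearMap.ker μ).liftQ μ le_rfl
  have hμ' : Function.Injective μ' := by
    rw [← LinearMap.ker_eq_bot]
    exact Submodule.ker_liftQ_eq_bot _ _ _ le_rfl
  obtain ⟨ψ, hψ⟩ := Module.Injective.out μ' hμ' ((LinearMap.ker μ).liftQ φ hker)
  refine ⟨ψ, LinearMap.ext fun h => ?_⟩
  have h1 := hψ (Submodule.Quotient.mk h)
  rw [LinearMap.smul_apply, ← map_smul]
  exact h1

variable [IsAdicComplete (maximalIdeal R) R]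
  (f : ResidueField R →ₗ[R] E) (hf : InjHull.IsInjectiveHull f)

include hf in
/-- the Matlis dual of `H^i_𝔪(M)` is a finite module. -/
theorem finite_dual (i : ℕ) (M : Type u) [AddCommGroup M] [Module R M] [Module.Finite R M] :
    Module.Finite R (HH (maximalIdeal R) (ModuleCat.of R M) i →ₗ[R] E) := by
  haveI : IsArtinian R (HH (maximalIdeal R) (ModuleCat.of R M) i) :=
    HH.isArtinian_aux _ i M (Or.inl rfl)
  exact (Groth.Agent.S0317.result R E f hf _).1

include hf in
/-- induction step: the torsion-free case. -/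
lemma supportDim_dual_le_step (i : ℕ)
    (ih : ∀ (N : Type u) [AddCommGroup N] [Module R N] [Module.Finite R N],
      Module.supportDim R (HH (maximalIdeal R) (ModuleCat.of R N) i →ₗ[R] E) ≤ (i : WithBot ℕ∞))
    (M' : Type u) [AddCommGroup M'] [Module R M'] [Module.Finite R M']
    (htor : DRing.torsionSub (maximalIdeal R) M' = ⊥) :
    Module.supportDim R (HH (maximalIdeal R) (ModuleCat.of R M') (i + 1) →ₗ[R] E) ≤
      ((i + 1 : ℕ) : WithBot ℕ∞) := by
  haveI : Module.Injective R E := hf.isInjective
  by_cases hM' : Subsingleton M'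
  · haveI := HH.subsingleton_of_subsingleton (maximalIdeal R) M' (i + 1)
    rw [Module.supportDim_eq_bot_of_subsingleton]
    exact bot_le
  · rw [not_subsingleton_iff_nontrivial] at hM'
    obtain ⟨x, hx𝔪, hreg⟩ := exists_regular_of_torsionSub_eq_bot (maximalIdeal R) M' htor
    set S := ModuleCat.smulShortComplex (ModuleCat.of R M') x with hSdef
    have hS : S.ShortExact := IsSMulRegular.smulShortComplex_shortExact hreg
    change Module.supportDim R (HH (maximalIdeal R) S.X₁ (i + 1) →ₗ[R] E) ≤ _
    haveI hfin : Module.Finite R (HH (maximalIdeal R) S.X₁ (i + 1) →ₗ[R] E) :=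
      finite_dual f hf (i + 1) M'
    let D := LinearMap.lcomp R E (HH.δ (maximalIdeal R) hS i)
    have hle : x • (⊤ : Submodule R (HH (maximalIdeal R) S.X₁ (i + 1) →ₗ[R] E)) ≤
        LinearMap.ker D := by
      intro φ hφ
      obtain ⟨ψ, -, rfl⟩ := (Submodule.mem_smul_pointwise_iff_exists _ _ _).1 hφ
      rw [LinearMap.mem_ker]
      apply LinearMap.ext
      intro y
      have h0 : x • HH.δ (maximalIdeal R) hS i y = 0 :=
        (HH.smul_eq_map (maximalIdeal R) (i + 1) x _).trans (HH.map_f_δ (maximalIdeal R) hS i y)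
      have h1 : D (x • ψ) y = ψ (x • HH.δ (maximalIdeal R) hS i y) :=
        (map_smul ψ x (HH.δ (maximalIdeal R) hS i y)).symm
      rw [h1, h0, map_zero, LinearMap.zero_apply]
    have hker : LinearMap.ker D ≤
        x • (⊤ : Submodule R (HH (maximalIdeal R) S.X₁ (i + 1) →ₗ[R] E)) := by
      intro φ hφ
      have hφ' : D φ = 0 := LinearMap.mem_ker.1 hφ
      obtain ⟨ψ, hψ⟩ := exists_smul_eq_of_comp_eq_zero (E := E) (HH.δ (maximalIdeal R) hS i) x
        (fun h hh => HH.exact₁ (maximalIdeal R) hS i h
          ((HH.smul_eq_map (maximalIdeal R) (i + 1) x h).symm.trans hh)) φ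
        (fun y => LinearMap.congr_fun hφ' y)
      exact (Submodule.mem_smul_pointwise_iff_exists _ _ _).2 ⟨ψ, Submodule.mem_top, hψ⟩
    let Dq := Submodule.liftQ _ D hle
    have hDq : Function.Injective Dq := by
      rw [← LinearMap.ker_eq_bot]
      exact Submodule.ker_liftQ_eq_bot _ _ _ hker
    have h1 : Module.supportDim R
        (QuotSMulTop x (HH (maximalIdeal R) S.X₁ (i + 1) →ₗ[R] E)) ≤ (i : WithBot ℕ∞) :=
      (Module.supportDim_le_of_injective Dq hDq).trans (ih (QuotSMulTop x M'))
    have h2 := Module.supportDim_le_supportDim_quotSMulTop_succ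
      (M := (HH (maximalIdeal R) S.X₁ (i + 1) →ₗ[R] E)) hx𝔪
    refine h2.trans ?_
    have h3 : ((i + 1 : ℕ) : WithBot ℕ∞) = (i : WithBot ℕ∞) + 1 := by push_cast; rfl
    rw [h3]
    exact add_le_add h1 le_rfl

include hf in
/-- the Matlis dual of `H^i_𝔪(M)` has dimension `≤ i`. -/
theorem supportDim_dual_le : ∀ (i : ℕ) (M : Type u) [AddCommGroup M] [Module R M]
    [Module.Finite R M],
    Module.supportDim R (HH (maximalIdeal R) (ModuleCat.of R M) i →ₗ[R] E) ≤
      (i : WithBot ℕ∞) := by
  intro i
  induction i with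
  | zero =>
    intro M _ _ _
    haveI : IsNoetherian R M := isNoetherian_of_isNoetherianRing_of_finite R M
    obtain ⟨k, hk⟩ := exists_pow_forall_smul_eq_zero (maximalIdeal R)
      (DRing.torsionSub (maximalIdeal R) M) (isPowerTorsion_torsionSub _ M)
    have h0 := supportDim_le_zero_of_pow_smul (R := R)
      (HH (maximalIdeal R) (ModuleCat.of R M) 0 →ₗ[R] E) k (fun a ha φ => by
        apply LinearMap.ext
        intro h
        have h1 : a • h = 0 := by
          apply (HH0Equiv (maximalIdeal R) (ModuleCat.of R M)).injective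
          rw [map_smul, map_zero]
          exact hk a ha _
        rw [LinearMap.smul_apply, ← map_smul, h1, map_zero, LinearMap.zero_apply])
    exact_mod_cast h0
  | succ i ih =>
    intro M _ _ _
    have e : (HH (maximalIdeal R) (ModuleCat.of R M) (i + 1) →ₗ[R] E) ≃ₗ[R]
        (HH (maximalIdeal R) (ModuleCat.of R (M ⧸ DRing.torsionSub (maximalIdeal R) M)) (i + 1)
          →ₗ[R] E) :=
      LinearEquiv.arrowCongr (quotEquiv (maximalIdeal R) M i) (LinearEquiv.refl R E)
    rw [Module.supportDim_eq_of_equiv e]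
    exact supportDim_dual_le_step f hf i ih _ (torsionSub_quotient_eq_bot (maximalIdeal R) M)

include hf in
/-- the top Matlis dual: dimension and associated primes. -/
theorem top_dual (M : Type u) [AddCommGroup M] [Module R M] [Module.Finite R M] (n : ℕ)
    (hn : Module.supportDim R M = n) :
    Module.supportDim R (HH (maximalIdeal R) (ModuleCat.of R M) n →ₗ[R] E) = n ∧
    associatedPrimes R (HH (maximalIdeal R) (ModuleCat.of R M) n →ₗ[R] E) =
      {p | p ∈ associatedPrimes R M ∧ ringKrullDim (R ⧸ p) = n} := by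
  haveI hfin : Module.Finite R (HH (maximalIdeal R) (ModuleCat.of R M) n →ₗ[R] E) :=
    finite_dual f hf n M
  have hT := supportDim_dual_le f hf n M
  -- `⊆`
  have hsub : ∀ q ∈ associatedPrimes R (HH (maximalIdeal R) (ModuleCat.of R M) n →ₗ[R] E),
      q ∈ associatedPrimes R M ∧ ringKrullDim (R ⧸ q) = n := by
    intro q hq
    obtain ⟨hqp, φ, hφ⟩ := isAssociatedPrime_iff.1 hq
    haveI := hqp
    have hφ0 : φ ≠ 0 := by
      rintro rfl
      apply hqp.ne_top
      rw [hφ, eq_top_iff]
      intro r _
      rw [Submodule.mem_colon_singleton, smul_zero]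
      exact Submodule.zero_mem _
    have hkill : ∀ a ∈ q, a • φ = 0 := by
      intro a ha
      have ha' : a ∈ (⊥ : Submodule R (HH (maximalIdeal R) (ModuleCat.of R M) n →ₗ[R] E)).colon
          {φ} := hφ ▸ ha
      rw [Submodule.mem_colon_singleton] at ha'
      exact (Submodule.mem_bot R).1 ha'
    have hex : ∃ p ∈ Module.support R M, q ≤ p.asIdeal ∧
        ¬ ringKrullDim (R ⧸ p.asIdeal) < (n : WithBot ℕ∞) := by
      by_contra hcon
      push Not at hcon
      apply hφ0
      apply LinearMap.ext
      intro h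
      have hh := mem_ideal_smul_top_of_forall_dim_lt (maximalIdeal R) n q M (le_of_eq hn) hcon h
      rw [LinearMap.zero_apply]
      refine Submodule.smul_induction_on hh (fun a ha y _ => ?_) (fun y z hy hz => ?_)
      · rw [map_smul, ← LinearMap.smul_apply, hkill a ha, LinearMap.zero_apply]
      · rw [map_add, hy, hz, add_zero]
    obtain ⟨p, hpM, hqp', hpn⟩ := hex
    have hpn' : ringKrullDim (R ⧸ p.asIdeal) = n :=
      le_antisymm (hn ▸ ringKrullDim_quotient_le_supportDim hpM) (not_lt.1 hpn)
    have hqT := mem_support_of_mem_associatedPrimes hq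
    have hqn0 := ringKrullDim_quotient_le_supportDim hqT
    dsimp only at hqn0
    have hqn : ringKrullDim (R ⧸ q) ≤ (n : WithBot ℕ∞) := hqn0.trans hT
    have hqeq : q = p.asIdeal := by
      rcases eq_or_lt_of_le hqp' with h | h
      · exact h
      · exfalso
        have h1 := ringKrullDim_quotient_add_one_le_of_lt (p := q) (q := p.asIdeal) h
        rw [hpn'] at h1
        exact lt_irrefl _ (withBot_lt_of_add_one_le _ n (h1.trans hqn))
    rw [hqeq]
    exact ⟨mem_associatedPrimes_of_dim_eq M n hn p hpM hpn', hpn'⟩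
  -- `⊇`
  have hsup : ∀ p ∈ associatedPrimes R M, ringKrullDim (R ⧸ p) = n →
      p ∈ associatedPrimes R (HH (maximalIdeal R) (ModuleCat.of R M) n →ₗ[R] E) := by
    intro p hp hpn
    haveI hpp : p.IsPrime := hp.isPrime
    have hpM := mem_support_of_mem_associatedPrimes hp
    have hpN : (⟨p, hpp⟩ : PrimeSpectrum R) ∈
        Module.support R (M ⧸ p • (⊤ : Submodule R M)) := by
      rw [Module.support_quotient]
      refine ⟨hpM, ?_⟩
      rw [PrimeSpectrum.mem_zeroLocus]
    have hN : Module.supportDim R (M ⧸ p • (⊤ : Submodule R M)) = n := by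
      refine le_antisymm ((Module.supportDim_le_of_surjective _
        (Submodule.mkQ_surjective _)).trans (le_of_eq hn)) ?_
      have h6 := ringKrullDim_quotient_le_supportDim hpN
      dsimp only at h6
      rw [← hpn]
      exact h6
    haveI : Nontrivial (HH (maximalIdeal R) (ModuleCat.of R (M ⧸ p • (⊤ : Submodule R M))) n) :=
      Groth.Agent.Lib.Helper20.LCNonVanish.nontrivial_top n _ hN
    set P : Submodule R M := p • ⊤ with hP
    have hS := sesOf_shortExact P.subtype P.mkQ (LinearMap.exact_subtype_mkQ P)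
      (Submodule.injective_subtype P) (Submodule.mkQ_surjective P)
    have hsurj : Function.Surjective (HH.map (maximalIdeal R) (ModuleCat.ofHom P.mkQ) n) :=
      HH.map_g_surjective (maximalIdeal R) hS n
        (HH.subsingleton_of_supportDim_lt (maximalIdeal R) _ (n + 1) (lt_of_le_of_lt
          ((Module.supportDim_le_of_injective P.subtype (Submodule.injective_subtype P)).trans
            (le_of_eq hn)) (by exact_mod_cast Nat.lt_succ_self n)))
    obtain ⟨c, hc⟩ := exists_ne (0 : HH (maximalIdeal R) (ModuleCat.of R (M ⧸ P)) n)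
    obtain ⟨χ, hχ⟩ := Groth.Agent.Lib.Helper1.Matlis.exists_hom_apply_ne_zero f hf _ c hc
    obtain ⟨h₀, rfl⟩ := hsurj c
    let φ : HH (maximalIdeal R) (ModuleCat.of R M) n →ₗ[R] E :=
      χ ∘ₗ HH.map (maximalIdeal R) (ModuleCat.ofHom P.mkQ) n
    have hφ0 : φ ≠ 0 := fun h0 => hχ (LinearMap.congr_fun h0 h₀)
    have hzero : ∀ a ∈ p, (a • 𝟙 (ModuleCat.of R (M ⧸ P))) = 0 := by
      intro a ha
      apply ModuleCat.hom_ext
      apply LinearMap.ext
      intro y
      obtain ⟨m, rfl⟩ := Submodule.mkQ_surjective _ y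
      change a • (P.mkQ m) = 0
      rw [← map_smul, Submodule.mkQ_apply, Submodule.Quotient.mk_eq_zero]
      exact Submodule.smul_mem_smul ha Submodule.mem_top
    have hkill : ∀ a ∈ p, a • φ = 0 := by
      intro a ha
      apply LinearMap.ext
      intro h
      change a • χ (HH.map (maximalIdeal R) (ModuleCat.ofHom P.mkQ) n h) = 0
      rw [← map_smul, HH.smul_eq_map, hzero a ha, HH.map_zero', map_zero]
    let W : Submodule R (HH (maximalIdeal R) (ModuleCat.of R M) n →ₗ[R] E) :=
      Submodule.span R {φ}
    haveI : Nontrivial W :=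
      ⟨⟨⟨φ, Submodule.mem_span_singleton_self φ⟩, 0, fun h => hφ0 (congrArg Subtype.val h)⟩⟩
    obtain ⟨q, hq⟩ := associatedPrimes.nonempty R W
    have hqT : q ∈ associatedPrimes R (HH (maximalIdeal R) (ModuleCat.of R M) n →ₗ[R] E) :=
      associatedPrimes.subset_of_injective (Submodule.injective_subtype W) hq
    obtain ⟨hqA, hqn⟩ := hsub q hqT
    obtain ⟨hqp, w, hw⟩ := isAssociatedPrime_iff.1 hq
    have hpq : p ≤ q := by
      intro a ha
      rw [hw, Submodule.mem_colon_singleton, Submodule.mem_bot]
      obtain ⟨r, hr⟩ := Submodule.mem_span_singleton.1 w.2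
      apply Subtype.ext
      rw [Submodule.coe_smul, ← hr, smul_comm, hkill a ha, smul_zero]
      rfl
    rcases eq_or_lt_of_le hpq with h | h
    · rw [h]; exact hqT
    · exfalso
      haveI := hqp
      have h1 := ringKrullDim_quotient_add_one_le_of_lt (p := p) (q := q) h
      rw [hqn, hpn] at h1
      exact lt_irrefl _ (withBot_lt_of_add_one_le _ n h1)
  have hAss : associatedPrimes R (HH (maximalIdeal R) (ModuleCat.of R M) n →ₗ[R] E) =
      {p | p ∈ associatedPrimes R M ∧ ringKrullDim (R ⧸ p) = n} := by
    ext q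
    exact ⟨fun h => hsub q h, fun h => hsup q h.1 h.2⟩
  refine ⟨le_antisymm hT ?_, hAss⟩
  obtain ⟨p, hpM, hpn⟩ := exists_mem_support_dim_eq M n hn
  have hpA := mem_associatedPrimes_of_dim_eq M n hn p hpM hpn
  have hpT := hsup p.asIdeal hpA hpn
  have h5 := ringKrullDim_quotient_le_supportDim (mem_support_of_mem_associatedPrimes hpT)
  dsimp only at h5
  rw [← hpn]
  exact h5

end dual

end Groth.Agent.Lib.Helper4.MatlisLC
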