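import Mathlib
import Groth.Agent.Lib.Helper4.MatlisLC
import Groth.Agent.Lib.Helper4.HLVT2
import Groth.Agent.Lib.Helper20.LCIndep2
import Groth.Agent.Lib.Helper20.LCNonVanish

/-!
# Associated primes of the Matlis dual of the top local cohomology `H^n_I(M)` (helper4)

* `mem_ideal_smul_top_of_forall_quotient`: right exactness of `H^n_I` on modules of dimension `≤ n`,
  general form.
* `subsingleton_HH_of_killed`: HLVT for modules killed by a prime `q` with `dim R/q = n`.
* `nontrivial_HH_of_killed`: non-vanishing of `H^n_I(N)` when `N` is killed by `p` and `I + p` is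
  `𝔪`-primary.
* `associatedPrimes_top_dual`: `Ass Hom(H^n_I(M), E)` over a complete local ring.
-/

set_option autoImplicit false
set_option linter.style.haveILetI false
set_option linter.unusedSectionVars false
set_option linter.unusedVariables false
set_option maxHeartbeats 800000

open CategoryTheory Limits Opposite Abelian IsLocalRing Pointwise

universe u

namespace Groth.Agent.Lib.Helper4.MatlisTop

open Groth.Agent.Lib.Helper4 Groth.Agent.Lib.Helper4.LC Groth.Agent.Lib.Helper20.LCFinite
  Groth.Agent.Lib.Helper4.MatlisLC Groth.Agent.Lib.Helper4.HLVT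

section rightExact

variable {R : Type u} [CommRing R] [IsNoetherianRing R] (I : Ideal R)

/-- right exactness of `H^n_I` on modules of dimension `≤ n`: if `H^n_I` vanishes on the quotients
of `M` killed by `s`, then `H^n_I(M) = (s) H^n_I(M)`. -/
theorem mem_smul_top_of_forall_quotient (n : ℕ) : ∀ (s : Finset R) (M : Type u) [AddCommGroup M]
    [Module R M] [Module.Finite R M],
    Module.supportDim R M ≤ (n : WithBot ℕ∞) →
    (∀ (N : Type u) [AddCommGroup N] [Module R N] (g : M →ₗ[R] N), Function.Surjective g →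
      (∀ a ∈ s, ∀ x : N, a • x = 0) → Subsingleton (HH I (ModuleCat.of R N) n)) →
    ∀ h : HH I (ModuleCat.of R M) n,
      h ∈ (Ideal.span (s : Set R)) • (⊤ : Submodule R (HH I (ModuleCat.of R M) n)) := by
  classical
  intro s
  induction s using Finset.induction_on with
  | empty =>
    intro M _ _ _ hM hq h
    haveI : Subsingleton (HH I (ModuleCat.of R M) n) :=
      hq M LinearMap.id Function.surjective_id (fun a ha => absurd ha (Finset.notMem_empty a))
    rw [Subsingleton.elim h 0]
    exact Submodule.zero_mem _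
  | insert a s has ih =>
    intro M _ _ _ hM hq h
    have hvan : ∀ N : Submodule R M, Subsingleton (HH I (ModuleCat.of R N) (n + 1)) := by
      intro N
      refine HH.subsingleton_of_supportDim_lt I (ModuleCat.of R N) (n + 1) (lt_of_le_of_lt
        ((Module.supportDim_le_of_injective N.subtype (Submodule.injective_subtype N)).trans hM)
        ?_)
      exact_mod_cast Nat.lt_succ_self n
    obtain ⟨hsurj, hker⟩ := rightExact_single I M a n hvan
    have hN : Module.supportDim R (M ⧸ a • (⊤ : Submodule R M)) ≤ (n : WithBot ℕ∞) :=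
      (Module.supportDim_le_of_surjective (Submodule.mkQ _) (Submodule.mkQ_surjective _)).trans hM
    have hqN : ∀ (N : Type u) [AddCommGroup N] [Module R N]
        (g : (M ⧸ a • (⊤ : Submodule R M)) →ₗ[R] N), Function.Surjective g →
        (∀ b ∈ s, ∀ x : N, b • x = 0) → Subsingleton (HH I (ModuleCat.of R N) n) := by
      intro N _ _ g hg hs
      refine hq N (g ∘ₗ (a • (⊤ : Submodule R M)).mkQ)
        (hg.comp (Submodule.mkQ_surjective _)) (fun b hb x => ?_)
      rcases Finset.mem_insert.1 hb with hba | hb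
      · obtain ⟨y, rfl⟩ := hg x
        obtain ⟨m, rfl⟩ := Submodule.mkQ_surjective _ y
        have h0 : (a • (⊤ : Submodule R M)).mkQ (a • m) = 0 := by
          rw [Submodule.mkQ_apply, Submodule.Quotient.mk_eq_zero]
          exact Submodule.smul_mem_pointwise_smul m a ⊤ Submodule.mem_top
        rw [hba, ← map_smul, ← map_smul, h0, map_zero]
      · exact hs b hb x
    set πH := HH.map I (ModuleCat.ofHom (a • (⊤ : Submodule R M)).mkQ) n with hπH
    have h1 := ih (M ⧸ a • (⊤ : Submodule R M)) hN hqN (πH h)
    have h2 : (Ideal.span (s : Set R)) •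
        (⊤ : Submodule R (HH I (ModuleCat.of R (M ⧸ a • (⊤ : Submodule R M))) n)) =
        Submodule.map πH ((Ideal.span (s : Set R)) •
          (⊤ : Submodule R (HH I (ModuleCat.of R M) n))) := by
      rw [Submodule.map_smul'', Submodule.map_top, LinearMap.range_eq_top.2 hsurj]
    rw [h2] at h1
    obtain ⟨h₁, hh₁, e⟩ := Submodule.mem_map.1 h1
    have h3 : πH (h - h₁) = 0 := by rw [map_sub, e, sub_self]
    obtain ⟨h', hh'⟩ := hker (h - h₁) h3
    have h4 : h = h₁ + a • h' := by rw [← hh']; abel
    rw [h4]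
    refine Submodule.add_mem _ ?_ ?_
    · exact Submodule.smul_mono_left
        (Ideal.span_mono (Finset.coe_subset.2 (Finset.subset_insert a s))) hh₁
    · exact Submodule.smul_mem_smul
        (Ideal.subset_span (Finset.mem_coe.2 (Finset.mem_insert_self a s))) Submodule.mem_top

/-- ideal form of `mem_smul_top_of_forall_quotient`. -/
theorem mem_ideal_smul_top_of_forall_quotient (n : ℕ) (q : Ideal R) (M : Type u) [AddCommGroup M]
    [Module R M] [Module.Finite R M] (hM : Module.supportDim R M ≤ (n : WithBot ℕ∞))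
    (hq : ∀ (N : Type u) [AddCommGroup N] [Module R N] (g : M →ₗ[R] N), Function.Surjective g →
      (∀ a ∈ q, ∀ x : N, a • x = 0) → Subsingleton (HH I (ModuleCat.of R N) n))
    (h : HH I (ModuleCat.of R M) n) :
    h ∈ q • (⊤ : Submodule R (HH I (ModuleCat.of R M) n)) := by
  obtain ⟨s, hs⟩ := IsNoetherian.noetherian q
  have h1 := mem_smul_top_of_forall_quotient I n s M hM
    (fun N _ _ g hg hN => hq N g hg (fun a ha x => by
      have ha' : a ∈ Ideal.span (s : Set R) := by
        rw [show Ideal.span (s : Set R) = q from hs]; exact ha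
      refine Submodule.span_induction (p := fun a _ => a • x = 0) ?_ ?_ ?_ ?_ ha'
      · intro b hb
        exact hN b (Finset.mem_coe.1 hb) x
      · exact zero_smul _ _
      · intro b c _ _ hb hc
        rw [add_smul, hb, hc, add_zero]
      · intro r b _ hb
        rw [smul_eq_mul, mul_smul, hb, smul_zero])) h
  have h2 : Ideal.span (s : Set R) = q := hs
  rw [h2] at h1
  exact h1

/-- `H^i_⊤ = 0`. -/
lemma HH.eq_zero_of_top {X : ModuleCat.{u} R} {i : ℕ} (h : HH (⊤ : Ideal R) X i) : h = 0 := by
  obtain ⟨k, hk⟩ := HH.exists_pow_smul_eq_zero (⊤ : Ideal R) (1 : R) Submodule.mem_top h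
  rwa [one_pow, one_smul] at hk

end rightExact

section vanishing

variable {R : Type u} [CommRing R] [IsLocalRing R] [IsNoetherianRing R]
  [IsAdicComplete (maximalIdeal R) R]

/-- HLVT for modules killed by a prime `q` with `dim R/q = n`: if `I + q` lies in a non-maximal
prime, then `H^n_I(N) = 0`. -/
theorem subsingleton_HH_of_killed (I q P : Ideal R) [hq : q.IsPrime] [hP : P.IsPrime] (n : ℕ)
    (hqn : ringKrullDim (R ⧸ q) = n) (hIP : I ⊔ q ≤ P) (hPm : P ≠ maximalIdeal R)
    (N : Type u) [AddCommGroup N] [Module R N] (hN : ∀ a ∈ q, ∀ x : N, a • x = 0) :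
    Subsingleton (HH I (ModuleCat.of R N) n) := by
  have hN' : Module.IsTorsionBySet R N (q : Set R) := fun x a => hN a.1 a.2 x
  letI := hN'.module
  haveI : IsLocalRing (R ⧸ q) :=
    IsLocalRing.of_surjective' (Ideal.Quotient.mk q) Ideal.Quotient.mk_surjective
  haveI : IsAdicComplete (maximalIdeal (R ⧸ q)) (R ⧸ q) :=
    Groth.Agent.Lib.Helper7.FlatFS.isAdicComplete_quot q
  have hsurj : Function.Surjective (Ideal.Quotient.mk q) := Ideal.Quotient.mk_surjective
  have hker : RingHom.ker (Ideal.Quotient.mk q) ≤ P := by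
    rw [Ideal.mk_ker]; exact le_sup_right.trans hIP
  haveI : (P.map (Ideal.Quotient.mk q)).IsPrime := Ideal.map_isPrime_of_surjective hsurj hker
  have hJ : I.map (Ideal.Quotient.mk q) ≤ P.map (Ideal.Quotient.mk q) :=
    Ideal.map_mono (le_sup_left.trans hIP)
  have hne : P.map (Ideal.Quotient.mk q) ≠ maximalIdeal (R ⧸ q) := by
    intro h
    apply hPm
    have h1 : (P.map (Ideal.Quotient.mk q)).comap (Ideal.Quotient.mk q) = P := by
      rw [Ideal.comap_map_of_surjective _ hsurj, ← RingHom.ker_eq_comap_bot, sup_eq_left]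
      exact hker
    rw [← h1, h]
    haveI : ((maximalIdeal (R ⧸ q)).comap (Ideal.Quotient.mk q)).IsMaximal :=
      Ideal.comap_isMaximal_of_surjective _ hsurj
    exact IsLocalRing.eq_maximalIdeal inferInstance
  have h := subsingleton_H_top_of_domain_of_le_prime (I.map (Ideal.Quotient.mk q))
    (P.map (Ideal.Quotient.mk q)) hJ hne N n (le_of_eq hqn)
  rw [subsingleton_H_iff] at h
  obtain ⟨φ, -⟩ := Groth.Agent.Lib.Helper20.LCIndep2.exists_addEquiv (R ⧸ q) I N n
  exact @Equiv.subsingleton _ _ φ.symm.toEquiv h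

end vanishing

section nonvanishing

variable {R : Type u} [CommRing R] [IsLocalRing R] [IsNoetherianRing R]

/-- if `N` is killed by the prime `p`, `I + p` is `𝔪`-primary and `dim N = n`, then `H^n_I(N) ≠ 0`. -/
theorem nontrivial_HH_of_killed (I p : Ideal R) [hp : p.IsPrime]
    (hrad : (I ⊔ p).radical = maximalIdeal R) (n : ℕ)
    (N : Type u) [AddCommGroup N] [Module R N] [Module.Finite R N]
    (hN : ∀ a ∈ p, ∀ x : N, a • x = 0)
    (hdim : Module.supportDim R N = n) : Nontrivial (HH I (ModuleCat.of R N) n) := by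
  have hN' : Module.IsTorsionBySet R N (p : Set R) := fun x a => hN a.1 a.2 x
  letI := hN'.module
  have hsurj : Function.Surjective (Ideal.Quotient.mk p) := Ideal.Quotient.mk_surjective
  have hnt : Nontrivial (HH (maximalIdeal R) (ModuleCat.of R N) n) :=
    Groth.Agent.Lib.Helper20.LCNonVanish.nontrivial_top n N hdim
  obtain ⟨φ1, -⟩ := Groth.Agent.Lib.Helper20.LCIndep2.exists_addEquiv (R ⧸ p) I N n
  obtain ⟨φ2, -⟩ := Groth.Agent.Lib.Helper20.LCIndep2.exists_addEquiv (R ⧸ p) (maximalIdeal R) N n
  have hradeq : (I.map (algebraMap R (R ⧸ p))).radical =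
      ((maximalIdeal R).map (algebraMap R (R ⧸ p))).radical := by
    have hk1 : RingHom.ker (Ideal.Quotient.mk p) ≤ I ⊔ p := by
      rw [Ideal.mk_ker]; exact le_sup_right
    have hk2 : RingHom.ker (Ideal.Quotient.mk p) ≤ maximalIdeal R := by
      rw [Ideal.mk_ker]; exact le_maximalIdeal hp.ne_top
    have e1 : (I ⊔ p).map (Ideal.Quotient.mk p) = I.map (Ideal.Quotient.mk p) := by
      rw [Ideal.map_sup, Ideal.map_quotient_self, sup_bot_eq]
    show (I.map (Ideal.Quotient.mk p)).radical =
      ((maximalIdeal R).map (Ideal.Quotient.mk p)).radical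
    rw [← e1, ← Ideal.map_radical_of_surjective hsurj hk1, hrad,
      ← Ideal.map_radical_of_surjective hsurj hk2, (maximalIdeal.isMaximal R).isPrime.radical]
  have h2 : Nontrivial (HH ((maximalIdeal R).map (algebraMap R (R ⧸ p)))
      (ModuleCat.of (R ⧸ p) N) n) := @Equiv.nontrivial _ _ φ2.toEquiv hnt
  have h3 : Nontrivial (LocCoh.H ((maximalIdeal R).map (algebraMap R (R ⧸ p))) n N) :=
    (nontrivial_H_iff _ N n).2 h2
  let e := ((localCohomology.isoOfSameRadical hradeq n).app
    (ModuleCat.of (R ⧸ p) N)).toLinearEquiv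
  have h4 : Nontrivial (LocCoh.H (I.map (algebraMap R (R ⧸ p))) n N) :=
    @Equiv.nontrivial _ _ e.toEquiv h3
  have h5 : Nontrivial (HH (I.map (algebraMap R (R ⧸ p))) (ModuleCat.of (R ⧸ p) N) n) :=
    (nontrivial_H_iff _ N n).1 h4
  exact @Equiv.nontrivial _ _ φ1.symm.toEquiv h5

end nonvanishing

section main

variable {R : Type u} [CommRing R] [IsLocalRing R] [IsNoetherianRing R]
  [IsAdicComplete (maximalIdeal R) R]
  {E : Type u} [AddCommGroup E] [Module R E]
  (f : ResidueField R →ₗ[R] E) (hf : InjHull.IsInjectiveHull f)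

include hf in
/-- the associated primes of the Matlis dual of the top local cohomology `H^n_I(M)`. -/
theorem associatedPrimes_top_dual (I : Ideal R) (M : Type u) [AddCommGroup M] [Module R M]
    [Module.Finite R M] (n : ℕ) (hn : Module.supportDim R M = n) :
    associatedPrimes R (HH I (ModuleCat.of R M) n →ₗ[R] E) =
      {p | p.IsPrime ∧ Module.annihilator R M ≤ p ∧ ringKrullDim (R ⧸ p) = n ∧
        (I ⊔ p).radical = maximalIdeal R} := by
  classical
  have hannkill : ∀ a ∈ Module.annihilator R M, ∀ h : HH I (ModuleCat.of R M) n, a • h = 0 := by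
    intro a ha h
    have hz : a • 𝟙 (ModuleCat.of R M) = 0 := by
      apply ModuleCat.hom_ext
      apply LinearMap.ext
      intro m
      change a • m = 0
      exact Module.mem_annihilator.1 ha m
    rw [HH.smul_eq_map, hz, HH.map_zero']
  -- `⊆`
  have hsub : ∀ q ∈ associatedPrimes R (HH I (ModuleCat.of R M) n →ₗ[R] E),
      q.IsPrime ∧ Module.annihilator R M ≤ q ∧ ringKrullDim (R ⧸ q) = n ∧
        (I ⊔ q).radical = maximalIdeal R := by
    intro q hq
    obtain ⟨hqp, φ, hφ⟩ := isAssociatedPrime_iff.1 hq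
    haveI := hqp
    have hφ0 : φ ≠ 0 := by
      rintro rfl
      apply hqp.ne_top
      rw [hφ, eq_top_iff]
      intro r _
      rw [Submodule.mem_colon_singleton, smul_zero]
      exact Submodule.zero_mem _
    have hkill : ∀ a ∈ q, a • φ = 0 := by
      intro a ha
      have ha' : a ∈ (⊥ : Submodule R (HH I (ModuleCat.of R M) n →ₗ[R] E)).colon
          {φ} := hφ ▸ ha
      rw [Submodule.mem_colon_singleton] at ha'
      exact (Submodule.mem_bot R).1 ha'
    have hmemq : ∀ a : R, a • φ = 0 → a ∈ q := by
      intro a ha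
      rw [hφ, Submodule.mem_colon_singleton, ha]
      exact Submodule.zero_mem _
    have hannq : Module.annihilator R M ≤ q := by
      intro a ha
      apply hmemq
      apply LinearMap.ext
      intro h
      rw [LinearMap.smul_apply, ← map_smul, hannkill a ha h, map_zero, LinearMap.zero_apply]
    have hqM : (⟨q, hqp⟩ : PrimeSpectrum R) ∈ Module.support R M :=
      Module.mem_support_iff_of_finite.2 hannq
    have hqn : ringKrullDim (R ⧸ q) ≤ (n : WithBot ℕ∞) := by
      have h1 := ringKrullDim_quotient_le_supportDim hqM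
      dsimp only at h1
      rw [hn] at h1
      exact h1
    have hex : ∃ p ∈ Module.support R M, q ≤ p.asIdeal ∧
        ¬ ringKrullDim (R ⧸ p.asIdeal) < (n : WithBot ℕ∞) := by
      by_contra hcon
      push Not at hcon
      apply hφ0
      apply LinearMap.ext
      intro h
      have hh := mem_ideal_smul_top_of_forall_dim_lt I n q M (le_of_eq hn) hcon h
      rw [LinearMap.zero_apply]
      refine Submodule.smul_induction_on hh (fun a ha y _ => ?_) (fun y z hy hz => ?_)
      · rw [map_smul, ← LinearMap.smul_apply, hkill a ha, LinearMap.zero_apply]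
      · rw [map_add, hy, hz, add_zero]
    obtain ⟨p, hpM, hqp', hpn⟩ := hex
    have hpn' : ringKrullDim (R ⧸ p.asIdeal) = n :=
      le_antisymm (hn ▸ ringKrullDim_quotient_le_supportDim hpM) (not_lt.1 hpn)
    have hqeq : q = p.asIdeal := by
      rcases eq_or_lt_of_le hqp' with h | h
      · exact h
      · exfalso
        have h1 := ringKrullDim_quotient_add_one_le_of_lt (p := q) (q := p.asIdeal) h
        rw [hpn'] at h1
        exact lt_irrefl _ (withBot_lt_of_add_one_le _ n (h1.trans hqn))
    have hqdim : ringKrullDim (R ⧸ q) = n := by rw [hqeq]; exact hpn'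
    refine ⟨hqp, hannq, hqdim, ?_⟩
    by_contra hrad
    have hItop : I ≠ ⊤ := by
      rintro rfl
      apply hφ0
      apply LinearMap.ext
      intro h
      rw [HH.eq_zero_of_top h, map_zero, LinearMap.zero_apply]
    have hle : I ⊔ q ≤ maximalIdeal R :=
      sup_le (le_maximalIdeal hItop) (le_maximalIdeal hqp.ne_top)
    obtain ⟨P, hPprime, hIP, hPm⟩ :
        ∃ P : Ideal R, P.IsPrime ∧ I ⊔ q ≤ P ∧ P ≠ maximalIdeal R := by
      by_contra hcon
      apply hrad
      apply le_antisymm
      · exact (maximalIdeal.isMaximal R).isPrime.radical_le_iff.2 hle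
      · rw [Ideal.radical_eq_sInf]
        refine le_sInf fun P hP => ?_
        have hPeq : P = maximalIdeal R := by
          by_contra hPm
          exact hcon ⟨P, hP.2, hP.1, hPm⟩
        rw [hPeq]
    haveI := hPprime
    apply hφ0
    apply LinearMap.ext
    intro h
    have hh : h ∈ q • (⊤ : Submodule R (HH I (ModuleCat.of R M) n)) :=
      mem_ideal_smul_top_of_forall_quotient I n q M (le_of_eq hn)
        (fun N _ _ g hg hNq => subsingleton_HH_of_killed I q P n hqdim hIP hPm N hNq) h
    rw [LinearMap.zero_apply]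
    refine Submodule.smul_induction_on hh (fun a ha y _ => ?_) (fun y z hy hz => ?_)
    · rw [map_smul, ← LinearMap.smul_apply, hkill a ha, LinearMap.zero_apply]
    · rw [map_add, hy, hz, add_zero]
  -- `⊇`
  have hsup : ∀ p : Ideal R, p.IsPrime → Module.annihilator R M ≤ p →
      ringKrullDim (R ⧸ p) = n → (I ⊔ p).radical = maximalIdeal R →
      p ∈ associatedPrimes R (HH I (ModuleCat.of R M) n →ₗ[R] E) := by
    intro p hpp hpann hpn hprad
    haveI := hpp
    have hpM : (⟨p, hpp⟩ : PrimeSpectrum R) ∈ Module.support R M :=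
      Module.mem_support_iff_of_finite.2 hpann
    have hpN : (⟨p, hpp⟩ : PrimeSpectrum R) ∈
        Module.support R (M ⧸ p • (⊤ : Submodule R M)) := by
      rw [Module.support_quotient]
      refine ⟨hpM, ?_⟩
      rw [PrimeSpectrum.mem_zeroLocus]
    have hN : Module.supportDim R (M ⧸ p • (⊤ : Submodule R M)) = n := by
      refine le_antisymm ((Module.supportDim_le_of_surjective _
        (Submodule.mkQ_surjective _)).trans (le_of_eq hn)) ?_
      have h6 := ringKrullDim_quotient_le_supportDim hpN
      dsimp only at h6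
      rw [← hpn]
      exact h6
    set P : Submodule R M := p • ⊤ with hP
    have hkillN : ∀ a ∈ p, ∀ x : M ⧸ P, a • x = 0 := by
      intro a ha x
      obtain ⟨m, rfl⟩ := Submodule.mkQ_surjective _ x
      rw [← map_smul, Submodule.mkQ_apply, Submodule.Quotient.mk_eq_zero]
      exact Submodule.smul_mem_smul ha Submodule.mem_top
    haveI : Nontrivial (HH I (ModuleCat.of R (M ⧸ P)) n) :=
      nontrivial_HH_of_killed I p hprad n (M ⧸ P) hkillN hN
    have hS := sesOf_shortExact P.subtype P.mkQ (LinearMap.exact_subtype_mkQ P)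
      (Submodule.injective_subtype P) (Submodule.mkQ_surjective P)
    have hsurj : Function.Surjective (HH.map I (ModuleCat.ofHom P.mkQ) n) :=
      HH.map_g_surjective I hS n
        (HH.subsingleton_of_supportDim_lt I _ (n + 1) (lt_of_le_of_lt
          ((Module.supportDim_le_of_injective P.subtype (Submodule.injective_subtype P)).trans
            (le_of_eq hn)) (by exact_mod_cast Nat.lt_succ_self n)))
    obtain ⟨c, hc⟩ := exists_ne (0 : HH I (ModuleCat.of R (M ⧸ P)) n)
    obtain ⟨χ, hχ⟩ := Groth.Agent.Lib.Helper1.Matlis.exists_hom_apply_ne_zero f hf _ c hc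
    obtain ⟨h₀, rfl⟩ := hsurj c
    let φ : HH I (ModuleCat.of R M) n →ₗ[R] E :=
      χ ∘ₗ HH.map I (ModuleCat.ofHom P.mkQ) n
    have hφ0 : φ ≠ 0 := fun h0 => hχ (LinearMap.congr_fun h0 h₀)
    have hzero : ∀ a ∈ p, (a • 𝟙 (ModuleCat.of R (M ⧸ P))) = 0 := by
      intro a ha
      apply ModuleCat.hom_ext
      apply LinearMap.ext
      intro y
      change a • y = 0
      exact hkillN a ha y
    have hkill : ∀ a ∈ p, a • φ = 0 := by
      intro a ha
      apply LinearMap.ext
      intro h
      change a • χ (HH.map I (ModuleCat.ofHom P.mkQ) n h) = 0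
      rw [← map_smul, HH.smul_eq_map, hzero a ha, HH.map_zero', map_zero]
    let W : Submodule R (HH I (ModuleCat.of R M) n →ₗ[R] E) := Submodule.span R {φ}
    haveI : Nontrivial W :=
      ⟨⟨⟨φ, Submodule.mem_span_singleton_self φ⟩, 0, fun h => hφ0 (congrArg Subtype.val h)⟩⟩
    haveI : Module.Finite R (HH I (ModuleCat.of R M) n →ₗ[R] E) := by
      haveI : IsArtinian R (HH I (ModuleCat.of R M) n) :=
        HH.isArtinian_aux I n M (Or.inr (le_of_eq hn))
      exact (Groth.Agent.S0317.result R E f hf _).1
    obtain ⟨q, hq⟩ := associatedPrimes.nonempty R W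
    have hqT : q ∈ associatedPrimes R (HH I (ModuleCat.of R M) n →ₗ[R] E) :=
      associatedPrimes.subset_of_injective (Submodule.injective_subtype W) hq
    obtain ⟨-, -, hqn, -⟩ := hsub q hqT
    obtain ⟨hqp, w, hw⟩ := isAssociatedPrime_iff.1 hq
    have hpq : p ≤ q := by
      intro a ha
      rw [hw, Submodule.mem_colon_singleton, Submodule.mem_bot]
      obtain ⟨r, hr⟩ := Submodule.mem_span_singleton.1 w.2
      apply Subtype.ext
      rw [Submodule.coe_smul, ← hr, smul_comm, hkill a ha, smul_zero]
      rfl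
    rcases eq_or_lt_of_le hpq with h | h
    · rw [h]; exact hqT
    · exfalso
      haveI := hqp
      have h1 := ringKrullDim_quotient_add_one_le_of_lt (p := p) (q := q) h
      rw [hqn, hpn] at h1
      exact lt_irrefl _ (withBot_lt_of_add_one_le _ n h1)
  ext q
  exact ⟨fun h => hsub q h, fun h => hsup q h.1 h.2.1 h.2.2.1 h.2.2.2⟩

end main

end Groth.Agent.Lib.Helper4.MatlisTop
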