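import Mathlib
import Groth.Agent.Lib.Helper4.ExtFlat
import Groth.Agent.Lib.Helper4.LCBridge
import Groth.Agent.Lib.Helper20.LCFlat
import Groth.Agent.Lib.Helper22.DimFlat3
import Groth.Agent.Lib.Helper1.InjHullLib
import Groth.Agent.Lib.Helper7.ComplLim
import Groth.Agent.S3262
import Groth.Agent.S0317
import Groth.Agent.S17759

/-!
# Cofiniteness of the top local cohomology module (helper4)

* `ext_smul_eq_zero_left/right`: an element killing one of the variables kills `Ext`.
* `isArtinian_ext`: `Ext^r(N, A)` is Artinian for `N` finite, `A` Artinian (Noetherian ring).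
* `isFiniteLength_of_isArtinian_of_pow_smul`: an Artinian module over a local ring killed by a
  power of the maximal ideal has finite length.
* `exists_kill_complete`: over a complete local ring the annihilator `𝔞` of `H^n_I(M)`
  (`n = dim M`) satisfies `√(I + 𝔞) ⊇ m`.
* `isFiniteLength_ext`: `Ext^i(R/I, H^n_I(M))` has finite length (`n = dim M`, `R` local).
-/

set_option autoImplicit false
set_option linter.style.haveILetI false
set_option linter.unusedSectionVars false
set_option linter.unusedVariables false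
set_option maxHeartbeats 800000

open CategoryTheory Limits Opposite Abelian TensorProduct IsLocalRing

universe u

namespace Groth.Agent.Lib.Helper4.Cofin

open Groth.Agent.Lib.Helper4.LC Groth.Agent.Lib.Helper4.LCBridge Groth.Agent.Lib.Helper4.ExtFlat

section general

variable {R : Type u} [CommRing R]

theorem ext_smul_eq_zero_left {X Y : ModuleCat.{u} R} (a : R) (ha : ∀ x : X, a • x = 0) (r : ℕ)
    (e : Ext.{u} X Y r) : a • e = 0 := by
  have h1 : (a • 𝟙 X : X ⟶ X) = 0 := by
    ext x
    exact ha x
  have h2 : a • e = (Ext.mk₀ (a • 𝟙 X)).comp e (zero_add r) := by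
    rw [Ext.mk₀_smul, Ext.smul_comp, Ext.mk₀_id_comp]
  rw [h2, h1, Ext.mk₀_zero, Ext.zero_comp]

theorem ext_smul_eq_zero_right {X Y : ModuleCat.{u} R} (a : R) (ha : ∀ y : Y, a • y = 0) (r : ℕ)
    (e : Ext.{u} X Y r) : a • e = 0 := by
  have h1 : (a • 𝟙 Y : Y ⟶ Y) = 0 := by
    ext y
    exact ha y
  rw [Ext.smul_eq_comp_mk₀, h1, Ext.mk₀_zero, Ext.comp_zero]

theorem isArtinian_hom (N A : Type u) [AddCommGroup N] [Module R N] [Module.Finite R N]
    [AddCommGroup A] [Module R A] [IsArtinian R A] : IsArtinian R (N →ₗ[R] A) := by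
  obtain ⟨n, p, hp⟩ := Module.Finite.exists_fin' R N
  have hinj : Function.Injective (LinearMap.lcomp R A p) := by
    intro f g h
    ext x
    obtain ⟨y, rfl⟩ := hp x
    exact LinearMap.congr_fun h y
  haveI : IsArtinian R ((Fin n → R) →ₗ[R] A) :=
    isArtinian_of_linearEquiv ((Pi.basisFun R (Fin n)).constr R)
  exact isArtinian_of_injective (LinearMap.lcomp R A p) hinj

section artin

variable [IsNoetherianRing R] (A : Type u) [AddCommGroup A] [Module R A] [IsArtinian R A]

/-- the statement in degree `r`. -/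
def Q (r : ℕ) : Prop :=
  ∀ (N : Type u) [AddCommGroup N] [Module R N] [Module.Finite R N],
    IsArtinian R (Ext.{u} (ModuleCat.of R N) (ModuleCat.of R A) r)

theorem Q_zero : Q (R := R) A 0 := by
  intro N _ _ _
  haveI := isArtinian_hom (R := R) N A
  exact isArtinian_of_linearEquiv (ext0Equiv (R := R) N A)

theorem Q_one : Q (R := R) A 1 := by
  intro N _ _ _
  obtain ⟨n, p, hp⟩ := Module.Finite.exists_fin' R N
  have hex := LinearMap.exact_subtype_ker_map p
  have hinj := Submodule.injective_subtype (LinearMap.ker p)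
  obtain ⟨v, hv, -⟩ := exists_coker_presentation (LinearMap.ker p).subtype p hex hinj hp A
  haveI := isArtinian_hom (R := R) (LinearMap.ker p) A
  exact isArtinian_of_surjective _ v hv

theorem Q_succ (r : ℕ) (hr : 1 ≤ r) (h : Q (R := R) A r) : Q (R := R) A (r + 1) := by
  intro N _ _ _
  obtain ⟨n, p, hp⟩ := Module.Finite.exists_fin' R N
  have hex := LinearMap.exact_subtype_ker_map p
  have hinj := Submodule.injective_subtype (LinearMap.ker p)
  have hT := sesOf_shortExact (LinearMap.ker p).subtype p hex hinj hp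
  haveI : Projective (sesOf (LinearMap.ker p).subtype p hex).X₂ :=
    (IsProjective.iff_projective (R := R) (Fin n → R)).1 inferInstance
  obtain ⟨d⟩ := nonempty_deltaEquiv hT (ModuleCat.of R A) r hr
  have d' : Ext.{u} (ModuleCat.of R (LinearMap.ker p)) (ModuleCat.of R A) r ≃ₗ[R]
      Ext.{u} (ModuleCat.of R N) (ModuleCat.of R A) (r + 1) := d
  haveI := h (LinearMap.ker p)
  exact isArtinian_of_linearEquiv d'

theorem isArtinian_ext : ∀ r, Q (R := R) A r
  | 0 => Q_zero A
  | 1 => Q_one A
  | (r + 2) => Q_succ A (r + 1) (by omega) (isArtinian_ext (r + 1))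

end artin

section fl

variable [IsLocalRing R]

theorem isNoetherian_of_isArtinian_of_smul (X : Type u) [AddCommGroup X] [Module R X]
    [IsArtinian R X] (h : ∀ a ∈ maximalIdeal R, ∀ x : X, a • x = 0) : IsNoetherian R X := by
  have ht : Module.IsTorsionBySet R X (maximalIdeal R : Set R) := fun x a => h a.1 a.2 x
  letI : Field (R ⧸ maximalIdeal R) := Ideal.Quotient.field (maximalIdeal R)
  letI := ht.module
  haveI : IsSemisimpleModule R X :=
    (ht.semilinearMap.isSemisimpleModule_iff_of_bijective Function.bijective_id).2 inferInstance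
  have h4 := (IsSemisimpleModule.finite_tfae (R := R) (M := X)).out 1 2
  exact h4.2 inferInstance

theorem isNoetherian_of_isArtinian_of_pow_smul : ∀ (k : ℕ) (X : Type u) [AddCommGroup X]
    [Module R X] [IsArtinian R X], (∀ a ∈ maximalIdeal R ^ k, ∀ x : X, a • x = 0) →
    IsNoetherian R X := by
  intro k
  induction k with
  | zero =>
    intro X _ _ _ h
    haveI : Subsingleton X := ⟨fun x y => by
      have hx := h 1 (by rw [pow_zero, Ideal.one_eq_top]; exact Submodule.mem_top) x
      have hy := h 1 (by rw [pow_zero, Ideal.one_eq_top]; exact Submodule.mem_top) y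
      rw [one_smul] at hx hy
      rw [hx, hy]⟩
    infer_instance
  | succ k ih =>
    intro X _ _ _ h
    rw [isNoetherian_iff_submodule_quotient (maximalIdeal R • (⊤ : Submodule R X))]
    refine ⟨ih _ ?_, isNoetherian_of_isArtinian_of_smul _ ?_⟩
    · intro a ha y
      apply Subtype.ext
      rw [Submodule.coe_smul, Submodule.coe_zero]
      refine Submodule.smul_induction_on (p := fun z => a • z = 0) y.2 (fun b hb x _ => ?_)
        (fun x z hx hz => ?_)
      · rw [smul_smul]
        exact h (a * b) (by rw [pow_succ]; exact Ideal.mul_mem_mul ha hb) x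
      · rw [smul_add, hx, hz, add_zero]
    · intro a ha q
      obtain ⟨x, rfl⟩ := Submodule.Quotient.mk_surjective _ q
      rw [← Submodule.Quotient.mk_smul, Submodule.Quotient.mk_eq_zero]
      exact Submodule.smul_mem_smul ha Submodule.mem_top

theorem isFiniteLength_of_isArtinian_of_pow_smul (k : ℕ) (X : Type u) [AddCommGroup X]
    [Module R X] [IsArtinian R X] (h : ∀ a ∈ maximalIdeal R ^ k, ∀ x : X, a • x = 0) :
    IsFiniteLength R X :=
  isFiniteLength_iff_isNoetherian_isArtinian.2
    ⟨isNoetherian_of_isArtinian_of_pow_smul k X h, inferInstance⟩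

end fl

end general

section main

variable (R : Type u) [CommRing R] [IsNoetherianRing R] [IsLocalRing R]

/-- over a complete local ring, the annihilator `𝔞` of the top local cohomology satisfies
`m ⊆ √(I + 𝔞)`. -/
theorem exists_kill_complete [IsAdicComplete (maximalIdeal R) R] (I : Ideal R) (M : Type u)
    [AddCommGroup M] [Module R M] [Module.Finite R M] (n : ℕ)
    (hn : Module.supportDim R M = n) :
    ∃ 𝔞 : Ideal R, (∀ a ∈ 𝔞, ∀ x : LocCoh.H I n M, a • x = 0) ∧
      maximalIdeal R ≤ (I ⊔ 𝔞).radical := by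
  haveI hMnt : Nontrivial M := (Module.supportDim_ne_bot_iff_nontrivial R M).1
    (by rw [hn]; exact WithBot.natCast_ne_bot n)
  haveI : IsArtinian R (LocCoh.H I n M) := Groth.Agent.S3262.result R I M n hn
  obtain ⟨E, _, _, f, hf⟩ :=
    Groth.Agent.Lib.Helper1.InjHullLib.exists_injective_hull R (ResidueField R)
  obtain ⟨hfin, hbij⟩ := Groth.Agent.S0317.result R E f hf (LocCoh.H I n M)
  haveI := hfin
  have hass := Groth.Agent.S17759.result R E f hf I M n hn
  refine ⟨Module.annihilator R (LocCoh.H I n M →ₗ[R] E), ?_, ?_⟩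
  · intro a ha x
    have h1 : ∀ φ : LocCoh.H I n M →ₗ[R] E, φ (a • x) = 0 := fun φ => by
      have h2 : a • φ = 0 := Module.mem_annihilator.1 ha φ
      rw [map_smul, ← LinearMap.smul_apply, h2, LinearMap.zero_apply]
    apply hbij.1
    ext φ
    show φ (a • x) = φ 0
    rw [h1 φ, map_zero]
  · rw [Ideal.radical_eq_sInf]
    refine le_sInf ?_
    rintro q ⟨hq, hqp⟩
    haveI := hqp
    have h𝔞q : Module.annihilator R (LocCoh.H I n M →ₗ[R] E) ≤ q := le_trans le_sup_right hq
    obtain ⟨p, hpmin, hpq⟩ := Ideal.exists_minimalPrimes_le h𝔞q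
    have hpass : p ∈ associatedPrimes R (LocCoh.H I n M →ₗ[R] E) :=
      Module.associatedPrimes.minimalPrimes_annihilator_subset_associatedPrimes R _ hpmin
    rw [hass] at hpass
    obtain ⟨_, _, _, hrad⟩ := hpass
    rw [← hrad]
    exact (Ideal.IsPrime.radical_le_iff hqp).2 (sup_le (le_trans le_sup_left hq) hpq)

/-- the main statement, given a complete flat local extension `B` with `m_R B = m_B`. -/
theorem isFiniteLength_ext_aux (B : Type u) [CommRing B] [IsNoetherianRing B] [IsLocalRing B]
    [IsAdicComplete (maximalIdeal B) B] [Algebra R B] [Module.Flat R B]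
    [IsLocalHom (algebraMap R B)]
    (hm : (maximalIdeal R).map (algebraMap R B) = maximalIdeal B)
    (I : Ideal R) (M : Type u) [AddCommGroup M] [Module R M] [Module.Finite R M] (n : ℕ)
    (hn : Module.supportDim R M = n) (i : ℕ) :
    IsFiniteLength R (Ext.{u} (ModuleCat.of R (R ⧸ I)) (ModuleCat.of R (LocCoh.H I n M)) i) := by
  haveI : Module.FaithfullyFlat R B := Module.FaithfullyFlat.of_flat_of_isLocalHom
  haveI hMnt : Nontrivial M := (Module.supportDim_ne_bot_iff_nontrivial R M).1
    (by rw [hn]; exact WithBot.natCast_ne_bot n)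
  haveI : IsArtinian R (LocCoh.H I n M) := Groth.Agent.S3262.result R I M n hn
  have hdimB : Module.supportDim B (B ⊗[R] M) = n := by
    have h1 := Groth.Agent.Lib.Helper22.DimFlat.supportDim_tensor_eq R B M B
    have h2 : Module.supportDim B
        (B ⧸ ((maximalIdeal R).map (algebraMap R B) • (⊤ : Submodule B B))) = 0 := by
      rw [Module.supportDim_eq_of_equiv (Submodule.quotEquivOfEq _ (maximalIdeal B)
        (by rw [smul_eq_mul, Ideal.mul_top, hm]))]
      rw [Module.supportDim_quotient_eq_ringKrullDim]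
      exact ringKrullDim_eq_zero_of_field (ResidueField B)
    rw [h1, h2, hn, add_zero]
  obtain ⟨𝔞, h𝔞kill, h𝔞rad⟩ :=
    exists_kill_complete B (I.map (algebraMap R B)) (B ⊗[R] M) n hdimB
  obtain ⟨e3⟩ := Groth.Agent.Lib.Helper20.LCFlat.nonempty_baseChange_equiv B I n M
  let eA : B ⊗[R] (LocCoh.H I n M) ≃ₗ[B] LocCoh.H (I.map (algebraMap R B)) n (B ⊗[R] M) :=
    ((LinearEquiv.baseChange R B _ _ (lcEquiv I (ModuleCat.of R M) n)).trans e3).trans
      (lcEquiv (I.map (algebraMap R B)) (ModuleCat.of B (B ⊗[R] M)) n).symm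
  have hkillBA : ∀ a ∈ 𝔞, ∀ y : B ⊗[R] (LocCoh.H I n M), a • y = 0 := by
    intro a ha y
    apply eA.injective
    rw [map_smul, map_zero]
    exact h𝔞kill a ha _
  have hkillQ : ∀ a ∈ I.map (algebraMap R B), ∀ y : B ⊗[R] (R ⧸ I), a • y = 0 := by
    have hle : I.map (algebraMap R B) ≤ Module.annihilator B (B ⊗[R] (R ⧸ I)) := by
      rw [Ideal.map_le_iff_le_comap]
      intro a ha
      rw [Ideal.mem_comap, Module.mem_annihilator]
      intro y
      induction y using TensorProduct.induction_on with
      | zero => rw [smul_zero]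
      | tmul b q =>
        have hq : a • q = 0 := by
          rw [Algebra.smul_def, Ideal.Quotient.algebraMap_eq,
            Ideal.Quotient.eq_zero_iff_mem.2 ha, zero_mul]
        rw [TensorProduct.smul_tmul', algebraMap_smul, TensorProduct.smul_tmul, hq,
          TensorProduct.tmul_zero]
      | add x y hx hy => rw [smul_add, hx, hy, add_zero]
    intro a ha y
    exact Module.mem_annihilator.1 (hle ha) y
  obtain ⟨k, hk⟩ := Ideal.exists_pow_le_of_le_radical_of_fg h𝔞rad (IsNoetherian.noetherian _)
  have hkillY : ∀ a ∈ maximalIdeal B ^ k,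
      ∀ y : Ext.{u} (ModuleCat.of B (B ⊗[R] (R ⧸ I)))
        (ModuleCat.of B (B ⊗[R] (LocCoh.H I n M))) i, a • y = 0 := by
    intro a ha y
    obtain ⟨b, hb, c, hc, rfl⟩ := Submodule.mem_sup.1 (hk ha)
    rw [add_smul, ext_smul_eq_zero_left b (hkillQ b hb) i y,
      ext_smul_eq_zero_right c (hkillBA c hc) i y, add_zero]
  obtain ⟨eX⟩ := Groth.Agent.Lib.Helper4.ExtFlat.main R B (LocCoh.H I n M) i (R ⧸ I)
  have hkillX : ∀ a ∈ maximalIdeal R ^ k,
      ∀ x : Ext.{u} (ModuleCat.of R (R ⧸ I)) (ModuleCat.of R (LocCoh.H I n M)) i,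
        a • x = 0 := by
    intro a ha x
    have hinj := Module.FaithfullyFlat.tensorProduct_mk_injective (A := R) (B := B)
      (Ext.{u} (ModuleCat.of R (R ⧸ I)) (ModuleCat.of R (LocCoh.H I n M)) i)
    apply hinj
    rw [map_zero, map_smul, TensorProduct.mk_apply]
    have h1 : algebraMap R B a ∈ maximalIdeal B ^ k := by
      rw [← hm, ← Ideal.map_pow]
      exact Ideal.mem_map_of_mem _ ha
    have h2 := hkillY _ h1 (eX ((1 : B) ⊗ₜ[R] x))
    rw [← map_smul, LinearEquiv.map_eq_zero_iff, algebraMap_smul] at h2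
    exact h2
  haveI : IsArtinian R (Ext.{u} (ModuleCat.of R (R ⧸ I)) (ModuleCat.of R (LocCoh.H I n M)) i) :=
    isArtinian_ext (LocCoh.H I n M) i (R ⧸ I)
  exact isFiniteLength_of_isArtinian_of_pow_smul k _ hkillX

/-- **Cofiniteness of the top local cohomology**: `Ext^i(R/I, H^n_I(M))` has finite length for
`n = dim M`. -/
theorem isFiniteLength_ext (I : Ideal R) (M : Type u) [AddCommGroup M] [Module R M]
    [Module.Finite R M] (n : ℕ) (hn : Module.supportDim R M = n) (i : ℕ) :
    IsFiniteLength R (Ext.{u} (ModuleCat.of R (R ⧸ I)) (ModuleCat.of R (LocCoh.H I n M)) i) := by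
  haveI := Groth.Agent.Lib.Helper7.ComplLim.isNoetherianRing_compl R
  exact isFiniteLength_ext_aux R (AdicCompletion (maximalIdeal R) R)
    AdicCompletion.maximalIdeal_eq_map.symm I M n hn i

end main

end Groth.Agent.Lib.Helper4.Cofin
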