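import Mathlib

set_option autoImplicit false
set_option linter.style.haveILetI false
set_option linter.unusedSectionVars false
set_option linter.unusedVariables false
set_option linter.unusedSimpArgs false
set_option maxHeartbeats 1600000
set_option maxSynthPendingDepth 3

universe u

/-!
# Relations with a unit coefficient in one-dimensional Noetherian local rings

For a one-dimensional Noetherian local ring `R` and nonzerodivisors `a ∈ 𝔪`, `b`, the monomials
`a^(n-j) b^j` (`0 ≤ j ≤ n`) satisfy, for suitable `n`, a linear relation with one unit coefficient.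
The proof bounds the number of generators of an ideal of finite colength by `length (R/aR)`.
-/

namespace Groth.Agent.Lib.Helper4.OneDimRel

open IsLocalRing
open scoped Pointwise

variable {R : Type u} [CommRing R]

/-- A strict inclusion of ideals drops the length of the quotient by at least one. -/
theorem length_quot_succ_le {P P' : Ideal R} (h : P ≤ P') {x : R} (hx : x ∈ P') (hx' : x ∉ P) :
    Module.length R (R ⧸ P') + 1 ≤ Module.length R (R ⧸ P) := by
  have hex := Module.length_eq_add_of_exact (LinearMap.ker (Submodule.factor h)).subtype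
    (Submodule.factor h) (Submodule.subtype_injective _) (Submodule.factor_surjective h)
    (LinearMap.exact_subtype_ker_map _)
  have hnt : Nontrivial (LinearMap.ker (Submodule.factor h)) := by
    refine ⟨⟨⟨Submodule.mkQ P x, ?_⟩, 0, ?_⟩⟩
    · rw [LinearMap.mem_ker, Submodule.factor_mk]
      exact (Submodule.Quotient.mk_eq_zero P').mpr hx
    · intro h0
      have h1 := congrArg Subtype.val h0
      exact hx' ((Submodule.Quotient.mk_eq_zero P).mp h1)
  have h1 : (1 : ℕ∞) ≤ Module.length R (LinearMap.ker (Submodule.factor h)) :=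
    Order.one_le_iff_pos.mpr (Module.length_pos_iff.mpr hnt)
  rw [hex, add_comm]
  gcongr

theorem length_quot_le {P P' : Ideal R} (h : P ≤ P') :
    Module.length R (R ⧸ P') ≤ Module.length R (R ⧸ P) :=
  Module.length_le_of_surjective (Submodule.factor h) (Submodule.factor_surjective h)

/-- Pigeonhole: among `e + 1` elements of an ideal `J` of finite colength, where
`e = length (R/aR)`, one lies in `aJ` plus the span of the previous ones. -/
theorem exists_mem_of_length {a : R} (ha : a ∈ nonZeroDivisors R) (J : Ideal R)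
    (hJ : Module.length R (R ⧸ J) ≠ ⊤) (e : ℕ)
    (he : Module.length R (R ⧸ Ideal.span {a}) = e)
    (x : ℕ → R) (hx : ∀ i, i ≤ e → x i ∈ J) :
    ∃ i, i ≤ e ∧ x i ∈ a • J ⊔ Ideal.span (x '' Set.Iio i) := by
  by_contra hcon
  push_neg at hcon
  let P : ℕ → Ideal R := fun i => a • J ⊔ Ideal.span (x '' Set.Iio i)
  have hPle : ∀ i, i ≤ e + 1 → P i ≤ J := by
    intro i hi
    refine sup_le ?_ (Ideal.span_le.mpr ?_)
    · intro y hy
      obtain ⟨z, hz, rfl⟩ := (Submodule.mem_smul_pointwise_iff_exists y a J).mp hy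
      exact J.mul_mem_left a hz
    · rintro _ ⟨j, hj, rfl⟩
      have hj' : j < i := hj
      exact hx j (by omega)
  have hchain : ∀ N, N ≤ e + 1 →
      Module.length R (R ⧸ P N) + (N : ℕ∞) ≤ Module.length R (R ⧸ P 0) := by
    intro N
    induction N with
    | zero => intro _; simp
    | succ N ih =>
      intro hN
      have hle : P N ≤ P (N + 1) :=
        sup_le_sup_left (Ideal.span_mono (Set.image_mono (Set.Iio_subset_Iio (Nat.le_succ N)))) _
      have hmem : x N ∈ P (N + 1) :=
        Ideal.mem_sup_right (Ideal.subset_span ⟨N, Set.mem_Iio.mpr (Nat.lt_succ_self N), rfl⟩)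
      have hnot : x N ∉ P N := hcon N (by omega)
      have h1 := length_quot_succ_le hle hmem hnot
      calc Module.length R (R ⧸ P (N + 1)) + ((N + 1 : ℕ) : ℕ∞)
          = (Module.length R (R ⧸ P (N + 1)) + 1) + (N : ℕ∞) := by
            push_cast; rw [add_assoc, add_comm (1 : ℕ∞) (N : ℕ∞)]
        _ ≤ Module.length R (R ⧸ P N) + (N : ℕ∞) := by gcongr
        _ ≤ _ := ih (by omega)
  have hP0 : P 0 = a • J := by
    show a • J ⊔ Ideal.span (x '' Set.Iio 0) = a • J
    simp
  have hlen : Module.length R (R ⧸ a • J) = Module.length R (R ⧸ J) + (e : ℕ∞) := by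
    rw [← he]
    exact Module.length_eq_add_of_exact (Ideal.mulQuot a J) (Ideal.quotOfMul a J)
      (Ideal.mulQuot_injective J ha) (Ideal.quotOfMul_surjective J)
      (Ideal.exact_mulQuot_quotOfMul J)
  have h2 := hchain (e + 1) le_rfl
  rw [hP0, hlen] at h2
  have h3 : Module.length R (R ⧸ J) ≤ Module.length R (R ⧸ P (e + 1)) :=
    length_quot_le (hPle _ le_rfl)
  have h4 : Module.length R (R ⧸ J) + ((e + 1 : ℕ) : ℕ∞) ≤ Module.length R (R ⧸ J) + (e : ℕ∞) :=
    le_trans (by gcongr) h2
  have hl := ENat.coe_toNat hJ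
  rw [← hl] at h4
  have h5 : ((Module.length R (R ⧸ J)).toNat + (e + 1) : ℕ) ≤ (Module.length R (R ⧸ J)).toNat + e := by
    exact_mod_cast h4
  omega

variable [IsLocalRing R] [IsNoetherianRing R]

theorem krullDimLE_one (hdim : ringKrullDim R = 1) : Ring.KrullDimLE 1 R :=
  (Order.krullDimLE_iff 1 (PrimeSpectrum R)).mpr (by
    show ringKrullDim R ≤ ((1 : ℕ) : WithBot ℕ∞)
    rw [hdim]; exact le_of_eq Nat.cast_one.symm)

/-- A power of the maximal ideal lies in the ideal generated by a nonzerodivisor. -/
theorem exists_pow_le_span (hdim : ringKrullDim R = 1) {s : R} (hs : s ∈ nonZeroDivisors R) :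
    ∃ M, maximalIdeal R ^ M ≤ Ideal.span {s} := by
  haveI := krullDimLE_one hdim
  haveI : IsArtinianRing (R ⧸ Ideal.span {s}) := by
    rw [isArtinianRing_iff_krullDimLE_zero, Ring.KrullDimLE, Order.krullDimLE_iff,
      ← ENat.WithBot.add_le_add_one_right_iff, Nat.cast_zero, zero_add]
    exact (ringKrullDim_quotient_succ_le_of_nonZeroDivisor hs).trans
      (Order.KrullDimLE.krullDim_le)
  exact exists_maximalIdeal_pow_le_of_isArtinianRing_quotient _

/-- The relation with a unit coefficient. -/
theorem exists_rel (hdim : ringKrullDim R = 1) {a : R} (b : R) (ha : a ∈ nonZeroDivisors R)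
    (ham : a ∈ maximalIdeal R) :
    ∃ (n : ℕ) (c : ℕ → R) (i : ℕ), 0 < n ∧ i ≤ n ∧ IsUnit (c i) ∧
      ∑ j ∈ Finset.range (n + 1), c j * (a ^ (n - j) * b ^ j) = 0 := by
  classical
  haveI := krullDimLE_one hdim
  have hfin : ∀ s : R, s ∈ nonZeroDivisors R → Module.length R (R ⧸ Ideal.span {s}) ≠ ⊤ :=
    fun s hs => Module.length_ne_top_iff.mpr (isFiniteLength_quotient_span_singleton R hs)
  set e : ℕ := (Module.length R (R ⧸ Ideal.span {a})).toNat with he
  have hee : Module.length R (R ⧸ Ideal.span {a}) = (e : ℕ∞) := (ENat.coe_toNat (hfin a ha)).symm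
  set n : ℕ := e + 1 with hn
  let x : ℕ → R := fun j => a ^ (n - j) * b ^ j
  let J : Ideal R := Ideal.span (x '' Set.Iio (n + 1))
  have hxJ : ∀ i, i < n + 1 → x i ∈ J := fun i hi => Ideal.subset_span ⟨i, hi, rfl⟩
  have hJ : Module.length R (R ⧸ J) ≠ ⊤ := by
    have h0 : x 0 = a ^ n := by simp [x]
    have hle : Ideal.span {a ^ n} ≤ J := by
      rw [Ideal.span_singleton_le_iff_mem, ← h0]
      exact hxJ 0 (by omega)
    exact ne_top_of_le_ne_top (hfin _ (pow_mem ha n)) (length_quot_le hle)
  obtain ⟨i, hie, hmem⟩ := exists_mem_of_length ha J hJ e hee x (fun i hi => hxJ i (by omega))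
  obtain ⟨y, hy, z, hz, hyz⟩ := Submodule.mem_sup.mp hmem
  obtain ⟨w, hw, rfl⟩ := (Submodule.mem_smul_pointwise_iff_exists y a J).mp hy
  have hw' : w ∈ Submodule.span R (x '' Set.Iio (n + 1)) := hw
  have hz' : z ∈ Submodule.span R (x '' Set.Iio i) := hz
  obtain ⟨d, hd, hdw⟩ := (Finsupp.mem_span_image_iff_linearCombination R).mp hw'
  obtain ⟨l, hl, hlz⟩ := (Finsupp.mem_span_image_iff_linearCombination R).mp hz'
  have hdsupp : d.support ⊆ Finset.range (n + 1) := by
    intro j hj
    have := (Finsupp.mem_supported R d).mp hd (Finset.mem_coe.mpr hj)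
    exact Finset.mem_range.mpr this
  have hlsupp : l.support ⊆ Finset.range (n + 1) := by
    intro j hj
    have h1 : j < i := (Finsupp.mem_supported R l).mp hl (Finset.mem_coe.mpr hj)
    exact Finset.mem_range.mpr (by omega)
  have hli : l i = 0 := by
    by_contra h0
    have h1 : i < i := (Finsupp.mem_supported R l).mp hl
      (Finset.mem_coe.mpr (Finsupp.mem_support_iff.mpr h0))
    exact lt_irrefl i h1
  have hsumd : ∑ j ∈ Finset.range (n + 1), d j * x j = w := by
    rw [← hdw, Finsupp.linearCombination_apply,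
      Finsupp.sum_of_support_subset d hdsupp (fun j r => r • x j) (fun j _ => zero_smul _ _)]
    rfl
  have hsuml : ∑ j ∈ Finset.range (n + 1), l j * x j = z := by
    rw [← hlz, Finsupp.linearCombination_apply,
      Finsupp.sum_of_support_subset l hlsupp (fun j r => r • x j) (fun j _ => zero_smul _ _)]
    rfl
  refine ⟨n, fun j => (if j = i then 1 else 0) - a * d j - l j, i, by omega, by omega, ?_, ?_⟩
  · have h1 : ((if i = i then (1 : R) else 0) - a * d i - l i) = 1 - a * d i := by
      rw [if_pos rfl, hli, sub_zero]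
    show IsUnit ((if i = i then (1 : R) else 0) - a * d i - l i)
    rw [h1]
    exact isUnit_one_sub_self_of_mem_nonunits _
      ((mem_maximalIdeal _).mp (Ideal.mul_mem_right _ _ ham))
  · have hi_mem : i ∈ Finset.range (n + 1) := Finset.mem_range.mpr (by omega)
    have h1 : ∀ j, ((if j = i then (1 : R) else 0) - a * d j - l j) * x j =
        (if j = i then x j else 0) - a * (d j * x j) - l j * x j := by
      intro j
      split_ifs <;> ring
    show ∑ j ∈ Finset.range (n + 1), ((if j = i then (1 : R) else 0) - a * d j - l j) * x j = 0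
    simp only [h1, Finset.sum_sub_distrib, ← Finset.mul_sum, hsumd, hsuml,
      Finset.sum_ite_eq', hi_mem, if_true]
    rw [← hyz, smul_eq_mul]
    ring

end Groth.Agent.Lib.Helper4.OneDimRel
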