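import Mathlib

set_option autoImplicit false
set_option linter.style.haveILetI false
set_option linter.unusedSectionVars false
set_option linter.unusedVariables false
set_option linter.unusedSimpArgs false
set_option maxHeartbeats 1600000
set_option maxSynthPendingDepth 3

universe u

/-!
# Locally principal ideals of semilocal rings are principal

If at every maximal ideal `n` of a semilocal ring the ideal `I` is, up to an element outside `n`,
contained in a principal ideal generated by an element of `I`, then `I` is principal.
-/

namespace Groth.Agent.Lib.Helper4.SemilocalPrincipal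

open Function

variable {S : Type u} [CommRing S]

theorem exists_principal [Finite (MaximalSpectrum S)] (I : Ideal S)
    (h : ∀ n : Ideal S, n.IsMaximal → ∃ g ∈ I, ∃ s, s ∉ n ∧ ∀ x ∈ I, s * x ∈ Ideal.span {g}) :
    ∃ t ∈ I, I ≤ Ideal.span {t} := by
  classical
  choose g hgI s hsn hsx using fun P : MaximalSpectrum S => h P.asIdeal P.isMaximal
  have hcop : Pairwise (IsCoprime on fun P : MaximalSpectrum S => P.asIdeal) := by
    intro P Q hPQ
    haveI := P.isMaximal
    haveI := Q.isMaximal
    exact Ideal.isCoprime_of_isMaximal (MaximalSpectrum.ext_iff.ne.mp hPQ)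
  have hcrt : ∀ P : MaximalSpectrum S, ∃ e : S, ∀ Q : MaximalSpectrum S,
      e - (if Q = P then 1 else 0) ∈ Q.asIdeal :=
    fun P => Ideal.exists_forall_sub_mem_ideal hcop (fun Q => if Q = P then 1 else 0)
  choose e he using hcrt
  haveI := Fintype.ofFinite (MaximalSpectrum S)
  let t : S := ∑ P, e P * g P
  have htI : t ∈ I := Ideal.sum_mem _ (fun P _ => I.mul_mem_left _ (hgI P))
  refine ⟨t, htI, ?_⟩
  by_contra hnot
  let C : Ideal S := (Ideal.span {t}).colon (I : Set S)
  have hCne : C ≠ ⊤ := by
    intro htop
    apply hnot
    intro x hx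
    have h1 : (1 : S) ∈ C := htop ▸ Submodule.mem_top
    have h2 := Submodule.mem_colon.mp h1 x hx
    simpa using h2
  obtain ⟨M, hM, hCM⟩ := Ideal.exists_le_maximal C hCne
  let P : MaximalSpectrum S := ⟨M, hM⟩
  have hr : ∀ Q : MaximalSpectrum S, ∃ r : S, r * g P = s P * g Q :=
    fun Q => Ideal.mem_span_singleton'.mp (hsx P (g Q) (hgI Q))
  choose r hr using hr
  let r' : MaximalSpectrum S → S := fun Q => if Q = P then s P else r Q
  have hr' : ∀ Q, r' Q * g P = s P * g Q := by
    intro Q
    by_cases hQ : Q = P
    · subst hQ
      simp [r']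
    · simp only [r', hQ, if_false]
      exact hr Q
  let w : S := ∑ Q, e Q * r' Q
  have hw : w * g P = s P * t := by
    simp only [w, t, Finset.sum_mul, Finset.mul_sum]
    refine Finset.sum_congr rfl (fun Q _ => ?_)
    rw [mul_assoc, hr' Q]; ring
  have hwM : w ∉ M := by
    intro hwM
    have h1 : w - s P ∈ M := by
      have h2 : w - s P = (e P - 1) * s P + ∑ Q ∈ Finset.univ.erase P, e Q * r' Q := by
        simp only [w]
        rw [← Finset.add_sum_erase _ _ (Finset.mem_univ P)]
        have : r' P = s P := by simp [r']
        rw [this]; ring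
      rw [h2]
      refine M.add_mem (M.mul_mem_right _ ?_) (Ideal.sum_mem _ fun Q hQ => M.mul_mem_right _ ?_)
      · have h3 := he P P
        simpa using h3
      · have hQP : Q ≠ P := (Finset.mem_erase.mp hQ).1
        have h3 := he Q P
        simpa [hQP.symm] using h3
    have h4 : s P ∈ M := by
      have h5 := M.sub_mem hwM h1
      simpa using h5
    exact hsn P h4
  have hmem : w * s P ∈ C := by
    show w * s P ∈ (Ideal.span {t}).colon (I : Set S)
    rw [Submodule.mem_colon]
    intro x hx
    obtain ⟨y, hy⟩ := Ideal.mem_span_singleton'.mp (hsx P x hx)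
    rw [smul_eq_mul]
    refine Ideal.mem_span_singleton'.mpr ⟨y * s P, ?_⟩
    calc y * s P * t = y * (s P * t) := by ring
      _ = y * (w * g P) := by rw [hw]
      _ = w * (y * g P) := by ring
      _ = w * (s P * x) := by rw [hy]
      _ = w * s P * x := by ring
  have h6 : w * s P ∈ M := hCM hmem
  rcases hM.isPrime.mem_or_mem h6 with h1 | h1
  · exact hwM h1
  · exact hsn P h1

/-- A finite algebra over a local ring is semilocal. -/
theorem finite_maximalSpectrum (R : Type u) [CommRing R] [IsLocalRing R] (T : Type u) [CommRing T]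
    [Algebra R T] [Module.Finite R T] : Finite (MaximalSpectrum T) := by
  have hfin := Algebra.QuasiFinite.finite_primesOver (R := R) (S := T) (IsLocalRing.maximalIdeal R)
  haveI := hfin.to_subtype
  haveI : Algebra.IsIntegral R T := inferInstance
  let f : MaximalSpectrum T → ((IsLocalRing.maximalIdeal R).primesOver T) := fun P =>
    ⟨P.asIdeal, P.isMaximal.isPrime, ⟨by
      haveI := P.isMaximal
      exact (IsLocalRing.eq_maximalIdeal
        (Ideal.isMaximal_comap_of_isIntegral_of_isMaximal (R := R) P.asIdeal)).symm⟩⟩
  refine Finite.of_injective f ?_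
  intro P Q hPQ
  have h1 := congrArg Subtype.val hPQ
  exact MaximalSpectrum.ext h1

end Groth.Agent.Lib.Helper4.SemilocalPrincipal
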