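import Mathlib
import Groth.Prelude
import Groth.Agent.Lib.Helper4.OneDimRel
import Groth.Agent.Lib.Helper4.SemilocalPrincipal

set_option autoImplicit false
set_option linter.style.haveILetI false
set_option linter.unusedSectionVars false
set_option linter.unusedVariables false
set_option linter.unusedSimpArgs false
set_option maxHeartbeats 1600000
set_option maxSynthPendingDepth 3

universe u

/-!
# Common factor of two nonzerodivisors after a finite extension (dimension one)

`R` Noetherian local of dimension one, `a b` nonzerodivisors: there is a finite extension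
`R ⊆ R'` inside the total ring of fractions with `R'/R` killed by a power of `𝔪`, and
`t a' b' ∈ R'` nonzerodivisors with `a = t a'`, `b = t b'`, `(a', b') = R'`.

`R'` is the ring `(N : N)` of multipliers of `N = R + R u + ⋯ + R u^(n-1)`, `u = b/a`, where `u`
satisfies a polynomial of degree `n` with a unit coefficient.
-/

namespace Groth.Agent.Lib.Helper4.CommonFactor

open IsLocalRing

variable (R : Type u) [CommRing R] {K : Type u} [CommRing K] [Algebra R K]
variable (u : K) (c : ℕ → R) (n : ℕ)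

/-- Horner tails `c_k + c_{k+1} u + ⋯ + c_n u^(n-k)`. -/
noncomputable def H (k : ℕ) : K := ∑ j ∈ Finset.range (n + 1 - k), algebraMap R K (c (k + j)) * u ^ j

/-- Heads `c_0 + ⋯ + c_{k-1} u^(k-1)`. -/
noncomputable def Z (k : ℕ) : K := ∑ j ∈ Finset.range k, algebraMap R K (c j) * u ^ j

theorem Z_add (hrel : ∑ j ∈ Finset.range (n + 1), algebraMap R K (c j) * u ^ j = 0) (k : ℕ)
    (hk : k ≤ n + 1) : Z R u c k + u ^ k * H R u c n k = 0 := by
  rw [← hrel, ← Finset.sum_range_add_sum_Ico _ hk, Finset.sum_Ico_eq_sum_range]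
  unfold Z H
  congr 1
  rw [Finset.mul_sum]
  refine Finset.sum_congr rfl (fun j _ => ?_)
  rw [pow_add]; ring

theorem H_succ (k : ℕ) (hk : k ≤ n) :
    H R u c n k = algebraMap R K (c k) + u * H R u c n (k + 1) := by
  have h1 : n + 1 - k = (n + 1 - (k + 1)) + 1 := by omega
  unfold H
  rw [h1, Finset.sum_range_succ', Finset.mul_sum]
  have h2 : ∀ j, algebraMap R K (c (k + (j + 1))) * u ^ (j + 1) =
      u * (algebraMap R K (c (k + 1 + j)) * u ^ j) := by
    intro j
    rw [show k + (j + 1) = k + 1 + j by omega, pow_succ]; ring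
  simp only [h2, Nat.add_zero, pow_zero, mul_one]
  rw [add_comm]

/-- The module `N = ∑_{j<n} R u^j`. -/
def Nmod : Submodule R K := Submodule.span R ((fun j : ℕ => u ^ j) '' Set.Iio n)

theorem pow_mem_Nmod {j : ℕ} (hj : j < n) : u ^ j ∈ Nmod R u n :=
  Submodule.subset_span ⟨j, hj, rfl⟩

/-- The ring of multipliers of `N`. -/
def T : Subalgebra R K where
  carrier := {x | ∀ z ∈ Nmod R u n, x * z ∈ Nmod R u n}
  mul_mem' := fun {x y} hx hy z hz => by rw [mul_assoc]; exact hx _ (hy _ hz)
  add_mem' := fun {x y} hx hy z hz => by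
    rw [add_mul]; exact Submodule.add_mem _ (hx _ hz) (hy _ hz)
  algebraMap_mem' := fun r z hz => by
    rw [← Algebra.smul_def]; exact Submodule.smul_mem _ r hz

theorem mem_T_iff {x : K} : x ∈ T R u n ↔ ∀ z ∈ Nmod R u n, x * z ∈ Nmod R u n := Iff.rfl

theorem mem_T_of_pow {x : K} (h : ∀ j, j < n → x * u ^ j ∈ Nmod R u n) : x ∈ T R u n := by
  rw [mem_T_iff]
  intro z hz
  refine Submodule.span_induction (p := fun z _ => x * z ∈ Nmod R u n) ?_ ?_ ?_ ?_ hz
  · rintro _ ⟨j, hj, rfl⟩
    exact h j hj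
  · simp
  · intro a b _ _ ha hb
    rw [mul_add]; exact Submodule.add_mem _ ha hb
  · intro r a _ ha
    rw [mul_smul_comm]; exact Submodule.smul_mem _ r ha

theorem T_le_Nmod (hn : 0 < n) : Subalgebra.toSubmodule (T R u n) ≤ Nmod R u n := by
  intro x hx
  have h1 : x ∈ T R u n := hx
  have h2 := (mem_T_iff R u n).mp h1 (u ^ 0) (pow_mem_Nmod R u n hn)
  simpa using h2

theorem T_finite [IsNoetherianRing R] (hn : 0 < n) : Module.Finite R (T R u n) := by
  have hNfg : (Nmod R u n).FG := Submodule.fg_span ((Set.finite_Iio n).image _)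
  haveI : IsNoetherian R (Nmod R u n) := isNoetherian_of_fg_of_noetherian _ hNfg
  have h1 : (Subalgebra.toSubmodule (T R u n)).FG :=
    (isNoetherian_submodule.mp this) _ (T_le_Nmod R u n hn)
  haveI : Module.Finite R (Subalgebra.toSubmodule (T R u n)) := Module.Finite.iff_fg.mpr h1
  exact Module.Finite.equiv (Subalgebra.toSubmoduleEquiv (T R u n))

theorem H_mul_pow_mem (hrel : ∑ j ∈ Finset.range (n + 1), algebraMap R K (c j) * u ^ j = 0)
    (k : ℕ) (hk : k ≤ n + 1) (j : ℕ) (hj : j < n) :
    H R u c n k * u ^ j ∈ Nmod R u n := by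
  by_cases hjk : j < k
  · unfold H
    rw [Finset.sum_mul]
    refine Submodule.sum_mem _ (fun i hi => ?_)
    have hi' : i + j < n := by
      have := Finset.mem_range.mp hi
      omega
    rw [mul_assoc, ← pow_add, ← Algebra.smul_def]
    exact Submodule.smul_mem _ _ (pow_mem_Nmod R u n hi')
  · push_neg at hjk
    have h1 := Z_add R u c n hrel k hk
    have h3 : u ^ k * H R u c n k = - Z R u c k := by
      rw [eq_neg_iff_add_eq_zero, add_comm]; exact h1
    have h2 : H R u c n k * u ^ j = - (Z R u c k * u ^ (j - k)) := by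
      have h4 : u ^ j = u ^ k * u ^ (j - k) := by rw [← pow_add, Nat.add_sub_cancel' hjk]
      rw [h4]
      calc H R u c n k * (u ^ k * u ^ (j - k)) = (u ^ k * H R u c n k) * u ^ (j - k) := by ring
        _ = _ := by rw [h3]; ring
    rw [h2]
    refine Submodule.neg_mem _ ?_
    unfold Z
    rw [Finset.sum_mul]
    refine Submodule.sum_mem _ (fun i hi => ?_)
    have hi' : i + (j - k) < n := by
      have := Finset.mem_range.mp hi
      omega
    rw [mul_assoc, ← pow_add, ← Algebra.smul_def]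
    exact Submodule.smul_mem _ _ (pow_mem_Nmod R u n hi')

theorem H_mem_T (hrel : ∑ j ∈ Finset.range (n + 1), algebraMap R K (c j) * u ^ j = 0)
    (k : ℕ) (hk : k ≤ n + 1) : H R u c n k ∈ T R u n :=
  mem_T_of_pow R u n (fun j hj => H_mul_pow_mem R u c n hrel k hk j hj)

theorem uH_mem_T (hrel : ∑ j ∈ Finset.range (n + 1), algebraMap R K (c j) * u ^ j = 0)
    (k : ℕ) (hk : k ≤ n) : u * H R u c n (k + 1) ∈ T R u n := by
  have h1 : u * H R u c n (k + 1) = H R u c n k - algebraMap R K (c k) := by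
    rw [H_succ R u c n k hk]; ring
  rw [h1]
  exact Subalgebra.sub_mem _ (H_mem_T R u c n hrel k (by omega)) (Subalgebra.algebraMap_mem _ _)

theorem H_zero (hrel : ∑ j ∈ Finset.range (n + 1), algebraMap R K (c j) * u ^ j = 0) :
    H R u c n 0 = 0 := by
  have h1 := Z_add R u c n hrel 0 (by omega)
  simpa [Z] using h1

/-- Auxiliary: if `s X = w Y` then `s` multiplies `(X, Y)` into `(Y)`. -/
theorem mul_mem_span_of_eq {S : Type u} [CommRing S] {X Y s w : S} (h : s * X = w * Y) :
    ∀ x ∈ Ideal.span ({X, Y} : Set S), s * x ∈ Ideal.span ({Y} : Set S) := by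
  intro x hx
  obtain ⟨p, q, rfl⟩ := Ideal.mem_span_pair.mp hx
  refine Ideal.mem_span_singleton'.mpr ⟨p * w + q * s, ?_⟩
  calc (p * w + q * s) * Y = p * (w * Y) + q * s * Y := by ring
    _ = p * (s * X) + q * s * Y := by rw [h]
    _ = s * (p * X + q * Y) := by ring

/-- The main construction with the ambient ring `K` abstract. -/
theorem main_aux [IsNoetherianRing R] [IsLocalRing R]
    (hinj : Function.Injective (algebraMap R K)) (a b : R) (α' : K)
    (hα' : algebraMap R K a * α' = 1) (β' : K) (hβ' : algebraMap R K b * β' = 1) (hn : 0 < n) (i0 : ℕ) (hi0 : i0 ≤ n)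
    (hcu : IsUnit (c i0))
    (hrel : ∑ j ∈ Finset.range (n + 1), c j * (a ^ (n - j) * b ^ j) = 0)
    (M : ℕ) (hM : maximalIdeal R ^ M ≤ Ideal.span {a ^ n}) :
    ∃ (R' : Type u) (_ : CommRing R') (_ : Algebra R R'),
      CycAlg.IsFinExt R R' (IsLocalRing.maximalIdeal R) ∧
      ∃ t a' b' : R', t ∈ nonZeroDivisors R' ∧ a' ∈ nonZeroDivisors R' ∧
        b' ∈ nonZeroDivisors R' ∧ algebraMap R R' a = t * a' ∧ algebraMap R R' b = t * b' ∧
        Ideal.span {a', b'} = ⊤ := by
  classical
  set φ := algebraMap R K with hφ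
  set u : K := φ b * α' with hu
  have hαu : φ a * u = φ b := by
    rw [hu, mul_comm (φ b), ← mul_assoc, hα', one_mul]
  have hαuj : ∀ j : ℕ, φ a ^ j * u ^ j = φ b ^ j := fun j => by rw [← mul_pow, hαu]
  -- the polynomial relation for `u`
  have hrelK : ∑ j ∈ Finset.range (n + 1), φ (c j) * u ^ j = 0 := by
    have h1 : φ (∑ j ∈ Finset.range (n + 1), c j * (a ^ (n - j) * b ^ j)) * α' ^ n = 0 := by
      rw [hrel, map_zero, zero_mul]
    rw [map_sum, Finset.sum_mul] at h1
    rw [← h1]
    refine Finset.sum_congr rfl (fun j hj => ?_)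
    have hj' : j ≤ n := Nat.lt_succ_iff.mp (Finset.mem_range.mp hj)
    have hp : α' ^ n = α' ^ (n - j) * α' ^ j := by rw [← pow_add, Nat.sub_add_cancel hj']
    rw [map_mul, map_mul, map_pow, map_pow, hp]
    calc φ (c j) * u ^ j = φ (c j) * ((φ a * α') ^ (n - j) * (φ b * α') ^ j) := by
          rw [hα', one_pow, one_mul]
      _ = _ := by rw [mul_pow, mul_pow]; ring
  haveI hTfin : Module.Finite R (T R u n) := T_finite R u n hn
  haveI : Finite (MaximalSpectrum (T R u n)) :=
    SemilocalPrincipal.finite_maximalSpectrum R (T R u n)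
  -- elements of T
  let A : T R u n := algebraMap R (T R u n) a
  let B : T R u n := algebraMap R (T R u n) b
  have hAval : (A : K) = φ a := rfl
  have hBval : (B : K) = φ b := rfl
  let Hk : ∀ k, k ≤ n + 1 → T R u n := fun k hk => ⟨H R u c n k, H_mem_T R u c n hrelK k hk⟩
  let Gk : ∀ k, k ≤ n → T R u n := fun k hk =>
    ⟨u * H R u c n (k + 1), uH_mem_T R u c n hrelK k hk⟩
  -- A * G k = B * H (k+1)
  have hAG : ∀ k (hk : k ≤ n), Gk k hk * A = Hk (k + 1) (by omega) * B := by
    intro k hk
    apply Subtype.ext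
    show u * H R u c n (k + 1) * φ a = H R u c n (k + 1) * φ b
    rw [← hαu]; ring
  -- unit
  have hcT : IsUnit (algebraMap R (T R u n) (c i0)) := hcu.map _
  have hcHG : algebraMap R (T R u n) (c i0) = Hk i0 (by omega) - Gk i0 hi0 := by
    apply Subtype.ext
    show φ (c i0) = H R u c n i0 - u * H R u c n (i0 + 1)
    rw [H_succ R u c n i0 hi0]; ring
  -- local principality
  have hloc : ∀ N : Ideal (T R u n), N.IsMaximal →
      ∃ g ∈ Ideal.span ({A, B} : Set (T R u n)), ∃ s, s ∉ N ∧
        ∀ x ∈ Ideal.span ({A, B} : Set (T R u n)), s * x ∈ Ideal.span {g} := by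
    intro N hN
    have hcN : algebraMap R (T R u n) (c i0) ∉ N := fun hmem =>
      hN.ne_top (Ideal.eq_top_of_isUnit_mem _ hmem hcT)
    by_cases hG : Gk i0 hi0 ∈ N
    · have hHN : Hk i0 (by omega) ∉ N := by
        intro hH
        apply hcN
        rw [hcHG]
        exact N.sub_mem hH hG
      have hi1 : 1 ≤ i0 := by
        by_contra h0
        have h00 : i0 = 0 := by omega
        apply hHN
        have : Hk i0 (by omega) = 0 := by
          apply Subtype.ext
          show H R u c n i0 = 0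
          rw [h00]; exact H_zero R u c n hrelK
        rw [this]; exact N.zero_mem
      refine ⟨A, Ideal.subset_span (Set.mem_insert _ _), Hk i0 (by omega), hHN, ?_⟩
      have h1 : Hk i0 (by omega) * B = Gk (i0 - 1) (by omega) * A := by
        apply Subtype.ext
        show H R u c n i0 * φ b = u * H R u c n (i0 - 1 + 1) * φ a
        rw [Nat.sub_add_cancel hi1, ← hαu]; ring
      have h2 := mul_mem_span_of_eq (X := B) (Y := A) h1
      intro x hx
      exact h2 x (by rw [Ideal.span_pair_comm]; exact hx)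
    · refine ⟨B, Ideal.subset_span (Set.mem_insert_of_mem _ (Set.mem_singleton _)), Gk i0 hi0, hG, ?_⟩
      exact mul_mem_span_of_eq (hAG i0 hi0)
  obtain ⟨t, htI, hIt⟩ := SemilocalPrincipal.exists_principal _ hloc
  obtain ⟨a', ha'⟩ := Ideal.mem_span_singleton'.mp
    (hIt (Ideal.subset_span (Set.mem_insert A {B})))
  obtain ⟨b', hb'⟩ := Ideal.mem_span_singleton'.mp
    (hIt (Ideal.subset_span (Set.mem_insert_of_mem A (Set.mem_singleton B))))
  obtain ⟨p, q, hpq⟩ := Ideal.mem_span_pair.mp htI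
  -- A is a nonzerodivisor of T
  have hAnzd : ∀ x : T R u n, x * A = 0 → x = 0 := by
    intro x hx
    apply Subtype.ext
    have h1 : (x : K) * φ a = 0 := congrArg Subtype.val hx
    show (x : K) = 0
    calc (x : K) = (x : K) * φ a * α' := by rw [mul_assoc, hα', mul_one]
      _ = 0 := by rw [h1, zero_mul]
  have hBnzd : ∀ x : T R u n, x * B = 0 → x = 0 := by
    intro x hx
    apply Subtype.ext
    have h1 : (x : K) * φ b = 0 := congrArg Subtype.val hx
    show (x : K) = 0
    calc (x : K) = (x : K) * φ b * β' := by rw [mul_assoc, hβ', mul_one]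
      _ = 0 := by rw [h1, zero_mul]
  have htnzd : ∀ x : T R u n, x * t = 0 → x = 0 := by
    intro x hx
    apply hAnzd
    rw [← ha']
    calc x * (a' * t) = a' * (x * t) := by ring
      _ = 0 := by rw [hx, mul_zero]
  have ha'nzd : ∀ x : T R u n, x * a' = 0 → x = 0 := by
    intro x hx
    apply hAnzd
    rw [← ha']
    calc x * (a' * t) = (x * a') * t := by ring
      _ = 0 := by rw [hx, zero_mul]
  have hb'nzd : ∀ x : T R u n, x * b' = 0 → x = 0 := by
    intro x hx
    apply hBnzd
    rw [← hb']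
    calc x * (b' * t) = (x * b') * t := by ring
      _ = 0 := by rw [hx, zero_mul]
  have hone : p * a' + q * b' = 1 := by
    have h1 : (p * a' + q * b' - 1) * t = 0 := by
      calc (p * a' + q * b' - 1) * t = p * (a' * t) + q * (b' * t) - t := by ring
        _ = p * A + q * B - t := by rw [ha', hb']
        _ = 0 := by rw [hpq, sub_self]
    have h2 := htnzd _ h1
    exact sub_eq_zero.mp h2
  -- denominators
  have hden : ∀ z ∈ Nmod R u n, ∃ r : R, φ r = φ (a ^ n) * z := by
    intro z hz
    refine Submodule.span_induction (p := fun z _ => ∃ r : R, φ r = φ (a ^ n) * z) ?_ ?_ ?_ ?_ hz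
    · rintro _ ⟨j, hj, rfl⟩
      have hj' : j < n := hj
      refine ⟨a ^ (n - j) * b ^ j, ?_⟩
      have hp : a ^ n = a ^ (n - j) * a ^ j := by rw [← pow_add, Nat.sub_add_cancel hj'.le]
      show φ (a ^ (n - j) * b ^ j) = φ (a ^ n) * u ^ j
      rw [hp, map_mul, map_mul, map_pow, map_pow, map_pow, mul_assoc, hαuj]
    · exact ⟨0, by simp⟩
    · rintro z1 z2 _ _ ⟨r1, h1⟩ ⟨r2, h2⟩
      exact ⟨r1 + r2, by rw [map_add, h1, h2, mul_add]⟩
    · rintro r z1 _ ⟨r1, h1⟩
      exact ⟨r * r1, by rw [map_mul, h1, Algebra.smul_def]; ring⟩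
  refine ⟨T R u n, inferInstance, inferInstance, ⟨?_, hTfin, M, ?_⟩, t, a', b',
    mem_nonZeroDivisors_iff_right.mpr htnzd, mem_nonZeroDivisors_iff_right.mpr ha'nzd,
    mem_nonZeroDivisors_iff_right.mpr hb'nzd, ?_, ?_, ?_⟩
  · intro x y hxy
    exact hinj (congrArg Subtype.val hxy)
  · intro r hr x
    obtain ⟨c', hc'⟩ := Ideal.mem_span_singleton'.mp (hM hr)
    obtain ⟨r1, hr1⟩ := hden (x : K) (T_le_Nmod R u n hn x.2)
    refine ⟨c' * r1, Subtype.ext ?_⟩
    show φ (c' * r1) = r • (x : K)
    rw [Algebra.smul_def, ← hc', map_mul, map_mul, hr1]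
    ring
  · show A = t * a'
    rw [← ha', mul_comm]
  · show B = t * b'
    rw [← hb', mul_comm]
  · rw [Ideal.eq_top_iff_one]
    exact Ideal.mem_span_pair.mpr ⟨p, q, hone⟩

/-- The statement for a one-dimensional Noetherian local ring. -/
theorem main (R : Type u) [CommRing R] [IsNoetherianRing R] [IsLocalRing R]
    (hR : ringKrullDim R = 1) (a b : R) (ha : a ∈ nonZeroDivisors R)
    (hb : b ∈ nonZeroDivisors R) :
    ∃ (R' : Type u) (_ : CommRing R') (_ : Algebra R R'),
      CycAlg.IsFinExt R R' (IsLocalRing.maximalIdeal R) ∧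
      ∃ t a' b' : R', t ∈ nonZeroDivisors R' ∧ a' ∈ nonZeroDivisors R' ∧
        b' ∈ nonZeroDivisors R' ∧ algebraMap R R' a = t * a' ∧ algebraMap R R' b = t * b' ∧
        Ideal.span {a', b'} = ⊤ := by
  by_cases hau : IsUnit a
  · refine ⟨R, inferInstance, Algebra.id R, ⟨Function.injective_id, inferInstance, 0,
      fun r _ x => ⟨r • x, rfl⟩⟩, 1, a, b, one_mem _, ha, hb, by simp, by simp, ?_⟩
    exact Ideal.eq_top_of_isUnit_mem _ (Ideal.subset_span (Set.mem_insert _ _)) hau
  · have ham : a ∈ maximalIdeal R := (mem_maximalIdeal a).mpr hau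
    obtain ⟨n, c, i0, hn, hi0, hcu, hrel⟩ := OneDimRel.exists_rel hR b ha ham
    obtain ⟨M, hM⟩ := OneDimRel.exists_pow_le_span hR (pow_mem ha n)
    obtain ⟨α', hα'⟩ := (IsLocalization.map_units (FractionRing R)
      (⟨a, ha⟩ : nonZeroDivisors R)).exists_right_inv
    obtain ⟨β', hβ'⟩ := (IsLocalization.map_units (FractionRing R)
      (⟨b, hb⟩ : nonZeroDivisors R)).exists_right_inv
    exact main_aux R c n (IsFractionRing.injective R (FractionRing R)) a b α' hα' β' hβ' hn i0
      hi0 hcu hrel M hM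

end Groth.Agent.Lib.Helper4.CommonFactor
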