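import Mathlib
import Groth.Agent.Lib.Helper6.FischerA

/-!
# Closed subsets of an affine cone stable under automorphisms contain the vertex (helper4)

Let `I` be an ideal of `K[x_1..x_N]` generated by homogeneous elements, `K` an infinite field.
A nonempty closed subset of `Spec (K[x]/I)` stable under all ring automorphisms (in particular
under the scalings `x_i ↦ c x_i`) contains the vertex.
-/

set_option autoImplicit false
set_option linter.style.haveILetI false
set_option linter.unusedSectionVars false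
set_option linter.unusedVariables false
set_option maxHeartbeats 800000

universe u

namespace Groth.Agent.Lib.Helper4.ConeCM

open MvPolynomial Groth.Agent.Lib.Helper6.FischerA

variable {K : Type u} [Field K] {N : ℕ}

lemma scale_homogeneous (c : K) (f : MvPolynomial (Fin N) K) (k : ℕ) (hf : f.IsHomogeneous k) :
    scale (fun _ => c) f = C (c ^ k) * f := by
  ext a
  rw [coeff_scale, coeff_C_mul]
  by_cases h : a.degree = k
  · rw [Finset.prod_pow_eq_pow_sum, ← Finsupp.degree_eq_sum, h, mul_comm]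
  · rw [hf.coeff_eq_zero h, zero_mul, mul_zero]

lemma scale_eq_sum (c : K) (p : MvPolynomial (Fin N) K) :
    scale (fun _ => c) p =
      ∑ d ∈ Finset.range (p.totalDegree + 1), C (c ^ d) * homogeneousComponent d p := by
  have h1 : scale (fun _ => c) p = scale (fun _ => c)
      (∑ d ∈ Finset.range (p.totalDegree + 1), homogeneousComponent d p) := by
    rw [sum_homogeneousComponent]
  rw [h1, map_sum]
  exact Finset.sum_congr rfl
    (fun d _ => scale_homogeneous c _ d (homogeneousComponent_isHomogeneous d p))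

lemma scale_scale (c c' : K) (p : MvPolynomial (Fin N) K) :
    scale (fun _ => c) (scale (fun _ => c') p) = scale (fun _ => c * c') p := by
  ext a
  rw [coeff_scale, coeff_scale, coeff_scale, mul_assoc, ← Finset.prod_mul_distrib]
  congr 1
  exact Finset.prod_congr rfl (fun i _ => by rw [mul_pow, mul_comm])

lemma scale_one (p : MvPolynomial (Fin N) K) : scale (fun _ => (1 : K)) p = p := by
  ext a
  rw [coeff_scale]
  simp

lemma coeff_eq_zero_of_infinite_roots {D : Type*} [CommRing D] [IsDomain D] (n : ℕ) (a : ℕ → D)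
    (hinf : Set.Infinite {x : D | ∑ d ∈ Finset.range (n + 1), a d * x ^ d = 0}) : a 0 = 0 := by
  let F : Polynomial D := ∑ d ∈ Finset.range (n + 1), Polynomial.monomial d (a d)
  have hF : F = 0 := by
    apply Polynomial.eq_zero_of_infinite_isRoot
    refine hinf.mono ?_
    intro x hx
    show Polynomial.eval x F = 0
    simp only [F, Polynomial.eval_finset_sum, Polynomial.eval_monomial]
    exact hx
  have hc0 : F.coeff 0 = a 0 := by
    simp only [F, Polynomial.finset_sum_coeff, Polynomial.coeff_monomial]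
    rw [Finset.sum_eq_single 0]
    · simp
    · intro d _ hd
      simp [hd]
    · intro h
      exact absurd (Finset.mem_range.mpr (Nat.succ_pos _)) h
  rw [← hc0, hF, Polynomial.coeff_zero]

variable (I : Ideal (MvPolynomial (Fin N) K))
  (hI : ∃ T : Set (MvPolynomial (Fin N) K),
    (∀ f ∈ T, ∃ k : ℕ, f.IsHomogeneous k) ∧ I = Ideal.span T)

include hI in
lemma le_comap_scale (c : K) :
    I ≤ I.comap (scale (fun _ => c) : MvPolynomial (Fin N) K →ₐ[K] _).toRingHom := by
  obtain ⟨T, hT, hIT⟩ := hI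
  rw [hIT, Ideal.span_le]
  intro f hf
  obtain ⟨k, hk⟩ := hT f hf
  show (scale (fun _ => c)) f ∈ Ideal.span T
  rw [scale_homogeneous c f k hk]
  exact Ideal.mul_mem_left _ _ (Ideal.subset_span hf)

/-- the scaling endomorphism of the cone. -/
noncomputable def psi (c : K) :
    (MvPolynomial (Fin N) K ⧸ I) →+* (MvPolynomial (Fin N) K ⧸ I) :=
  Ideal.quotientMap I (scale (fun _ => c) : MvPolynomial (Fin N) K →ₐ[K] _).toRingHom
    (le_comap_scale I hI c)

lemma psi_mk (c : K) (p : MvPolynomial (Fin N) K) :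
    psi I hI c (Ideal.Quotient.mk I p) = Ideal.Quotient.mk I (scale (fun _ => c) p) := by
  unfold psi
  rw [Ideal.quotientMap_mk]
  rfl

lemma psi_psi (c c' : K) (x : MvPolynomial (Fin N) K ⧸ I) :
    psi I hI c (psi I hI c' x) = psi I hI (c * c') x := by
  obtain ⟨p, rfl⟩ := Ideal.Quotient.mk_surjective x
  rw [psi_mk, psi_mk, psi_mk, scale_scale]

lemma psi_one (x : MvPolynomial (Fin N) K ⧸ I) : psi I hI 1 x = x := by
  obtain ⟨p, rfl⟩ := Ideal.Quotient.mk_surjective x
  rw [psi_mk, scale_one]

/-- the scaling automorphism of the cone. -/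
noncomputable def equiv (c : K) (hc : c ≠ 0) :
    (MvPolynomial (Fin N) K ⧸ I) ≃+* (MvPolynomial (Fin N) K ⧸ I) :=
  RingEquiv.ofBijective (psi I hI c)
    ⟨Function.LeftInverse.injective (g := psi I hI c⁻¹)
        (fun x => by rw [psi_psi, inv_mul_cancel₀ hc, psi_one]),
      Function.RightInverse.surjective (g := psi I hI c⁻¹)
        (fun x => by rw [psi_psi, mul_inv_cancel₀ hc, psi_one])⟩

lemma equiv_mk (c : K) (hc : c ≠ 0) (p : MvPolynomial (Fin N) K) :
    equiv I hI c hc (Ideal.Quotient.mk I p) = Ideal.Quotient.mk I (scale (fun _ => c) p) :=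
  psi_mk I hI c p

include hI in
/-- a nonempty closed subset of the cone stable under ring automorphisms contains the vertex. -/
theorem vertex_mem_of_closed_of_stable [Infinite K]
    (Z : Set (PrimeSpectrum (MvPolynomial (Fin N) K ⧸ I))) (hZ : IsClosed Z)
    (hstab : ∀ (e : (MvPolynomial (Fin N) K ⧸ I) ≃+* (MvPolynomial (Fin N) K ⧸ I))
      (q : PrimeSpectrum (MvPolynomial (Fin N) K ⧸ I)), q ∈ Z →
        (⟨q.asIdeal.comap e, inferInstance⟩ : PrimeSpectrum _) ∈ Z)
    (hne : Z.Nonempty)
    [hm : ((RingHom.ker (constantCoeff : MvPolynomial (Fin N) K →+* K)).map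
      (Ideal.Quotient.mk I)).IsPrime] :
    (⟨(RingHom.ker (constantCoeff : MvPolynomial (Fin N) K →+* K)).map (Ideal.Quotient.mk I),
      hm⟩ : PrimeSpectrum _) ∈ Z := by
  by_contra hmZ
  obtain ⟨q₀, hq₀⟩ := hne
  obtain ⟨J, hJ⟩ := (PrimeSpectrum.isClosed_iff_zeroLocus_ideal Z).mp hZ
  have h1 : ¬ ((J : Set (MvPolynomial (Fin N) K ⧸ I)) ⊆
      ((RingHom.ker (constantCoeff : MvPolynomial (Fin N) K →+* K)).map
        (Ideal.Quotient.mk I) : Ideal _)) := by
    intro h
    apply hmZ
    rw [hJ, PrimeSpectrum.mem_zeroLocus]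
    exact h
  obtain ⟨g, hgJ, hgm⟩ := Set.not_subset.mp h1
  obtain ⟨p, rfl⟩ := Ideal.Quotient.mk_surjective g
  have ha : constantCoeff p ≠ 0 := by
    intro h0
    apply hgm
    exact Ideal.mem_map_of_mem _ (RingHom.mem_ker.mpr h0)
  have h2 : ∀ c : K, c ≠ 0 → Ideal.Quotient.mk I (scale (fun _ => c) p) ∈ q₀.asIdeal := by
    intro c hc
    have h3 := hstab (equiv I hI c hc) q₀ hq₀
    rw [hJ, PrimeSpectrum.mem_zeroLocus] at h3
    have h4 := h3 hgJ
    have h5 : (equiv I hI c hc) (Ideal.Quotient.mk I p) ∈ q₀.asIdeal := h4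
    rwa [equiv_mk] at h5
  let ρ : MvPolynomial (Fin N) K →+* (MvPolynomial (Fin N) K ⧸ I) ⧸ q₀.asIdeal :=
    (Ideal.Quotient.mk q₀.asIdeal).comp (Ideal.Quotient.mk I)
  haveI : IsDomain ((MvPolynomial (Fin N) K ⧸ I) ⧸ q₀.asIdeal) := Ideal.Quotient.isDomain _
  have hinj : Function.Injective (ρ.comp C) := (ρ.comp C).injective
  have h0 : ρ (homogeneousComponent 0 p) = 0 := by
    refine coeff_eq_zero_of_infinite_roots p.totalDegree
      (fun d => ρ (homogeneousComponent d p)) ?_
    refine Set.Infinite.mono ?_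
      (((Set.finite_singleton (0 : K)).infinite_compl).image hinj.injOn)
    rintro _ ⟨c, hc, rfl⟩
    have hc' : c ≠ 0 := fun h => hc (Set.mem_singleton_iff.mpr h)
    show ∑ d ∈ Finset.range (p.totalDegree + 1),
      ρ (homogeneousComponent d p) * (ρ (C c)) ^ d = 0
    have hsum : ∑ d ∈ Finset.range (p.totalDegree + 1),
        ρ (homogeneousComponent d p) * ρ (C c) ^ d = ρ (scale (fun _ => c) p) := by
      rw [scale_eq_sum, map_sum]
      refine Finset.sum_congr rfl (fun d _ => ?_)
      rw [map_mul, C_pow, map_pow]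
      ring
    rw [hsum]
    exact Ideal.Quotient.eq_zero_iff_mem.mpr (h2 c hc')
  rw [homogeneousComponent_zero, ← constantCoeff_eq] at h0
  have h6 : (1 : (MvPolynomial (Fin N) K ⧸ I) ⧸ q₀.asIdeal) = 0 := by
    have h7 : ρ (C ((constantCoeff p)⁻¹)) * ρ (C (constantCoeff p)) = 1 := by
      rw [← map_mul, ← C_mul, inv_mul_cancel₀ ha, C_1, map_one]
    rw [← h7, h0, mul_zero]
  exact one_ne_zero h6

end Groth.Agent.Lib.Helper4.ConeCM
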