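import Mathlib
import Groth.Agent.Lib.Helper4.Conn3

/-!
# Connectedness bounds via local cohomology, part 4 (helper4)

The connectedness theorem with the cohomological dimension in place of the arithmetic rank:
`min (c(R) + 1, sdim R) ≤ dim Z + cd(a) + 1` for every closed `Z ⊆ Spec (R/a)` with non-connected
complement.
-/

set_option autoImplicit false
set_option linter.style.haveILetI false
set_option linter.unusedSectionVars false
set_option linter.unusedVariables false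
set_option maxHeartbeats 800000

universe u

open IsLocalRing

namespace Groth.Agent.Lib.Helper4.Conn

open Groth.Agent.Lib.Helper4.LC

section cd

variable {R : Type u} [CommRing R] [IsNoetherianRing R] [IsLocalRing R]

lemma dim_le_of_radical_sup (a p : Ideal R) (e : ℕ) (hp : p.IsPrime)
    (hrad : (a ⊔ p).radical = maximalIdeal R) (hk : LocCoh.CdLE R a e) :
    ringKrullDim (R ⧸ p) ≤ (e : WithBot ℕ∞) := by
  haveI := hp
  obtain ⟨n, hn⟩ := exists_nat_dim p hp.ne_top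
  rw [hn]
  by_contra hlt
  have hen : e < n := by
    have h := not_le.1 hlt
    exact_mod_cast h
  have hnt := Groth.Agent.Lib.Helper20.LCNonVanish.nontrivial_HH_quot_prime R a p
    (by rw [sup_comm]; exact hrad) n hn
  have hsub : Subsingleton (LocCoh.H a n (R ⧸ p)) := hk (R ⧸ p) n hen
  rw [subsingleton_H_iff] at hsub
  exact not_subsingleton _ hsub

/-- `dim R/p ≤ cd(a) + dim R/(a+p)`. -/
theorem dim_le_cd_add : ∀ (δ : ℕ) (a p : Ideal R) (e : ℕ), p.IsPrime → a ≠ ⊤ →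
    ringKrullDim (R ⧸ (a ⊔ p)) ≤ (δ : WithBot ℕ∞) → LocCoh.CdLE R a e →
    ringKrullDim (R ⧸ p) ≤ ((e + δ : ℕ) : WithBot ℕ∞) := by
  intro δ
  induction δ with
  | zero =>
    intro a p e hp ha hdim hk
    by_cases hrad : (a ⊔ p).radical = maximalIdeal R
    · exact dim_le_of_radical_sup a p e hp hrad hk
    · exfalso
      have hJ : a ⊔ p ≠ ⊤ :=
        ne_top_of_le_max (sup_le (le_maximalIdeal ha) (le_maximalIdeal hp.ne_top))
      obtain ⟨x, hxm, hx⟩ := exists_avoid (a ⊔ p) hJ hrad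
      have hX : Ideal.span {x} ≤ maximalIdeal R :=
        Ideal.span_le.2 (Set.singleton_subset_iff.2 hxm)
      have h1 := dim_sup_span_succ_le (a ⊔ p) x hx
      obtain ⟨d1, hd1⟩ := exists_nat_dim (a ⊔ p ⊔ Ideal.span {x})
        (ne_top_of_le_max (sup_le (sup_le (le_maximalIdeal ha) (le_maximalIdeal hp.ne_top)) hX))
      rw [hd1] at h1
      have h3 : d1 + 1 ≤ 0 := by exact_mod_cast h1.trans hdim
      omega
  | succ δ ih =>
    intro a p e hp ha hdim hk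
    by_cases hrad : (a ⊔ p).radical = maximalIdeal R
    · refine (dim_le_of_radical_sup a p e hp hrad hk).trans ?_
      exact_mod_cast (by omega : e ≤ e + (δ + 1))
    · have hJ : a ⊔ p ≠ ⊤ :=
        ne_top_of_le_max (sup_le (le_maximalIdeal ha) (le_maximalIdeal hp.ne_top))
      obtain ⟨x, hxm, hx⟩ := exists_avoid (a ⊔ p) hJ hrad
      have hX : Ideal.span {x} ≤ maximalIdeal R :=
        Ideal.span_le.2 (Set.singleton_subset_iff.2 hxm)
      have h1 := dim_sup_span_succ_le (a ⊔ p) x hx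
      have ha' : a ⊔ Ideal.span {x} ≠ ⊤ := ne_top_of_le_max (sup_le (le_maximalIdeal ha) hX)
      have e1 : a ⊔ Ideal.span {x} ⊔ p = a ⊔ p ⊔ Ideal.span {x} := sup_right_comm _ _ _
      obtain ⟨d1, hd1⟩ := exists_nat_dim (a ⊔ p ⊔ Ideal.span {x})
        (ne_top_of_le_max (sup_le (sup_le (le_maximalIdeal ha) (le_maximalIdeal hp.ne_top)) hX))
      rw [hd1] at h1
      have h3 : d1 + 1 ≤ δ + 1 := by exact_mod_cast h1.trans hdim
      have key := ih (a ⊔ Ideal.span {x}) p (e + 1) hp ha'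
        (by rw [e1, hd1]; exact_mod_cast (by omega : d1 ≤ δ)) (cdLE_sup_span a x e hk)
      rw [show e + (δ + 1) = e + 1 + δ by omega]
      exact key

end cd

section main

variable {R : Type u} [CommRing R] [IsNoetherianRing R] [IsLocalRing R]

/-- from a closed subset of `Spec (R/a)` with nonempty non-connected complement to a pair of
ideals of `R` to which Faltings' connectedness theorem applies. -/
theorem exists_pair (a : Ideal R) (ha : a ≠ ⊤) (Z : Set (PrimeSpectrum (R ⧸ a)))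
    (hZ : IsClosed Z) (hne : (Zᶜ).Nonempty) (hconn : ¬ IsConnected Zᶜ) :
    ∃ 𝔟 𝔠 : Ideal R, 𝔟 ≠ ⊤ ∧ 𝔠 ≠ ⊤ ∧
      ringKrullDim (R ⧸ (𝔟 ⊔ 𝔠)) < min (ringKrullDim (R ⧸ 𝔟)) (ringKrullDim (R ⧸ 𝔠)) ∧
      (𝔟 ⊓ 𝔠).radical = a.radical ∧ ringKrullDim (R ⧸ (𝔟 ⊔ 𝔠)) ≤ topologicalKrullDim Z := by
  classical
  haveI : Nontrivial (R ⧸ a) := Ideal.Quotient.nontrivial_iff.2 ha
  haveI : IsLocalRing (R ⧸ a) :=
    IsLocalRing.of_surjective' (Ideal.Quotient.mk a) Ideal.Quotient.mk_surjective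
  have hpre : ¬ IsPreconnected Zᶜ := fun h => hconn ⟨hne, h⟩
  unfold IsPreconnected at hpre
  push_neg at hpre
  obtain ⟨u, v, hu, hv, huv, ⟨y0, hy0Z, hy0u⟩, ⟨y1, hy1Z, hy1v⟩, hdisj⟩ := hpre
  have hO12 : ∀ x, x ∈ Zᶜ ∩ u → x ∈ Zᶜ ∩ v → False := by
    intro x h1 h2
    have hmem : x ∈ Zᶜ ∩ (u ∩ v) := ⟨h1.1, h1.2, h2.2⟩
    first
      | (rw [hdisj] at hmem; exact hmem)
      | exact hdisj ⟨x, hmem⟩
  have hcov : ∀ x, x ∉ Z → x ∈ Zᶜ ∩ u ∨ x ∈ Zᶜ ∩ v := by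
    intro x hx
    rcases huv hx with h | h
    · exact Or.inl ⟨hx, h⟩
    · exact Or.inr ⟨hx, h⟩
  obtain ⟨IA, IB, hIA, hIB, hinf, hsubZ, hltA, hltB⟩ :=
    exists_ideals_of_opens Z (Zᶜ ∩ u) (Zᶜ ∩ v) (hZ.isOpen_compl.inter hu)
      (hZ.isOpen_compl.inter hv) hO12 ⟨y0, hy0Z, hy0u⟩ ⟨y1, hy1Z, hy1v⟩ hcov
  have hsurj : Function.Surjective (Ideal.Quotient.mk a) := Ideal.Quotient.mk_surjective
  have hker : ∀ I : Ideal (R ⧸ a), a ≤ I.comap (Ideal.Quotient.mk a) := by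
    intro I x hx
    rw [Ideal.mem_comap, Ideal.Quotient.eq_zero_iff_mem.2 hx]
    exact I.zero_mem
  have hdimX : ∀ X : Ideal R, a ≤ X →
      ringKrullDim ((R ⧸ a) ⧸ X.map (Ideal.Quotient.mk a)) = ringKrullDim (R ⧸ X) := by
    intro X haX
    rw [ringKrullDim_eq_of_ringEquiv (DoubleQuot.quotQuotEquivQuotSup a X), sup_eq_right.2 haX]
  obtain ⟨𝔟, h𝔟⟩ : ∃ 𝔟 : Ideal R, 𝔟 = IA.comap (Ideal.Quotient.mk a) := ⟨_, rfl⟩
  obtain ⟨𝔠, h𝔠⟩ : ∃ 𝔠 : Ideal R, 𝔠 = IB.comap (Ideal.Quotient.mk a) := ⟨_, rfl⟩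
  have hmb : 𝔟.map (Ideal.Quotient.mk a) = IA := by
    rw [h𝔟]
    exact Ideal.map_comap_of_surjective _ hsurj IA
  have hmc : 𝔠.map (Ideal.Quotient.mk a) = IB := by
    rw [h𝔠]
    exact Ideal.map_comap_of_surjective _ hsurj IB
  have hab : a ≤ 𝔟 := by
    rw [h𝔟]
    exact hker IA
  have hac : a ≤ 𝔠 := by
    rw [h𝔠]
    exact hker IB
  have hmbc : (𝔟 ⊔ 𝔠).map (Ideal.Quotient.mk a) = IA ⊔ IB := by
    rw [Ideal.map_sup, hmb, hmc]
  have hdb : ringKrullDim (R ⧸ 𝔟) = ringKrullDim ((R ⧸ a) ⧸ IA) := by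
    rw [← hdimX 𝔟 hab, hmb]
  have hdc : ringKrullDim (R ⧸ 𝔠) = ringKrullDim ((R ⧸ a) ⧸ IB) := by
    rw [← hdimX 𝔠 hac, hmc]
  have hdbc : ringKrullDim (R ⧸ (𝔟 ⊔ 𝔠)) = ringKrullDim ((R ⧸ a) ⧸ (IA ⊔ IB)) := by
    rw [← hdimX (𝔟 ⊔ 𝔠) (hab.trans le_sup_left), hmbc]
  have hbtop : 𝔟 ≠ ⊤ := by
    intro h
    apply hIA
    rw [← hmb, h, Ideal.map_top]
  have hctop : 𝔠 ≠ ⊤ := by
    intro h
    apply hIB
    rw [← hmc, h, Ideal.map_top]
  have hlt1 : ringKrullDim (R ⧸ (𝔟 ⊔ 𝔠)) < ringKrullDim (R ⧸ 𝔟) := by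
    rw [hdbc, hdb]
    exact dim_lt_of_forall_exists (IA ⊔ IB) IA hIA hltA
  have hlt2 : ringKrullDim (R ⧸ (𝔟 ⊔ 𝔠)) < ringKrullDim (R ⧸ 𝔠) := by
    rw [hdbc, hdc]
    exact dim_lt_of_forall_exists (IA ⊔ IB) IB hIB hltB
  have hrad : (𝔟 ⊓ 𝔠).radical = a.radical := by
    apply le_antisymm
    · rw [Ideal.radical_le_radical_iff]
      have h1 : 𝔟 ⊓ 𝔠 = (IA ⊓ IB).comap (Ideal.Quotient.mk a) := by
        rw [h𝔟, h𝔠, Ideal.comap_inf]
      rw [h1]
      refine (Ideal.comap_mono hinf).trans ?_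
      rw [Ideal.comap_radical, ← RingHom.ker_eq_comap_bot, Ideal.mk_ker]
    · exact Ideal.radical_mono (le_inf hab hac)
  have hdZ : ringKrullDim (R ⧸ (𝔟 ⊔ 𝔠)) ≤ topologicalKrullDim Z := by
    rw [hdbc, ← Groth.Agent.Lib.Helper6.ConnDim2.dim_zeroLocus]
    exact Groth.Agent.Lib.Helper6.ConnDim.dim_mono hsubZ
  exact ⟨𝔟, 𝔠, hbtop, hctop, lt_min hlt1 hlt2, hrad, hdZ⟩

variable [IsAdicComplete (maximalIdeal R) R]

/-- **Grothendieck's connectedness theorem** with the cohomological dimension. -/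
theorem main_cd (a : Ideal R) (ha : a ≠ ⊤) (e : ℕ) (he : LocCoh.CdLE R a e)
    (Z : Set (PrimeSpectrum (R ⧸ a))) (hZ : IsClosed Z) (hconn : ¬ IsConnected Zᶜ) :
    min (LocCoh.connDim (PrimeSpectrum R) + 1) (LocCoh.subdim (PrimeSpectrum R)) ≤
      topologicalKrullDim Z + ((e : WithBot ℕ∞) + 1) := by
  by_cases hne : (Zᶜ).Nonempty
  · obtain ⟨𝔟, 𝔠, hbtop, hctop, hlt, hrad, hdZ⟩ := exists_pair a ha Z hZ hne hconn
    have hk : LocCoh.CdLE R (𝔟 ⊓ 𝔠) e := cdLE_of_radical_eq hrad e he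
    have h669 := Groth.Agent.S11669.result R 𝔟 𝔠 hbtop hctop hlt e hk
    refine h669.trans ?_
    rw [add_assoc]
    exact add_le_add hdZ le_rfl
  · have hZu : Z = Set.univ := by
      rwa [Set.not_nonempty_iff_eq_empty, Set.compl_empty_iff] at hne
    subst hZu
    obtain ⟨p, hp, -⟩ := Ideal.exists_minimalPrimes_le (bot_le : (⊥ : Ideal R) ≤ maximalIdeal R)
    have hpp : p.IsPrime := hp.1.1
    have h1 : LocCoh.subdim (PrimeSpectrum R) ≤ ringKrullDim (R ⧸ p) := subdim_le p hp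
    obtain ⟨dA, hdA⟩ := exists_nat_dim a ha
    have h2 : ringKrullDim (R ⧸ (a ⊔ p)) ≤ (dA : WithBot ℕ∞) := by
      rw [← hdA]
      exact dim_le_of_le le_sup_left
    have h3 := dim_le_cd_add dA a p e hpp ha h2 he
    rw [dim_univ, hdA]
    refine (min_le_right _ _).trans (h1.trans (h3.trans ?_))
    have h4 : ((e + dA : ℕ) : WithBot ℕ∞) ≤ ((dA + (e + 1) : ℕ) : WithBot ℕ∞) := by
      exact_mod_cast (by omega : e + dA ≤ dA + (e + 1))
    refine h4.trans (le_of_eq ?_)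
    rw [Nat.cast_add, Nat.cast_add, Nat.cast_one]

end main

end Groth.Agent.Lib.Helper4.Conn
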