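import Mathlib

/-!
# A constant-coefficient functional vanishing on a proper submodule modulo a maximal ideal

Sub-lemma requested by helper11 (for S12913).
-/

set_option autoImplicit false
set_option linter.unusedSectionVars false
set_option linter.unusedVariables false
set_option linter.deprecated false
set_option maxHeartbeats 800000

universe u

namespace Groth.Agent.Lib.Helper4.ConstFunctional

theorem exists_const_functional (k : Type u) [Field k] [IsAlgClosed k] (R : Type u) [CommRing R]
    (ρ : k →+* R) (hρ : ρ.FiniteType) (M : ℕ) (W : Submodule R (Fin M → R)) (hW : W ≠ ⊤) :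
    ∃ (a : Fin M → k) (I : Ideal R), a ≠ 0 ∧ I ≠ ⊤ ∧ ∀ w ∈ W, ∑ i, ρ (a i) * w i ∈ I := by
  classical
  have : Nontrivial ((Fin M → R) ⧸ W) := Submodule.Quotient.nontrivial_iff.mpr hW
  obtain ⟨I, f, hI, hf⟩ := Module.exists_surjective_quotient_of_finite R ((Fin M → R) ⧸ W)
  obtain ⟨m, hm, hIm⟩ := Ideal.exists_le_maximal I hI
  -- the functional
  let g : (Fin M → R) →ₗ[R] (R ⧸ m) :=
    (Submodule.mapQ I m LinearMap.id hIm).comp (f.comp W.mkQ)
  have hgW : ∀ w ∈ W, g w = 0 := by
    intro w hw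
    have h0 : W.mkQ w = 0 := by
      rw [Submodule.mkQ_apply]
      exact (Submodule.Quotient.mk_eq_zero W).mpr hw
    show (Submodule.mapQ I m LinearMap.id hIm) (f (W.mkQ w)) = 0
    rw [h0, map_zero, map_zero]
  -- g hits 1
  obtain ⟨q, hq⟩ := hf (Submodule.Quotient.mk (1 : R))
  obtain ⟨x₀, hx₀⟩ := W.mkQ_surjective q
  have hg1 : g x₀ = 1 := by
    show (Submodule.mapQ I m LinearMap.id hIm) (f (W.mkQ x₀)) = 1
    rw [hx₀, hq, Submodule.mapQ_apply]
    rfl
  -- residue field = k
  letI : Field (R ⧸ m) := Ideal.Quotient.field m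
  let φ : k →+* (R ⧸ m) := (Ideal.Quotient.mk m).comp ρ
  have hφ : φ.FiniteType :=
    (RingHom.FiniteType.of_surjective _ Ideal.Quotient.mk_surjective).comp hρ
  letI : Algebra k (R ⧸ m) := φ.toAlgebra
  have : Algebra.FiniteType k (R ⧸ m) := hφ
  have : Module.Finite k (R ⧸ m) := finite_of_finite_type_of_isJacobsonRing k (R ⧸ m)
  have hsurj : Function.Surjective (algebraMap k (R ⧸ m)) :=
    (IsAlgClosed.algebraMap_bijective_of_isIntegral (k := k) (K := R ⧸ m)).2
  have hsurj' : ∀ y : R ⧸ m, ∃ c : k, Ideal.Quotient.mk m (ρ c) = y := fun y => by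
    obtain ⟨c, hc⟩ := hsurj y
    exact ⟨c, hc⟩
  choose a ha using fun i : Fin M => hsurj' (g fun j => if i = j then 1 else 0)
  have key : ∀ x : Fin M → R, g x = Ideal.Quotient.mk m (∑ i, ρ (a i) * x i) := by
    intro x
    rw [LinearMap.pi_apply_eq_sum_univ g x, map_sum]
    refine Finset.sum_congr rfl fun i _ => ?_
    rw [← ha i, map_mul, mul_comm, Algebra.smul_def]
    rfl
  refine ⟨a, m, ?_, hm.ne_top, ?_⟩
  · intro h0
    have : g x₀ = 0 := by
      rw [key x₀, h0]
      simp
    rw [hg1] at this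
    exact one_ne_zero this
  · intro w hw
    have := hgW w hw
    rw [key w] at this
    exact Ideal.Quotient.eq_zero_iff_mem.mp this

end Groth.Agent.Lib.Helper4.ConstFunctional
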