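import Groth.Agent.Lib.Helper4.CubPtC

/-!
# Pfaffian representations of cubic surfaces through five points in general position
-/

set_option autoImplicit false
set_option linter.style.haveILetI false
set_option linter.unusedSectionVars false
set_option linter.unusedVariables false
set_option linter.unusedSimpArgs false
set_option linter.unusedTactic false
set_option linter.unreachableTactic false
set_option linter.deprecated false
set_option maxHeartbeats 4000000
set_option maxSynthPendingDepth 3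

universe u

open Module Submodule NodCub SmCub TPt MvPolynomial Matrix

namespace CubPt

/-- The determinant of a bordered alternating matrix is the square of its Pfaffian
(for the specific 5×5 alternating matrix whose Pfaffians cut out five points). -/
theorem pf_det {R : Type*} [CommRing R] (x y z w l1 l2 l3 l4 l5 : R) :
    Matrix.det !![0, x, z, 0, -x, l1; -x, 0, 0, w, x, l2; -z, 0, 0, y, y, l3;
      0, -w, -y, 0, y, l4; x, -x, -y, -y, 0, l5; -l1, -l2, -l3, -l4, -l5, 0] =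
    (l1 * (x * y - w * y) - l2 * (y * z - x * y) + l3 * (x * y - x * w) - l4 * (x * y - x * z)
      + l5 * (x * y - z * w)) ^ 2 := by
  simp [Matrix.det_succ_row_zero, Fin.sum_univ_succ, Fin.succAbove]
  ring

variable {k : Type u} [Field k]

/-- a linear combination of four linear forms -/
noncomputable def lin4 (c0 c1 c2 c3 : k) (x y z w : MvPolynomial (Fin 4) k) :
    MvPolynomial (Fin 4) k := C c0 * x + C c1 * y + C c2 * z + C c3 * w

lemma lin4_homog (c0 c1 c2 c3 : k) {x y z w : MvPolynomial (Fin 4) k} (hx : x.IsHomogeneous 1)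
    (hy : y.IsHomogeneous 1) (hz : z.IsHomogeneous 1) (hw : w.IsHomogeneous 1) :
    (lin4 c0 c1 c2 c3 x y z w).IsHomogeneous 1 := by
  have h : ∀ (c : k) {q : MvPolynomial (Fin 4) k}, q.IsHomogeneous 1 →
      (C c * q).IsHomogeneous 1 := by
    intro c q hq
    have := (isHomogeneous_C (Fin 4) c).mul hq
    simpa using this
  exact (((h c0 hx).add (h c1 hy)).add (h c2 hz)).add (h c3 hw)

lemma lin4_eval (c0 c1 c2 c3 : k) (x y z w : MvPolynomial (Fin 4) k) (v : Fin 4 → k) :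
    eval v (lin4 c0 c1 c2 c3 x y z w) =
      c0 * eval v x + c1 * eval v y + c2 * eval v z + c3 * eval v w := by
  simp only [lin4, map_add, map_mul, eval_C]

lemma exists_basis_of_five [CharZero k] (F : MvPolynomial (Fin 4) k) (hF : F.IsHomogeneous 3)
    (p : Fin 5 → (Fin 4 → k)) (hp : ∀ j : Fin 5, eval (p j) F = 0)
    (hli : ∀ j : Fin 5, LinearIndependent k (fun i : Fin 4 => p (j.succAbove i))) :
    ∃ g0 g1 g2 g3 : Fin 4 → k, LI4 k g0 g1 g2 g3 ∧ eval g0 F = 0 ∧ eval g1 F = 0 ∧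
      eval g2 F = 0 ∧ eval g3 F = 0 ∧ eval (g0 + g1 + g2 + g3) F = 0 := by
  have e : ∀ u, eval u F = (triOf F).T u u u := fun u => NodCub.Tri_self hF u
  have hsc : ∀ (c : k) (u : Fin 4 → k), eval u F = 0 → eval (c • u) F = 0 := by
    intro c u hu
    rw [e] at hu ⊢
    rw [SymTri.smul1, SymTri.smul2, SymTri.smul3, hu]; ring
  have l0 : LI4 k (p 1) (p 2) (p 3) (p 4) := by
    rw [li4_iff]
    have : (fun i : Fin 4 => p ((0 : Fin 5).succAbove i)) = ![p 1, p 2, p 3, p 4] := by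
      funext i; fin_cases i <;> rfl
    rw [← this]; exact hli 0
  have l1 : LI4 k (p 0) (p 2) (p 3) (p 4) := by
    rw [li4_iff]
    have : (fun i : Fin 4 => p ((1 : Fin 5).succAbove i)) = ![p 0, p 2, p 3, p 4] := by
      funext i; fin_cases i <;> rfl
    rw [← this]; exact hli 1
  have l2 : LI4 k (p 0) (p 1) (p 3) (p 4) := by
    rw [li4_iff]
    have : (fun i : Fin 4 => p ((2 : Fin 5).succAbove i)) = ![p 0, p 1, p 3, p 4] := by
      funext i; fin_cases i <;> rfl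
    rw [← this]; exact hli 2
  have l3 : LI4 k (p 0) (p 1) (p 2) (p 4) := by
    rw [li4_iff]
    have : (fun i : Fin 4 => p ((3 : Fin 5).succAbove i)) = ![p 0, p 1, p 2, p 4] := by
      funext i; fin_cases i <;> rfl
    rw [← this]; exact hli 3
  have l4 : LI4 k (p 0) (p 1) (p 2) (p 3) := by
    rw [li4_iff]
    have : (fun i : Fin 4 => p ((4 : Fin 5).succAbove i)) = ![p 0, p 1, p 2, p 3] := by
      funext i; fin_cases i <;> rfl
    rw [← this]; exact hli 4
  obtain ⟨μ0, μ1, μ2, μ3, hμ⟩ := l0.span (by simp) (p 0)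
  have hμ0 : μ0 ≠ 0 := by
    rintro rfl
    have := l1 1 (-μ1) (-μ2) (-μ3) (by rw [hμ]; module)
    exact one_ne_zero this.1
  have hμ1 : μ1 ≠ 0 := by
    rintro rfl
    have := l2 1 (-μ0) (-μ2) (-μ3) (by rw [hμ]; module)
    exact one_ne_zero this.1
  have hμ2 : μ2 ≠ 0 := by
    rintro rfl
    have := l3 1 (-μ0) (-μ1) (-μ3) (by rw [hμ]; module)
    exact one_ne_zero this.1
  have hμ3 : μ3 ≠ 0 := by
    rintro rfl
    have := l4 1 (-μ0) (-μ1) (-μ2) (by rw [hμ]; module)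
    exact one_ne_zero this.1
  refine ⟨μ0 • p 1, μ1 • p 2, μ2 • p 3, μ3 • p 4, ?_, hsc _ _ (hp 1), hsc _ _ (hp 2),
    hsc _ _ (hp 3), hsc _ _ (hp 4), by rw [← hμ]; exact hp 0⟩
  intro α β γ δ h
  obtain ⟨h1, h2, h3, h4⟩ := l0 (α * μ0) (β * μ1) (γ * μ2) (δ * μ3) (by
    rw [← h]; simp only [mul_smul])
  exact ⟨(mul_eq_zero.mp h1).resolve_right hμ0, (mul_eq_zero.mp h2).resolve_right hμ1,
    (mul_eq_zero.mp h3).resolve_right hμ2, (mul_eq_zero.mp h4).resolve_right hμ3⟩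

/-- coefficient of `u²v` -/
def cA (S : SymTri k (Fin 4 → k)) (u v : Fin 4 → k) : k := 3 * S.T u u v
/-- coefficient of `uvw` -/
def cB (S : SymTri k (Fin 4 → k)) (u v w : Fin 4 → k) : k := 6 * S.T u v w

theorem pfaffian_of_basis [CharZero k] (F : MvPolynomial (Fin 4) k) (hF : F.IsHomogeneous 3)
    (g0 g1 g2 g3 : Fin 4 → k) (hli : LI4 k g0 g1 g2 g3) (h0 : eval g0 F = 0)
    (h1 : eval g1 F = 0) (h2 : eval g2 F = 0) (h3 : eval g3 F = 0)
    (hs : eval (g0 + g1 + g2 + g3) F = 0) :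
    ∃ M : Matrix (Fin 6) (Fin 6) (MvPolynomial (Fin 4) k), (∀ i j, (M i j).IsHomogeneous 1) ∧
      M.transpose = -M ∧ (∀ i, M i i = 0) ∧
      ∃ c : k, c ≠ 0 ∧ M.det = C c * F ^ 2 := by
  haveI : Infinite k := Infinite.of_injective (Nat.cast : ℕ → k) Nat.cast_injective
  have e : ∀ u, eval u F = (triOf F).T u u u := fun u => NodCub.Tri_self hF u
  rw [e] at h0 h1 h2 h3 hs
  obtain ⟨f0, f1, f2, f3, hf⟩ := LI4.coords hli
  have hx := polyOf_homog f0
  have hy := polyOf_homog f1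
  have hz := polyOf_homog f2
  have hw := polyOf_homog f3
  obtain ⟨l1, hl1d⟩ : ∃ l1, l1 = lin4
    (-(cA (triOf F) g3 g0 + cA (triOf F) g3 g1 + cA (triOf F) g3 g2 + cB (triOf F) g0 g1 g3))
    (-(cA (triOf F) g1 g3)) 0 (-(cA (triOf F) g3 g1)) (polyOf f0) (polyOf f1) (polyOf f2)
    (polyOf f3) := ⟨_, rfl⟩
  obtain ⟨l2, hl2d⟩ : ∃ l2, l2 = lin4
    (cA (triOf F) g0 g1 + cA (triOf F) g0 g2 + cA (triOf F) g0 g3 + cA (triOf F) g3 g0 +
      cA (triOf F) g3 g1 + cA (triOf F) g3 g2 + cB (triOf F) g0 g1 g3 + cB (triOf F) g0 g2 g3)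
    (-(cA (triOf F) g1 g2)) (-(cA (triOf F) g2 g1)) 0 (polyOf f0) (polyOf f1) (polyOf f2)
    (polyOf f3) := ⟨_, rfl⟩
  obtain ⟨l3, hl3d⟩ : ∃ l3, l3 = lin4 (-(cA (triOf F) g0 g3)) 0 0 (-(cA (triOf F) g3 g0))
    (polyOf f0) (polyOf f1) (polyOf f2) (polyOf f3) := ⟨_, rfl⟩
  obtain ⟨l4, hl4d⟩ : ∃ l4, l4 = lin4 (cA (triOf F) g0 g2)
    (-(cA (triOf F) g1 g0 + cA (triOf F) g1 g2 + cA (triOf F) g1 g3 + cB (triOf F) g1 g2 g3))
    (cA (triOf F) g2 g0) 0 (polyOf f0) (polyOf f1) (polyOf f2) (polyOf f3) := ⟨_, rfl⟩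
  obtain ⟨l5, hl5d⟩ : ∃ l5, l5 = lin4 (-(cB (triOf F) g0 g2 g3)) (-(cB (triOf F) g1 g2 g3))
    (-(cA (triOf F) g2 g3)) (-(cA (triOf F) g3 g2)) (polyOf f0) (polyOf f1) (polyOf f2)
    (polyOf f3) := ⟨_, rfl⟩
  have hl1 : l1.IsHomogeneous 1 := by rw [hl1d]; exact lin4_homog _ _ _ _ hx hy hz hw
  have hl2 : l2.IsHomogeneous 1 := by rw [hl2d]; exact lin4_homog _ _ _ _ hx hy hz hw
  have hl3 : l3.IsHomogeneous 1 := by rw [hl3d]; exact lin4_homog _ _ _ _ hx hy hz hw
  have hl4 : l4.IsHomogeneous 1 := by rw [hl4d]; exact lin4_homog _ _ _ _ hx hy hz hw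
  have hl5 : l5.IsHomogeneous 1 := by rw [hl5d]; exact lin4_homog _ _ _ _ hx hy hz hw
  have hzero : (0 : MvPolynomial (Fin 4) k).IsHomogeneous 1 := isHomogeneous_zero _ _ _
  refine ⟨!![0, polyOf f0, polyOf f2, 0, -polyOf f0, l1;
      -polyOf f0, 0, 0, polyOf f3, polyOf f0, l2;
      -polyOf f2, 0, 0, polyOf f1, polyOf f1, l3;
      0, -polyOf f3, -polyOf f1, 0, polyOf f1, l4;
      polyOf f0, -polyOf f0, -polyOf f1, -polyOf f1, 0, l5;
      -l1, -l2, -l3, -l4, -l5, 0], ?_, ?_, ?_, 1, one_ne_zero, ?_⟩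
  · intro i j
    fin_cases i <;> fin_cases j <;>
    first
    | exact hzero
    | exact hx
    | exact hx.neg
    | exact hy
    | exact hy.neg
    | exact hz
    | exact hz.neg
    | exact hw
    | exact hw.neg
    | exact hl1
    | exact hl1.neg
    | exact hl2
    | exact hl2.neg
    | exact hl3
    | exact hl3.neg
    | exact hl4
    | exact hl4.neg
    | exact hl5
    | exact hl5.neg
  · ext i j
    fin_cases i <;> fin_cases j <;> simp [Matrix.transpose_apply, Matrix.neg_apply]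
  · intro i
    fin_cases i <;> rfl
  · rw [pf_det, C_1, one_mul, hl1d, hl2d, hl3d, hl4d, hl5d]
    congr 1
    apply MvPolynomial.funext
    intro v
    simp only [map_add, map_sub, map_mul, lin4_eval, polyOf_eval]
    rw [e v]
    have hv := hf v
    generalize f0 v = a0 at hv ⊢
    generalize f1 v = a1 at hv ⊢
    generalize f2 v = a2 at hv ⊢
    generalize f3 v = a3 at hv ⊢
    subst hv
    simp only [cA, cB]
    st_norm at hs ⊢
    st_sort at h0 h1 h2 h3
    linear_combination -((a0 ^ 3 - a0 * a1 * a2) * h0 + (a1 ^ 3 - a0 * a1 * a2) * h1 +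
      (a2 ^ 3 - a0 * a1 * a2) * h2 + (a3 ^ 3 - a0 * a1 * a2) * h3 + a0 * a1 * a2 * hs)

end CubPt
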