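import Groth.Agent.Lib.Helper4.TPtE

/-!
# Rational points on cubic surfaces, part A: the tangent-section curve over the ground field,
and the "rational points are not contained in finitely many planes" lemma at a smooth point
-/

set_option autoImplicit false
set_option linter.style.haveILetI false
set_option linter.unusedSectionVars false
set_option linter.unusedVariables false
set_option linter.unusedSimpArgs false
set_option linter.unusedTactic false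
set_option linter.unreachableTactic false
set_option linter.deprecated false
set_option maxHeartbeats 1600000
set_option maxSynthPendingDepth 3

universe u

open Module Submodule NodCub SmCub TPt

namespace CubPt

variable {k : Type u} [Field k]

lemma finite_roots_cubic (A B C D : k) (h : ¬ (A = 0 ∧ B = 0 ∧ C = 0 ∧ D = 0)) :
    {l : k | A + B * l + C * l ^ 2 + D * l ^ 3 = 0}.Finite := by
  have hP : (Polynomial.C A + Polynomial.C B * Polynomial.X + Polynomial.C C * Polynomial.X ^ 2 +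
      Polynomial.C D * Polynomial.X ^ 3 : Polynomial k) ≠ 0 := by
    intro h0
    apply h
    have c0 := congrArg (fun q => Polynomial.coeff q 0) h0
    have c1 := congrArg (fun q => Polynomial.coeff q 1) h0
    have c2 := congrArg (fun q => Polynomial.coeff q 2) h0
    have c3 := congrArg (fun q => Polynomial.coeff q 3) h0
    simp [Polynomial.coeff_X, Polynomial.coeff_C, Polynomial.coeff_X_pow] at c0 c1 c2 c3
    exact ⟨c0, c1, c2, c3⟩
  refine (Polynomial.finite_setOfPred_isRoot hP).subset fun l hl => ?_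
  have hl' : A + B * l + C * l ^ 2 + D * l ^ 3 = 0 := hl
  show Polynomial.IsRoot _ l
  simp only [Polynomial.IsRoot, Polynomial.eval_add, Polynomial.eval_mul, Polynomial.eval_C,
    Polynomial.eval_X, Polynomial.eval_pow]
  exact hl'

lemma cl_alg [CharZero k] (q0 q1 q2 c0 c1 c2 c3 g0 g1 g2 : k)
    (hnRk : ¬ Rk (3 * q0) (6 * q1) (3 * q2) c0 (3 * c1) (3 * c2) c3)
    (hg : ¬ (g0 = 0 ∧ g1 = 0 ∧ g2 = 0)) :
    {l : k | -(c0 + 3 * c1 * l + 3 * c2 * l ^ 2 + c3 * l ^ 3) * g0 +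
      3 * (q0 + 2 * q1 * l + q2 * l ^ 2) * (g1 + l * g2) = 0}.Finite := by
  have h3 : (3 : k) ≠ 0 := three_ne_zero
  have h6 : (6 : k) ≠ 0 := by norm_num
  have key : ¬ ((-c0 * g0 + 3 * q0 * g1 = 0) ∧ (-3 * c1 * g0 + 6 * q1 * g1 + 3 * q0 * g2 = 0) ∧
      (-3 * c2 * g0 + 3 * q2 * g1 + 6 * q1 * g2 = 0) ∧ (-c3 * g0 + 3 * q2 * g2 = 0)) := by
    rintro ⟨hA, hB, hC, hD⟩
    by_cases h0 : g0 = 0
    · subst h0
      by_cases h1 : g1 = 0
      · subst h1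
        by_cases h2 : g2 = 0
        · exact hg ⟨rfl, rfl, h2⟩
        · have e0 : q0 = 0 := by
            have : g2 * q0 = 0 := by linear_combination (1 / 3 : k) * hB
            exact (mul_eq_zero.mp this).resolve_left h2
          have e1 : q1 = 0 := by
            have : g2 * q1 = 0 := by linear_combination (1 / 6 : k) * hC
            exact (mul_eq_zero.mp this).resolve_left h2
          have e2 : q2 = 0 := by
            have : g2 * q2 = 0 := by linear_combination (1 / 3 : k) * hD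
            exact (mul_eq_zero.mp this).resolve_left h2
          apply hnRk; rw [e0, e1, e2]; simp only [mul_zero]; exact Rk_of_zero _ _ _ _
      · have e0 : q0 = 0 := by
          have : g1 * q0 = 0 := by linear_combination (1 / 3 : k) * hA
          exact (mul_eq_zero.mp this).resolve_left h1
        have e1 : q1 = 0 := by
          have : g1 * q1 = 0 := by linear_combination (1 / 6 : k) * hB - (1 / 2 : k) * g2 * e0
          exact (mul_eq_zero.mp this).resolve_left h1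
        have e2 : q2 = 0 := by
          have : g1 * q2 = 0 := by linear_combination (1 / 3 : k) * hC - 2 * g2 * e1
          exact (mul_eq_zero.mp this).resolve_left h1
        apply hnRk; rw [e0, e1, e2]; simp only [mul_zero]; exact Rk_of_zero _ _ _ _
    · apply hnRk
      have e0 : c0 = g1 / g0 * (3 * q0) := by field_simp; linear_combination -hA
      have e1 : 3 * c1 = g1 / g0 * (6 * q1) + g2 / g0 * (3 * q0) := by
        field_simp; linear_combination -hB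
      have e2 : 3 * c2 = g1 / g0 * (3 * q2) + g2 / g0 * (6 * q1) := by
        field_simp; linear_combination -hC
      have e3 : c3 = g2 / g0 * (3 * q2) := by field_simp; linear_combination -hD
      rw [e0, e1, e2, e3]
      exact Rk_of_mult _ _ _ _ _
  refine (finite_roots_cubic _ _ _ _ key).subset fun l hl => ?_
  have hl' : -(c0 + 3 * c1 * l + 3 * c2 * l ^ 2 + c3 * l ^ 3) * g0 +
      3 * (q0 + 2 * q1 * l + q2 * l ^ 2) * (g1 + l * g2) = 0 := hl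
  show _ + _ * l + _ * l ^ 2 + _ * l ^ 3 = 0
  linear_combination hl'

variable (S : SymTri k (Fin 4 → k))

/-- the binary quadratic `T(p, w, w)` on `w = e₁ + l e₂`. -/
def qq (p e₁ e₂ : Fin 4 → k) (l : k) : k :=
  S.T p e₁ e₁ + 2 * S.T p e₁ e₂ * l + S.T p e₂ e₂ * l ^ 2

/-- the binary cubic `T(w, w, w)` on `w = e₁ + l e₂`. -/
def cc (e₁ e₂ : Fin 4 → k) (l : k) : k :=
  S.T e₁ e₁ e₁ + 3 * S.T e₁ e₁ e₂ * l + 3 * S.T e₁ e₂ e₂ * l ^ 2 + S.T e₂ e₂ e₂ * l ^ 3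

/-- the rational parametrisation of the tangent section at `p`. -/
def cur (p e₁ e₂ : Fin 4 → k) (l : k) : Fin 4 → k :=
  (-(cc S e₁ e₂ l)) • p + (3 * qq S p e₁ e₂ l) • (e₁ + l • e₂)

lemma plane_expand (p e₁ e₂ : Fin 4 → k) (hpp : S.T p p p = 0) (h1 : S.T p p e₁ = 0)
    (h2 : S.T p p e₂ = 0) (α β l : k) :
    S.T (α • p + β • (e₁ + l • e₂)) (α • p + β • (e₁ + l • e₂)) (α • p + β • (e₁ + l • e₂)) =
      β ^ 2 * (3 * α * qq S p e₁ e₂ l + β * cc S e₁ e₂ l) := by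
  simp only [qq, cc]
  st_norm
  st_sort at hpp h1 h2
  linear_combination α ^ 3 * hpp + 3 * α ^ 2 * β * h1 + 3 * α ^ 2 * β * l * h2

lemma pol_expand (p e₁ e₂ : Fin 4 → k) (hpp : S.T p p p = 0) (h1 : S.T p p e₁ = 0)
    (h2 : S.T p p e₂ = 0) (α β l : k) :
    S.T (α • p + β • (e₁ + l • e₂)) (α • p + β • (e₁ + l • e₂)) p =
      β ^ 2 * qq S p e₁ e₂ l := by
  simp only [qq]
  st_norm
  st_sort at hpp h1 h2
  linear_combination α ^ 2 * hpp + 2 * α * β * h1 + 2 * α * β * l * h2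

lemma cur_on (p e₁ e₂ : Fin 4 → k) (hpp : S.T p p p = 0) (h1 : S.T p p e₁ = 0)
    (h2 : S.T p p e₂ = 0) (l : k) :
    S.T (cur S p e₁ e₂ l) (cur S p e₁ e₂ l) (cur S p e₁ e₂ l) = 0 := by
  unfold cur; rw [plane_expand S p e₁ e₂ hpp h1 h2]; ring

lemma cur_pol (p e₁ e₂ : Fin 4 → k) (hpp : S.T p p p = 0) (h1 : S.T p p e₁ = 0)
    (h2 : S.T p p e₂ = 0) (l : k) :
    S.T (cur S p e₁ e₂ l) (cur S p e₁ e₂ l) p = 9 * qq S p e₁ e₂ l ^ 3 := by
  unfold cur; rw [pol_expand S p e₁ e₂ hpp h1 h2]; ring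

lemma cur_tan (p e₁ e₂ : Fin 4 → k) (hpp : S.T p p p = 0) (h1 : S.T p p e₁ = 0)
    (h2 : S.T p p e₂ = 0) (l : k) : S.T p p (cur S p e₁ e₂ l) = 0 := by
  unfold cur
  rw [S.add3, S.smul3, S.smul3, S.add3, S.smul3, hpp, h1, h2]; ring

lemma G_cur (p e₁ e₂ : Fin 4 → k) (G : (Fin 4 → k) →ₗ[k] k) (l : k) :
    G (cur S p e₁ e₂ l) =
      -(cc S e₁ e₂ l) * G p + 3 * qq S p e₁ e₂ l * (G e₁ + l * G e₂) := by
  unfold cur; simp only [map_add, map_smul, smul_eq_mul]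

lemma CL [CharZero k] (p e₁ e₂ : Fin 4 → k)
    (hnRk : ¬ Rk (3 * S.T p e₁ e₁) (6 * S.T p e₁ e₂) (3 * S.T p e₂ e₂) (S.T e₁ e₁ e₁)
      (3 * S.T e₁ e₁ e₂) (3 * S.T e₁ e₂ e₂) (S.T e₂ e₂ e₂))
    (G : (Fin 4 → k) →ₗ[k] k) (hG : ¬ (G p = 0 ∧ G e₁ = 0 ∧ G e₂ = 0)) :
    {l : k | G (cur S p e₁ e₂ l) = 0}.Finite := by
  refine (cl_alg _ _ _ _ _ _ _ _ _ _ hnRk hG).subset fun l hl => ?_
  have hl' : G (cur S p e₁ e₂ l) = 0 := hl
  rw [G_cur] at hl'
  simp only [qq, cc] at hl'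
  exact hl'

lemma qq_finite [CharZero k] (p e₁ e₂ : Fin 4 → k)
    (hnRk : ¬ Rk (3 * S.T p e₁ e₁) (6 * S.T p e₁ e₂) (3 * S.T p e₂ e₂) (S.T e₁ e₁ e₁)
      (3 * S.T e₁ e₁ e₂) (3 * S.T e₁ e₂ e₂) (S.T e₂ e₂ e₂)) :
    {l : k | qq S p e₁ e₂ l = 0}.Finite := by
  have key : ¬ (S.T p e₁ e₁ = 0 ∧ 2 * S.T p e₁ e₂ = 0 ∧ S.T p e₂ e₂ = 0 ∧ (0 : k) = 0) := by
    rintro ⟨z0, z1, z2, -⟩
    have z1' : S.T p e₁ e₂ = 0 := (mul_eq_zero.mp z1).resolve_left two_ne_zero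
    apply hnRk; rw [z0, z1', z2]; simp only [mul_zero]; exact Rk_of_zero _ _ _ _
  refine (finite_roots_cubic _ _ _ _ key).subset fun l hl => ?_
  have hl' : qq S p e₁ e₂ l = 0 := hl
  unfold qq at hl'
  show _ + _ * l + _ * l ^ 2 + (0 : k) * l ^ 3 = 0
  linear_combination hl'

/-- Abstract form: the rational points of the cubic are not contained in a finite union of
planes, as soon as there is a smooth rational point which is "not a T-point". -/
theorem KL_smooth [CharZero k] (nonT : (Fin 4 → k) → Prop)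
    (hRk : ∀ p e₁ e₂ n : Fin 4 → k, nonT p → LI4 k p e₁ e₂ n → S.T p p p = 0 →
      S.T p p e₁ = 0 → S.T p p e₂ = 0 → S.T p p n ≠ 0 →
      ¬ Rk (3 * S.T p e₁ e₁) (6 * S.T p e₁ e₂) (3 * S.T p e₂ e₂) (S.T e₁ e₁ e₁)
        (3 * S.T e₁ e₁ e₂) (3 * S.T e₁ e₂ e₂) (S.T e₂ e₂ e₂))
    (hfinT : ∀ p e₁ e₂ n : Fin 4 → k, nonT p → LI4 k p e₁ e₂ n → S.T p p p = 0 →
      S.T p p e₁ = 0 → S.T p p e₂ = 0 → S.T p p n ≠ 0 →
      {l : k | qq S p e₁ e₂ l ≠ 0 ∧ ¬ nonT (cur S p e₁ e₂ l)}.Finite)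
    (a : Fin 4 → k) (ha0 : a ≠ 0) (haa : S.T a a a = 0) (hsm : ∃ n, S.T a a n ≠ 0)
    (hna : nonT a) (Gs : Finset ((Fin 4 → k) →ₗ[k] k)) (hGs : ∀ G ∈ Gs, G ≠ 0) :
    ∃ x : Fin 4 → k, S.T x x x = 0 ∧ ∀ G ∈ Gs, G x ≠ 0 := by
  classical
  haveI : Infinite k := Infinite.of_injective (Nat.cast : ℕ → k) Nat.cast_injective
  by_contra hcon
  have hcon' : ∀ x : Fin 4 → k, S.T x x x = 0 → ∃ G ∈ Gs, G x = 0 := by
    intro x hx
    by_contra hno
    exact hcon ⟨x, hx, fun G hG h0 => hno ⟨G, hG, h0⟩⟩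
  obtain ⟨n, hn⟩ := hsm
  obtain ⟨e₁, e₂, hli, h1, h2⟩ := TPt.exists_initial_basis S a n ha0 haa hn
  have hRka := hRk a e₁ e₂ n hna hli haa h1 h2 hn
  have hB1 : {l : k | qq S a e₁ e₂ l = 0}.Finite := qq_finite S a e₁ e₂ hRka
  have hB2 := hfinT a e₁ e₂ n hna hli haa h1 h2 hn
  have hB3 : (⋃ G ∈ (Gs : Set ((Fin 4 → k) →ₗ[k] k)),
      {l : k | ¬ (G a = 0 ∧ G e₁ = 0 ∧ G e₂ = 0) ∧ G (cur S a e₁ e₂ l) = 0}).Finite := by
    refine Set.Finite.biUnion Gs.finite_toSet fun G _ => ?_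
    by_cases hG : G a = 0 ∧ G e₁ = 0 ∧ G e₂ = 0
    · exact Set.finite_empty.subset fun l hl => hl.1 hG
    · exact (CL S a e₁ e₂ hRka G hG).subset fun l hl => hl.2
  obtain ⟨l, hl⟩ := ((hB1.union hB2).union hB3).infinite_compl.nonempty
  have hq : qq S a e₁ e₂ l ≠ 0 := fun h => hl (Or.inl (Or.inl h))
  have hbnT : nonT (cur S a e₁ e₂ l) := by
    by_contra h; exact hl (Or.inl (Or.inr ⟨hq, h⟩))
  have hbG : ∀ G ∈ Gs, ¬ (G a = 0 ∧ G e₁ = 0 ∧ G e₂ = 0) → G (cur S a e₁ e₂ l) ≠ 0 :=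
    fun G hG hne h0 => hl (Or.inr (Set.mem_biUnion (Finset.mem_coe.mpr hG) ⟨hne, h0⟩))
  have hbb := cur_on S a e₁ e₂ haa h1 h2 l
  have hba := cur_pol S a e₁ e₂ haa h1 h2 l
  have hba' : S.T (cur S a e₁ e₂ l) (cur S a e₁ e₂ l) a ≠ 0 := by
    rw [hba]; exact mul_ne_zero (by norm_num) (pow_ne_zero 3 hq)
  have hb0 : cur S a e₁ e₂ l ≠ 0 := by
    intro h0; apply hba'; rw [h0]; exact S.zero1 _ _
  obtain ⟨f₁, f₂, hlib, hf1, hf2⟩ :=
    TPt.exists_initial_basis S (cur S a e₁ e₂ l) a hb0 hbb hba'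
  have hRkb := hRk (cur S a e₁ e₂ l) f₁ f₂ a hbnT hlib hbb hf1 hf2 hba'
  have hex : ∃ G ∈ Gs, G (cur S a e₁ e₂ l) = 0 ∧ G f₁ = 0 ∧ G f₂ = 0 := by
    by_contra hno
    have hfin : (⋃ G ∈ (Gs : Set ((Fin 4 → k) →ₗ[k] k)),
        {m : k | G (cur S (cur S a e₁ e₂ l) f₁ f₂ m) = 0}).Finite :=
      Set.Finite.biUnion Gs.finite_toSet fun G hG =>
        CL S (cur S a e₁ e₂ l) f₁ f₂ hRkb G (fun h => hno ⟨G, Finset.mem_coe.mp hG, h⟩)
    obtain ⟨m, hm⟩ := hfin.infinite_compl.nonempty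
    obtain ⟨G, hG, hGm⟩ := hcon' _ (cur_on S (cur S a e₁ e₂ l) f₁ f₂ hbb hf1 hf2 m)
    exact hm (Set.mem_biUnion (Finset.mem_coe.mpr hG) hGm)
  obtain ⟨G, hG, hGb, hGf1, hGf2⟩ := hex
  have hGa : G a = 0 := by
    by_contra hne
    exact hbG G hG (fun h => hne h.1) hGb
  apply hGs G hG
  apply LinearMap.ext
  intro x
  obtain ⟨c0, c1, c2, c3, hx⟩ := hlib.span (by simp) x
  rw [hx]
  simp [hGb, hGf1, hGf2, hGa]

end CubPt
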