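import Groth.Agent.Lib.Helper4.CubPtA

/-!
# Rational points on cubic surfaces, part B: base change to an algebraically closed field
-/

set_option autoImplicit false
set_option linter.style.haveILetI false
set_option linter.unusedSectionVars false
set_option linter.unusedVariables false
set_option linter.unusedSimpArgs false
set_option linter.unusedTactic false
set_option linter.unreachableTactic false
set_option linter.deprecated false
set_option maxHeartbeats 1600000
set_option maxSynthPendingDepth 3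

universe u

open Module Submodule NodCub SmCub TPt MvPolynomial

namespace CubPt

variable {k : Type u} [Field k] (K : Type u) [Field K] [Algebra k K]

/-- base change of a vector. -/
def iv (x : Fin 4 → k) : Fin 4 → K := fun i => algebraMap k K (x i)

lemma iv_add (x y : Fin 4 → k) : iv K (x + y) = iv K x + iv K y := by funext i; simp [iv]

lemma iv_smul (c : k) (x : Fin 4 → k) : iv K (c • x) = algebraMap k K c • iv K x := by
  funext i; simp [iv]

lemma iv_zero : iv K (0 : Fin 4 → k) = 0 := by funext i; simp [iv]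

lemma iv_injective : Function.Injective (iv K : (Fin 4 → k) → (Fin 4 → K)) := by
  intro x y h; funext i; exact (algebraMap k K).injective (congrFun h i)

lemma eval_map_iv (p : MvPolynomial (Fin 4) k) (x : Fin 4 → k) :
    eval (iv K x) (map (algebraMap k K) p) = algebraMap k K (eval x p) := by
  induction p using MvPolynomial.induction_on with
  | C a => simp
  | add p q hp hq => simp [hp, hq]
  | mul_X p i hp => simp [hp, iv]

lemma c3_map (F : MvPolynomial (Fin 4) k) (i j l : Fin 4) :
    c3 (map (algebraMap k K) F) i j l = algebraMap k K (c3 F i j l) := by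
  unfold c3
  rw [pderiv_map, pderiv_map, pderiv_map]
  have := eval_map_iv K (pderiv i (pderiv j (pderiv l F))) 0
  rw [iv_zero] at this
  exact this

lemma Tri_map (F : MvPolynomial (Fin 4) k) (u v w : Fin 4 → k) :
    Tri (map (algebraMap k K) F) (iv K u) (iv K v) (iv K w) = algebraMap k K (Tri F u v w) := by
  simp only [Tri, c3_map, iv, map_mul, map_sum, map_div₀, map_one, map_ofNat]

lemma eval_pderiv_map (F : MvPolynomial (Fin 4) k) (a : Fin 4 → k) (i : Fin 4) :
    eval (iv K a) (pderiv i (map (algebraMap k K) F)) = algebraMap k K (eval a (pderiv i F)) := by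
  rw [pderiv_map, eval_map_iv]

lemma LI4_map {x y z w : Fin 4 → k} (h : LI4 k x y z w) :
    LI4 K (iv K x) (iv K y) (iv K z) (iv K w) := by
  have hli := (li4_iff x y z w).mp h
  have hA : IsUnit (Matrix.of ![x, y, z, w] : Matrix (Fin 4) (Fin 4) k) :=
    Matrix.linearIndependent_rows_iff_isUnit.mp (by exact hli)
  have hAK : IsUnit ((algebraMap k K).mapMatrix (Matrix.of ![x, y, z, w])) := hA.map _
  have := Matrix.linearIndependent_rows_iff_isUnit.mpr hAK
  have e : ![iv K x, iv K y, iv K z, iv K w] =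
      ((algebraMap k K).mapMatrix (Matrix.of ![x, y, z, w])).row := by
    funext i
    fin_cases i <;> rfl
  rw [li4_iff, e]
  exact this

lemma Rk_map {a0 a1 a2 b0 b1 b2 b3 : k} (h : Rk a0 a1 a2 b0 b1 b2 b3) :
    Rk (algebraMap k K a0) (algebraMap k K a1) (algebraMap k K a2) (algebraMap k K b0)
      (algebraMap k K b1) (algebraMap k K b2) (algebraMap k K b3) := by
  obtain ⟨h1, h2, h3, h4⟩ := h
  refine ⟨?_, ?_, ?_, ?_⟩
  · have := congrArg (algebraMap k K) h1; simpa [m1] using this
  · have := congrArg (algebraMap k K) h2; simpa [m2] using this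
  · have := congrArg (algebraMap k K) h3; simpa [m3] using this
  · have := congrArg (algebraMap k K) h4; simpa [m4] using this

variable {K}

/-- A T-point (abstractly) is a T-point in the sense of linear forms. -/
lemma exists_forms_of_TP [CharZero K] (F : MvPolynomial (Fin 4) K) (hF : F.IsHomogeneous 3)
    (a : Fin 4 → K) (hsm : ∃ i : Fin 4, eval a (pderiv i F) ≠ 0) (hT : TP (triOf F) a) :
    ∃ L₁ L₂ L₃ : MvPolynomial (Fin 4) K, L₁.IsHomogeneous 1 ∧ L₂.IsHomogeneous 1 ∧
      L₃.IsHomogeneous 1 ∧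
      F - L₁ * L₂ * L₃ ∈ Ideal.span {∑ i : Fin 4, C (eval a (pderiv i F)) * X i} := by
  haveI : Infinite K := Infinite.of_injective (Nat.cast : ℕ → K) Nat.cast_injective
  have h3 : (3 : K) ≠ 0 := three_ne_zero
  have e : ∀ u, eval u F = (triOf F).T u u u := fun u => NodCub.Tri_self hF u
  obtain ⟨φ₁, φ₂, φ₃, hφ⟩ := hT
  refine ⟨polyOf φ₁, polyOf φ₂, polyOf φ₃, polyOf_homog _, polyOf_homog _, polyOf_homog _, ?_⟩
  rw [Ideal.mem_span_singleton]
  apply lin_dvd_of_vanish (fun i => eval a (pderiv i F))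
  · intro h0
    obtain ⟨i, hi⟩ := hsm
    exact hi (congrFun h0 i)
  · intro x hx
    have hT0 : (triOf F).T a a x = 0 := by
      have := NodCub.Tri_deriv hF a x
      have h' : (3 : K) * (triOf F).T a a x = 0 := by
        show (3 : K) * NodCub.Tri F a a x = 0
        rw [← this, ← hx]
        exact Finset.sum_congr rfl (fun i _ => mul_comm _ _)
      exact (mul_eq_zero.mp h').resolve_left h3
    rw [map_sub, map_mul, map_mul, polyOf_eval, polyOf_eval, polyOf_eval, e, hφ x hT0, sub_self]

variable (K)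

lemma notRk_of_nonT [IsAlgClosed K] [CharZero k] [CharZero K] (F : MvPolynomial (Fin 4) k)
    (p e₁ e₂ n : Fin 4 → k)
    (hTP : ¬ TP (triOf (map (algebraMap k K) F)) (iv K p)) (hli : LI4 k p e₁ e₂ n)
    (hpp : (triOf F).T p p p = 0) (h1 : (triOf F).T p p e₁ = 0) (h2 : (triOf F).T p p e₂ = 0)
    (hn : (triOf F).T p p n ≠ 0) :
    ¬ Rk (3 * (triOf F).T p e₁ e₁) (6 * (triOf F).T p e₁ e₂) (3 * (triOf F).T p e₂ e₂)
      ((triOf F).T e₁ e₁ e₁) (3 * (triOf F).T e₁ e₁ e₂) (3 * (triOf F).T e₁ e₂ e₂)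
      ((triOf F).T e₂ e₂ e₂) := by
  intro hR
  have tm : ∀ u v w : Fin 4 → k, (triOf (map (algebraMap k K) F)).T (iv K u) (iv K v) (iv K w) =
      algebraMap k K ((triOf F).T u v w) := fun u v w => Tri_map K F u v w
  apply TPt.notRk_basis (triOf (map (algebraMap k K) F)) (iv K p) (iv K n)
    (by rw [tm, hpp, map_zero])
    (by rw [tm]; exact fun h => hn ((algebraMap k K).injective (by rw [h, map_zero])))
    hTP (iv K e₁) (iv K e₂) (LI4_map K hli) (by rw [tm, h1, map_zero]) (by rw [tm, h2, map_zero])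
  have := Rk_map K hR
  simp only [map_mul, map_ofNat] at this
  simp only [tm]
  exact this

theorem hfinT_K [IsAlgClosed K] [CharZero k] [CharZero K] (F : MvPolynomial (Fin 4) k)
    (hF : F.IsHomogeneous 3) (p e₁ e₂ n : Fin 4 → k)
    (hnT : ¬ TP (triOf (map (algebraMap k K) F)) (iv K p)) (hli : LI4 k p e₁ e₂ n)
    (hpp : (triOf F).T p p p = 0) (h1 : (triOf F).T p p e₁ = 0) (h2 : (triOf F).T p p e₂ = 0)
    (hn : (triOf F).T p p n ≠ 0) :
    {l : k | qq (triOf F) p e₁ e₂ l ≠ 0 ∧
      ¬ ¬ TP (triOf (map (algebraMap k K) F)) (iv K (cur (triOf F) p e₁ e₂ l))}.Finite := by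
  classical
  have hinj := (algebraMap k K).injective
  have tm : ∀ u v w : Fin 4 → k, (triOf (map (algebraMap k K) F)).T (iv K u) (iv K v) (iv K w) =
      algebraMap k K ((triOf F).T u v w) := fun u v w => Tri_map K F u v w
  have hP : PolyT (triOf (map (algebraMap k K) F)) :=
    fun u v w hu hv hw => IsPolyFun.tri (map (algebraMap k K) F) hu hv hw
  have hp0 : p ≠ 0 := by
    rintro rfl
    have := hli 1 0 0 0 (by simp)
    exact one_ne_zero this.1
  have hp0K : iv K p ≠ 0 := fun h => hp0 (iv_injective K (by rw [h, iv_zero]))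
  let φ : (Fin 4 → K) →ₗ[K] K :=
    { toFun := fun x => (triOf (map (algebraMap k K) F)).T (iv K p) (iv K p) x
      map_add' := fun x y => (triOf (map (algebraMap k K) F)).add3 _ _ x y
      map_smul' := fun c x => by
        simp only [RingHom.id_apply, smul_eq_mul]
        exact (triOf (map (algebraMap k K) F)).smul3 c _ _ x }
  have hU := finite_of_notTP (triOf (map (algebraMap k K) F)) hP
    (fun x => (triOf (map (algebraMap k K) F)).T x x x = 0 ∧ TP (triOf (map (algebraMap k K) F)) x)
    (fun b h => h) (iv K p) hp0K (by rw [tm, hpp, map_zero])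
    ⟨iv K n, by rw [tm]; exact fun h => hn (hinj (by rw [h, map_zero]))⟩ hnT (fun h => hnT h.2)
    (LinearMap.ker φ) (fun x hx => LinearMap.mem_ker.mp hx)
  have hvec : ∀ l : k, iv K (cur (triOf F) p e₁ e₂ l) =
      algebraMap k K (-(cc (triOf F) e₁ e₂ l)) • iv K p +
        algebraMap k K (3 * qq (triOf F) p e₁ e₂ l) • (iv K e₁ + algebraMap k K l • iv K e₂) := by
    intro l
    unfold cur
    rw [iv_add, iv_smul, iv_smul, iv_add, iv_smul]
  refine Set.Finite.of_injOn
    (f := fun l : k => (K ∙ iv K (cur (triOf F) p e₁ e₂ l) : Submodule K (Fin 4 → K))) ?_ ?_ hU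
  · rintro l ⟨hq, hT⟩
    have hT' := not_not.mp hT
    have hb := cur_on (triOf F) p e₁ e₂ hpp h1 h2 l
    have hbp := cur_pol (triOf F) p e₁ e₂ hpp h1 h2 l
    have hb0 : cur (triOf F) p e₁ e₂ l ≠ 0 := by
      intro h0
      rw [h0] at hbp
      have hz : (triOf F).T 0 0 p = 0 := (triOf F).zero1 _ _
      rw [hz] at hbp
      exact (mul_ne_zero (by norm_num) (pow_ne_zero 3 hq)) hbp.symm
    have hb0K : iv K (cur (triOf F) p e₁ e₂ l) ≠ 0 :=
      fun h => hb0 (iv_injective K (by rw [h, iv_zero]))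
    refine ⟨finrank_span_singleton hb0K, ?_, ?_⟩
    · rw [Submodule.span_singleton_le_iff_mem, LinearMap.mem_ker]
      show (triOf (map (algebraMap k K) F)).T (iv K p) (iv K p) (iv K (cur (triOf F) p e₁ e₂ l)) = 0
      rw [tm, cur_tan (triOf F) p e₁ e₂ hpp h1 h2 l, map_zero]
    · intro x hx hx0
      obtain ⟨κ, rfl⟩ := Submodule.mem_span_singleton.mp hx
      have hκ : κ ≠ 0 := by
        rintro rfl; exact hx0 (zero_smul _ _)
      refine ⟨?_, TP.smul _ hT' κ hκ⟩
      rw [SymTri.smul1, SymTri.smul2, SymTri.smul3, tm, hb, map_zero]; ring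
  · rintro l ⟨hq, -⟩ m ⟨hqm, -⟩ heq
    have heq' : (K ∙ iv K (cur (triOf F) p e₁ e₂ l) : Submodule K (Fin 4 → K)) =
        K ∙ iv K (cur (triOf F) p e₁ e₂ m) := heq
    have hmem : iv K (cur (triOf F) p e₁ e₂ l) ∈
        (K ∙ iv K (cur (triOf F) p e₁ e₂ m) : Submodule K (Fin 4 → K)) := by
      rw [← heq']; exact Submodule.mem_span_singleton_self _
    obtain ⟨κ, hκ⟩ := Submodule.mem_span_singleton.mp hmem
    rw [hvec, hvec] at hκ
    have hz : (κ * algebraMap k K (-(cc (triOf F) e₁ e₂ m)) -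
          algebraMap k K (-(cc (triOf F) e₁ e₂ l))) • iv K p +
        (κ * algebraMap k K (3 * qq (triOf F) p e₁ e₂ m) -
          algebraMap k K (3 * qq (triOf F) p e₁ e₂ l)) • iv K e₁ +
        (κ * algebraMap k K (3 * qq (triOf F) p e₁ e₂ m) * algebraMap k K m -
          algebraMap k K (3 * qq (triOf F) p e₁ e₂ l) * algebraMap k K l) • iv K e₂ +
        (0 : K) • iv K n = 0 := by
      rw [← sub_eq_zero.mpr hκ]; module
    obtain ⟨-, hE1, hE2, -⟩ := LI4_map K hli _ _ _ _ hz
    have hBl : algebraMap k K (3 * qq (triOf F) p e₁ e₂ l) ≠ 0 := by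
      intro h0
      have := hinj (by rw [h0, map_zero] : algebraMap k K (3 * qq (triOf F) p e₁ e₂ l) =
        algebraMap k K 0)
      exact (mul_ne_zero three_ne_zero hq) this
    have hml : algebraMap k K (3 * qq (triOf F) p e₁ e₂ l) *
        (algebraMap k K m - algebraMap k K l) = 0 := by
      linear_combination hE2 - algebraMap k K m * hE1
    have := (mul_eq_zero.mp hml).resolve_left hBl
    exact (hinj (sub_eq_zero.mp this)).symm

/-- The rational points of a cubic surface with a smooth rational non-T-point are not contained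
in a finite union of planes. -/
theorem KL_of_smooth [IsAlgClosed K] [CharZero k] [CharZero K] (F : MvPolynomial (Fin 4) k)
    (hF : F.IsHomogeneous 3) (a : Fin 4 → k) (ha0 : a ≠ 0) (hFa : eval a F = 0)
    (hsm : ∃ i : Fin 4, eval a (pderiv i F) ≠ 0)
    (hnT : ¬ TP (triOf (map (algebraMap k K) F)) (iv K a))
    (Gs : Finset ((Fin 4 → k) →ₗ[k] k)) (hGs : ∀ G ∈ Gs, G ≠ 0) :
    ∃ x : Fin 4 → k, eval x F = 0 ∧ ∀ G ∈ Gs, G x ≠ 0 := by
  have e : ∀ u, eval u F = (triOf F).T u u u := fun u => NodCub.Tri_self hF u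
  have hsmT : ∃ n, (triOf F).T a a n ≠ 0 := by
    obtain ⟨i, hi⟩ := hsm
    refine ⟨Pi.single i 1, fun h0 => hi ?_⟩
    have := NodCub.Tri_deriv hF a (Pi.single i 1)
    have h0' : NodCub.Tri F a a (Pi.single i 1) = 0 := h0
    rw [h0', mul_zero] at this
    simpa [Pi.single_apply] using this
  obtain ⟨x, hx, hxG⟩ := KL_smooth (triOf F)
    (fun p => ¬ TP (triOf (map (algebraMap k K) F)) (iv K p))
    (fun p e₁ e₂ n h hli a b c d => notRk_of_nonT K F p e₁ e₂ n h hli a b c d)
    (fun p e₁ e₂ n h hli a b c d => hfinT_K K F hF p e₁ e₂ n h hli a b c d)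
    a ha0 (by rw [← e]; exact hFa) hsmT hnT Gs hGs
  exact ⟨x, by rw [e]; exact hx, hxG⟩

end CubPt
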