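import Groth.Agent.Lib.Helper4.CubPtB

/-!
# Rational points on cubic surfaces, part C: the singular case, five points in general position
-/

set_option autoImplicit false
set_option linter.style.haveILetI false
set_option linter.unusedSectionVars false
set_option linter.unusedVariables false
set_option linter.unusedSimpArgs false
set_option linter.unusedTactic false
set_option linter.unreachableTactic false
set_option linter.deprecated false
set_option maxHeartbeats 1600000
set_option maxSynthPendingDepth 3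

universe u

open Module Submodule NodCub SmCub TPt MvPolynomial

namespace CubPt

variable {k : Type u} [Field k]

lemma not_isUnit_of_homog {R : Type u} [Field R] {p : MvPolynomial (Fin 4) R} {n : ℕ}
    (hp : p.IsHomogeneous n) (hn : 0 < n) (h0 : p ≠ 0) : ¬ IsUnit p := by
  intro hu
  rw [MvPolynomial.isUnit_iff_totalDegree_of_isReduced] at hu
  have := hp.totalDegree h0
  omega

lemma sing_expand (S : SymTri k (Fin 4 → k)) (a v : Fin 4 → k) (haa : S.T a a a = 0)
    (hav : S.T a a v = 0) (α β : k) :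
    S.T (α • a + β • v) (α • a + β • v) (α • a + β • v) =
      β ^ 2 * (3 * α * S.T a v v + β * S.T v v v) := by
  st_norm
  st_sort at haa hav
  linear_combination α ^ 3 * haa + 3 * α ^ 2 * β * hav

/-- The rational points of an irreducible non-conical cubic surface with a singular rational
point are not contained in a finite union of planes. -/
theorem KL_of_singular [CharZero k] (K : Type u) [Field K] [Algebra k K]
    (F : MvPolynomial (Fin 4) k) (hF : F.IsHomogeneous 3)
    (hirr : Irreducible (map (algebraMap k K) F))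
    (hcone : ¬ ∃ v : Fin 4 → k, v ≠ 0 ∧ ∑ i : Fin 4, v i • pderiv i F = 0)
    (a : Fin 4 → k) (ha0 : a ≠ 0) (hFa : eval a F = 0)
    (hsing : ∀ i : Fin 4, eval a (pderiv i F) = 0)
    (Gs : Finset ((Fin 4 → k) →ₗ[k] k)) (hGs : ∀ G ∈ Gs, G ≠ 0) :
    ∃ x : Fin 4 → k, eval x F = 0 ∧ ∀ G ∈ Gs, G x ≠ 0 := by
  classical
  haveI : Infinite k := Infinite.of_injective (Nat.cast : ℕ → k) Nat.cast_injective
  by_contra hcon
  have hcon' : ∀ x : Fin 4 → k, eval x F = 0 → ∃ G ∈ Gs, G x = 0 := by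
    intro x hx
    by_contra hno
    exact hcon ⟨x, hx, fun G hG h0 => hno ⟨G, hG, h0⟩⟩
  have e : ∀ u, eval u F = (triOf F).T u u u := fun u => NodCub.Tri_self hF u
  have haa : (triOf F).T a a a = 0 := by rw [← e]; exact hFa
  have hax : ∀ x, (triOf F).T a a x = 0 := fun x => Tri_hsing hF a hsing x
  have hD : ∀ v, eval v (∑ i, C (a i) * pderiv i F) = 3 * (triOf F).T a v v := by
    intro v
    simp only [map_sum, map_mul, eval_C]
    have := Tri_deriv hF v a
    rw [this]
    show 3 * Tri F v v a = 3 * Tri F a v v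
    rw [Tri_s23 F v v a, Tri_s12 F v a v]
  have hprod : (∏ G ∈ Gs, (C (G a) * F - (∑ i, C (a i) * pderiv i F) * polyOf G)) = 0 := by
    apply MvPolynomial.funext
    intro v
    rw [map_zero, map_prod]
    obtain ⟨G, hG, hG0⟩ := hcon' ((triOf F).T v v v • a + (-(3 * (triOf F).T a v v)) • v) (by
      rw [e, sing_expand (triOf F) a v haa (hax v)]; ring)
    refine Finset.prod_eq_zero hG ?_
    rw [map_sub, map_mul, map_mul, eval_C, hD, polyOf_eval, e]
    rw [map_add, map_smul, map_smul, smul_eq_mul, smul_eq_mul] at hG0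
    linear_combination hG0
  obtain ⟨G, hG, hPG⟩ := Finset.prod_eq_zero_iff.mp hprod
  have hPG' : C (G a) * F = (∑ i, C (a i) * pderiv i F) * polyOf G := sub_eq_zero.mp hPG
  have hD0 : (∑ i, C (a i) * pderiv i F) ≠ 0 := by
    intro h
    apply hcone
    refine ⟨a, ha0, ?_⟩
    rw [← h]
    simp only [smul_eq_C_mul]
  have hpG0 : polyOf G ≠ 0 := by
    intro h
    apply hGs G hG
    apply LinearMap.ext
    intro x
    rw [← polyOf_eval G x, h]; simp
  have hGa : G a ≠ 0 := by
    intro h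
    rw [h, map_zero, zero_mul] at hPG'
    exact mul_ne_zero hD0 hpG0 hPG'.symm
  have hFfac : F = (C (G a)⁻¹ * ∑ i, C (a i) * pderiv i F) * polyOf G := by
    have h1 : C (G a)⁻¹ * (C (G a) * F) = F := by
      rw [← mul_assoc, ← C_mul, inv_mul_cancel₀ hGa, C_1, one_mul]
    rw [hPG', ← mul_assoc] at h1
    exact h1.symm
  have hDh : (∑ i, C (a i) * pderiv i F).IsHomogeneous 2 := by
    apply IsHomogeneous.sum
    intro i _
    have := (isHomogeneous_C (Fin 4) (a i)).mul (hF.pderiv (i := i))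
    simpa using this
  have hCDh : (C (G a)⁻¹ * ∑ i, C (a i) * pderiv i F).IsHomogeneous 2 := by
    have := (isHomogeneous_C (Fin 4) (G a)⁻¹).mul hDh
    simpa using this
  have hCD0 : (C (G a)⁻¹ * ∑ i, C (a i) * pderiv i F) ≠ 0 :=
    mul_ne_zero (by simpa using hGa) hD0
  have hmapinj := map_injective (σ := Fin 4) (algebraMap k K) (algebraMap k K).injective
  have hfacK := congrArg (map (algebraMap k K)) hFfac
  rw [map_mul] at hfacK
  rcases hirr.isUnit_or_isUnit hfacK with hu | hu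
  · exact not_isUnit_of_homog (hCDh.map (algebraMap k K)) (by norm_num)
      (fun h => hCD0 (hmapinj (by rw [h, map_zero]))) hu
  · exact not_isUnit_of_homog ((polyOf_homog G).map (algebraMap k K)) (by norm_num)
      (fun h => hpG0 (hmapinj (by rw [h, map_zero]))) hu

/-! ### General position -/

lemma exists_functional_vanish {n : ℕ} (v : Fin n → (Fin 4 → k)) (hn : n < 4) :
    ∃ G : (Fin 4 → k) →ₗ[k] k, G ≠ 0 ∧ ∀ i, G (v i) = 0 := by
  have h1 : finrank k (span k (Set.range v)) ≤ n := by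
    have := finrank_range_le_card (R := k) v
    simpa [Set.finrank] using this
  have hlt : span k (Set.range v) < ⊤ := by
    rw [lt_top_iff_ne_top]
    intro htop
    rw [htop, finrank_top] at h1
    simp at h1
    omega
  obtain ⟨G, hG0, hG⟩ := Submodule.exists_le_ker_of_lt_top _ hlt
  exact ⟨G, hG0, fun i => LinearMap.mem_ker.mp (hG (subset_span ⟨i, rfl⟩))⟩

lemma LI4_of_functional {x y z w : Fin 4 → k} (h3 : LI3 k x y z) (G : (Fin 4 → k) →ₗ[k] k)
    (hx : G x = 0) (hy : G y = 0) (hz : G z = 0) (hw : G w ≠ 0) : LI4 k x y z w := by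
  intro α β γ δ h
  have := congrArg G h
  simp only [map_add, map_smul, smul_eq_mul, hx, hy, hz, mul_zero, zero_add, map_zero] at this
  have hδ : δ = 0 := (mul_eq_zero.mp this).resolve_right hw
  subst hδ
  rw [zero_smul, add_zero] at h
  obtain ⟨a1, a2, a3⟩ := h3 α β γ h
  exact ⟨a1, a2, a3, rfl⟩

lemma LI3_of_functional {x y z : Fin 4 → k}
    (h2 : ∀ α β : k, α • x + β • y = 0 → α = 0 ∧ β = 0) (G : (Fin 4 → k) →ₗ[k] k)
    (hx : G x = 0) (hy : G y = 0) (hz : G z ≠ 0) : LI3 k x y z := by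
  intro α β γ h
  have := congrArg G h
  simp only [map_add, map_smul, smul_eq_mul, hx, hy, mul_zero, zero_add, map_zero] at this
  have hγ : γ = 0 := (mul_eq_zero.mp this).resolve_right hz
  subst hγ
  rw [zero_smul, add_zero] at h
  obtain ⟨a1, a2⟩ := h2 α β h
  exact ⟨a1, a2, rfl⟩

/-- From "not contained in finitely many planes" to five points in general position. -/
theorem five_points (F : MvPolynomial (Fin 4) k) (a : Fin 4 → k) (ha : a ≠ 0)
    (hFa : eval a F = 0)
    (KL : ∀ Gs : Finset ((Fin 4 → k) →ₗ[k] k), (∀ G ∈ Gs, G ≠ 0) →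
      ∃ x : Fin 4 → k, eval x F = 0 ∧ ∀ G ∈ Gs, G x ≠ 0) :
    ∃ p : Fin 5 → (Fin 4 → k), p 0 = a ∧ (∀ j : Fin 5, eval (p j) F = 0) ∧
      ∀ j : Fin 5, LinearIndependent k (fun i : Fin 4 => p (j.succAbove i)) := by
  classical
  -- p₁
  obtain ⟨G0, hG0, hG0v⟩ := exists_functional_vanish (k := k) ![a] (by norm_num)
  have hG0a : G0 a = 0 := hG0v 0
  obtain ⟨p1, hF1, hp1⟩ := KL {G0} (by
    intro G hG; rw [Finset.mem_singleton] at hG; rw [hG]; exact hG0)
  have hp1' : G0 p1 ≠ 0 := hp1 G0 (Finset.mem_singleton_self _)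
  have hli2 : ∀ α β : k, α • a + β • p1 = 0 → α = 0 ∧ β = 0 := by
    intro α β h
    have := congrArg G0 h
    simp only [map_add, map_smul, smul_eq_mul, hG0a, mul_zero, zero_add, map_zero] at this
    have hβ : β = 0 := (mul_eq_zero.mp this).resolve_right hp1'
    subst hβ
    rw [zero_smul, add_zero] at h
    exact ⟨(smul_eq_zero.mp h).resolve_right ha, rfl⟩
  -- p₂
  obtain ⟨G1, hG1, hG1v⟩ := exists_functional_vanish (k := k) ![a, p1] (by norm_num)
  have hG1a : G1 a = 0 := hG1v 0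
  have hG1p1 : G1 p1 = 0 := hG1v 1
  obtain ⟨p2, hF2, hp2⟩ := KL {G1} (by
    intro G hG; rw [Finset.mem_singleton] at hG; rw [hG]; exact hG1)
  have hp2' : G1 p2 ≠ 0 := hp2 G1 (Finset.mem_singleton_self _)
  have hli3 : LI3 k a p1 p2 := LI3_of_functional hli2 G1 hG1a hG1p1 hp2'
  -- p₃
  obtain ⟨G2, hG2, hG2v⟩ := exists_functional_vanish (k := k) ![a, p1, p2] (by norm_num)
  have hG2a : G2 a = 0 := hG2v 0
  have hG2p1 : G2 p1 = 0 := hG2v 1
  have hG2p2 : G2 p2 = 0 := hG2v 2
  obtain ⟨p3, hF3, hp3⟩ := KL {G2} (by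
    intro G hG; rw [Finset.mem_singleton] at hG; rw [hG]; exact hG2)
  have hp3' : G2 p3 ≠ 0 := hp3 G2 (Finset.mem_singleton_self _)
  have hli4 : LI4 k a p1 p2 p3 := LI4_of_functional hli3 G2 hG2a hG2p1 hG2p2 hp3'
  -- sub-triples
  have t13 : LI3 k a p1 p3 := by
    intro α β γ h
    obtain ⟨a1, a2, -, a4⟩ := hli4 α β 0 γ (by rw [zero_smul, add_zero]; exact h)
    exact ⟨a1, a2, a4⟩
  have t23 : LI3 k a p2 p3 := by
    intro α β γ h
    obtain ⟨a1, -, a3, a4⟩ := hli4 α 0 β γ (by rw [zero_smul, add_zero]; exact h)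
    exact ⟨a1, a3, a4⟩
  have t123 : LI3 k p1 p2 p3 := by
    intro α β γ h
    obtain ⟨-, a2, a3, a4⟩ := hli4 0 α β γ (by rw [zero_smul, zero_add]; exact h)
    exact ⟨a2, a3, a4⟩
  -- p₄
  obtain ⟨H1, hH1, hH1v⟩ := exists_functional_vanish (k := k) ![a, p1, p2] (by norm_num)
  obtain ⟨H2, hH2, hH2v⟩ := exists_functional_vanish (k := k) ![a, p1, p3] (by norm_num)
  obtain ⟨H3, hH3, hH3v⟩ := exists_functional_vanish (k := k) ![a, p2, p3] (by norm_num)
  obtain ⟨H4, hH4, hH4v⟩ := exists_functional_vanish (k := k) ![p1, p2, p3] (by norm_num)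
  obtain ⟨p4, hF4, hp4⟩ := KL {H1, H2, H3, H4} (by
    intro G hG
    simp only [Finset.mem_insert, Finset.mem_singleton] at hG
    rcases hG with rfl | rfl | rfl | rfl <;> assumption)
  have q1 : LI4 k a p1 p2 p4 :=
    LI4_of_functional hli3 H1 (hH1v 0) (hH1v 1) (hH1v 2) (hp4 H1 (by simp))
  have q2 : LI4 k a p1 p3 p4 :=
    LI4_of_functional t13 H2 (hH2v 0) (hH2v 1) (hH2v 2) (hp4 H2 (by simp))
  have q3 : LI4 k a p2 p3 p4 :=
    LI4_of_functional t23 H3 (hH3v 0) (hH3v 1) (hH3v 2) (hp4 H3 (by simp))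
  have q4 : LI4 k p1 p2 p3 p4 :=
    LI4_of_functional t123 H4 (hH4v 0) (hH4v 1) (hH4v 2) (hp4 H4 (by simp))
  refine ⟨![a, p1, p2, p3, p4], rfl, ?_, ?_⟩
  · intro j
    fin_cases j
    · exact hFa
    · exact hF1
    · exact hF2
    · exact hF3
    · exact hF4
  · intro j
    fin_cases j
    · have : (fun i : Fin 4 => ![a, p1, p2, p3, p4] ((0 : Fin 5).succAbove i)) =
          ![p1, p2, p3, p4] := by funext i; fin_cases i <;> rfl
      show LinearIndependent k (fun i : Fin 4 => ![a, p1, p2, p3, p4] ((0 : Fin 5).succAbove i))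
      rw [this]; exact (li4_iff _ _ _ _).mp q4
    · have : (fun i : Fin 4 => ![a, p1, p2, p3, p4] ((1 : Fin 5).succAbove i)) =
          ![a, p2, p3, p4] := by funext i; fin_cases i <;> rfl
      show LinearIndependent k (fun i : Fin 4 => ![a, p1, p2, p3, p4] ((1 : Fin 5).succAbove i))
      rw [this]; exact (li4_iff _ _ _ _).mp q3
    · have : (fun i : Fin 4 => ![a, p1, p2, p3, p4] ((2 : Fin 5).succAbove i)) =
          ![a, p1, p3, p4] := by funext i; fin_cases i <;> rfl
      show LinearIndependent k (fun i : Fin 4 => ![a, p1, p2, p3, p4] ((2 : Fin 5).succAbove i))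
      rw [this]; exact (li4_iff _ _ _ _).mp q2
    · have : (fun i : Fin 4 => ![a, p1, p2, p3, p4] ((3 : Fin 5).succAbove i)) =
          ![a, p1, p2, p4] := by funext i; fin_cases i <;> rfl
      show LinearIndependent k (fun i : Fin 4 => ![a, p1, p2, p3, p4] ((3 : Fin 5).succAbove i))
      rw [this]; exact (li4_iff _ _ _ _).mp q1
    · have : (fun i : Fin 4 => ![a, p1, p2, p3, p4] ((4 : Fin 5).succAbove i)) =
          ![a, p1, p2, p3] := by funext i; fin_cases i <;> rfl
      show LinearIndependent k (fun i : Fin 4 => ![a, p1, p2, p3, p4] ((4 : Fin 5).succAbove i))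
      rw [this]; exact (li4_iff _ _ _ _).mp hli4

/-- `KL` in both cases, from the hypotheses as they appear in the statements. -/
theorem KL_main (k : Type u) [Field k] [CharZero k] (K : Type u) [Field K] [Algebra k K]
    [IsAlgClosed K] [CharZero K]
    (F : MvPolynomial (Fin 4) k) (hF : F.IsHomogeneous 3)
    (hirr : Irreducible (map (algebraMap k K) F))
    (hcone : ¬ ∃ v : Fin 4 → k, v ≠ 0 ∧ ∑ i : Fin 4, v i • pderiv i F = 0)
    (a : Fin 4 → k) (ha : a ≠ 0) (hFa : eval a F = 0)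
    (ℓ : MvPolynomial (Fin 4) K)
    (hℓ : ℓ = ∑ i : Fin 4, C (algebraMap k K (eval a (pderiv i F))) * X i)
    (hT : ¬ ∃ L₁ L₂ L₃ : MvPolynomial (Fin 4) K, L₁.IsHomogeneous 1 ∧ L₂.IsHomogeneous 1 ∧
      L₃.IsHomogeneous 1 ∧ map (algebraMap k K) F - L₁ * L₂ * L₃ ∈ Ideal.span {ℓ})
    (Gs : Finset ((Fin 4 → k) →ₗ[k] k)) (hGs : ∀ G ∈ Gs, G ≠ 0) :
    ∃ x : Fin 4 → k, eval x F = 0 ∧ ∀ G ∈ Gs, G x ≠ 0 := by
  by_cases hsing : ∀ i : Fin 4, eval a (pderiv i F) = 0
  · exact KL_of_singular K F hF hirr hcone a ha hFa hsing Gs hGs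
  · have hsm : ∃ i : Fin 4, eval a (pderiv i F) ≠ 0 := by
      by_contra h
      exact hsing fun i => by
        by_contra hi
        exact h ⟨i, hi⟩
    have hnT : ¬ TP (triOf (map (algebraMap k K) F)) (iv K a) := by
      intro hTP
      apply hT
      have hsmK : ∃ i : Fin 4, eval (iv K a) (pderiv i (map (algebraMap k K) F)) ≠ 0 := by
        obtain ⟨i, hi⟩ := hsm
        refine ⟨i, ?_⟩
        rw [eval_pderiv_map]
        exact fun h => hi ((algebraMap k K).injective (by rw [h, map_zero]))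
      have := exists_forms_of_TP (map (algebraMap k K) F) (hF.map _) (iv K a) hsmK hTP
      simp only [eval_pderiv_map] at this
      rw [hℓ]
      exact this
    exact KL_of_smooth K F hF a ha hFa hsm hnT Gs hGs

theorem main16348 (k : Type u) [Field k] [CharZero k] (K : Type u) [Field K] [Algebra k K]
    [IsAlgClosed K] [CharZero K]
    (F : MvPolynomial (Fin 4) k) (hF : F.IsHomogeneous 3)
    (hirr : Irreducible (map (algebraMap k K) F))
    (hcone : ¬ ∃ v : Fin 4 → k, v ≠ 0 ∧ ∑ i : Fin 4, v i • pderiv i F = 0)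
    (a : Fin 4 → k) (ha : a ≠ 0) (hFa : eval a F = 0)
    (ℓ : MvPolynomial (Fin 4) K)
    (hℓ : ℓ = ∑ i : Fin 4, C (algebraMap k K (eval a (pderiv i F))) * X i)
    (hT : ¬ ∃ L₁ L₂ L₃ : MvPolynomial (Fin 4) K, L₁.IsHomogeneous 1 ∧ L₂.IsHomogeneous 1 ∧
      L₃.IsHomogeneous 1 ∧ map (algebraMap k K) F - L₁ * L₂ * L₃ ∈ Ideal.span {ℓ}) :
    ∃ p : Fin 5 → (Fin 4 → k), p 0 = a ∧ (∀ j : Fin 5, eval (p j) F = 0) ∧
      ∀ j : Fin 5, LinearIndependent k (fun i : Fin 4 => p (j.succAbove i)) :=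
  five_points F a ha hFa (KL_main k K F hF hirr hcone a ha hFa ℓ hℓ hT)

end CubPt
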