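import Mathlib
import Groth.Prelude.Def_DualLC
import Groth.Agent.Lib.Helper4.FiniteExt
import Groth.Agent.Lib.Helper4.LocTrans
import Groth.Agent.Lib.Helper4.RelCodim
import Groth.Agent.Lib.Helper28.DepthLoc
import Groth.Agent.Lib.Helper12.DimIneqH

/-!
# The cutoff invariant `s_{A,I}(M)` along a finite ring map

For a finite map `A → B` of Noetherian rings with `A` universally catenary and a finite `B`-module
`M`, `s_{B, IB}(M) = s_{A, I}(M)`.
-/

set_option autoImplicit false
set_option linter.style.haveILetI false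
set_option linter.unusedSectionVars false
set_option linter.unusedVariables false
set_option maxHeartbeats 800000

universe u

namespace Groth.Agent.Lib.Helper4.CutoffFinite

open Groth.Agent.Lib.Helper4 Groth.Agent.Lib.Helper4.LocTrans

theorem enat_le_of_lt_succ {x : ℕ∞} {n : ℕ} (h : x < ((n + 1 : ℕ) : ℕ∞)) : x ≤ (n : ℕ∞) := by
  rcases ENat.ne_top_iff_exists.mp (ne_top_of_lt h) with ⟨d, rfl⟩
  have : d < n + 1 := by exact_mod_cast h
  exact_mod_cast Nat.lt_succ_iff.mp this

/-- depth of the localization only depends on the prime. -/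
theorem depth_congr_prime {R : Type u} [CommRing R] (N : Type u) [AddCommGroup N] [Module R N]
    (P Q : Ideal R) [hP : P.IsPrime] [hQ : Q.IsPrime] (h : P = Q) :
    LocCoh.depth (Localization.AtPrime P) (LocalizedModule P.primeCompl N) =
      LocCoh.depth (Localization.AtPrime Q) (LocalizedModule Q.primeCompl N) := by
  subst h
  rfl

section

variable {A B : Type u} [CommRing A] [CommRing B] [Algebra A B] [IsNoetherianRing A]
  [IsNoetherianRing B] [Module.Finite A B]
  (M : Type u) [AddCommGroup M] [Module B M] [Module A M] [IsScalarTower A B M] [Module.Finite B M]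

local notation "Tsub(" p ")" => Algebra.algebraMapSubmonoid B (Ideal.primeCompl p)
local notation "Bloc(" p ")" => Localization (Algebra.algebraMapSubmonoid B (Ideal.primeCompl p))
local notation "Mloc(" p ")" =>
  LocalizedModule (Algebra.algebraMapSubmonoid B (Ideal.primeCompl p)) M

/-- `depth_{A_p} M_p` is the depth of `M ⊗ A_p` along the fibre ideal `p B_p`. -/
theorem depth_eq_idealDepth (p : Ideal A) [p.IsPrime] :
    LocCoh.depth (Localization.AtPrime p) (LocalizedModule p.primeCompl M) =
      LocCoh.idealDepth ((p.map (algebraMap A B)).map (algebraMap B Bloc(p))) Mloc(p) := by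
  haveI : Module.Finite A M := Module.Finite.trans B M
  letI : Module (Localization.AtPrime p) Mloc(p) :=
    Module.compHom _ (algebraMap (Localization.AtPrime p) Bloc(p))
  have hsm : ∀ (a : Localization.AtPrime p) (x : Mloc(p)),
      a • x = algebraMap (Localization.AtPrime p) Bloc(p) a • x := fun _ _ => rfl
  haveI : IsScalarTower (Localization.AtPrime p) Bloc(p) Mloc(p) :=
    ⟨fun a b x => by rw [hsm a (b • x), Algebra.smul_def, mul_smul]⟩
  haveI : IsScalarTower A (Localization.AtPrime p) Mloc(p) :=
    IsScalarTower.of_algebraMap_smul fun r x => by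
      rw [hsm, ← IsScalarTower.algebraMap_apply A (Localization.AtPrime p) Bloc(p),
        IsScalarTower.algebraMap_apply A B Bloc(p), algebraMap_smul, algebraMap_smul]
  haveI : IsLocalizedModule p.primeCompl
      ((LocalizedModule.mkLinearMap Tsub(p) M).restrictScalars A) :=
    IsLocalizedModule.restrictScalars p.primeCompl _
  have h1 := (depth_supportDim_of_isLocalizedModule p (Localization.AtPrime p) Mloc(p)
    ((LocalizedModule.mkLinearMap Tsub(p) M).restrictScalars A)).1
  haveI : Module.Finite Bloc(p) Mloc(p) :=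
    Module.Finite.of_isLocalizedModule Tsub(p) (LocalizedModule.mkLinearMap Tsub(p) M)
  have h2 := idealDepth_map_eq (A := Localization.AtPrime p) (B := Bloc(p))
    (IsLocalRing.maximalIdeal (Localization.AtPrime p)) Mloc(p)
  have hideal : (IsLocalRing.maximalIdeal (Localization.AtPrime p)).map
      (algebraMap (Localization.AtPrime p) Bloc(p)) =
      (p.map (algebraMap A B)).map (algebraMap B Bloc(p)) := by
    rw [← Localization.AtPrime.map_eq_maximalIdeal, Ideal.map_map, Ideal.map_map,
      ← IsScalarTower.algebraMap_eq A (Localization.AtPrime p) Bloc(p),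
      ← IsScalarTower.algebraMap_eq A B Bloc(p)]
  rw [← h1]
  unfold LocCoh.depth
  rw [h2, hideal]

theorem disjoint_of_comap_eq (p : Ideal A) [p.IsPrime] (P : Ideal B) [P.IsPrime]
    (hPp : P.comap (algebraMap A B) = p) :
    Disjoint ((Tsub(p) : Submonoid B) : Set B) (P : Set B) := by
  rw [Set.disjoint_left]
  rintro b ⟨a, ha, rfl⟩ hb
  have ha' : a ∉ p := ha
  apply ha'
  rw [← hPp]
  exact hb

/-- Lemma 1a: depth can only go up when passing to a prime of `B` over `p`. -/
theorem depth_le_depth_of_comap_eq (p : Ideal A) [p.IsPrime] (P : Ideal B) [P.IsPrime]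
    (hPp : P.comap (algebraMap A B) = p) :
    LocCoh.depth (Localization.AtPrime p) (LocalizedModule p.primeCompl M) ≤
      LocCoh.depth (Localization.AtPrime P) (LocalizedModule P.primeCompl M) := by
  have hdisj := disjoint_of_comap_eq p P hPp
  haveI h𝔓 : (P.map (algebraMap B Bloc(p))).IsPrime :=
    IsLocalization.isPrime_of_isPrime_disjoint Tsub(p) _ P inferInstance hdisj
  have hcomap : (P.map (algebraMap B Bloc(p))).comap (algebraMap B Bloc(p)) = P :=
    IsLocalization.under_map_of_isPrime_disjoint Tsub(p) _ inferInstance hdisj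
  have h1 := (depth_supportDim_locLoc Tsub(p) M (P.map (algebraMap B Bloc(p)))).1
  have h2 := depth_congr_prime M _ P hcomap
  rw [depth_eq_idealDepth (B := B) M p, ← h2, ← h1]
  by_cases hnt : Nontrivial
      (LocalizedModule (P.map (algebraMap B Bloc(p))).primeCompl Mloc(p))
  · exact Groth.Agent.Lib.Helper28.idealDepth_le_depth_localization _ _
      (Ideal.map_mono (Ideal.map_le_iff_le_comap.mpr hPp.ge))
  · rw [not_nontrivial_iff_subsingleton] at hnt
    have : LocCoh.depth (Localization.AtPrime (P.map (algebraMap B Bloc(p))))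
        (LocalizedModule (P.map (algebraMap B Bloc(p))).primeCompl Mloc(p)) = ⊤ := by
      unfold LocCoh.depth
      exact idealDepth_of_smul_top_eq _ (Subsingleton.elim _ _)
    rw [this]
    exact le_top

/-- Lemma 1b: the depth at `p` is attained at some prime of `B` over `p`. -/
theorem exists_prime_depth_le (p : Ideal A) [p.IsPrime]
    (htop : LocCoh.depth (Localization.AtPrime p) (LocalizedModule p.primeCompl M) ≠ ⊤) :
    ∃ P : PrimeSpectrum B, P.asIdeal.comap (algebraMap A B) = p ∧
      LocCoh.depth (Localization.AtPrime P.asIdeal) (LocalizedModule P.asIdeal.primeCompl M) ≤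
        LocCoh.depth (Localization.AtPrime p) (LocalizedModule p.primeCompl M) := by
  obtain ⟨n, hn⟩ := ENat.ne_top_iff_exists.mp htop
  by_contra hcon
  have key : ((n + 1 : ℕ) : ℕ∞) ≤
      LocCoh.idealDepth ((p.map (algebraMap A B)).map (algebraMap B Bloc(p))) Mloc(p) := by
    haveI : Module.Finite Bloc(p) Mloc(p) :=
      Module.Finite.of_isLocalizedModule Tsub(p) (LocalizedModule.mkLinearMap Tsub(p) M)
    refine Groth.Agent.Lib.Helper28.le_idealDepth_of_forall_localization _ (n + 1) ?_
    intro 𝔓 h𝔓 h𝔞𝔓 hnt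
    have hover : (𝔓.comap (algebraMap B Bloc(p))).comap (algebraMap A B) = p := by
      apply le_antisymm
      · intro a ha
        by_contra hap
        have hu : IsUnit (algebraMap B Bloc(p) (algebraMap A B a)) :=
          IsLocalization.map_units Bloc(p)
            (⟨algebraMap A B a, Algebra.mem_algebraMapSubmonoid_of_mem
              ⟨a, (show a ∈ p.primeCompl from hap)⟩⟩ : Tsub(p))
        exact h𝔓.ne_top (Ideal.eq_top_of_isUnit_mem _ ha hu)
      · intro a ha
        exact h𝔞𝔓 (Ideal.mem_map_of_mem _ (Ideal.mem_map_of_mem _ ha))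
    rw [(depth_supportDim_locLoc Tsub(p) M 𝔓).1]
    by_contra hlt
    rw [not_le] at hlt
    have hle := enat_le_of_lt_succ hlt
    apply hcon
    refine ⟨⟨𝔓.comap (algebraMap B Bloc(p)), inferInstance⟩, hover, ?_⟩
    rw [← hn]
    exact hle
  rw [← depth_eq_idealDepth (B := B) M p, ← hn] at key
  have : n + 1 ≤ n := by exact_mod_cast key
  omega

/-- Lemma 2: relative codimensions agree along a finite map from a universally catenary ring. -/
theorem height_Ici_eq_of_comap (hA : CAlg.IsUniversallyCatenary A) (p q : PrimeSpectrum A)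
    (hpq : p ≤ q) (P Q : PrimeSpectrum B) (hPQ : P ≤ Q)
    (hP : P.asIdeal.comap (algebraMap A B) = p.asIdeal)
    (hQ : Q.asIdeal.comap (algebraMap A B) = q.asIdeal) :
    Order.height (⟨Q, hPQ⟩ : Set.Ici P) = Order.height (⟨q, hpq⟩ : Set.Ici p) := by
  rw [height_Ici_eq, height_Ici_eq]
  haveI : P.asIdeal.LiesOver p.asIdeal := ⟨hP.symm⟩
  haveI : Q.asIdeal.LiesOver q.asIdeal := ⟨hQ.symm⟩
  have h := Groth.Agent.Lib.Helper12.DimIneq.dimFormula p.asIdeal q.asIdeal P.asIdeal Q.asIdeal
    hPQ (Groth.Agent.Lib.Helper12.DimIneq.LocUC.of_isUniversallyCatenary hA q.asIdeal)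
  rw [_root_.trdeg_eq_zero, _root_.trdeg_eq_zero, map_zero, add_zero, add_zero] at h
  exact h

/-- `s_{B, IB}(M) = s_{A, I}(M)` for a finite map `A → B` with `A` universally catenary. -/
theorem cutoff_eq (hA : CAlg.IsUniversallyCatenary A) (I : Ideal A) :
    Dual2.cutoff B (I.map (algebraMap A B)) M = Dual2.cutoff A I M := by
  apply le_antisymm
  · unfold Dual2.cutoff
    refine le_iInf fun p => le_iInf fun q => le_iInf fun hpq => le_iInf fun hIp =>
      le_iInf fun hIq => ?_
    by_cases htop : LocCoh.depth (Localization.AtPrime p.asIdeal)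
        (LocalizedModule p.asIdeal.primeCompl M) = ⊤
    · rw [htop, top_add]
      exact le_top
    · obtain ⟨P, hPp, hle⟩ := exists_prime_depth_le (B := B) M p.asIdeal htop
      obtain ⟨Q, hPQ, hQprime, hQq⟩ :=
        Ideal.exists_ideal_over_prime_of_isIntegral q.asIdeal P.asIdeal
          (by rw [hPp]; exact hpq)
      have hPQ' : P ≤ (⟨Q, hQprime⟩ : PrimeSpectrum B) := hPQ
      refine iInf_le_of_le P (iInf_le_of_le ⟨Q, hQprime⟩ (iInf_le_of_le hPQ'
        (iInf_le_of_le ?_ (iInf_le_of_le ?_ ?_))))
      · intro h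
        exact hIp (by rw [← hPp]; exact Ideal.map_le_iff_le_comap.mp h)
      · show I.map (algebraMap A B) ≤ Q
        rw [Ideal.map_le_iff_le_comap, hQq]
        exact hIq
      · rw [height_Ici_eq_of_comap hA p q hpq P ⟨Q, hQprime⟩ hPQ' hPp hQq]
        exact add_le_add hle le_rfl
  · unfold Dual2.cutoff
    refine le_iInf fun P => le_iInf fun Q => le_iInf fun hPQ => le_iInf fun hIP =>
      le_iInf fun hIQ => ?_
    have hpq : (⟨P.asIdeal.comap (algebraMap A B), inferInstance⟩ : PrimeSpectrum A) ≤
        ⟨Q.asIdeal.comap (algebraMap A B), inferInstance⟩ := Ideal.comap_mono hPQ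
    refine iInf_le_of_le ⟨P.asIdeal.comap (algebraMap A B), inferInstance⟩
      (iInf_le_of_le ⟨Q.asIdeal.comap (algebraMap A B), inferInstance⟩ (iInf_le_of_le hpq
        (iInf_le_of_le ?_ (iInf_le_of_le ?_ ?_))))
    · intro h
      exact hIP (Ideal.map_le_iff_le_comap.mpr h)
    · exact Ideal.map_le_iff_le_comap.mp hIQ
    · rw [height_Ici_eq_of_comap hA _ _ hpq P Q hPQ rfl rfl]
      exact add_le_add (depth_le_depth_of_comap_eq M _ P.asIdeal rfl) le_rfl

end

end Groth.Agent.Lib.Helper4.CutoffFinite
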