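import Mathlib
import Groth.Agent.Lib.Helper26.RegularSch
import Groth.Agent.Lib.Helper22.CMReg
import Groth.Agent.Lib.Helper22.RegBaseSmooth
import Groth.Agent.Lib.Helper9.RegLocal

/-!
# Cyclic covers, part A: generic regularity lemmas

* `X^n - c` with `n` invertible gives a standard étale algebra after inverting `c`;
* étale over a regular ring is regular;
* `R[T]/(T^n - c)` is regular if `R` and `R/c` are regular (`n` invertible, `c` a nonzerodivisor);
* an integral-closedness lemma for `E ⊆ E[1/ϖ]` when `E/ϖ` is reduced.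
-/

set_option autoImplicit false
set_option linter.style.haveILetI false
set_option linter.unusedSectionVars false
set_option linter.unusedVariables false
set_option linter.unusedSimpArgs false
set_option maxHeartbeats 1600000
set_option maxSynthPendingDepth 3

universe u

open Polynomial

namespace Groth.Agent.Lib.Helper4.CycCov

section basics

theorem algebraMap_mem_nonZeroDivisors_of_flat {R S : Type*} [CommRing R] [CommRing S] [Algebra R S]
    [Module.Flat R S] {c : R} (hc : c ∈ nonZeroDivisors R) :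
    algebraMap R S c ∈ nonZeroDivisors S := by
  have h1 : IsSMulRegular R c := by
    intro x y hxy
    have hxy' : c * x = c * y := hxy
    have h0 : (x - y) * c = 0 := by linear_combination hxy'
    have := mem_nonZeroDivisors_iff_right.mp hc (x - y) h0
    exact sub_eq_zero.mp this
  have h2 := IsSMulRegular.of_flat (S := S) h1
  rw [mem_nonZeroDivisors_iff_right]
  intro x hx
  exact h2 (show algebraMap R S c • x = algebraMap R S c • 0 by
    rw [smul_zero, smul_eq_mul, mul_comm, hx])

theorem isReduced_of_isRegularRing (R : Type u) [CommRing R] [IsRegularRing R] : IsReduced R := by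
  refine isReduced_ofLocalizationMaximal R (fun J hJ => ?_)
  haveI : IsRegularLocalRing (Localization.AtPrime J) :=
    IsRegularRing.isRegularLocalRing_localization J
  haveI := Groth.Agent.Lib.Helper9.RegLocal.isDomain_of_isRegularLocalRing (Localization.AtPrime J)
  infer_instance

theorem isRegularRing_of_etale (R S : Type u) [CommRing R] [CommRing S] [Algebra R S]
    [Algebra.Etale R S] [IsRegularRing R] : IsRegularRing S := by
  haveI : IsNoetherianRing S := Algebra.FiniteType.isNoetherianRing R S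
  exact isRegularRing_iff.mpr fun q _ =>
    Groth.Agent.Lib.Helper26.RegularSch.isRegularLocalRing_atPrime_of_etale R S q

end basics

section etale

variable {R : Type u} [CommRing R]

/-- The standard étale pair `(X^n - c, c)`. -/
@[reducible] noncomputable def kpair (n : ℕ) (hn : 0 < n) (c : R) (hnu : IsUnit (n : R)) :
    StandardEtalePair R where
  f := X ^ n - C c
  monic_f := monic_X_pow_sub_C c hn.ne'
  g := C c
  cond := by
    obtain ⟨m, rfl⟩ : ∃ m, n = m + 1 := ⟨n - 1, by omega⟩
    refine ⟨C (↑hnu.unit⁻¹ : R) * X, -1, 1, ?_⟩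
    have h1 : ((m + 1 : ℕ) : R) * (↑hnu.unit⁻¹ : R) = 1 := hnu.mul_val_inv
    have h2 : (C ((m + 1 : ℕ) : R) : R[X]) * C (↑hnu.unit⁻¹ : R) = 1 := by
      rw [← C_mul, h1, C_1]
    rw [derivative_sub, derivative_X_pow, derivative_C, sub_zero, Nat.add_sub_cancel, pow_one]
    linear_combination (X ^ (m + 1) : R[X]) * h2

theorem etale_away (n : ℕ) (hn : 0 < n) (c : R) (hnu : IsUnit (n : R)) :
    Algebra.Etale R (Localization.Away (AdjoinRoot.mk (X ^ n - C c : R[X]) (C c))) :=
  Algebra.Etale.of_equiv (kpair n hn c hnu).equivAwayAdjoinRoot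

theorem etale_adjoinRoot (n : ℕ) (hn : 0 < n) (c : R) (hnu : IsUnit (n : R)) (hc : IsUnit c) :
    Algebra.Etale R (AdjoinRoot (X ^ n - C c : R[X])) := by
  haveI := etale_away n hn c hnu
  set x : AdjoinRoot (X ^ n - C c : R[X]) := AdjoinRoot.mk (X ^ n - C c : R[X]) (C c) with hx
  have hxu : IsUnit x := by
    rw [hx, AdjoinRoot.mk_C]; exact hc.map (AdjoinRoot.of _)
  let e : AdjoinRoot (X ^ n - C c : R[X]) ≃ₐ[AdjoinRoot (X ^ n - C c : R[X])]
      Localization.Away x :=
    IsLocalization.atUnits _ (Submonoid.powers x) (by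
      rintro _ ⟨k, rfl⟩; exact hxu.pow k)
  exact Algebra.Etale.of_equiv (e.restrictScalars R).symm

end etale

section quotRoot

variable {R : Type u} [CommRing R] (n : ℕ) (c : R)

theorem of_c_eq_root_pow :
    AdjoinRoot.of (X ^ n - C c : R[X]) c = AdjoinRoot.root (X ^ n - C c : R[X]) ^ n := by
  have h := AdjoinRoot.mk_self (f := (X ^ n - C c : R[X]))
  rw [map_sub, map_pow, AdjoinRoot.mk_X, AdjoinRoot.mk_C, sub_eq_zero] at h
  exact h.symm

/-- `R → R[T]/(T^n - c) → R[T]/(T^n - c, T)`. -/
noncomputable def quotRootHom :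
    R →+* AdjoinRoot (X ^ n - C c : R[X]) ⧸ Ideal.span {AdjoinRoot.root (X ^ n - C c : R[X])} :=
  (Ideal.Quotient.mk _).comp (AdjoinRoot.of (X ^ n - C c : R[X]))

theorem quotRootHom_surjective : Function.Surjective (quotRootHom n c) := by
  intro y
  obtain ⟨e, rfl⟩ := Ideal.Quotient.mk_surjective y
  obtain ⟨p, rfl⟩ := AdjoinRoot.mk_surjective e
  refine ⟨p.coeff 0, ?_⟩
  show Ideal.Quotient.mk _ (AdjoinRoot.of _ (p.coeff 0)) = Ideal.Quotient.mk _ (AdjoinRoot.mk _ p)
  rw [Ideal.Quotient.eq, Ideal.mem_span_singleton]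
  refine ⟨- AdjoinRoot.mk _ p.divX, ?_⟩
  have h2 := congrArg (AdjoinRoot.mk (X ^ n - C c : R[X])) (Polynomial.divX_mul_X_add p)
  rw [map_add, map_mul, AdjoinRoot.mk_X, AdjoinRoot.mk_C] at h2
  rw [← h2]; ring

theorem ker_quotRootHom (hn : 0 < n) : RingHom.ker (quotRootHom n c) = Ideal.span {c} := by
  ext x
  rw [RingHom.mem_ker, Ideal.mem_span_singleton]
  show Ideal.Quotient.mk _ (AdjoinRoot.of _ x) = 0 ↔ _
  rw [Ideal.Quotient.eq_zero_iff_mem, Ideal.mem_span_singleton]
  constructor
  · rintro ⟨y, hy⟩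
    obtain ⟨q, rfl⟩ := AdjoinRoot.mk_surjective y
    have h0 : AdjoinRoot.mk (X ^ n - C c : R[X]) (C x - X * q) = 0 := by
      rw [map_sub, map_mul, AdjoinRoot.mk_C, AdjoinRoot.mk_X, hy, sub_self]
    rw [AdjoinRoot.mk_eq_zero] at h0
    obtain ⟨h, hh⟩ := h0
    have h1 := congrArg (Polynomial.eval 0) hh
    simp only [eval_sub, eval_C, eval_mul, eval_X, zero_mul, sub_zero, eval_pow,
      zero_pow hn.ne', zero_sub] at h1
    exact ⟨- eval 0 h, by rw [h1]; ring⟩
  · rintro ⟨y, rfl⟩
    refine ⟨AdjoinRoot.root (X ^ n - C c : R[X]) ^ (n - 1) * AdjoinRoot.of _ y, ?_⟩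
    rw [map_mul, of_c_eq_root_pow n c]
    have : AdjoinRoot.root (X ^ n - C c : R[X]) ^ n =
        AdjoinRoot.root (X ^ n - C c : R[X]) * AdjoinRoot.root (X ^ n - C c : R[X]) ^ (n - 1) := by
      rw [← pow_succ', Nat.sub_add_cancel hn]
    rw [this]; ring

noncomputable def quotRootEquiv (hn : 0 < n) :
    (R ⧸ Ideal.span {c}) ≃+*
      (AdjoinRoot (X ^ n - C c : R[X]) ⧸ Ideal.span {AdjoinRoot.root (X ^ n - C c : R[X])}) :=
  (Ideal.quotEquivOfEq (ker_quotRootHom n c hn).symm).trans
    (RingHom.quotientKerEquivOfSurjective (quotRootHom_surjective n c))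

theorem isRegularRing_quot_root (hn : 0 < n) [IsRegularRing (R ⧸ Ideal.span {c})] :
    IsRegularRing
      (AdjoinRoot (X ^ n - C c : R[X]) ⧸ Ideal.span {AdjoinRoot.root (X ^ n - C c : R[X])}) :=
  IsRegularRing.of_ringEquiv (quotRootEquiv n c hn)

theorem root_mem_nonZeroDivisors (hn : 0 < n) (hc : c ∈ nonZeroDivisors R) :
    AdjoinRoot.root (X ^ n - C c : R[X]) ∈ nonZeroDivisors (AdjoinRoot (X ^ n - C c : R[X])) := by
  haveI := (monic_X_pow_sub_C c hn.ne').free_adjoinRoot
  have h1 : AdjoinRoot.of (X ^ n - C c : R[X]) c ∈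
      nonZeroDivisors (AdjoinRoot (X ^ n - C c : R[X])) := by
    rw [← AdjoinRoot.algebraMap_eq]
    exact algebraMap_mem_nonZeroDivisors_of_flat hc
  rw [of_c_eq_root_pow n c] at h1
  obtain ⟨m, rfl⟩ : ∃ m, n = m + 1 := ⟨n - 1, by omega⟩
  have h2 : AdjoinRoot.root (X ^ (m + 1) - C c : R[X]) ^ (m + 1) =
      AdjoinRoot.root (X ^ (m + 1) - C c : R[X]) ^ m * AdjoinRoot.root (X ^ (m + 1) - C c : R[X]) :=
    pow_succ _ _
  rw [h2] at h1
  exact (mul_mem_nonZeroDivisors.mp h1).2

end quotRoot

section quotLocal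

/-- If `E` is Noetherian, `r` a nonzerodivisor and `E/r` is a regular ring, then `E` is regular at
every prime containing `r`. -/
theorem isRegularLocalRing_of_quotient_regularRing {E : Type u} [CommRing E] [IsNoetherianRing E]
    (r : E) (hr : r ∈ nonZeroDivisors E) [IsRegularRing (E ⧸ Ideal.span {r})]
    (Q : Ideal E) [Q.IsPrime] (hrQ : r ∈ Q) :
    IsRegularLocalRing (Localization.AtPrime Q) := by
  set I : Ideal E := Ideal.span {r} with hI
  have hIQ : I ≤ Q := (Ideal.span_singleton_le_iff_mem _).mpr hrQ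
  set r' : Localization.AtPrime Q := algebraMap E (Localization.AtPrime Q) r with hr'
  have hmap : I.map (algebraMap E (Localization.AtPrime Q)) = Ideal.span {r'} := by
    rw [hI, Ideal.map_span, Set.image_singleton]
  set Qb : Ideal (E ⧸ I) := Q.map (Ideal.Quotient.mk I) with hQb
  haveI hQbp : Qb.IsPrime :=
    Ideal.map_isPrime_of_surjective Ideal.Quotient.mk_surjective (by rw [Ideal.mk_ker]; exact hIQ)
  haveI hloc : IsLocalization (Algebra.algebraMapSubmonoid (E ⧸ I) Q.primeCompl)
      (Localization.AtPrime Q ⧸ I.map (algebraMap E (Localization.AtPrime Q))) := inferInstance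
  have hsub : Algebra.algebraMapSubmonoid (E ⧸ I) Q.primeCompl = Qb.primeCompl := by
    ext y
    constructor
    · rintro ⟨x, hx, rfl⟩
      intro hmem
      rw [hQb] at hmem
      obtain ⟨q, hq, hqx⟩ :=
        (Ideal.mem_map_iff_of_surjective _ Ideal.Quotient.mk_surjective).mp hmem
      have h1 : q - x ∈ I := Ideal.Quotient.eq.mp hqx
      have hxQ : x ∈ Q := by
        have := Q.sub_mem hq (hIQ h1)
        simpa using this
      exact hx hxQ
    · intro hy
      obtain ⟨x, rfl⟩ := Ideal.Quotient.mk_surjective y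
      refine ⟨x, ?_, rfl⟩
      intro hxQ
      exact hy (Ideal.mem_map_of_mem _ hxQ)
  haveI : IsLocalization.AtPrime
      (Localization.AtPrime Q ⧸ I.map (algebraMap E (Localization.AtPrime Q))) Qb := by
    show IsLocalization Qb.primeCompl _
    rw [← hsub]; exact hloc
  haveI : IsRegularLocalRing (Localization.AtPrime Qb) :=
    IsRegularRing.isRegularLocalRing_localization Qb
  haveI hq1 : IsRegularLocalRing
      (Localization.AtPrime Q ⧸ I.map (algebraMap E (Localization.AtPrime Q))) :=
    IsRegularLocalRing.of_ringEquiv (IsLocalization.algEquiv Qb.primeCompl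
      (Localization.AtPrime Qb)
      (Localization.AtPrime Q ⧸ I.map (algebraMap E (Localization.AtPrime Q)))).toRingEquiv
  have hr'nzd : r' ∈ nonZeroDivisors (Localization.AtPrime Q) :=
    IsLocalization.map_nonZeroDivisors_le Q.primeCompl (Localization.AtPrime Q)
      (Submonoid.mem_map_of_mem _ hr)
  have hJle : I.map (algebraMap E (Localization.AtPrime Q)) ≤
      IsLocalRing.maximalIdeal (Localization.AtPrime Q) := by
    rw [hmap, Ideal.span_singleton_le_iff_mem]
    exact (IsLocalization.AtPrime.to_map_mem_maximal_iff (Localization.AtPrime Q) Q r).mpr hrQ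
  refine Groth.Agent.Lib.Helper22.RegBaseSmooth.isRegularLocalRing_of_quotient
    (I.map (algebraMap E (Localization.AtPrime Q))) {r'} (by rw [hmap]; simp) hJle ?_
  have h1 := ringKrullDim_quotient_succ_le_of_nonZeroDivisor hr'nzd
  rw [← hmap] at h1
  simp only [Finset.card_singleton, Nat.cast_one]
  rw [add_comm]; exact h1

end quotLocal

section kummer

/-- `R[T]/(T^n - c)` is a regular ring if `R` and `R/c` are regular rings, `n` is invertible in
`R` and `c` is a nonzerodivisor. -/
theorem isRegularRing_adjoinRoot (R : Type u) [CommRing R] [IsRegularRing R] (n : ℕ) (hn : 0 < n)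
    (c : R) (hnu : IsUnit (n : R)) (hc : c ∈ nonZeroDivisors R)
    [IsRegularRing (R ⧸ Ideal.span {c})] :
    IsRegularRing (AdjoinRoot (X ^ n - C c : R[X])) := by
  have hmonic : (X ^ n - C c : R[X]).Monic := monic_X_pow_sub_C c hn.ne'
  haveI := hmonic.finite_adjoinRoot
  haveI : IsNoetherianRing (AdjoinRoot (X ^ n - C c : R[X])) :=
    isNoetherian_of_tower R
      (isNoetherian_of_isNoetherianRing_of_finite R (AdjoinRoot (X ^ n - C c : R[X])))
  haveI := etale_away n hn c hnu
  haveI hAway : IsRegularRing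
      (Localization.Away (AdjoinRoot.mk (X ^ n - C c : R[X]) (C c))) :=
    isRegularRing_of_etale R _
  haveI hQuot := isRegularRing_quot_root n c hn
  have hroot := root_mem_nonZeroDivisors n c hn hc
  refine isRegularRing_iff.mpr fun Q _ => ?_
  by_cases hx : AdjoinRoot.mk (X ^ n - C c : R[X]) (C c) ∈ Q
  · have hrQ : AdjoinRoot.root (X ^ n - C c : R[X]) ∈ Q := by
      rw [AdjoinRoot.mk_C, of_c_eq_root_pow n c] at hx
      exact Ideal.IsPrime.mem_of_pow_mem ‹_› n hx
    exact isRegularLocalRing_of_quotient_regularRing _ hroot Q hrQ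
  · exact Groth.Agent.Lib.Helper22.CMG.isRegularLocalRing_of_away _ Q hx

end kummer

section intClosed

/-- If `E/ϖ` is reduced and `ϖ` becomes a unit in `K ⊇ E`, then an element `x` of `K` that is
integral over `E` and satisfies `ϖ^m x ∈ E` lies in `E`. -/
theorem exists_preimage_of_integral {E K : Type*} [CommRing E] [CommRing K] (φ : E →+* K)
    (hφ : Function.Injective φ) (ϖ : E) (hϖ : IsUnit (φ ϖ)) [IsReduced (E ⧸ Ideal.span {ϖ})]
    (x : K) (p : E[X]) (hp : p.Monic) (hpx : p.eval₂ φ x = 0) :
    ∀ (m : ℕ) (y : E), φ ϖ ^ m * x = φ y → ∃ z, φ z = x := by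
  intro m
  induction m with
  | zero => intro y hy; exact ⟨y, by rw [← hy, pow_zero, one_mul]⟩
  | succ m ih =>
    intro y hy
    set s : E := ϖ ^ (m + 1) with hs
    have h1 : eval₂ φ (φ s * x) (p.scaleRoots s) = 0 := by
      rw [scaleRoots_eval₂_mul, hpx, mul_zero]
    have h2 : φ s * x = φ y := by rw [hs, map_pow]; exact hy
    rw [h2, Polynomial.eval₂_hom] at h1
    have h3 : (p.scaleRoots s).eval y = 0 := hφ (by rw [h1, map_zero])
    have h4 : y ^ p.natDegree ∈ Ideal.span {ϖ} := by
      rw [Polynomial.eval_eq_sum_range, natDegree_scaleRoots, Finset.sum_range_succ] at h3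
      have hlead : (p.scaleRoots s).coeff p.natDegree = 1 := by
        rw [coeff_scaleRoots, Nat.sub_self, pow_zero, mul_one]; exact hp.coeff_natDegree
      rw [hlead, one_mul] at h3
      have hsum : ∑ i ∈ Finset.range p.natDegree, (p.scaleRoots s).coeff i * y ^ i ∈
          Ideal.span {ϖ} := by
        refine Ideal.sum_mem _ fun i hi => ?_
        rw [coeff_scaleRoots]
        have hi' : i < p.natDegree := Finset.mem_range.mp hi
        have : s ^ (p.natDegree - i) ∈ Ideal.span {ϖ} := by
          rw [hs, ← pow_mul]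
          obtain ⟨k, hk⟩ : ∃ k, (m + 1) * (p.natDegree - i) = k + 1 :=
            ⟨(m + 1) * (p.natDegree - i) - 1, by
              have : 0 < (m + 1) * (p.natDegree - i) :=
                Nat.mul_pos (Nat.succ_pos m) (by omega)
              omega⟩
          rw [hk, pow_succ]
          exact Ideal.mul_mem_left _ _ (Ideal.subset_span (Set.mem_singleton _))
        exact Ideal.mul_mem_right _ _ (Ideal.mul_mem_left _ _ this)
      have : y ^ p.natDegree =
          - ∑ i ∈ Finset.range p.natDegree, (p.scaleRoots s).coeff i * y ^ i := by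
        linear_combination h3
      rw [this]; exact (Ideal.neg_mem_iff _).mpr hsum
    have h5 : y ∈ Ideal.span {ϖ} := by
      have h6 : (Ideal.Quotient.mk (Ideal.span {ϖ}) y) ^ p.natDegree = 0 := by
        rw [← map_pow]; exact Ideal.Quotient.eq_zero_iff_mem.mpr h4
      exact Ideal.Quotient.eq_zero_iff_mem.mp (IsNilpotent.eq_zero ⟨p.natDegree, h6⟩)
    obtain ⟨y', rfl⟩ := Ideal.mem_span_singleton'.mp h5
    refine ih y' ?_
    have : φ ϖ * (φ ϖ ^ m * x) = φ ϖ * φ y' := by
      rw [← mul_assoc, ← pow_succ', hy, map_mul, mul_comm]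
    exact hϖ.mul_left_cancel this

end intClosed

end Groth.Agent.Lib.Helper4.CycCov
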