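import Mathlib
import Groth.Agent.Lib.Helper4.CycCovA

/-!
# Cyclic covers, part B: the explicit normalization of `B[t]/(t^N - u f^α)`
-/

set_option autoImplicit false
set_option linter.style.haveILetI false
set_option linter.unusedSectionVars false
set_option linter.unusedVariables false
set_option linter.unusedSimpArgs false
set_option maxHeartbeats 1600000
set_option maxSynthPendingDepth 3

universe u

open Polynomial

namespace Groth.Agent.Lib.Helper4.CycCov

section tower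

variable (B : Type u) [CommRing B] (d : ℕ) (u : B) (N' a : ℕ) (f : B)

abbrev CC : Type u := AdjoinRoot (X ^ d - C u : B[X])

noncomputable def cE : CC B d u :=
  AdjoinRoot.root (X ^ d - C u : B[X]) ^ a * AdjoinRoot.of (X ^ d - C u : B[X]) f

abbrev EE : Type u := AdjoinRoot (X ^ N' - C (cE B d u a f) : (CC B d u)[X])

variable {B d u N' a f}

theorem isUnit_root_CC (hd : 0 < d) (hu : IsUnit u) :
    IsUnit (AdjoinRoot.root (X ^ d - C u : B[X])) := by
  have h := of_c_eq_root_pow d u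
  have h1 : IsUnit (AdjoinRoot.root (X ^ d - C u : B[X]) ^ d) := by
    rw [← h]; exact hu.map _
  exact (isUnit_pow_iff hd.ne').mp h1

theorem isRegularRing_CC [IsRegularRing B] (hd : 0 < d) (hdu : IsUnit (d : B)) (hu : IsUnit u) :
    IsRegularRing (CC B d u) := by
  haveI := etale_adjoinRoot d hd u hdu hu
  exact isRegularRing_of_etale B _

theorem cE_mem_nonZeroDivisors [IsDomain B] (hd : 0 < d) (hu : IsUnit u) (hf : f ≠ 0) :
    cE B d u a f ∈ nonZeroDivisors (CC B d u) := by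
  haveI := (monic_X_pow_sub_C u hd.ne').free_adjoinRoot
  rw [cE]
  refine mul_mem_nonZeroDivisors.mpr ⟨((isUnit_root_CC hd hu).pow a).mem_nonZeroDivisors, ?_⟩
  rw [← AdjoinRoot.algebraMap_eq]
  exact algebraMap_mem_nonZeroDivisors_of_flat (mem_nonZeroDivisors_of_ne_zero hf)

theorem isRegularRing_CC_quot [IsRegularRing (B ⧸ Ideal.span {f})] (hd : 0 < d)
    (hdu : IsUnit (d : B)) (hu : IsUnit u) :
    IsRegularRing (CC B d u ⧸ Ideal.span {cE B d u a f}) := by
  set I : Ideal B := Ideal.span {f} with hI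
  have h1 : Ideal.span {cE B d u a f} = I.map (AdjoinRoot.of (X ^ d - C u : B[X])) := by
    rw [hI, Ideal.map_span, Set.image_singleton, cE]
    exact Ideal.span_singleton_mul_left_unit ((isUnit_root_CC hd hu).pow a) _
  have hdu' : IsUnit ((d : ℕ) : B ⧸ I) := by
    have := hdu.map (Ideal.Quotient.mk I); simpa using this
  have hu' : IsUnit (Ideal.Quotient.mk I u) := hu.map _
  haveI := etale_adjoinRoot d hd (Ideal.Quotient.mk I u) hdu' hu'
  haveI h2 : IsRegularRing (AdjoinRoot (X ^ d - C (Ideal.Quotient.mk I u) : (B ⧸ I)[X])) :=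
    isRegularRing_of_etale (B ⧸ I) _
  have hmap : (X ^ d - C u : B[X]).map (Ideal.Quotient.mk I) =
      X ^ d - C (Ideal.Quotient.mk I u) := by
    simp [Polynomial.map_sub, Polynomial.map_pow]
  let e1 : (CC B d u ⧸ Ideal.span {cE B d u a f}) ≃+*
      (CC B d u ⧸ I.map (AdjoinRoot.of (X ^ d - C u : B[X]))) := Ideal.quotEquivOfEq h1
  let e2 := AdjoinRoot.quotAdjoinRootEquivQuotPolynomialQuot I (X ^ d - C u : B[X])
  let e3 : ((B ⧸ I)[X] ⧸ Ideal.span {(X ^ d - C u : B[X]).map (Ideal.Quotient.mk I)}) ≃+*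
      AdjoinRoot (X ^ d - C (Ideal.Quotient.mk I u) : (B ⧸ I)[X]) :=
    Ideal.quotEquivOfEq (by rw [hmap])
  exact IsRegularRing.of_ringEquiv ((e1.trans e2).trans e3).symm

theorem isRegularRing_EE [IsDomain B] [IsRegularRing B] [IsRegularRing (B ⧸ Ideal.span {f})]
    (hd : 0 < d) (hN' : 0 < N') (hdu : IsUnit (d : B)) (hN'u : IsUnit (N' : B)) (hu : IsUnit u)
    (hf : f ≠ 0) : IsRegularRing (EE B d u N' a f) := by
  haveI := isRegularRing_CC (B := B) hd hdu hu
  haveI := isRegularRing_CC_quot (a := a) (f := f) hd hdu hu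
  have hN'C : IsUnit ((N' : ℕ) : CC B d u) := by
    have := hN'u.map (algebraMap B (CC B d u)); simpa using this
  exact isRegularRing_adjoinRoot (CC B d u) N' hN' (cE B d u a f) hN'C
    (cE_mem_nonZeroDivisors hd hu hf)

theorem isReduced_EE_quot [IsRegularRing (B ⧸ Ideal.span {f})]
    (hd : 0 < d) (hN' : 0 < N') (hdu : IsUnit (d : B)) (hu : IsUnit u) :
    IsReduced (EE B d u N' a f ⧸
      Ideal.span {AdjoinRoot.root (X ^ N' - C (cE B d u a f) : (CC B d u)[X])}) := by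
  haveI := isRegularRing_CC_quot (a := a) (f := f) hd hdu hu
  haveI := isRegularRing_quot_root N' (cE B d u a f) hN'
  exact isReduced_of_isRegularRing _

end tower

section generic

variable {Rg : Type*} [CommRing Rg] (T s si F U : Rg) (d N' α' a b₁ b₂ N α : ℕ)

theorem genE1 (hs : s * si = 1) (hsd : s ^ d = U) (hT : T ^ N' = s ^ a * F) (hN : N = d * N')
    (hα : α = d * α') (hbez : a * α' + N' * b₂ = 1 + N' * b₁) :
    (T ^ α' * (s ^ b₂ * si ^ b₁)) ^ N = U * F ^ α := by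
  have h1 : (T ^ α' * (s ^ b₂ * si ^ b₁)) ^ N =
      (T ^ N') ^ (α' * d) * s ^ (b₂ * N) * si ^ (b₁ * N) := by
    rw [hN]; ring
  rw [h1, hT]
  have h2 : (s ^ a * F) ^ (α' * d) * s ^ (b₂ * N) * si ^ (b₁ * N) =
      s ^ (a * α' * d + b₂ * N) * F ^ (α' * d) * si ^ (b₁ * N) := by ring
  rw [h2]
  have h3 : a * α' * d + b₂ * N = d + b₁ * N := by
    rw [hN]
    calc a * α' * d + b₂ * (d * N') = d * (a * α' + N' * b₂) := by ring
      _ = d * (1 + N' * b₁) := by rw [hbez]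
      _ = d + b₁ * (d * N') := by ring
  have h4 : α' * d = α := by rw [hα, mul_comm]
  rw [h3, h4, pow_add]
  have h5 : s ^ (b₁ * N) * si ^ (b₁ * N) = 1 := by rw [← mul_pow, hs, one_pow]
  rw [hsd]; linear_combination (U * F ^ α) * h5

theorem genE2 (hs : s * si = 1) (hT : T ^ N' = s ^ a * F)
    (hbez : a * α' + N' * b₂ = 1 + N' * b₁) :
    (T ^ α' * (s ^ b₂ * si ^ b₁)) ^ N' = s * F ^ α' := by
  have h1 : (T ^ α' * (s ^ b₂ * si ^ b₁)) ^ N' =
      (T ^ N') ^ α' * s ^ (b₂ * N') * si ^ (b₁ * N') := by ring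
  rw [h1, hT]
  have h2 : (s ^ a * F) ^ α' * s ^ (b₂ * N') * si ^ (b₁ * N') =
      s ^ (a * α' + N' * b₂) * F ^ α' * si ^ (b₁ * N') := by ring
  rw [h2, hbez]
  have h5 : s ^ (b₁ * N') * si ^ (b₁ * N') = 1 := by rw [← mul_pow, hs, one_pow]
  have h6 : s ^ (1 + N' * b₁) = s * s ^ (b₁ * N') := by ring
  rw [h6]; linear_combination (s * F ^ α') * h5

theorem genE3 (hs : s * si = 1) (hT : T ^ N' = s ^ a * F)
    (hbez : a * α' = 1 + N' * b₁) :
    (T ^ α' * si ^ b₁) ^ a = T * F ^ b₁ := by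
  have h1 : (T ^ α' * si ^ b₁) ^ a = T ^ (a * α') * si ^ (a * b₁) := by ring
  rw [h1, hbez]
  have h2 : T ^ (1 + N' * b₁) = T * (T ^ N') ^ b₁ := by ring
  rw [h2, hT]
  have h5 : s ^ (a * b₁) * si ^ (a * b₁) = 1 := by rw [← mul_pow, hs, one_pow]
  have h6 : T * (s ^ a * F) ^ b₁ * si ^ (a * b₁) = T * F ^ b₁ * (s ^ (a * b₁) * si ^ (a * b₁)) := by
    ring
  rw [h6, h5, mul_one]

end generic

/-- The numerical data of a cyclic cover `t^N = u f^α`, with `N = d N'`, `α = d α'` and a Bezout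
relation `a α' + N' b₂ = 1 + N' b₁`. -/
structure Data (B : Type u) [CommRing B] where
  u : Bˣ
  f : B
  N : ℕ
  α : ℕ
  d : ℕ
  N' : ℕ
  α' : ℕ
  a : ℕ
  b₁ : ℕ
  b₂ : ℕ
  hd : 0 < d
  hN' : 0 < N'
  hN : N = d * N'
  hα : α = d * α'
  hbez : a * α' + N' * b₂ = 1 + N' * b₁

namespace Data

variable {B : Type u} [CommRing B] (D : Data B)

theorem hNpos : 0 < D.N := by rw [D.hN]; exact Nat.mul_pos D.hd D.hN'

noncomputable abbrev P : B[X] := X ^ D.N - C ((D.u : B) * D.f ^ D.α)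
abbrev A' : Type u := AdjoinRoot D.P
abbrev K : Type u := Localization.Away (algebraMap B D.A' D.f)

noncomputable def tK : D.K := algebraMap D.A' D.K (AdjoinRoot.root D.P)
noncomputable def fK : D.K := algebraMap B D.K D.f
noncomputable def uK : D.K := algebraMap B D.K (D.u : B)
noncomputable def uKinv : D.K := algebraMap B D.K ((D.u⁻¹ : Bˣ) : B)
noncomputable def finv : D.K := IsLocalization.Away.invSelf (algebraMap B D.A' D.f)

theorem map_fA' : algebraMap D.A' D.K (algebraMap B D.A' D.f) = D.fK :=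
  (IsScalarTower.algebraMap_apply B D.A' D.K D.f).symm

theorem fK_mul_finv : D.fK * D.finv = 1 := by
  have h := IsLocalization.Away.mul_invSelf (S := D.K) (algebraMap B D.A' D.f)
  rw [D.map_fA'] at h
  exact h

theorem uK_mul_uKinv : D.uK * D.uKinv = 1 := by
  rw [uK, uKinv, ← map_mul, Units.mul_inv, map_one]

theorem tK_pow_N : D.tK ^ D.N = D.uK * D.fK ^ D.α := by
  have h := of_c_eq_root_pow D.N ((D.u : B) * D.f ^ D.α)
  have h2 := congrArg (algebraMap D.A' D.K) h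
  rw [map_pow, ← AdjoinRoot.algebraMap_eq, ← IsScalarTower.algebraMap_apply, map_mul, map_pow] at h2
  exact h2.symm

noncomputable def mon (x y₁ y₂ : ℕ) : D.K := D.tK ^ x * D.fK ^ y₁ * D.finv ^ y₂

theorem mon_mul (x y₁ y₂ x' y₁' y₂' : ℕ) :
    D.mon x y₁ y₂ * D.mon x' y₁' y₂' = D.mon (x + x') (y₁ + y₁') (y₂ + y₂') := by
  simp only [mon, pow_add]; ring

theorem mon_pow (x y₁ y₂ n : ℕ) : (D.mon x y₁ y₂) ^ n = D.mon (x * n) (y₁ * n) (y₂ * n) := by
  simp only [mon, mul_pow, pow_mul]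

theorem mon_eq {x y₁ y₂ x' y₁' y₂' : ℕ} (hx : x = x') (hy : y₁ + y₂' = y₁' + y₂) :
    D.mon x y₁ y₂ = D.mon x' y₁' y₂' := by
  subst hx
  have h1 : ∀ m, D.fK ^ m * D.finv ^ m = 1 := fun m => by
    rw [← mul_pow, D.fK_mul_finv, one_pow]
  have e1 : D.fK ^ y₁ * D.finv ^ y₂ = D.fK ^ (y₁ + y₂') * D.finv ^ (y₂ + y₂') := by
    rw [pow_add, pow_add]; linear_combination (-(D.fK ^ y₁ * D.finv ^ y₂)) * h1 y₂'
  have e2 : D.fK ^ y₁' * D.finv ^ y₂' = D.fK ^ (y₁' + y₂) * D.finv ^ (y₂' + y₂) := by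
    rw [pow_add, pow_add]; linear_combination (-(D.fK ^ y₁' * D.finv ^ y₂')) * h1 y₂
  simp only [mon, mul_assoc]
  rw [e1, e2, hy, add_comm y₂ y₂']

noncomputable def sK : D.K := D.mon D.N' 0 D.α'
noncomputable def tauK : D.K := D.mon D.a D.b₂ D.b₁
noncomputable def sKinv : D.K := D.sK ^ (D.d - 1) * D.uKinv
noncomputable def gen (i : ℕ) : D.K :=
  algebraMap D.A' D.K (AdjoinRoot.root D.P ^ i) * D.finv ^ (i * D.α / D.N)

theorem gen_eq_mon (i : ℕ) : D.gen i = D.mon i 0 (i * D.α / D.N) := by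
  simp only [gen, mon, tK, map_pow, pow_zero, mul_one]

theorem fK_eq_mon : D.fK = D.mon 0 1 0 := by
  simp only [mon, pow_zero, pow_one, one_mul, mul_one]

theorem tK_eq_mon : D.tK = D.mon 1 0 0 := by
  simp only [mon, pow_zero, pow_one, mul_one]

theorem sK_pow_d : D.sK ^ D.d = D.uK := by
  rw [sK, mon_pow]
  have h1 : D.N' * D.d = D.N := by rw [D.hN, mul_comm]
  have h2 : D.α' * D.d = D.α := by rw [D.hα, mul_comm]
  rw [h1, h2, zero_mul]
  simp only [mon, pow_zero, mul_one]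
  rw [D.tK_pow_N, mul_assoc, ← mul_pow, D.fK_mul_finv, one_pow, mul_one]

theorem sK_mul_sKinv : D.sK * D.sKinv = 1 := by
  rw [sKinv, ← mul_assoc, ← pow_succ', Nat.sub_add_cancel D.hd, D.sK_pow_d, D.uK_mul_uKinv]

theorem tauK_pow : D.tauK ^ D.N' = D.sK ^ D.a * D.fK := by
  rw [tauK, sK, mon_pow, mon_pow, D.fK_eq_mon, mon_mul]
  refine D.mon_eq (by ring) ?_
  have := D.hbez
  nlinarith [this]

theorem tauK_pow_alpha : D.tauK ^ D.α' * D.sK ^ D.b₂ = D.tK * D.sK ^ D.b₁ := by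
  rw [tauK, sK, mon_pow, mon_pow, mon_pow, D.tK_eq_mon, mon_mul, mon_mul]
  refine D.mon_eq ?_ (by ring)
  have := D.hbez
  nlinarith [this]

theorem gen_mul (i : ℕ) :
    D.gen i * D.sK ^ (i * D.b₁) =
      D.tauK ^ ((i * D.α') % D.N') * D.sK ^ (D.a * ((i * D.α') / D.N') + i * D.b₂) := by
  have hq : i * D.α / D.N = (i * D.α') / D.N' := by
    rw [D.hα, D.hN, ← mul_assoc, mul_comm i D.d, mul_assoc, Nat.mul_div_mul_left _ _ D.hd]
  have hdiv := Nat.div_add_mod (i * D.α') D.N'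
  rw [gen_eq_mon, hq]
  generalize (i * D.α') / D.N' = q at hdiv ⊢
  generalize (i * D.α') % D.N' = r at hdiv ⊢
  rw [tauK, sK, mon_pow, mon_pow, mon_pow, mon_mul, mon_mul]
  have hbez : (D.a : ℤ) * D.α' + D.N' * D.b₂ = 1 + D.N' * D.b₁ := by exact_mod_cast D.hbez
  have hdiv' : (D.N' : ℤ) * q + r = i * D.α' := by exact_mod_cast hdiv
  refine D.mon_eq ?_ ?_
  · zify
    linear_combination (-(i : ℤ)) * hbez - (D.a : ℤ) * hdiv'
  · zify
    linear_combination (q : ℤ) * hbez - ((D.b₂ : ℤ) - D.b₁) * hdiv'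

theorem isUnit_tauK : IsUnit D.tauK := by
  have h1 : IsUnit D.sK := IsUnit.of_mul_eq_one _ D.sK_mul_sKinv
  have h2 : IsUnit D.fK := IsUnit.of_mul_eq_one _ D.fK_mul_finv
  have h3 : IsUnit (D.tauK ^ D.N') := by rw [D.tauK_pow]; exact (h1.pow _).mul h2
  exact (isUnit_pow_iff D.hN'.ne').mp h3

/-! ### The abstract side -/

abbrev Cr : Type u := CC B D.d (D.u : B)
abbrev E : Type u := EE B D.d (D.u : B) D.N' D.a D.f

noncomputable def S : D.Cr := AdjoinRoot.root (X ^ D.d - C (D.u : B) : B[X])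
noncomputable def sinv : D.Cr :=
  D.S ^ (D.d - 1) * AdjoinRoot.of (X ^ D.d - C (D.u : B) : B[X]) ((D.u⁻¹ : Bˣ) : B)

theorem S_pow_d : D.S ^ D.d = AdjoinRoot.of (X ^ D.d - C (D.u : B) : B[X]) (D.u : B) :=
  (of_c_eq_root_pow D.d (D.u : B)).symm

theorem S_mul_sinv : D.S * D.sinv = 1 := by
  rw [sinv, ← mul_assoc, ← pow_succ', Nat.sub_add_cancel D.hd, S_pow_d, ← map_mul, Units.mul_inv,
    map_one]

noncomputable def phiC : D.Cr →ₐ[B] D.K :=
  AdjoinRoot.liftAlgHom _ (Algebra.ofId B D.K) D.sK (by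
    simp only [eval₂_sub, eval₂_pow, eval₂_X, eval₂_C, RingHom.coe_coe, Algebra.ofId_apply]
    rw [D.sK_pow_d, uK, sub_self])

theorem phiC_S : D.phiC D.S = D.sK := AdjoinRoot.liftAlgHom_root _ _ _ _

theorem phiC_of (b : B) :
    D.phiC (AdjoinRoot.of (X ^ D.d - C (D.u : B) : B[X]) b) = algebraMap B D.K b := by
  rw [phiC, AdjoinRoot.liftAlgHom_of, Algebra.ofId_apply]

theorem phiC_sinv : D.phiC D.sinv = D.sKinv := by
  rw [sinv, map_mul, map_pow, phiC_S, phiC_of, sKinv, uKinv]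

theorem phiC_cE : D.phiC (cE B D.d (D.u : B) D.a D.f) = D.sK ^ D.a * D.fK := by
  show D.phiC (D.S ^ D.a * AdjoinRoot.of (X ^ D.d - C (D.u : B) : B[X]) D.f) = _
  rw [map_mul, map_pow, phiC_S, phiC_of, fK]

noncomputable def phi : D.E →ₐ[B] D.K :=
  AdjoinRoot.liftAlgHom _ D.phiC D.tauK (by
    simp only [eval₂_sub, eval₂_pow, eval₂_X, eval₂_C, RingHom.coe_coe]
    rw [D.phiC_cE, D.tauK_pow, sub_self])

noncomputable def TE : D.E := AdjoinRoot.root _
noncomputable def sE : D.E := AdjoinRoot.of _ D.S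
noncomputable def siE : D.E := AdjoinRoot.of _ D.sinv
noncomputable def FE : D.E := algebraMap B D.E D.f
noncomputable def UE : D.E := algebraMap B D.E (D.u : B)

theorem phi_TE : D.phi D.TE = D.tauK := AdjoinRoot.liftAlgHom_root _ _ _ _

theorem phi_of (c : D.Cr) : D.phi (AdjoinRoot.of _ c) = D.phiC c :=
  AdjoinRoot.liftAlgHom_of _ _ _ _ _

theorem phi_sE : D.phi D.sE = D.sK := by rw [sE, phi_of, phiC_S]

theorem phi_siE : D.phi D.siE = D.sKinv := by rw [siE, phi_of, phiC_sinv]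

theorem algebraMap_E (b : B) :
    algebraMap B D.E b = AdjoinRoot.of _ (AdjoinRoot.of (X ^ D.d - C (D.u : B) : B[X]) b) := by
  rw [AdjoinRoot.algebraMap_eq', RingHom.comp_apply, AdjoinRoot.algebraMap_eq]

theorem sE_mul_siE : D.sE * D.siE = 1 := by
  rw [sE, siE, ← map_mul, S_mul_sinv, map_one]

theorem sE_pow_d : D.sE ^ D.d = D.UE := by
  rw [sE, ← map_pow, S_pow_d, UE, algebraMap_E]

theorem TE_pow : D.TE ^ D.N' = D.sE ^ D.a * D.FE := by
  have h := of_c_eq_root_pow D.N' (cE B D.d (D.u : B) D.a D.f)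
  rw [TE, ← h, FE, algebraMap_E, sE, ← map_pow, ← map_mul]
  rfl

noncomputable def theta : D.E := D.TE ^ D.α' * (D.sE ^ D.b₂ * D.siE ^ D.b₁)

theorem theta_pow_N : D.theta ^ D.N = D.UE * D.FE ^ D.α :=
  genE1 D.TE D.sE D.siE D.FE D.UE D.d D.N' D.α' D.a D.b₁ D.b₂ D.N D.α D.sE_mul_siE D.sE_pow_d
    D.TE_pow D.hN D.hα D.hbez

theorem theta_pow_N' : D.theta ^ D.N' = D.sE * D.FE ^ D.α' :=
  genE2 D.TE D.sE D.siE D.FE D.N' D.α' D.a D.b₁ D.b₂ D.sE_mul_siE D.TE_pow D.hbez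

noncomputable def psi : D.A' →ₐ[B] D.E :=
  AdjoinRoot.liftAlgHom _ (Algebra.ofId B D.E) D.theta (by
    simp only [eval₂_sub, eval₂_pow, eval₂_X, eval₂_C, RingHom.coe_coe, Algebra.ofId_apply]
    rw [D.theta_pow_N, map_mul, map_pow, UE, FE, sub_self])

theorem psi_root : D.psi (AdjoinRoot.root D.P) = D.theta := AdjoinRoot.liftAlgHom_root _ _ _ _

theorem phi_theta : D.phi D.theta = D.tK := by
  rw [theta, map_mul, map_mul, map_pow, map_pow, map_pow, phi_TE, phi_sE, phi_siE]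
  have h := D.tauK_pow_alpha
  have h1 : D.sK ^ D.b₁ * D.sKinv ^ D.b₁ = 1 := by rw [← mul_pow, sK_mul_sKinv, one_pow]
  calc D.tauK ^ D.α' * (D.sK ^ D.b₂ * D.sKinv ^ D.b₁)
      = (D.tauK ^ D.α' * D.sK ^ D.b₂) * D.sKinv ^ D.b₁ := by ring
    _ = D.tK * (D.sK ^ D.b₁ * D.sKinv ^ D.b₁) := by rw [h]; ring
    _ = D.tK := by rw [h1, mul_one]

theorem phi_comp_psi : D.phi.comp D.psi = IsScalarTower.toAlgHom B D.A' D.K := by
  apply AdjoinRoot.algHom_ext
  rw [AlgHom.comp_apply, psi_root, phi_theta]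
  rfl

theorem phi_psi_apply (x : D.A') : D.phi (D.psi x) = algebraMap D.A' D.K x := by
  have := DFunLike.congr_fun D.phi_comp_psi x
  rw [AlgHom.comp_apply] at this
  rw [this]; rfl

/-- The two admissible shapes of the Bezout data. -/
def Case : Prop :=
  (D.b₂ = 0 ∧ D.a < D.N ∧ D.a * D.α / D.N = D.b₁) ∨
    (D.N' = 1 ∧ D.a = 0 ∧ D.b₁ = 0 ∧ D.b₂ = 1)

/-- Elements of `E` that land in the image of `ψ` after multiplication by a power of `f`. -/
noncomputable def W : Subalgebra B D.E where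
  carrier := {e | ∃ (m : ℕ) (x : D.A'), algebraMap B D.E (D.f ^ m) * e = D.psi x}
  mul_mem' := by
    rintro e e' ⟨m, x, hx⟩ ⟨m', x', hx'⟩
    refine ⟨m + m', x * x', ?_⟩
    rw [map_mul, ← hx, ← hx', pow_add, map_mul]; ring
  add_mem' := by
    rintro e e' ⟨m, x, hx⟩ ⟨m', x', hx'⟩
    refine ⟨m + m', algebraMap B D.A' (D.f ^ m') * x + algebraMap B D.A' (D.f ^ m) * x', ?_⟩
    rw [map_add, map_mul, map_mul, AlgHom.commutes, AlgHom.commutes, ← hx, ← hx', pow_add,
      map_mul]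
    ring
  algebraMap_mem' := by
    intro r
    exact ⟨0, algebraMap B D.A' r, by rw [pow_zero, map_one, one_mul, AlgHom.commutes]⟩

theorem sE_mem_W : D.sE ∈ D.W := by
  refine ⟨D.α', AdjoinRoot.root D.P ^ D.N', ?_⟩
  rw [map_pow D.psi, psi_root, D.theta_pow_N', map_pow (algebraMap B D.E), FE, mul_comm]

theorem TE_mem_W (hcase : D.Case) : D.TE ∈ D.W := by
  rcases hcase with ⟨hb₂, -, -⟩ | ⟨hN'1, ha, hb₁, hb₂⟩
  · refine ⟨D.b₁, AdjoinRoot.root D.P ^ D.a, ?_⟩
    rw [map_pow D.psi, psi_root, map_pow (algebraMap B D.E), theta, hb₂, pow_zero, one_mul]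
    have hbez : D.a * D.α' = 1 + D.N' * D.b₁ := by
      have := D.hbez; rw [hb₂, mul_zero, add_zero] at this; exact this
    rw [genE3 D.TE D.sE D.siE D.FE D.N' D.α' D.a D.b₁ D.sE_mul_siE D.TE_pow hbez, FE, mul_comm]
  · refine ⟨0, algebraMap B D.A' D.f, ?_⟩
    have h := D.TE_pow
    have e1 : D.TE ^ D.N' = D.TE ^ 1 := congrArg (fun n => D.TE ^ n) hN'1
    have e2 : D.sE ^ D.a = D.sE ^ 0 := congrArg (fun n => D.sE ^ n) ha
    rw [e1, e2, pow_one, pow_zero, one_mul] at h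
    rw [pow_zero, map_one, one_mul, AlgHom.commutes, h, FE]

theorem algebraMap_Cr_mem_W (c : D.Cr) : algebraMap D.Cr D.E c ∈ D.W := by
  obtain ⟨q, rfl⟩ := AdjoinRoot.mk_surjective c
  rw [← AdjoinRoot.aeval_eq, ← Polynomial.aeval_algebraMap_apply]
  have h : Algebra.adjoin B {algebraMap D.Cr D.E (AdjoinRoot.root (X ^ D.d - C (D.u : B) : B[X]))}
      ≤ D.W := by
    refine Algebra.adjoin_le (Set.singleton_subset_iff.mpr ?_)
    have := D.sE_mem_W
    rwa [sE, S, ← AdjoinRoot.algebraMap_eq] at this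
  exact h (Polynomial.aeval_mem_adjoin_singleton B _)

theorem W_eq_top (hcase : D.Case) : D.W = ⊤ := by
  rw [eq_top_iff]
  rintro e -
  obtain ⟨p, rfl⟩ := AdjoinRoot.mk_surjective e
  rw [← AdjoinRoot.aeval_eq, Polynomial.aeval_eq_sum_range]
  refine Subalgebra.sum_mem _ fun i _ => ?_
  rw [Algebra.smul_def]
  exact Subalgebra.mul_mem _ (D.algebraMap_Cr_mem_W (p.coeff i))
    (Subalgebra.pow_mem _ (D.TE_mem_W hcase) i)

theorem monic_P : D.P.Monic := monic_X_pow_sub_C _ D.hNpos.ne'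

theorem fA'_nzd [IsDomain B] (hf : D.f ≠ 0) :
    algebraMap B D.A' D.f ∈ nonZeroDivisors D.A' := by
  haveI := D.monic_P.free_adjoinRoot
  exact algebraMap_mem_nonZeroDivisors_of_flat (mem_nonZeroDivisors_of_ne_zero hf)

theorem flat_E : Module.Flat B D.E := by
  haveI := (monic_X_pow_sub_C (D.u : B) D.hd.ne').free_adjoinRoot
  haveI := (monic_X_pow_sub_C (cE B D.d (D.u : B) D.a D.f) D.hN'.ne').free_adjoinRoot
  exact Module.Flat.trans B D.Cr D.E

theorem finite_E : Module.Finite B D.E := by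
  haveI := (monic_X_pow_sub_C (D.u : B) D.hd.ne').finite_adjoinRoot
  haveI := (monic_X_pow_sub_C (cE B D.d (D.u : B) D.a D.f) D.hN'.ne').finite_adjoinRoot
  exact Module.Finite.trans D.Cr D.E

theorem phi_injective [IsDomain B] (hf : D.f ≠ 0) (hcase : D.Case) :
    Function.Injective D.phi := by
  rw [injective_iff_map_eq_zero]
  intro e he
  have hW : e ∈ D.W := by rw [D.W_eq_top hcase]; trivial
  obtain ⟨m, x, hx⟩ := hW
  have h1 : algebraMap D.A' D.K x = 0 := by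
    have := congrArg D.phi hx
    rw [map_mul, he, mul_zero] at this
    rw [← D.phi_psi_apply, ← this]
  have hx0 : x = 0 := by
    have hinj : Function.Injective (algebraMap D.A' D.K) :=
      IsLocalization.injective D.K (M := Submonoid.powers (algebraMap B D.A' D.f))
        (Submonoid.powers_le.mpr (D.fA'_nzd hf))
    exact hinj (by rw [h1, map_zero])
  rw [hx0, map_zero] at hx
  haveI := D.flat_E
  have hnzd : algebraMap B D.E (D.f ^ m) ∈ nonZeroDivisors D.E :=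
    algebraMap_mem_nonZeroDivisors_of_flat (mem_nonZeroDivisors_of_ne_zero (pow_ne_zero m hf))
  exact (mem_nonZeroDivisors_iff_right.mp hnzd) e (by rw [mul_comm]; exact hx)

/-! ### Comparison of the range of `φ` with the subalgebra generated by the `gen i` -/

theorem sK_mem (A : Subalgebra B D.K) (hA : ∀ i < D.N, D.gen i ∈ A) : D.sK ∈ A := by
  rcases Nat.eq_or_lt_of_le (Nat.succ_le_of_lt D.hd) with h1 | h1
  · have := D.sK_pow_d
    rw [← h1, pow_one] at this
    rw [this]; exact A.algebraMap_mem _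
  · have hlt : D.N' < D.N := by
      rw [D.hN]; nlinarith [D.hN']
    have := hA D.N' hlt
    rw [gen_eq_mon] at this
    have hq : D.N' * D.α / D.N = D.α' := by
      rw [D.hα, D.hN, ← mul_assoc, mul_comm D.N' D.d, mul_assoc, Nat.mul_div_mul_left _ _ D.hd,
        Nat.mul_div_cancel_left _ D.hN']
    rwa [hq] at this

theorem tauK_mem (A : Subalgebra B D.K) (hA : ∀ i < D.N, D.gen i ∈ A) (hcase : D.Case) :
    D.tauK ∈ A := by
  rcases hcase with ⟨hb₂, ha, hab⟩ | ⟨hN'1, ha, hb₁, hb₂⟩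
  · have := hA D.a ha
    rw [gen_eq_mon, hab] at this
    rwa [tauK, hb₂]
  · rw [tauK, ha, hb₁, hb₂, ← D.fK_eq_mon]
    exact A.algebraMap_mem _

theorem phiC_mem (A : Subalgebra B D.K) (hA : ∀ i < D.N, D.gen i ∈ A) (c : D.Cr) :
    D.phiC c ∈ A := by
  obtain ⟨q, rfl⟩ := AdjoinRoot.mk_surjective c
  rw [phiC, AdjoinRoot.liftAlgHom_mk, Polynomial.eval₂_eq_sum_range]
  refine Subalgebra.sum_mem _ fun i _ => ?_
  exact Subalgebra.mul_mem _ (A.algebraMap_mem _) (Subalgebra.pow_mem _ (D.sK_mem A hA) i)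

theorem phi_mem (A : Subalgebra B D.K) (hA : ∀ i < D.N, D.gen i ∈ A) (hcase : D.Case) (e : D.E) :
    D.phi e ∈ A := by
  obtain ⟨p, rfl⟩ := AdjoinRoot.mk_surjective e
  rw [phi, AdjoinRoot.liftAlgHom_mk, Polynomial.eval₂_eq_sum_range]
  refine Subalgebra.sum_mem _ fun i _ => ?_
  exact Subalgebra.mul_mem _ (D.phiC_mem A hA (p.coeff i))
    (Subalgebra.pow_mem _ (D.tauK_mem A hA hcase) i)

theorem gen_mem_range (i : ℕ) : D.gen i ∈ D.phi.range := by
  have h := D.gen_mul i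
  have h1 : D.sK ^ (i * D.b₁) * D.sKinv ^ (i * D.b₁) = 1 := by
    rw [← mul_pow, sK_mul_sKinv, one_pow]
  have h2 : D.gen i = D.tauK ^ ((i * D.α') % D.N') *
      D.sK ^ (D.a * ((i * D.α') / D.N') + i * D.b₂) * D.sKinv ^ (i * D.b₁) := by
    rw [← h, mul_assoc, h1, mul_one]
  rw [h2, AlgHom.mem_range]
  refine ⟨D.TE ^ ((i * D.α') % D.N') * D.sE ^ (D.a * ((i * D.α') / D.N') + i * D.b₂) *
    D.siE ^ (i * D.b₁), ?_⟩
  rw [map_mul, map_mul, map_pow, map_pow, map_pow, phi_TE, phi_sE, phi_siE]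

theorem range_phi_eq (hcase : D.Case) :
    D.phi.range = Algebra.adjoin B (Set.range fun i : Fin D.N => D.gen i) := by
  apply le_antisymm
  · rintro _ ⟨e, rfl⟩
    exact D.phi_mem (Algebra.adjoin B (Set.range fun i : Fin D.N => D.gen i))
      (fun i hi => Algebra.subset_adjoin (Set.mem_range.mpr ⟨⟨i, hi⟩, rfl⟩)) hcase e
  · refine Algebra.adjoin_le ?_
    rintro _ ⟨i, rfl⟩
    exact D.gen_mem_range i

theorem exists_tauK_pow_mul (x : D.K) : ∃ (n : ℕ) (y : D.E), D.tauK ^ n * x = D.phi y := by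
  obtain ⟨⟨a', ⟨_, n, rfl⟩⟩, hx⟩ :=
    IsLocalization.surj (Submonoid.powers (algebraMap B D.A' D.f)) x
  refine ⟨D.N' * n, D.sE ^ (D.a * n) * D.psi a', ?_⟩
  have hx' : x * D.fK ^ n = algebraMap D.A' D.K a' := by
    rw [← hx, map_pow, D.map_fA']
  rw [map_mul, map_pow, phi_sE, phi_psi_apply, ← hx', pow_mul, D.tauK_pow, mul_pow, pow_mul]
  ring

/-! ### The main theorem -/

theorem main [IsDomain B] [IsRegularRing B] [IsRegularRing (B ⧸ Ideal.span {D.f})]
    (hf : D.f ≠ 0) (hdu : IsUnit (D.d : B)) (hN'u : IsUnit (D.N' : B)) (hcase : D.Case)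
    (A : Subalgebra B D.K)
    (hA : A = Algebra.adjoin B (Set.range fun i : Fin D.N => D.gen i)) :
    Module.Finite B A ∧ IsIntegralClosure A D.A' D.K ∧
      ∀ (Q : Ideal A) [Q.IsPrime], IsRegularLocalRing (Localization.AtPrime Q) := by
  have hrange : D.phi.range = A := by rw [hA]; exact D.range_phi_eq hcase
  subst hrange
  have hinj := D.phi_injective hf hcase
  haveI hfin := D.finite_E
  haveI hregE : IsRegularRing D.E :=
    isRegularRing_EE D.hd D.hN' hdu hN'u D.u.isUnit hf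
  haveI hred := isReduced_EE_quot (B := B) (a := D.a) (f := D.f) D.hd D.hN' hdu D.u.isUnit
  refine ⟨?_, ?_, ?_⟩
  · exact Module.Finite.of_surjective D.phi.rangeRestrict.toLinearMap
      D.phi.rangeRestrict_surjective
  · haveI := D.monic_P.finite_adjoinRoot
    haveI : Algebra.IsIntegral B D.A' := inferInstance
    refine ⟨Subtype.val_injective, fun {x} => ⟨fun hx => ?_, ?_⟩⟩
    · have hxB : IsIntegral B x := isIntegral_trans x hx
      obtain ⟨p, hp, hpx⟩ := hxB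
      obtain ⟨n, y, hy⟩ := D.exists_tauK_pow_mul x
      have hpx' : (p.map (algebraMap B D.E)).eval₂ (D.phi : D.E →+* D.K) x = 0 := by
        rw [Polynomial.eval₂_map]
        have : (D.phi : D.E →+* D.K).comp (algebraMap B D.E) = algebraMap B D.K :=
          D.phi.comp_algebraMap
        rw [this]; exact hpx
      have hu : IsUnit ((D.phi : D.E →+* D.K) D.TE) := by
        show IsUnit (D.phi D.TE)
        rw [D.phi_TE]; exact D.isUnit_tauK
      haveI : IsReduced (D.E ⧸ Ideal.span {D.TE}) := hred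
      obtain ⟨z, hz⟩ := exists_preimage_of_integral (D.phi : D.E →+* D.K) hinj D.TE hu x
        (p.map (algebraMap B D.E)) (hp.map _) hpx' n y (by
          show D.phi D.TE ^ n * x = D.phi y
          rw [D.phi_TE]; exact hy)
      exact ⟨⟨D.phi z, z, rfl⟩, hz⟩
    · rintro ⟨⟨_, e, rfl⟩, rfl⟩
      have he : IsIntegral B e := Algebra.IsIntegral.isIntegral e
      have h1 : IsIntegral B (D.phi e) := he.map D.phi
      exact h1.tower_top
  · haveI : IsRegularRing D.phi.range :=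
      IsRegularRing.of_ringEquiv (AlgEquiv.ofInjective D.phi hinj).toRingEquiv
    intro Q _
    exact IsRegularRing.isRegularLocalRing_localization Q

end Data

end Groth.Agent.Lib.Helper4.CycCov
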