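import Mathlib
import Groth.Agent.Lib.Helper4.CycCovB

/-!
# Cyclic covers, part C: the arithmetic choice of the Bezout data and the final statement
-/

set_option autoImplicit false
set_option linter.style.haveILetI false
set_option linter.unusedSectionVars false
set_option linter.unusedVariables false
set_option linter.unusedSimpArgs false
set_option maxHeartbeats 1600000
set_option maxSynthPendingDepth 3

universe u

open Polynomial

namespace Groth.Agent.Lib.Helper4.CycCov

theorem exists_data {B : Type u} [CommRing B] (u : Bˣ) (f : B) (N α : ℕ) (hN : 0 < N) :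
    ∃ D : Data B, D.u = u ∧ D.f = f ∧ D.N = N ∧ D.α = α ∧ D.Case := by
  obtain ⟨d, N', α', hd, hN', hNeq, hαeq, hcop⟩ : ∃ d N' α' : ℕ, 0 < d ∧ 0 < N' ∧ N = d * N' ∧
      α = d * α' ∧ Nat.Coprime N' α' := by
    refine ⟨Nat.gcd N α, N / Nat.gcd N α, α / Nat.gcd N α, ?_, ?_, ?_, ?_, ?_⟩
    · exact Nat.gcd_pos_of_pos_left α hN
    · exact Nat.div_pos (Nat.le_of_dvd hN (Nat.gcd_dvd_left N α))
        (Nat.gcd_pos_of_pos_left α hN)
    · exact (Nat.mul_div_cancel' (Nat.gcd_dvd_left N α)).symm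
    · exact (Nat.mul_div_cancel' (Nat.gcd_dvd_right N α)).symm
    · exact Nat.coprime_div_gcd_div_gcd (Nat.gcd_pos_of_pos_left α hN)
  by_cases h1 : N' = 1
  · refine ⟨⟨u, f, N, α, d, N', α', 0, 0, 1, hd, hN', hNeq, hαeq, by rw [h1]; simp⟩,
      rfl, rfl, rfl, rfl, Or.inr ⟨h1, rfl, rfl, rfl⟩⟩
  · have h1' : 1 < N' := by omega
    obtain ⟨m, hm, hmod⟩ := Nat.exists_mul_mod_eq_one_of_coprime hcop.symm h1'
    have hdiv := Nat.div_add_mod (α' * m) N'
    rw [hmod] at hdiv
    refine ⟨⟨u, f, N, α, d, N', α', m, α' * m / N', 0, hd, hN', hNeq, hαeq, by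
        have e : m * α' = α' * m := mul_comm _ _
        omega⟩, rfl, rfl, rfl, rfl, Or.inl ⟨rfl, ?_, ?_⟩⟩
    · show m < N
      calc m < N' := hm
        _ ≤ N := by rw [hNeq]; exact Nat.le_mul_of_pos_left _ hd
    · show m * α / N = α' * m / N'
      rw [hαeq, hNeq, ← mul_assoc, mul_comm m d, mul_assoc, Nat.mul_div_mul_left _ _ hd,
        mul_comm m α']

/-- The statement of S16900 in unbundled form. -/
theorem cyclicCover (k : Type u) [Field k]
    (B : Type u) [CommRing B] [IsDomain B] [Algebra k B] [Algebra.FiniteType k B]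
    (hreg : ∀ (P : Ideal B) [P.IsPrime], IsRegularLocalRing (Localization.AtPrime P))
    (N : ℕ) (hN : 0 < N) (hNk : IsUnit ((N : ℕ) : k)) (u : Bˣ) (α : ℕ) (f₁ : B) (hf₁ : f₁ ≠ 0)
    (hD : ∀ (P : Ideal (B ⧸ Ideal.span ({f₁} : Set B))) [P.IsPrime],
      IsRegularLocalRing (Localization.AtPrime P))
    (A : Subalgebra B (Localization.Away
      (algebraMap B (AdjoinRoot (X ^ N - C ((u : B) * f₁ ^ α) : B[X])) f₁)))
    (hA : A = Algebra.adjoin B (Set.range fun i : Fin N =>
      algebraMap (AdjoinRoot (X ^ N - C ((u : B) * f₁ ^ α) : B[X])) (Localization.Away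
        (algebraMap B (AdjoinRoot (X ^ N - C ((u : B) * f₁ ^ α) : B[X])) f₁))
        (AdjoinRoot.root (X ^ N - C ((u : B) * f₁ ^ α) : B[X]) ^ (i : ℕ)) *
      IsLocalization.Away.invSelf (S := Localization.Away
        (algebraMap B (AdjoinRoot (X ^ N - C ((u : B) * f₁ ^ α) : B[X])) f₁))
        (algebraMap B (AdjoinRoot (X ^ N - C ((u : B) * f₁ ^ α) : B[X])) f₁) ^ ((i : ℕ) * α / N))) :
    Module.Finite B A ∧
      IsIntegralClosure A (AdjoinRoot (X ^ N - C ((u : B) * f₁ ^ α) : B[X]))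
        (Localization.Away (algebraMap B (AdjoinRoot (X ^ N - C ((u : B) * f₁ ^ α) : B[X])) f₁)) ∧
      ∀ (Q : Ideal A) [Q.IsPrime], IsRegularLocalRing (Localization.AtPrime Q) := by
  haveI : IsNoetherianRing B := Algebra.FiniteType.isNoetherianRing k B
  haveI : IsRegularRing B := isRegularRing_iff.mpr (fun P _ => hreg P)
  haveI : IsRegularRing (B ⧸ Ideal.span ({f₁} : Set B)) := isRegularRing_iff.mpr (fun P _ => hD P)
  have hNB : IsUnit ((N : ℕ) : B) := by
    have := hNk.map (algebraMap k B); simpa using this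
  obtain ⟨D, rfl, rfl, rfl, rfl, hcase⟩ := exists_data u f₁ N α hN
  have hdu : IsUnit ((D.d : ℕ) : B) := by
    rw [D.hN, Nat.cast_mul] at hNB; exact isUnit_of_mul_isUnit_left hNB
  have hN'u : IsUnit ((D.N' : ℕ) : B) := by
    rw [D.hN, Nat.cast_mul] at hNB; exact isUnit_of_mul_isUnit_right hNB
  exact D.main hf₁ hdu hN'u hcase A hA

end Groth.Agent.Lib.Helper4.CycCov
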