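import Groth.Agent.Lib.Helper4.LC3

/-!
# An elementwise Eilenberg–Watts theorem (helper4)

An `R`-linear right exact functor `T` on `R`-modules (given by elementwise data, `RFun R`) satisfies
`T(M) ≃ M ⊗ T(R)` naturally for finite modules `M` over a Noetherian ring.  Consequently two such
functors which agree on `R` are naturally isomorphic on finite modules (`exists_natIso`).
-/

set_option autoImplicit false
set_option linter.style.haveILetI false
set_option linter.unusedSectionVars false
set_option linter.unusedVariables false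
set_option maxHeartbeats 400000

open CategoryTheory Limits Opposite TensorProduct

universe u

namespace Groth.Agent.Lib.Helper4.EW

open Groth.Agent.Lib.Helper4.LC

variable (R : Type u) [CommRing R]

/-- an `R`-linear right exact functor on `R`-modules, in elementwise form. -/
structure RFun where
  obj : ModuleCat.{u} R → Type u
  [acg : ∀ M, AddCommGroup (obj M)]
  [mod : ∀ M, Module R (obj M)]
  map : ∀ {M N : ModuleCat.{u} R}, (M ⟶ N) → (obj M →ₗ[R] obj N)
  map_id : ∀ (M : ModuleCat.{u} R) (x : obj M), map (𝟙 M) x = x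
  map_comp : ∀ {M N P : ModuleCat.{u} R} (f : M ⟶ N) (g : N ⟶ P) (x : obj M),
    map (f ≫ g) x = map g (map f x)
  map_add : ∀ {M N : ModuleCat.{u} R} (f g : M ⟶ N) (x : obj M),
    map (f + g) x = map f x + map g x
  map_smul : ∀ {M N : ModuleCat.{u} R} (r : R) (f : M ⟶ N) (x : obj M),
    map (r • f) x = r • map f x
  surj : ∀ {S : ShortComplex (ModuleCat.{u} R)}, S.ShortExact → Function.Surjective (map S.g)
  exact : ∀ {S : ShortComplex (ModuleCat.{u} R)}, S.ShortExact → ∀ x : obj S.X₂,
    map S.g x = 0 → ∃ y, map S.f y = x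

attribute [instance] RFun.acg RFun.mod

variable {R} (T : RFun R)

lemma RFun.map_zero {M N : ModuleCat.{u} R} (x : T.obj M) : T.map (0 : M ⟶ N) x = 0 := by
  have h := T.map_smul (0 : R) (0 : M ⟶ N) x
  rwa [zero_smul, zero_smul] at h

/-- `T.map` as an additive map in the morphism. -/
noncomputable def RFun.mapHom (M N : ModuleCat.{u} R) : (M ⟶ N) →+ (T.obj M →ₗ[R] T.obj N) where
  toFun f := T.map f
  map_zero' := LinearMap.ext (fun x => T.map_zero x)
  map_add' f g := LinearMap.ext (fun x => T.map_add f g x)

lemma RFun.map_sum {ι : Type*} (s : Finset ι) {M N : ModuleCat.{u} R} (f : ι → (M ⟶ N))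
    (x : T.obj M) : T.map (∑ i ∈ s, f i) x = ∑ i ∈ s, T.map (f i) x := by
  have h := _root_.map_sum (T.mapHom M N) f s
  have h2 := LinearMap.congr_fun h x
  rw [LinearMap.sum_apply] at h2
  exact h2

/-! ### the map `R ⟶ M` attached to an element -/

/-- the morphism `R ⟶ M`, `1 ↦ x`. -/
noncomputable def hat {M : ModuleCat.{u} R} (x : M) : ModuleCat.of R R ⟶ M :=
  ModuleCat.ofHom (LinearMap.toSpanSingleton R M x)

lemma hat_hom_apply {M : ModuleCat.{u} R} (x : M) (r : R) : (hat x).hom r = r • x := rfl

lemma hat_add {M : ModuleCat.{u} R} (x y : M) : hat (x + y) = hat x + hat y := by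
  apply ModuleCat.hom_ext
  apply LinearMap.ext
  intro r
  rw [ModuleCat.hom_add, LinearMap.add_apply, hat_hom_apply, hat_hom_apply, hat_hom_apply,
    smul_add]

lemma hat_smul {M : ModuleCat.{u} R} (a : R) (x : M) : hat (a • x) = a • hat x := by
  apply ModuleCat.hom_ext
  apply LinearMap.ext
  intro r
  rw [ModuleCat.hom_smul, LinearMap.smul_apply, hat_hom_apply, hat_hom_apply, smul_comm]

lemma hat_comp {M N : ModuleCat.{u} R} (f : M ⟶ N) (x : M) : hat x ≫ f = hat (f.hom x) := by
  apply ModuleCat.hom_ext
  apply LinearMap.ext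
  intro r
  rw [ModuleCat.hom_comp, LinearMap.comp_apply, hat_hom_apply, hat_hom_apply, map_smul]

lemma hat_self (a : R) : hat (M := ModuleCat.of R R) a = a • 𝟙 (ModuleCat.of R R) := by
  apply ModuleCat.hom_ext
  apply LinearMap.ext
  intro r
  rw [ModuleCat.hom_smul, LinearMap.smul_apply, hat_hom_apply, ModuleCat.hom_id,
    LinearMap.id_apply]
  change r * a = a * r
  exact mul_comm r a

/-! ### the comparison map -/

/-- the comparison map `M ⊗ T(R) → T(M)`. -/
noncomputable def theta (M : ModuleCat.{u} R) :
    (M ⊗[R] T.obj (ModuleCat.of R R)) →ₗ[R] T.obj M :=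
  TensorProduct.lift
    { toFun := fun x => T.map (hat x)
      map_add' := fun x y => by
        rw [hat_add]
        exact LinearMap.ext (fun t => T.map_add _ _ t)
      map_smul' := fun r x => by
        rw [hat_smul]
        exact LinearMap.ext (fun t => T.map_smul r _ t) }

lemma theta_tmul (M : ModuleCat.{u} R) (x : M) (t : T.obj (ModuleCat.of R R)) :
    theta T M (x ⊗ₜ t) = T.map (hat x) t := rfl

lemma theta_naturality {M N : ModuleCat.{u} R} (f : M ⟶ N)
    (z : M ⊗[R] T.obj (ModuleCat.of R R)) :
    T.map f (theta T M z) = theta T N (f.hom.rTensor _ z) := by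
  induction z using TensorProduct.induction_on with
  | zero => rw [map_zero, map_zero, map_zero, map_zero]
  | tmul x t =>
    rw [theta_tmul, LinearMap.rTensor_tmul, theta_tmul, ← T.map_comp, hat_comp]
  | add a b ha hb => rw [map_add, map_add, map_add, map_add, ha, hb]

lemma theta_self_apply (z : (ModuleCat.of R R) ⊗[R] T.obj (ModuleCat.of R R)) :
    theta T (ModuleCat.of R R) z = TensorProduct.lid R (T.obj (ModuleCat.of R R)) z := by
  induction z using TensorProduct.induction_on with
  | zero => rw [map_zero, map_zero]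
  | tmul x t =>
    rw [theta_tmul, hat_self, T.map_smul, T.map_id]
    exact (TensorProduct.lid_tmul t x).symm
  | add a b ha hb => rw [map_add, map_add, ha, hb]

lemma theta_self_bijective : Function.Bijective (theta T (ModuleCat.of R R)) := by
  have h : ⇑(theta T (ModuleCat.of R R)) =
      ⇑(TensorProduct.lid R (T.obj (ModuleCat.of R R))) := funext (theta_self_apply T)
  rw [h]
  exact (TensorProduct.lid R (T.obj (ModuleCat.of R R))).bijective

/-! ### free modules -/

section free

variable (r : ℕ)

/-- the free module `R^r`. -/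
abbrev F : ModuleCat.{u} R := ModuleCat.of R (Fin r → R)

/-- the projections. -/
noncomputable def pr (i : Fin r) : F (R := R) r ⟶ ModuleCat.of R R :=
  ModuleCat.ofHom (LinearMap.proj i)

/-- the inclusions. -/
noncomputable def inc (i : Fin r) : ModuleCat.of R R ⟶ F (R := R) r :=
  ModuleCat.ofHom (LinearMap.single R (fun _ => R) i)

lemma sum_inc_pr_linear :
    (∑ i : Fin r, (LinearMap.single R (fun _ : Fin r => R) i) ∘ₗ (LinearMap.proj i)) =
      (LinearMap.id : (Fin r → R) →ₗ[R] (Fin r → R)) := by
  apply LinearMap.ext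
  intro v
  rw [LinearMap.sum_apply, LinearMap.id_apply]
  have h : ∀ i : Fin r, ((LinearMap.single R (fun _ : Fin r => R) i) ∘ₗ (LinearMap.proj i)) v =
      Pi.single i (v i) := fun i => rfl
  simp_rw [h]
  exact Finset.univ_sum_single v

lemma sum_pr_inc : (∑ i : Fin r, pr (R := R) r i ≫ inc r i) = 𝟙 (F (R := R) r) := by
  apply (ModuleCat.homAddEquiv (M := F (R := R) r) (N := F (R := R) r)).injective
  rw [_root_.map_sum]
  exact sum_inc_pr_linear r

lemma theta_free_injective : Function.Injective (theta T (F (R := R) r)) := by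
  rw [injective_iff_map_eq_zero]
  intro z hz
  have h1 : ∀ i : Fin r, (pr (R := R) r i).hom.rTensor (T.obj (ModuleCat.of R R)) z = 0 := by
    intro i
    apply (theta_self_bijective T).1
    rw [← theta_naturality, hz, map_zero, map_zero]
  have h2 : z = (LinearMap.id : (Fin r → R) →ₗ[R] (Fin r → R)).rTensor
      (T.obj (ModuleCat.of R R)) z := by
    rw [LinearMap.rTensor_id, LinearMap.id_apply]
  rw [h2, ← sum_inc_pr_linear r]
  have h3 : (∑ i : Fin r, (LinearMap.single R (fun _ : Fin r => R) i) ∘ₗ
      (LinearMap.proj i)).rTensor (T.obj (ModuleCat.of R R)) =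
      ∑ i : Fin r, ((LinearMap.single R (fun _ : Fin r => R) i) ∘ₗ
        (LinearMap.proj i)).rTensor (T.obj (ModuleCat.of R R)) :=
    _root_.map_sum (LinearMap.rTensorHom (T.obj (ModuleCat.of R R))) _ _
  rw [h3, LinearMap.sum_apply]
  apply Finset.sum_eq_zero
  intro i _
  rw [LinearMap.rTensor_comp_apply]
  have h4 := h1 i
  change (LinearMap.proj i).rTensor (T.obj (ModuleCat.of R R)) z = 0 at h4
  rw [h4, map_zero]

lemma theta_free_surjective : Function.Surjective (theta T (F (R := R) r)) := by
  intro ξ
  have h1 : ξ = ∑ i : Fin r, T.map (inc r i) (T.map (pr r i) ξ) := by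
    conv_lhs => rw [← T.map_id (F (R := R) r) ξ, ← sum_pr_inc r, T.map_sum]
    apply Finset.sum_congr rfl
    intro i _
    rw [T.map_comp]
  choose w hw using fun i : Fin r => (theta_self_bijective T).2 (T.map (pr r i) ξ)
  refine ⟨∑ i : Fin r, (inc (R := R) r i).hom.rTensor (T.obj (ModuleCat.of R R)) (w i), ?_⟩
  rw [_root_.map_sum, h1]
  apply Finset.sum_congr rfl
  intro i _
  rw [← theta_naturality, hw]

end free

/-! ### finite modules -/

section finite

variable (M : Type u) [AddCommGroup M] [Module R M] [Module.Finite R M]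

lemma theta_surjective : Function.Surjective (theta T (ModuleCat.of R M)) := by
  obtain ⟨r, p, hp⟩ := Module.Finite.exists_fin' R M
  have hex : Function.Exact (LinearMap.ker p).subtype p := LinearMap.exact_subtype_ker_map p
  have hS : (sesOf (LinearMap.ker p).subtype p hex).ShortExact :=
    sesOf_shortExact _ _ hex (Submodule.injective_subtype _) hp
  intro ξ
  obtain ⟨ζ, hζ⟩ := T.surj hS ξ
  obtain ⟨w, hw⟩ := theta_free_surjective T r ζ
  refine ⟨(sesOf (LinearMap.ker p).subtype p hex).g.hom.rTensor _ w, ?_⟩
  rw [← theta_naturality]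
  rw [← hζ]
  congr 1

variable [IsNoetherianRing R]

lemma theta_injective : Function.Injective (theta T (ModuleCat.of R M)) := by
  obtain ⟨r, p, hp⟩ := Module.Finite.exists_fin' R M
  have hex : Function.Exact (LinearMap.ker p).subtype p := LinearMap.exact_subtype_ker_map p
  have hS : (sesOf (LinearMap.ker p).subtype p hex).ShortExact :=
    sesOf_shortExact _ _ hex (Submodule.injective_subtype _) hp
  rw [injective_iff_map_eq_zero]
  intro z hz
  obtain ⟨z', hz'⟩ := LinearMap.rTensor_surjective (T.obj (ModuleCat.of R R)) hp z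
  have h1 : T.map (sesOf (LinearMap.ker p).subtype p hex).g (theta T (F r) z') = 0 := by
    rw [theta_naturality]
    change theta T (ModuleCat.of R M) (p.rTensor _ z') = 0
    rw [hz', hz]
  obtain ⟨y, hy⟩ := T.exact hS _ h1
  obtain ⟨w, hw⟩ := theta_surjective T (LinearMap.ker p) y
  have h2 : (LinearMap.ker p).subtype.rTensor (T.obj (ModuleCat.of R R)) w = z' := by
    apply theta_free_injective T r
    have h3 := theta_naturality T (sesOf (LinearMap.ker p).subtype p hex).f w
    change T.map _ (theta T (ModuleCat.of R (LinearMap.ker p)) w) =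
      theta T (F r) ((LinearMap.ker p).subtype.rTensor _ w) at h3
    rw [← h3, hw, hy]
  rw [← hz', ← h2, ← LinearMap.rTensor_comp_apply, LinearMap.comp_ker_subtype,
    LinearMap.rTensor_zero, LinearMap.zero_apply]

/-- `T(M) ≃ M ⊗ T(R)` for finite `M`. -/
noncomputable def thetaEquiv :
    (M ⊗[R] T.obj (ModuleCat.of R R)) ≃ₗ[R] T.obj (ModuleCat.of R M) :=
  LinearEquiv.ofBijective (theta T (ModuleCat.of R M)) ⟨theta_injective T M, theta_surjective T M⟩

lemma thetaEquiv_apply (z : M ⊗[R] T.obj (ModuleCat.of R R)) :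
    thetaEquiv T M z = theta T (ModuleCat.of R M) z := rfl

end finite

/-! ### the natural isomorphism -/

section natIso

variable [IsNoetherianRing R] (T₁ T₂ : RFun R)
  (e : T₁.obj (ModuleCat.of R R) ≃ₗ[R] T₂.obj (ModuleCat.of R R))

/-- the isomorphism `T₁(M) ≃ T₂(M)` for finite `M`. -/
noncomputable def natIso (M : Type u) [AddCommGroup M] [Module R M] [Module.Finite R M] :
    T₁.obj (ModuleCat.of R M) ≃ₗ[R] T₂.obj (ModuleCat.of R M) :=
  (thetaEquiv T₁ M).symm.trans
    ((TensorProduct.congr (LinearEquiv.refl R M) e).trans (thetaEquiv T₂ M))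

lemma natIso_theta (M : Type u) [AddCommGroup M] [Module R M] [Module.Finite R M]
    (z : M ⊗[R] T₁.obj (ModuleCat.of R R)) :
    natIso T₁ T₂ e M (theta T₁ (ModuleCat.of R M) z) =
      theta T₂ (ModuleCat.of R M) (TensorProduct.congr (LinearEquiv.refl R M) e z) := by
  rw [← thetaEquiv_apply]
  change thetaEquiv T₂ M (TensorProduct.congr (LinearEquiv.refl R M) e
    ((thetaEquiv T₁ M).symm (thetaEquiv T₁ M z))) = _
  rw [LinearEquiv.symm_apply_apply]
  rfl

theorem natIso_naturality (M N : Type u) [AddCommGroup M] [Module R M] [Module.Finite R M]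
    [AddCommGroup N] [Module R N] [Module.Finite R N] (f : M →ₗ[R] N)
    (x : T₁.obj (ModuleCat.of R M)) :
    natIso T₁ T₂ e N (T₁.map (ModuleCat.ofHom f) x) =
      T₂.map (ModuleCat.ofHom f) (natIso T₁ T₂ e M x) := by
  obtain ⟨z, rfl⟩ := theta_surjective T₁ M x
  rw [theta_naturality, natIso_theta, natIso_theta, theta_naturality]
  congr 1
  change TensorProduct.congr (LinearEquiv.refl R N) e (f.rTensor _ z) =
    f.rTensor _ (TensorProduct.congr (LinearEquiv.refl R M) e z)
  induction z using TensorProduct.induction_on with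
  | zero => simp
  | tmul m t => simp
  | add a b ha hb => rw [map_add, map_add, map_add, map_add, ha, hb]

end natIso

end Groth.Agent.Lib.Helper4.EW
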