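import Mathlib
import Groth.Agent.Lib.Helper4.LD5
import Groth.Agent.Lib.Helper4.DT1
import Groth.Agent.S0313

/-!
# The Matlis double dual of a finite module is its completion

For a Noetherian local ring `A`, an injective hull `E` of the residue field and a finite module
`M`: `Hom_A(Hom_A(M, E), E) ≃ AdicCompletion 𝔪 M`, `A`-linearly (Eilenberg–Watts for the double
dual functor, and `End(E) ≃ Â`).
-/

set_option autoImplicit false
set_option linter.style.haveILetI false
set_option linter.unusedSectionVars false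
set_option linter.unusedVariables false
set_option maxHeartbeats 800000

open CategoryTheory TensorProduct IsLocalRing

universe u

namespace Groth.Agent.Lib.Helper4.DDual

open Groth.Agent.Lib.Helper4.EW Groth.Agent.Lib.Helper4.DT

variable {A : Type u} [CommRing A] (E : Type u) [AddCommGroup E] [Module A E]

/-- the map induced on double duals. -/
noncomputable def ddMap {M N : Type*} [AddCommGroup M] [Module A M] [AddCommGroup N] [Module A N]
    (g : M →ₗ[A] N) : ((M →ₗ[A] E) →ₗ[A] E) →ₗ[A] ((N →ₗ[A] E) →ₗ[A] E) where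
  toFun ξ := ξ ∘ₗ LinearMap.lcomp A E g
  map_add' ξ ξ' := LinearMap.add_comp _ _ _
  map_smul' r ξ := LinearMap.smul_comp _ _ _

lemma ddMap_apply {M N : Type*} [AddCommGroup M] [Module A M] [AddCommGroup N] [Module A N]
    (g : M →ₗ[A] N) (ξ : (M →ₗ[A] E) →ₗ[A] E) (lam : N →ₗ[A] E) :
    ddMap E g ξ lam = ξ (lam ∘ₗ g) := rfl

variable [Module.Injective A E]

/-- the double dual functor as a right exact functor. -/
noncomputable def ddFun : RFun A where
  obj M := (M →ₗ[A] E) →ₗ[A] E
  map f := ddMap E f.hom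
  map_id M ξ := LinearMap.ext fun lam => congrArg ξ (LinearMap.ext fun m => rfl)
  map_comp f g ξ := LinearMap.ext fun lam => congrArg ξ (LinearMap.ext fun m => rfl)
  map_add f g ξ := LinearMap.ext fun lam => by
    change ξ (lam ∘ₗ (f + g).hom) = ξ (lam ∘ₗ f.hom) + ξ (lam ∘ₗ g.hom)
    rw [← map_add]
    refine congrArg ξ (LinearMap.ext fun m => ?_)
    change lam ((f + g).hom m) = lam (f.hom m) + lam (g.hom m)
    rw [ModuleCat.hom_add, LinearMap.add_apply, map_add]
  map_smul r f ξ := LinearMap.ext fun lam => by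
    change ξ (lam ∘ₗ (r • f).hom) = r • ξ (lam ∘ₗ f.hom)
    rw [← map_smul]
    refine congrArg ξ (LinearMap.ext fun m => ?_)
    change lam ((r • f).hom m) = r • lam (f.hom m)
    rw [ModuleCat.hom_smul, LinearMap.smul_apply, map_smul]
  surj {S} hS := by
    intro ξ₃
    have hg : Function.Surjective S.g.hom := (ModuleCat.epi_iff_surjective S.g).1 hS.epi_g
    have hp : Function.Injective (LinearMap.lcomp A E S.g.hom) := by
      rw [injective_iff_map_eq_zero]
      intro lam hlam
      ext y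
      obtain ⟨x, rfl⟩ := hg y
      exact LinearMap.congr_fun hlam x
    obtain ⟨ξ₂, hξ₂⟩ := Module.Injective.extension_property A E _ _
      (LinearMap.lcomp A E S.g.hom) hp ξ₃
    exact ⟨ξ₂, hξ₂⟩
  exact {S} hS ξ₂ h := by
    have hex : Function.Exact S.f.hom S.g.hom :=
      (ShortComplex.ShortExact.moduleCat_exact_iff_function_exact S).1 hS.exact
    have key : ∀ c : S.X₂ →ₗ[A] E, LinearMap.lcomp A E S.f.hom c = 0 →
        ∃ b : S.X₃ →ₗ[A] E, LinearMap.lcomp A E S.g.hom b = c := by
      intro c hc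
      exact dual_exact S.f.hom S.g.hom (fun x hx => (hex x).1 hx) c hc
    obtain ⟨ξ₁, hξ₁⟩ := dual_exact (LinearMap.lcomp A E S.g.hom) (LinearMap.lcomp A E S.f.hom)
      key ξ₂ h
    exact ⟨ξ₁, hξ₁⟩

variable [IsLocalRing A] [IsNoetherianRing A]

omit [Module.Injective A E] in
/-- **Matlis**: the double dual of a finite module is its `𝔪`-adic completion. -/
theorem nonempty_ddual_equiv_completion (f : ResidueField A →ₗ[A] E)
    (hf : InjHull.IsInjectiveHull f) (M : Type u) [AddCommGroup M] [Module A M]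
    [Module.Finite A M] :
    Nonempty (((M →ₗ[A] E) →ₗ[A] E) ≃ₗ[A] AdicCompletion (maximalIdeal A) M) := by
  haveI := hf.isInjective
  obtain ⟨e313⟩ := Groth.Agent.S0313.result A E f hf
  let e0 : ((A →ₗ[A] E) →ₗ[A] E) ≃ₗ[A] (E →ₗ[A] E) :=
    LinearEquiv.congrLeft E A (LinearMap.ringLmapEquivSelf A A E)
  let e1 : (M ⊗[A] ((A →ₗ[A] E) →ₗ[A] E)) ≃ₗ[A] ((M →ₗ[A] E) →ₗ[A] E) :=
    thetaEquiv (ddFun E) M
  let e2 : (M ⊗[A] ((A →ₗ[A] E) →ₗ[A] E)) ≃ₗ[A] (M ⊗[A] AdicCompletion (maximalIdeal A) A) :=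
    TensorProduct.congr (LinearEquiv.refl A M) (e0.trans e313.toLinearEquiv)
  let e3 : (M ⊗[A] AdicCompletion (maximalIdeal A) A) ≃ₗ[A]
      (AdicCompletion (maximalIdeal A) A ⊗[A] M) := TensorProduct.comm A _ _
  let e4 : (AdicCompletion (maximalIdeal A) A ⊗[A] M) ≃ₗ[A] AdicCompletion (maximalIdeal A) M :=
    (AdicCompletion.ofTensorProductEquivOfFiniteNoetherian (maximalIdeal A) M).restrictScalars A
  exact ⟨e1.symm.trans (e2.trans (e3.trans e4))⟩

end Groth.Agent.Lib.Helper4.DDual
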