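import Mathlib
import Groth.Agent.S2192

/-!
# Extension of divided powers along a flat ring map

Given a divided power structure `γ` on `I ⊆ A` and a flat `A`-algebra `B`, we construct the
divided power structure on `I B` extending `γ`.  The construction: the "bi-exponential"
`(b, x) ↦ ∑ bⁿ γₙ(x) Tⁿ` is biadditive and `A`-balanced with values in the multiplicative
monoid of `B⟦T⟧`, hence factors through `B ⊗[A] I`, which by flatness is `I B`.
-/

set_option autoImplicit false
set_option linter.unusedSectionVars false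
set_option linter.unusedVariables false
set_option linter.deprecated false
set_option maxHeartbeats 800000

universe u v

namespace Groth.Agent.Lib.Helper4.DPFlat

open TensorProduct

variable {A : Type u} {B : Type v} [CommRing A] [CommRing B] [Algebra A B]
  {I : Ideal A} (γ : DividedPowers I)

/-- the exponential series `∑ bⁿ γₙ(x) Tⁿ` -/
noncomputable def Efun (b : B) (x : A) : PowerSeries B :=
  PowerSeries.mk fun n => b ^ n * algebraMap A B (γ.dpow n x)

theorem coeff_Efun (b : B) (x : A) (n : ℕ) :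
    PowerSeries.coeff n (Efun γ b x) = b ^ n * algebraMap A B (γ.dpow n x) :=
  PowerSeries.coeff_mk _ _

theorem Efun_add_right (b : B) {x y : A} (hx : x ∈ I) (hy : y ∈ I) :
    Efun γ b (x + y) = Efun γ b x * Efun γ b y := by
  ext n
  rw [coeff_Efun, PowerSeries.coeff_mul, γ.dpow_add hx hy, map_sum, Finset.mul_sum]
  refine Finset.sum_congr rfl fun k hk => ?_
  rw [coeff_Efun, coeff_Efun, map_mul]
  have : b ^ n = b ^ k.1 * b ^ k.2 := by
    rw [← pow_add, Finset.HasAntidiagonal.mem_antidiagonal.mp hk]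
  rw [this]; ring

theorem Efun_add_left (b b' : B) {x : A} (hx : x ∈ I) :
    Efun γ (b + b') x = Efun γ b x * Efun γ b' x := by
  ext n
  rw [coeff_Efun, PowerSeries.coeff_mul, (Commute.all b b').add_pow' n, Finset.sum_mul]
  refine Finset.sum_congr rfl fun k hk => ?_
  rw [coeff_Efun, coeff_Efun]
  have hk' : k.1 + k.2 = n := Finset.HasAntidiagonal.mem_antidiagonal.mp hk
  have h1 : algebraMap A B (γ.dpow k.1 x) * algebraMap A B (γ.dpow k.2 x)
      = ((n.choose k.1 : ℕ) : B) * algebraMap A B (γ.dpow n x) := by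
    rw [← map_mul, γ.mul_dpow hx, hk', map_mul, map_natCast]
  rw [nsmul_eq_mul]
  calc ((n.choose k.1 : ℕ) : B) * (b ^ k.1 * b' ^ k.2) * algebraMap A B (γ.dpow n x)
      = b ^ k.1 * b' ^ k.2 * (((n.choose k.1 : ℕ) : B) * algebraMap A B (γ.dpow n x)) := by ring
    _ = b ^ k.1 * algebraMap A B (γ.dpow k.1 x) * (b' ^ k.2 * algebraMap A B (γ.dpow k.2 x)) := by
        rw [← h1]; ring

theorem Efun_smul (a : A) (b : B) {x : A} (hx : x ∈ I) :
    Efun γ (a • b) x = Efun γ b (a * x) := by
  ext n
  rw [coeff_Efun, coeff_Efun, γ.dpow_mul hx, map_mul, map_pow, Algebra.smul_def, mul_pow]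
  ring

theorem Efun_zero_left {x : A} (hx : x ∈ I) : Efun γ (0 : B) x = 1 := by
  ext n
  rw [coeff_Efun, PowerSeries.coeff_one]
  by_cases hn : n = 0
  · subst hn; rw [pow_zero, γ.dpow_zero hx, map_one, one_mul, if_pos rfl]
  · rw [zero_pow hn, zero_mul, if_neg hn]

theorem Efun_zero_right (b : B) : Efun γ b (0 : A) = 1 := by
  ext n
  rw [coeff_Efun, PowerSeries.coeff_one]
  by_cases hn : n = 0
  · subst hn; rw [pow_zero, γ.dpow_zero I.zero_mem, map_one, one_mul, if_pos rfl]
  · rw [γ.dpow_eval_zero hn, map_zero, mul_zero, if_neg hn]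

/-- the bi-additive exponential, with values in the additive version of the multiplicative
monoid of `B⟦T⟧` -/
noncomputable def Ehom : B →+ I →+ Additive (PowerSeries B) where
  toFun b :=
    { toFun := fun x => Additive.ofMul (Efun γ b (x : A))
      map_zero' := by
        show Additive.ofMul (Efun γ b ((0 : I) : A)) = 0
        rw [Submodule.coe_zero, Efun_zero_right]; rfl
      map_add' := fun x y => by
        show Additive.ofMul (Efun γ b ((x + y : I) : A)) =
          Additive.ofMul (Efun γ b (x : A)) + Additive.ofMul (Efun γ b (y : A))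
        rw [Submodule.coe_add, Efun_add_right γ b x.2 y.2]; rfl }
  map_zero' := by
    refine AddMonoidHom.ext fun x => ?_
    show Additive.ofMul (Efun γ (0 : B) (x : A)) = 0
    rw [Efun_zero_left γ x.2]; rfl
  map_add' := fun b b' => by
    refine AddMonoidHom.ext fun x => ?_
    show Additive.ofMul (Efun γ (b + b') (x : A)) =
      Additive.ofMul (Efun γ b (x : A)) + Additive.ofMul (Efun γ b' (x : A))
    rw [Efun_add_left γ b b' x.2]; rfl

theorem Ehom_apply (b : B) (x : I) : Ehom γ b x = Additive.ofMul (Efun γ b (x : A)) := rfl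

/-- the exponential on the tensor product -/
noncomputable def Etil : B ⊗[A] I →+ Additive (PowerSeries B) :=
  TensorProduct.liftAddHom (Ehom γ) (fun r b x => by
    rw [Ehom_apply, Ehom_apply, Efun_smul γ r b x.2]
    rfl)

/-- the exponential on the tensor product, as a plain function to power series -/
noncomputable def Et (w : B ⊗[A] I) : PowerSeries B := Additive.toMul (Etil γ w)

theorem Et_zero : Et γ (0 : B ⊗[A] I) = 1 := by
  unfold Et; rw [map_zero]; rfl

theorem Et_add (w w' : B ⊗[A] I) : Et γ (w + w') = Et γ w * Et γ w' := by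
  unfold Et; rw [map_add]; rfl

theorem Et_tmul (b : B) (x : I) : Et γ (b ⊗ₜ[A] x) = Efun γ b (x : A) := by
  unfold Et Etil; rw [TensorProduct.liftAddHom_tmul]; rfl

variable (B I) in
/-- the multiplication map `B ⊗ I → B` -/
noncomputable def mu : B ⊗[A] I →ₗ[A] B :=
  (TensorProduct.rid A B).toLinearMap ∘ₗ (LinearMap.lTensor B (Submodule.subtype I))

theorem mu_tmul (b : B) (x : I) : mu B I (b ⊗ₜ[A] x) = algebraMap A B (x : A) * b := by
  simp [mu, Algebra.smul_def]

theorem mu_injective [Module.Flat A B] : Function.Injective (mu B I) := by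
  intro w w' h
  have h' : (TensorProduct.rid A B) (LinearMap.lTensor B (Submodule.subtype I) w) =
      (TensorProduct.rid A B) (LinearMap.lTensor B (Submodule.subtype I) w') := h
  exact Module.Flat.lTensor_preserves_injective_linearMap (M := B) (Submodule.subtype I)
    (Submodule.injective_subtype I) ((TensorProduct.rid A B).injective h')

/-- multiplication by `c` on the left factor -/
noncomputable def scale (c : B) : B ⊗[A] I →ₗ[A] B ⊗[A] I :=
  LinearMap.rTensor I (LinearMap.mulLeft A c)

theorem scale_tmul (c b : B) (x : I) :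
    scale (A := A) (I := I) c (b ⊗ₜ[A] x) = (c * b) ⊗ₜ[A] x := by
  simp [scale]

theorem mu_scale (c : B) (w : B ⊗[A] I) : mu B I (scale c w) = c * mu B I w := by
  induction w using TensorProduct.induction_on with
  | zero => simp
  | tmul b x => rw [scale_tmul, mu_tmul, mu_tmul]; ring
  | add w w' hw hw' => rw [map_add, map_add, map_add, hw, hw', mul_add]

theorem Et_scale (c : B) (w : B ⊗[A] I) :
    Et γ (scale c w) = PowerSeries.rescale c (Et γ w) := by
  induction w using TensorProduct.induction_on with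
  | zero => rw [map_zero, Et_zero, map_one]
  | tmul b x =>
    rw [scale_tmul, Et_tmul, Et_tmul]
    ext n
    rw [PowerSeries.coeff_rescale, coeff_Efun, coeff_Efun, mul_pow, mul_assoc]
  | add w w' hw hw' => rw [map_add, Et_add, Et_add, hw, hw', map_mul]

theorem mu_mem (w : B ⊗[A] I) : mu B I w ∈ I.map (algebraMap A B) := by
  induction w using TensorProduct.induction_on with
  | zero => rw [map_zero]; exact Ideal.zero_mem _
  | tmul b x => rw [mu_tmul]; exact Ideal.mul_mem_right _ _ (Ideal.mem_map_of_mem _ x.2)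
  | add w w' hw hw' => rw [map_add]; exact Ideal.add_mem _ hw hw'

theorem exists_mu_eq {z : B} (hz : z ∈ I.map (algebraMap A B)) : ∃ w, mu B I w = z := by
  have hz' : z ∈ Submodule.span B (algebraMap A B '' (I : Set A)) := hz
  refine Submodule.span_induction (p := fun z _ => ∃ w, mu B I w = z) ?_ ?_ ?_ ?_ hz'
  · rintro _ ⟨x, hx, rfl⟩
    exact ⟨(1 : B) ⊗ₜ[A] (⟨x, hx⟩ : I), by rw [mu_tmul, mul_one]⟩
  · exact ⟨0, map_zero _⟩
  · rintro y y' _ _ ⟨w, rfl⟩ ⟨w', rfl⟩
    exact ⟨w + w', map_add _ _ _⟩
  · rintro c y _ ⟨w, rfl⟩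
    exact ⟨scale c w, by rw [mu_scale, smul_eq_mul]⟩

theorem coeff_zero_Et (w : B ⊗[A] I) : PowerSeries.coeff 0 (Et γ w) = 1 := by
  induction w using TensorProduct.induction_on with
  | zero => rw [Et_zero, PowerSeries.coeff_zero_one]
  | tmul b x => rw [Et_tmul, coeff_Efun, pow_zero, one_mul, γ.dpow_zero x.2, map_one]
  | add w w' hw hw' =>
    rw [Et_add, PowerSeries.coeff_zero_eq_constantCoeff_apply, map_mul,
      ← PowerSeries.coeff_zero_eq_constantCoeff_apply,
      ← PowerSeries.coeff_zero_eq_constantCoeff_apply, hw, hw', one_mul]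

theorem coeff_one_mul' (f g : PowerSeries B) :
    PowerSeries.coeff 1 (f * g) =
      PowerSeries.coeff 0 f * PowerSeries.coeff 1 g + PowerSeries.coeff 1 f * PowerSeries.coeff 0 g := by
  rw [PowerSeries.coeff_mul]
  have h : Finset.HasAntidiagonal.antidiagonal 1 = ({(0, 1), (1, 0)} : Finset (ℕ × ℕ)) := by decide
  rw [h, Finset.sum_pair (by decide)]

theorem coeff_one_Et (w : B ⊗[A] I) : PowerSeries.coeff 1 (Et γ w) = mu B I w := by
  induction w using TensorProduct.induction_on with
  | zero => rw [Et_zero, PowerSeries.coeff_one, if_neg one_ne_zero, map_zero]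
  | tmul b x => rw [Et_tmul, coeff_Efun, pow_one, γ.dpow_one x.2, mu_tmul, mul_comm]
  | add w w' hw hw' =>
    rw [Et_add, coeff_one_mul', coeff_zero_Et, coeff_zero_Et, hw, hw', one_mul, mul_one, map_add,
      add_comm]

theorem coeff_Et_mem (w : B ⊗[A] I) :
    ∀ n : ℕ, n ≠ 0 → PowerSeries.coeff n (Et γ w) ∈ I.map (algebraMap A B) := by
  induction w using TensorProduct.induction_on with
  | zero =>
    intro n hn
    rw [Et_zero, PowerSeries.coeff_one, if_neg hn]; exact Ideal.zero_mem _
  | tmul b x =>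
    intro n hn
    rw [Et_tmul, coeff_Efun]
    exact Ideal.mul_mem_left _ _ (Ideal.mem_map_of_mem _ (γ.dpow_mem hn x.2))
  | add w w' hw hw' =>
    intro n hn
    rw [Et_add, PowerSeries.coeff_mul]
    refine Ideal.sum_mem _ fun k hk => ?_
    by_cases hk1 : k.1 = 0
    · have hk2 : k.2 ≠ 0 := by
        intro h2; apply hn; rw [← Finset.HasAntidiagonal.mem_antidiagonal.mp hk, hk1, h2]
      exact Ideal.mul_mem_left _ _ (hw' _ hk2)
    · exact Ideal.mul_mem_right _ _ (hw _ hk1)

open Classical in
/-- the extended divided power function -/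
noncomputable def dfun (n : ℕ) (z : B) : B :=
  if h : z ∈ I.map (algebraMap A B) then
    PowerSeries.coeff n (Et γ (Classical.choose (exists_mu_eq h))) else 0

theorem dfun_mu [Module.Flat A B] (n : ℕ) (w : B ⊗[A] I) :
    dfun γ n (mu B I w) = PowerSeries.coeff n (Et γ w) := by
  unfold dfun
  rw [dif_pos (mu_mem w)]
  have := Classical.choose_spec (exists_mu_eq (mu_mem w))
  rw [mu_injective this]

theorem dfun_algebraMap [Module.Flat A B] (n : ℕ) {a : A} (ha : a ∈ I) :
    dfun γ n (algebraMap A B a) = algebraMap A B (γ.dpow n a) := by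
  have : algebraMap A B a = mu B I ((1 : B) ⊗ₜ[A] (⟨a, ha⟩ : I)) := by rw [mu_tmul, mul_one]
  rw [this, dfun_mu, Et_tmul, coeff_Efun, one_pow, one_mul]

/-- **Existence of the extension of divided powers along a flat ring map.** -/
theorem exists_ext [Module.Flat A B] :
    ∃ δ : DividedPowers (I.map (algebraMap A B)), γ.IsDPMorphism δ (algebraMap A B) := by
  have h_null : ∀ (n : ℕ) (x : B), x ∉ I.map (algebraMap A B) → dfun γ n x = 0 := by
    intro n x hx; unfold dfun; rw [dif_neg hx]
  have h_zero : ∀ x ∈ I.map (algebraMap A B), dfun γ 0 x = 1 := by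
    intro x hx; obtain ⟨w, rfl⟩ := exists_mu_eq hx
    rw [dfun_mu]; exact coeff_zero_Et γ w
  have h_one : ∀ x ∈ I.map (algebraMap A B), dfun γ 1 x = x := by
    intro x hx; obtain ⟨w, rfl⟩ := exists_mu_eq hx
    rw [dfun_mu]; exact coeff_one_Et γ w
  have h_mem : ∀ (n : ℕ) (x : B), n ≠ 0 → x ∈ I.map (algebraMap A B) →
      dfun γ n x ∈ I.map (algebraMap A B) := by
    intro n x hn hx; obtain ⟨w, rfl⟩ := exists_mu_eq hx
    rw [dfun_mu]; exact coeff_Et_mem γ w n hn
  have h_add : ∀ (n : ℕ) (x y : B), x ∈ I.map (algebraMap A B) → y ∈ I.map (algebraMap A B) →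
      dfun γ n (x + y) = (Finset.HasAntidiagonal.antidiagonal n).sum fun k => dfun γ k.1 x * dfun γ k.2 y := by
    intro n x y hx hy
    obtain ⟨w, rfl⟩ := exists_mu_eq hx
    obtain ⟨w', rfl⟩ := exists_mu_eq hy
    rw [← map_add, dfun_mu, Et_add, PowerSeries.coeff_mul]
    refine Finset.sum_congr rfl fun k _ => ?_
    rw [dfun_mu, dfun_mu]
  have h_mul : ∀ (n : ℕ) (a x : B), x ∈ I.map (algebraMap A B) →
      dfun γ n (a * x) = a ^ n * dfun γ n x := by
    intro n a x hx; obtain ⟨w, rfl⟩ := exists_mu_eq hx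
    rw [← mu_scale, dfun_mu, dfun_mu, Et_scale, PowerSeries.coeff_rescale]
  have h_mul_dpow : ∀ (m n : ℕ) (x : B), x ∈ (algebraMap A B '' (I : Set A)) →
      dfun γ m x * dfun γ n x = ((m + n).choose m : B) * dfun γ (m + n) x := by
    rintro m n _ ⟨a, ha, rfl⟩
    rw [dfun_algebraMap γ m ha, dfun_algebraMap γ n ha, dfun_algebraMap γ (m + n) ha, ← map_mul,
      γ.mul_dpow ha, map_mul, map_natCast]
  have h_comp : ∀ (m n : ℕ) (x : B), n ≠ 0 → x ∈ (algebraMap A B '' (I : Set A)) →
      dfun γ m (dfun γ n x) = (Nat.uniformBell m n : B) * dfun γ (m * n) x := by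
    rintro m n _ hn ⟨a, ha, rfl⟩
    rw [dfun_algebraMap γ n ha, dfun_algebraMap γ m (γ.dpow_mem hn ha),
      dfun_algebraMap γ (m * n) ha, γ.dpow_comp hn ha, map_mul, map_natCast]
  obtain ⟨δ, hδ⟩ := Groth.Agent.S2192.result (I.map (algebraMap A B))
    (algebraMap A B '' (I : Set A)) rfl (dfun γ) h_null h_zero h_one h_mem h_add h_mul
    h_mul_dpow h_comp
  refine ⟨δ, le_refl _, ?_⟩
  intro n a ha
  rw [hδ]
  exact dfun_algebraMap γ n ha

/-- **Uniqueness of the extension of divided powers.** -/
theorem ext_unique (δ δ' : DividedPowers (I.map (algebraMap A B)))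
    (h : γ.IsDPMorphism δ (algebraMap A B)) (h' : γ.IsDPMorphism δ' (algebraMap A B)) :
    δ = δ' := by
  refine DividedPowers.dpow_eq_from_gens δ' δ (S := algebraMap A B '' (I : Set A)) rfl ?_
  rintro n _ ⟨a, ha, rfl⟩
  rw [h'.dpow_comp a ha, h.dpow_comp a ha]

end Groth.Agent.Lib.Helper4.DPFlat
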