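import Mathlib
import Groth.Agent.S2191
import Groth.Agent.Lib.Helper4.DPFlat

/-!
# Divided powers on `I P + P_+` for a divided power polynomial algebra `P` over `(R, I, γ)`
-/

set_option autoImplicit false
set_option linter.unusedSectionVars false
set_option linter.unusedVariables false
set_option linter.deprecated false
set_option maxHeartbeats 800000

universe u v w

namespace Groth.Agent.Lib.Helper4.DPPoly

variable {R : Type u} [CommRing R] {I : Ideal R} (γ : DividedPowers I) {Λ : Type w}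
  {P : Type v} [CommRing P] [Algebra R P] (x : Λ → ℕ → P)
  (hx0 : ∀ l, x l 0 = 1)
  (hxmul : ∀ l n m, x l n * x l m = ((n + m).choose n : P) * x l (n + m))
  (b : Module.Basis (Λ →₀ ℕ) R P) (hb : ∀ e : Λ →₀ ℕ, b e = e.prod (fun l k => x l k))

include hb in
theorem b_zero : b 0 = 1 := by
  rw [hb, Finsupp.prod_zero_index]

include hx0 hb in
theorem b_single (l : Λ) (n : ℕ) : b (Finsupp.single l n) = x l n := by
  rw [hb, Finsupp.prod_single_index (hx0 l)]

include hx0 hxmul hb in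
theorem b_mul (e e' : Λ →₀ ℕ) : ∃ c : ℕ, b e * b e' = (c : P) * b (e + e') := by
  classical
  set s := e.support ∪ e'.support with hs
  have h1 : b e = ∏ l ∈ s, x l (e l) := by
    rw [hb]
    exact Finsupp.prod_of_support_subset e Finset.subset_union_left _ (fun l _ => hx0 l)
  have h2 : b e' = ∏ l ∈ s, x l (e' l) := by
    rw [hb]
    exact Finsupp.prod_of_support_subset e' Finset.subset_union_right _ (fun l _ => hx0 l)
  have h3 : b (e + e') = ∏ l ∈ s, x l (e l + e' l) := by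
    rw [hb]
    have := Finsupp.prod_of_support_subset (e + e') (s := s) Finsupp.support_add
      (fun l k => x l k) (fun l _ => hx0 l)
    rw [this]
    refine Finset.prod_congr rfl fun l _ => ?_
    rw [Finsupp.add_apply]
  refine ⟨∏ l ∈ s, (e l + e' l).choose (e l), ?_⟩
  rw [h1, h2, h3, ← Finset.prod_mul_distrib, Nat.cast_prod, ← Finset.prod_mul_distrib]
  exact Finset.prod_congr rfl fun l _ => hxmul l (e l) (e' l)

include hx0 hxmul hb in
theorem repr_mul_basis_zero (p : P) {e' : Λ →₀ ℕ} (he' : e' ≠ 0) :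
    b.repr (p * b e') 0 = 0 := by
  classical
  have hL : (Finsupp.lapply (0 : Λ →₀ ℕ) : ((Λ →₀ ℕ) →₀ R) →ₗ[R] R) ∘ₗ
      b.repr.toLinearMap ∘ₗ (LinearMap.mulRight R (b e')) = 0 := by
    refine b.ext fun e => ?_
    obtain ⟨c, hc⟩ := b_mul x hx0 hxmul b hb e e'
    simp only [LinearMap.comp_apply, LinearMap.mulRight_apply, LinearEquiv.coe_coe,
      Finsupp.lapply_apply, LinearMap.zero_apply]
    rw [hc, ← nsmul_eq_mul, map_nsmul, Finsupp.smul_apply, b.repr_self, Finsupp.single_apply,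
      if_neg, smul_zero]
    intro h
    obtain ⟨l, hl⟩ := Finsupp.ne_iff.mp he'
    have h' := DFunLike.congr_fun h l
    simp only [Finsupp.add_apply, Finsupp.zero_apply] at h' hl
    omega
  have := LinearMap.congr_fun hL p
  simpa [LinearMap.mulRight_apply] using this

include hx0 hxmul hb in
theorem repr_zero_of_mem {y : P}
    (hy : y ∈ Ideal.span {y : P | ∃ (l : Λ) (n : ℕ), 1 ≤ n ∧ y = x l n}) :
    b.repr y 0 = 0 := by
  have key : ∀ p : P, b.repr (p * y) 0 = 0 := by
    refine Submodule.span_induction (p := fun y _ => ∀ p : P, b.repr (p * y) 0 = 0)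
      ?_ ?_ ?_ ?_ hy
    · rintro _ ⟨l, n, hn, rfl⟩ p
      rw [← b_single x hx0 b hb l n]
      refine repr_mul_basis_zero x hx0 hxmul b hb p ?_
      intro h
      have := Finsupp.single_eq_zero.mp h
      omega
    · intro p; simp
    · intro y y' _ _ h h' p
      rw [mul_add, map_add, Finsupp.add_apply, h, h', add_zero]
    · intro c y _ h p
      rw [smul_eq_mul, ← mul_assoc]; exact h (p * c)
  simpa using key 1

include hb in
theorem repr_mem_of_mem {y : P} (hy : y ∈ I.map (algebraMap R P)) (e : Λ →₀ ℕ) :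
    b.repr y e ∈ I := by
  have hy' : y ∈ Submodule.span P (algebraMap R P '' (I : Set R)) := hy
  refine Submodule.span_induction (p := fun y _ => ∀ e, b.repr y e ∈ I) ?_ ?_ ?_ ?_ hy' e
  · rintro _ ⟨a, ha, rfl⟩ e
    rw [Algebra.algebraMap_eq_smul_one, ← b_zero x b hb, map_smul, b.repr_self,
      Finsupp.smul_apply, smul_eq_mul]
    exact I.mul_mem_right _ ha
  · intro e; rw [map_zero]; exact I.zero_mem
  · intro y y' _ _ h h' e
    rw [map_add, Finsupp.add_apply]; exact I.add_mem (h e) (h' e)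
  · intro c y _ h e
    have hyy : y = ∑ e' ∈ (b.repr y).support, (b.repr y e') • b e' := by
      conv_lhs => rw [← b.linearCombination_repr y, Finsupp.linearCombination_apply, Finsupp.sum]
    rw [smul_eq_mul, hyy, Finset.mul_sum, map_sum, Finsupp.finset_sum_apply]
    refine I.sum_mem fun e' _ => ?_
    rw [mul_smul_comm, map_smul, Finsupp.smul_apply, smul_eq_mul]
    exact I.mul_mem_right _ (h e')

include hb in
theorem b_mem (e : Λ →₀ ℕ) (he : e ≠ 0) :
    b e ∈ Ideal.span {y : P | ∃ (l : Λ) (n : ℕ), 1 ≤ n ∧ y = x l n} := by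
  classical
  obtain ⟨l, hl⟩ := Finsupp.ne_iff.mp he
  rw [Finsupp.zero_apply] at hl
  have hl' : l ∈ e.support := Finsupp.mem_support_iff.mpr hl
  rw [hb, Finsupp.prod, ← Finset.mul_prod_erase _ _ hl']
  exact Ideal.mul_mem_right _ _
    (Ideal.subset_span ⟨l, e l, Nat.one_le_iff_ne_zero.mpr hl, rfl⟩)

include hx0 hxmul hb in
theorem agree (δ₁ : DividedPowers (I.map (algebraMap R P)))
    (h₁ : γ.IsDPMorphism δ₁ (algebraMap R P))
    (δplus : DividedPowers (Ideal.span {y : P | ∃ (l : Λ) (n : ℕ), 1 ≤ n ∧ y = x l n}))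
    (n : ℕ) (y : P)
    (hy : y ∈ I.map (algebraMap R P) ⊓ Ideal.span {y : P | ∃ (l : Λ) (n : ℕ), 1 ≤ n ∧ y = x l n}) :
    δ₁.dpow n y = δplus.dpow n y := by
  classical
  let T : P → Prop := fun z => z ∈ I.map (algebraMap R P) ∧
    z ∈ Ideal.span {y : P | ∃ (l : Λ) (n : ℕ), 1 ≤ n ∧ y = x l n} ∧
    ∀ n, δ₁.dpow n z = δplus.dpow n z
  have hT_zero : T 0 := by
    refine ⟨Ideal.zero_mem _, Ideal.zero_mem _, fun n => ?_⟩
    by_cases hn : n = 0
    · subst hn; rw [δ₁.dpow_zero (Ideal.zero_mem _), δplus.dpow_zero (Ideal.zero_mem _)]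
    · rw [δ₁.dpow_eval_zero hn, δplus.dpow_eval_zero hn]
  have hT_add : ∀ z z', T z → T z' → T (z + z') := by
    rintro z z' ⟨h1, h2, h3⟩ ⟨h1', h2', h3'⟩
    refine ⟨Ideal.add_mem _ h1 h1', Ideal.add_mem _ h2 h2', fun n => ?_⟩
    rw [δ₁.dpow_add h1 h1', δplus.dpow_add h2 h2']
    refine Finset.sum_congr rfl fun k _ => ?_
    rw [h3, h3']
  have hT_gen : ∀ (r : R) (m : P), r ∈ I →
      m ∈ Ideal.span {y : P | ∃ (l : Λ) (n : ℕ), 1 ≤ n ∧ y = x l n} → T (r • m) := by
    intro r m hr hm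
    have hφ : algebraMap R P r ∈ I.map (algebraMap R P) := Ideal.mem_map_of_mem _ hr
    rw [Algebra.smul_def]
    refine ⟨Ideal.mul_mem_right _ _ hφ, Ideal.mul_mem_left _ _ hm, fun n => ?_⟩
    have e1 : m ^ n = (n.factorial : P) * δplus.dpow n m :=
      (δplus.factorial_mul_dpow_eq_pow hm).symm
    have e2 : (algebraMap R P r) ^ n = (n.factorial : P) * algebraMap R P (γ.dpow n r) := by
      rw [← map_pow, ← γ.factorial_mul_dpow_eq_pow hr, map_mul, map_natCast]
    rw [δplus.dpow_mul hm, mul_comm, δ₁.dpow_mul hφ, h₁.dpow_comp r hr, e1, e2]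
    ring
  have hyy : y = ∑ e' ∈ (b.repr y).support, (b.repr y e') • b e' := by
    conv_lhs => rw [← b.linearCombination_repr y, Finsupp.linearCombination_apply, Finsupp.sum]
  have hTy : T y := by
    rw [hyy]
    refine Finset.sum_induction _ T hT_add hT_zero fun e _ => ?_
    by_cases he : e = 0
    · subst he
      rw [repr_zero_of_mem x hx0 hxmul b hb hy.2, zero_smul]; exact hT_zero
    · exact hT_gen _ _ (repr_mem_of_mem x b hb hy.1 e) (b_mem x b hb e he)
  exact hTy.2.2 n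

include hx0 hxmul hb in
/-- The unique compatible divided power structure on `I P + P_+`. -/
theorem main
    (δplus : DividedPowers (Ideal.span {y : P | ∃ (l : Λ) (n : ℕ), 1 ≤ n ∧ y = x l n})) :
    ∃! δ : DividedPowers (I.map (algebraMap R P) ⊔
        Ideal.span {y : P | ∃ (l : Λ) (n : ℕ), 1 ≤ n ∧ y = x l n}),
      γ.IsDPMorphism δ (algebraMap R P) ∧
        ∀ (n : ℕ) (y : P), y ∈ Ideal.span {y : P | ∃ (l : Λ) (n : ℕ), 1 ≤ n ∧ y = x l n} →
          δ.dpow n y = δplus.dpow n y := by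
  have : Module.Free R P := Module.Free.of_basis b
  obtain ⟨δ₁, h₁⟩ := DPFlat.exists_ext (B := P) γ
  obtain ⟨ε, ⟨hε1, hε2⟩, -⟩ := Groth.Agent.S2191.result δ₁ δplus
    (fun n y hy => agree γ x hx0 hxmul b hb δ₁ h₁ δplus n y hy)
  refine ⟨ε, ⟨⟨le_sup_left, fun {n} a ha => ?_⟩, hε2⟩, ?_⟩
  · rw [hε1 n _ (Ideal.mem_map_of_mem _ ha)]; exact h₁.dpow_comp a ha
  · rintro δ' ⟨h1', h2'⟩
    refine DividedPowers.dpow_eq_from_gens ε δ'
      (S := (algebraMap R P '' (I : Set R)) ∪ {y : P | ∃ (l : Λ) (n : ℕ), 1 ≤ n ∧ y = x l n})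
      ?_ ?_
    · rw [Ideal.span_union]; rfl
    · rintro n a (⟨r, hr, rfl⟩ | ha)
      · rw [hε1 n _ (Ideal.mem_map_of_mem _ hr), h₁.dpow_comp r hr, h1'.dpow_comp r hr]
      · have hmem : a ∈ Ideal.span {y : P | ∃ (l : Λ) (n : ℕ), 1 ≤ n ∧ y = x l n} :=
          Ideal.subset_span ha
        rw [hε2 n a hmem, h2' n a hmem]

end Groth.Agent.Lib.Helper4.DPPoly
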