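import Mathlib
import Groth.Agent.S18420
import Groth.Agent.S19919
import Groth.Agent.Lib.Helper4.DPPoly

/-!
# A concrete divided power polynomial algebra

`Pℤ ι` is the `ℤ`-subalgebra of `ℚ[X_i]` spanned by the divided monomials `∏ X_i^{e_i}/e_i!`;
`A ⊗[ℤ] Pℤ ι` is then a model of the divided power polynomial algebra over `A`.
-/

set_option autoImplicit false
set_option linter.unusedSectionVars false
set_option linter.unusedVariables false
set_option linter.deprecated false
set_option maxHeartbeats 800000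

universe u

namespace Groth.Agent.Lib.Helper4.DPAlg

open MvPolynomial TensorProduct

section Lattice

variable (ι : Type)

/-- inverse multi-factorial -/
noncomputable def invFact (e : ι →₀ ℕ) : ℚ := e.prod fun _ k => ((k.factorial : ℚ))⁻¹

/-- divided monomials -/
noncomputable def v (e : ι →₀ ℕ) : MvPolynomial ι ℚ := monomial e (invFact ι e)

variable {ι}

theorem invFact_zero : invFact ι (0 : ι →₀ ℕ) = 1 := Finsupp.prod_zero_index

theorem invFact_single (i : ι) (n : ℕ) :
    invFact ι (Finsupp.single i n) = ((n.factorial : ℚ))⁻¹ := by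
  unfold invFact
  rw [Finsupp.prod_single_index (by simp)]

theorem invFact_ne_zero (e : ι →₀ ℕ) : invFact ι e ≠ 0 := by
  unfold invFact Finsupp.prod
  exact Finset.prod_ne_zero_iff.mpr
    (fun i _ => inv_ne_zero (Nat.cast_ne_zero.mpr (Nat.factorial_ne_zero _)))

theorem inv_fact_mul (a b : ℕ) :
    ((a.factorial : ℚ))⁻¹ * ((b.factorial : ℚ))⁻¹ =
      ((a + b).choose a : ℚ) * (((a + b).factorial : ℚ))⁻¹ := by
  have h : ((a + b).choose a : ℚ) * (a.factorial : ℚ) * (b.factorial : ℚ) =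
      ((a + b).factorial : ℚ) := by
    have h' := Nat.add_choose_mul_factorial_mul_factorial a b
    rw [← Nat.choose_symm_add] at h'
    exact_mod_cast h'
  have ha : (a.factorial : ℚ) ≠ 0 := Nat.cast_ne_zero.mpr (Nat.factorial_ne_zero _)
  have hb : (b.factorial : ℚ) ≠ 0 := Nat.cast_ne_zero.mpr (Nat.factorial_ne_zero _)
  have hab : ((a + b).factorial : ℚ) ≠ 0 := Nat.cast_ne_zero.mpr (Nat.factorial_ne_zero _)
  rw [eq_mul_inv_iff_mul_eq₀ hab, ← h]
  field_simp

theorem invFact_mul (e e' : ι →₀ ℕ) :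
    ∃ c : ℕ, invFact ι e * invFact ι e' = (c : ℚ) * invFact ι (e + e') := by
  classical
  set s := e.support ∪ e'.support with hs
  have h1 : invFact ι e = ∏ l ∈ s, (((e l).factorial : ℚ))⁻¹ :=
    Finsupp.prod_of_support_subset e Finset.subset_union_left _ (fun l _ => by simp)
  have h2 : invFact ι e' = ∏ l ∈ s, (((e' l).factorial : ℚ))⁻¹ :=
    Finsupp.prod_of_support_subset e' Finset.subset_union_right _ (fun l _ => by simp)
  have h3 : invFact ι (e + e') = ∏ l ∈ s, (((e l + e' l).factorial : ℚ))⁻¹ := by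
    have := Finsupp.prod_of_support_subset (e + e') (s := s) Finsupp.support_add
      (fun _ k => ((k.factorial : ℚ))⁻¹) (fun l _ => by simp)
    unfold invFact
    rw [this]
    refine Finset.prod_congr rfl fun l _ => ?_
    rw [Finsupp.add_apply]
  refine ⟨∏ l ∈ s, (e l + e' l).choose (e l), ?_⟩
  rw [h1, h2, h3, ← Finset.prod_mul_distrib, Nat.cast_prod, ← Finset.prod_mul_distrib]
  exact Finset.prod_congr rfl fun l _ => inv_fact_mul (e l) (e' l)

theorem v_zero : v ι (0 : ι →₀ ℕ) = 1 := by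
  unfold v; rw [invFact_zero]; rfl

theorem v_mul (e e' : ι →₀ ℕ) : ∃ c : ℕ, v ι e * v ι e' = (c : ℤ) • v ι (e + e') := by
  obtain ⟨c, hc⟩ := invFact_mul e e'
  refine ⟨c, ?_⟩
  unfold v
  rw [monomial_mul, hc, ← map_zsmul (monomial (e + e')), zsmul_eq_mul, Int.cast_natCast]

theorem v_single (i : ι) (n : ℕ) :
    v ι (Finsupp.single i n) = C (((n.factorial : ℚ))⁻¹) * X i ^ n := by
  unfold v; rw [invFact_single, C_mul_X_pow_eq_monomial]

theorem v_single_mul (i : ι) (n m : ℕ) :
    v ι (Finsupp.single i n) * v ι (Finsupp.single i m) =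
      (((n + m).choose n : ℕ) : ℤ) • v ι (Finsupp.single i (n + m)) := by
  unfold v
  rw [monomial_mul, invFact_single, invFact_single, invFact_single, ← Finsupp.single_add,
    inv_fact_mul, ← map_zsmul (monomial (Finsupp.single i (n + m))), zsmul_eq_mul,
    Int.cast_natCast]

theorem prod_v_single (e : ι →₀ ℕ) : (e.prod fun i k => v ι (Finsupp.single i k)) = v ι e := by
  simp_rw [v_single]
  rw [Finsupp.prod_mul, ← map_finsuppProd]
  unfold v invFact
  rw [monomial_eq]

theorem v_li : LinearIndependent ℤ (v ι) := by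
  have h0 := (MvPolynomial.basisMonomials ι ℚ).linearIndependent
  have h2 := h0.units_smul (fun e => Units.mk0 (invFact ι e) (invFact_ne_zero e))
  have h1 : LinearIndependent ℚ (v ι) := by
    have hv : v ι = (fun e => Units.mk0 (invFact ι e) (invFact_ne_zero e)) •
        ⇑(MvPolynomial.basisMonomials ι ℚ) := by
      ext1 e
      simp [v, Units.smul_def, smul_monomial]
    rw [hv]; exact h2
  exact h1.restrict_scalars (fun a b h => by simpa using h)

variable (ι)

/-- the `ℤ`-span of the divided monomials -/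
noncomputable def L : Submodule ℤ (MvPolynomial ι ℚ) := Submodule.span ℤ (Set.range (v ι))

theorem one_mem_L : (1 : MvPolynomial ι ℚ) ∈ L ι :=
  Submodule.subset_span ⟨0, v_zero⟩

theorem mul_mem_L : ∀ x y : MvPolynomial ι ℚ, x ∈ L ι → y ∈ L ι → x * y ∈ L ι := by
  intro x y hx hy
  have h := Submodule.mul_mem_mul hx hy
  have hle : L ι * L ι ≤ L ι := by
    unfold L
    rw [Submodule.span_mul_span, Submodule.span_le]
    rintro _ ⟨_, ⟨e, rfl⟩, _, ⟨e', rfl⟩, rfl⟩
    obtain ⟨c, hc⟩ := v_mul e e'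
    show v ι e * v ι e' ∈ Submodule.span ℤ (Set.range (v ι))
    rw [hc]
    exact Submodule.smul_mem _ _ (Submodule.subset_span ⟨_, rfl⟩)
  exact hle h

/-- the integral divided power polynomial ring -/
noncomputable def Pℤ : Subalgebra ℤ (MvPolynomial ι ℚ) :=
  (L ι).toSubalgebra (one_mem_L ι) (mul_mem_L ι)

/-- divided monomials as elements of `Pℤ` -/
noncomputable def w (e : ι →₀ ℕ) : Pℤ ι := ⟨v ι e, Submodule.subset_span ⟨e, rfl⟩⟩

theorem coe_w (e : ι →₀ ℕ) : ((w ι e : Pℤ ι) : MvPolynomial ι ℚ) = v ι e := rfl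

/-- the `ℤ`-basis of divided monomials -/
noncomputable def bZ : Module.Basis (ι →₀ ℕ) ℤ (Pℤ ι) :=
  (Module.Basis.span (v_li (ι := ι))).map
    ((LinearEquiv.ofEq _ _
      ((L ι).toSubalgebra_toSubmodule (one_mem_L ι) (mul_mem_L ι)).symm).trans
      (Subalgebra.toSubmoduleEquiv (Pℤ ι)))

theorem bZ_apply (e : ι →₀ ℕ) : bZ ι e = w ι e := by
  apply Subtype.ext
  unfold bZ
  rw [Module.Basis.map_apply, Module.Basis.span_apply]
  rfl

theorem w_zero : w ι 0 = 1 := Subtype.ext v_zero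

theorem w_single_mul (i : ι) (n m : ℕ) :
    w ι (Finsupp.single i n) * w ι (Finsupp.single i m) =
      (((n + m).choose n : ℕ) : ℤ) • w ι (Finsupp.single i (n + m)) :=
  Subtype.ext (v_single_mul i n m)

theorem prod_w_single (e : ι →₀ ℕ) : (e.prod fun i k => w ι (Finsupp.single i k)) = w ι e := by
  apply Subtype.ext
  have := map_finsuppProd (Pℤ ι).val e (fun i k => w ι (Finsupp.single i k))
  rw [Subalgebra.coe_val] at this
  rw [this]
  exact prod_v_single e

end Lattice

section Model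

variable (A : Type u) [CommRing A] (ι : Type)

/-- the model of the divided power polynomial algebra over `A` -/
abbrev PA : Type u := A ⊗[ℤ] Pℤ ι

/-- the divided powers of the variables -/
noncomputable def xA (i : ι) (n : ℕ) : PA A ι := (1 : A) ⊗ₜ[ℤ] w ι (Finsupp.single i n)

/-- the monomial basis -/
noncomputable def bA : Module.Basis (ι →₀ ℕ) A (PA A ι) := Module.Basis.baseChange A (bZ ι)

theorem xA_zero (i : ι) : xA A ι i 0 = 1 := by
  unfold xA
  rw [Finsupp.single_zero, w_zero]; rfl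

theorem xA_mul (i : ι) (n m : ℕ) :
    xA A ι i n * xA A ι i m = ((n + m).choose n : PA A ι) * xA A ι i (n + m) := by
  unfold xA
  rw [Algebra.TensorProduct.tmul_mul_tmul, w_single_mul, TensorProduct.tmul_smul, one_mul,
    zsmul_eq_mul, Int.cast_natCast]

theorem bA_apply (e : ι →₀ ℕ) : bA A ι e = e.prod (fun i k => xA A ι i k) := by
  unfold bA xA
  rw [Module.Basis.baseChange_apply, bZ_apply, ← prod_w_single]
  exact map_finsuppProd (Algebra.TensorProduct.includeRight : Pℤ ι →ₐ[ℤ] A ⊗[ℤ] Pℤ ι) e _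

end Model

section Universal

variable {A : Type u} [CommRing A] {I : Ideal A} (γ : DividedPowers I) (t : ℕ)

/-- universal property from any concrete model -/
theorem univ_of_model (P : Type u) [CommRing P] [Algebra A P] (x : Fin t → ℕ → P)
    (hx0 : ∀ i, x i 0 = 1)
    (hxmul : ∀ i n m, x i n * x i m = ((n + m).choose n : P) * x i (n + m))
    (b : Module.Basis (Fin t →₀ ℕ) A P) (hb : ∀ e : Fin t →₀ ℕ, b e = e.prod (fun i k => x i k)) :
    ∃ (J : Ideal P) (δ : DividedPowers J), (∀ i, x i 1 ∈ J) ∧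
      γ.IsDPMorphism δ (algebraMap A P) ∧
      ∀ (C : Type u) [CommRing C] [Algebra A C] (K : Ideal C) (ε : DividedPowers K),
        γ.IsDPMorphism ε (algebraMap A C) → ∀ k : Fin t → C, (∀ i, k i ∈ K) →
          ∃! φ : P →ₐ[A] C, (∀ i, φ (x i 1) = k i) ∧ δ.IsDPMorphism ε φ.toRingHom := by
  obtain ⟨γp, hγp, -⟩ := Groth.Agent.S18420.result A t P x hx0 hxmul b hb
  obtain ⟨δ, ⟨hδ1, hδ2⟩, -⟩ := DPPoly.main γ x hx0 hxmul b hb γp
  have hgen : ∀ (i : Fin t) (n : ℕ), 1 ≤ n →
      x i n ∈ Ideal.span {y : P | ∃ (i : Fin t) (n : ℕ), 1 ≤ n ∧ y = x i n} :=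
    fun i n hn => Ideal.subset_span ⟨i, n, hn, rfl⟩
  refine ⟨_, δ, fun i => Ideal.mem_sup_right (hgen i 1 le_rfl), hδ1, ?_⟩
  intro C _ _ K ε hε k hk
  obtain ⟨φ, ⟨hφ1, hφ2⟩, hφu⟩ :=
    Groth.Agent.S19919.result A t P x hx0 hxmul b hb γp hγp C K ε k hk
  refine ⟨φ, ⟨hφ2, ?_⟩, ?_⟩
  · refine DividedPowers.IsDPMorphism.on_span δ ε
      (S := (algebraMap A P '' (I : Set A)) ∪ {y : P | ∃ (i : Fin t) (n : ℕ), 1 ≤ n ∧ y = x i n})
      (by rw [Ideal.span_union]; rfl) ?_ ?_
    · rintro s (⟨r, hr, rfl⟩ | hs)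
      · show φ (algebraMap A P r) ∈ K
        rw [φ.commutes]
        exact hε.1 (Ideal.mem_map_of_mem _ hr)
      · exact hφ1.1 (Ideal.mem_map_of_mem _ (Ideal.subset_span hs))
    · rintro n a (⟨r, hr, rfl⟩ | ha)
      · show φ (δ.dpow n (algebraMap A P r)) = ε.dpow n (φ (algebraMap A P r))
        rw [hδ1.dpow_comp r hr, φ.commutes, φ.commutes, hε.dpow_comp r hr]
      · have hmem : a ∈ Ideal.span {y : P | ∃ (i : Fin t) (n : ℕ), 1 ≤ n ∧ y = x i n} :=
          Ideal.subset_span ha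
        rw [hδ2 n a hmem]
        exact (hφ1.dpow_comp a hmem).symm
  · rintro ψ ⟨hψ1, hψ2⟩
    apply hφu
    refine ⟨⟨(Ideal.map_mono le_sup_right).trans hψ2.1, fun {n} a ha => ?_⟩, hψ1⟩
    rw [← hδ2 n a ha]
    exact hψ2.dpow_comp a (Ideal.mem_sup_right ha)

/-- **Existence of the universal divided power polynomial algebra.** -/
theorem exists_univ :
    ∃ (D : Type u) (_ : CommRing D) (_ : Algebra A D) (J : Ideal D) (δ : DividedPowers J)
      (x : Fin t → D), (∀ i, x i ∈ J) ∧ γ.IsDPMorphism δ (algebraMap A D) ∧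
      ∀ (C : Type u) [CommRing C] [Algebra A C] (K : Ideal C) (ε : DividedPowers K),
        γ.IsDPMorphism ε (algebraMap A C) → ∀ k : Fin t → C, (∀ i, k i ∈ K) →
          ∃! φ : D →ₐ[A] C, (∀ i, φ (x i) = k i) ∧ δ.IsDPMorphism ε φ.toRingHom := by
  obtain ⟨J, δ, h1, h2, h3⟩ := univ_of_model γ t (PA A (Fin t)) (xA A (Fin t))
    (xA_zero A (Fin t)) (xA_mul A (Fin t)) (bA A (Fin t)) (bA_apply A (Fin t))
  exact ⟨PA A (Fin t), inferInstance, inferInstance, J, δ, fun i => xA A (Fin t) i 1, h1, h2, h3⟩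

end Universal

end Groth.Agent.Lib.Helper4.DPAlg
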