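import Mathlib

/-!
# Divided power envelopes

Construction of the divided power envelope `D_{B,γ}(J)` of an ideal `J` of an `A`-algebra `B`
relative to a divided power ring `(A, I, γ)` with `I B ⊆ J`.

The envelope is built as a quotient of the algebra of formal terms (built from elements of `B`,
the ring operations and formal divided power operations) by the relation "equal under every
evaluation in every test object" (a solution-set / adjoint-functor-theorem style construction).
-/

set_option autoImplicit false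
set_option linter.unusedSectionVars false
set_option linter.unusedVariables false
set_option linter.deprecated false
set_option maxHeartbeats 800000

universe u

namespace Groth.Agent.Lib.Helper4.DPEnv

open DividedPowers

/-- Raw terms built from elements of `B` by ring operations and formal divided powers. -/
inductive W (B : Type u) : Type u
  | of : B → W B
  | add : W B → W B → W B
  | mul : W B → W B → W B
  | neg : W B → W B
  | dp : ℕ → W B → W B

variable {A B : Type u} [CommRing A] [CommRing B] [Algebra A B] {I : Ideal A}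

/-- Test objects: divided power rings over `(A, I, γ)` with a map from `(B, J)`. -/
structure TObj (γ : DividedPowers I) (J : Ideal B) : Type (u + 1) where
  C : Type u
  [ring : CommRing C]
  [alg : Algebra A C]
  K : Ideal C
  δ : DividedPowers K
  h : γ.IsDPMorphism δ (algebraMap A C)
  ψ : B →ₐ[A] C
  hψ : J.map ψ ≤ K

attribute [instance] TObj.ring TObj.alg

open Classical in
/-- Evaluation of a term in a test object; a formal divided power of a term is evaluated as a
divided power only if the term lands in the divided power ideal of *every* test object. -/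
noncomputable def eval (γ : DividedPowers I) (J : Ideal B) : W B → (T : TObj γ J) → T.C
  | .of b, T => T.ψ b
  | .add s t, T => eval γ J s T + eval γ J t T
  | .mul s t, T => eval γ J s T * eval γ J t T
  | .neg s, T => - eval γ J s T
  | .dp n s, T =>
      if ∀ T' : TObj γ J, eval γ J s T' ∈ T'.K then T.δ.dpow n (eval γ J s T) else 0

variable (γ : DividedPowers I) (J : Ideal B)

/-- Two terms are related if they have equal evaluations everywhere. -/
def rel (s t : W B) : Prop := ∀ T : TObj γ J, eval γ J s T = eval γ J t T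

/-- The divided power envelope (as a type). -/
def D : Type u := Quot (rel γ J)

variable {γ J}

/-- Evaluation on the envelope. -/
noncomputable def ev (T : TObj γ J) : D γ J → T.C :=
  Quot.lift (fun s => eval γ J s T) (fun _ _ h => h T)

theorem ev_mk (T : TObj γ J) (s : W B) : ev T (Quot.mk (rel γ J) s) = eval γ J s T := rfl

theorem ext {x y : D γ J} (h : ∀ T : TObj γ J, ev T x = ev T y) : x = y := by
  obtain ⟨s⟩ := x
  obtain ⟨t⟩ := y
  exact Quot.sound h

theorem rel_add_left (a : W B) {b₁ b₂ : W B} (h : rel γ J b₁ b₂) :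
    rel γ J (W.add a b₁) (W.add a b₂) := by
  intro T
  simp only [eval]
  rw [h T]

theorem rel_add_right {a₁ a₂ : W B} (b : W B) (h : rel γ J a₁ a₂) :
    rel γ J (W.add a₁ b) (W.add a₂ b) := by
  intro T
  simp only [eval]
  rw [h T]

theorem rel_mul_left (a : W B) {b₁ b₂ : W B} (h : rel γ J b₁ b₂) :
    rel γ J (W.mul a b₁) (W.mul a b₂) := by
  intro T
  simp only [eval]
  rw [h T]

theorem rel_mul_right {a₁ a₂ : W B} (b : W B) (h : rel γ J a₁ a₂) :
    rel γ J (W.mul a₁ b) (W.mul a₂ b) := by
  intro T
  simp only [eval]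
  rw [h T]

theorem rel_neg {a b : W B} (h : rel γ J a b) : rel γ J (W.neg a) (W.neg b) := by
  intro T
  simp only [eval]
  rw [h T]

theorem rel_dp (n : ℕ) {s t : W B} (h : rel γ J s t) : rel γ J (W.dp n s) (W.dp n t) := by
  intro T
  have e : eval γ J s = eval γ J t := funext h
  simp only [eval]
  rw [e]

noncomputable def add' : D γ J → D γ J → D γ J :=
  Quot.map₂ W.add (fun a _ _ h => rel_add_left a h) (fun _ _ b h => rel_add_right b h)

noncomputable def mul' : D γ J → D γ J → D γ J :=
  Quot.map₂ W.mul (fun a _ _ h => rel_mul_left a h) (fun _ _ b h => rel_mul_right b h)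

noncomputable def neg' : D γ J → D γ J :=
  Quot.map W.neg (fun _ _ h => rel_neg h)

noncomputable def zero' : D γ J := Quot.mk _ (W.of 0)

noncomputable def one' : D γ J := Quot.mk _ (W.of 1)

/-- The divided power operations on the envelope. -/
noncomputable def dpD (n : ℕ) : D γ J → D γ J :=
  Quot.map (W.dp n) (fun _ _ h => rel_dp n h)

theorem ev_add' (T : TObj γ J) (x y : D γ J) : ev T (add' x y) = ev T x + ev T y := by
  obtain ⟨s⟩ := x
  obtain ⟨t⟩ := y
  show eval γ J (W.add s t) T = eval γ J s T + eval γ J t T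
  simp only [eval]

theorem ev_mul' (T : TObj γ J) (x y : D γ J) : ev T (mul' x y) = ev T x * ev T y := by
  obtain ⟨s⟩ := x
  obtain ⟨t⟩ := y
  show eval γ J (W.mul s t) T = eval γ J s T * eval γ J t T
  simp only [eval]

theorem ev_neg' (T : TObj γ J) (x : D γ J) : ev T (neg' x) = - ev T x := by
  obtain ⟨s⟩ := x
  show eval γ J (W.neg s) T = - eval γ J s T
  simp only [eval]

theorem ev_zero' (T : TObj γ J) : ev T (zero' : D γ J) = 0 := by
  show eval γ J (W.of 0) T = 0
  simp only [eval, map_zero]

theorem ev_one' (T : TObj γ J) : ev T (one' : D γ J) = 1 := by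
  show eval γ J (W.of 1) T = 1
  simp only [eval, map_one]

theorem add_assoc' (a b c : D γ J) : add' (add' a b) c = add' a (add' b c) :=
  ext fun T => by simp only [ev_add']; ring

theorem zero_add' (a : D γ J) : add' zero' a = a :=
  ext fun T => by simp only [ev_add', ev_zero']; ring

theorem add_zero' (a : D γ J) : add' a zero' = a :=
  ext fun T => by simp only [ev_add', ev_zero']; ring

theorem neg_add_cancel' (a : D γ J) : add' (neg' a) a = zero' :=
  ext fun T => by simp only [ev_add', ev_neg', ev_zero']; ring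

theorem add_comm' (a b : D γ J) : add' a b = add' b a :=
  ext fun T => by simp only [ev_add']; ring

theorem left_distrib' (a b c : D γ J) : mul' a (add' b c) = add' (mul' a b) (mul' a c) :=
  ext fun T => by simp only [ev_add', ev_mul']; ring

theorem right_distrib' (a b c : D γ J) : mul' (add' a b) c = add' (mul' a c) (mul' b c) :=
  ext fun T => by simp only [ev_add', ev_mul']; ring

theorem zero_mul' (a : D γ J) : mul' zero' a = zero' :=
  ext fun T => by simp only [ev_mul', ev_zero']; ring

theorem mul_zero' (a : D γ J) : mul' a zero' = zero' :=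
  ext fun T => by simp only [ev_mul', ev_zero']; ring

theorem mul_assoc' (a b c : D γ J) : mul' (mul' a b) c = mul' a (mul' b c) :=
  ext fun T => by simp only [ev_mul']; ring

theorem one_mul' (a : D γ J) : mul' one' a = a :=
  ext fun T => by simp only [ev_mul', ev_one']; ring

theorem mul_one' (a : D γ J) : mul' a one' = a :=
  ext fun T => by simp only [ev_mul', ev_one']; ring

theorem mul_comm' (a b : D γ J) : mul' a b = mul' b a :=
  ext fun T => by simp only [ev_mul']; ring

noncomputable instance instZero : Zero (D γ J) := ⟨zero'⟩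
noncomputable instance instOne : One (D γ J) := ⟨one'⟩
noncomputable instance instAdd : Add (D γ J) := ⟨add'⟩
noncomputable instance instMul : Mul (D γ J) := ⟨mul'⟩
noncomputable instance instNeg : Neg (D γ J) := ⟨neg'⟩

noncomputable instance instCommRing : CommRing (D γ J) where
  add := add'
  add_assoc := add_assoc'
  zero := zero'
  zero_add := zero_add'
  add_zero := add_zero'
  nsmul := nsmulRec
  neg := neg'
  zsmul := zsmulRec
  neg_add_cancel := neg_add_cancel'
  add_comm := add_comm'
  mul := mul'
  left_distrib := left_distrib'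
  right_distrib := right_distrib'
  zero_mul := zero_mul'
  mul_zero := mul_zero'
  mul_assoc := mul_assoc'
  one := one'
  one_mul := one_mul'
  mul_one := mul_one'
  mul_comm := mul_comm'

/-- Evaluation as a ring homomorphism. -/
noncomputable def evHom (T : TObj γ J) : D γ J →+* T.C where
  toFun := ev T
  map_one' := ev_one' T
  map_mul' := ev_mul' T
  map_zero' := ev_zero' T
  map_add' := ev_add' T

theorem evHom_apply (T : TObj γ J) (x : D γ J) : evHom T x = ev T x := rfl

theorem ext' {x y : D γ J} (h : ∀ T : TObj γ J, evHom T x = evHom T y) : x = y := ext h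

/-- The class of a term. -/
def mk (s : W B) : D γ J := Quot.mk (rel γ J) s

theorem mk_add (s t : W B) : (mk (W.add s t) : D γ J) = mk s + mk t := rfl

theorem mk_mul (s t : W B) : (mk (W.mul s t) : D γ J) = mk s * mk t := rfl

theorem mk_neg (s : W B) : (mk (W.neg s) : D γ J) = - mk s := rfl

theorem mk_dp (n : ℕ) (s : W B) : (mk (W.dp n s) : D γ J) = dpD n (mk s) := rfl

/-- The structure map `B → D`. -/
noncomputable def ofHom : B →+* D γ J where
  toFun b := Quot.mk _ (W.of b)
  map_one' := rfl
  map_mul' a b := ext' fun T => by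
    rw [map_mul]
    show eval γ J (W.of (a * b)) T = eval γ J (W.of a) T * eval γ J (W.of b) T
    simp only [eval, map_mul]
  map_zero' := rfl
  map_add' a b := ext' fun T => by
    rw [map_add]
    show eval γ J (W.of (a + b)) T = eval γ J (W.of a) T + eval γ J (W.of b) T
    simp only [eval, map_add]

noncomputable instance instAlgebra : Algebra B (D γ J) := (ofHom (γ := γ) (J := J)).toAlgebra

theorem evHom_of (T : TObj γ J) (b : B) : evHom T (algebraMap B (D γ J) b) = T.ψ b := by
  show eval γ J (W.of b) T = T.ψ b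
  simp only [eval]

variable (γ J) in
/-- The divided power ideal of the envelope. -/
def JD : Ideal (D γ J) where
  carrier := {x | ∀ T : TObj γ J, evHom T x ∈ T.K}
  add_mem' := by
    intro a b ha hb
    have ha' : ∀ T : TObj γ J, evHom T a ∈ T.K := ha
    have hb' : ∀ T : TObj γ J, evHom T b ∈ T.K := hb
    show ∀ T : TObj γ J, evHom T (a + b) ∈ T.K
    intro T
    rw [map_add]
    exact T.K.add_mem (ha' T) (hb' T)
  zero_mem' := by
    show ∀ T : TObj γ J, evHom T (0 : D γ J) ∈ T.K
    intro T
    rw [map_zero]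
    exact T.K.zero_mem
  smul_mem' := by
    intro c x hx
    have hx' : ∀ T : TObj γ J, evHom T x ∈ T.K := hx
    show ∀ T : TObj γ J, evHom T (c • x) ∈ T.K
    intro T
    rw [smul_eq_mul, map_mul]
    exact T.K.mul_mem_left _ (hx' T)

theorem mem_JD {x : D γ J} : x ∈ JD γ J ↔ ∀ T : TObj γ J, evHom T x ∈ T.K := Iff.rfl

theorem evHom_mem {x : D γ J} (hx : x ∈ JD γ J) (T : TObj γ J) : evHom T x ∈ T.K :=
  mem_JD.mp hx T

theorem evHom_dpD_of_mem (T : TObj γ J) (n : ℕ) {x : D γ J} (hx : x ∈ JD γ J) :
    evHom T (dpD n x) = T.δ.dpow n (evHom T x) := by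
  obtain ⟨s⟩ := x
  have hs : ∀ T' : TObj γ J, eval γ J s T' ∈ T'.K := fun T' => evHom_mem hx T'
  show eval γ J (W.dp n s) T = T.δ.dpow n (eval γ J s T)
  simp only [eval]
  rw [if_pos hs]

theorem dpD_of_not_mem (n : ℕ) {x : D γ J} (hx : x ∉ JD γ J) : dpD n x = 0 := by
  obtain ⟨s⟩ := x
  have hs : ¬ ∀ T' : TObj γ J, eval γ J s T' ∈ T'.K := fun h => hx (mem_JD.mpr h)
  refine ext' fun T => ?_
  rw [map_zero]
  show eval γ J (W.dp n s) T = 0
  simp only [eval]
  rw [if_neg hs]

theorem dpD_mem {n : ℕ} (hn : n ≠ 0) {x : D γ J} (hx : x ∈ JD γ J) : dpD n x ∈ JD γ J :=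
  mem_JD.mpr fun T => by
    rw [evHom_dpD_of_mem T n hx]
    exact T.δ.dpow_mem hn (evHom_mem hx T)

variable (γ J) in
/-- The divided power structure on the envelope. -/
noncomputable def γD : DividedPowers (JD γ J) where
  dpow := dpD
  dpow_null {n x} hx := dpD_of_not_mem n hx
  dpow_zero {x} hx := ext' fun T => by
    rw [evHom_dpD_of_mem T 0 hx, map_one]
    exact T.δ.dpow_zero (evHom_mem hx T)
  dpow_one {x} hx := ext' fun T => by
    rw [evHom_dpD_of_mem T 1 hx]
    exact T.δ.dpow_one (evHom_mem hx T)
  dpow_mem {n x} hn hx := dpD_mem hn hx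
  dpow_add {n x y} hx hy := ext' fun T => by
    have hxy : x + y ∈ JD γ J := (JD γ J).add_mem hx hy
    rw [evHom_dpD_of_mem T n hxy, map_add, T.δ.dpow_add (evHom_mem hx T) (evHom_mem hy T), map_sum]
    refine Finset.sum_congr rfl fun k _ => ?_
    rw [map_mul, evHom_dpD_of_mem T _ hx, evHom_dpD_of_mem T _ hy]
  dpow_mul {n a x} hx := ext' fun T => by
    have hax : a * x ∈ JD γ J := (JD γ J).mul_mem_left a hx
    rw [evHom_dpD_of_mem T n hax, map_mul, T.δ.dpow_mul (evHom_mem hx T), map_mul, map_pow,
      evHom_dpD_of_mem T n hx]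
  mul_dpow {m n x} hx := ext' fun T => by
    rw [map_mul, evHom_dpD_of_mem T m hx, evHom_dpD_of_mem T n hx, T.δ.mul_dpow (evHom_mem hx T),
      map_mul, map_natCast, evHom_dpD_of_mem T (m + n) hx]
  dpow_comp {m n x} hn hx := ext' fun T => by
    rw [evHom_dpD_of_mem T m (dpD_mem hn hx), evHom_dpD_of_mem T n hx,
      T.δ.dpow_comp hn (evHom_mem hx T), map_mul, map_natCast, evHom_dpD_of_mem T (m * n) hx]

theorem γD_dpow (n : ℕ) (x : D γ J) : (γD γ J).dpow n x = dpD n x := rfl

theorem of_mem_JD {b : B} (hb : b ∈ J) : algebraMap B (D γ J) b ∈ JD γ J :=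
  mem_JD.mpr fun T => by
    rw [evHom_of]
    exact T.hψ (Ideal.mem_map_of_mem _ hb)

theorem isDPMorphism_evHom (T : TObj γ J) : (γD γ J).IsDPMorphism T.δ (evHom T) :=
  ⟨Ideal.map_le_iff_le_comap.mpr fun x hx => evHom_mem hx T,
    fun {n} x hx => (evHom_dpD_of_mem T n hx).symm⟩

theorem evHom_comp (T : TObj γ J) :
    (evHom T).comp (algebraMap B (D γ J)) = (T.ψ : B →+* T.C) :=
  RingHom.ext fun b => evHom_of T b

theorem unique_hom (T : TObj γ J) (χ : D γ J →+* T.C)
    (h1 : χ.comp (algebraMap B (D γ J)) = (T.ψ : B →+* T.C))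
    (h2 : (γD γ J).IsDPMorphism T.δ χ) : χ = evHom T := by
  apply RingHom.ext
  intro x
  obtain ⟨t⟩ := x
  show χ (mk t) = evHom T (mk t)
  induction t with
  | of b =>
    have e := RingHom.congr_fun h1 b
    exact e.trans (evHom_of T b).symm
  | add s t ihs iht => rw [mk_add, map_add, map_add, ihs, iht]
  | mul s t ihs iht => rw [mk_mul, map_mul, map_mul, ihs, iht]
  | neg s ih => rw [mk_neg, map_neg, map_neg, ih]
  | dp n s ih =>
    rw [mk_dp]
    by_cases hs : (mk s : D γ J) ∈ JD γ J
    · have h3 := h2.dpow_comp (n := n) _ hs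
      rw [evHom_dpD_of_mem T n hs, ← ih]
      exact h3.symm
    · rw [dpD_of_not_mem n hs, map_zero, map_zero]

variable (γ J) in
theorem main (hIJ : I.map (algebraMap A B) ≤ J) :
    ∃ (D : Type u) (_ : CommRing D) (_ : Algebra B D) (JD : Ideal D) (γD : DividedPowers JD),
      J.map (algebraMap B D) ≤ JD ∧
      γ.IsDPMorphism γD ((algebraMap B D).comp (algebraMap A B)) ∧
      ∀ (C : Type u) [CommRing C] [Algebra A C] (K : Ideal C) (δ : DividedPowers K),
        γ.IsDPMorphism δ (algebraMap A C) →
        ∀ ψ : B →ₐ[A] C, J.map ψ ≤ K →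
          ∃! χ : D →+* C, χ.comp (algebraMap B D) = ψ ∧ γD.IsDPMorphism δ χ := by
  have hA : ∀ a ∈ I, algebraMap B (D γ J) (algebraMap A B a) ∈ JD γ J := fun a ha =>
    of_mem_JD (hIJ (Ideal.mem_map_of_mem _ ha))
  refine ⟨D γ J, instCommRing (γ := γ) (J := J), instAlgebra (γ := γ) (J := J), JD γ J, γD γ J,
    ?_, ⟨?_, ?_⟩, ?_⟩
  · exact Ideal.map_le_iff_le_comap.mpr fun b hb => of_mem_JD hb
  · exact Ideal.map_le_iff_le_comap.mpr fun a ha => hA a ha
  · intro n a ha
    refine ext' fun T => ?_
    rw [RingHom.comp_apply, RingHom.comp_apply, γD_dpow, evHom_dpD_of_mem T n (hA a ha), evHom_of,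
      evHom_of, AlgHom.commutes, AlgHom.commutes]
    exact T.h.dpow_comp a ha
  · intro C _ _ K δ h ψ hψ
    let T₀ : TObj γ J := { C := C, K := K, δ := δ, h := h, ψ := ψ, hψ := hψ }
    refine ⟨evHom T₀, ⟨evHom_comp T₀, isDPMorphism_evHom T₀⟩, ?_⟩
    rintro χ ⟨hχ1, hχ2⟩
    exact unique_hom T₀ χ hχ1 hχ2

end Groth.Agent.Lib.Helper4.DPEnv
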