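import Mathlib
import Groth.Agent.Lib.Helper12.KAFin
import Groth.Agent.Lib.Helper12.KrullAkizuki

/-!
# Degree times order over a one-dimensional Noetherian local domain (helper4)

`A` a Noetherian local domain of dimension one, `B ⊇ A` a domain whose fraction field `L` is finite
over `K = Frac A`, `x ≠ 0` in the maximal ideal of `A`.

* `ka_main`: `ℓ_A(B/xB) ≤ [L:K] · ℓ_A(A/xA)`, with equality iff `B` is a finite `A`-module
  (Krull–Akizuki length inequality).
* `length_eq_sum_localized`: for a `B`-module `N` of finite length,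
  `ℓ_A(N) = Σ_m ℓ_A(B/m) · ℓ_{B_m}(N_m)`.
* `main`: the combination (the "degree × order" formula).
-/

set_option autoImplicit false
set_option linter.style.haveILetI false
set_option linter.unusedSectionVars false
set_option linter.unusedVariables false
set_option linter.deprecated false
set_option maxHeartbeats 800000

universe u

namespace Groth.Agent.Lib.Helper4.DegOrd

open Groth.Agent.Lib.Helper12 Function TensorProduct
open scoped Pointwise

section Basic

variable {A : Type*} [CommRing A] {M : Type*} [AddCommGroup M] [Module A M]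

theorem mem_span_smul_iff (x : A) (N : Submodule A M) (m : M) :
    m ∈ (Ideal.span {x} • N : Submodule A M) ↔ ∃ b ∈ N, x • b = m := by
  rw [Submodule.ideal_span_singleton_smul, Submodule.mem_smul_pointwise_iff_exists]

/-- If `F ⊆ M` has finite colength and `x` is `M`-regular then `ℓ(M/xM) = ℓ(F/xF)`. -/
theorem length_quot_eq_of_sub (x : A) (hx : ∀ m : M, x • m = 0 → m = 0) (F : Submodule A M)
    (hF : Module.length A (M ⧸ F) ≠ ⊤) :
    Module.length A (M ⧸ (Ideal.span {x} • ⊤ : Submodule A M)) =
      Module.length A (F ⧸ (Ideal.span {x} • ⊤ : Submodule A F)) := by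
  have hA : Module.length A (M ⧸ (Ideal.span {x} • F : Submodule A M)) =
      Module.length A (M ⧸ F) +
        Module.length A (M ⧸ (Ideal.span {x} • ⊤ : Submodule A M)) := by
    have h1 : F ≤ (Ideal.span {x} • F : Submodule A M).comap (LinearMap.lsmul A M x) := by
      intro f hf
      rw [Submodule.mem_comap, LinearMap.lsmul_apply]
      exact (mem_span_smul_iff x F _).2 ⟨f, hf, rfl⟩
    have h2 : (Ideal.span {x} • F : Submodule A M) ≤
        (Ideal.span {x} • ⊤ : Submodule A M).comap LinearMap.id := by
      intro m hm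
      rw [Submodule.mem_comap, LinearMap.id_apply]
      obtain ⟨b, -, rfl⟩ := (mem_span_smul_iff x F m).1 hm
      exact (mem_span_smul_iff x ⊤ _).2 ⟨b, Submodule.mem_top, rfl⟩
    refine Module.length_eq_add_of_exact
      (Submodule.mapQ F (Ideal.span {x} • F : Submodule A M) (LinearMap.lsmul A M x) h1)
      (Submodule.mapQ (Ideal.span {x} • F : Submodule A M) (Ideal.span {x} • ⊤ : Submodule A M)
        LinearMap.id h2) ?_ ?_ ?_
    · rw [← LinearMap.ker_eq_bot, LinearMap.ker_eq_bot']
      intro y hy
      obtain ⟨m, rfl⟩ := Submodule.mkQ_surjective F y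
      rw [Submodule.mkQ_apply, Submodule.mapQ_apply, Submodule.Quotient.mk_eq_zero,
        LinearMap.lsmul_apply] at hy
      obtain ⟨b, hb, hbm⟩ := (mem_span_smul_iff x F _).1 hy
      have hbm' : b = m := by
        have := hx (b - m) (by rw [smul_sub, hbm, sub_self])
        exact sub_eq_zero.1 this
      rw [Submodule.mkQ_apply, Submodule.Quotient.mk_eq_zero, ← hbm']
      exact hb
    · intro y
      obtain ⟨m, rfl⟩ := Submodule.mkQ_surjective _ y
      exact ⟨Submodule.mkQ _ m, rfl⟩
    · intro y
      obtain ⟨m, rfl⟩ := Submodule.mkQ_surjective _ y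
      rw [Submodule.mkQ_apply, Submodule.mapQ_apply, Submodule.Quotient.mk_eq_zero,
        LinearMap.id_apply]
      constructor
      · intro h
        obtain ⟨b, -, rfl⟩ := (mem_span_smul_iff x ⊤ m).1 h
        exact ⟨Submodule.Quotient.mk b, by rw [Submodule.mapQ_apply, LinearMap.lsmul_apply]⟩
      · rintro ⟨w, hw⟩
        obtain ⟨b, rfl⟩ := Submodule.mkQ_surjective F w
        rw [Submodule.mkQ_apply, Submodule.mapQ_apply, LinearMap.lsmul_apply,
          Submodule.Quotient.eq] at hw
        obtain ⟨c, -, hc⟩ := (mem_span_smul_iff x F _).1 hw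
        exact (mem_span_smul_iff x ⊤ m).2
          ⟨b - c, Submodule.mem_top, by rw [smul_sub, hc, sub_sub_cancel]⟩
  have hB : Module.length A (M ⧸ (Ideal.span {x} • F : Submodule A M)) =
      Module.length A (F ⧸ (Ideal.span {x} • ⊤ : Submodule A F)) +
        Module.length A (M ⧸ F) := by
    have h3 : (Ideal.span {x} • ⊤ : Submodule A F) ≤
        (Ideal.span {x} • F : Submodule A M).comap F.subtype := by
      intro y hy
      obtain ⟨b, -, rfl⟩ := (mem_span_smul_iff x ⊤ y).1 hy
      rw [Submodule.mem_comap, map_smul]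
      exact (mem_span_smul_iff x F _).2 ⟨b, b.2, rfl⟩
    have h4 : (Ideal.span {x} • F : Submodule A M) ≤ F.comap LinearMap.id := by
      intro m hm
      obtain ⟨b, hb, rfl⟩ := (mem_span_smul_iff x F m).1 hm
      exact F.smul_mem x hb
    refine Module.length_eq_add_of_exact
      (Submodule.mapQ (Ideal.span {x} • ⊤ : Submodule A F) (Ideal.span {x} • F : Submodule A M)
        F.subtype h3)
      (Submodule.mapQ (Ideal.span {x} • F : Submodule A M) F LinearMap.id h4) ?_ ?_ ?_
    · rw [← LinearMap.ker_eq_bot, LinearMap.ker_eq_bot']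
      intro y hy
      obtain ⟨f, rfl⟩ := Submodule.mkQ_surjective _ y
      rw [Submodule.mkQ_apply, Submodule.mapQ_apply, Submodule.Quotient.mk_eq_zero,
        Submodule.subtype_apply] at hy
      obtain ⟨b, hb, hbf⟩ := (mem_span_smul_iff x F _).1 hy
      rw [Submodule.mkQ_apply, Submodule.Quotient.mk_eq_zero]
      exact (mem_span_smul_iff x ⊤ f).2 ⟨⟨b, hb⟩, Submodule.mem_top, Subtype.ext hbf⟩
    · intro y
      obtain ⟨m, rfl⟩ := Submodule.mkQ_surjective _ y
      exact ⟨Submodule.mkQ _ m, rfl⟩
    · intro y
      obtain ⟨m, rfl⟩ := Submodule.mkQ_surjective _ y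
      rw [Submodule.mkQ_apply, Submodule.mapQ_apply, Submodule.Quotient.mk_eq_zero,
        LinearMap.id_apply]
      constructor
      · intro h
        exact ⟨Submodule.Quotient.mk ⟨m, h⟩, by rw [Submodule.mapQ_apply]; rfl⟩
      · rintro ⟨w, hw⟩
        obtain ⟨f, rfl⟩ := Submodule.mkQ_surjective _ w
        rw [Submodule.mkQ_apply, Submodule.mapQ_apply, Submodule.subtype_apply,
          Submodule.Quotient.eq] at hw
        have h5 : (f : M) - m ∈ F := h4 hw
        have h6 : m = (f : M) - ((f : M) - m) := by abel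
        rw [h6]
        exact F.sub_mem f.2 h5
  rw [hA, add_comm (Module.length A (M ⧸ F))] at hB
  exact ENat.add_left_injective_of_ne_top hF hB

theorem length_free_quot (x : A) [Nontrivial (A ⧸ Ideal.span {x})]
    (F : Type*) [AddCommGroup F] [Module A F] [Module.Free A F] [Module.Finite A F] :
    Module.length A (F ⧸ (Ideal.span {x} • ⊤ : Submodule A F)) =
      (Module.finrank A F : ℕ∞) * Module.length A (A ⧸ Ideal.span {x}) := by
  haveI : Nontrivial A := (Ideal.Quotient.mk_surjective (I := Ideal.span {x})).nontrivial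
  rw [← (TensorProduct.quotTensorEquivQuotSMul F (Ideal.span {x})).length_eq,
    Module.length_eq_of_surjective (R := A ⧸ Ideal.span {x}) (S := A)
      (M := (A ⧸ Ideal.span {x}) ⊗[A] F) Ideal.Quotient.mk_surjective,
    Module.length_of_free_of_finite, Module.finrank_baseChange,
    ← Module.length_eq_of_surjective (R := A ⧸ Ideal.span {x}) (S := A)
      (M := A ⧸ Ideal.span {x}) Ideal.Quotient.mk_surjective]

theorem finite_length_of_kill {Q : Type*} [AddCommGroup Q] [Module A Q] [Module.Finite A Q]
    (d : A) (hArt : IsArtinianRing (A ⧸ Ideal.span {d})) (hkill : ∀ q : Q, d • q = 0) :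
    Module.length A Q ≠ ⊤ := by
  have hbot : (Ideal.span {d} • ⊤ : Submodule A Q) = ⊥ := by
    rw [eq_bot_iff]
    intro q hq
    obtain ⟨b, -, rfl⟩ := (mem_span_smul_iff d ⊤ q).1 hq
    rw [hkill b]
    exact Submodule.zero_mem _
  let e1 : ((A ⧸ Ideal.span {d}) ⊗[A] Q) ≃ₗ[A] Q :=
    (TensorProduct.quotTensorEquivQuotSMul Q (Ideal.span {d})).trans
      (Submodule.quotEquivOfEqBot _ hbot)
  rw [← e1.length_eq, Module.length_eq_of_surjective (R := A ⧸ Ideal.span {d}) (S := A)
    (M := (A ⧸ Ideal.span {d}) ⊗[A] Q) Ideal.Quotient.mk_surjective]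
  exact Module.length_ne_top

theorem injective_of_surjective_of_length_eq {P : Type*} [AddCommGroup P] [Module A P]
    (f : M →ₗ[A] P) (hf : Surjective f) (hfin : Module.length A M ≠ ⊤)
    (heq : Module.length A M = Module.length A P) : Injective f := by
  have h := Module.length_eq_add_of_exact (LinearMap.ker f).subtype f
    (Submodule.subtype_injective _) hf (LinearMap.exact_subtype_ker_map f)
  rw [heq] at h hfin
  have h0 : Module.length A (LinearMap.ker f) = 0 := by
    have h' : Module.length A (LinearMap.ker f) + Module.length A P =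
        0 + Module.length A P := by
      rw [zero_add]; exact h.symm
    exact ENat.add_left_injective_of_ne_top hfin h'
  rw [Module.length_eq_zero_iff] at h0
  haveI := h0
  rw [← LinearMap.ker_eq_bot]
  exact Submodule.eq_bot_of_subsingleton

end Basic

section Dim1

variable {A : Type*} [CommRing A] [IsDomain A] [IsNoetherianRing A] [Ring.KrullDimLE 1 A]

theorem artinian_quot (d : A) (hd : d ≠ 0) : IsArtinianRing (A ⧸ Ideal.span {d}) := by
  have h := KA.length_quotient_ne_top (A := A) (I := Ideal.span {d})
    (by rwa [Ne, Ideal.span_singleton_eq_bot])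
  rw [Module.length_ne_top_iff, isFiniteLength_iff_isNoetherian_isArtinian] at h
  exact isArtinian_of_tower A h.2

/-- A finite module over a one-dimensional Noetherian domain on which `x` is regular and which
contains a free submodule of rank `n` with torsion quotient has `ℓ(M/xM) = n ℓ(A/xA)`. -/
theorem length_quot_of_basis {M : Type*} [AddCommGroup M] [Module A M] [Module.Finite A M]
    (x : A) (hxI : Ideal.span {x} ≠ ⊤) (hx : ∀ m : M, x • m = 0 → m = 0)
    (F₀ : Submodule A M) {n : ℕ} (bas : Module.Basis (Fin n) A F₀)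
    (htors : ∀ y : M, ∃ d : A, d ≠ 0 ∧ d • y ∈ F₀) :
    Module.length A (M ⧸ (Ideal.span {x} • ⊤ : Submodule A M)) =
      (n : ℕ∞) * Module.length A (A ⧸ Ideal.span {x}) := by
  classical
  haveI : Nontrivial (A ⧸ Ideal.span {x}) := Ideal.Quotient.nontrivial_iff.2 hxI
  haveI : Module.Free A F₀ := Module.Free.of_basis bas
  haveI : Module.Finite A F₀ := Module.Finite.of_basis bas
  have hrank : Module.finrank A F₀ = n := by
    rw [Module.finrank_eq_card_basis bas, Fintype.card_fin]
  obtain ⟨d, hd0, hdM⟩ : ∃ d : A, d ≠ 0 ∧ ∀ y : M, d • y ∈ F₀ := by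
    obtain ⟨S, hS⟩ := (Module.Finite.fg_top : (⊤ : Submodule A M).FG)
    choose dd hdd0 hdd using htors
    refine ⟨∏ y ∈ S, dd y, Finset.prod_ne_zero_iff.2 (fun y _ => hdd0 y), ?_⟩
    have hsub : (S : Set M) ⊆
        (F₀.comap (LinearMap.lsmul A M (∏ y ∈ S, dd y)) : Submodule A M) := by
      intro z hz
      obtain ⟨c, hc⟩ := Finset.dvd_prod_of_mem dd (Finset.mem_coe.1 hz)
      rw [SetLike.mem_coe, Submodule.mem_comap, LinearMap.lsmul_apply, hc, mul_comm (dd z) c,
        mul_smul]
      exact F₀.smul_mem c (hdd z)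
    have h := Submodule.span_le.2 hsub
    rw [hS] at h
    intro y
    have := h (Submodule.mem_top : y ∈ ⊤)
    rwa [Submodule.mem_comap, LinearMap.lsmul_apply] at this
  have hQ : Module.length A (M ⧸ F₀) ≠ ⊤ := by
    refine finite_length_of_kill d (artinian_quot d hd0) (fun q => ?_)
    obtain ⟨y, rfl⟩ := Submodule.mkQ_surjective F₀ q
    rw [Submodule.mkQ_apply, ← Submodule.Quotient.mk_smul, Submodule.Quotient.mk_eq_zero]
    exact hdM y
  rw [length_quot_eq_of_sub x hx F₀ hQ, length_free_quot x F₀, hrank]

theorem exists_pow_mem_span [IsLocalRing A] (x d : A) (hx : x ∈ IsLocalRing.maximalIdeal A)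
    (hd : d ≠ 0) : ∃ k : ℕ, x ^ k ∈ Ideal.span {d} := by
  have hrad : x ∈ (Ideal.span {d}).radical := by
    rw [Ideal.radical_eq_sInf, Ideal.mem_sInf]
    rintro p ⟨hdp, hp⟩
    have hne : p ≠ ⊥ := by
      intro h
      apply hd
      have hmem : d ∈ p := hdp (Ideal.mem_span_singleton_self d)
      rw [h] at hmem
      exact Ideal.mem_bot.1 hmem
    have hmax := hp.isMaximal_of_ne_bot hne
    rw [IsLocalRing.eq_maximalIdeal hmax]
    exact hx
  exact hrad

end Dim1

section Ext

variable (A B K L : Type*) [CommRing A] [IsDomain A] [CommRing B] [IsDomain B] [Algebra A B]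
  [Field K] [Field L] [Algebra A K] [IsFractionRing A K] [Algebra B L] [IsFractionRing B L]
  [Algebra K L] [Algebra A L] [IsScalarTower A K L] [IsScalarTower A B L] [FiniteDimensional K L]

theorem exists_basis_elements :
    ∃ s : Fin (Module.finrank K L) → B, LinearIndependent A s ∧
      ∀ b : B, ∃ d : A, d ≠ 0 ∧ d • b ∈ Submodule.span A (Set.range s) := by
  classical
  let bas := Module.finBasis K L
  have h1 : ∀ i, ∃ (s : B) (d : A), d ≠ 0 ∧ d • bas i = algebraMap B L s :=
    fun i => KAFin.exists_smul_eq (R := A) (S := B) K L (bas i)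
  choose s d hd hs using h1
  let g : B →ₗ[A] L := (IsScalarTower.toAlgHom A B L).toLinearMap
  have hg : ∀ b, g b = algebraMap B L b := fun b => rfl
  have hginj : Injective g := IsFractionRing.injective B L
  have hdK : ∀ i, algebraMap A K (d i) ≠ 0 := fun i => by
    rw [Ne, map_eq_zero_iff _ (IsFractionRing.injective A K)]; exact hd i
  have hw0 : ∀ i, ∃ u : Kˣ, (u : K) = algebraMap A K (d i) :=
    fun i => ⟨Units.mk0 _ (hdK i), rfl⟩
  choose w hw using hw0
  have hv : LinearIndependent K (fun i => g (s i)) := by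
    have h2 := bas.linearIndependent.units_smul w
    have h3 : (w • ⇑bas) = fun i => g (s i) := by
      funext i
      exact (by rw [Pi.smul_apply', Units.smul_def, hw i, algebraMap_smul, hs i] :
        (w • ⇑bas) i = algebraMap B L (s i)).trans (hg (s i)).symm
    rwa [h3] at h2
  have hspan : Submodule.span K (Set.range fun i => g (s i)) = ⊤ :=
    hv.span_eq_top_of_card_eq_finrank' (by rw [Fintype.card_fin])
  refine ⟨s, ?_, ?_⟩
  · have hA : LinearIndependent A (fun i => g (s i)) :=
      LinearIndependent.restrict_scalars' (R := A) hv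
    exact LinearIndependent.of_comp g hA
  · intro b
    have hb : g b ∈ Submodule.span K (Set.range fun i => g (s i)) := by
      rw [hspan]; exact Submodule.mem_top
    obtain ⟨c, hc⟩ := (Submodule.mem_span_range_iff_exists_fun K).1 hb
    obtain ⟨e, he⟩ := IsLocalization.exist_integer_multiples (nonZeroDivisors A) Finset.univ c
    have he' : ∀ i, ∃ a : A, algebraMap A K a = (e : A) • c i :=
      fun i => he i (Finset.mem_univ i)
    choose a ha using he'
    refine ⟨e, nonZeroDivisors.coe_ne_zero e, ?_⟩
    have key : g ((e : A) • b) = g (∑ i, a i • s i) := by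
      rw [map_smul, map_sum, ← hc, Finset.smul_sum]
      refine Finset.sum_congr rfl fun i _ => ?_
      rw [map_smul, ← algebraMap_smul K (a i) (g (s i)), ha i, smul_assoc]
    rw [hginj key]
    exact Submodule.sum_mem _ fun i _ =>
      Submodule.smul_mem _ _ (Submodule.subset_span (Set.mem_range_self i))

end Ext

section KAMain

variable (A B K L : Type u) [CommRing A] [IsDomain A] [IsNoetherianRing A] [IsLocalRing A]
  [Ring.KrullDimLE 1 A] [CommRing B] [IsDomain B] [Algebra A B]
  [Field K] [Field L] [Algebra A K] [IsFractionRing A K] [Algebra B L] [IsFractionRing B L]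
  [Algebra K L] [Algebra A L] [IsScalarTower A K L] [IsScalarTower A B L] [FiniteDimensional K L]

/-- Krull–Akizuki length inequality with its equality case. -/
theorem ka_main (x : A) (hx : x ∈ IsLocalRing.maximalIdeal A) (hx0 : x ≠ 0) :
    Module.length A (B ⧸ Ideal.span ({algebraMap A B x} : Set B)) ≤
        (Module.finrank K L : ℕ∞) * Module.length A (A ⧸ Ideal.span ({x} : Set A)) ∧
      (Module.length A (B ⧸ Ideal.span ({algebraMap A B x} : Set B)) =
        (Module.finrank K L : ℕ∞) * Module.length A (A ⧸ Ideal.span ({x} : Set A)) ↔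
        Module.Finite A B) := by
  classical
  have hinj : Injective (algebraMap A B) := KAFin.algebraMap_injective (R := A) (S := B) K L
  have hxB : algebraMap A B x ≠ 0 := by rwa [Ne, map_eq_zero_iff _ hinj]
  have hreg : ∀ b : B, x • b = 0 → b = 0 := by
    intro b hb
    rw [Algebra.smul_def] at hb
    exact (mul_eq_zero.1 hb).resolve_left hxB
  have hxI : Ideal.span {x} ≠ ⊤ := by
    intro h
    exact (IsLocalRing.mem_maximalIdeal x).1 hx (Ideal.span_singleton_eq_top.1 h)
  have heq : (Ideal.span {x} • ⊤ : Submodule A B) =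
      (Ideal.span ({algebraMap A B x} : Set B)).restrictScalars A := by
    ext b
    rw [mem_span_smul_iff, Submodule.restrictScalars_mem, Ideal.mem_span_singleton']
    constructor
    · rintro ⟨c, -, rfl⟩
      exact ⟨c, by rw [Algebra.smul_def, mul_comm]⟩
    · rintro ⟨c, rfl⟩
      exact ⟨c, Submodule.mem_top, by rw [Algebra.smul_def, mul_comm]⟩
  let e₁ : (B ⧸ (Ideal.span {x} • ⊤ : Submodule A B)) ≃ₗ[A]
      (B ⧸ Ideal.span ({algebraMap A B x} : Set B)) :=
    (Submodule.quotEquivOfEq _ _ heq).trans (Submodule.Quotient.restrictScalarsEquiv A _)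
  rw [← e₁.length_eq]
  have hN₀fin : (Module.finrank K L : ℕ∞) * Module.length A (A ⧸ Ideal.span ({x} : Set A)) ≠ ⊤ := by
    have := KA.length_quotient_ne_top (A := A) (I := Ideal.span {x})
      (by rwa [Ne, Ideal.span_singleton_eq_bot])
    exact WithTop.mul_ne_top (ENat.coe_ne_top _) this
  obtain ⟨s, hs, htors⟩ := exists_basis_elements A B K L
  -- the finite case
  have hb : Module.Finite A B → Module.length A (B ⧸ (Ideal.span {x} • ⊤ : Submodule A B)) =
      (Module.finrank K L : ℕ∞) * Module.length A (A ⧸ Ideal.span ({x} : Set A)) := by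
    intro hfin
    haveI := hfin
    exact length_quot_of_basis x hxI hreg (Submodule.span A (Set.range s))
      (Module.Basis.span hs) htors
  -- the general case: a finite submodule `M₀` with `M₀ + xB = B`
  haveI hPfin : Module.Finite A (B ⧸ (Ideal.span {x} • ⊤ : Submodule A B)) := by
    haveI := KAFin.quotient_finite (R := A) (S := B) K L
      (Ideal.span ({algebraMap A B x} : Set B))
      (by rwa [Ne, Ideal.span_singleton_eq_bot])
    exact Module.Finite.equiv e₁.symm
  obtain ⟨S, hS⟩ := (Module.Finite.fg_top :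
    (⊤ : Submodule A (B ⧸ (Ideal.span {x} • ⊤ : Submodule A B))).FG)
  choose lift hlift using fun p : B ⧸ (Ideal.span {x} • ⊤ : Submodule A B) =>
    Submodule.mkQ_surjective _ p
  let M₁ : Submodule A B := Submodule.span A (lift '' (S : Set _))
  let M₀ : Submodule A B := Submodule.span A (Set.range s) ⊔ M₁
  have hM₀fg : M₀.FG :=
    (Submodule.fg_span (Set.finite_range s)).sup (Submodule.fg_span (S.finite_toSet.image lift))
  haveI : Module.Finite A M₀ := Module.Finite.iff_fg.2 hM₀fg
  have hsM₀ : ∀ i, s i ∈ M₀ := fun i =>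
    (le_sup_left : _ ≤ M₀) (Submodule.subset_span (Set.mem_range_self i))
  have hM₁top : M₁.map (Submodule.mkQ (Ideal.span {x} • ⊤ : Submodule A B)) = ⊤ := by
    rw [Submodule.map_span, ← Set.image_comp]
    have hcomp : (⇑(Submodule.mkQ (Ideal.span {x} • ⊤ : Submodule A B)) ∘ lift) = id :=
      funext hlift
    rw [hcomp, Set.image_id, hS]
  let v : Fin (Module.finrank K L) → M₀ := fun i => ⟨s i, hsM₀ i⟩
  have hcompv : (⇑M₀.subtype ∘ v) = s := rfl
  have hv : LinearIndependent A v := LinearIndependent.of_comp M₀.subtype (by rw [hcompv]; exact hs)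
  have hmapv : (Submodule.span A (Set.range v)).map M₀.subtype =
      Submodule.span A (Set.range s) := by
    rw [Submodule.map_span, ← Set.range_comp, hcompv]
  have htors₀ : ∀ y : M₀, ∃ d : A, d ≠ 0 ∧ d • y ∈ Submodule.span A (Set.range v) := by
    intro y
    obtain ⟨d, hd, hdy⟩ := htors (y : B)
    refine ⟨d, hd, ?_⟩
    rw [← hmapv] at hdy
    obtain ⟨z, hz, hzy⟩ := hdy
    have hzy' : z = d • y := Subtype.ext hzy
    rwa [← hzy']
  have hreg₀ : ∀ y : M₀, x • y = 0 → y = 0 := by
    intro y hy
    apply Subtype.ext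
    exact hreg y (congrArg Subtype.val hy)
  have hlen₀ : Module.length A (M₀ ⧸ (Ideal.span {x} • ⊤ : Submodule A M₀)) =
      (Module.finrank K L : ℕ∞) * Module.length A (A ⧸ Ideal.span ({x} : Set A)) :=
    length_quot_of_basis x hxI hreg₀ (Submodule.span A (Set.range v))
      (Module.Basis.span hv) htors₀
  have h5 : (Ideal.span {x} • ⊤ : Submodule A M₀) ≤
      (Ideal.span {x} • ⊤ : Submodule A B).comap M₀.subtype := by
    intro y hy
    obtain ⟨b, -, rfl⟩ := (mem_span_smul_iff x ⊤ y).1 hy
    rw [Submodule.mem_comap, map_smul]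
    exact (mem_span_smul_iff x ⊤ _).2 ⟨_, Submodule.mem_top, rfl⟩
  let θ := Submodule.mapQ (Ideal.span {x} • ⊤ : Submodule A M₀)
    (Ideal.span {x} • ⊤ : Submodule A B) M₀.subtype h5
  have hθsurj : Surjective θ := by
    intro p
    obtain ⟨b, rfl⟩ := Submodule.mkQ_surjective _ p
    have hbm : Submodule.mkQ _ b ∈
        M₁.map (Submodule.mkQ (Ideal.span {x} • ⊤ : Submodule A B)) := by
      rw [hM₁top]; exact Submodule.mem_top
    obtain ⟨m₁, hm₁, hm₁b⟩ := hbm
    refine ⟨Submodule.Quotient.mk ⟨m₁, (le_sup_right : M₁ ≤ M₀) hm₁⟩, ?_⟩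
    rw [← hm₁b]
    rfl
  have ha : Module.length A (B ⧸ (Ideal.span {x} • ⊤ : Submodule A B)) ≤
      (Module.finrank K L : ℕ∞) * Module.length A (A ⧸ Ideal.span ({x} : Set A)) := by
    rw [← hlen₀]
    exact Module.length_le_of_surjective θ hθsurj
  refine ⟨ha, ⟨fun hTN => ?_, hb⟩⟩
  have hθinj : Injective θ :=
    injective_of_surjective_of_length_eq θ hθsurj (by rw [hlen₀]; exact hN₀fin)
      (by rw [hlen₀, hTN])
  have hstar : ∀ b : B, x • b ∈ M₀ → b ∈ M₀ := by
    intro b hb'
    have h0 : θ (Submodule.Quotient.mk ⟨x • b, hb'⟩) = 0 := by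
      show (Submodule.Quotient.mk (x • b) : B ⧸ (Ideal.span {x} • ⊤ : Submodule A B)) = 0
      rw [Submodule.Quotient.mk_eq_zero]
      exact (mem_span_smul_iff x ⊤ _).2 ⟨b, Submodule.mem_top, rfl⟩
    have h1 : (Submodule.Quotient.mk ⟨x • b, hb'⟩ :
        M₀ ⧸ (Ideal.span {x} • ⊤ : Submodule A M₀)) = 0 := hθinj (by rw [h0, map_zero])
    rw [Submodule.Quotient.mk_eq_zero] at h1
    obtain ⟨z, -, hz⟩ := (mem_span_smul_iff x ⊤ _).1 h1
    have hzb : (z : B) = b := by
      have h2 : x • ((z : B) - b) = 0 := by
        rw [smul_sub, sub_eq_zero]; exact congrArg Subtype.val hz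
      exact sub_eq_zero.1 (hreg _ h2)
    rw [← hzb]; exact z.2
  have hpow : ∀ k : ℕ, ∀ b : B, x ^ k • b ∈ M₀ → b ∈ M₀ := by
    intro k
    induction k with
    | zero => intro b hb'; rwa [pow_zero, one_smul] at hb'
    | succ k ih => intro b hb'; rw [pow_succ, mul_smul] at hb'; exact hstar b (ih _ hb')
  have htop : M₀ = ⊤ := by
    rw [eq_top_iff]
    intro b _
    obtain ⟨d, hd, hdb⟩ := htors b
    obtain ⟨k, hk⟩ := exists_pow_mem_span x d hx hd
    obtain ⟨a, ha'⟩ := Ideal.mem_span_singleton'.1 hk
    apply hpow k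
    rw [← ha', mul_smul]
    exact M₀.smul_mem a ((le_sup_left : _ ≤ M₀) hdb)
  rw [Module.finite_def, ← htop]
  exact hM₀fg

include A K L in
theorem finite_maxSpec : Finite (MaximalSpectrum B) := by
  have hfin : (Set.range (MaximalSpectrum.toPrimeSpectrum (R := B))).Finite := by
    refine ((KAFin.finite_fibre (R := A) (S := B) K L ⟨⊥, Ideal.isPrime_bot⟩).union
      (KAFin.finite_fibre (R := A) (S := B) K L (IsLocalRing.closedPoint A))).subset ?_
    rintro _ ⟨m, rfl⟩
    by_cases h : m.asIdeal.comap (algebraMap A B) = ⊥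
    · left
      exact PrimeSpectrum.ext h
    · right
      haveI : m.asIdeal.IsPrime := m.isMaximal.isPrime
      have hp : (m.asIdeal.comap (algebraMap A B)).IsPrime := inferInstance
      have hmax := hp.isMaximal_of_ne_bot h
      exact PrimeSpectrum.ext (IsLocalRing.eq_maximalIdeal hmax)
  haveI := hfin.to_subtype
  exact Finite.of_injective_finite_range MaximalSpectrum.toPrimeSpectrum_injective

end KAMain

section Loc

/-- The localisation of a cyclic module `B/I` has the length of `B_S / I B_S`. -/
theorem length_localized_quot {B : Type u} [CommRing B] (S : Submonoid B) (Q : Type u)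
    [AddCommGroup Q] [Module B Q] (I : Ideal B) (e : Q ≃ₗ[B] B ⧸ I) :
    Module.length (Localization S) (LocalizedModule S Q) =
      Module.length (Localization S)
        (Localization S ⧸ I.map (algebraMap B (Localization S))) := by
  let f := Submodule.toLocalizedQuotient' (Localization S) S
    (Algebra.linearMap B (Localization S)) I
  have hloc : IsLocalizedModule S (f ∘ₗ (e : Q →ₗ[B] B ⧸ I)) :=
    IsLocalizedModule.of_linearEquiv_right S f e
  let i := IsLocalizedModule.iso S (f ∘ₗ (e : Q →ₗ[B] B ⧸ I))
  let i' := LinearEquiv.extendScalarsOfIsLocalization S (Localization S) i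
  rw [i'.length_eq, Ideal.localized'_eq_map]

/-- The length of the localisation of `N` at a maximal ideal. -/
noncomputable def locLen (B : Type u) [CommRing B] (N : Type u) [AddCommGroup N] [Module B N]
    (m : MaximalSpectrum B) : ℕ∞ :=
  Module.length (Localization.AtPrime m.asIdeal) (LocalizedModule m.asIdeal.primeCompl N)

theorem length_eq_sum_localized (A B : Type u) [CommRing A] [CommRing B] [Algebra A B]
    [Fintype (MaximalSpectrum B)] (N : Type u) [AddCommGroup N] [Module B N]
    (h : IsFiniteLength B N) :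
    ∀ [Module A N] [IsScalarTower A B N],
      Module.length A N =
        ∑ m : MaximalSpectrum B, Module.length A (B ⧸ m.asIdeal) * locLen B N m := by
  induction h with
  | @of_subsingleton M₀ _ _ _ =>
    intro _ _
    rw [Module.length_eq_zero]
    symm
    apply Finset.sum_eq_zero
    intro m _
    rw [locLen, Module.length_eq_zero (R := Localization.AtPrime m.asIdeal)
      (M := LocalizedModule m.asIdeal.primeCompl M₀), mul_zero]
  | @of_simple_quotient M _ _ N' hs hN' ih =>
    intro _ _
    have h1 : Module.length A M = Module.length A N' + Module.length A (M ⧸ N') :=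
      Module.length_eq_add_of_exact (N'.subtype.restrictScalars A) (N'.mkQ.restrictScalars A)
        N'.subtype_injective N'.mkQ_surjective (LinearMap.exact_subtype_mkQ N')
    have h2 : ∀ m : MaximalSpectrum B,
        locLen B M m = locLen B N' m + locLen B (M ⧸ N') m := by
      intro m
      exact Module.length_eq_add_of_exact
        (LocalizedModule.map m.asIdeal.primeCompl N'.subtype)
        (LocalizedModule.map m.asIdeal.primeCompl N'.mkQ)
        (LocalizedModule.map_injective _ _ N'.subtype_injective)
        (LocalizedModule.map_surjective _ _ N'.mkQ_surjective)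
        (LocalizedModule.map_exact _ _ _ (LinearMap.exact_subtype_mkQ N'))
    obtain ⟨m₀, hm₀, ⟨e⟩⟩ := isSimpleModule_iff_quot_maximal.mp hs
    have h3 : Module.length A (M ⧸ N') = Module.length A (B ⧸ m₀) :=
      (e.restrictScalars A).length_eq
    have h4 : ∀ m : MaximalSpectrum B,
        locLen B (M ⧸ N') m = if m.asIdeal = m₀ then 1 else 0 := by
      intro m
      rw [locLen, length_localized_quot m.asIdeal.primeCompl (M ⧸ N') m₀ e]
      split_ifs with hm
      · rw [Module.length_eq_one_iff]
        refine isSimpleModule_iff_quot_maximal.2 ⟨_, ?_, ⟨LinearEquiv.refl _ _⟩⟩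
        rw [← hm, Localization.AtPrime.map_eq_maximalIdeal]
        exact IsLocalRing.maximalIdeal.isMaximal _
      · rw [Module.length_eq_zero_iff, Ideal.Quotient.subsingleton_iff]
        obtain ⟨s, hs₀, hsm⟩ : ∃ s ∈ m₀, s ∉ m.asIdeal := by
          by_contra hcon
          push Not at hcon
          exact hm (hm₀.eq_of_le m.isMaximal.ne_top hcon).symm
        exact Ideal.eq_top_of_isUnit_mem _ (Ideal.mem_map_of_mem _ hs₀)
          (IsLocalization.map_units (Localization.AtPrime m.asIdeal)
            (⟨s, hsm⟩ : m.asIdeal.primeCompl))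
    have ih' := ih
    have hsplit : ∀ m : MaximalSpectrum B,
        Module.length A (B ⧸ m.asIdeal) * locLen B M m =
          Module.length A (B ⧸ m.asIdeal) * locLen B N' m +
            Module.length A (B ⧸ m.asIdeal) * (if m.asIdeal = m₀ then 1 else 0) := by
      intro m
      rw [h2 m, h4 m, mul_add]
    rw [h1, ih', h3, Finset.sum_congr rfl (fun m _ => hsplit m), Finset.sum_add_distrib]
    congr 1
    rw [Finset.sum_eq_single (⟨m₀, hm₀⟩ : MaximalSpectrum B)]
    · rw [if_pos rfl, mul_one]
    · intro m _ hne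
      rw [if_neg (fun h => hne (MaximalSpectrum.ext h)), mul_zero]
    · intro h
      exact absurd (Finset.mem_univ _) h

end Loc

section Main

theorem main (A B K L : Type u)
    [CommRing A] [IsDomain A] [IsNoetherianRing A] [IsLocalRing A] (hdim : ringKrullDim A = 1)
    [CommRing B] [IsDomain B] [Algebra A B] [FaithfulSMul A B] [Algebra.FiniteType A B]
    [Field K] [Field L] [Algebra A K] [IsFractionRing A K] [Algebra B L] [IsFractionRing B L]
    [Algebra K L] [Algebra A L] [IsScalarTower A K L] [IsScalarTower A B L] [FiniteDimensional K L]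
    (x : A) (hx : x ∈ IsLocalRing.maximalIdeal A) (hx0 : x ≠ 0) :
    Finite (MaximalSpectrum B) ∧
      (∑ᶠ m : MaximalSpectrum B,
          Module.length A (B ⧸ m.asIdeal) *
            Module.length (Localization.AtPrime m.asIdeal)
              (Localization.AtPrime m.asIdeal ⧸
                Ideal.span ({algebraMap A (Localization.AtPrime m.asIdeal) x} : Set _)) ≤
        (Module.finrank K L : ℕ∞) * Module.length A (A ⧸ Ideal.span ({x} : Set A))) ∧
      ((∑ᶠ m : MaximalSpectrum B,
          Module.length A (B ⧸ m.asIdeal) *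
            Module.length (Localization.AtPrime m.asIdeal)
              (Localization.AtPrime m.asIdeal ⧸
                Ideal.span ({algebraMap A (Localization.AtPrime m.asIdeal) x} : Set _)) =
        (Module.finrank K L : ℕ∞) * Module.length A (A ⧸ Ideal.span ({x} : Set A))) ↔
          Module.Finite A B) := by
  haveI : Ring.KrullDimLE 1 A := Ring.krullDimLE_iff.2 hdim.le
  have hinj := KAFin.algebraMap_injective (R := A) (S := B) K L
  have hxB0 : Ideal.span ({algebraMap A B x} : Set B) ≠ ⊥ := by
    rw [Ne, Ideal.span_singleton_eq_bot, map_eq_zero_iff _ hinj]; exact hx0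
  haveI hfinMax : Finite (MaximalSpectrum B) := finite_maxSpec A B K L
  haveI : Fintype (MaximalSpectrum B) := Fintype.ofFinite _
  have hFL : IsFiniteLength B (B ⧸ Ideal.span ({algebraMap A B x} : Set B)) := by
    haveI := KAFin.quotient_isArtinianRing (R := A) (S := B) K L _ hxB0
    rw [← Module.length_ne_top_iff, Module.length_eq_of_surjective
      (R := B ⧸ Ideal.span ({algebraMap A B x} : Set B)) (S := B)
      (M := B ⧸ Ideal.span ({algebraMap A B x} : Set B)) Ideal.Quotient.mk_surjective]
    exact Module.length_ne_top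
  have hsum : (∑ᶠ m : MaximalSpectrum B,
      Module.length A (B ⧸ m.asIdeal) *
        Module.length (Localization.AtPrime m.asIdeal)
          (Localization.AtPrime m.asIdeal ⧸
            Ideal.span ({algebraMap A (Localization.AtPrime m.asIdeal) x} : Set _))) =
      Module.length A (B ⧸ Ideal.span ({algebraMap A B x} : Set B)) := by
    rw [finsum_eq_sum_of_fintype, length_eq_sum_localized A B _ hFL]
    refine Finset.sum_congr rfl fun m _ => ?_
    congr 1
    symm
    rw [locLen, length_localized_quot m.asIdeal.primeCompl _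
      (Ideal.span ({algebraMap A B x} : Set B)) (LinearEquiv.refl B _), Ideal.map_span,
      Set.image_singleton, ← IsScalarTower.algebraMap_apply]
  obtain ⟨h1, h2⟩ := ka_main A B K L x hx hx0
  refine ⟨hfinMax, ?_, ?_⟩
  · rw [hsum]; exact h1
  · rw [hsum]; exact h2

end Main

end Groth.Agent.Lib.Helper4.DegOrd
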