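import Mathlib
import Groth.Prelude.Def_ArtFun2
import Groth.Agent.Lib.Helper19.ArtFunTangent
import Groth.Agent.Lib.Helper19.ArtFunDouble

/-!
# The double of a semismall extension is `B ×_k k[kʳ]` (X1 for helper18, S12276)
-/

set_option autoImplicit false
set_option linter.style.haveILetI false
universe u

open CategoryTheory
open ArtFun ArtFun.Art Groth.Agent.Lib.Helper19.ArtFunTangent
open Groth.Agent.Lib.Helper19.ArtFunBasic Groth.Agent.Lib.Helper19.ArtFunLength

namespace Groth.Agent.Lib.Helper4.DeltaSemismall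

/-- X1: for a semismall extension `μ : B → A` the double `G = B ×_A B` is also `B ×_k k[kʳ]`,
`r = dim_k ker μ`. -/
theorem exists_delta_semismall {k : Type u} [Field k] {B A G : Art k k} (μ : B ⟶ A)
    (hμ : IsSemismallExt μ) (π₁ π₂ : G ⟶ B) (hG : IsFibreProd π₁ π₂ μ μ) :
    ∃ (r : ℕ) (δ : G ⟶ tsz k k (Fin r → k)),
      IsFibreProd π₁ δ (toBase B) (toBase (tsz k k (Fin r → k))) ∧
      Nonempty (↥(RingHom.ker μ.toAlgHom) ≃ₗ[k] (Fin r → k)) := by
  classical
  obtain ⟨hsurj, hkill⟩ := hμ
  haveI : Module.Finite k B := finite_art B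
  let ι : ↥(RingHom.ker μ.toAlgHom) →ₗ[k] B :=
    (Submodule.subtype (RingHom.ker μ.toAlgHom)).restrictScalars k
  haveI : Module.Finite k ↥(RingHom.ker μ.toAlgHom) :=
    Module.Finite.of_injective ι Subtype.val_injective
  let e : ↥(RingHom.ker μ.toAlgHom) ≃ₗ[k]
      (Fin (Module.finrank k ↥(RingHom.ker μ.toAlgHom)) → k) :=
    (Module.finBasis k ↥(RingHom.ker μ.toAlgHom)).equivFun
  -- multiplication on the kernel factors through the residue field
  have hkey : ∀ (b : B) (j : B), j ∈ RingHom.ker μ.toAlgHom → b * j = (B.res b) • j := by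
    intro b j hj
    have h1 : b - algebraMap k B (B.res b) ∈ IsLocalRing.maximalIdeal B := by
      rw [mem_maximalIdeal_iff, map_sub, B.res.commutes, sub_eq_zero]
      rfl
    have h2 : (b - algebraMap k B (B.res b)) * j ∈
        IsLocalRing.maximalIdeal B * RingHom.ker μ.toAlgHom := Ideal.mul_mem_mul h1 hj
    rw [hkill, Ideal.mem_bot, sub_mul, sub_eq_zero] at h2
    rw [h2, Algebra.smul_def]
  have hJm : ∀ j ∈ RingHom.ker μ.toAlgHom, j ∈ IsLocalRing.maximalIdeal B :=
    fun j hj => ker_le_maximalIdeal μ hj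
  have hJJ : ∀ j j' : B, j ∈ RingHom.ker μ.toAlgHom → j' ∈ RingHom.ker μ.toAlgHom →
      j * j' = 0 := by
    intro j j' hj hj'
    have : j * j' ∈ IsLocalRing.maximalIdeal B * RingHom.ker μ.toAlgHom :=
      Ideal.mul_mem_mul (hJm j hj) hj'
    rw [hkill] at this
    exact this
  have hmem : ∀ g : G, π₂ g - π₁ g ∈ RingHom.ker μ.toAlgHom := by
    intro g
    rw [RingHom.mem_ker, map_sub, sub_eq_zero]
    exact (hG.w_apply g).symm
  let dd : G → ↥(RingHom.ker μ.toAlgHom) := fun g => ⟨π₂ g - π₁ g, hmem g⟩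
  have hdd : ∀ g, (dd g : B) = π₂ g - π₁ g := fun g => rfl
  have dd_one : dd 1 = 0 := Subtype.ext (by rw [hdd, map_one, map_one, sub_self]; rfl)
  have dd_zero : dd 0 = 0 := Subtype.ext (by rw [hdd, map_zero, map_zero, sub_self]; rfl)
  have dd_add : ∀ g g', dd (g + g') = dd g + dd g' := fun g g' => Subtype.ext (by
    rw [Submodule.coe_add, hdd, hdd, hdd, map_add, map_add]; ring)
  have dd_mul : ∀ g g', dd (g * g') = G.res g • dd g' + G.res g' • dd g := fun g g' =>
    Subtype.ext (by
      rw [Submodule.coe_add, Submodule.coe_smul_of_tower, Submodule.coe_smul_of_tower,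
        hdd, hdd, hdd, map_mul, map_mul, ← res_app π₁ g, ← res_app π₁ g',
        ← hkey (π₁ g) _ (hmem g'), ← hkey (π₁ g') _ (hmem g)]
      have := hJJ _ _ (hmem g) (hmem g')
      linear_combination this)
  have dd_alg : ∀ l : k, dd (algebraMap k G l) = 0 := fun l => Subtype.ext (by
    have e1 : π₂ (algebraMap k G l) = algebraMap k B l := π₂.toAlgHom.commutes l
    have e2 : π₁ (algebraMap k G l) = algebraMap k B l := π₁.toAlgHom.commutes l
    rw [hdd, e1, e2, sub_self]; rfl)
  let δ₀ : G →ₐ[k] TrivSqZeroExt k (Fin (Module.finrank k ↥(RingHom.ker μ.toAlgHom)) → k) :=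
    { toFun := fun g => (G.res g, e (dd g))
      map_one' := by
        refine TrivSqZeroExt.ext (map_one G.res) ?_
        change e (dd 1) = 0
        rw [dd_one, map_zero]
      map_mul' := by
        intro g g'
        refine TrivSqZeroExt.ext (map_mul G.res g g') ?_
        change e (dd (g * g')) = G.res g • e (dd g') + MulOpposite.op (G.res g') • e (dd g)
        rw [dd_mul, map_add, map_smul, map_smul, op_smul_eq_smul]
      map_zero' := by
        refine TrivSqZeroExt.ext (map_zero G.res) ?_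
        change e (dd 0) = 0
        rw [dd_zero, map_zero]
      map_add' := by
        intro g g'
        refine TrivSqZeroExt.ext (map_add G.res g g') ?_
        change e (dd (g + g')) = e (dd g) + e (dd g')
        rw [dd_add, map_add]
      commutes' := by
        intro l
        refine TrivSqZeroExt.ext (G.res.commutes l) ?_
        change e (dd (algebraMap k G l)) = 0
        rw [dd_alg, map_zero] }
  let δ : G ⟶ tsz k k (Fin (Module.finrank k ↥(RingHom.ker μ.toAlgHom)) → k) :=
    ⟨δ₀, AlgHom.ext fun g => rfl⟩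
  have hδ : ∀ g, δ g = (G.res g, e (dd g)) := fun g => rfl
  refine ⟨Module.finrank k ↥(RingHom.ker μ.toAlgHom), δ, ⟨?_, ?_, ?_⟩, ⟨e⟩⟩
  · rw [eq_toBase (π₁ ≫ toBase B), eq_toBase (δ ≫ toBase _)]
  · intro g₁ g₂ h1 h2
    apply hG.inj g₁ g₂ h1
    have hcc : e (dd g₁) = e (dd g₂) := congrArg TrivSqZeroExt.snd h2
    have h3 : (dd g₁ : B) = dd g₂ := congrArg Subtype.val (e.injective hcc)
    rw [hdd, hdd, h1] at h3
    exact sub_left_injective h3
  · intro b d hbd
    have hbd' : B.res b = d.fst := hbd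
    have hj : ((e.symm d.snd : ↥(RingHom.ker μ.toAlgHom)) : B) ∈ RingHom.ker μ.toAlgHom :=
      (e.symm d.snd).2
    have hμeq : μ b = μ (b + (e.symm d.snd : ↥(RingHom.ker μ.toAlgHom))) := by
      rw [map_add]
      have : μ ((e.symm d.snd : ↥(RingHom.ker μ.toAlgHom)) : B) = 0 := hj
      rw [this, add_zero]
    obtain ⟨g, hg1, hg2⟩ := hG.surj b _ hμeq
    refine ⟨g, hg1, ?_⟩
    have h1 : dd g = e.symm d.snd := Subtype.ext (by rw [hdd, hg1, hg2]; ring)
    rw [hδ, h1, LinearEquiv.apply_symm_apply]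
    refine TrivSqZeroExt.ext ?_ rfl
    change G.res g = d.fst
    rw [← res_app π₁ g, hg1, hbd']

end Groth.Agent.Lib.Helper4.DeltaSemismall
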