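import Mathlib
import Groth.Prelude.Def_Found
import Groth.Agent.Lib.Helper12.DimIneqH
import Groth.Agent.Lib.Helper14.Catenary

set_option autoImplicit false
set_option linter.style.haveILetI false
set_option linter.unusedSectionVars false
set_option linter.unusedVariables false
set_option linter.unusedSimpArgs false
set_option maxHeartbeats 1600000
set_option maxSynthPendingDepth 3

universe u

namespace Groth.Agent.Lib.Helper4.DimFormulaTower

open Polynomial Groth.Agent.Lib.Helper12.DimIneq Groth.Agent.Lib.Helper14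

/-- Catenarity passes to the localization at a smaller prime. -/
theorem isCatenary_atPrime_of_le {B : Type u} [CommRing B] (m q : Ideal B) [m.IsPrime] [q.IsPrime]
    (hqm : q ≤ m) (h : CAlg.IsCatenary (Localization.AtPrime m)) :
    CAlg.IsCatenary (Localization.AtPrime q) := by
  let B' := Localization.AtPrime m
  have hdisj : Disjoint (m.primeCompl : Set B) (q : Set B) :=
    Set.disjoint_left.mpr fun a ha haq => ha (hqm haq)
  let q' : Ideal B' := q.map (algebraMap B B')
  haveI hq' : q'.IsPrime :=
    IsLocalization.isPrime_of_isPrime_disjoint m.primeCompl B' q inferInstance hdisj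
  have hcomap : q'.comap (algebraMap B B') = q :=
    IsLocalization.under_map_of_isPrime_disjoint m.primeCompl B' inferInstance hdisj
  have hloc : IsLocalization.AtPrime (Localization.AtPrime q') (q'.comap (algebraMap B B')) :=
    IsLocalization.isLocalization_isLocalization_atPrime_isLocalization m.primeCompl
      (Localization.AtPrime q') q'
  have hcat' : CAlg.IsCatenary (Localization.AtPrime q') :=
    isCatenary_of_isLocalization q'.primeCompl (Localization.AtPrime q') h
  haveI hloc' : IsLocalization.AtPrime (Localization.AtPrime q') q := by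
    convert hloc <;> exact hcomap.symm
  let e : Localization.AtPrime q ≃ₐ[B] Localization.AtPrime q' :=
    IsLocalization.algEquiv q.primeCompl _ _
  exact isCatenary_of_surjective e.symm.toRingEquiv.toRingHom e.symm.surjective hcat'

/-- Catenarity of localizations at primes transports along ring isomorphisms. -/
theorem isCatenary_atPrime_of_ringEquiv {C D : Type u} [CommRing C] [CommRing D] (e : C ≃+* D)
    (Q : Ideal C) [Q.IsPrime] (Q' : Ideal D) [Q'.IsPrime] (hQ : Q' = Q.comap e.symm.toRingHom)
    (h : CAlg.IsCatenary (Localization.AtPrime Q')) : CAlg.IsCatenary (Localization.AtPrime Q) := by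
  have H : Q.primeCompl.map e.toMonoidHom = Q'.primeCompl := by
    ext y
    constructor
    · rintro ⟨x, hx, rfl⟩
      change ¬ (e x ∈ Q')
      intro hy
      apply hx
      rw [hQ, Ideal.mem_comap] at hy
      have : e.symm (e x) ∈ Q := hy
      simpa using this
    · intro hy
      refine ⟨e.symm y, ?_, by simp⟩
      change ¬ (e.symm y ∈ Q)
      intro hx
      apply hy
      change y ∈ Q'
      rw [hQ, Ideal.mem_comap]
      exact hx
  let E : Localization.AtPrime Q ≃+* Localization.AtPrime Q' :=
    IsLocalization.ringEquivOfRingEquiv (Localization.AtPrime Q) (Localization.AtPrime Q') e H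
  exact isCatenary_of_surjective E.symm.toRingHom E.symm.surjective h

/-- Transitivity of the dimension formula in a tower. -/
theorem formula_trans {R A B : Type u} [CommRing R] [CommRing A] [CommRing B] [IsDomain R]
    [IsDomain A] [IsDomain B] [Algebra R A] [Algebra A B] [Algebra R B] [IsScalarTower R A B]
    [FaithfulSMul R A] [FaithfulSMul A B]
    (P₀ : Ideal R) [P₀.IsPrime] (P : Ideal A) [P.IsPrime] (Q : Ideal B) [Q.IsPrime]
    [P.LiesOver P₀] [Q.LiesOver P] [Q.LiesOver P₀]
    (hfin : P.height ≠ ⊤)
    (h1 : P.height + Cardinal.toENat (Algebra.trdeg (R ⧸ P₀) (A ⧸ P)) =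
      P₀.height + Cardinal.toENat (Algebra.trdeg R A))
    (h2 : Q.height + Cardinal.toENat (Algebra.trdeg (A ⧸ P) (B ⧸ Q)) =
      P.height + Cardinal.toENat (Algebra.trdeg A B)) :
    Q.height + Cardinal.toENat (Algebra.trdeg (R ⧸ P₀) (B ⧸ Q)) =
      P₀.height + Cardinal.toENat (Algebra.trdeg R B) := by
  have h3 := trdeg_quotient_tower P₀ P Q
  have h4 := trdeg_add_eq R A (A := B)
  rw [← h3, ← h4, map_add, map_add]
  set a := Cardinal.toENat (Algebra.trdeg (R ⧸ P₀) (A ⧸ P))
  set b := Cardinal.toENat (Algebra.trdeg (A ⧸ P) (B ⧸ Q))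
  set c := Cardinal.toENat (Algebra.trdeg R A)
  set d := Cardinal.toENat (Algebra.trdeg A B)
  have : Q.height + (a + b) + P.height = P₀.height + (c + d) + P.height := by
    calc Q.height + (a + b) + P.height = (Q.height + b) + (P.height + a) := by ring
      _ = (P.height + d) + (P₀.height + c) := by rw [h1, h2]
      _ = P₀.height + (c + d) + P.height := by ring
  exact (ENat.add_left_injective_of_ne_top hfin) this

/-- The dimension formula for a simple extension, when the relevant localization of the
polynomial ring is catenary. -/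
theorem formula_step {A B : Type u} [CommRing A] [IsDomain A] [IsNoetherianRing A] [CommRing B]
    [IsDomain B] [Algebra A B] [FaithfulSMul A B] (π : A[X] →ₐ[A] B) (hπ : Function.Surjective π)
    (P : Ideal A) [P.IsPrime] (Q : Ideal B) [Q.IsPrime] [Q.LiesOver P]
    (hcat : CAlg.IsCatenary (Localization.AtPrime (Q.comap π.toRingHom))) :
    Q.height + Cardinal.toENat (Algebra.trdeg (A ⧸ P) (B ⧸ Q)) =
      P.height + Cardinal.toENat (Algebra.trdeg A B) := by
  have h := dimFormula_of_surjective (hasDimFormula_self.polynomial) π hπ P Q hcat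
  exact h

/-- Transport of the formula along an algebra isomorphism. -/
theorem formula_of_algEquiv {R C C' : Type u} [CommRing R] [CommRing C] [CommRing C']
    [Algebra R C] [Algebra R C'] (e : C ≃ₐ[R] C') (P : Ideal R) [P.IsPrime] (Q : Ideal C)
    (Q' : Ideal C') [Q.IsPrime] [Q'.IsPrime] [Q.LiesOver P] [Q'.LiesOver P] (hQ : Q = Q'.comap e)
    (h : Q.height + Cardinal.toENat (Algebra.trdeg (R ⧸ P) (C ⧸ Q)) =
      P.height + Cardinal.toENat (Algebra.trdeg R C)) :
    Q'.height + Cardinal.toENat (Algebra.trdeg (R ⧸ P) (C' ⧸ Q')) =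
      P.height + Cardinal.toENat (Algebra.trdeg R C') := by
  have h2 : Q.height = Q'.height := by
    rw [hQ]; exact e.toRingEquiv.height_comap Q'
  have h3 : Algebra.trdeg (R ⧸ P) (C ⧸ Q) = Algebra.trdeg (R ⧸ P) (C' ⧸ Q') :=
    (Ideal.Quotient.algEquivOfEqComap P e hQ).trdeg_eq
  have h4 : Algebra.trdeg R C = Algebra.trdeg R C' := e.trdeg_eq
  rw [← h2, ← h3, ← h4]; exact h

section Main

variable {R : Type u} [CommRing R] [IsDomain R] [IsNoetherianRing R] [IsLocalRing R]
  {S : Type u} [CommRing S] [IsDomain S] [Algebra R S] [FaithfulSMul R S]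
  (q : Ideal S) [q.IsPrime] [q.LiesOver (IsLocalRing.maximalIdeal R)]

/-- The dimension formula for the subalgebra `U` at the prime `q ∩ U`. -/
def Phi (U : Subalgebra R S) : Prop :=
  (q.under U).height +
      Cardinal.toENat (Algebra.trdeg (R ⧸ IsLocalRing.maximalIdeal R) (U ⧸ q.under U)) =
    (IsLocalRing.maximalIdeal R).height + Cardinal.toENat (Algebra.trdeg R U)

theorem phi_bot : Phi q (⊥ : Subalgebra R S) := by
  have hinj := FaithfulSMul.algebraMap_injective R S
  have hdf : HasDimFormula R (⊥ : Subalgebra R S) 0 :=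
    hasDimFormula_self.of_algEquiv (Algebra.botEquivOfInjective hinj).symm
  have h1 := hdf (IsLocalRing.maximalIdeal R) (q.under (⊥ : Subalgebra R S))
  have h0 : Algebra.trdeg R (⊥ : Subalgebra R S) = 0 := by
    rw [← (Algebra.botEquivOfInjective hinj).symm.trdeg_eq]
    exact trdeg_eq_zero_of_surjective (Algebra.id R) (fun x => ⟨x, rfl⟩)
  unfold Phi
  rw [h0, map_zero, add_zero]
  simpa using h1

theorem phi_step
    (hcat : ∀ A' : Subalgebra R (Polynomial S), A'.FG →
      ∀ (m' : Ideal A') [m'.IsMaximal], m'.LiesOver (IsLocalRing.maximalIdeal R) →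
        CAlg.IsCatenary (Localization.AtPrime m'))
    (U : Subalgebra R S) (hUfg : U.FG) (a : S) (h : Phi q U) :
    Phi q (Algebra.adjoin R (insert a (U : Set S))) := by
  classical
  set U' : Subalgebra R S := Algebra.adjoin R (insert a (U : Set S)) with hU'
  have hle : U ≤ U' := fun x hx => Algebra.subset_adjoin (Set.mem_insert_of_mem _ hx)
  have ha : a ∈ U' := Algebra.subset_adjoin (Set.mem_insert _ _)
  letI algUU' : Algebra U U' := (Subalgebra.inclusion hle).toRingHom.toAlgebra
  haveI : IsScalarTower R U U' := IsScalarTower.of_algebraMap_eq (fun r => rfl)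
  haveI : IsScalarTower U U' S := IsScalarTower.of_algebraMap_eq (fun x => rfl)
  haveI : FaithfulSMul U U' :=
    (faithfulSMul_iff_algebraMap_injective U U').mpr (Subalgebra.inclusion_injective hle)
  haveI : Algebra.FiniteType R U := ⟨(Subalgebra.fg_top U).mpr hUfg⟩
  haveI : IsNoetherianRing U := Algebra.FiniteType.isNoetherianRing R U
  haveI : FaithfulSMul R U := (faithfulSMul_iff_algebraMap_injective R U).mpr
    (fun x y hxy => FaithfulSMul.algebraMap_injective R S (congrArg Subtype.val hxy))
  -- primes
  let P : Ideal U := q.under U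
  let Q : Ideal U' := q.under U'
  haveI hQP : Q.LiesOver P := ⟨Ideal.ext fun x => Iff.rfl⟩
  -- the surjection
  let π : U[X] →ₐ[U] U' := Polynomial.aeval (⟨a, ha⟩ : U')
  have hπ : Function.Surjective π := by
    rintro ⟨y, hy⟩
    have hy' : y ∈ Algebra.adjoin R (insert a (U : Set S)) := hy
    refine Algebra.adjoin_induction
      (p := fun z hz => ∃ p : U[X], π p = (⟨z, hz⟩ : U')) ?_ ?_ ?_ ?_ hy'
    · intro x hx
      rcases hx with hxa | hxU
      · refine ⟨Polynomial.X, ?_⟩
        change Polynomial.aeval (⟨a, ha⟩ : U') (Polynomial.X : U[X]) = _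
        rw [Polynomial.aeval_X]
        exact Subtype.ext hxa.symm
      · refine ⟨Polynomial.C (⟨x, hxU⟩ : U), ?_⟩
        change Polynomial.aeval (⟨a, ha⟩ : U') (Polynomial.C (⟨x, hxU⟩ : U)) = _
        rw [Polynomial.aeval_C]
        rfl
    · intro r
      refine ⟨Polynomial.C (algebraMap R U r), ?_⟩
      change Polynomial.aeval (⟨a, ha⟩ : U') (Polynomial.C (algebraMap R U r)) = _
      rw [Polynomial.aeval_C]
      rfl
    · rintro x y hx hy ⟨p, hp⟩ ⟨p', hp'⟩
      exact ⟨p + p', by rw [map_add, hp, hp']; rfl⟩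
    · rintro x y hx hy ⟨p, hp⟩ ⟨p', hp'⟩
      exact ⟨p * p', by rw [map_mul, hp, hp']; rfl⟩
  -- catenarity
  let ψ : U[X] →ₐ[R] S[X] := Polynomial.mapAlgHom U.val
  have hψ : Function.Injective ψ := Polynomial.map_injective _ Subtype.val_injective
  let A' : Subalgebra R S[X] := ψ.range
  have hA'fg : A'.FG := by
    have h1 : (⊤ : Subalgebra R U[X]).FG := Algebra.FiniteType.out
    have h2 := h1.map ψ
    rwa [Algebra.map_top] at h2
  let e : U[X] ≃ₐ[R] A' := AlgEquiv.ofInjective ψ hψ
  let er : U[X] ≃+* A' := e.toRingEquiv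
  let Qs : Ideal U[X] := Q.comap π.toRingHom
  let Q'' : Ideal A' := Qs.comap er.symm.toRingHom
  haveI : Q''.IsPrime := Ideal.comap_isPrime _ _
  obtain ⟨m', hm'max, hQm'⟩ := Ideal.exists_le_maximal Q'' (Ideal.IsPrime.ne_top inferInstance)
  haveI := hm'max
  have hlies : m'.LiesOver (IsLocalRing.maximalIdeal R) := by
    refine ⟨le_antisymm ?_ ?_⟩
    · intro r hr
      change algebraMap R A' r ∈ m'
      apply hQm'
      change er.symm (algebraMap R A' r) ∈ Qs
      have h1 : er.symm (algebraMap R A' r) = algebraMap R U[X] r := e.symm.commutes r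
      rw [h1]
      change π (algebraMap R U[X] r) ∈ Q
      have h2 : π (algebraMap R U[X] r) = algebraMap R U' r := by
        rw [IsScalarTower.algebraMap_apply R U U[X], AlgHom.commutes,
          ← IsScalarTower.algebraMap_apply]
      rw [h2]
      change algebraMap U' S (algebraMap R U' r) ∈ q
      rw [← IsScalarTower.algebraMap_apply R U' S]
      have h3 := Ideal.LiesOver.over (p := IsLocalRing.maximalIdeal R) (P := q)
      rw [h3] at hr
      exact hr
    · exact IsLocalRing.le_maximalIdeal (inferInstance : (m'.under R).IsPrime).ne_top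
  have hc1 := hcat A' hA'fg m' hlies
  have hc2 := isCatenary_atPrime_of_le m' Q'' hQm' hc1
  have hcatQ : CAlg.IsCatenary (Localization.AtPrime Qs) :=
    isCatenary_atPrime_of_ringEquiv er Qs Q'' rfl hc2
  have hstep := formula_step π hπ P Q hcatQ
  exact formula_trans (R := R) (A := U) (B := U') (IsLocalRing.maximalIdeal R) P Q
    Ideal.height_ne_top_of_isPrime h hstep

theorem main [Algebra.FiniteType R S]
    (hcat : ∀ A' : Subalgebra R (Polynomial S), A'.FG →
      ∀ (m' : Ideal A') [m'.IsMaximal], m'.LiesOver (IsLocalRing.maximalIdeal R) →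
        CAlg.IsCatenary (Localization.AtPrime m')) :
    (q.height : Cardinal.{u}) + Algebra.trdeg (R ⧸ IsLocalRing.maximalIdeal R) (S ⧸ q) =
      ((IsLocalRing.maximalIdeal R).height : Cardinal.{u}) + Algebra.trdeg R S := by
  classical
  obtain ⟨s, hs⟩ := (Algebra.FiniteType.out : (⊤ : Subalgebra R S).FG)
  have key : ∀ s : Finset S, Phi q (Algebra.adjoin R (s : Set S)) := by
    intro s
    induction s using Finset.induction_on with
    | empty =>
      rw [Finset.coe_empty, Algebra.adjoin_empty]
      exact phi_bot q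
    | insert a s _ ih =>
      have := phi_step q hcat (Algebra.adjoin R (s : Set S)) (Subalgebra.fg_adjoin_finset s) a ih
      rw [Finset.coe_insert, ← Algebra.adjoin_insert_adjoin]
      exact this
  have htop : Phi q (⊤ : Subalgebra R S) := by
    rw [← hs]; exact key s
  have H := formula_of_algEquiv (Subalgebra.topEquiv : (⊤ : Subalgebra R S) ≃ₐ[R] S)
    (IsLocalRing.maximalIdeal R) (q.under (⊤ : Subalgebra R S)) q (Ideal.ext fun x => Iff.rfl) htop
  have ht2 : Algebra.trdeg R S < Cardinal.aleph0 := trdeg_lt_aleph0_of_finiteType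
  have ht2' : Cardinal.toENat (Algebra.trdeg R S) ≠ ⊤ := by
    rw [Ne, Cardinal.toENat_eq_top]; exact not_le.mpr ht2
  have hm : (IsLocalRing.maximalIdeal R).height ≠ ⊤ := Ideal.height_ne_top_of_isPrime
  have ht1' : Cardinal.toENat (Algebra.trdeg (R ⧸ IsLocalRing.maximalIdeal R) (S ⧸ q)) ≠ ⊤ := by
    intro h
    rw [h, add_top] at H
    exact (WithTop.add_ne_top.mpr ⟨hm, ht2'⟩) H.symm
  have ht1 : Algebra.trdeg (R ⧸ IsLocalRing.maximalIdeal R) (S ⧸ q) ≤ Cardinal.aleph0 := by
    rw [Ne, Cardinal.toENat_eq_top, not_le] at ht1'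
    exact ht1'.le
  have H2 := congrArg Cardinal.ofENat H
  rw [Cardinal.ofENat_add, Cardinal.ofENat_add, Cardinal.ofENat_toENat_eq_self.mpr ht1,
    Cardinal.ofENat_toENat_eq_self.mpr ht2.le] at H2
  exact H2

end Main

end Groth.Agent.Lib.Helper4.DimFormulaTower
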