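import Mathlib
import Groth.Prelude.Def_Found
import Groth.Agent.Lib.Helper4.DirLimCat
import Groth.Agent.Lib.Helper26.RegularSmooth
import Groth.Agent.S7770

set_option autoImplicit false
set_option linter.style.haveILetI false
set_option linter.unusedSectionVars false
set_option linter.unusedVariables false
set_option linter.unusedSimpArgs false
set_option maxHeartbeats 1600000
set_option maxSynthPendingDepth 3

universe u

namespace Groth.Agent.Lib.Helper4.DirLimSmooth

open TensorProduct Groth.Agent.Lib.Helper4.DirLimCat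

section Reg

variable {ι : Type u} [Preorder ι] [Nonempty ι] [IsDirectedOrder ι]
  {G : ι → Type u} [∀ i, CommRing (G i)]
  (f : ∀ i j, i ≤ j → G i →+* G j)
  {B : Type u} [CommRing B] (φ : ∀ i, G i →+* B)

/-- A Noetherian directed colimit (elementwise form) of regular rings is regular. -/
theorem isRegularRing_of_isDirColim (H : IsDirColim f φ) (hself : ∀ i x, f i i le_rfl x = x)
    (hreg : ∀ i, IsRegularRing (G i)) [IsNoetherianRing B] : IsRegularRing B := by
  haveI : DirectedSystem G (fun i j h => f i j h) :=
    ⟨fun i x => hself i x, fun k j i hij hjk x => H.comp i j k hij hjk x⟩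
  let L : Ring.DirectLimit G (fun i j h => f i j h) →+* B :=
    Ring.DirectLimit.lift G (fun i j h => f i j h) B φ (fun i j h x => H.compat i j h x)
  have hinj : Function.Injective L := by
    rw [injective_iff_map_eq_zero]
    intro x hx
    obtain ⟨i, y, rfl⟩ := Ring.DirectLimit.exists_of x
    rw [Ring.DirectLimit.lift_of] at hx
    obtain ⟨j, hij, hj⟩ := H.zero_exact i y hx
    rw [← Ring.DirectLimit.of_f hij, hj, map_zero]
  have hsurj : Function.Surjective L := by
    intro b
    obtain ⟨i, x, rfl⟩ := H.surj b
    exact ⟨Ring.DirectLimit.of G _ i x, Ring.DirectLimit.lift_of _ _ _ _ _⟩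
  let e : Ring.DirectLimit G (fun i j h => f i j h) ≃+* B := RingEquiv.ofBijective L ⟨hinj, hsurj⟩
  haveI : IsNoetherianRing (Ring.DirectLimit G (fun i j h => f i j h)) :=
    isNoetherianRing_of_ringEquiv B e.symm
  haveI := Groth.Agent.S7770.result ι G f hreg
  exact IsRegularRing.of_ringEquiv e

end Reg

section Concrete

variable {R : Type u} [CommRing R] {ι : Type u} [Preorder ι] [IsDirectedOrder ι] [Nonempty ι]
  (G : ι → Type u) [∀ i, CommRing (G i)] [∀ i, Algebra R (G i)]
  (f : ∀ i j : ι, i ≤ j → (G i →ₐ[R] G j)) [DirectedSystem G (fun i j h => f i j h)]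

theorem isDirColim_directLimit :
    IsDirColim (fun i j h => (f i j h).toRingHom)
      (fun i => (DirectLimit.Algebra.of G f i).toRingHom) := by
  refine ⟨?_, ?_, ?_, ?_⟩
  · intro i j k hij hjk x
    exact DirectedSystem.map_map' f hij hjk x
  · intro i j h x
    exact DirectLimit.Algebra.of_f h x
  · intro b
    obtain ⟨i, x, rfl⟩ := DirectLimit.exists_eq_mk _ b
    exact ⟨i, x, rfl⟩
  · intro i x hx
    have h0 : (⟦⟨i, x⟩⟧ : DirectLimit G f) = ⟦⟨i, 0⟩⟧ := by
      rw [← DirectLimit.zero_def i]; exact hx
    obtain ⟨k, hik, hik', hk⟩ := Quotient.exact h0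
    exact ⟨k, hik, hk.trans (map_zero _)⟩

/-- A directed colimit of flat algebras is flat. -/
theorem flat_of_isDirColim {B : Type u} [CommRing B] [Algebra R B] (φ : ∀ i, G i →ₐ[R] B)
    (H : IsDirColim (fun i j h => (f i j h).toRingHom) (fun i => (φ i).toRingHom))
    (hflat : ∀ i, Module.Flat R (G i)) : Module.Flat R B := by
  classical
  refine Module.Flat.of_forall_isTrivialRelation ?_
  intro l r b hrel
  obtain ⟨k, -, x, hx⟩ := H.exists_common_lift (Classical.arbitrary ι) b
  have h0 : (φ k).toRingHom (∑ i, r i • x i) = 0 := by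
    rw [← hrel]
    change φ k (∑ i, r i • x i) = _
    rw [map_sum]
    refine Finset.sum_congr rfl fun i _ => ?_
    rw [map_smul]
    congr 1
    exact hx i
  obtain ⟨k', hkk', h1⟩ := H.zero_exact k _ h0
  have hrel' : ∑ i, r i • (f k k' hkk' (x i)) = 0 := by
    rw [← h1]
    change _ = f k k' hkk' (∑ i, r i • x i)
    rw [map_sum]
    refine Finset.sum_congr rfl fun i _ => ?_
    rw [map_smul]
  haveI := hflat k'
  obtain ⟨m, a, y, hxy, ha⟩ := Module.Flat.isTrivialRelation_of_sum_smul_eq_zero (R := R)
    (M := G k') (f := r) (x := fun i => f k k' hkk' (x i)) hrel'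
  refine ⟨m, a, fun j => φ k' (y j), fun i => ?_, ha⟩
  have h2 : b i = φ k' (f k k' hkk' (x i)) := by
    rw [← hx i]
    exact (H.compat k k' hkk' (x i)).symm
  have hxy' : f k k' hkk' (x i) = ∑ j, a i j • y j := hxy i
  rw [h2, hxy', map_sum]
  refine Finset.sum_congr rfl fun j _ => ?_
  rw [map_smul]

section BaseChange

variable (K : Type u) [CommRing K] [Algebra R K]

/-- transition maps of the tensored system -/
noncomputable def tf (i j : ι) (h : i ≤ j) : K ⊗[R] G i →ₐ[R] K ⊗[R] G j :=
  Algebra.TensorProduct.map (AlgHom.id R K) (f i j h)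

lemma tf_tmul (i j : ι) (h : i ≤ j) (c : K) (x : G i) :
    tf G f K i j h (c ⊗ₜ x) = c ⊗ₜ f i j h x := by
  simp [tf]

/-- the maps to the tensored colimit -/
noncomputable def tphi (i : ι) : K ⊗[R] G i →ₐ[R] K ⊗[R] DirectLimit G f :=
  Algebra.TensorProduct.map (AlgHom.id R K) (DirectLimit.Algebra.of G f i)

lemma tphi_tmul (i : ι) (c : K) (x : G i) :
    tphi G f K i (c ⊗ₜ x) = c ⊗ₜ DirectLimit.Algebra.of G f i x := by
  simp [tphi]

lemma tphi_tf (i j : ι) (h : i ≤ j) (z : K ⊗[R] G i) :
    tphi G f K j (tf G f K i j h z) = tphi G f K i z := by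
  induction z using TensorProduct.induction_on with
  | zero => simp
  | tmul c x => rw [tf_tmul, tphi_tmul, tphi_tmul, DirectLimit.Algebra.of_f]
  | add a b ha hb => rw [map_add, map_add, ha, hb, map_add]

instance instDirectedSystemTf :
    DirectedSystem (fun i => K ⊗[R] G i) (fun i j h => ⇑(tf G f K i j h)) where
  map_self i z := by
    change tf G f K i i le_rfl z = z
    induction z using TensorProduct.induction_on with
    | zero => simp
    | tmul c x => rw [tf_tmul, DirectedSystem.map_self' f x]
    | add a b ha hb => rw [map_add, ha, hb]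
  map_map k j i hij hjk z := by
    change tf G f K j k hjk (tf G f K i j hij z) = tf G f K i k (hij.trans hjk) z
    induction z using TensorProduct.induction_on with
    | zero => simp
    | tmul c x => rw [tf_tmul, tf_tmul, tf_tmul, DirectedSystem.map_map' f hij hjk x]
    | add a b ha hb => rw [map_add, map_add, map_add, ha, hb]

/-- the tensored direct limit -/
abbrev DK : Type u := DirectLimit (fun i => K ⊗[R] G i) (tf G f K)

/-- comparison map -/
noncomputable def alpha : DK G f K →ₗ[R] K ⊗[R] DirectLimit G f :=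
  DirectLimit.Module.lift R ι (fun i => K ⊗[R] G i) (tf G f K)
    (fun i => (tphi G f K i).toLinearMap)
    (fun i j hij z => tphi_tf G f K i j hij z)

lemma alpha_of (i : ι) (z : K ⊗[R] G i) :
    alpha G f K (DirectLimit.Module.of R ι (fun i => K ⊗[R] G i) (tf G f K) i z) =
      tphi G f K i z := rfl

noncomputable def betaAux (c : K) : DirectLimit G f →ₗ[R] DK G f K :=
  DirectLimit.Module.lift R ι G f
    (fun i => (DirectLimit.Module.of R ι (fun i => K ⊗[R] G i) (tf G f K) i) ∘ₗ
      (TensorProduct.mk R K (G i) c))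
    (by
      intro i j hij x
      simp only [LinearMap.comp_apply, TensorProduct.mk_apply]
      rw [← tf_tmul G f K i j hij c x]
      exact DirectLimit.Module.of_f)

lemma betaAux_of (c : K) (i : ι) (x : G i) :
    betaAux G f K c (DirectLimit.Algebra.of G f i x) =
      DirectLimit.Module.of R ι (fun i => K ⊗[R] G i) (tf G f K) i (c ⊗ₜ x) := rfl

noncomputable def beta : K ⊗[R] DirectLimit G f →ₗ[R] DK G f K :=
  TensorProduct.lift (LinearMap.mk₂ R (fun c a => betaAux G f K c a)
    (by
      intro c c' a
      induction a using DirectLimit.induction with | _ i x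
      change betaAux G f K (c + c') (DirectLimit.Algebra.of G f i x) =
        betaAux G f K c (DirectLimit.Algebra.of G f i x) +
          betaAux G f K c' (DirectLimit.Algebra.of G f i x)
      rw [betaAux_of, betaAux_of, betaAux_of, TensorProduct.add_tmul, map_add])
    (by
      intro r c a
      induction a using DirectLimit.induction with | _ i x
      change betaAux G f K (r • c) (DirectLimit.Algebra.of G f i x) =
        r • betaAux G f K c (DirectLimit.Algebra.of G f i x)
      rw [betaAux_of, betaAux_of, ← TensorProduct.smul_tmul', map_smul])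
    (by intro c a a'; exact map_add _ _ _)
    (by intro r c a; exact map_smul _ _ _))

lemma beta_tmul (c : K) (a : DirectLimit G f) : beta G f K (c ⊗ₜ a) = betaAux G f K c a := by
  unfold beta
  rw [TensorProduct.lift.tmul]
  rfl

lemma beta_tphi (i : ι) (z : K ⊗[R] G i) :
    beta G f K (tphi G f K i z) =
      DirectLimit.Module.of R ι (fun i => K ⊗[R] G i) (tf G f K) i z := by
  induction z using TensorProduct.induction_on with
  | zero => rw [map_zero, map_zero, map_zero]
  | tmul c x => rw [tphi_tmul, beta_tmul, betaAux_of]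
  | add a b ha hb => rw [map_add, map_add, ha, hb, map_add]

theorem isDirColim_tensor :
    IsDirColim (fun i j h => (tf G f K i j h).toRingHom)
      (fun i => (tphi G f K i).toRingHom) := by
  refine ⟨?_, ?_, ?_, ?_⟩
  · intro i j k hij hjk z
    exact DirectedSystem.map_map' (tf G f K) hij hjk z
  · intro i j h z
    exact tphi_tf G f K i j h z
  · intro b
    induction b using TensorProduct.induction_on with
    | zero => exact ⟨Classical.arbitrary ι, 0, map_zero _⟩
    | tmul c a =>
      obtain ⟨i, x, rfl⟩ := DirectLimit.exists_eq_mk _ a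
      exact ⟨i, c ⊗ₜ x, tphi_tmul G f K i c x⟩
    | add a b ha hb =>
      obtain ⟨i, z, rfl⟩ := ha
      obtain ⟨j, w, rfl⟩ := hb
      obtain ⟨k, hik, hjk⟩ := exists_ge_ge i j
      refine ⟨k, tf G f K i k hik z + tf G f K j k hjk w, ?_⟩
      change tphi G f K k (tf G f K i k hik z + tf G f K j k hjk w) =
        tphi G f K i z + tphi G f K j w
      rw [map_add, tphi_tf, tphi_tf]
  · intro i z hz
    have h1 : tphi G f K i z = 0 := hz
    have h2 : DirectLimit.Module.of R ι (fun i => K ⊗[R] G i) (tf G f K) i z = 0 := by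
      rw [← beta_tphi G f K i z, h1, map_zero]
    have h3 : (⟦⟨i, z⟩⟧ : DK G f K) = ⟦⟨i, 0⟩⟧ := by
      rw [← DirectLimit.zero_def i]; exact h2
    obtain ⟨k, hik, hik', hk⟩ := Quotient.exact h3
    exact ⟨k, hik, hk.trans (map_zero _)⟩

end BaseChange

theorem main (hs : ∀ i, Algebra.Smooth R (G i))
    (hN : ∀ (p : Ideal R) [p.IsPrime], IsNoetherianRing (p.Fiber (DirectLimit G f))) :
    CAlg.IsRegularHom R (DirectLimit G f) := by
  refine ⟨?_, fun p _ => ⟨hN p, ?_⟩⟩
  · exact flat_of_isDirColim G f (fun i => DirectLimit.Algebra.of G f i)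
      (isDirColim_directLimit G f) (fun i => by haveI := hs i; infer_instance)
  · intro k' _ _ hfin
    letI algRk' : Algebra R k' :=
      ((algebraMap p.ResidueField k').comp (algebraMap R p.ResidueField)).toAlgebra
    haveI : IsScalarTower R p.ResidueField k' := IsScalarTower.of_algebraMap_eq (fun _ => rfl)
    haveI := hN p
    haveI : Module.Finite p.ResidueField k' := hfin
    haveI hN1 : IsNoetherianRing ((p.Fiber (DirectLimit G f)) ⊗[p.ResidueField] k') :=
      Algebra.FiniteType.isNoetherianRing (p.Fiber (DirectLimit G f)) _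
    haveI hN2 : IsNoetherianRing (k' ⊗[p.ResidueField] (p.Fiber (DirectLimit G f))) :=
      isNoetherianRing_of_ringEquiv _
        (Algebra.TensorProduct.comm p.ResidueField (p.Fiber (DirectLimit G f)) k').toRingEquiv
    let e₁ : k' ⊗[p.ResidueField] (p.ResidueField ⊗[R] DirectLimit G f) ≃ₐ[k']
        k' ⊗[R] DirectLimit G f :=
      Algebra.TensorProduct.cancelBaseChange R p.ResidueField k' k' (DirectLimit G f)
    haveI hN3 : IsNoetherianRing (k' ⊗[R] DirectLimit G f) :=
      isNoetherianRing_of_ringEquiv _ e₁.toRingEquiv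
    haveI hreg : IsRegularRing (k' ⊗[R] DirectLimit G f) := by
      refine isRegularRing_of_isDirColim _ _ (isDirColim_tensor G f k') ?_ ?_
      · intro i z
        exact DirectedSystem.map_self' (tf G f k') z
      · intro i
        haveI := hs i
        haveI : Algebra.Smooth k' (k' ⊗[R] G i) := inferInstance
        exact Groth.Agent.Lib.Helper26.RegularSmooth.isRegularRing_of_smooth k' (k' ⊗[R] G i)
    exact IsRegularRing.of_ringEquiv e₁.symm.toRingEquiv

end Concrete

end Groth.Agent.Lib.Helper4.DirLimSmooth
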