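import Mathlib
import Groth.Agent.Lib.Helper10.IndCofDiv

/-!
# Finitely many bad primes ⇒ a divisible subobject with small quotient

Sub-lemma (F4) requested by helper13 for S19621.
-/

set_option autoImplicit false
set_option linter.unusedSectionVars false
set_option linter.unusedVariables false
set_option linter.style.haveILetI false

open CategoryTheory CategoryTheory.Limits H10Ind

universe v u

namespace Groth.Agent.Lib.Helper4.DivQuotFin

variable {𝒜 : Type u} [Category.{v} 𝒜] [Abelian 𝒜] {P : ObjectProperty 𝒜}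

lemma epi_nsmul_image (A : 𝒜) (M p : ℕ)
    (h : ∀ {T : 𝒜} (z : T ⟶ A), ∃ (T' : 𝒜) (π : T' ⟶ T) (_ : Epi π) (z' : T' ⟶ A),
      π ≫ (M • z) = p • (M • z')) :
    Epi (p • 𝟙 ((imageSubobject (M • 𝟙 A) : Subobject A) : 𝒜)) := by
  rw [epi_iff_surjective_up_to_refinements]
  intro T x
  have h1 : (imageSubobject (M • 𝟙 A)).Factors (x ≫ (imageSubobject (M • 𝟙 A)).arrow) :=
    Subobject.factors_comp_arrow x
  obtain ⟨T₁, π₁, hπ₁, z, hz⟩ := (imageSubobject_factors_iff (M • 𝟙 A) _).1 h1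
  obtain ⟨T₂, π₂, hπ₂, z', hz'⟩ := h z
  have hfac : (imageSubobject (M • 𝟙 A)).Factors (M • z') := by
    have e : M • z' = z' ≫ (M • 𝟙 A) := by rw [Preadditive.comp_nsmul, Category.comp_id]
    rw [e]
    exact Subobject.factors_of_factors_right _ (imageSubobject_factors_self _)
  have key : (π₂ ≫ π₁) ≫ (x ≫ (imageSubobject (M • 𝟙 A)).arrow) = p • (M • z') := by
    rw [Category.assoc, hz, ← hz']
    simp only [Preadditive.comp_nsmul, Category.comp_id]
  haveI : Epi (π₂ ≫ π₁) := epi_comp _ _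
  refine ⟨T₂, π₂ ≫ π₁, inferInstance,
    (imageSubobject (M • 𝟙 A)).factorThru (M • z') hfac, ?_⟩
  rw [← cancel_mono (imageSubobject (M • 𝟙 A)).arrow]
  have e2 : ((imageSubobject (M • 𝟙 A)).factorThru (M • z') hfac ≫
      (p • 𝟙 ((imageSubobject (M • 𝟙 A) : Subobject A) : 𝒜))) ≫ (imageSubobject (M • 𝟙 A)).arrow =
      p • (M • z') := by
    rw [Category.assoc, Preadditive.nsmul_comp, Category.id_comp, Preadditive.comp_nsmul,
      Subobject.factorThru_arrow]
  rw [e2, Category.assoc]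
  exact key

theorem divQuot_of_finite (hP : Setting P) (A : 𝒜) (hA : ∀ n : ℕ, 0 < n → P (tor A n))
    (hfin : {p : ℕ | p.Prime ∧ ¬ Epi (p • 𝟙 A)}.Finite) :
    ∃ B' : Subobject A, (∀ k : ℕ, 0 < k → Epi (k • 𝟙 (B' : 𝒜))) ∧ P (cokernel B'.arrow) := by
  classical
  have hex : ∀ p : ℕ, ∃ Np, p.Prime → ∀ n, Np ≤ n → Im A p n = Im A p Np := by
    intro p
    by_cases hp : p.Prime
    · obtain ⟨Np, h⟩ := im_stabilizes hP A p (fun k => hA _ (pow_pos hp.pos k))
      exact ⟨Np, fun _ => h⟩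
    · exact ⟨0, fun h => (hp h).elim⟩
  choose N hN using hex
  obtain ⟨S, hS⟩ : ∃ S : Finset ℕ, S = hfin.toFinset := ⟨_, rfl⟩
  have hSmem : ∀ p, p ∈ S ↔ p.Prime ∧ ¬ Epi (p • 𝟙 A) := by
    intro p
    rw [hS, Set.Finite.mem_toFinset]
    rfl
  obtain ⟨M, hM⟩ : ∃ M : ℕ, M = ∏ p ∈ S, p ^ N p := ⟨_, rfl⟩
  have hMpos : 0 < M := by
    rw [hM]
    exact Finset.prod_pos (fun p hp => pow_pos ((hSmem p).1 hp).1.pos _)
  refine ⟨imageSubobject (M • 𝟙 A), ?_, ?_⟩
  · have hprime : ∀ p : ℕ, p.Prime →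
        Epi (p • 𝟙 ((imageSubobject (M • 𝟙 A) : Subobject A) : 𝒜)) := by
      intro p hp
      apply epi_nsmul_image
      intro T z
      by_cases hpS : p ∈ S
      · obtain ⟨M', hM'⟩ : ∃ M' : ℕ, M' = ∏ q ∈ S.erase p, q ^ N q := ⟨_, rfl⟩
        have hMM' : M = p ^ N p * M' := by
          rw [hM, hM']
          exact (Finset.mul_prod_erase S (fun q => q ^ N q) hpS).symm
        have h1 : (Im A p (N p + 1)).Factors ((p ^ N p) • z) := by
          rw [hN p hp (N p + 1) (Nat.le_succ _)]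
          exact Im_nsmul A p (N p) z
        obtain ⟨T', π, hπ, z', hz'⟩ := (Im_factors_iff A p (N p + 1) _).1 h1
        refine ⟨T', π, hπ, z', ?_⟩
        have e1 : M • z = M' • ((p ^ N p) • z) := by rw [hMM', mul_nsmul]
        rw [e1, Preadditive.comp_nsmul, hz', ← mul_nsmul, ← mul_nsmul, hMM']
        congr 1
        ring
      · have hepi : Epi (p • 𝟙 A) := by
          by_contra hne
          exact hpS ((hSmem p).2 ⟨hp, hne⟩)
        obtain ⟨T', π, hπ, z', hz'⟩ := surjective_up_to_refinements_of_epi (p • 𝟙 A) z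
        refine ⟨T', π, hπ, z', ?_⟩
        rw [Preadditive.comp_nsmul, hz', Preadditive.comp_nsmul, Category.comp_id, smul_comm]
    intro k
    induction k using Nat.recOnMul with
    | zero => intro h; exact absurd h (lt_irrefl 0)
    | one => intro _; rw [one_nsmul]; infer_instance
    | prime p hp => intro _; exact hprime p hp
    | mul a b iha ihb =>
      intro hab
      have ha : 0 < a := Nat.pos_of_ne_zero (fun h => by rw [h, zero_mul] at hab; exact lt_irrefl 0 hab)
      have hb : 0 < b := Nat.pos_of_ne_zero (fun h => by rw [h, mul_zero] at hab; exact lt_irrefl 0 hab)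
      haveI := iha ha
      haveI := ihb hb
      have e : (a * b) • 𝟙 ((imageSubobject (M • 𝟙 A) : Subobject A) : 𝒜) =
          (a • 𝟙 _) ≫ (b • 𝟙 _) := by
        rw [Preadditive.nsmul_comp, Category.id_comp, mul_nsmul']
      rw [e]
      exact epi_comp _ _
  · have hQ : P (cokernel (M • 𝟙 A)) :=
      P_cokernel_nsmul hP A M (fun k => hA _ (pow_pos hMpos k))
    exact hP.iso ((cokernelIsoOfEq (imageSubobject_arrow_comp (M • 𝟙 A)).symm).trans
      (cokernelEpiComp _ _)) hQ

end Groth.Agent.Lib.Helper4.DivQuotFin
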