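import Mathlib
import Groth.Prelude.Def_CAlgX
import Groth.Agent.Lib.Helper6.QuasiRegBasis

/-!
# Dual basis of the conormal-type module for `J = ker θ + (e)` with `θ(e)` quasi-regular
(requested by helper9 for S9730)
-/

set_option autoImplicit false
set_option linter.unusedSectionVars false
set_option linter.unusedVariables false
set_option maxHeartbeats 800000

universe u

namespace Groth.Agent.Lib.Helper4.DualQR

theorem exists_dual {R T' : Type u} [CommRing R] [CommRing T'] (θ : R →+* T')
    (hθ : Function.Surjective θ) (J : Ideal R) (s : ℕ) (e : Fin s → J)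
    (hJ : J = RingHom.ker θ ⊔ Ideal.span (Set.range fun i => (e i : R)))
    (hq : CAlgX.IsQuasiRegular (fun i => θ (e i))) :
    ∃ lam : Fin s → (J →ₗ[R] R ⧸ J), ∀ i j, lam i (e j) = if i = j then 1 else 0 := by
  classical
  -- the key well-definedness statement
  have key : ∀ (a : R) (c : Fin s → R), a ∈ RingHom.ker θ →
      a + ∑ j, c j * (e j : R) = 0 → ∀ i, c i ∈ J := by
    intro a c ha h i
    have h1 : ∑ j, θ (c j) * θ (e j) = 0 := by
      have h0 := congrArg θ h
      rw [map_add, map_sum, map_zero, (RingHom.mem_ker).mp ha, zero_add] at h0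
      simpa [map_mul] using h0
    have h2 := Groth.Agent.Lib.Helper6.QuasiRegBasis.coeff_mem_of_sum_mem_sq
      (fun j => θ (e j)) hq (fun j => θ (c j)) (by rw [h1]; exact Ideal.zero_mem _) i
    have h3 : Ideal.span (Set.range fun j => θ (e j)) =
        (Ideal.span (Set.range fun j => (e j : R))).map θ := by
      rw [Ideal.map_span, ← Set.range_comp]; rfl
    rw [h3] at h2
    obtain ⟨y, hy, hyc⟩ := (Ideal.mem_map_iff_of_surjective θ hθ).mp h2
    have h4 : c i - y ∈ RingHom.ker θ := by
      rw [RingHom.mem_ker, map_sub, hyc, sub_self]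
    rw [hJ]
    have h5 : c i = (c i - y) + y := by ring
    rw [h5]
    exact Submodule.add_mem_sup h4 hy
  -- decomposition of elements of `J`
  have dec : ∀ x : J, ∃ p : R × (Fin s → R), p.1 ∈ RingHom.ker θ ∧
      (x : R) = p.1 + ∑ j, p.2 j * (e j : R) := by
    intro x
    have hx : (x : R) ∈ RingHom.ker θ ⊔ Ideal.span (Set.range fun i => (e i : R)) := hJ ▸ x.2
    obtain ⟨a, ha, y, hy, hxy⟩ := Submodule.mem_sup.mp hx
    obtain ⟨c, hc⟩ := (Ideal.mem_span_range_iff_exists_fun).mp hy
    exact ⟨(a, c), ha, by rw [← hxy, ← hc]⟩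
  choose p hp1 hp2 using dec
  have hadd : ∀ (x y : J) (i : Fin s), Ideal.Quotient.mk J ((p (x + y)).2 i) =
      Ideal.Quotient.mk J ((p x).2 i) + Ideal.Quotient.mk J ((p y).2 i) := by
    intro x y i
    rw [← map_add, Ideal.Quotient.eq]
    refine key ((p (x + y)).1 - (p x).1 - (p y).1)
      (fun j => (p (x + y)).2 j - ((p x).2 j + (p y).2 j)) ?_ ?_ i
    · exact Ideal.sub_mem _ (Ideal.sub_mem _ (hp1 _) (hp1 _)) (hp1 _)
    · have hxy := hp2 (x + y)
      have hx := hp2 x
      have hy := hp2 y
      have hcoe : ((x + y : J) : R) = (x : R) + (y : R) := Submodule.coe_add x y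
      simp only [sub_mul, add_mul, Finset.sum_sub_distrib, Finset.sum_add_distrib]
      linear_combination -hxy + hx + hy + hcoe
  have hsmul : ∀ (r : R) (x : J) (i : Fin s), Ideal.Quotient.mk J ((p (r • x)).2 i) =
      Ideal.Quotient.mk J (r * (p x).2 i) := by
    intro r x i
    rw [Ideal.Quotient.eq]
    refine key ((p (r • x)).1 - r * (p x).1)
      (fun j => (p (r • x)).2 j - r * (p x).2 j) ?_ ?_ i
    · exact Ideal.sub_mem _ (hp1 _) (Ideal.mul_mem_left _ _ (hp1 _))
    · have hrx := hp2 (r • x)
      have hx := hp2 x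
      have hcoe : ((r • x : J) : R) = r * (x : R) := by
        rw [Submodule.coe_smul, smul_eq_mul]
      simp only [sub_mul, Finset.sum_sub_distrib, mul_assoc, ← Finset.mul_sum]
      linear_combination -hrx + r * hx + hcoe
  refine ⟨fun i =>
    { toFun := fun x => Ideal.Quotient.mk J ((p x).2 i)
      map_add' := fun x y => hadd x y i
      map_smul' := fun r x => by
        rw [hsmul r x i, map_mul, RingHom.id_apply, Algebra.smul_def,
          Ideal.Quotient.algebraMap_eq] }, ?_⟩
  intro i j
  show Ideal.Quotient.mk J ((p (e j)).2 i) = if i = j then 1 else 0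
  have hmem : (p (e j)).2 i - (if i = j then (1 : R) else 0) ∈ J := by
    refine key ((p (e j)).1) (fun k => (p (e j)).2 k - (if k = j then (1 : R) else 0))
      (hp1 _) ?_ i
    have hej := hp2 (e j)
    simp only [sub_mul, Finset.sum_sub_distrib, ite_mul, one_mul, zero_mul,
      Finset.sum_ite_eq', Finset.mem_univ, if_true]
    linear_combination -hej
  rw [Ideal.Quotient.eq.mpr hmem]
  split_ifs <;> simp

end Groth.Agent.Lib.Helper4.DualQR
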