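import Mathlib
import Groth.Agent.Lib.Helper4.ArSingS

/-!
# Ideals of finite colength containing `xy` in `k[[x,y]]`
-/

set_option autoImplicit false
set_option linter.style.haveILetI false
set_option linter.unusedSectionVars false
set_option linter.unusedVariables false
set_option linter.unusedSimpArgs false
set_option maxHeartbeats 1600000

universe u

namespace Groth.Agent.Lib.Helper4.ArS

open MvPowerSeries

noncomputable section

variable (k : Type u) [Field k]

/-! ### swap -/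

lemma swapE_swapE (F : MvPowerSeries (Fin 2) k) : swapE k (swapE k F) = F := by
  apply ext_c; intro i j; rw [coeff_swapE, coeff_swapE]

lemma swapE_X0 : swapE k (X 0) = X 1 := by
  show rename (Equiv.swap (0 : Fin 2) 1) (X 0 : MvPowerSeries (Fin 2) k) = X 1
  rw [rename_X, Equiv.swap_apply_left]

lemma swapE_X1 : swapE k (X 1) = X 0 := by
  show rename (Equiv.swap (0 : Fin 2) 1) (X 1 : MvPowerSeries (Fin 2) k) = X 0
  rw [rename_X, Equiv.swap_apply_right]

/-- the swapped ideal -/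
def swapI (J : Ideal (MvPowerSeries (Fin 2) k)) : Ideal (MvPowerSeries (Fin 2) k) :=
  Ideal.comap (swapE k) J

lemma mem_swapI (J : Ideal (MvPowerSeries (Fin 2) k)) (U : MvPowerSeries (Fin 2) k) :
    U ∈ swapI k J ↔ swapE k U ∈ J := Iff.rfl

lemma swapE_mem_swapI (J : Ideal (MvPowerSeries (Fin 2) k)) (U : MvPowerSeries (Fin 2) k) :
    swapE k U ∈ swapI k J ↔ U ∈ J := by rw [mem_swapI, swapE_swapE]

lemma xy_mem_swapI (J : Ideal (MvPowerSeries (Fin 2) k))
    (hxy : (X 0 * X 1 : MvPowerSeries (Fin 2) k) ∈ J) :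
    (X 0 * X 1 : MvPowerSeries (Fin 2) k) ∈ swapI k J := by
  rw [mem_swapI, map_mul, swapE_X0, swapE_X1, mul_comm]; exact hxy

lemma X0_pow_mem_swapI (J : Ideal (MvPowerSeries (Fin 2) k)) (n : ℕ) :
    (X 0 : MvPowerSeries (Fin 2) k) ^ n ∈ swapI k J ↔ (X 1 : MvPowerSeries (Fin 2) k) ^ n ∈ J := by
  rw [mem_swapI, map_pow, swapE_X0]

lemma X1_pow_mem_swapI (J : Ideal (MvPowerSeries (Fin 2) k)) (n : ℕ) :
    (X 1 : MvPowerSeries (Fin 2) k) ^ n ∈ swapI k J ↔ (X 0 : MvPowerSeries (Fin 2) k) ^ n ∈ J := by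
  rw [mem_swapI, map_pow, swapE_X1]

/-! ### coefficients of pure powers -/

lemma coeff_X0_pow (n i j : ℕ) :
    coeff (mon i j) ((X 0 : MvPowerSeries (Fin 2) k) ^ n) = if i = n ∧ j = 0 then 1 else 0 := by
  have h : Finsupp.single (0 : Fin 2) n = mon n 0 := by simp [mon]
  rw [X_pow_eq, coeff_monomial, h]
  by_cases hc : i = n ∧ j = 0
  · rw [if_pos hc, if_pos ((mon_eq_iff i j n 0).mpr hc)]
  · rw [if_neg hc, if_neg (fun h' => hc ((mon_eq_iff i j n 0).mp h'))]

lemma coeff_X1_pow (n i j : ℕ) :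
    coeff (mon i j) ((X 1 : MvPowerSeries (Fin 2) k) ^ n) = if i = 0 ∧ j = n then 1 else 0 := by
  have h : Finsupp.single (1 : Fin 2) n = mon 0 n := by simp [mon]
  rw [X_pow_eq, coeff_monomial, h]
  by_cases hc : i = 0 ∧ j = n
  · rw [if_pos hc, if_pos ((mon_eq_iff i j 0 n).mpr hc)]
  · rw [if_neg hc, if_neg (fun h' => hc ((mon_eq_iff i j 0 n).mp h'))]

/-! ### the part not involving `x` -/

/-- the part of `U` not involving `x` -/
def noX (U : MvPowerSeries (Fin 2) k) : MvPowerSeries (Fin 2) k :=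
  fun d => if d 0 = 0 then coeff d U else 0

lemma coeff_noX (U : MvPowerSeries (Fin 2) k) (d : Fin 2 →₀ ℕ) :
    coeff d (noX k U) = if d 0 = 0 then coeff d U else 0 := rfl

lemma X0_dvd_sub_noX (U : MvPowerSeries (Fin 2) k) :
    (X 0 : MvPowerSeries (Fin 2) k) ∣ U - noX k U := by
  rw [X_dvd_iff]
  intro m hm
  rw [map_sub, coeff_noX, if_pos hm, sub_self]

lemma X0_pow_dvd_noY' (U : MvPowerSeries (Fin 2) k) (a : ℕ)
    (hx : ∀ i, i < a → coeff (mon i 0) U = 0) :
    (X 0 : MvPowerSeries (Fin 2) k) ^ a ∣ noY k U := by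
  rw [X_pow_dvd_iff]
  intro m hm
  rw [coeff_noY]
  by_cases h : m 1 = 0
  · rw [if_pos h]
    have hm' : m = mon (m 0) 0 := by
      have := eq_mon m; rw [h] at this; exact this
    rw [hm']; exact hx _ hm
  · rw [if_neg h]

/-! ### the monomial ideal -/

lemma K1 (a b' : ℕ) (U : MvPowerSeries (Fin 2) k)
    (hx : ∀ i, i < a → coeff (mon i 0) U = 0)
    (hy : ∀ j, j < b' → coeff (mon 0 (j + 1)) U = 0) :
    U ∈ Ideal.span ({X 0 * X 1, X 0 ^ a, X 1 ^ (b' + 1)} : Set (MvPowerSeries (Fin 2) k)) := by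
  obtain ⟨B, hB⟩ := X1_dvd_sub_noY k U
  obtain ⟨A, hA⟩ := X0_pow_dvd_noY' k U a hx
  obtain ⟨B₂, hB₂⟩ := X0_dvd_sub_noX k B
  have h2 : (X 1 : MvPowerSeries (Fin 2) k) ^ b' ∣ noX k B := by
    rw [X_pow_dvd_iff]
    intro m hm
    rw [coeff_noX]
    by_cases h : m 0 = 0
    · rw [if_pos h]
      have hm' : m = mon 0 (m 1) := by
        have := eq_mon m; rw [h] at this; exact this
      have hc : coeff (mon 0 (m 1)) B = coeff (mon 0 (m 1 + 1)) (U - noY k U) := by
        rw [hB, mul_comm]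
        have := coeff_mul_y_pow B 1 0 (m 1 + 1)
        rw [pow_one] at this
        rw [this, if_pos (by omega), Nat.add_sub_cancel]
      rw [hm', hc, map_sub, coeff_noY, if_neg (by simp), sub_zero]
      exact hy _ hm
    · rw [if_neg h]
  obtain ⟨C', hC'⟩ := h2
  have hU : U = B₂ * (X 0 * X 1) + (A * X 0 ^ a + C' * X 1 ^ (b' + 1)) := by
    linear_combination hB + hA + X 1 * hB₂ + X 1 * hC'
  rw [hU]
  exact Ideal.add_mem _ (Ideal.mul_mem_left _ _ (Ideal.subset_span (Set.mem_insert _ _)))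
    (Ideal.add_mem _
      (Ideal.mul_mem_left _ _ (Ideal.subset_span (Set.mem_insert_of_mem _ (Set.mem_insert _ _))))
      (Ideal.mul_mem_left _ _ (Ideal.subset_span
        (Set.mem_insert_of_mem _ (Set.mem_insert_of_mem _ (Set.mem_singleton _))))))

lemma K2 (a' b' : ℕ) (U : MvPowerSeries (Fin 2) k)
    (hU : U ∈ Ideal.span
      ({X 0 * X 1, X 0 ^ (a' + 1), X 1 ^ (b' + 1)} : Set (MvPowerSeries (Fin 2) k))) :
    (∀ i, i < a' + 1 → coeff (mon i 0) U = 0) ∧ (∀ j, j < b' → coeff (mon 0 (j + 1)) U = 0) := by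
  rw [Ideal.mem_span_insert] at hU
  obtain ⟨c₁, z, hz, rfl⟩ := hU
  rw [Ideal.mem_span_insert] at hz
  obtain ⟨c₂, w, hw, rfl⟩ := hz
  rw [Ideal.mem_span_singleton'] at hw
  obtain ⟨c₃, rfl⟩ := hw
  have e1 : c₁ * (X 0 * X 1) = (c₁ * X 0) * X 1 ^ 1 := by ring
  have e2 : c₁ * (X 0 * X 1) = (c₁ * X 1) * X 0 ^ 1 := by ring
  constructor
  · intro i hi
    have t1 : coeff (mon i 0) ((c₁ * X 0) * X 1 ^ 1) = 0 := by
      rw [coeff_mul_y_pow, if_neg (by omega)]
    have t2 : coeff (mon i 0) (c₂ * X 0 ^ (a' + 1)) = 0 := by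
      rw [coeff_mul_x_pow, if_neg (by omega)]
    have t3 : coeff (mon i 0) (c₃ * X 1 ^ (b' + 1)) = 0 := by
      rw [coeff_mul_y_pow, if_neg (by omega)]
    rw [map_add, map_add, e1, t1, t2, t3]; simp
  · intro j hj
    have t1 : coeff (mon 0 (j + 1)) ((c₁ * X 1) * X 0 ^ 1) = 0 := by
      rw [coeff_mul_x_pow, if_neg (by omega)]
    have t2 : coeff (mon 0 (j + 1)) (c₂ * X 0 ^ (a' + 1)) = 0 := by
      rw [coeff_mul_x_pow, if_neg (by omega)]
    have t3 : coeff (mon 0 (j + 1)) (c₃ * X 1 ^ (b' + 1)) = 0 := by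
      rw [coeff_mul_y_pow, if_neg (by omega)]
    rw [map_add, map_add, e2, t1, t2, t3]; simp

/-! ### the coordinate map -/

/-- coordinates `(i,0)`, `i < a` and `(0,j+1)`, `j < b'` -/
def PhiN (a b' : ℕ) : MvPowerSeries (Fin 2) k →ₗ[k] (Fin a → k) × (Fin b' → k) :=
  LinearMap.prod (LinearMap.pi fun i : Fin a => coeff (mon i.val 0))
    (LinearMap.pi fun j : Fin b' => coeff (mon 0 (j.val + 1)))

lemma PhiN_eq_zero_iff (a b' : ℕ) (U : MvPowerSeries (Fin 2) k) :
    PhiN k a b' U = 0 ↔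
      (∀ i, i < a → coeff (mon i 0) U = 0) ∧ (∀ j, j < b' → coeff (mon 0 (j + 1)) U = 0) := by
  constructor
  · intro h
    constructor
    · intro i hi
      exact congrFun (congrArg Prod.fst h) ⟨i, hi⟩
    · intro j hj
      exact congrFun (congrArg Prod.snd h) ⟨j, hj⟩
  · rintro ⟨h1, h2⟩
    apply Prod.ext
    · funext i; exact h1 i.val i.isLt
    · funext j; exact h2 j.val j.isLt

/-- extension by zero -/
def extN {m : ℕ} (u : Fin m → k) (i : ℕ) : k := if h : i < m then u ⟨i, h⟩ else 0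

lemma extN_val {m : ℕ} (u : Fin m → k) (i : Fin m) : extN k u i.val = u i := by
  unfold extN; rw [dif_pos i.isLt]

/-- a series with prescribed coordinates -/
def mkN {a b' : ℕ} (u : Fin a → k) (v : Fin b' → k) : MvPowerSeries (Fin 2) k :=
  fun d => if d 1 = 0 then extN k u (d 0) else if d 0 = 0 then extN k v (d 1 - 1) else 0

lemma coeff_mkN {a b' : ℕ} (u : Fin a → k) (v : Fin b' → k) (i j : ℕ) :
    coeff (mon i j) (mkN k u v) =
      if j = 0 then extN k u i else if i = 0 then extN k v (j - 1) else 0 := by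
  show (if (mon i j) 1 = 0 then extN k u ((mon i j) 0) else
    if (mon i j) 0 = 0 then extN k v ((mon i j) 1 - 1) else 0) = _
  simp only [mon_zero, mon_one]

lemma PhiN_surj (a b' : ℕ) : Function.Surjective (PhiN k a b') := by
  rintro ⟨u, v⟩
  refine ⟨mkN k u v, ?_⟩
  apply Prod.ext
  · funext i
    show coeff (mon i.val 0) (mkN k u v) = u i
    rw [coeff_mkN, if_pos rfl, extN_val]
  · funext j
    show coeff (mon 0 (j.val + 1)) (mkN k u v) = v j
    rw [coeff_mkN, if_neg (by omega), if_pos rfl, Nat.add_sub_cancel, extN_val]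

/-! ### dimension count -/

lemma finrank_quot_add {T : Type u} [AddCommGroup T] [Module k T] [FiniteDimensional k T]
    (J : Ideal (MvPowerSeries (Fin 2) k)) (Φ : MvPowerSeries (Fin 2) k →ₗ[k] T)
    (hs : Function.Surjective Φ) (hker : ∀ U, Φ U = 0 → U ∈ J) :
    Module.finrank k (MvPowerSeries (Fin 2) k ⧸ J) +
      Module.finrank k (Submodule.map Φ (J.restrictScalars k)) = Module.finrank k T := by
  obtain ⟨σ, hσ⟩ := Φ.exists_rightInverse_of_surjective (LinearMap.range_eq_top.mpr hs)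
  have hσ' : ∀ t, Φ (σ t) = t := fun t => LinearMap.congr_fun hσ t
  obtain ⟨ψ, hψ⟩ : ∃ ψ : T →ₗ[k] (MvPowerSeries (Fin 2) k ⧸ J),
      ψ = (Ideal.Quotient.mkₐ k J).toLinearMap ∘ₗ σ := ⟨_, rfl⟩
  have hψa : ∀ t, ψ t = Ideal.Quotient.mk J (σ t) := by intro t; rw [hψ]; rfl
  have hψΦ : ∀ U, ψ (Φ U) = Ideal.Quotient.mk J U := by
    intro U
    rw [hψa, Ideal.Quotient.eq]
    apply hker
    rw [map_sub, hσ', sub_self]
  have hsurj : Function.Surjective ψ := by
    intro q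
    obtain ⟨U, rfl⟩ := Ideal.Quotient.mk_surjective q
    exact ⟨Φ U, hψΦ U⟩
  have hkerψ : LinearMap.ker ψ = Submodule.map Φ (J.restrictScalars k) := by
    ext t
    constructor
    · intro ht
      rw [LinearMap.mem_ker, hψa, Ideal.Quotient.eq_zero_iff_mem] at ht
      exact ⟨σ t, ht, hσ' t⟩
    · rintro ⟨z, hz, rfl⟩
      rw [LinearMap.mem_ker, hψΦ, Ideal.Quotient.eq_zero_iff_mem]
      exact hz
  have := LinearMap.finrank_range_add_finrank_ker ψ
  rw [LinearMap.range_eq_top.mpr hsurj, finrank_top, hkerψ] at this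
  exact this

/-! ### powers of non-units lie in ideals of finite colength -/

lemma exists_pow_mem (J : Ideal (MvPowerSeries (Fin 2) k))
    [Module.Finite k (MvPowerSeries (Fin 2) k ⧸ J)] (t : MvPowerSeries (Fin 2) k)
    (ht : constantCoeff t = 0) : ∃ N, t ^ N ∈ J := by
  have hint : IsIntegral k (Ideal.Quotient.mk J t) := Algebra.IsIntegral.isIntegral _
  obtain ⟨f, hfm, hf⟩ := hint
  have hf0 : f ≠ 0 := hfm.ne_zero
  obtain ⟨q, hq, hnd⟩ := Polynomial.exists_eq_pow_rootMultiplicity_mul_and_not_dvd f hf0 0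
  rw [map_zero, sub_zero] at hq hnd
  refine ⟨f.rootMultiplicity 0, ?_⟩
  have h1 : Polynomial.aeval t f ∈ J := by
    rw [← Ideal.Quotient.eq_zero_iff_mem]
    have h := Polynomial.aeval_algHom_apply (Ideal.Quotient.mkₐ k J) t f
    rw [← Polynomial.aeval_def] at hf
    exact h.symm.trans hf
  have hq0 : q.coeff 0 ≠ 0 := fun h => hnd (Polynomial.X_dvd_iff.mpr h)
  have hcc : constantCoeff (Polynomial.aeval t q) = q.coeff 0 := by
    have hc : (constantCoeff (σ := Fin 2) (R := k)).comp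
        (algebraMap k (MvPowerSeries (Fin 2) k)) = RingHom.id k := by
      ext a; simp [MvPowerSeries.algebraMap_apply]
    rw [Polynomial.aeval_def, Polynomial.hom_eval₂, ht, hc, Polynomial.eval₂_id,
      ← Polynomial.coeff_zero_eq_eval_zero]
  have hu : IsUnit (Polynomial.aeval t q) := (isUnit_iff_cc k _).mpr (by rw [hcc]; exact hq0)
  obtain ⟨v, hv⟩ := hu.exists_left_inv
  have h2 : Polynomial.aeval t f = t ^ f.rootMultiplicity 0 * Polynomial.aeval t q := by
    conv_lhs => rw [hq]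
    rw [map_mul, map_pow, Polynomial.aeval_X]
  have h3 : t ^ f.rootMultiplicity 0 = v * Polynomial.aeval t f := by
    rw [h2]; linear_combination (-(t ^ f.rootMultiplicity 0)) * hv
  rw [h3]
  exact Ideal.mul_mem_left _ _ h1

/-! ### vanishing of low coefficients -/

lemma L1x (J : Ideal (MvPowerSeries (Fin 2) k))
    (hxy : (X 0 * X 1 : MvPowerSeries (Fin 2) k) ∈ J) (z : MvPowerSeries (Fin 2) k) (hz : z ∈ J)
    (i : ℕ) (h0 : ∀ l, l < i → coeff (mon l 0) z = 0) (hi : coeff (mon i 0) z ≠ 0) :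
    (X 0 : MvPowerSeries (Fin 2) k) ^ (i + 1) ∈ J := by
  obtain ⟨B, hB⟩ := X1_dvd_sub_noY k z
  obtain ⟨w, hw⟩ := X0_pow_dvd_noY' k z i h0
  have hcw : constantCoeff w ≠ 0 := by
    have := coeff_mul_x_pow w i i 0
    rw [if_pos le_rfl, Nat.sub_self, mon_zero_zero] at this
    rw [← coeff_zero_eq_constantCoeff_apply, ← this, mul_comm, ← hw, coeff_noY, if_pos (by simp)]
    exact hi
  have hu : IsUnit w := (isUnit_iff_cc k w).mpr hcw
  obtain ⟨v, hv⟩ := hu.exists_left_inv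
  have : (X 0 : MvPowerSeries (Fin 2) k) ^ (i + 1) = v * (X 0 * z) - v * B * (X 0 * X 1) := by
    linear_combination (-(v * X 0)) * hB - (v * X 0) * hw - X 0 ^ (i + 1) * hv
  rw [this]
  exact Ideal.sub_mem _ (Ideal.mul_mem_left _ _ (Ideal.mul_mem_left _ _ hz))
    (Ideal.mul_mem_left _ _ hxy)

lemma L1x' (J : Ideal (MvPowerSeries (Fin 2) k))
    (hxy : (X 0 * X 1 : MvPowerSeries (Fin 2) k) ∈ J) (a' : ℕ)
    (ha' : (X 0 : MvPowerSeries (Fin 2) k) ^ a' ∉ J) (z : MvPowerSeries (Fin 2) k) (hz : z ∈ J) :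
    ∀ i, i < a' → coeff (mon i 0) z = 0 := by
  intro i
  induction i using Nat.strong_induction_on with
  | _ i ih =>
    intro hi
    by_contra hne
    have h := L1x k J hxy z hz i (fun l hl => ih l hl (by omega)) hne
    apply ha'
    have e : a' = (a' - (i + 1)) + (i + 1) := by omega
    rw [e, pow_add]
    exact Ideal.mul_mem_left _ _ h

lemma L1y' (J : Ideal (MvPowerSeries (Fin 2) k))
    (hxy : (X 0 * X 1 : MvPowerSeries (Fin 2) k) ∈ J) (b' : ℕ)
    (hb' : (X 1 : MvPowerSeries (Fin 2) k) ^ b' ∉ J) (z : MvPowerSeries (Fin 2) k) (hz : z ∈ J) :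
    ∀ j, j < b' → coeff (mon 0 j) z = 0 := by
  intro j hj
  have h := L1x' k (swapI k J) (xy_mem_swapI k J hxy) b'
    (fun h => hb' ((X0_pow_mem_swapI k J _).mp h)) (swapE k z)
    ((swapE_mem_swapI k J z).mpr hz) j hj
  rw [coeff_swapE] at h
  exact h

lemma J0_le (J : Ideal (MvPowerSeries (Fin 2) k))
    (hxy : (X 0 * X 1 : MvPowerSeries (Fin 2) k) ∈ J) (a b : ℕ)
    (ha : (X 0 : MvPowerSeries (Fin 2) k) ^ a ∈ J)
    (hb : (X 1 : MvPowerSeries (Fin 2) k) ^ b ∈ J) :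
    Ideal.span ({X 0 * X 1, X 0 ^ a, X 1 ^ b} : Set (MvPowerSeries (Fin 2) k)) ≤ J := by
  rw [Ideal.span_le]
  intro t ht
  simp only [Set.mem_insert_iff, Set.mem_singleton_iff] at ht
  rcases ht with rfl | rfl | rfl
  · exact hxy
  · exact ha
  · exact hb

lemma L2 (J : Ideal (MvPowerSeries (Fin 2) k))
    (hxy : (X 0 * X 1 : MvPowerSeries (Fin 2) k) ∈ J) (a' b' : ℕ)
    (ha : (X 0 : MvPowerSeries (Fin 2) k) ^ (a' + 1) ∈ J)
    (ha' : (X 0 : MvPowerSeries (Fin 2) k) ^ a' ∉ J)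
    (hb : (X 1 : MvPowerSeries (Fin 2) k) ^ (b' + 1) ∈ J)
    (hb' : (X 1 : MvPowerSeries (Fin 2) k) ^ b' ∉ J)
    (z : MvPowerSeries (Fin 2) k) (hz : z ∈ J) (hmz : coeff (mon 0 b') z = 0) :
    coeff (mon a' 0) z = 0 := by
  by_contra hlz
  obtain ⟨lam, hlam⟩ : ∃ l, l = coeff (mon a' 0) z := ⟨_, rfl⟩
  rw [← hlam] at hlz
  have hJ0 := J0_le k J hxy _ _ ha hb
  have hw : z - C lam * X 0 ^ a' ∈ Ideal.span
      ({X 0 * X 1, X 0 ^ (a' + 1), X 1 ^ (b' + 1)} : Set (MvPowerSeries (Fin 2) k)) := by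
    apply K1
    · intro i hi
      rw [map_sub, coeff_C_mul, coeff_X0_pow]
      by_cases hia : i = a'
      · rw [if_pos ⟨hia, rfl⟩, mul_one, hia, ← hlam, sub_self]
      · rw [if_neg (fun h => hia h.1), mul_zero, sub_zero]
        exact L1x' k J hxy a' ha' z hz i (by omega)
    · intro j hj
      rw [map_sub, coeff_C_mul, coeff_X0_pow, if_neg (fun h => by omega), mul_zero, sub_zero]
      by_cases hjb : j + 1 = b'
      · rw [hjb]; exact hmz
      · exact L1y' k J hxy b' hb' z hz (j + 1) (by omega)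
  have h3 : C lam * X 0 ^ a' ∈ J := by
    have := Ideal.sub_mem J hz (hJ0 hw); rwa [sub_sub_cancel] at this
  apply ha'
  have : (X 0 : MvPowerSeries (Fin 2) k) ^ a' = C lam⁻¹ * (C lam * X 0 ^ a') := by
    rw [← mul_assoc, ← map_mul, inv_mul_cancel₀ hlz, map_one, one_mul]
  rw [this]; exact Ideal.mul_mem_left _ _ h3

lemma L2' (J : Ideal (MvPowerSeries (Fin 2) k))
    (hxy : (X 0 * X 1 : MvPowerSeries (Fin 2) k) ∈ J) (a' b' : ℕ)
    (ha : (X 0 : MvPowerSeries (Fin 2) k) ^ (a' + 1) ∈ J)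
    (ha' : (X 0 : MvPowerSeries (Fin 2) k) ^ a' ∉ J)
    (hb : (X 1 : MvPowerSeries (Fin 2) k) ^ (b' + 1) ∈ J)
    (hb' : (X 1 : MvPowerSeries (Fin 2) k) ^ b' ∉ J)
    (z : MvPowerSeries (Fin 2) k) (hz : z ∈ J) (hlz : coeff (mon a' 0) z = 0) :
    coeff (mon 0 b') z = 0 := by
  have h := L2 k (swapI k J) (xy_mem_swapI k J hxy) b' a'
    ((X0_pow_mem_swapI k J _).mpr hb) (fun h => hb' ((X0_pow_mem_swapI k J _).mp h))
    ((X1_pow_mem_swapI k J _).mpr ha) (fun h => ha' ((X1_pow_mem_swapI k J _).mp h))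
    (swapE k z) ((swapE_mem_swapI k J z).mpr hz) (by rw [coeff_swapE]; exact hlz)
  rw [coeff_swapE] at h
  exact h

lemma L3 (J : Ideal (MvPowerSeries (Fin 2) k))
    (hxy : (X 0 * X 1 : MvPowerSeries (Fin 2) k) ∈ J) (a' b' : ℕ)
    (ha : (X 0 : MvPowerSeries (Fin 2) k) ^ (a' + 1) ∈ J)
    (ha' : (X 0 : MvPowerSeries (Fin 2) k) ^ a' ∉ J)
    (hb : (X 1 : MvPowerSeries (Fin 2) k) ^ (b' + 1) ∈ J)
    (hb' : (X 1 : MvPowerSeries (Fin 2) k) ^ b' ∉ J)
    (w : MvPowerSeries (Fin 2) k) (hw : w ∈ J) (h0 : coeff (mon a' 0) w = 0) :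
    PhiN k (a' + 1) b' w = 0 := by
  rw [PhiN_eq_zero_iff]
  constructor
  · intro i hi
    by_cases hia : i = a'
    · rw [hia]; exact h0
    · exact L1x' k J hxy a' ha' w hw i (by omega)
  · intro j hj
    by_cases hjb : j + 1 = b'
    · rw [hjb]; exact L2' k J hxy a' b' ha ha' hb hb' w hw h0
    · exact L1y' k J hxy b' hb' w hw (j + 1) (by omega)

lemma exists_min_pow (J : Ideal (MvPowerSeries (Fin 2) k))
    [Module.Finite k (MvPowerSeries (Fin 2) k ⧸ J)] (hJ : (1 : MvPowerSeries (Fin 2) k) ∉ J)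
    (t : MvPowerSeries (Fin 2) k) (ht : constantCoeff t = 0) :
    ∃ a', t ^ (a' + 1) ∈ J ∧ t ^ a' ∉ J := by
  classical
  have hex := exists_pow_mem k J t ht
  have h0 : Nat.find hex ≠ 0 := by
    intro h0
    have := Nat.find_spec hex
    rw [h0, pow_zero] at this
    exact hJ this
  obtain ⟨a', ha'⟩ : ∃ a', Nat.find hex = a' + 1 := ⟨Nat.find hex - 1, by omega⟩
  refine ⟨a', ?_, ?_⟩
  · have := Nat.find_spec hex; rwa [ha'] at this
  · exact Nat.find_min hex (by omega)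

/-! ### the classification -/

theorem node_ideal (J : Ideal (MvPowerSeries (Fin 2) k))
    (hxy : (MvPowerSeries.X 0 * MvPowerSeries.X 1 : MvPowerSeries (Fin 2) k) ∈ J)
    [Module.Finite k (MvPowerSeries (Fin 2) k ⧸ J)] (n : ℕ)
    (hn : Module.finrank k (MvPowerSeries (Fin 2) k ⧸ J) = n) (h2 : 2 ≤ n) :
    ∃ a b : ℕ, 1 ≤ a ∧ 1 ≤ b ∧
      ((a + b = n + 1 ∧
        J = Ideal.span {MvPowerSeries.X 0 * MvPowerSeries.X 1, MvPowerSeries.X 0 ^ a,
          MvPowerSeries.X 1 ^ b}) ∨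
       (a + b = n ∧ ∃ α : k, α ≠ 0 ∧
        J = Ideal.span {MvPowerSeries.X 0 * MvPowerSeries.X 1,
          MvPowerSeries.X 0 ^ a + MvPowerSeries.C α * MvPowerSeries.X 1 ^ b})) := by
  have hJtop : (1 : MvPowerSeries (Fin 2) k) ∉ J := by
    intro h1
    have hJ : J = ⊤ := (Ideal.eq_top_iff_one J).mpr h1
    have hs : Subsingleton (MvPowerSeries (Fin 2) k ⧸ J) := Ideal.Quotient.subsingleton_iff.mpr hJ
    have := Module.finrank_zero_of_subsingleton (R := k) (M := MvPowerSeries (Fin 2) k ⧸ J)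
    omega
  obtain ⟨a', ha, ha'⟩ := exists_min_pow k J hJtop (X 0) (constantCoeff_X 0)
  obtain ⟨b', hb, hb'⟩ := exists_min_pow k J hJtop (X 1) (constantCoeff_X 1)
  have hJ0 := J0_le k J hxy _ _ ha hb
  have hker : ∀ U, PhiN k (a' + 1) b' U = 0 → U ∈ J := by
    intro U hU
    rw [PhiN_eq_zero_iff] at hU
    exact hJ0 (K1 k (a' + 1) b' U hU.1 hU.2)
  have hdim := finrank_quot_add k J (PhiN k (a' + 1) b') (PhiN_surj k _ _) hker
  rw [hn, Module.finrank_prod, Module.finrank_fin_fun, Module.finrank_fin_fun] at hdim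
  by_cases hA : ∀ z ∈ J, coeff (mon a' 0) z = 0
  · have hΦJ : ∀ z ∈ J, PhiN k (a' + 1) b' z = 0 := fun z hz =>
      L3 k J hxy a' b' ha ha' hb hb' z hz (hA z hz)
    have hJeq : J = Ideal.span
        ({X 0 * X 1, X 0 ^ (a' + 1), X 1 ^ (b' + 1)} : Set (MvPowerSeries (Fin 2) k)) := by
      apply le_antisymm _ hJ0
      intro z hz
      have := hΦJ z hz
      rw [PhiN_eq_zero_iff] at this
      exact K1 k (a' + 1) b' z this.1 this.2
    have hW : Submodule.map (PhiN k (a' + 1) b') (J.restrictScalars k) = ⊥ := by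
      rw [eq_bot_iff]
      rintro _ ⟨z, hz, rfl⟩
      rw [Submodule.mem_bot]
      exact hΦJ z hz
    rw [hW, finrank_bot, add_zero] at hdim
    exact ⟨a' + 1, b' + 1, by omega, by omega, Or.inl ⟨by omega, hJeq⟩⟩
  · push_neg at hA
    obtain ⟨z₀, hz₀, hl0⟩ := hA
    have hm0 : coeff (mon 0 b') z₀ ≠ 0 := fun h =>
      hl0 (L2 k J hxy a' b' ha ha' hb hb' z₀ hz₀ h)
    have hcc : ∀ z ∈ J, coeff (mon 0 0) z = 0 := by
      intro z hz
      by_contra hne
      have hu : IsUnit z := (isUnit_iff_cc k z).mpr (by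
        rwa [mon_zero_zero, coeff_zero_eq_constantCoeff_apply] at hne)
      have hJ : J = ⊤ := Ideal.eq_top_of_isUnit_mem J hz hu
      exact hJtop (hJ ▸ Submodule.mem_top)
    have ha1 : a' ≠ 0 := by
      intro h; rw [h] at hl0; exact hl0 (hcc z₀ hz₀)
    have hb1 : b' ≠ 0 := by
      intro h; rw [h] at hm0; exact hm0 (hcc z₀ hz₀)
    obtain ⟨lam, hlam⟩ : ∃ l, l = coeff (mon a' 0) z₀ := ⟨_, rfl⟩
    obtain ⟨mu, hmu⟩ : ∃ m, m = coeff (mon 0 b') z₀ := ⟨_, rfl⟩
    rw [← hlam] at hl0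
    rw [← hmu] at hm0
    obtain ⟨α, hαd⟩ : ∃ α, α = lam⁻¹ * mu := ⟨_, rfl⟩
    have hα : α ≠ 0 := by rw [hαd]; exact mul_ne_zero (inv_ne_zero hl0) hm0
    have hlα : lam * α = mu := by rw [hαd, ← mul_assoc, mul_inv_cancel₀ hl0, one_mul]
    obtain ⟨g, hg⟩ : ∃ g : MvPowerSeries (Fin 2) k, g = X 0 ^ a' + C α * X 1 ^ b' := ⟨_, rfl⟩
    have cg_x : ∀ i, coeff (mon i 0) g = if i = a' then 1 else 0 := by
      intro i
      have e1 : coeff (mon i 0) ((X 1 : MvPowerSeries (Fin 2) k) ^ b') = 0 := by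
        rw [coeff_X1_pow, if_neg (fun h => hb1 h.2.symm)]
      rw [hg, map_add, coeff_C_mul, e1, mul_zero, add_zero, coeff_X0_pow]
      simp
    have cg_y : ∀ j, coeff (mon 0 (j + 1)) g = if j + 1 = b' then α else 0 := by
      intro j
      rw [hg, map_add, coeff_C_mul, coeff_X0_pow, coeff_X1_pow, if_neg (fun h => by omega)]
      simp
    have hw₀ : PhiN k (a' + 1) b' (z₀ - C lam * g) = 0 := by
      rw [PhiN_eq_zero_iff]
      constructor
      · intro i hi
        rw [map_sub, coeff_C_mul, cg_x]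
        by_cases hia : i = a'
        · rw [if_pos hia, hia, ← hlam, mul_one, sub_self]
        · rw [if_neg hia, mul_zero, sub_zero]
          exact L1x' k J hxy a' ha' z₀ hz₀ i (by omega)
      · intro j hj
        rw [map_sub, coeff_C_mul, cg_y]
        by_cases hjb : j + 1 = b'
        · rw [if_pos hjb, hjb, ← hmu, hlα, sub_self]
        · rw [if_neg hjb, mul_zero, sub_zero]
          exact L1y' k J hxy b' hb' z₀ hz₀ (j + 1) (by omega)
    have hgJ : g ∈ J := by
      have h1 : z₀ - C lam * g ∈ J := hker _ hw₀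
      have h2 : C lam * g ∈ J := by
        have := Ideal.sub_mem J hz₀ h1; rwa [sub_sub_cancel] at this
      have : g = C lam⁻¹ * (C lam * g) := by
        rw [← mul_assoc, ← map_mul, inv_mul_cancel₀ hl0, map_one, one_mul]
      rw [this]; exact Ideal.mul_mem_left _ _ h2
    have hxyJ1 : (X 0 * X 1 : MvPowerSeries (Fin 2) k) ∈
        Ideal.span ({X 0 * X 1, g} : Set (MvPowerSeries (Fin 2) k)) :=
      Ideal.subset_span (Set.mem_insert _ _)
    have hgJ1 : g ∈ Ideal.span ({X 0 * X 1, g} : Set (MvPowerSeries (Fin 2) k)) :=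
      Ideal.subset_span (Set.mem_insert_of_mem _ (Set.mem_singleton _))
    have hJ01 : Ideal.span
        ({X 0 * X 1, X 0 ^ (a' + 1), X 1 ^ (b' + 1)} : Set (MvPowerSeries (Fin 2) k)) ≤
        Ideal.span ({X 0 * X 1, g} : Set (MvPowerSeries (Fin 2) k)) := by
      apply J0_le k _ hxyJ1
      · obtain ⟨b'', hb''⟩ : ∃ b'', b' = b'' + 1 := ⟨b' - 1, by omega⟩
        have : (X 0 : MvPowerSeries (Fin 2) k) ^ (a' + 1) =
            X 0 * g - C α * X 1 ^ b'' * (X 0 * X 1) := by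
          rw [hg, hb'']; ring
        rw [this]
        exact Ideal.sub_mem _ (Ideal.mul_mem_left _ _ hgJ1) (Ideal.mul_mem_left _ _ hxyJ1)
      · obtain ⟨a'', ha''⟩ : ∃ a'', a' = a'' + 1 := ⟨a' - 1, by omega⟩
        have hc : (C α⁻¹ : MvPowerSeries (Fin 2) k) * C α = 1 := by
          rw [← map_mul, inv_mul_cancel₀ hα, map_one]
        have : (X 1 : MvPowerSeries (Fin 2) k) ^ (b' + 1) =
            C α⁻¹ * (X 1 * g) - C α⁻¹ * X 0 ^ a'' * (X 0 * X 1) := by
          rw [hg, ha'']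
          linear_combination (-(X 1 ^ (b' + 1))) * hc
        rw [this]
        exact Ideal.sub_mem _ (Ideal.mul_mem_left _ _ (Ideal.mul_mem_left _ _ hgJ1))
          (Ideal.mul_mem_left _ _ hxyJ1)
    have hred : ∀ z ∈ J, PhiN k (a' + 1) b' (z - C (coeff (mon a' 0) z) * g) = 0 := by
      intro z hz
      apply L3 k J hxy a' b' ha ha' hb hb'
      · exact Ideal.sub_mem _ hz (Ideal.mul_mem_left _ _ hgJ)
      · rw [map_sub, coeff_C_mul, cg_x, if_pos rfl, mul_one, sub_self]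
    have hJeq : J = Ideal.span ({X 0 * X 1, g} : Set (MvPowerSeries (Fin 2) k)) := by
      apply le_antisymm
      · intro z hz
        have hΦw := hred z hz
        rw [PhiN_eq_zero_iff] at hΦw
        have hw1 := hJ01 (K1 k (a' + 1) b' _ hΦw.1 hΦw.2)
        have : z = (z - C (coeff (mon a' 0) z) * g) + C (coeff (mon a' 0) z) * g := by ring
        rw [this]
        exact Ideal.add_mem _ hw1 (Ideal.mul_mem_left _ _ hgJ1)
      · rw [Ideal.span_le]
        intro t ht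
        simp only [Set.mem_insert_iff, Set.mem_singleton_iff] at ht
        rcases ht with rfl | rfl
        · exact hxy
        · exact hgJ
    have hW : Submodule.map (PhiN k (a' + 1) b') (J.restrictScalars k) =
        Submodule.span k {PhiN k (a' + 1) b' g} := by
      apply le_antisymm
      · rintro _ ⟨z, hz, rfl⟩
        rw [Submodule.mem_span_singleton]
        refine ⟨coeff (mon a' 0) z, ?_⟩
        have hΦw := hred z hz
        rw [map_sub, sub_eq_zero] at hΦw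
        rw [hΦw, ← smul_eq_C_mul, map_smul]
      · rw [Submodule.span_le, Set.singleton_subset_iff]
        exact ⟨g, hgJ, rfl⟩
    have hΦg : PhiN k (a' + 1) b' g ≠ 0 := by
      intro h
      rw [PhiN_eq_zero_iff] at h
      have := h.1 a' (by omega)
      rw [cg_x, if_pos rfl] at this
      exact one_ne_zero this
    rw [hW, finrank_span_singleton hΦg] at hdim
    refine ⟨a', b', by omega, by omega, Or.inr ⟨by omega, α, hα, ?_⟩⟩
    rw [hJeq, hg]

end

end Groth.Agent.Lib.Helper4.ArS
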