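import Mathlib
import Groth.Agent.Lib.Helper4.NodeIdeal

/-!
# Embedding `k[[x,y]]_(x)` into a complete DVR with algebraically closed residue field
-/

set_option autoImplicit false
set_option linter.style.haveILetI false
set_option linter.unusedSectionVars false
set_option linter.unusedVariables false
set_option linter.unusedSimpArgs false
set_option maxHeartbeats 1600000

universe u

namespace Groth.Agent.Lib.Helper4.ArS

open MvPowerSeries

noncomputable section

variable (k : Type u) [Field k]

/-- the big field -/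
abbrev BigL : Type u := AlgebraicClosure (FractionRing (PowerSeries k))

/-- `k[[t]] → L` -/
def iotaL : PowerSeries k →+* BigL k :=
  (algebraMap (FractionRing (PowerSeries k)) (BigL k)).comp
    (algebraMap (PowerSeries k) (FractionRing (PowerSeries k)))

lemma iotaL_inj : Function.Injective (iotaL k) := by
  have h1 : Function.Injective (algebraMap (FractionRing (PowerSeries k)) (BigL k)) :=
    (algebraMap (FractionRing (PowerSeries k)) (BigL k)).injective
  have h2 : Function.Injective (algebraMap (PowerSeries k) (FractionRing (PowerSeries k))) :=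
    IsFractionRing.injective (PowerSeries k) (FractionRing (PowerSeries k))
  exact h1.comp h2

/-- `k[[x,y]] ≃ k[[y]][[x]]`, with `x = X 0` the outer variable -/
def PsiS : MvPowerSeries (Fin 2) k ≃ₐ[k] PowerSeries (PowerSeries k) := (swapE k).trans (Psi k)

lemma PsiS_X0 : PsiS k (X 0) = PowerSeries.X := by
  show Psi k (swapE k (X 0)) = _
  rw [swapE_X0, Psi_X1]

/-- `k[[x,y]] → L[[x]]` -/
def thetaL : MvPowerSeries (Fin 2) k →+* PowerSeries (BigL k) :=
  (PowerSeries.map (iotaL k)).comp
    (PsiS k : MvPowerSeries (Fin 2) k →+* PowerSeries (PowerSeries k))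

lemma thetaL_apply (f : MvPowerSeries (Fin 2) k) :
    thetaL k f = PowerSeries.map (iotaL k) (PsiS k f) := rfl

lemma thetaL_X0 : thetaL k (X 0) = PowerSeries.X := by
  rw [thetaL_apply, PsiS_X0, PowerSeries.map_X]

lemma thetaL_inj : Function.Injective (thetaL k) := by
  intro f g h
  rw [thetaL_apply, thetaL_apply] at h
  exact (PsiS k).injective (PowerSeries.map_injective _ (iotaL_inj k) h)

lemma isUnit_thetaL_iff (f : MvPowerSeries (Fin 2) k) :
    IsUnit (thetaL k f) ↔ ¬ (X 0 : MvPowerSeries (Fin 2) k) ∣ f := by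
  have h1 : IsUnit (thetaL k f) ↔ PowerSeries.constantCoeff (PsiS k f) ≠ 0 := by
    rw [PowerSeries.isUnit_iff_constantCoeff, isUnit_iff_ne_zero, thetaL_apply]
    have : PowerSeries.constantCoeff (PowerSeries.map (iotaL k) (PsiS k f)) =
        iotaL k (PowerSeries.constantCoeff (PsiS k f)) := by
      rw [← PowerSeries.coeff_zero_eq_constantCoeff_apply, PowerSeries.coeff_map,
        PowerSeries.coeff_zero_eq_constantCoeff_apply]
    rw [this, ne_eq, ne_eq, map_eq_zero_iff _ (iotaL_inj k)]
  have h2 : PowerSeries.constantCoeff (PsiS k f) = 0 ↔ (X 0 : MvPowerSeries (Fin 2) k) ∣ f := by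
    rw [← PowerSeries.X_dvd_iff, ← PsiS_X0 k, map_dvd_iff]
  rw [h1, ne_eq, h2]

theorem dvr_embed (P : Ideal (MvPowerSeries (Fin 2) k))
    (hP : P = Ideal.span {(MvPowerSeries.X 0 : MvPowerSeries (Fin 2) k)}) [P.IsPrime] :
    ∃ (A : Type u) (_ : CommRing A) (_ : IsDomain A) (_ : IsDiscreteValuationRing A)
      (_ : Algebra k A) (φ : Localization.AtPrime P →ₐ[k] A),
      IsAdicComplete (IsLocalRing.maximalIdeal A) A ∧ IsAlgClosed (IsLocalRing.ResidueField A) ∧
        Function.Injective φ ∧ IsLocalHom φ.toRingHom ∧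
          Irreducible (φ (algebraMap (MvPowerSeries (Fin 2) k) (Localization.AtPrime P)
            (MvPowerSeries.X 0))) := by
  have hmem : ∀ f, f ∈ P ↔ (X 0 : MvPowerSeries (Fin 2) k) ∣ f := by
    intro f; rw [hP, Ideal.mem_span_singleton]
  have hunits : ∀ y : P.primeCompl, IsUnit (thetaL k y) := by
    intro y; rw [isUnit_thetaL_iff, ← hmem]; exact y.2
  obtain ⟨φr, hφr⟩ : ∃ φr : Localization.AtPrime P →+* PowerSeries (BigL k),
      ∀ x, φr (algebraMap _ _ x) = thetaL k x :=
    ⟨IsLocalization.lift hunits, IsLocalization.lift_eq hunits⟩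
  have hspec : ∀ (f : MvPowerSeries (Fin 2) k) (s : P.primeCompl),
      φr (IsLocalization.mk' (Localization.AtPrime P) f s) * thetaL k s = thetaL k f := by
    intro f s
    have h2 := congrArg φr (IsLocalization.mk'_spec (Localization.AtPrime P) f s)
    rw [map_mul, hφr, hφr] at h2
    exact h2
  letI alg : Algebra k (PowerSeries (BigL k)) :=
    (φr.comp (algebraMap k (Localization.AtPrime P))).toAlgebra
  let φ : Localization.AtPrime P →ₐ[k] PowerSeries (BigL k) :=
    { φr with commutes' := fun c => rfl }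
  have hφ : ∀ z, φ z = φr z := fun z => rfl
  refine ⟨PowerSeries (BigL k), inferInstance, inferInstance, inferInstance, alg, φ,
    ?_, ?_, ?_, ?_, ?_⟩
  · rw [PowerSeries.maximalIdeal_eq_span_X]
    infer_instance
  · exact IsAlgClosed.of_ringEquiv _ _ (PowerSeries.residueFieldOfPowerSeries (k := BigL k)).symm
  · rw [injective_iff_map_eq_zero]
    intro z hz
    rw [hφ] at hz
    obtain ⟨f, s, rfl⟩ := IsLocalization.exists_mk'_eq P.primeCompl z
    have h1 := hspec f s
    rw [hz, zero_mul] at h1
    have hf : f = 0 := thetaL_inj k (by rw [← h1, map_zero])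
    rw [hf, IsLocalization.mk'_zero]
  · refine ⟨fun z hz => ?_⟩
    have hz' : IsUnit (φr z) := hz
    obtain ⟨f, s, rfl⟩ := IsLocalization.exists_mk'_eq P.primeCompl z
    have hf : IsUnit (thetaL k f) := by
      rw [← hspec f s]; exact hz'.mul (hunits s)
    rw [isUnit_thetaL_iff, ← hmem] at hf
    have hfu : IsUnit (algebraMap _ (Localization.AtPrime P) f) :=
      IsLocalization.map_units _ (⟨f, hf⟩ : P.primeCompl)
    rw [← IsLocalization.mk'_spec (Localization.AtPrime P) f s] at hfu
    exact isUnit_of_mul_isUnit_left hfu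
  · rw [hφ, hφr, thetaL_X0]
    exact PowerSeries.X_irreducible

end

end Groth.Agent.Lib.Helper4.ArS
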