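import Mathlib
import Groth.Prelude
import Groth.Agent.Lib.Helper22.ArtinFlat

/-!
# Flatness of a quotient of a flat algebra over the dual numbers

Algebra core of R3 (helper18, S12274 + S12272): if `B` is flat over `k[ε]` and `J ⊆ B` is an ideal
with `J ∩ εB ⊆ εJ`, then `B/J` is flat over `k[ε]`.
-/

set_option autoImplicit false
set_option linter.style.haveILetI false
universe u
open TensorProduct

namespace Groth.Agent.Lib.Helper4.EmbFlatAlg

section general

variable {R : Type u} [CommRing R] (m : Ideal R) {M N : Type u} [AddCommGroup M] [Module R M]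
  [AddCommGroup N] [Module R N]

theorem exists_one_tmul (z : (R ⧸ m) ⊗[R] M) : ∃ x : M, z = (1 : R ⧸ m) ⊗ₜ[R] x := by
  induction z using TensorProduct.induction_on with
  | zero => exact ⟨0, (TensorProduct.tmul_zero _ _).symm⟩
  | tmul a x =>
    obtain ⟨r, rfl⟩ := Ideal.Quotient.mk_surjective a
    refine ⟨r • x, ?_⟩
    have h1 : Ideal.Quotient.mk m r = r • (1 : R ⧸ m) := by
      rw [Algebra.smul_def, mul_one]; rfl
    rw [h1, TensorProduct.smul_tmul]
  | add z w hz hw =>
    obtain ⟨x, rfl⟩ := hz
    obtain ⟨y, rfl⟩ := hw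
    exact ⟨x + y, (TensorProduct.tmul_add _ _ _).symm⟩

theorem lTensor_quot_injective (f : M →ₗ[R] N)
    (h : ∀ x : M, f x ∈ (m • ⊤ : Submodule R N) → x ∈ (m • ⊤ : Submodule R M)) :
    Function.Injective (f.lTensor (R ⧸ m)) := by
  rw [injective_iff_map_eq_zero]
  intro z hz
  obtain ⟨x, rfl⟩ := exists_one_tmul m z
  rw [LinearMap.lTensor_tmul] at hz
  have h1 : f x ∈ (m • ⊤ : Submodule R N) := by
    have := congrArg (TensorProduct.quotTensorEquivQuotSMul N m) hz
    rw [TensorProduct.quotTensorEquivQuotSMul_mk_one_tmul, map_zero,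
      Submodule.Quotient.mk_eq_zero] at this
    exact this
  have h2 := h x h1
  apply (TensorProduct.quotTensorEquivQuotSMul M m).injective
  rw [TensorProduct.quotTensorEquivQuotSMul_mk_one_tmul, map_zero, Submodule.Quotient.mk_eq_zero]
  exact h2

end general

open IsLocalRing in
/-- the algebra core: a quotient `B/J` of a flat `k[ε]`-algebra `B` with `J ∩ εB ⊆ εJ` is flat. -/
theorem flat_comp_of_dual {k : Type u} [Field k] {B C : Type u} [CommRing B] [CommRing C]
    (a : DualNumber k →+* B) (ha : a.Flat) (q : B →+* C) (hq : Function.Surjective q)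
    (hJ : ∀ b : B, q (a DualNumber.eps * b) = 0 →
      ∃ j : B, q j = 0 ∧ a DualNumber.eps * b = a DualNumber.eps * j) :
    (q.comp a).Flat := by
  letI : Algebra (DualNumber k) B := a.toAlgebra
  letI : Algebra (DualNumber k) C := (q.comp a).toAlgebra
  haveI : Module.Flat (DualNumber k) B := ha
  haveI : IsArtinianRing (DualNumber k) := ArtFun.Art.isArtinianRing_tsze k k
  change Module.Flat (DualNumber k) C
  have hsB : ∀ (d : DualNumber k) (b : B), d • b = a d * b := fun d b => rfl
  have hsC : ∀ (d : DualNumber k) (c : C), d • c = q (a d) * c := fun d c => rfl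
  let g : B →ₗ[DualNumber k] C :=
    { toFun := q
      map_add' := map_add q
      map_smul' := fun d b => by
        rw [hsB, map_mul, RingHom.id_apply, hsC] }
  have hg : ∀ b, g b = q b := fun b => rfl
  have hm : maximalIdeal (DualNumber k) = Ideal.span {(DualNumber.eps : DualNumber k)} :=
    (IsLocalRing.eq_maximalIdeal DualNumber.isMaximal_span_singleton_eps).symm
  have hεm : (DualNumber.eps : DualNumber k) ∈ maximalIdeal (DualNumber k) := by
    rw [hm]; exact Ideal.mem_span_singleton_self _
  have key : ∀ x : LinearMap.ker g,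
      (LinearMap.ker g).subtype x ∈ (maximalIdeal (DualNumber k) • ⊤ : Submodule (DualNumber k) B) →
      x ∈ (maximalIdeal (DualNumber k) • ⊤ : Submodule (DualNumber k) (LinearMap.ker g)) := by
    rintro ⟨b0, hb0⟩ hx
    have hP : ∀ b ∈ (maximalIdeal (DualNumber k) • ⊤ : Submodule (DualNumber k) B),
        ∃ b' : B, b = a DualNumber.eps * b' := by
      intro b hb
      refine Submodule.smul_induction_on hb ?_ ?_
      · intro r hr n _
        rw [hm, Ideal.mem_span_singleton'] at hr
        obtain ⟨c, rfl⟩ := hr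
        exact ⟨a c * n, by rw [hsB, map_mul]; ring⟩
      · rintro _ _ ⟨b1, rfl⟩ ⟨b2, rfl⟩
        exact ⟨b1 + b2, by ring⟩
    obtain ⟨b', hb'⟩ := hP b0 hx
    have hb0' : q b0 = 0 := hb0
    change b0 = _ at hb'
    obtain ⟨j, hj, hbj⟩ := hJ b' (by rw [← hb']; exact hb0')
    have hjm : j ∈ LinearMap.ker g := hj
    have hx' : (⟨b0, hb0⟩ : LinearMap.ker g) = (DualNumber.eps : DualNumber k) • ⟨j, hjm⟩ := by
      apply Subtype.ext
      change b0 = a DualNumber.eps * j
      rw [hb', hbj]
    rw [hx']
    exact Submodule.smul_mem_smul hεm Submodule.mem_top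
  have hk : Function.Injective
      ((LinearMap.ker g).subtype.lTensor (ResidueField (DualNumber k))) :=
    lTensor_quot_injective (maximalIdeal (DualNumber k)) (LinearMap.ker g).subtype key
  exact Groth.Agent.Lib.Helper22.ArtinFlat.flat_of_exact_of_quotient_injective
    (LinearMap.ker g).subtype g hq (LinearMap.exact_subtype_ker_map g)
    (fun I => Groth.Agent.Lib.Helper22.ArtinFlat.lTensor_injective_of_residue
      (LinearMap.ker g).subtype hk (DualNumber k ⧸ I))

end Groth.Agent.Lib.Helper4.EmbFlatAlg
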