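import Mathlib
import Groth.Agent.Lib.Helper18.EmbK
import Groth.Agent.Lib.Helper18.EmbI
import Groth.Agent.Lib.Helper17.DefH0A
import Groth.Agent.Lib.Helper26.DualNumFlat
import Groth.Agent.Lib.Helper4.EmbFlatAlg

/-!
# R3 (helper18, S12274 + S12272): the first-order embedded deformation attached to `φ` is flat
-/

set_option autoImplicit false
set_option linter.style.haveILetI false
set_option linter.unusedSectionVars false
universe u

open CategoryTheory CategoryTheory.Limits AlgebraicGeometry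
open ArtFun ArtFun.Art Groth.Agent.Lib.Helper18 Groth.Agent.Lib.Helper18.EmbK
open Groth.Agent.Lib.Helper20.DualSect
open Groth.Agent.Lib.Helper18.EmbA Groth.Agent.Lib.Helper3 Groth.Agent.Lib.Helper28.Pinch

namespace Groth.Agent.Lib.Helper4.EmbFlatR3

variable {k : Type u} [Field k] {X : Scheme.{u}} {x : X ⟶ specPt k}

/-- restriction to the closed fibre on sections over `W` -/
noncomputable def TW (W : (XA x (dual k k)).Opens) : Γ(XA x (dual k k), W) ⟶ Γ(X, trU W) :=
  (XAincl x (dual k k)).app W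

lemma PW_TW (W : (XA x (dual k k)).Opens) : PW W ≫ TW W = 𝟙 _ := by
  unfold PW TW
  rw [Scheme.Hom.app_eq_appLE, Scheme.Hom.appLE_comp_appLE,
    appLE_congr' (XAincl_fst x (dual k k))]
  simp only [Scheme.Hom.appLE, Scheme.Hom.id_app]
  exact X.presheaf.map_id _

lemma TW_PW (W : (XA x (dual k k)).Opens) (r : Γ(X, trU W)) :
    (TW W).hom ((PW W).hom r) = r :=
  ConcreteCategory.congr_hom (PW_TW W) r

lemma aW_TW (W : (XA x (dual k k)).Opens) : aW W ≫ TW W =
    CommRingCat.ofHom (dual k k).res.toRingHom ≫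
      (Scheme.ΓSpecIso (CommRingCat.of k)).inv ≫ x.appLE ⊤ (trU W) le_top := by
  have h1 : (XApr x (dual k k)).appLE ⊤ W le_top ≫ (XAincl x (dual k k)).app W =
      (specRes (dual k k)).appLE ⊤ ⊤ le_top ≫ x.appLE ⊤ (trU W) le_top := by
    have e1 : (XAincl x (dual k k)).app W =
        (XAincl x (dual k k)).appLE W (trU W) le_rfl := Scheme.Hom.app_eq_appLE _
    have e2 := Scheme.Hom.appLE_comp_appLE (XAincl x (dual k k)) (XApr x (dual k k)) ⊤ W (trU W)
      le_top le_rfl
    have e3 := Scheme.Hom.appLE_comp_appLE x (specRes (dual k k)) ⊤ ⊤ (trU W) le_top le_top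
    rw [e1, e2, e3]
    exact appLE_congr' (XAincl_snd x (dual k k)) _ _ _
  have h2 : (Scheme.ΓSpecIso (CommRingCat.of (dual k k))).inv ≫
      (specRes (dual k k)).appLE ⊤ ⊤ le_top =
      CommRingCat.ofHom (dual k k).res.toRingHom ≫ (Scheme.ΓSpecIso (CommRingCat.of k)).inv := by
    have := Scheme.ΓSpecIso_inv_naturality (CommRingCat.ofHom (dual k k).res.toRingHom)
    rw [this]
    congr 1
  change ((Scheme.ΓSpecIso (CommRingCat.of (dual k k))).inv ≫
    (XApr x (dual k k)).appLE ⊤ W le_top) ≫ (XAincl x (dual k k)).app W = _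
  rw [Category.assoc, h1, ← Category.assoc, h2, Category.assoc]

lemma TW_eps (W : (XA x (dual k k)).Opens) : (TW W).hom (epsW W) = 0 := by
  have h2 := ConcreteCategory.congr_hom (aW_TW W) (epsD (k := k))
  have h3 : (dual k k).res (epsD (k := k)) = 0 := rfl
  change (TW W).hom ((aW W).hom epsD) = _ at h2
  rw [show epsW W = (aW W).hom epsD from rfl, h2]
  change ((Scheme.ΓSpecIso (CommRingCat.of k)).inv ≫ x.appLE ⊤ (trU W) le_top).hom
    ((dual k k).res epsD) = 0
  rw [h3, map_zero]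

lemma flat_aW {W : (XA x (dual k k)).Opens} (hW : IsAffineOpen W) : (aW W).hom.Flat := by
  haveI : Flat x := Groth.Agent.Lib.Helper17.DefH0A.flat_to_field X x
  haveI : Flat (XApr x (dual k k)) := inferInstance
  have h1 : ((XApr x (dual k k)).appLE ⊤ W le_top).hom.Flat :=
    HasRingHomProperty.appLE @Flat (XApr x (dual k k)) inferInstance
      ⟨⊤, isAffineOpen_top _⟩ ⟨W, hW⟩ le_top
  unfold aW
  rw [CommRingCat.hom_comp]
  exact RingHom.Flat.comp
    (RingHom.Flat.of_bijective (ConcreteCategory.bijective_of_isIso _)) h1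

lemma eq_zero_of_eps_mul_PW {W : (XA x (dual k k)).Opens} (hW : IsAffineOpen W)
    (v : Γ(X, trU W)) (hv : epsW W * (PW W).hom v = 0) : v = 0 := by
  have h1 := Groth.Agent.Lib.Helper26.DualNumFlat.mem_span_eps_of_eps_mul_eq_zero
    (k := k) (C := Γ(XA x (dual k k), W)) (aW W).hom (flat_aW hW) ((PW W).hom v) hv
  rw [Ideal.mem_span_singleton'] at h1
  obtain ⟨c, hc⟩ := h1
  have hc' : c * epsW W = (PW W).hom v := hc
  have h2 := congrArg (TW W).hom hc'
  rw [map_mul, TW_PW, TW_eps, mul_zero] at h2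
  exact h2.symm

lemma exists_mem_J_eps_mul_eq (I₀ : X.IdealSheafData)
    (φ : ClSub.idealMod I₀ ⟶ ClSub.quotMod I₀)
    {W : (XA x (dual k k)).Opens} (hW : IsAffineOpen W) (b : Γ(XA x (dual k k), W))
    (hb : epsW W * b ∈ J I₀ φ hW) :
    ∃ j ∈ J I₀ φ hW, epsW W * b = epsW W * j := by
  obtain ⟨f, g, rfl⟩ := exists_decompW hW b
  obtain ⟨s, g', hsg, hcond⟩ := hb
  have hεε := epsW_mul_self W
  have h1 : (PW W).hom (IdealMod.val I₀ s) + epsW W * (PW W).hom (g' - f) = 0 := by
    rw [map_sub, mul_sub]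
    linear_combination (-1 : Γ(XA x (dual k k), W)) * hsg + (PW W).hom g * hεε
  have hval : IdealMod.val I₀ s = 0 := by
    have h2 := congrArg (TW W).hom h1
    rw [map_add, map_mul, TW_PW, TW_eps, zero_mul, add_zero, map_zero] at h2
    exact h2
  have hgf : g' - f = 0 := by
    apply eq_zero_of_eps_mul_PW hW
    rw [hval, map_zero, zero_add] at h1
    exact h1
  have hv0 : IdealMod.val I₀ (0 : Γ(ClSub.idealMod I₀, trU W)) = 0 := by
    have h := IdealMod.val_add I₀ (0 : Γ(ClSub.idealMod I₀, trU W)) 0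
    rw [add_zero] at h
    exact left_eq_add.mp h
  have hs0 : s = 0 := by
    apply IdealMod.val_injective I₀ (trU W)
    rw [hval, hv0]
  have hιf : (I₀.subschemeι.app (trU W)).hom f = 0 := by
    have hg'f : g' = f := sub_eq_zero.mp hgf
    rw [hs0, map_zero, fromQ_zero, add_zero, hg'f] at hcond
    exact hcond
  obtain ⟨s', hs'⟩ := IdealMod.exists_val_eq I₀ f hιf
  obtain ⟨g'', hg''⟩ := I₀.subschemeι_app_surjective ⟨trU W, isAffineOpen_trU hW⟩
    (- fromQ (trU W) (φ.app (trU W) s'))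
  refine ⟨(PW W).hom (IdealMod.val I₀ s') + epsW W * (PW W).hom g'', ⟨s', g'', rfl, ?_⟩, ?_⟩
  · have hg3 : (I₀.subschemeι.app (trU W)).hom g'' = - fromQ (trU W) (φ.app (trU W) s') := hg''
    rw [hg3]
    exact neg_add_cancel _
  · rw [hs']
    linear_combination ((PW W).hom g - (PW W).hom g'') * hεε

/-- **R3**: the closed subscheme cut out by the `J W` is flat over `Spec k[ε]`. -/
theorem flatOver_of_ideal_eq (I₀ : X.IdealSheafData)
    (φ : ClSub.idealMod I₀ ⟶ ClSub.quotMod I₀) (I : (XA x (dual k k)).IdealSheafData)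
    (hI : ∀ W : (XA x (dual k k)).affineOpens, I.ideal W = J I₀ φ W.2) :
    FlatOver X x (dual k k) I := by
  unfold FlatOver
  have hU : ⨆ W : (XA x (dual k k)).affineOpens,
      ((⟨I.subschemeι ⁻¹ᵁ W.1, W.2.preimage I.subschemeι⟩ : I.subscheme.affineOpens) :
        I.subscheme.Opens) = ⊤ := by
    rw [eq_top_iff]
    intro z _
    obtain ⟨W, hW, hzW, -⟩ := AlgebraicGeometry.exists_isAffineOpen_mem_and_subset
      (x := I.subschemeι z) (U := ⊤) trivial
    exact TopologicalSpace.Opens.mem_iSup.mpr ⟨⟨W, hW⟩, hzW⟩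
  rw [HasRingHomProperty.iff_of_iSup_eq_top (P := @Flat) _ hU]
  rintro ⟨W, hW⟩
  have hdecomp : (I.subschemeι ≫ XApr x (dual k k)).appLE ⊤ (I.subschemeι ⁻¹ᵁ W) le_top =
      (Scheme.ΓSpecIso (CommRingCat.of (dual k k))).hom ≫ aW W ≫ I.subschemeι.app W := by
    have e1 : I.subschemeι.app W = I.subschemeι.appLE W (I.subschemeι ⁻¹ᵁ W) le_rfl :=
      Scheme.Hom.app_eq_appLE _
    have e2 := Scheme.Hom.appLE_comp_appLE I.subschemeι (XApr x (dual k k)) ⊤ W
      (I.subschemeι ⁻¹ᵁ W) le_top le_rfl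
    change _ = (Scheme.ΓSpecIso (CommRingCat.of (dual k k))).hom ≫
      ((Scheme.ΓSpecIso (CommRingCat.of (dual k k))).inv ≫
        (XApr x (dual k k)).appLE ⊤ W le_top) ≫ I.subschemeι.app W
    rw [Category.assoc, Iso.hom_inv_id_assoc, e1, e2]
  have hflat2 : ((I.subschemeι.app W).hom.comp (aW W).hom).Flat := by
    refine Groth.Agent.Lib.Helper4.EmbFlatAlg.flat_comp_of_dual (k := k)
      (B := Γ(XA x (dual k k), W)) (aW W).hom (flat_aW hW) (I.subschemeι.app W).hom
      (I.subschemeι_app_surjective ⟨W, hW⟩) ?_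
    intro b hb
    have hb' : epsW W * b ∈ J I₀ φ hW := by
      rw [← hI ⟨W, hW⟩, ← I.ker_subschemeι_app ⟨W, hW⟩, RingHom.mem_ker]
      exact hb
    obtain ⟨j, hj, hbj⟩ := exists_mem_J_eps_mul_eq I₀ φ hW b hb'
    refine ⟨j, ?_, hbj⟩
    have hj' : j ∈ RingHom.ker (I.subschemeι.app W).hom := by
      rw [I.ker_subschemeι_app ⟨W, hW⟩, hI ⟨W, hW⟩]
      exact hj
    exact hj'
  change ((I.subschemeι ≫ XApr x (dual k k)).appLE ⊤ (I.subschemeι ⁻¹ᵁ W) le_top).hom.Flat
  rw [hdecomp, CommRingCat.hom_comp, CommRingCat.hom_comp]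
  exact RingHom.Flat.comp
    (RingHom.Flat.of_bijective (ConcreteCategory.bijective_of_isIso _)) hflat2

end Groth.Agent.Lib.Helper4.EmbFlatR3
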