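import Mathlib

set_option autoImplicit false
set_option linter.style.haveILetI false
set_option linter.unusedSectionVars false
set_option linter.unusedVariables false
set_option linter.unusedSimpArgs false
set_option maxHeartbeats 1600000
set_option maxSynthPendingDepth 3

universe u

open scoped TensorProduct
open KaehlerDifferential

namespace Groth.Agent.Lib.Helper4.EtaEtale

/-- a surjection of f.g. projectives with the same local ranks is injective -/
theorem injective_of_surjective_of_rankAtStalk_eq {T : Type*} [CommRing T] {M N : Type*}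
    [AddCommGroup M] [AddCommGroup N] [Module T M] [Module T N]
    [Module.Finite T M] [Module.Projective T M] [Module.Finite T N] [Module.Projective T N]
    (g : M →ₗ[T] N) (hg : Function.Surjective g)
    (hrank : ∀ q : PrimeSpectrum T, Module.rankAtStalk (R := T) M q = Module.rankAtStalk (R := T) N q) :
    Function.Injective g := by
  obtain ⟨s, hs⟩ := Module.projective_lifting_property g LinearMap.id hg
  have hgs : ∀ y, g (s y) = y := fun y => LinearMap.congr_fun hs y
  let r : M →ₗ[T] LinearMap.ker g :=
    LinearMap.codRestrict (LinearMap.ker g) (LinearMap.id - s ∘ₗ g) (fun x => by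
      rw [LinearMap.mem_ker]; simp [hgs])
  have hr : ∀ k : LinearMap.ker g, r k = k := by
    intro k
    apply Subtype.ext
    have hk : g k = 0 := k.2
    simp [r, hk]
  haveI : Module.Finite T (LinearMap.ker g) :=
    Module.Finite.of_surjective r (fun k => ⟨k, hr k⟩)
  haveI : Module.Projective T (LinearMap.ker g) :=
    Module.Projective.of_split (LinearMap.ker g).subtype r (LinearMap.ext hr)
  let e : M ≃ₗ[T] N × LinearMap.ker g :=
    LinearEquiv.ofLinear (g.prod r) (s.coprod (LinearMap.ker g).subtype)
      (by
        apply LinearMap.ext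
        rintro ⟨y, k⟩
        have hk : g k = 0 := k.2
        apply Prod.ext
        · simp [hgs, hk]
        · apply Subtype.ext
          simp [r, hgs, hk])
      (by
        apply LinearMap.ext
        intro x
        simp [r])
  have h1 := Module.rankAtStalk_eq_of_equiv e
  rw [Module.rankAtStalk_prod] at h1
  have h2 : Module.rankAtStalk (R := T) (LinearMap.ker g) = 0 := by
    funext q
    have := congrFun h1 q
    simp only [Pi.add_apply] at this
    have h3 := hrank q
    simp only [Pi.zero_apply]
    omega
  haveI : Subsingleton (LinearMap.ker g) := Module.rankAtStalk_eq_zero_iff_subsingleton.mp h2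
  rw [← LinearMap.ker_eq_bot]
  exact Submodule.subsingleton_iff_eq_bot.mp inferInstance

theorem rankAtStalk_kaehler_of_locally (K Q : Type u) [CommRing K] [CommRing Q] [Algebra K Q]
    (d : ℕ)
    (h : RingHom.Locally (RingHom.IsStandardSmoothOfRelativeDimension d) (algebraMap K Q))
    [Module.Finite Q Ω[Q⁄K]] [Module.Flat Q Ω[Q⁄K]] (q : PrimeSpectrum Q) :
    Module.rankAtStalk Ω[Q⁄K] q = d := by
  obtain ⟨s, hs, hP⟩ := h
  obtain ⟨t, hts, htq⟩ : ∃ t ∈ s, t ∉ q.asIdeal := by
    by_contra hcon
    push_neg at hcon
    have : Ideal.span s ≤ q.asIdeal := Ideal.span_le.mpr hcon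
    rw [hs] at this
    exact q.2.ne_top (top_le_iff.mp this)
  have hP' := hP t hts
  rw [← IsScalarTower.algebraMap_eq K Q (Localization.Away t)] at hP'
  haveI : Algebra.IsStandardSmoothOfRelativeDimension d K (Localization.Away t) :=
    (RingHom.isStandardSmoothOfRelativeDimension_algebraMap d).mp hP'
  haveI : Algebra.IsStandardSmooth K (Localization.Away t) :=
    Algebra.IsStandardSmoothOfRelativeDimension.isStandardSmooth d
  haveI : Algebra.FormallyEtale Q (Localization.Away t) :=
    Algebra.FormallyEtale.of_isLocalization (Submonoid.powers t)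
  obtain ⟨q', hq'⟩ : ∃ q' : PrimeSpectrum (Localization.Away t),
      PrimeSpectrum.comap (algebraMap Q (Localization.Away t)) q' = q := by
    have : q ∈ Set.range (PrimeSpectrum.comap (algebraMap Q (Localization.Away t))) := by
      rw [PrimeSpectrum.localization_away_comap_range (Localization.Away t) t]
      exact htq
    exact this
  haveI : Nontrivial (Localization.Away t) := by
    by_contra hn
    rw [not_nontrivial_iff_subsingleton] at hn
    exact q'.2.ne_top ((Ideal.eq_top_iff_one _).mpr
      (by rw [Subsingleton.elim (1 : Localization.Away t) 0]; exact Ideal.zero_mem _))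
  have h1 := Module.rankAtStalk_isBaseChange
    (KaehlerDifferential.isBaseChange_of_formallyEtale K Q (Localization.Away t)) q'
  rw [hq'] at h1
  rw [← h1]
  have h2 : Module.rankAtStalk Ω[Localization.Away t⁄K] q' =
      Module.finrank (Localization.Away t) Ω[Localization.Away t⁄K] := by
    rw [Module.rankAtStalk_eq_finrank_of_free]; rfl
  rw [h2]
  exact Module.finrank_eq_of_rank_eq
    (Algebra.IsStandardSmoothOfRelativeDimension.rank_kaehlerDifferential d)

theorem formallySmooth_of_rank (K P T : Type u) [CommRing K] [CommRing P] [CommRing T]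
    [Algebra K P] [Algebra K T] [Algebra P T] [IsScalarTower K P T]
    [Algebra.FormallySmooth K T]
    [Module.Finite P Ω[P⁄K]] [Module.Projective P Ω[P⁄K]] [Module.Finite T Ω[T⁄K]]
    (d : ℕ) (hP : ∀ q : PrimeSpectrum P, Module.rankAtStalk (R := P) Ω[P⁄K] q = d)
    (hT : ∀ q : PrimeSpectrum T, Module.rankAtStalk (R := T) Ω[T⁄K] q = d)
    [Subsingleton Ω[T⁄P]] : Algebra.FormallySmooth P T := by
  have hsurj : Function.Surjective (KaehlerDifferential.mapBaseChange K P T) := by
    intro y
    exact (KaehlerDifferential.exact_mapBaseChange_map K P T y).mp (Subsingleton.elim _ _)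
  have hinj : Function.Injective (KaehlerDifferential.mapBaseChange K P T) := by
    apply injective_of_surjective_of_rankAtStalk_eq _ hsurj
    intro q
    rw [Module.rankAtStalk_baseChange, hP, hT]
  have hδinj : Function.Injective (Algebra.H1Cotangent.δ K P T) := by
    rw [injective_iff_map_eq_zero]
    intro x hx
    obtain ⟨y, hy⟩ := (Algebra.H1Cotangent.exact_map_δ K P T x).mp hx
    rw [← hy, Subsingleton.elim y 0, map_zero]
  have h0 : ∀ z, Algebra.H1Cotangent.δ K P T z = 0 := by
    intro z
    apply hinj
    rw [map_zero]
    exact (Algebra.H1Cotangent.exact_δ_mapBaseChange K P T _).mpr ⟨z, rfl⟩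
  refine ⟨inferInstance, ⟨fun x y => hδinj ?_⟩⟩
  rw [h0 x, h0 y]

theorem abs_formallySmooth (K A P Rr Q T : Type u) [CommRing K] [CommRing A] [CommRing P]
    [CommRing Rr] [CommRing Q] [CommRing T]
    [Algebra K P] [Algebra K Q] [Algebra K T] [Algebra A P] [Algebra A T] [Algebra P T]
    [Algebra Rr Q] [Algebra Rr T] [Algebra Q T]
    [IsScalarTower K P T] [IsScalarTower K Q T] [IsScalarTower A P T] [IsScalarTower Rr Q T]
    [Algebra.FormallyEtale A P] [Algebra.FormallyUnramified Rr Q] [Algebra.FormallyEtale Rr T]
    [Algebra.Smooth K P] [Algebra.Smooth K Q] (d : ℕ)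
    (hP : RingHom.Locally (RingHom.IsStandardSmoothOfRelativeDimension d) (algebraMap K P))
    (hQ : RingHom.Locally (RingHom.IsStandardSmoothOfRelativeDimension d) (algebraMap K Q))
    [Subsingleton Ω[T⁄A]] : Algebra.FormallySmooth A T := by
  haveI : Algebra.FormallyEtale Q T :=
    Algebra.FormallyEtale.of_restrictScalars (R := Rr) (A := Q) (B := T)
  haveI : Algebra.FormallySmooth K Q := Algebra.Smooth.formallySmooth
  haveI : Algebra.FormallySmooth K P := Algebra.Smooth.formallySmooth
  haveI : Algebra.FinitePresentation K Q := Algebra.Smooth.finitePresentation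
  haveI : Algebra.FinitePresentation K P := Algebra.Smooth.finitePresentation
  haveI : Algebra.FormallySmooth K T := Algebra.FormallySmooth.comp K Q T
  haveI : Module.Finite Q Ω[Q⁄K] := inferInstance
  haveI : Module.Finite P Ω[P⁄K] := inferInstance
  have hbc := KaehlerDifferential.isBaseChange_of_formallyEtale K Q T
  haveI : Module.Finite T Ω[T⁄K] := Module.Finite.equiv hbc.equiv
  haveI : Subsingleton Ω[T⁄P] := (KaehlerDifferential.map_surjective A P T).subsingleton
  have hrQ := rankAtStalk_kaehler_of_locally K Q d hQ
  have hrP := rankAtStalk_kaehler_of_locally K P d hP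
  have hrT : ∀ q : PrimeSpectrum T, Module.rankAtStalk (R := T) Ω[T⁄K] q = d := by
    intro q
    rw [Module.rankAtStalk_isBaseChange hbc q, hrQ]
  haveI : Algebra.FormallySmooth P T := formallySmooth_of_rank K P T d hrP hrT
  exact Algebra.FormallySmooth.comp A P T

end Groth.Agent.Lib.Helper4.EtaEtale
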