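import Mathlib
import Groth.Agent.Lib.Helper4.EtaEtale

set_option autoImplicit false
set_option linter.style.haveILetI false
set_option linter.unusedSectionVars false
set_option linter.unusedVariables false
set_option linter.unusedSimpArgs false
set_option maxHeartbeats 1600000
set_option maxSynthPendingDepth 3

universe u

open scoped TensorProduct
open KaehlerDifferential AlgebraicGeometry

namespace Groth.Agent.Lib.Helper4.EtaEtale

theorem part1 (V : Type u) [CommRing V] [IsDomain V] [IsDiscreteValuationRing V]
    (ϖ : V) (hϖ : Irreducible ϖ) (p : ℕ) [CharP (IsLocalRing.ResidueField V) p]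
    (A : Type u) [CommRing A] [Algebra V A]
    (R : Type u) [CommRing R] [Algebra V R] [Algebra.FiniteType V R] [Algebra A R]
    [IsScalarTower V A R] (a : R)
    (hcop : Ideal.span {a} ⊔ Ideal.span {algebraMap V R ϖ} = ⊤)
    (het : ((algebraMap R (Localization.Away (a * algebraMap V R ϖ))).comp (algebraMap A R)).Etale) :
    ∃ n : ℕ, Ideal.span {((p : R)) ^ n} • (⊤ : Submodule R (Ω[R⁄A])) ≤
        Ideal.span {algebraMap V R ϖ * (p : R) ^ n} • (⊤ : Submodule R (Ω[R⁄A])) := by
  classical
  haveI : Algebra.FiniteType A R := Algebra.FiniteType.of_restrictScalars_finiteType V A R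
  obtain ⟨s, hs⟩ : ∃ s : R, s = a * algebraMap V R ϖ := ⟨_, rfl⟩
  rw [← hs] at het
  haveI : Algebra.Etale A (Localization.Away s) := by
    rw [← RingHom.etale_algebraMap, IsScalarTower.algebraMap_eq A R (Localization.Away s)]
    exact het
  haveI : Subsingleton Ω[Localization.Away s⁄A] := inferInstance
  have hkill : ∀ x : Ω[R⁄A], ∃ k : ℕ, s ^ k • x = 0 := by
    intro x
    have h0 : KaehlerDifferential.map A A R (Localization.Away s) x =
        KaehlerDifferential.map A A R (Localization.Away s) 0 := Subsingleton.elim _ _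
    obtain ⟨c, hc⟩ := IsLocalizedModule.exists_of_eq (S := Submonoid.powers s) h0
    obtain ⟨k, hk⟩ := c.2
    refine ⟨k, ?_⟩
    rw [smul_zero, Submonoid.smul_def, ← hk] at hc
    exact hc
  obtain ⟨N, hN⟩ : ∃ N, ∀ x : Ω[R⁄A], s ^ N • x = 0 := by
    obtain ⟨S₀, hS₀⟩ := (Module.Finite.fg_top : (⊤ : Submodule R Ω[R⁄A]).FG)
    choose k hk using hkill
    refine ⟨S₀.sup k, fun x => ?_⟩
    have hx : x ∈ Submodule.span R (S₀ : Set Ω[R⁄A]) := by rw [hS₀]; trivial
    induction hx using Submodule.span_induction with
    | mem y hy =>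
      have hle := Finset.le_sup (f := k) hy
      rw [← Nat.sub_add_cancel hle, pow_add, mul_smul, hk, smul_zero]
    | zero => simp
    | add y z _ _ hy hz => rw [smul_add, hy, hz, add_zero]
    | smul r y _ hy => rw [smul_comm, hy, smul_zero]
  have hpV : ∃ c : V, (p : V) = ϖ * c := by
    have h1 : (p : V) ∈ IsLocalRing.maximalIdeal V := by
      rw [← IsLocalRing.residue_eq_zero_iff, map_natCast]
      exact CharP.cast_eq_zero _ p
    rw [hϖ.maximalIdeal_eq, Ideal.mem_span_singleton'] at h1
    obtain ⟨c, hc⟩ := h1
    exact ⟨c, by rw [← hc, mul_comm]⟩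
  have hcop' : IsCoprime (a ^ N) (algebraMap V R ϖ) := by
    have : IsCoprime a (algebraMap V R ϖ) := by
      rw [← Ideal.isCoprime_span_singleton_iff, Ideal.isCoprime_iff_sup_eq]; exact hcop
    exact this.pow_left
  obtain ⟨u, v, huv⟩ := hcop'
  refine ⟨N, Submodule.smul_le.mpr (fun r hr x _ => ?_)⟩
  obtain ⟨t, rfl⟩ := Ideal.mem_span_singleton'.mp hr
  obtain ⟨c, hc⟩ := hpV
  have hpR : (p : R) = algebraMap V R ϖ * algebraMap V R c := by
    rw [← map_mul, ← hc, map_natCast]
  have key : ((p : R) ^ N) • x = (algebraMap V R ϖ * (p : R) ^ N) • (v • x) := by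
    have h1 : (a ^ N * (p : R) ^ N) • x = 0 := by
      have : a ^ N * (p : R) ^ N = (algebraMap V R c) ^ N * s ^ N := by rw [hpR, hs]; ring
      rw [this, mul_smul, hN, smul_zero]
    calc ((p : R) ^ N) • x
        = ((u * a ^ N + v * algebraMap V R ϖ) * (p : R) ^ N) • x := by rw [huv, one_mul]
      _ = u • ((a ^ N * (p : R) ^ N) • x) + (algebraMap V R ϖ * (p : R) ^ N) • (v • x) := by
          simp only [smul_smul, ← add_smul]; congr 1; ring
      _ = (algebraMap V R ϖ * (p : R) ^ N) • (v • x) := by rw [h1, smul_zero, zero_add]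
  rw [mul_smul, key]
  exact Submodule.smul_mem _ t
    (Submodule.smul_mem_smul (Ideal.mem_span_singleton_self _) Submodule.mem_top)

theorem part2 (V : Type u) [CommRing V] [IsDomain V] [IsDiscreteValuationRing V] [CharZero V]
    (ϖ : V) (hϖ : Irreducible ϖ) (p : ℕ) [Fact p.Prime]
    (A : Type u) [CommRing A] [Algebra V A] [Algebra.FiniteType V A]
    (R : Type u) [CommRing R] [Algebra V R] [Algebra.FiniteType V R] [Algebra A R]
    [IsScalarTower V A R] (d : ℕ)
    (hA : SmoothOfRelativeDimension d
        (Spec.map (CommRingCat.ofHom (algebraMap (FractionRing V) (FractionRing V ⊗[V] A)))))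
    (hR : SmoothOfRelativeDimension d
        (Spec.map (CommRingCat.ofHom (algebraMap (FractionRing V) (FractionRing V ⊗[V] R)))))
    (n : ℕ) (hn : Ideal.span {((p : R)) ^ n} • (⊤ : Submodule R (Ω[R⁄A])) ≤
        Ideal.span {algebraMap V R ϖ * (p : R) ^ n} • (⊤ : Submodule R (Ω[R⁄A]))) :
    ∃ a : R, Ideal.span {a} ⊔ Ideal.span {algebraMap V R ϖ} = ⊤ ∧
        ((algebraMap R (Localization.Away (a * algebraMap V R ϖ))).comp (algebraMap A R)).Etale := by
  classical
  have hp := (Fact.out : p.Prime)
  haveI : IsNoetherianRing A := Algebra.FiniteType.isNoetherianRing V A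
  haveI : IsNoetherianRing R := Algebra.FiniteType.isNoetherianRing V R
  haveI : Algebra.FiniteType A R := Algebra.FiniteType.of_restrictScalars_finiteType V A R
  -- Nakayama
  have hfg : (Ideal.span {((p : R)) ^ n} • (⊤ : Submodule R (Ω[R⁄A]))).FG :=
    IsNoetherian.noetherian _
  have hle : Ideal.span {((p : R)) ^ n} • (⊤ : Submodule R (Ω[R⁄A])) ≤
      Ideal.span {algebraMap V R ϖ} • (Ideal.span {((p : R)) ^ n} • (⊤ : Submodule R (Ω[R⁄A]))) := by
    have : Ideal.span {algebraMap V R ϖ * (p : R) ^ n} • (⊤ : Submodule R Ω[R⁄A]) =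
        Ideal.span {algebraMap V R ϖ} • (Ideal.span {((p : R)) ^ n} • (⊤ : Submodule R (Ω[R⁄A]))) := by
      rw [← Ideal.span_singleton_mul_span_singleton, Submodule.mul_smul]
    rw [← this]; exact hn
  obtain ⟨a, ha1, ha⟩ :=
    Submodule.exists_sub_one_mem_and_smul_eq_zero_of_fg_of_le_smul _ _ hfg hle
  refine ⟨a, ?_, ?_⟩
  · rw [Ideal.eq_top_iff_one]
    have : (1 : R) = a + -(a - 1) := by ring
    rw [this]
    exact Submodule.add_mem_sup (Ideal.mem_span_singleton_self a) (neg_mem ha1)
  obtain ⟨s, hs⟩ : ∃ s : R, s = a * algebraMap V R ϖ := ⟨_, rfl⟩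
  rw [← hs]
  -- units in T
  have hsu : IsUnit (algebraMap R (Localization.Away s) s) :=
    IsLocalization.Away.algebraMap_isUnit s
  have hse : algebraMap R (Localization.Away s) s =
      algebraMap R (Localization.Away s) (a * algebraMap V R ϖ) := congrArg _ hs
  rw [hse, map_mul] at hsu
  have hau : IsUnit (algebraMap R (Localization.Away s) a) := (IsUnit.mul_iff.mp hsu).1
  have hϖu : IsUnit (algebraMap V (Localization.Away s) ϖ) := by
    rw [IsScalarTower.algebraMap_apply V R (Localization.Away s)]
    exact (IsUnit.mul_iff.mp hsu).2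
  have hVunit : ∀ y : nonZeroDivisors V, IsUnit (algebraMap V (Localization.Away s) y) := by
    intro y
    obtain ⟨e, w, hw⟩ := IsDiscreteValuationRing.eq_unit_mul_pow_irreducible
      (nonZeroDivisors.ne_zero y.2) hϖ
    rw [hw, map_mul, map_pow]
    exact (w.isUnit.map _).mul (hϖu.pow e)
  have hpu : IsUnit (algebraMap R (Localization.Away s) (p : R)) := by
    have h1 : (p : V) ∈ nonZeroDivisors V :=
      mem_nonZeroDivisors_of_ne_zero (Nat.cast_ne_zero.mpr hp.ne_zero)
    have h2 := hVunit ⟨_, h1⟩
    rw [IsScalarTower.algebraMap_apply V R (Localization.Away s), map_natCast] at h2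
    exact h2
  -- Ω[T/A] = 0
  haveI hΩ : Subsingleton Ω[Localization.Away s⁄A] := by
    have hzero : ∀ r : R, KaehlerDifferential.map A A R (Localization.Away s)
        (KaehlerDifferential.D A R r) = 0 := by
      intro r
      have h1 : (a * (p : R) ^ n) • KaehlerDifferential.D A R r = 0 := by
        rw [mul_smul]
        exact ha _ (Submodule.smul_mem_smul (Ideal.mem_span_singleton_self _) Submodule.mem_top)
      have h2 := congrArg (KaehlerDifferential.map A A R (Localization.Away s)) h1
      rw [map_smul, map_zero, ← algebraMap_smul (Localization.Away s)] at h2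
      have hu : IsUnit (algebraMap R (Localization.Away s) (a * (p : R) ^ n)) := by
        rw [map_mul, map_pow]; exact hau.mul (hpu.pow n)
      exact (hu.smul_eq_zero).mp h2
    have hspan := KaehlerDifferential.span_range_map_derivation_of_isLocalization A R
      (Localization.Away s) (Submonoid.powers s)
    have htop : (⊤ : Submodule (Localization.Away s) Ω[Localization.Away s⁄A]) = ⊥ := by
      rw [← hspan, Submodule.span_eq_bot]
      rintro _ ⟨r, rfl⟩
      exact hzero r
    exact (Submodule.subsingleton_iff (Localization.Away s)).mp (subsingleton_of_bot_eq_top htop.symm)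
  -- finite presentation
  haveI : Algebra.FinitePresentation A R := Algebra.FinitePresentation.of_finiteType.mp inferInstance
  haveI : Algebra.FinitePresentation R (Localization.Away s) :=
    IsLocalization.Away.finitePresentation s
  haveI : Algebra.FinitePresentation A (Localization.Away s) :=
    Algebra.FinitePresentation.trans A R (Localization.Away s)
  -- algebra structures
  letI : Algebra (FractionRing V) (Localization.Away s) :=
    (IsLocalization.lift (M := nonZeroDivisors V) (S := FractionRing V)
      (g := algebraMap V (Localization.Away s)) hVunit).toAlgebra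
  haveI : IsScalarTower V (FractionRing V) (Localization.Away s) :=
    IsScalarTower.of_algebraMap_eq (fun v => (IsLocalization.lift_eq hVunit v).symm)
  let φA : FractionRing V ⊗[V] A →ₐ[FractionRing V] Localization.Away s :=
    Algebra.TensorProduct.lift (Algebra.ofId (FractionRing V) (Localization.Away s))
      (IsScalarTower.toAlgHom V A (Localization.Away s)) (fun _ _ => Commute.all _ _)
  let φR : FractionRing V ⊗[V] R →ₐ[FractionRing V] Localization.Away s :=
    Algebra.TensorProduct.lift (Algebra.ofId (FractionRing V) (Localization.Away s))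
      (IsScalarTower.toAlgHom V R (Localization.Away s)) (fun _ _ => Commute.all _ _)
  letI : Algebra (FractionRing V ⊗[V] A) (Localization.Away s) := φA.toRingHom.toAlgebra
  letI : Algebra (FractionRing V ⊗[V] R) (Localization.Away s) := φR.toRingHom.toAlgebra
  letI : Algebra A (FractionRing V ⊗[V] A) := Algebra.TensorProduct.rightAlgebra
  letI : Algebra R (FractionRing V ⊗[V] R) := Algebra.TensorProduct.rightAlgebra
  haveI : IsScalarTower (FractionRing V) (FractionRing V ⊗[V] A) (Localization.Away s) :=
    IsScalarTower.of_algebraMap_eq' (φA.comp_algebraMap).symm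
  haveI : IsScalarTower (FractionRing V) (FractionRing V ⊗[V] R) (Localization.Away s) :=
    IsScalarTower.of_algebraMap_eq' (φR.comp_algebraMap).symm
  haveI : IsScalarTower A (FractionRing V ⊗[V] A) (Localization.Away s) :=
    IsScalarTower.of_algebraMap_eq (fun x => by
      show algebraMap A (Localization.Away s) x = φA ((1 : FractionRing V) ⊗ₜ[V] x)
      simp [φA])
  haveI : IsScalarTower R (FractionRing V ⊗[V] R) (Localization.Away s) :=
    IsScalarTower.of_algebraMap_eq (fun x => by
      show algebraMap R (Localization.Away s) x = φR ((1 : FractionRing V) ⊗ₜ[V] x)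
      simp [φR])
  haveI : IsLocalization (Algebra.algebraMapSubmonoid A (nonZeroDivisors V))
      (FractionRing V ⊗[V] A) := inferInstance
  haveI : IsLocalization (Algebra.algebraMapSubmonoid R (nonZeroDivisors V))
      (FractionRing V ⊗[V] R) := inferInstance
  haveI : Algebra.FormallyEtale A (FractionRing V ⊗[V] A) :=
    Algebra.FormallyEtale.of_isLocalization (Algebra.algebraMapSubmonoid A (nonZeroDivisors V))
  haveI : Algebra.FormallyEtale R (FractionRing V ⊗[V] R) :=
    Algebra.FormallyEtale.of_isLocalization (Algebra.algebraMapSubmonoid R (nonZeroDivisors V))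
  haveI : Algebra.FormallyEtale R (Localization.Away s) :=
    Algebra.FormallyEtale.of_isLocalization (Submonoid.powers s)
  -- smoothness hypotheses
  have hlocA : RingHom.Locally (RingHom.IsStandardSmoothOfRelativeDimension d)
      (algebraMap (FractionRing V) (FractionRing V ⊗[V] A)) :=
    (HasRingHomProperty.Spec_iff (P := @SmoothOfRelativeDimension d)).mp hA
  have hlocR : RingHom.Locally (RingHom.IsStandardSmoothOfRelativeDimension d)
      (algebraMap (FractionRing V) (FractionRing V ⊗[V] R)) :=
    (HasRingHomProperty.Spec_iff (P := @SmoothOfRelativeDimension d)).mp hR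
  haveI : Algebra.Smooth (FractionRing V) (FractionRing V ⊗[V] A) := by
    haveI := hA
    have h1 : Smooth (Spec.map (CommRingCat.ofHom
        (algebraMap (FractionRing V) (FractionRing V ⊗[V] A)))) :=
      SmoothOfRelativeDimension.smooth (n := d) _
    exact RingHom.smooth_algebraMap.mp ((HasRingHomProperty.Spec_iff (P := @Smooth)).mp h1)
  haveI : Algebra.Smooth (FractionRing V) (FractionRing V ⊗[V] R) := by
    haveI := hR
    have h1 : Smooth (Spec.map (CommRingCat.ofHom
        (algebraMap (FractionRing V) (FractionRing V ⊗[V] R)))) :=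
      SmoothOfRelativeDimension.smooth (n := d) _
    exact RingHom.smooth_algebraMap.mp ((HasRingHomProperty.Spec_iff (P := @Smooth)).mp h1)
  haveI : Algebra.FormallySmooth A (Localization.Away s) :=
    abs_formallySmooth (FractionRing V) A (FractionRing V ⊗[V] A) R (FractionRing V ⊗[V] R)
      (Localization.Away s) d hlocA hlocR
  haveI : Algebra.FormallyUnramified A (Localization.Away s) := ⟨hΩ⟩
  haveI : Algebra.FormallyEtale A (Localization.Away s) :=
    Algebra.FormallyEtale.of_formallyUnramified_and_formallySmooth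
  haveI : Algebra.Etale A (Localization.Away s) := ⟨inferInstance, inferInstance⟩
  rw [← IsScalarTower.algebraMap_eq A R (Localization.Away s)]
  exact RingHom.etale_algebraMap.mpr inferInstance

end Groth.Agent.Lib.Helper4.EtaEtale
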