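import Groth.Agent.Lib.Helper4.ExtTop

/-!
# `Ext^i_A(A/J, M) ≅ M^(p choose i)` for `J` generated by a weakly regular sequence of length `p`, `JM = 0`

`main`: the statement.  The proof is an induction on the sequence (adding elements at the end), carrying
"universal elements" `t_j ∈ Ext^i(A/J, A/J)`, `j < (p choose i)`, such that for every `M` killed by `J`
the map `M^(p choose i) → Ext^i(A/J, M)`, `m ↦ ∑ (1 ↦ m_j)_* t_j` is bijective (`HasUniv`).
-/

set_option autoImplicit false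
set_option linter.style.haveILetI false
set_option linter.unusedSectionVars false
set_option linter.unusedVariables false
set_option maxHeartbeats 800000

open CategoryTheory Limits Opposite Abelian

universe u

namespace Groth.Agent.Lib.Helper4.ExtReg

open Groth.Agent.Lib.Helper4.LC Groth.Agent.Lib.Helper4.ExtTop

variable {A : Type u} [CommRing A]

/-! ### pushing classes forward -/

section push

variable {X N N' N'' : ModuleCat.{u} A} {n : ℕ}

/-- the pushforward `φ_* ξ`. -/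
noncomputable def push (ξ : Ext.{u} X N n) (φ : N ⟶ N') : Ext.{u} X N' n :=
  ξ.comp (Ext.mk₀ φ) (add_zero n)

lemma push_comp (ξ : Ext.{u} X N n) (φ : N ⟶ N') (ψ : N' ⟶ N'') :
    push ξ (φ ≫ ψ) = push (push ξ φ) ψ := by
  unfold push
  rw [← Ext.mk₀_comp_mk₀]
  exact (Ext.comp_assoc_of_third_deg_zero ξ (Ext.mk₀ φ) (Ext.mk₀ ψ) (add_zero n)).symm

lemma push_id (ξ : Ext.{u} X N n) : push ξ (𝟙 N) = ξ := Ext.comp_mk₀_id ξ

lemma push_add_right (ξ : Ext.{u} X N n) (φ ψ : N ⟶ N') :
    push ξ (φ + ψ) = push ξ φ + push ξ ψ := by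
  unfold push
  rw [Ext.mk₀_add, Ext.comp_add]

lemma push_smul_right (ξ : Ext.{u} X N n) (a : A) (φ : N ⟶ N') :
    push ξ (a • φ) = a • push ξ φ := by
  unfold push
  rw [Ext.mk₀_smul, Ext.comp_smul]

lemma push_zero_right (ξ : Ext.{u} X N n) : push ξ (0 : N ⟶ N') = 0 := by
  unfold push
  rw [Ext.mk₀_zero, Ext.comp_zero]

lemma pull_push {X' : ModuleCat.{u} A} (ψ : X' ⟶ X) (ξ : Ext.{u} X N n) (φ : N ⟶ N') :
    pull N' n ψ (push ξ φ) = push (pull N n ψ ξ) φ := by
  unfold pull push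
  exact (Ext.comp_assoc_of_third_deg_zero (Ext.mk₀ ψ) ξ (Ext.mk₀ φ) (zero_add n)).symm

lemma smul_eq_zero_of_kill (a : A) (hN : ∀ x : N, a • x = 0) (ξ : Ext.{u} X N n) :
    a • ξ = 0 := by
  have h2 : a • 𝟙 N = 0 := by
    apply ModuleCat.hom_ext
    apply LinearMap.ext
    intro x
    exact hN x
  have h1 : a • ξ = push ξ (a • 𝟙 N) := by
    rw [push_smul_right, push_id]
  rw [h1, h2, push_zero_right]

end push

/-! ### maps out of `A ⧸ J` -/

section quot

variable (J : Ideal A)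

lemma kills_quot (a : A) (ha : a ∈ J) (x : A ⧸ J) : a • x = 0 := by
  obtain ⟨r, rfl⟩ := Submodule.Quotient.mk_surjective J x
  rw [← Submodule.Quotient.mk_smul]
  exact (Submodule.Quotient.mk_eq_zero J).2 (by rw [smul_eq_mul]; exact Ideal.mul_mem_right r J ha)

variable {M : Type u} [AddCommGroup M] [Module A M] (hM : ∀ a ∈ J, ∀ x : M, a • x = 0)

lemma qlift_add (x x' : M) : qlift J hM (x + x') = qlift J hM x + qlift J hM x' := by
  apply quot_hom_ext J
  rw [LinearMap.add_apply, qlift_one, qlift_one, qlift_one]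

lemma qlift_smul (a : A) (x : M) : qlift J hM (a • x) = a • qlift J hM x := by
  apply quot_hom_ext J
  rw [LinearMap.smul_apply, qlift_one, qlift_one]

lemma qlift_injective (x x' : M) (h : qlift J hM x = qlift J hM x') : x = x' := by
  rw [← qlift_one J hM x, h, qlift_one]

lemma qlift_apply_one (u : (A ⧸ J) →ₗ[A] M) : qlift J hM (u 1) = u := by
  apply quot_hom_ext J
  rw [qlift_one]

end quot

/-! ### the maps `Ψ` and universal elements -/

section univ

variable (J : Ideal A)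

/-- `m ↦ ∑ (1 ↦ m_j)_* t_j`. -/
noncomputable def Psi {i k : ℕ} (t : Fin k → Ext.{u} (Bm J) (Bm J) i)
    (M : Type u) [AddCommGroup M] [Module A M] (hM : ∀ a ∈ J, ∀ x : M, a • x = 0)
    (m : Fin k → M) : Ext.{u} (Bm J) (ModuleCat.of A M) i :=
  ∑ j, push (t j) (ModuleCat.ofHom (qlift J hM (m j)))

lemma Psi_add {i k : ℕ} (t : Fin k → Ext.{u} (Bm J) (Bm J) i)
    (M : Type u) [AddCommGroup M] [Module A M] (hM : ∀ a ∈ J, ∀ x : M, a • x = 0)
    (m m' : Fin k → M) : Psi J t M hM (m + m') = Psi J t M hM m + Psi J t M hM m' := by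
  unfold Psi
  rw [← Finset.sum_add_distrib]
  apply Finset.sum_congr rfl
  intro j _
  rw [Pi.add_apply, qlift_add]
  exact push_add_right _ _ _

lemma Psi_smul {i k : ℕ} (t : Fin k → Ext.{u} (Bm J) (Bm J) i)
    (M : Type u) [AddCommGroup M] [Module A M] (hM : ∀ a ∈ J, ∀ x : M, a • x = 0)
    (a : A) (m : Fin k → M) : Psi J t M hM (a • m) = a • Psi J t M hM m := by
  unfold Psi
  rw [Finset.smul_sum]
  apply Finset.sum_congr rfl
  intro j _
  rw [Pi.smul_apply, qlift_smul]
  exact push_smul_right _ _ _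

/-- existence of universal elements. -/
def HasUniv (i k : ℕ) : Prop :=
  ∃ t : Fin k → Ext.{u} (Bm J) (Bm J) i,
    ∀ (M : Type u) [AddCommGroup M] [Module A M] (hM : ∀ a ∈ J, ∀ x : M, a • x = 0),
      Function.Bijective (Psi J t M hM)

theorem hasUniv_zero : HasUniv J 0 1 := by
  refine ⟨fun _ => Ext.mk₀ (𝟙 (Bm J)), ?_⟩
  intro M _ _ hM
  have hkey : ∀ m : Fin 1 → M, Psi J (fun _ => Ext.mk₀ (𝟙 (Bm J))) M hM m =
      Ext.mk₀ (ModuleCat.ofHom (qlift J hM (m 0))) := by
    intro m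
    unfold Psi push
    rw [Fin.sum_univ_one, Ext.mk₀_comp_mk₀, Category.id_comp]
  constructor
  · intro m m' h
    rw [hkey, hkey] at h
    have h1 := (Ext.mk₀_bijective _ _).1 h
    have h2 : qlift J hM (m 0) = qlift J hM (m' 0) := congrArg ModuleCat.Hom.hom h1
    have h3 := qlift_injective J hM _ _ h2
    funext j
    rw [Fin.fin_one_eq_zero j]
    exact h3
  · intro x
    obtain ⟨φ, rfl⟩ := (Ext.mk₀_bijective _ _).2 x
    refine ⟨fun _ => φ.hom 1, ?_⟩
    rw [hkey]
    congr 1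
    apply ModuleCat.hom_ext
    exact qlift_apply_one J hM φ.hom

lemma projective_bot : Projective (Bm (⊥ : Ideal A)) := by
  have e : A ≃ₗ[A] (A ⧸ (⊥ : Ideal A)) :=
    (Submodule.quotEquivOfEqBot (⊥ : Submodule A A) rfl).symm
  haveI : Module.Projective A (A ⧸ (⊥ : Ideal A)) := Module.Projective.of_equiv e
  exact (IsProjective.iff_projective (R := A) (A ⧸ (⊥ : Ideal A))).1 inferInstance

theorem hasUniv_bot_succ (i : ℕ) : HasUniv (⊥ : Ideal A) (i + 1) 0 := by
  haveI := projective_bot (A := A)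
  refine ⟨fun j => j.elim0, ?_⟩
  intro M _ _ hM
  constructor
  · intro m m' _
    funext j
    exact j.elim0
  · intro x
    refine ⟨fun j => j.elim0, ?_⟩
    exact (Ext.eq_zero_of_projective _).trans (Ext.eq_zero_of_projective x).symm

end univ

/-! ### the short exact sequence `0 → A/J' → A/J' → A/J → 0` -/

section ses

variable (J' J : Ideal A) (y : A) (hle : J' ≤ J)

/-- the projection `A ⧸ J' → A ⧸ J`. -/
noncomputable def piq : (A ⧸ J') →ₗ[A] (A ⧸ J) :=
  Submodule.mapQ J' J LinearMap.id (fun x hx => hle hx)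

lemma piq_mk (a : A) :
    piq J' J hle (Submodule.Quotient.mk a) = Submodule.Quotient.mk a := rfl

lemma piq_one : piq J' J hle 1 = 1 := rfl

lemma piq_surjective : Function.Surjective (piq J' J hle) := by
  intro b
  obtain ⟨a, rfl⟩ := Submodule.Quotient.mk_surjective J b
  exact ⟨Submodule.Quotient.mk a, rfl⟩

lemma piq_qlift {M : Type u} [AddCommGroup M] [Module A M]
    (hM : ∀ a ∈ J, ∀ x : M, a • x = 0) (hM' : ∀ a ∈ J', ∀ x : M, a • x = 0) (x : M) :
    qlift J hM x ∘ₗ piq J' J hle = qlift J' hM' x := by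
  apply quot_hom_ext J'
  rw [LinearMap.comp_apply, piq_one, qlift_one, qlift_one]

variable (hJ : J = J' ⊔ Ideal.span {y})

include hJ in
lemma exact_fg :
    Function.Exact (y • LinearMap.id : (A ⧸ J') →ₗ[A] (A ⧸ J')) (piq J' J hle) := by
  intro b
  constructor
  · intro h
    obtain ⟨a, rfl⟩ := Submodule.Quotient.mk_surjective J' b
    have h1 : a ∈ J := by
      rw [piq_mk] at h
      exact (Submodule.Quotient.mk_eq_zero J).1 h
    rw [hJ] at h1
    obtain ⟨j', hj', z, hz, hsum⟩ := Submodule.mem_sup.1 h1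
    obtain ⟨c, rfl⟩ := Ideal.mem_span_singleton'.1 hz
    refine ⟨Submodule.Quotient.mk c, ?_⟩
    rw [LinearMap.smul_apply, LinearMap.id_apply, ← Submodule.Quotient.mk_smul,
      Submodule.Quotient.eq]
    have h2 : y • c - a = -j' := by
      rw [← hsum, smul_eq_mul]
      ring
    rw [h2]
    exact J'.neg_mem hj'
  · rintro ⟨c', rfl⟩
    obtain ⟨c, rfl⟩ := Submodule.Quotient.mk_surjective J' c'
    rw [LinearMap.smul_apply, LinearMap.id_apply, ← Submodule.Quotient.mk_smul, piq_mk]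
    apply (Submodule.Quotient.mk_eq_zero J).2
    rw [hJ, smul_eq_mul]
    exact Ideal.mul_mem_right _ _ (Submodule.mem_sup_right (Ideal.subset_span rfl))

/-- the short complex `A/J' → A/J' → A/J`. -/
noncomputable def SES : ShortComplex (ModuleCat.{u} A) :=
  sesOf (y • LinearMap.id : (A ⧸ J') →ₗ[A] (A ⧸ J')) (piq J' J hle) (exact_fg J' J y hle hJ)

variable (hy : IsSMulRegular (A ⧸ J') y)

include hy in
lemma SES_shortExact : (SES J' J y hle hJ).ShortExact :=
  sesOf_shortExact _ _ (exact_fg J' J y hle hJ) (fun a b h => hy h) (piq_surjective J' J hle)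

/-- the projection as a morphism. -/
noncomputable def piHom : Bm J' ⟶ Bm J := ModuleCat.ofHom (piq J' J hle)

/-- the connecting map. -/
noncomputable def delta {N : ModuleCat.{u} A} {n : ℕ} (ξ : Ext.{u} (Bm J') N n) :
    Ext.{u} (Bm J) N (n + 1) :=
  (SES_shortExact J' J y hle hJ hy).extClass.comp ξ (add_comm 1 n)

lemma delta_push {N N' : ModuleCat.{u} A} {n : ℕ} (ξ : Ext.{u} (Bm J') N n) (φ : N ⟶ N') :
    delta J' J y hle hJ hy (push ξ φ) = push (delta J' J y hle hJ hy ξ) φ := by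
  unfold delta push
  exact (Ext.comp_assoc_of_third_deg_zero _ ξ (Ext.mk₀ φ) (add_comm 1 n)).symm

lemma delta_add {N : ModuleCat.{u} A} {n : ℕ} (ξ ξ' : Ext.{u} (Bm J') N n) :
    delta J' J y hle hJ hy (ξ + ξ') =
      delta J' J y hle hJ hy ξ + delta J' J y hle hJ hy ξ' := by
  unfold delta
  exact Ext.comp_add _ ξ ξ' _

lemma delta_sum {N : ModuleCat.{u} A} {n k : ℕ} (ξ : Fin k → Ext.{u} (Bm J') N n) :
    delta J' J y hle hJ hy (∑ j, ξ j) = ∑ j, delta J' J y hle hJ hy (ξ j) := by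
  unfold delta
  exact Ext.comp_sum _ ξ _

lemma pull_delta {N : ModuleCat.{u} A} {n : ℕ} (ξ : Ext.{u} (Bm J') N n) :
    pull N (n + 1) (piHom J' J hle) (delta J' J y hle hJ hy ξ) = 0 := by
  unfold pull delta piHom
  exact (SES_shortExact J' J y hle hJ hy).comp_extClass_assoc ξ (add_comm 1 n)

lemma pull_f_eq_zero {N : ModuleCat.{u} A} {n : ℕ} (hN : ∀ x : N, y • x = 0)
    (ξ : Ext.{u} (Bm J') N n) :
    (Ext.mk₀ (SES J' J y hle hJ).f).comp ξ (zero_add n) = 0 := by
  have h1 : (ModuleCat.ofHom (y • LinearMap.id : (A ⧸ J') →ₗ[A] (A ⧸ J')) : Bm J' ⟶ Bm J') =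
      y • 𝟙 (Bm J') := rfl
  change pull N n (ModuleCat.ofHom (y • LinearMap.id : (A ⧸ J') →ₗ[A] (A ⧸ J'))) ξ = 0
  rw [h1, pull_smul_left, pull_id]
  exact smul_eq_zero_of_kill y hN ξ

include hJ hy in
lemma exists_pull_eq {N : ModuleCat.{u} A} {n : ℕ} (hN : ∀ x : N, y • x = 0)
    (x₂ : Ext.{u} (Bm J') N n) :
    ∃ x₃ : Ext.{u} (Bm J) N n, pull N n (piHom J' J hle) x₃ = x₂ :=
  Ext.contravariant_sequence_exact₂ (SES_shortExact J' J y hle hJ hy) N x₂
    (pull_f_eq_zero J' J y hle hJ hN x₂)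

lemma exists_delta_eq {N : ModuleCat.{u} A} {n : ℕ} (x₃ : Ext.{u} (Bm J) N (n + 1))
    (h : pull N (n + 1) (piHom J' J hle) x₃ = 0) :
    ∃ a : Ext.{u} (Bm J') N n, delta J' J y hle hJ hy a = x₃ :=
  Ext.contravariant_sequence_exact₃ (SES_shortExact J' J y hle hJ hy) N x₃ h (add_comm 1 n)

lemma delta_eq_zero {N : ModuleCat.{u} A} {n : ℕ} (hN : ∀ x : N, y • x = 0)
    (a : Ext.{u} (Bm J') N n) (h : delta J' J y hle hJ hy a = 0) : a = 0 := by
  obtain ⟨x₂, hx₂⟩ := Ext.contravariant_sequence_exact₁ (SES_shortExact J' J y hle hJ hy) N a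
    (add_comm 1 n) h
  rw [← hx₂]
  exact pull_f_eq_zero J' J y hle hJ hN x₂

lemma delta_injective {N : ModuleCat.{u} A} {n : ℕ} (hN : ∀ x : N, y • x = 0)
    (a a' : Ext.{u} (Bm J') N n)
    (h : delta J' J y hle hJ hy a = delta J' J y hle hJ hy a') : a = a' := by
  obtain ⟨d, hd⟩ : ∃ d, a = d + a' := ⟨a - a', (sub_add_cancel a a').symm⟩
  have h1 : delta J' J y hle hJ hy d = 0 := by
    rw [hd, delta_add] at h
    exact add_eq_right.1 h
  rw [hd, delta_eq_zero J' J y hle hJ hy hN d h1, zero_add]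

include hle hJ hy in
/-- the inductive step. -/
theorem step (n₀ k₀ k₁ : ℕ) (h₀ : HasUniv J' n₀ k₀) (h₁ : HasUniv J' (n₀ + 1) k₁) :
    HasUniv J (n₀ + 1) (k₀ + k₁) := by
  obtain ⟨t₀', ht₀'⟩ := h₀
  obtain ⟨t₁', ht₁'⟩ := h₁
  have hyJ : y ∈ J := by
    rw [hJ]
    exact Submodule.mem_sup_right (Ideal.subset_span rfl)
  have hQ : ∀ x : Bm J, y • x = 0 := fun x => kills_quot J y hyJ x
  have hex : ∀ j : Fin k₁, ∃ x₃ : Ext.{u} (Bm J) (Bm J) (n₀ + 1),
      pull (Bm J) (n₀ + 1) (piHom J' J hle) x₃ = push (t₁' j) (piHom J' J hle) :=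
    fun j => exists_pull_eq J' J y hle hJ hy hQ _
  choose t₁ ht₁ using hex
  obtain ⟨t₀, ht₀⟩ : ∃ t₀ : Fin k₀ → Ext.{u} (Bm J) (Bm J) (n₀ + 1),
      ∀ j, t₀ j = delta J' J y hle hJ hy (push (t₀' j) (piHom J' J hle)) :=
    ⟨_, fun j => rfl⟩
  refine ⟨Fin.append t₀ t₁, ?_⟩
  intro M _ _ hM
  have hM' : ∀ a ∈ J', ∀ x : M, a • x = 0 := fun a ha x => hM a (hle ha) x
  have hyM : ∀ x : (ModuleCat.of A M), y • x = 0 := fun x => hM y hyJ x
  have hb₀ := ht₀' M hM'
  have hb₁ := ht₁' M hM'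
  have hπq : ∀ x : M, piHom J' J hle ≫ ModuleCat.ofHom (qlift J hM x) =
      ModuleCat.ofHom (qlift J' hM' x) := by
    intro x
    rw [← piq_qlift J' J hle hM hM' x]
    rfl
  have key : ∀ m : Fin (k₀ + k₁) → M, Psi J (Fin.append t₀ t₁) M hM m =
      delta J' J y hle hJ hy (Psi J' t₀' M hM' (fun j => m (Fin.castAdd k₁ j))) +
        Psi J t₁ M hM (fun j => m (Fin.natAdd k₀ j)) := by
    intro m
    unfold Psi
    rw [Fin.sum_univ_add, delta_sum]
    congr 1
    · apply Finset.sum_congr rfl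
      intro j _
      rw [Fin.append_left, ht₀ j, ← hπq (m (Fin.castAdd k₁ j)), push_comp]
      simp only [delta_push]
    · apply Finset.sum_congr rfl
      intro j _
      rw [Fin.append_right]
  have hpull : ∀ m₁ : Fin k₁ → M,
      pull (ModuleCat.of A M) (n₀ + 1) (piHom J' J hle) (Psi J t₁ M hM m₁) =
        Psi J' t₁' M hM' m₁ := by
    intro m₁
    unfold Psi
    rw [pull_sum_right]
    apply Finset.sum_congr rfl
    intro j _
    rw [pull_push, ht₁ j, ← push_comp, hπq]
  have hpullΨ : ∀ m : Fin (k₀ + k₁) → M,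
      pull (ModuleCat.of A M) (n₀ + 1) (piHom J' J hle) (Psi J (Fin.append t₀ t₁) M hM m) =
        Psi J' t₁' M hM' (fun j => m (Fin.natAdd k₀ j)) := by
    intro m
    rw [key, pull_add_right, pull_delta, zero_add, hpull]
  constructor
  · intro m m' h
    have h1 : (fun j => m (Fin.natAdd k₀ j)) = (fun j => m' (Fin.natAdd k₀ j)) := by
      apply hb₁.1
      rw [← hpullΨ m, ← hpullΨ m', h]
    have h0 : (fun j => m (Fin.castAdd k₁ j)) = (fun j => m' (Fin.castAdd k₁ j)) := by
      apply hb₀.1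
      apply delta_injective J' J y hle hJ hy hyM
      have h2 := h
      rw [key m, key m', h1] at h2
      exact add_right_cancel h2
    funext j
    refine Fin.addCases (fun j => ?_) (fun j => ?_) j
    · exact congrFun h0 j
    · exact congrFun h1 j
  · intro x₃
    obtain ⟨m₁, hm₁⟩ := hb₁.2 (pull (ModuleCat.of A M) (n₀ + 1) (piHom J' J hle) x₃)
    obtain ⟨d, hd⟩ : ∃ d, x₃ = d + Psi J t₁ M hM m₁ :=
      ⟨x₃ - Psi J t₁ M hM m₁, (sub_add_cancel _ _).symm⟩
    have hd0 : pull (ModuleCat.of A M) (n₀ + 1) (piHom J' J hle) d = 0 := by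
      have h3 : pull (ModuleCat.of A M) (n₀ + 1) (piHom J' J hle) x₃ =
          pull (ModuleCat.of A M) (n₀ + 1) (piHom J' J hle) d +
            pull (ModuleCat.of A M) (n₀ + 1) (piHom J' J hle) (Psi J t₁ M hM m₁) := by
        rw [hd, pull_add_right]
      rw [hpull, hm₁] at h3
      have h4 : 0 + pull (ModuleCat.of A M) (n₀ + 1) (piHom J' J hle) x₃ =
          pull (ModuleCat.of A M) (n₀ + 1) (piHom J' J hle) d +
            pull (ModuleCat.of A M) (n₀ + 1) (piHom J' J hle) x₃ := by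
        rw [zero_add]
        exact h3
      exact (add_right_cancel h4).symm
    obtain ⟨a, ha⟩ := exists_delta_eq J' J y hle hJ hy d hd0
    obtain ⟨m₀, hm₀⟩ := hb₀.2 a
    refine ⟨Fin.append m₀ m₁, ?_⟩
    have e0 : (fun j => Fin.append m₀ m₁ (Fin.castAdd k₁ j)) = m₀ := by
      funext j
      exact Fin.append_left _ _ j
    have e1 : (fun j => Fin.append m₀ m₁ (Fin.natAdd k₀ j)) = m₁ := by
      funext j
      exact Fin.append_right _ _ j
    rw [key, e0, e1, hm₀, ha]
    exact hd.symm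

end ses

/-! ### the main theorem -/

theorem hasUniv_ofList (xs : List A) :
    RingTheory.Sequence.IsWeaklyRegular A xs →
      ∀ i, HasUniv (Ideal.ofList xs) i (xs.length.choose i) := by
  induction xs using List.reverseRecOn with
  | nil =>
    intro _ i
    rw [Ideal.ofList_nil, List.length_nil]
    cases i with
    | zero =>
      rw [Nat.choose_zero_right]
      exact hasUniv_zero _
    | succ i =>
      rw [Nat.choose_zero_succ]
      exact hasUniv_bot_succ i
  | append_singleton xs y ih =>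
    intro hreg i
    rw [RingTheory.Sequence.isWeaklyRegular_append_iff] at hreg
    obtain ⟨h1, h2⟩ := hreg
    rw [RingTheory.Sequence.isWeaklyRegular_singleton_iff] at h2
    have e : (Ideal.ofList xs • ⊤ : Submodule A A) = Ideal.ofList xs := by
      apply le_antisymm
      · exact Submodule.smul_le.2 (fun r hr n _ => Ideal.mul_mem_right n _ hr)
      · intro r hr
        have h3 : r = r • (1 : A) := by rw [smul_eq_mul, mul_one]
        rw [h3]
        exact Submodule.smul_mem_smul hr Submodule.mem_top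
    have hy : IsSMulRegular (A ⧸ Ideal.ofList xs) y :=
      ((Submodule.quotEquivOfEq _ _ e).isSMulRegular_congr y).1 h2
    have hJ : Ideal.ofList (xs ++ [y]) = Ideal.ofList xs ⊔ Ideal.span {y} := by
      rw [Ideal.ofList_append, Ideal.ofList_singleton]
    have hle : Ideal.ofList xs ≤ Ideal.ofList (xs ++ [y]) := by
      rw [hJ]
      exact le_sup_left
    cases i with
    | zero =>
      rw [Nat.choose_zero_right]
      exact hasUniv_zero _
    | succ n₀ =>
      rw [List.length_append, List.length_singleton, Nat.choose_succ_succ']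
      exact step (Ideal.ofList xs) (Ideal.ofList (xs ++ [y])) y hle hJ hy n₀ _ _
        (ih h1 n₀) (ih h1 (n₀ + 1))

theorem main (xs : List A) (hreg : RingTheory.Sequence.IsWeaklyRegular A xs)
    (M : Type u) [AddCommGroup M] [Module A M]
    (hM : ∀ a ∈ Ideal.ofList xs, ∀ x : M, a • x = 0) (i : ℕ) :
    Nonempty (Ext.{u} (ModuleCat.of A (A ⧸ Ideal.ofList xs)) (ModuleCat.of A M) i ≃ₗ[A]
      (Fin (xs.length.choose i) → M)) := by
  obtain ⟨t, ht⟩ := hasUniv_ofList xs hreg i
  let Ψ : (Fin (xs.length.choose i) → M) →ₗ[A]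
      Ext.{u} (Bm (Ideal.ofList xs)) (ModuleCat.of A M) i :=
    { toFun := Psi _ t M hM
      map_add' := Psi_add _ t M hM
      map_smul' := fun a m => Psi_smul _ t M hM a m }
  exact ⟨(LinearEquiv.ofBijective Ψ (ht M hM)).symm⟩

end Groth.Agent.Lib.Helper4.ExtReg
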