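import Mathlib
import Groth.Agent.Lib.Helper4.ExtSupp2
import Groth.Agent.Lib.Helper4.SkLiftMod

/-!
# Finiteness of the set of primes of depth `k` and dimension `> k` under `(S_k)` (helper4)
-/

set_option autoImplicit false
set_option linter.style.haveILetI false
set_option linter.unusedSectionVars false
set_option linter.unusedVariables false
set_option maxHeartbeats 800000

universe u

open CategoryTheory CategoryTheory.Limits CategoryTheory.Pretriangulated DerivedCategory

attribute [local instance] HasDerivedCategory.standard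

namespace Groth.Agent.Lib.Helper4.ExtSupp

open Groth.Agent.Lib.Helper18.DR Groth.Agent.Lib.Helper18.DR.Dim Groth.Agent.Lib.Helper4
  Groth.Agent.Lib.Helper4.DT Groth.Agent.Lib.Helper4.LC

variable {A : Type u} [CommRing A] [IsNoetherianRing A] (ω : Dual.D A)
  (hω : Dual.IsDualizing A ω) (M : Type u) [AddCommGroup M] [Module A M] [Module.Finite A M]

lemma mem_Icc_of_mem_support {a b : ℤ}
    (hab : ∀ (M : Type u) [AddCommGroup M] [Module A M] (i : ℤ),
      (i < a ∨ b < i) → Subsingleton (Dual.inD A M ⟶ ω⟦i⟧))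
    (i : ℤ) (q : PrimeSpectrum A)
    (hq : q ∈ Module.support A (Dual.inD A M ⟶ ω⟦i⟧)) : i ∈ Set.Icc a b := by
  by_contra h
  have h' : i < a ∨ b < i := by
    rw [Set.mem_Icc] at h
    omega
  haveI := hab M i h'
  rw [Module.support_eq_empty] at hq
  exact hq

include hω in
/-- **S1715**: under `(S_k)`, only finitely many primes have `depth M_p = k < dim M_p`. -/
theorem finite_setOf_depth_eq (k : ℕ) (hM : LocCoh.HasSk k A M) :
    Set.Finite {p : PrimeSpectrum A |
      LocCoh.depth (Localization.AtPrime p.asIdeal)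
        (LocalizedModule p.asIdeal.primeCompl M) = k ∧
      (k : WithBot ℕ∞) < Module.supportDim (Localization.AtPrime p.asIdeal)
        (LocalizedModule p.asIdeal.primeCompl M)} := by
  obtain ⟨a, b, hab⟩ := hω.finite_injective_dimension
  have hfin : (⋃ i ∈ Set.Icc a b, ⋃ j ∈ Set.Icc a b,
      (PrimeSpectrum.asIdeal (R := A)) ⁻¹' (annE ω M i ⊔ annE ω M j).minimalPrimes).Finite := by
    refine Set.Finite.biUnion (Set.finite_Icc a b) (fun i _ => ?_)
    refine Set.Finite.biUnion (Set.finite_Icc a b) (fun j _ => ?_)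
    exact Set.Finite.preimage (fun x _ y _ h => PrimeSpectrum.ext h)
      (Ideal.finite_minimalPrimes_of_isNoetherianRing A _)
  refine hfin.subset ?_
  rintro p ⟨hpk, hpd⟩
  haveI hnt : Nontrivial (LocalizedModule p.asIdeal.primeCompl M) := by
    by_contra hns
    rw [not_nontrivial_iff_subsingleton] at hns
    rw [depth_eq_top_of_subsingleton] at hpk
    exact ENat.top_ne_coe k hpk
  obtain ⟨d, hd⟩ := exists_nat_supportDim (R := Localization.AtPrime p.asIdeal)
    (M := LocalizedModule p.asIdeal.primeCompl M)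
  rw [hd] at hpd
  have hkd : k < d := by exact_mod_cast hpd
  obtain ⟨n, -, -, hmd⟩ := pointwise ω hω M p
  obtain ⟨-, hi, hj⟩ := hmd k d hpk hd
  have hri := mem_Icc_of_mem_support ω M hab _ p hi
  have hrj := mem_Icc_of_mem_support ω M hab _ p hj
  refine Set.mem_iUnion₂.2 ⟨n - (k : ℤ), hri, Set.mem_iUnion₂.2 ⟨n - (d : ℤ), hrj, ?_⟩⟩
  show p.asIdeal ∈ (annE ω M (n - (k : ℤ)) ⊔ annE ω M (n - (d : ℤ))).minimalPrimes
  have hle : annE ω M (n - (k : ℤ)) ⊔ annE ω M (n - (d : ℤ)) ≤ p.asIdeal :=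
    sup_le ((mem_support_iff_annE_le ω hω M _ p).1 hi)
      ((mem_support_iff_annE_le ω hω M _ p).1 hj)
  obtain ⟨Q, hQ, hQp⟩ := Ideal.exists_minimalPrimes_le (J := p.asIdeal) hle
  rcases eq_or_lt_of_le hQp with h | h
  · rw [← h]
    exact hQ
  · exfalso
    haveI hQprime : Q.IsPrime := hQ.1.1
    have hQi : (⟨Q, hQprime⟩ : PrimeSpectrum A) ∈
        Module.support A (Dual.inD A M ⟶ ω⟦n - (k : ℤ)⟧) :=
      (mem_support_iff_annE_le ω hω M _ _).2 (le_sup_left.trans hQ.1.2)
    have hQj : (⟨Q, hQprime⟩ : PrimeSpectrum A) ∈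
        Module.support A (Dual.inD A M ⟶ ω⟦n - (d : ℤ)⟧) :=
      (mem_support_iff_annE_le ω hω M _ _).2 (le_sup_right.trans hQ.1.2)
    have h1 : ((((k : ℤ) + (n - (k : ℤ)) - (n - (d : ℤ))).toNat : ℕ) : WithBot ℕ∞) ≤
        Module.supportDim (Localization.AtPrime Q) (LocalizedModule Q.primeCompl M) :=
      (hasSk_iff ω hω M k).1 hM _ _ (by omega) ⟨Q, hQprime⟩ hQi hQj
    have hQnt : Nontrivial (LocalizedModule Q.primeCompl M) := by
      by_contra hns
      rw [not_nontrivial_iff_subsingleton] at hns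
      exact notMem_support_of_subsingleton ω hω M ⟨Q, hQprime⟩ hns _ hQi
    have h2 := SkLiftMod.supportDim_localized_add_one_le Q p.asIdeal h hQnt
    rw [hd] at h2
    haveI := hQnt
    obtain ⟨dQ, hdQ⟩ := exists_nat_supportDim (R := Localization.AtPrime Q)
      (M := LocalizedModule Q.primeCompl M)
    rw [hdQ] at h1 h2
    have h3 : ((k : ℤ) + (n - (k : ℤ)) - (n - (d : ℤ))).toNat ≤ dQ := by exact_mod_cast h1
    have h4 : dQ + 1 ≤ d := by exact_mod_cast h2
    omega

end Groth.Agent.Lib.Helper4.ExtSupp
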