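import Mathlib
import Groth.Prelude.Def_W4c1famcyclesFFR

set_option autoImplicit false
set_option linter.style.haveILetI false
set_option linter.unusedSectionVars false
set_option linter.unusedVariables false
set_option linter.unusedSimpArgs false
set_option maxHeartbeats 1600000
set_option maxSynthPendingDepth 3

universe u

namespace Groth.Agent.Lib.Helper4.FFRDet

open Module

/-! ### Localisation functor lemmas -/

theorem lm_map_comp {A : Type u} [CommRing A] (S : Submonoid A) {M N P : Type u}
    [AddCommGroup M] [Module A M] [AddCommGroup N] [Module A N] [AddCommGroup P] [Module A P]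
    (f : M →ₗ[A] N) (g : N →ₗ[A] P) :
    LocalizedModule.map S (g ∘ₗ f) = LocalizedModule.map S g ∘ₗ LocalizedModule.map S f := by
  apply LinearMap.ext
  intro x
  refine LocalizedModule.induction_on (fun m s => ?_) x
  rw [LinearMap.comp_apply, LocalizedModule.map_mk, LocalizedModule.map_mk, LocalizedModule.map_mk,
    LinearMap.comp_apply]

theorem lm_map_exact {A : Type u} [CommRing A] (S : Submonoid A) {M₀ M₁ M₂ : Type u}
    [AddCommGroup M₀] [Module A M₀] [AddCommGroup M₁] [Module A M₁] [AddCommGroup M₂] [Module A M₂]
    (g : M₀ →ₗ[A] M₁) (h : M₁ →ₗ[A] M₂) (ex : Function.Exact g h) :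
    Function.Exact (LocalizedModule.map S g) (LocalizedModule.map S h) :=
  LocalizedModule.map_exact S g h ex

/-! ### Characteristic polynomials: block triangular form and exact sequences -/

open Module.Basis in
theorem charpoly_block {R : Type u} [CommRing R] {V : Type u} [AddCommGroup V] [Module R V]
    [Module.Free R V] [Module.Finite R V]
    (W : Submodule R V) [Module.Free R W] [Module.Finite R W] [Module.Free R (V ⧸ W)]
    (e : V →ₗ[R] V) (he : W ≤ W.comap e) :
    e.charpoly = (e.restrict he).charpoly * (W.mapQ W e he).charpoly := by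
  let m := Module.Free.ChooseBasisIndex R W
  let bW : Basis m R W := Module.Free.chooseBasis R W
  let n := Module.Free.ChooseBasisIndex R (V ⧸ W)
  let bQ : Basis n R (V ⧸ W) := Module.Free.chooseBasis R (V ⧸ W)
  let b := sumQuot bW bQ
  let A : Matrix m m R := LinearMap.toMatrix bW bW (e.restrict he)
  let B : Matrix m n R := Matrix.of fun i l ↦
    ((sumQuot bW bQ).repr (e ((sumQuot bW bQ) (Sum.inr l)))) (Sum.inl i)
  let D : Matrix n n R := LinearMap.toMatrix bQ bQ (W.mapQ W e he)
  suffices LinearMap.toMatrix b b e = Matrix.fromBlocks A B 0 D by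
    rw [← LinearMap.charpoly_toMatrix e b, this, ← LinearMap.charpoly_toMatrix (e.restrict he) bW,
      ← LinearMap.charpoly_toMatrix (W.mapQ W e he) bQ, Matrix.charpoly_fromBlocks_zero₂₁]
  ext u v
  cases u with
  | inl i =>
    cases v with
    | inl k =>
      simp only [b, sumQuot_inl, Matrix.fromBlocks_apply₁₁, A, LinearMap.toMatrix_apply]
      apply sumQuot_repr_inl_of_mem
    | inr l => simp [b, LinearMap.toMatrix_apply, Matrix.fromBlocks_apply₁₂, B]
  | inr j =>
    cases v with
    | inl k =>
      suffices W.mkQ (e (bW k)) = 0 by simp [LinearMap.toMatrix_apply, b, this]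
      rw [← LinearMap.mem_ker, Submodule.ker_mkQ]
      exact he (Submodule.coe_mem (bW k))
    | inr l =>
      simp only [LinearMap.toMatrix_apply, sumQuot_repr_inr,
        Matrix.fromBlocks_apply₂₂, b, D]
      rw [← sumQuot_inr bW bQ l, W.mapQ_apply]
      simp

theorem charpoly_mul_of_exact {R : Type u} [CommRing R] {K F M : Type u}
    [AddCommGroup K] [Module R K] [AddCommGroup F] [Module R F] [AddCommGroup M] [Module R M]
    [Module.Free R K] [Module.Finite R K] [Module.Free R F] [Module.Finite R F]
    [Module.Free R M] [Module.Finite R M]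
    (ι : K →ₗ[R] F) (π : F →ₗ[R] M) (hι : Function.Injective ι) (hπ : Function.Surjective π)
    (hex : Function.Exact ι π)
    (κ : K →ₗ[R] K) (Φ : F →ₗ[R] F) (φ : M →ₗ[R] M)
    (h1 : ι ∘ₗ κ = Φ ∘ₗ ι) (h2 : π ∘ₗ Φ = φ ∘ₗ π) :
    Φ.charpoly = κ.charpoly * φ.charpoly := by
  have hrange : LinearMap.range ι = LinearMap.ker π := (LinearMap.exact_iff.mp hex).symm
  let eK : K ≃ₗ[R] LinearMap.ker π :=
    (LinearEquiv.ofInjective ι hι).trans (LinearEquiv.ofEq _ _ hrange)
  let eM : (F ⧸ LinearMap.ker π) ≃ₗ[R] M := π.quotKerEquivOfSurjective hπ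
  haveI : Module.Free R (LinearMap.ker π) := Module.Free.of_equiv eK
  haveI : Module.Finite R (LinearMap.ker π) := Module.Finite.equiv eK
  haveI : Module.Free R (F ⧸ LinearMap.ker π) := Module.Free.of_equiv eM.symm
  have he : LinearMap.ker π ≤ (LinearMap.ker π).comap Φ := by
    intro x hx
    rw [Submodule.mem_comap, LinearMap.mem_ker]
    have h := LinearMap.congr_fun h2 x
    simp only [LinearMap.comp_apply] at h
    rw [h, LinearMap.mem_ker.mp hx, map_zero]
  have hblock := charpoly_block (LinearMap.ker π) Φ he
  have hcoe : ∀ k', ((eK k' : LinearMap.ker π) : F) = ι k' := fun k' => by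
    first | rfl | simp [eK]
  have hK : (Φ.restrict he).charpoly = κ.charpoly := by
    rw [← LinearEquiv.charpoly_conj eK κ]
    congr 1
    apply LinearMap.ext
    intro w
    obtain ⟨k, rfl⟩ := eK.surjective w
    apply Subtype.ext
    rw [LinearEquiv.conj_apply_apply, LinearEquiv.symm_apply_apply, LinearMap.restrict_coe_apply,
      hcoe, hcoe]
    exact (LinearMap.congr_fun h1 k).symm
  have hM : ((LinearMap.ker π).mapQ (LinearMap.ker π) Φ he).charpoly = φ.charpoly := by
    rw [← LinearEquiv.charpoly_conj eM ((LinearMap.ker π).mapQ (LinearMap.ker π) Φ he)]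
    congr 1
    apply LinearMap.ext
    intro m
    obtain ⟨x, rfl⟩ := hπ m
    have hmk : eM (Submodule.Quotient.mk x) = π x :=
      LinearMap.quotKerEquivOfSurjective_apply_mk π hπ x
    have hsymm : eM.symm (π x) = Submodule.Quotient.mk x := by
      rw [LinearEquiv.symm_apply_eq, hmk]
    rw [LinearEquiv.conj_apply_apply, hsymm, Submodule.mapQ_apply]
    have hmk' : eM (Submodule.Quotient.mk (Φ x)) = π (Φ x) :=
      LinearMap.quotKerEquivOfSurjective_apply_mk π hπ (Φ x)
    rw [hmk']
    exact LinearMap.congr_fun h2 x
  rw [hblock, hK, hM]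

/-- The characteristic polynomial commutes with localisation (finite free case). -/
theorem charpoly_localizedModule_map {A : Type u} [CommRing A] (S : Submonoid A) {M : Type u}
    [AddCommGroup M] [Module A M] [Module.Free A M] [Module.Finite A M]
    [Module.Free (Localization S) (LocalizedModule S M)]
    [Module.Finite (Localization S) (LocalizedModule S M)]
    (φ : M →ₗ[A] M) :
    (LocalizedModule.map S φ).charpoly = φ.charpoly.map (algebraMap A (Localization S)) := by
  let b := Module.Free.chooseBasis A M
  let b' : Module.Basis (Module.Free.ChooseBasisIndex A M) (Localization S) (LocalizedModule S M) :=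
    b.ofIsLocalizedModule (Localization S) S (LocalizedModule.mkLinearMap S M)
  have h1 : ∀ j, b' j = LocalizedModule.mkLinearMap S M (b j) := fun j =>
    b.ofIsLocalizedModule_apply (Localization S) S (LocalizedModule.mkLinearMap S M) j
  have h2 : ∀ m, LocalizedModule.map S φ (LocalizedModule.mkLinearMap S M m) =
      LocalizedModule.mkLinearMap S M (φ m) := fun m => by
    rw [LocalizedModule.mkLinearMap_apply, LocalizedModule.map_mk, LocalizedModule.mkLinearMap_apply]
  have h3 : ∀ m i, b'.repr (LocalizedModule.mkLinearMap S M m) i =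
      algebraMap A (Localization S) (b.repr m i) := fun m i =>
    b.ofIsLocalizedModule_repr_apply (Localization S) S (LocalizedModule.mkLinearMap S M) m i
  rw [← LinearMap.charpoly_toMatrix (LocalizedModule.map S φ) b', ← LinearMap.charpoly_toMatrix φ b,
    ← Matrix.charpoly_map]
  congr 1
  ext i j
  rw [LinearMap.toMatrix_apply, Matrix.map_apply, LinearMap.toMatrix_apply, h1, h2, h3]

/-! ### Depth zero local rings -/

theorem free_of_depth_zero {R : Type u} [CommRing R] [IsLocalRing R] (x : R) (hx : x ≠ 0)
    (hmx : ∀ m ∈ IsLocalRing.maximalIdeal R, m * x = 0)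
    {K F M : Type u} [AddCommGroup K] [Module R K] [AddCommGroup F] [Module R F]
    [AddCommGroup M] [Module R M]
    [Module.Free R K] [Module.Finite R K] [Module.Free R F] [Module.Finite R F]
    (ι : K →ₗ[R] F) (π : F →ₗ[R] M) (hι : Function.Injective ι) (hπ : Function.Surjective π)
    (hex : Function.Exact ι π) : Module.Free R M := by
  refine Module.free_of_lTensor_residueField_injective ι π hπ hex ?_
  let bK := Module.Free.chooseBasis R K
  let bF := Module.Free.chooseBasis R F
  have hsurj : Function.Surjective (algebraMap R (IsLocalRing.ResidueField R)) :=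
    IsLocalRing.residue_surjective
  rw [injective_iff_map_eq_zero]
  intro z hz
  obtain ⟨v, rfl⟩ := TensorProduct.mk_surjective R K (IsLocalRing.ResidueField R) hsurj z
  have hz' : (1 : IsLocalRing.ResidueField R) ⊗ₜ[R] (ι v) = 0 := by
    simpa [TensorProduct.mk_apply, LinearMap.lTensor_tmul] using hz
  have hcoordF : ∀ i, bF.repr (ι v) i ∈ IsLocalRing.maximalIdeal R := by
    intro i
    have h := congrArg
      (fun w => (Algebra.TensorProduct.basis (IsLocalRing.ResidueField R) bF).repr w i) hz'
    simp only [Algebra.TensorProduct.basis_repr_tmul, one_smul, Finsupp.mapRange_apply, map_zero,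
      Finsupp.coe_zero, Pi.zero_apply] at h
    rw [IsLocalRing.ResidueField.algebraMap_eq] at h
    exact (IsLocalRing.residue_eq_zero_iff _).mp h
  have hxι : x • ι v = 0 := by
    apply bF.ext_elem
    intro i
    rw [map_smul, Finsupp.smul_apply, smul_eq_mul, mul_comm, hmx _ (hcoordF i), map_zero,
      Finsupp.zero_apply]
  have hxv : x • v = 0 := hι (by rw [map_smul, hxι, map_zero])
  have hcoordK : ∀ j, bK.repr v j ∈ IsLocalRing.maximalIdeal R := by
    intro j
    by_contra hnot
    have hu : IsUnit (bK.repr v j) := by
      by_contra hnu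
      exact hnot ((IsLocalRing.mem_maximalIdeal _).mpr hnu)
    have h0 : x * bK.repr v j = 0 := by
      have h := congrArg (fun w => bK.repr w j) hxv
      simpa [map_smul, Finsupp.smul_apply, smul_eq_mul] using h
    exact hx (hu.mul_left_eq_zero.mp h0)
  rw [TensorProduct.mk_apply]
  apply (Algebra.TensorProduct.basis (IsLocalRing.ResidueField R) bK).ext_elem
  intro j
  simp only [Algebra.TensorProduct.basis_repr_tmul, one_smul, Finsupp.mapRange_apply, map_zero,
    Finsupp.coe_zero, Pi.zero_apply]
  rw [IsLocalRing.ResidueField.algebraMap_eq]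
  exact (IsLocalRing.residue_eq_zero_iff _).mpr (hcoordK j)

/-! ### Finite free resolutions -/

theorem ffr_zero {A : Type u} [CommRing A] {M : Type u} [AddCommGroup M] [Module A M]
    (h : FamCyc.HasFiniteFreeResolutionLE A 0 M) : Module.Free A M ∧ Module.Finite A M := h

theorem ffr_succ {A : Type u} [CommRing A] {M : Type u} [AddCommGroup M] [Module A M] {n : ℕ}
    (h : FamCyc.HasFiniteFreeResolutionLE A (n + 1) M) :
    ∃ (k : ℕ) (f : (Fin k → A) →ₗ[A] M), Function.Surjective f ∧
      FamCyc.HasFiniteFreeResolutionLE A n (LinearMap.ker f) := h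

theorem ffr_finite (A : Type u) [CommRing A] : ∀ (n : ℕ) (M : Type u) [AddCommGroup M] [Module A M],
    FamCyc.HasFiniteFreeResolutionLE A n M → Module.Finite A M := by
  intro n
  cases n with
  | zero =>
    intro M _ _ hM
    exact (ffr_zero hM).2
  | succ n =>
    intro M _ _ hM
    obtain ⟨k, f, hf, _⟩ := ffr_succ hM
    exact Module.Finite.of_surjective f hf

theorem free_localized_of_ffr {A : Type u} [CommRing A] (p : Ideal A) [p.IsPrime]
    (x : Localization.AtPrime p) (hx : x ≠ 0)
    (hmx : ∀ m ∈ IsLocalRing.maximalIdeal (Localization.AtPrime p), m * x = 0) :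
    ∀ (n : ℕ) (M : Type u) [AddCommGroup M] [Module A M], FamCyc.HasFiniteFreeResolutionLE A n M →
      Module.Free (Localization.AtPrime p) (LocalizedModule p.primeCompl M) := by
  intro n
  induction n with
  | zero =>
    intro M _ _ hM
    obtain ⟨hfree, hfin⟩ := ffr_zero hM
    exact Module.free_of_isLocalizedModule p.primeCompl
      (LocalizedModule.mkLinearMap p.primeCompl M)
  | succ n ih =>
    intro M _ _ hM
    obtain ⟨k, f, hf, hK⟩ := ffr_succ hM
    haveI : Module.Free (Localization.AtPrime p)
        (LocalizedModule p.primeCompl (LinearMap.ker f)) := ih _ hK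
    haveI : Module.Finite A (LinearMap.ker f) := ffr_finite A n _ hK
    haveI : Module.Free (Localization.AtPrime p) (LocalizedModule p.primeCompl (Fin k → A)) :=
      Module.free_of_isLocalizedModule p.primeCompl
        (LocalizedModule.mkLinearMap p.primeCompl (Fin k → A))
    exact free_of_depth_zero x hx hmx
      (LocalizedModule.map p.primeCompl (LinearMap.ker f).subtype)
      (LocalizedModule.map p.primeCompl f)
      (LocalizedModule.map_injective _ _ (Submodule.injective_subtype _))
      (LocalizedModule.map_surjective _ _ hf)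
      (lm_map_exact _ _ _ (LinearMap.exact_subtype_ker_map f))

theorem localized_ker_free {A : Type u} [CommRing A] (p : Ideal A) [p.IsPrime] {F M : Type u}
    [AddCommGroup F] [Module A F] [AddCommGroup M] [Module A M]
    [Module.Free A F] [Module.Finite A F] (f : F →ₗ[A] M) (hf : Function.Surjective f)
    [Module.Free (Localization.AtPrime p) (LocalizedModule p.primeCompl M)] :
    Module.Free (Localization.AtPrime p) (LocalizedModule p.primeCompl (LinearMap.ker f)) ∧
    Module.Finite (Localization.AtPrime p) (LocalizedModule p.primeCompl (LinearMap.ker f)) := by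
  haveI : Module.Free (Localization.AtPrime p) (LocalizedModule p.primeCompl F) :=
    Module.free_of_isLocalizedModule p.primeCompl (LocalizedModule.mkLinearMap p.primeCompl F)
  have hinj := LocalizedModule.map_injective p.primeCompl (LinearMap.ker f).subtype
    (Submodule.injective_subtype _)
  have hsurj := LocalizedModule.map_surjective p.primeCompl f hf
  have hex := lm_map_exact p.primeCompl _ _ (LinearMap.exact_subtype_ker_map f)
  obtain ⟨s, hs⟩ := Module.projective_lifting_property (LocalizedModule.map p.primeCompl f)
    LinearMap.id hsurj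
  have htfae := hex.split_tfae'
  have h01 := htfae.out 0 1
  obtain ⟨_, r, hr⟩ := h01.mp ⟨hinj, s, hs⟩
  haveI : Module.Projective (Localization.AtPrime p)
      (LocalizedModule p.primeCompl (LinearMap.ker f)) := Module.Projective.of_split _ r hr
  have hrs : Function.Surjective r := fun y =>
    ⟨LocalizedModule.map p.primeCompl (LinearMap.ker f).subtype y, by
      simpa using LinearMap.congr_fun hr y⟩
  haveI : Module.Finite (Localization.AtPrime p)
      (LocalizedModule p.primeCompl (LinearMap.ker f)) := Module.Finite.of_surjective r hrs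
  exact ⟨Module.free_of_flat_of_isLocalRing, inferInstance⟩

theorem exists_charpoly (A : Type u) [CommRing A] :
    ∀ (n : ℕ) (M : Type u) [AddCommGroup M] [Module A M],
      FamCyc.HasFiniteFreeResolutionLE A n M → ∀ φ : M →ₗ[A] M,
      ∃ P : Polynomial A, P.Monic ∧ ∀ (p : Ideal A) [p.IsPrime]
        [Module.Free (Localization.AtPrime p) (LocalizedModule p.primeCompl M)]
        [Module.Finite (Localization.AtPrime p) (LocalizedModule p.primeCompl M)],
        P.map (algebraMap A (Localization.AtPrime p)) =
          (LocalizedModule.map p.primeCompl φ).charpoly := by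
  intro n
  induction n with
  | zero =>
    intro M _ _ hM φ
    obtain ⟨hfree, hfin⟩ := ffr_zero hM
    refine ⟨φ.charpoly, φ.charpoly_monic, ?_⟩
    intro p _ _ _
    exact (charpoly_localizedModule_map p.primeCompl φ).symm
  | succ n ih =>
    intro M _ _ hM φ
    obtain ⟨k, f, hf, hK⟩ := ffr_succ hM
    obtain ⟨Φ, hΦ⟩ := Module.projective_lifting_property f (φ ∘ₗ f) hf
    have hker : ∀ x ∈ LinearMap.ker f, Φ x ∈ LinearMap.ker f := by
      intro x hx
      rw [LinearMap.mem_ker] at hx ⊢
      have h := LinearMap.congr_fun hΦ x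
      simp only [LinearMap.comp_apply] at h
      rw [h, hx, map_zero]
    obtain ⟨PK, hPKm, hPK⟩ := ih (LinearMap.ker f) hK (Φ.restrict hker)
    have hικ : (LinearMap.ker f).subtype ∘ₗ (Φ.restrict hker) = Φ ∘ₗ (LinearMap.ker f).subtype :=
      LinearMap.ext fun x => by simp [LinearMap.restrict_coe_apply]
    have key : ∀ (p : Ideal A) [p.IsPrime]
        [Module.Free (Localization.AtPrime p) (LocalizedModule p.primeCompl M)]
        [Module.Finite (Localization.AtPrime p) (LocalizedModule p.primeCompl M)],
        Φ.charpoly.map (algebraMap A (Localization.AtPrime p)) =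
          PK.map (algebraMap A (Localization.AtPrime p)) *
            (LocalizedModule.map p.primeCompl φ).charpoly := by
      intro p _ _ _
      obtain ⟨hKfree, hKfin⟩ := localized_ker_free p f hf
      haveI := hKfree
      haveI := hKfin
      haveI : Module.Free (Localization.AtPrime p) (LocalizedModule p.primeCompl (Fin k → A)) :=
        Module.free_of_isLocalizedModule p.primeCompl
          (LocalizedModule.mkLinearMap p.primeCompl (Fin k → A))
      rw [hPK p]
      have hΦp := charpoly_localizedModule_map p.primeCompl Φ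
      refine hΦp.symm.trans ?_
      refine charpoly_mul_of_exact
        (LocalizedModule.map p.primeCompl (LinearMap.ker f).subtype)
        (LocalizedModule.map p.primeCompl f)
        (LocalizedModule.map_injective _ _ (Submodule.injective_subtype _))
        (LocalizedModule.map_surjective _ _ hf)
        (lm_map_exact _ _ _ (LinearMap.exact_subtype_ker_map f)) _ _ _ ?_ ?_
      · rw [← lm_map_comp, ← lm_map_comp, hικ]
      · rw [← lm_map_comp, ← lm_map_comp, hΦ]
    by_cases hdeg : PK.natDegree ≤ Φ.charpoly.natDegree
    · refine ⟨Φ.charpoly /ₘ PK, ?_, ?_⟩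
      · by_cases hA : Nontrivial A
        · have hd : PK.degree ≤ Φ.charpoly.degree := by
            rw [Polynomial.degree_eq_natDegree hPKm.ne_zero,
              Polynomial.degree_eq_natDegree (LinearMap.charpoly_monic Φ).ne_zero]
            exact_mod_cast hdeg
          show (Φ.charpoly /ₘ PK).leadingCoeff = 1
          rw [Polynomial.leadingCoeff_divByMonic_of_monic hPKm hd]
          exact LinearMap.charpoly_monic Φ
        · haveI := not_nontrivial_iff_subsingleton.mp hA
          show (Φ.charpoly /ₘ PK).leadingCoeff = 1
          exact Subsingleton.elim _ _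
      · intro p _ _ _
        rw [Polynomial.map_divByMonic _ hPKm, key p,
          Polynomial.mul_divByMonic_cancel_left _ (hPKm.map _)]
    · refine ⟨1, Polynomial.monic_one, ?_⟩
      intro p _ _ _
      exfalso
      apply hdeg
      have h := congrArg Polynomial.natDegree (key p)
      rw [(LinearMap.charpoly_monic Φ).natDegree_map,
        ((hPKm.map _).natDegree_mul (LinearMap.charpoly_monic _)), hPKm.natDegree_map] at h
      omega

theorem main (A : Type u) [CommRing A] [IsNoetherianRing A]
    (M : Type u) [AddCommGroup M] [Module A M] (n : ℕ)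
    (hM : FamCyc.HasFiniteFreeResolutionLE A n M) (φ : M →ₗ[A] M) :
    ∃! a : A, ∀ (p : Ideal A) [p.IsPrime],
      Module.Free (Localization.AtPrime p) (LocalizedModule p.primeCompl M) →
        algebraMap A (Localization.AtPrime p) a =
          LinearMap.det (LocalizedModule.map p.primeCompl φ) := by
  haveI hfin : Module.Finite A M := ffr_finite A n M hM
  obtain ⟨P, hPm, hP⟩ := exists_charpoly A n M hM φ
  have hex : ∀ (p : Ideal A) [p.IsPrime],
      Module.Free (Localization.AtPrime p) (LocalizedModule p.primeCompl M) →
        algebraMap A (Localization.AtPrime p) ((-1) ^ P.natDegree * P.coeff 0) =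
          LinearMap.det (LocalizedModule.map p.primeCompl φ) := by
    intro p _ hfree
    haveI := hfree
    have h := hP p
    rw [LinearMap.det_eq_sign_charpoly_coeff, ← LinearMap.charpoly_natDegree, ← h,
      hPm.natDegree_map, Polynomial.coeff_map, map_mul, map_pow, map_neg, map_one]
  refine ⟨(-1) ^ P.natDegree * P.coeff 0, hex, ?_⟩
  intro a' ha'
  by_contra hne
  have hd : a' - (-1) ^ P.natDegree * P.coeff 0 ≠ 0 := sub_ne_zero.mpr hne
  obtain ⟨Q, hQ, hle⟩ := exists_le_isAssociatedPrime_of_isNoetherianRing A _ hd
  obtain ⟨hQp, y, hQy⟩ := isAssociatedPrime_iff.mp hQ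
  haveI := hQp
  have hmemQ : ∀ r, r ∈ Q ↔ r * y = 0 := fun r => by
    rw [hQy, Submodule.mem_colon_singleton, Submodule.mem_bot, smul_eq_mul]
  have hy0 : algebraMap A (Localization.AtPrime Q) y ≠ 0 := by
    intro h0
    obtain ⟨s, hs⟩ := (IsLocalization.map_eq_zero_iff Q.primeCompl _ y).mp h0
    exact s.2 ((hmemQ _).mpr hs)
  have hmy : ∀ m ∈ IsLocalRing.maximalIdeal (Localization.AtPrime Q),
      m * algebraMap A (Localization.AtPrime Q) y = 0 := by
    intro m hm
    obtain ⟨⟨a, s⟩, has⟩ := IsLocalization.surj Q.primeCompl m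
    dsimp only at has
    have haQ : a ∈ Q := by
      rw [← IsLocalization.AtPrime.to_map_mem_maximal_iff (Localization.AtPrime Q) Q a, ← has]
      exact Ideal.mul_mem_right _ _ hm
    have hsu : IsUnit (algebraMap A (Localization.AtPrime Q) s) :=
      IsLocalization.map_units _ s
    have h0 : m * algebraMap A (Localization.AtPrime Q) y *
        algebraMap A (Localization.AtPrime Q) s = 0 := by
      rw [mul_right_comm, has, ← map_mul, (hmemQ a).mp haQ, map_zero]
    exact hsu.mul_left_eq_zero.mp h0
  have hfree : Module.Free (Localization.AtPrime Q) (LocalizedModule Q.primeCompl M) :=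
    free_localized_of_ffr Q _ hy0 hmy n M hM
  have h1 := ha' Q hfree
  have h2 := hex Q hfree
  have h0 : algebraMap A (Localization.AtPrime Q) (a' - (-1) ^ P.natDegree * P.coeff 0) = 0 := by
    rw [map_sub, h1, h2, sub_self]
  obtain ⟨s, hs⟩ := (IsLocalization.map_eq_zero_iff Q.primeCompl _ _).mp h0
  refine s.2 (hle ?_)
  rw [Submodule.mem_colon_singleton, Submodule.mem_bot, smul_eq_mul]
  exact hs

end Groth.Agent.Lib.Helper4.FFRDet
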