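import Mathlib

/-!
# Descent of flatness (over a base ring) along a faithfully flat extension of the acting ring

`flat_of_faithfullyFlat_tensor`: `X` an `A`-module, `A` an `R`-algebra, `T` a faithfully flat
`A`-algebra; if `T ⊗[A] X` is `R`-flat then `X` is `R`-flat.
-/

set_option autoImplicit false
set_option linter.style.haveILetI false
set_option linter.unusedSectionVars false
set_option linter.unusedVariables false
set_option maxHeartbeats 800000

universe u

open TensorProduct

namespace Groth.Agent.Lib.Helper4.FlatDesc

theorem flat_of_faithfullyFlat_tensor {R A : Type u} [CommRing R] [CommRing A] [Algebra R A]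
    (X : Type u) [AddCommGroup X] [Module A X] [Module R X] [IsScalarTower R A X]
    (T : Type u) [CommRing T] [Algebra A T] [Algebra R T] [IsScalarTower R A T]
    [Module.FaithfullyFlat A T]
    (hfl : Module.Flat R (T ⊗[A] X)) : Module.Flat R X := by
  rw [Module.Flat.iff_lTensor_preserves_injective_linearMap]
  intro N N' _ _ _ _ φ hφ
  let ψ : X ⊗[R] N →ₗ[A] X ⊗[R] N' := TensorProduct.AlgebraTensorModule.lTensor A X φ
  let αN := TensorProduct.AlgebraTensorModule.assoc R A A T X N
  let αN' := TensorProduct.AlgebraTensorModule.assoc R A A T X N'
  have hsq : ∀ z, ψ.lTensor T (αN z) = αN' (φ.lTensor (T ⊗[A] X) z) := by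
    intro z
    induction z using TensorProduct.induction_on with
    | zero => simp
    | add a b ha hb => simp only [map_add, ha, hb]
    | tmul w n =>
      induction w using TensorProduct.induction_on with
      | zero => simp
      | add a b ha hb => simp only [add_tmul, map_add, ha, hb]
      | tmul t x =>
        simp only [αN, αN', ψ, TensorProduct.AlgebraTensorModule.assoc_tmul,
          LinearMap.lTensor_tmul, TensorProduct.AlgebraTensorModule.lTensor_tmul]
  have hinj : Function.Injective (φ.lTensor (T ⊗[A] X)) :=
    Module.Flat.lTensor_preserves_injective_linearMap φ hφ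
  have hfun : (ψ.lTensor T : T ⊗[A] (X ⊗[R] N) → T ⊗[A] (X ⊗[R] N')) =
      fun y => αN' (φ.lTensor (T ⊗[A] X) (αN.symm y)) := by
    funext y
    rw [← hsq, LinearEquiv.apply_symm_apply]
  have key : Function.Injective (ψ.lTensor T) := by
    rw [hfun]
    exact αN'.injective.comp (hinj.comp αN.symm.injective)
  have h2 : Function.Injective ψ :=
    (Module.FaithfullyFlat.lTensor_injective_iff_injective A T (f := ψ)).mp key
  exact h2

end Groth.Agent.Lib.Helper4.FlatDesc
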