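import Mathlib

/-!
# A subideal of an ideal with flat quotient, equal modulo a nilpotent ideal of the base, is everything

Pure-algebra core offered for (E2) of helper18's S12329.
-/

set_option autoImplicit false
set_option linter.unusedSectionVars false
set_option linter.unusedVariables false

namespace Groth.Agent.Lib.Helper4.FlatQuotNak

variable {A R : Type*} [CommRing A] [CommRing R] [Algebra A R]

/-- for `R ⧸ I` flat over `A`: an element of `I` of the form `∑ aᵢ rᵢ` with `aᵢ ∈ m` lies in
`m • I` (here as the ideal `m.map (algebraMap A R) * I`). -/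
theorem sum_mem_map_mul_of_flat (m : Ideal A) (I : Ideal R) [Module.Flat A (R ⧸ I)]
    {l : ℕ} (a : Fin l → A) (ha : ∀ i, a i ∈ m) (r : Fin l → R)
    (h : ∑ i, algebraMap A R (a i) * r i ∈ I) :
    ∑ i, algebraMap A R (a i) * r i ∈ m.map (algebraMap A R) * I := by
  have hrel : ∑ i, a i • (Ideal.Quotient.mk I (r i)) = 0 := by
    have : Ideal.Quotient.mk I (∑ i, algebraMap A R (a i) * r i) = 0 :=
      Ideal.Quotient.eq_zero_iff_mem.mpr h
    rw [map_sum] at this
    rw [← this]
    refine Finset.sum_congr rfl fun i _ => ?_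
    rw [Algebra.smul_def, map_mul]
    rfl
  obtain ⟨κ, b, y, hxy, hab⟩ :=
    (Module.Flat.iff_forall_isTrivialRelation.mp (inferInstance : Module.Flat A (R ⧸ I))) hrel
  choose s hs using fun j => Ideal.Quotient.mk_surjective (y j)
  have ht : ∀ i, r i - ∑ j, algebraMap A R (b i j) * s j ∈ I := by
    intro i
    rw [← Ideal.Quotient.eq_zero_iff_mem, map_sub, map_sum, sub_eq_zero]
    refine (hxy i).trans ?_
    refine Finset.sum_congr rfl fun j _ => ?_
    rw [map_mul, hs j, Algebra.smul_def]
    rfl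
  have hsplit : ∑ i, algebraMap A R (a i) * r i =
      ∑ i, algebraMap A R (a i) * (r i - ∑ j, algebraMap A R (b i j) * s j) := by
    have h0 : ∑ i, algebraMap A R (a i) * ∑ j, algebraMap A R (b i j) * s j = 0 := by
      simp_rw [Finset.mul_sum]
      rw [Finset.sum_comm]
      refine Finset.sum_eq_zero fun j _ => ?_
      have : ∑ i, algebraMap A R (a i) * (algebraMap A R (b i j) * s j) =
          algebraMap A R (∑ i, a i * b i j) * s j := by
        rw [map_sum, Finset.sum_mul]
        refine Finset.sum_congr rfl fun i _ => ?_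
        rw [map_mul, mul_assoc]
      rw [this, hab j, map_zero, zero_mul]
    simp_rw [mul_sub]
    rw [Finset.sum_sub_distrib, h0, sub_zero]
  rw [hsplit]
  refine Ideal.sum_mem _ fun i _ => ?_
  exact Ideal.mul_mem_mul (Ideal.mem_map_of_mem _ (ha i)) (ht i)

/-- for `R ⧸ I` flat over `A` and an ideal `m` of `A`: `mR ∩ I = mI`. -/
theorem map_inf_le_map_mul_of_flat (m : Ideal A) (I : Ideal R) [Module.Flat A (R ⧸ I)] :
    m.map (algebraMap A R) ⊓ I ≤ m.map (algebraMap A R) * I := by
  rintro y ⟨hyM, hyI⟩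
  have hyM' : y ∈ Submodule.span R ((algebraMap A R) '' (m : Set A)) := hyM
  obtain ⟨l, f, g, rfl⟩ := Submodule.mem_span_set'.mp hyM'
  choose a ha hag using fun i => (g i).2
  have hrew : ∑ i, f i • ((g i : R)) = ∑ i, algebraMap A R (a i) * f i := by
    refine Finset.sum_congr rfl fun i _ => ?_
    rw [← hag i, smul_eq_mul, mul_comm]
  rw [hrew] at hyI ⊢
  exact sum_mem_map_mul_of_flat m I a ha f hyI

theorem eq_of_le_of_flat_quot (m : Ideal A) (hm : IsNilpotent m) (J I : Ideal R) (hJI : J ≤ I)
    [Module.Flat A (R ⧸ I)] (h : I ≤ J ⊔ m.map (algebraMap A R)) : J = I := by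
  refine le_antisymm hJI ?_
  set M := m.map (algebraMap A R) with hM
  have step : I ≤ J ⊔ M * I := by
    intro x hx
    obtain ⟨j, hj, y, hy, rfl⟩ := Submodule.mem_sup.mp (h hx)
    have hyI : y ∈ I := by
      have := I.sub_mem hx (hJI hj)
      simpa using this
    exact Submodule.mem_sup.mpr ⟨j, hj, y, map_inf_le_map_mul_of_flat m I ⟨hy, hyI⟩, rfl⟩
  have iter : ∀ n : ℕ, I ≤ J ⊔ M ^ n * I := by
    intro n
    induction n with
    | zero => rw [pow_zero, one_mul]; exact le_sup_right
    | succ n ih =>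
      refine step.trans (sup_le le_sup_left ?_)
      calc M * I ≤ M * (J ⊔ M ^ n * I) := Ideal.mul_mono_right ih
        _ = M * J ⊔ M * (M ^ n * I) := Ideal.mul_sup _ _ _
        _ ≤ J ⊔ M ^ (n + 1) * I := by
          refine sup_le_sup Ideal.mul_le_right ?_
          rw [← mul_assoc, ← pow_succ']
  obtain ⟨n, hn⟩ := hm
  have hMn : M ^ n = ⊥ := by
    rw [hM, ← Ideal.map_pow, hn]
    exact Ideal.map_bot
  have := iter n
  rw [hMn, Ideal.bot_mul, sup_bot_eq] at this
  exact this

end Groth.Agent.Lib.Helper4.FlatQuotNak
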