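import Mathlib
import Groth.Agent.Lib.Helper1.MatlisBaseChange
import Groth.Agent.Lib.Helper4.GorFlat
import Groth.Agent.Lib.Helper4.Matlis

/-!
# Flat base change of the injective hull of the residue field, Gorenstein Artinian fibre (helper4)

`A → B` flat, Noetherian local rings, `B ⧸ 𝔪_A B` an Artinian Gorenstein local ring.  Then
`B ⊗_A E_A(k_A)` is an injective hull of `k_B`.  The proof adapts `Helper1.Matlis`
(the case `𝔪_A B = 𝔪_B`): the socle of `B ⊗ E` is the socle of the fibre, which is simple, and the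
`(𝔪_A^n B)`-torsion pieces have the right length.
-/

set_option autoImplicit false
set_option linter.style.haveILetI false
set_option linter.unusedSectionVars false
set_option linter.unusedVariables false
set_option maxHeartbeats 800000

open IsLocalRing TensorProduct
open Groth.Agent.Lib

universe u

namespace Groth.Agent.Lib.Helper4.FoxbyHull

variable {A : Type u} [CommRing A] [IsLocalRing A] [IsNoetherianRing A]
  {B : Type u} [CommRing B] [IsLocalRing B] [IsNoetherianRing B] [Algebra A B] [Module.Flat A B]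
  {E : Type u} [AddCommGroup E] [Module A E]

local notation "𝔞" => Ideal.map (algebraMap A B) (IsLocalRing.maximalIdeal A)

theorem main
    (hG : LocCoh.IsGorensteinLocalRing (B ⧸ (maximalIdeal A).map (algebraMap A B)))
    (hArt : IsArtinianRing (B ⧸ (maximalIdeal A).map (algebraMap A B)))
    (f : ResidueField A →ₗ[A] E) (hf : InjHull.IsInjectiveHull f) :
    ∃ g : ResidueField B →ₗ[B] B ⊗[A] E, InjHull.IsInjectiveHull g := by
  classical
  haveI : IsLocalRing (B ⧸ 𝔞) := hG.toIsLocalRing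
  haveI : IsNoetherianRing (B ⧸ 𝔞) := by haveI := hG; infer_instance
  have hIne : (𝔞 : Ideal B) ≠ ⊤ := by
    intro h
    have : Subsingleton (B ⧸ 𝔞) := Ideal.Quotient.subsingleton_iff.2 h
    exact not_subsingleton (B ⧸ 𝔞) this
  have hIle : (𝔞 : Ideal B) ≤ maximalIdeal B := IsLocalRing.le_maximalIdeal hIne
  haveI : IsLocalHom (algebraMap A B) :=
    ((IsLocalRing.local_hom_TFAE (algebraMap A B)).out 0 2).mpr hIle
  haveI : IsLocalHom (Ideal.Quotient.mk 𝔞) :=
    IsLocalHom.of_surjective _ Ideal.Quotient.mk_surjective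
  have hmkmem : ∀ β ∈ maximalIdeal B, Ideal.Quotient.mk 𝔞 β ∈ maximalIdeal (B ⧸ 𝔞) := by
    intro β hβ
    rw [mem_maximalIdeal, mem_nonunits_iff]
    intro hu
    exact (mem_maximalIdeal β).1 hβ (isUnit_of_map_unit (Ideal.Quotient.mk 𝔞) β hu)
  have hmemmk : ∀ y ∈ maximalIdeal (B ⧸ 𝔞), ∃ β ∈ maximalIdeal B,
      Ideal.Quotient.mk 𝔞 β = y := by
    intro y hy
    obtain ⟨β, rfl⟩ := Ideal.Quotient.mk_surjective y
    refine ⟨β, ?_, rfl⟩
    rw [mem_maximalIdeal, mem_nonunits_iff]
    intro hu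
    exact (mem_maximalIdeal _).1 hy (hu.map _)
  -- nilpotency of the maximal ideal of the fibre
  obtain ⟨N, hN⟩ : ∃ N : ℕ, maximalIdeal B ^ N ≤ 𝔞 := by
    obtain ⟨N, hN⟩ := (isArtinianRing_iff_isNilpotent_maximalIdeal (B ⧸ 𝔞)).1 hArt
    refine ⟨N, fun b hb => ?_⟩
    have hle : (maximalIdeal B ^ N).map (Ideal.Quotient.mk 𝔞) ≤ maximalIdeal (B ⧸ 𝔞) ^ N := by
      rw [Ideal.map_pow]
      apply Ideal.pow_right_mono
      rw [Ideal.map_le_iff_le_comap]
      intro x hx
      exact hmkmem x hx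
    have h1 : Ideal.Quotient.mk 𝔞 b ∈ maximalIdeal (B ⧸ 𝔞) ^ N :=
      hle (Ideal.mem_map_of_mem _ hb)
    rw [hN, Ideal.zero_eq_bot, Ideal.mem_bot] at h1
    exact Ideal.Quotient.eq_zero_iff_mem.1 h1
  -- power torsion
  have hpt : LocCoh.IsPowerTorsion (maximalIdeal B) (B ⊗[A] E) := by
    intro z
    obtain ⟨n, hn⟩ := Helper1.Matlis.exists_mem_F (B := B) f hf z
    refine ⟨N * n, fun β hβ => ?_⟩
    have h1 := Helper1.Matlis.F_le_torsionBySet (B := B) (E := E) (maximalIdeal A ^ n) hn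
    rw [Ideal.map_pow] at h1
    have h2 : β ∈ (𝔞 : Ideal B) ^ n := by
      rw [pow_mul] at hβ
      exact Ideal.pow_right_mono hN n hβ
    exact (Submodule.mem_torsionBySet_iff _ _).1 h1 ⟨β, h2⟩
  -- the generator `ξ = 1 ⊗ f 1`
  obtain ⟨ξ, hξ⟩ : ∃ ξ : B ⊗[A] E, ξ = (1 : B) ⊗ₜ[A] f 1 := ⟨_, rfl⟩
  have hf1 : f 1 ∈ Submodule.torsionBySet A E ((maximalIdeal A : Ideal A) : Set A) := by
    rw [Submodule.mem_torsionBySet_iff]
    rintro ⟨a, ha⟩
    change a • f 1 = 0
    rw [← map_smul, Helper4.Matlis.smul_residue_one, (residue_eq_zero_iff a).2 ha, map_zero]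
  have hξF : ξ ∈ Helper1.Matlis.F B E (maximalIdeal A) := by
    rw [hξ]
    exact Submodule.tmul_mem_baseChange_of_mem 1 hf1
  have hIξ : ∀ c ∈ (𝔞 : Ideal B), c • ξ = 0 := by
    intro c hc
    have := Helper1.Matlis.F_le_torsionBySet (B := B) (E := E) (maximalIdeal A) hξF
    exact (Submodule.mem_torsionBySet_iff _ _).1 this ⟨c, hc⟩
  have hann : ∀ b : B, b • ξ = 0 → b ∈ (𝔞 : Ideal B) := by
    intro b hb
    have hinj : Function.Injective (f.lTensor B) :=
      Module.Flat.lTensor_preserves_injective_linearMap f hf.injective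
    have h1 : f.lTensor B (b ⊗ₜ[A] (1 : ResidueField A)) = 0 := by
      rw [LinearMap.lTensor_tmul, ← hb, hξ, TensorProduct.smul_tmul', smul_eq_mul, mul_one]
    have h2 : b ⊗ₜ[A] (1 : ResidueField A) = 0 := hinj (by rw [h1, map_zero])
    have h3 : (Algebra.TensorProduct.quotIdealMapEquivTensorQuot B (maximalIdeal A))
        (Ideal.Quotient.mk 𝔞 b) = 0 := by
      have h4 : (Algebra.TensorProduct.quotIdealMapEquivTensorQuot B (maximalIdeal A))
          (Ideal.Quotient.mk 𝔞 b) = b ⊗ₜ[A] (1 : A ⧸ maximalIdeal A) := rfl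
      rw [h4]
      exact h2
    have h5 : Ideal.Quotient.mk 𝔞 b = 0 := by
      rwa [EmbeddingLike.map_eq_zero_iff] at h3
    exact Ideal.Quotient.eq_zero_iff_mem.1 h5
  -- the socle generator of the fibre
  have hdim : ringKrullDim (B ⧸ 𝔞) = 0 := by
    haveI : Ring.KrullDimLE 0 (B ⧸ 𝔞) := isArtinianRing_iff_krullDimLE_zero.1 hArt
    exact ringKrullDimZero_iff_ringKrullDim_eq_zero.1 inferInstance
  obtain ⟨z, hz0, hzsoc, hzgen⟩ := GorFlat.type1_of_gor (R := B ⧸ 𝔞) hG hdim
  obtain ⟨b₀, rfl⟩ := Ideal.Quotient.mk_surjective z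
  have hb₀ : b₀ ∉ (𝔞 : Ideal B) := fun h => hz0 (Ideal.Quotient.eq_zero_iff_mem.2 h)
  have hx₀ne : b₀ • ξ ≠ 0 := fun h => hb₀ (hann b₀ h)
  have hx₀soc : ∀ β ∈ maximalIdeal B, β • (b₀ • ξ) = 0 := by
    intro β hβ
    rw [← mul_smul]
    apply hIξ
    rw [← Ideal.Quotient.eq_zero_iff_mem, map_mul]
    exact hzsoc _ (hmkmem β hβ)
  obtain ⟨g, hg1⟩ := Helper4.Matlis.exists_linearMap_apply_one (b₀ • ξ) hx₀soc
  have hg : Function.Injective g := by
    rw [injective_iff_map_eq_zero]
    intro c hc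
    obtain ⟨b, rfl⟩ := residue_surjective c
    rw [Helper4.Matlis.apply_residue, hg1] at hc
    by_contra hne
    have hbu : IsUnit b := by
      by_contra hnu
      exact hne ((residue_eq_zero_iff b).2 ((mem_maximalIdeal b).2 hnu))
    obtain ⟨u, rfl⟩ := hbu
    apply hx₀ne
    have h0 : (↑u⁻¹ : B) • ((u : B) • (b₀ • ξ)) = 0 := by rw [hc, smul_zero]
    rwa [← mul_smul, Units.inv_mul, one_smul] at h0
  have hFspan : Helper1.Matlis.F B E (maximalIdeal A) ≤ Submodule.span B {ξ} := by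
    rw [Helper1.Matlis.F, Submodule.baseChange_eq_span, Submodule.span_le]
    rintro _ ⟨e, he, rfl⟩
    obtain ⟨a, ha⟩ := Helper4.Matlis.socle_subset_range hf.toIsEssentialInj e
      (fun a' ha' => (Submodule.mem_torsionBySet_iff _ _).1 he ⟨a', ha'⟩)
    change (1 : B) ⊗ₜ[A] e ∈ _
    rw [ha, TensorProduct.tmul_smul, ← algebraMap_smul B a ((1 : B) ⊗ₜ[A] f 1), ← hξ]
    exact Submodule.smul_mem _ _ (Submodule.mem_span_singleton_self ξ)
  have hrange : ∀ x ∈ Submodule.torsionBySet B (B ⊗[A] E) ((maximalIdeal B : Ideal B) : Set B),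
      x ∈ LinearMap.range g := by
    intro x hx
    have hx' : ∀ β ∈ maximalIdeal B, β • x = 0 := fun β hβ =>
      (Submodule.mem_torsionBySet_iff _ _).1 hx ⟨β, hβ⟩
    have hxI : x ∈ Submodule.torsionBySet B (B ⊗[A] E) (((𝔞 : Ideal B)) : Set B) := by
      rw [Submodule.mem_torsionBySet_iff]
      rintro ⟨c, hc⟩
      exact hx' c (hIle hc)
    have hxF := Helper1.Matlis.torsionBySet_map_le_baseChange E (maximalIdeal A)
      (IsNoetherian.noetherian _) hxI
    obtain ⟨b, rfl⟩ := Submodule.mem_span_singleton.1 (hFspan hxF)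
    have hsoc : GorFlat.IsSoc (B ⧸ 𝔞) (Ideal.Quotient.mk 𝔞 b) := by
      intro y hy
      obtain ⟨β, hβ, rfl⟩ := hmemmk y hy
      rw [← map_mul, Ideal.Quotient.eq_zero_iff_mem]
      apply hann
      rw [mul_smul]
      exact hx' β hβ
    obtain ⟨c, hc⟩ := hzgen _ hsoc
    obtain ⟨c', rfl⟩ := Ideal.Quotient.mk_surjective c
    rw [← map_mul, Ideal.Quotient.eq] at hc
    have h0 := hIξ _ hc
    obtain ⟨φ, hφ⟩ : ∃ φ : B →ₗ[B] B ⊗[A] E, ∀ t : B, φ t = t • ξ :=
      ⟨LinearMap.toSpanSingleton B _ ξ, fun t => rfl⟩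
    have h1 : φ (b - c' * b₀) = 0 := by rw [hφ]; exact h0
    rw [map_sub, sub_eq_zero] at h1
    have h2 : φ (c' * b₀) = c' • φ b₀ := by rw [← smul_eq_mul, map_smul]
    refine ⟨residue B c', ?_⟩
    rw [Helper4.Matlis.apply_residue, hg1, ← hφ b, ← hφ b₀, h1, h2]
  have hess : ∀ x : B ⊗[A] E, x ≠ 0 → ∃ r : B, r • x ≠ 0 ∧ r • x ∈ LinearMap.range g := by
    intro x hx
    obtain ⟨r, hr0, hr⟩ := Helper1.Matlis.exists_smul_mem_socle hpt x hx
    exact ⟨r, hr0, hrange _ hr⟩
  have hgess : InjHull.IsEssentialInj g := (Helper1.InjHullLib.isEssentialInj_iff g).2 ⟨hg, hess⟩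
  -- compare with an injective hull over `B`
  obtain ⟨EB, _, _, fB, hfB⟩ := Helper1.InjHullLib.exists_injective_hull B (ResidueField B)
  obtain ⟨ι, hι⟩ := hfB.isInjective.out g hg fB
  have hιinj : Function.Injective ι := by
    rw [injective_iff_map_eq_zero]
    intro x hx
    by_contra hx0
    obtain ⟨r, hr0, ⟨c, hc⟩⟩ := hess x hx0
    have h1 : ι (r • x) = 0 := by rw [map_smul, hx, smul_zero]
    rw [← hc, hι] at h1
    have hc0 : c = 0 := hfB.injective (by rw [h1, map_zero])
    rw [hc0, map_zero] at hc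
    exact hr0 hc.symm
  have hιsurj : Function.Surjective ι := by
    intro y
    obtain ⟨n, hn⟩ := Groth.Agent.S0311.result B EB fB hfB y
    obtain ⟨J, hJ⟩ : ∃ J : Ideal B, J = (maximalIdeal A ^ n).map (algebraMap A B) := ⟨_, rfl⟩
    have hJle : J ≤ maximalIdeal B ^ n := by
      rw [hJ, Ideal.map_pow]
      exact Ideal.pow_right_mono hIle n
    have hJge : maximalIdeal B ^ (N * n) ≤ J := by
      rw [hJ, Ideal.map_pow, pow_mul]
      exact Ideal.pow_right_mono hN n
    have hflJ : IsFiniteLength B (B ⧸ J) := by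
      have h0 := Helper1.Matlis.isFiniteLength_quotient_pow (R := B) (N * n)
      rw [← Module.length_ne_top_iff] at h0 ⊢
      exact ne_top_of_le_ne_top h0
        (Module.length_le_of_surjective _ (Submodule.factor_surjective hJge))
    have hle : (Helper1.Matlis.F B E (maximalIdeal A ^ n)).map ι ≤
        Submodule.torsionBySet B EB ((J : Ideal B) : Set B) := by
      rintro _ ⟨z, hz, rfl⟩
      have := Helper1.Matlis.F_le_torsionBySet (B := B) (E := E) (maximalIdeal A ^ n) hz
      rw [← hJ] at this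
      rw [Submodule.mem_torsionBySet_iff]
      rintro ⟨β, hβ⟩
      change β • ι z = 0
      rw [← map_smul, (Submodule.mem_torsionBySet_iff _ _).1 this ⟨β, hβ⟩, map_zero]
    have hlenT : Module.length B (Submodule.torsionBySet B EB ((J : Ideal B) : Set B))
        = Module.length B (B ⧸ J) :=
      Helper1.Matlis.length_torsionBySet fB hfB _ hflJ
    have hlenF : Module.length B ((Helper1.Matlis.F B E (maximalIdeal A ^ n)).map ι) =
        Module.length B (B ⧸ J) := by
      have h0 : Module.length B (Helper1.Matlis.F B E (maximalIdeal A ^ n)) =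
          Module.length B ((Helper1.Matlis.F B E (maximalIdeal A ^ n)).map ι) :=
        LinearEquiv.length_eq (Submodule.equivMapOfInjective ι hιinj
          (Helper1.Matlis.F B E (maximalIdeal A ^ n)))
      have e1 : Module.length B (Helper1.Matlis.F B E (maximalIdeal A ^ n)) =
          Module.length A (Submodule.torsionBySet A E ((maximalIdeal A ^ n : Ideal A) : Set A)) *
            Module.length B (B ⧸ 𝔞) := by
        rw [← (Submodule.toBaseChange.toLinearEquiv B _).length_eq,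
          IsLocalRing.length_baseChange]
      have e2 : Module.length B (B ⧸ J) =
          Module.length A (A ⧸ maximalIdeal A ^ n) * Module.length B (B ⧸ 𝔞) := by
        rw [hJ, (Algebra.TensorProduct.quotIdealMapEquivTensorQuot B
          (maximalIdeal A ^ n)).toLinearEquiv.length_eq, IsLocalRing.length_baseChange]
      have e3 := Helper1.Matlis.length_torsionBySet f hf (maximalIdeal A ^ n)
        (Helper1.Matlis.isFiniteLength_quotient_pow n)
      rw [← h0, e1, e2, e3]
    have hfin : Module.length B (Submodule.torsionBySet B EB ((J : Ideal B) : Set B)) ≠ ⊤ := by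
      rw [hlenT, Module.length_ne_top_iff]
      exact hflJ
    have heq := Helper1.Matlis.submodule_eq_of_le_of_length_le hle hfin (by rw [hlenT, hlenF])
    have hy : y ∈ Submodule.torsionBySet B EB ((J : Ideal B) : Set B) := by
      rw [Submodule.mem_torsionBySet_iff]
      rintro ⟨β, hβ⟩
      exact hn β (hJle hβ)
    rw [← heq] at hy
    obtain ⟨z, _, rfl⟩ := hy
    exact ⟨z, rfl⟩
  let e' : (B ⊗[A] E) ≃ₗ[B] EB := LinearEquiv.ofBijective ι ⟨hιinj, hιsurj⟩
  haveI := hfB.isInjective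
  exact ⟨g, ⟨hgess, Helper1.InjHullLib.injective_of_linearEquiv e'.symm⟩⟩

end Groth.Agent.Lib.Helper4.FoxbyHull
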