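import Mathlib
import Groth.Agent.Lib.Helper20.PolyFrob

/-!
# Non-liftability of the split quadric cone (S13146, S19564): presentations of liftings
-/

set_option autoImplicit false
set_option linter.style.haveILetI false
set_option linter.unusedSectionVars false
set_option linter.unusedVariables false
set_option linter.unusedSimpArgs false
set_option maxHeartbeats 1600000
set_option maxSynthPendingDepth 3

namespace Groth.Agent.Lib.Helper4.FrobQ

open FrobAlg Groth.Agent.Lib.Helper20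

universe u

/-- In a ring with `p * p = 0`, `(a + p b) ^ p = a ^ p`. -/
theorem add_p_mul_pow {S : Type*} [CommRing S] (p : ℕ) (hp : (p : S) * (p : S) = 0) (a b : S) :
    (a + (p : S) * b) ^ p = a ^ p := by
  have h1 : (p : S) ∣ (a + (p : S) * b) - a := ⟨b, by ring⟩
  have h2 := dvd_sub_pow_of_dvd_sub h1 1
  have e : ((p : S)) ^ (1 + 1) = 0 := by rw [pow_succ, pow_one, hp]
  rw [e, pow_one, zero_dvd_iff] at h2
  exact sub_eq_zero.mp h2

/-- The integer polynomial `((Σ t_i)^p - Σ t_i^p) / p`. -/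
theorem exists_E (p : ℕ) [Fact p.Prime] (n : ℕ) : ∃ E : MvPolynomial (Fin n) ℤ,
    (∑ i, (MvPolynomial.X i : MvPolynomial (Fin n) ℤ)) ^ p =
      ∑ i, (MvPolynomial.X i : MvPolynomial (Fin n) ℤ) ^ p + MvPolynomial.C (p : ℤ) * E := by
  have : MvPolynomial.C (p : ℤ) ∣ (∑ i, (MvPolynomial.X i : MvPolynomial (Fin n) ℤ)) ^ p -
      ∑ i, (MvPolynomial.X i : MvPolynomial (Fin n) ℤ) ^ p := by
    rw [MvPolynomial.C_dvd_iff_zmod, map_sub, map_pow, map_sum, map_sum, sub_eq_zero]
    simp only [map_pow, MvPolynomial.map_X]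
    exact sum_pow_char p _ _
  obtain ⟨E, hE⟩ := this
  exact ⟨E, by rw [← hE]; ring⟩

section Present

variable {p : ℕ} [Fact p.Prime] {k : Type u} [Field k] [CharP k p] [PerfectRing k p]
  {σ : Type} (I : Ideal (MvPolynomial σ k)) {B : Type u} [CommRing B]
  {ι : W2 p k →+* B} {π : B →+* (MvPolynomial σ k ⧸ I)}

omit [PerfectRing k p] in
theorem res_surjective : Function.Surjective (res p k) := fun a =>
  ⟨mk2 p k a 0, by rw [res_apply, mk2_coeff_zero]⟩

/-- A lifting of a quotient of a polynomial ring is a quotient of the polynomial ring over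
`W₂(k)`. -/
theorem exists_presentation (h : IsLift p k (MvPolynomial σ k ⧸ I) B ι π) :
    ∃ Ψ : MvPolynomial σ (W2 p k) →+* B, Function.Surjective Ψ ∧
      (∀ g, π (Ψ g) = Ideal.Quotient.mk I (MvPolynomial.map (res p k) g)) ∧
      (∀ w, Ψ (MvPolynomial.C w) = ι w) := by
  have hsurjπ := h.surj
  choose b hb using fun v : σ => hsurjπ (Ideal.Quotient.mk I (MvPolynomial.X v))
  obtain ⟨Ψ, hΨ⟩ : ∃ Ψ : MvPolynomial σ (W2 p k) →+* B, Ψ = MvPolynomial.eval₂Hom ι b :=
    ⟨_, rfl⟩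
  have hπΨ : π.comp Ψ = (Ideal.Quotient.mk I).comp (MvPolynomial.map (res p k)) := by
    apply MvPolynomial.ringHom_ext
    · intro w
      rw [RingHom.comp_apply, RingHom.comp_apply, hΨ, MvPolynomial.eval₂Hom_C,
        MvPolynomial.map_C]
      have := RingHom.congr_fun h.comm w
      rw [RingHom.comp_apply, RingHom.comp_apply] at this
      rw [this]; rfl
    · intro v
      rw [RingHom.comp_apply, RingHom.comp_apply, hΨ, MvPolynomial.eval₂Hom_X',
        MvPolynomial.map_X, hb]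
  have hπΨ' : ∀ g, π (Ψ g) = Ideal.Quotient.mk I (MvPolynomial.map (res p k) g) :=
    fun g => RingHom.congr_fun hπΨ g
  have hred_surj : Function.Surjective (MvPolynomial.map (σ := σ) (res p k)) :=
    MvPolynomial.map_surjective _ res_surjective
  have step : ∀ b' : B, ∃ g : MvPolynomial σ (W2 p k), ∃ b₁ : B,
      b' = Ψ g + (p : B) * b₁ := by
    intro b'
    obtain ⟨r, hr⟩ := Ideal.Quotient.mk_surjective (π b')
    obtain ⟨g, rfl⟩ := hred_surj r
    have : b' - Ψ g ∈ RingHom.ker π := by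
      rw [RingHom.mem_ker, map_sub, hπΨ', hr, sub_self]
    rw [lift_ker_eq_span h, Ideal.mem_span_singleton] at this
    obtain ⟨b₁, hb₁⟩ := this
    exact ⟨g, b₁, by rw [← hb₁]; ring⟩
  refine ⟨Ψ, ?_, hπΨ', fun w => by rw [hΨ, MvPolynomial.eval₂Hom_C]⟩
  intro b'
  obtain ⟨g, b₁, rfl⟩ := step b'
  obtain ⟨g₁, b₂, rfl⟩ := step b₁
  refine ⟨g + (p : MvPolynomial σ (W2 p k)) * g₁, ?_⟩
  rw [map_add, map_mul, map_natCast, mul_add, ← mul_assoc, lift_p_mul_p_eq_zero ι, zero_mul,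
    add_zero]

/-- Flat division by `p`. -/
theorem red_mem_of_p_mul (h : IsLift p k (MvPolynomial σ k ⧸ I) B ι π)
    (Ψ : MvPolynomial σ (W2 p k) →+* B)
    (hπΨ : ∀ g, π (Ψ g) = Ideal.Quotient.mk I (MvPolynomial.map (res p k) g))
    (u : MvPolynomial σ (W2 p k)) (hu : Ψ ((p : MvPolynomial σ (W2 p k)) * u) = 0) :
    MvPolynomial.map (res p k) u ∈ I := by
  rw [map_mul, map_natCast, lift_p_mul_eq_zero_iff h, hπΨ, Ideal.Quotient.eq_zero_iff_mem] at hu
  exact hu

/-- Elements of the ideal lift to the kernel of the presentation. -/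
theorem exists_lift_mem_ker (h : IsLift p k (MvPolynomial σ k ⧸ I) B ι π)
    (Ψ : MvPolynomial σ (W2 p k) →+* B) (hΨs : Function.Surjective Ψ)
    (hπΨ : ∀ g, π (Ψ g) = Ideal.Quotient.mk I (MvPolynomial.map (res p k) g))
    (g₀ : MvPolynomial σ (W2 p k)) (hg₀ : MvPolynomial.map (res p k) g₀ ∈ I) :
    ∃ a, Ψ (g₀ + (p : MvPolynomial σ (W2 p k)) * a) = 0 := by
  have : Ψ g₀ ∈ RingHom.ker π := by
    rw [RingHom.mem_ker, hπΨ, Ideal.Quotient.eq_zero_iff_mem]; exact hg₀
  rw [lift_ker_eq_span h, Ideal.mem_span_singleton] at this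
  obtain ⟨b₁, hb₁⟩ := this
  obtain ⟨a', rfl⟩ := hΨs b₁
  refine ⟨-a', ?_⟩
  rw [map_add, map_mul, map_natCast, map_neg, hb₁]; ring

end Present

end Groth.Agent.Lib.Helper4.FrobQ
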