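import Mathlib
import Groth.Agent.Lib.Helper4.FrobQ1

/-!
# Non-liftability of the split quadric cone (S13146, S19564): the combinatorial core

`E(x_i y_i) - c ∉ (Σ x_i y_i, x_i^p, y_i^p)` for `n ≥ 3`, where `p E = (Σ t_i)^p - Σ t_i^p`.
-/

set_option autoImplicit false
set_option linter.style.haveILetI false
set_option linter.unusedSectionVars false
set_option linter.unusedVariables false
set_option linter.unusedSimpArgs false
set_option maxHeartbeats 1600000
set_option maxSynthPendingDepth 3

namespace Groth.Agent.Lib.Helper4.FrobQ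

open Polynomial

universe u

/-- The specialization values `t₁, t₂, -t₁-t₂, 0, …` in `K[t₁][t₂]`. -/
noncomputable def tv (K : Type*) [CommRing K] (m : ℕ) :
    Fin (m + 3) → Polynomial (Polynomial K) := fun i =>
  if (i : ℕ) = 0 then C X else if (i : ℕ) = 1 then X
  else if (i : ℕ) = 2 then -(C (X : Polynomial K)) - (X : Polynomial (Polynomial K)) else 0

/-- Coefficient of `t₁ t₂^(p-1)`. -/
noncomputable def eps {K : Type*} [CommRing K] (p : ℕ) (f : Polynomial (Polynomial K)) : K :=
  (f.coeff (p - 1)).coeff 1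

section Eps

variable {K : Type*} [CommRing K] (p : ℕ)

theorem eps_add (f g : Polynomial (Polynomial K)) : eps p (f + g) = eps p f + eps p g := by
  simp [eps]

theorem eps_zero : eps p (0 : Polynomial (Polynomial K)) = 0 := by simp [eps]

theorem eps_CC_mul (a : K) (f : Polynomial (Polynomial K)) :
    eps p (C (C a) * f) = a * eps p f := by
  unfold eps
  rw [coeff_C_mul, coeff_C_mul]

theorem eps_CX_pow_mul (hp : 2 ≤ p) (g : Polynomial (Polynomial K)) :
    eps p ((C X : Polynomial (Polynomial K)) ^ p * g) = 0 := by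
  unfold eps
  rw [← C_pow, coeff_C_mul, coeff_X_pow_mul', if_neg (by omega)]

theorem eps_X_pow_mul (hp : 2 ≤ p) (g : Polynomial (Polynomial K)) :
    eps p ((X : Polynomial (Polynomial K)) ^ p * g) = 0 := by
  unfold eps
  rw [coeff_X_pow_mul', if_neg (by omega), coeff_zero]

theorem eps_CC (hp : 2 ≤ p) (a : K) : eps p (C (C a) : Polynomial (Polynomial K)) = 0 := by
  unfold eps
  rw [coeff_C, if_neg (by omega), coeff_zero]

theorem tv_cases (m : ℕ) (i : Fin (m + 3)) :
    tv K m i = C X ∨ tv K m i = X ∨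
      tv K m i = -(C (X : Polynomial K)) - (X : Polynomial (Polynomial K)) ∨ tv K m i = 0 := by
  unfold tv
  split_ifs <;> simp

theorem tv_ge (m : ℕ) (i : Fin (m + 3)) (h : 3 ≤ (i : ℕ)) : tv K m i = 0 := by
  unfold tv
  rw [if_neg (by omega), if_neg (by omega), if_neg (by omega)]

theorem tv_zero (m : ℕ) : tv K m 0 = C X := by simp [tv]

theorem tv_one (m : ℕ) : tv K m (Fin.succ 0) = X := by
  have h : ((Fin.succ (0 : Fin (m + 2)) : Fin (m + 3)) : ℕ) = 1 := rfl
  unfold tv
  rw [if_neg (by rw [h]; omega), if_pos h]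

theorem tv_two (m : ℕ) : tv K m (Fin.succ (Fin.succ 0)) =
    -(C (X : Polynomial K)) - (X : Polynomial (Polynomial K)) := by
  have h : ((Fin.succ (Fin.succ (0 : Fin (m + 1))) : Fin (m + 3)) : ℕ) = 2 := rfl
  unfold tv
  rw [if_neg (by rw [h]; omega), if_neg (by rw [h]; omega), if_pos h]

theorem sum_tv (m : ℕ) : ∑ i, tv K m i = 0 := by
  rw [Fin.sum_univ_succ, Fin.sum_univ_succ, Fin.sum_univ_succ, tv_zero, tv_one, tv_two,
    Finset.sum_eq_zero (fun i _ => tv_ge m _ (by simp [Fin.val_succ]))]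
  ring

theorem sum_tv_pow (m : ℕ) (hp : 1 ≤ p) : ∑ i, tv K m i ^ p =
    (C X : Polynomial (Polynomial K)) ^ p + X ^ p +
      (-(C (X : Polynomial K)) - (X : Polynomial (Polynomial K))) ^ p := by
  rw [Fin.sum_univ_succ, Fin.sum_univ_succ, Fin.sum_univ_succ, tv_zero, tv_one, tv_two,
    Finset.sum_eq_zero (fun i _ => by
      rw [tv_ge m _ (by simp [Fin.val_succ]), zero_pow (by omega)])]
  ring

theorem map_tv {K' : Type*} [CommRing K'] (φ : K →+* K') (m : ℕ) (i : Fin (m + 3)) :
    Polynomial.map (Polynomial.mapRingHom φ) (tv K m i) = tv K' m i := by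
  unfold tv
  split_ifs <;> simp

theorem eps_map {K' : Type*} [CommRing K'] (φ : K →+* K') (f : Polynomial (Polynomial K)) :
    eps p (Polynomial.map (Polynomial.mapRingHom φ) f) = φ (eps p f) := by
  unfold eps
  rw [coeff_map, coe_mapRingHom, coeff_map]

end Eps

section CharP

variable {k : Type u} [Field k] (p : ℕ) [hp : Fact p.Prime] [CharP k p]

theorem eps_tv_pow_mul (m : ℕ) (i : Fin (m + 3)) (g : Polynomial (Polynomial k)) :
    eps p (tv k m i ^ p * g) = 0 := by
  have hp2 : 2 ≤ p := hp.out.two_le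
  rcases tv_cases (K := k) m i with e | e | e | e
  · rw [e]; exact eps_CX_pow_mul p hp2 g
  · rw [e]; exact eps_X_pow_mul p hp2 g
  · have e' : tv k m i = -(C X + X) := by rw [e]; ring
    have e2 : ((-1 : Polynomial (Polynomial k))) ^ p = C (C ((-1) ^ p)) := by simp
    rw [e', neg_pow, add_pow_char, mul_assoc, add_mul, e2, eps_CC_mul, eps_add,
      eps_CX_pow_mul p hp2, eps_X_pow_mul p hp2, add_zero, mul_zero]
  · rw [e, zero_pow (by omega), zero_mul, eps_zero]

end CharP

end Groth.Agent.Lib.Helper4.FrobQ
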