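import Mathlib
import Groth.Agent.Lib.Helper4.FrobQ2

/-!
# Non-liftability of the split quadric cone (S13146, S19564): the combinatorial core, part 2
-/

set_option autoImplicit false
set_option linter.style.haveILetI false
set_option linter.unusedSectionVars false
set_option linter.unusedVariables false
set_option linter.unusedSimpArgs false
set_option maxHeartbeats 1600000
set_option maxSynthPendingDepth 3

namespace Groth.Agent.Lib.Helper4.FrobQ

open Polynomial

universe u

section Chi

variable (k : Type u) [Field k] (m : ℕ)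

/-- The multigraded specialization `x_i ↦ t_i z_i`, `y_i ↦ z_i⁻¹`. -/
noncomputable def chi : MvPolynomial (Fin (m + 3) × Fin 2) k →+*
    AddMonoidAlgebra (Polynomial (Polynomial k)) (Fin (m + 3) → ℤ) :=
  MvPolynomial.eval₂Hom
    ((AddMonoidAlgebra.singleZeroRingHom).comp
      ((C : Polynomial k →+* Polynomial (Polynomial k)).comp (C : k →+* Polynomial k)))
    (fun v => if v.2 = 0 then AddMonoidAlgebra.single (Pi.single v.1 (1 : ℤ)) (tv k m v.1)
      else AddMonoidAlgebra.single (-(Pi.single v.1 (1 : ℤ))) 1)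

theorem chi_C (c : k) : chi k m (MvPolynomial.C c) = AddMonoidAlgebra.single 0 (C (C c)) := by
  unfold chi; rw [MvPolynomial.eval₂Hom_C]; rfl

theorem chi_X0 (i : Fin (m + 3)) : chi k m (MvPolynomial.X (i, 0)) =
    AddMonoidAlgebra.single (Pi.single i (1 : ℤ)) (tv k m i) := by
  unfold chi; rw [MvPolynomial.eval₂Hom_X']; simp

theorem chi_X1 (i : Fin (m + 3)) : chi k m (MvPolynomial.X (i, 1)) =
    AddMonoidAlgebra.single (-(Pi.single i (1 : ℤ))) 1 := by
  unfold chi; rw [MvPolynomial.eval₂Hom_X']; simp

theorem chi_prod (i : Fin (m + 3)) :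
    chi k m (MvPolynomial.X (i, 0) * MvPolynomial.X (i, 1)) =
      AddMonoidAlgebra.singleZeroRingHom (tv k m i) := by
  rw [map_mul, chi_X0, chi_X1, AddMonoidAlgebra.single_mul_single, add_neg_cancel, mul_one]
  rfl

theorem chi_q :
    chi k m (∑ i : Fin (m + 3), MvPolynomial.X (i, 0) * MvPolynomial.X (i, 1)) = 0 := by
  rw [map_sum]
  simp_rw [chi_prod]
  rw [← map_sum, sum_tv, map_zero]

theorem chi_coeff_mem (B : MvPolynomial (Fin (m + 3) × Fin 2) k) :
    ∀ (i : Fin (m + 3)) (e : ℕ) (d : Fin (m + 3) → ℤ), (e : ℤ) ≤ d i →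
      (chi k m B).coeff d ∈ Ideal.span {tv k m i ^ e} := by
  induction B using MvPolynomial.induction_on with
  | C c =>
    intro i e d hd
    rw [chi_C, AddMonoidAlgebra.coeff_single, Finsupp.single_apply]
    split_ifs with h0
    · subst h0
      have : e = 0 := by simpa using hd
      subst this
      rw [pow_zero, Ideal.span_singleton_one]; trivial
    · exact Ideal.zero_mem _
  | add B₁ B₂ h₁ h₂ =>
    intro i e d hd
    rw [map_add, AddMonoidAlgebra.coeff_add, Finsupp.add_apply]
    exact Ideal.add_mem _ (h₁ i e d hd) (h₂ i e d hd)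
  | mul_X B v hB =>
    intro i e d hd
    obtain ⟨j, s⟩ := v
    rw [map_mul]
    fin_cases s
    · show (chi k m B * chi k m (MvPolynomial.X (j, 0))).coeff d ∈ _
      rw [chi_X0, AddMonoidAlgebra.coeff_mul_single_apply]
      by_cases hji : j = i
      · subst hji
        cases e with
        | zero => rw [pow_zero, Ideal.span_singleton_one]; trivial
        | succ e' =>
          have := hB j e' (d + -(Pi.single j 1)) (by
            simp only [Pi.add_apply, Pi.neg_apply, Pi.single_eq_same]
            push_cast at hd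
            omega)
          rw [Ideal.mem_span_singleton] at this ⊢
          rw [pow_succ]
          exact mul_dvd_mul this (dvd_refl _)
      · have := hB i e (d + -(Pi.single j 1)) (by
          simp only [Pi.add_apply, Pi.neg_apply, Pi.single_eq_of_ne (fun h => hji h.symm),
            neg_zero, add_zero]
          exact hd)
        exact Ideal.mul_mem_right _ _ this
    · show (chi k m B * chi k m (MvPolynomial.X (j, 1))).coeff d ∈ _
      rw [chi_X1, AddMonoidAlgebra.coeff_mul_single_apply, neg_neg, mul_one]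
      apply hB i e
      have : (0 : ℤ) ≤ (Pi.single j (1 : ℤ) : Fin (m + 3) → ℤ) i := by
        by_cases hji : i = j
        · subst hji; simp
        · rw [Pi.single_eq_of_ne hji]
      simp only [Pi.add_apply]; omega

theorem lam_vanish (p : ℕ) [hp : Fact p.Prime] [CharP k p]
    (f : MvPolynomial (Fin (m + 3) × Fin 2) k)
    (hf : f ∈ Ideal.span (insert
      (∑ i : Fin (m + 3), MvPolynomial.X (i, 0) * MvPolynomial.X (i, 1))
      (Set.range fun v => (MvPolynomial.X v : MvPolynomial (Fin (m + 3) × Fin 2) k) ^ p))) :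
    ∀ a, eps p ((chi k m (a * f)).coeff 0) = 0 := by
  induction hf using Submodule.span_induction with
  | mem f hf =>
    intro a
    rcases hf with rfl | ⟨v, rfl⟩
    · rw [map_mul, chi_q, mul_zero]
      simp [eps_zero]
    · obtain ⟨i, s⟩ := v
      rw [mul_comm, map_mul, map_pow]
      fin_cases s
      · show eps p ((chi k m (MvPolynomial.X (i, 0)) ^ p * chi k m a).coeff 0) = 0
        rw [chi_X0, AddMonoidAlgebra.single_pow, AddMonoidAlgebra.coeff_single_mul_apply]
        exact eps_tv_pow_mul p m i _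
      · show eps p ((chi k m (MvPolynomial.X (i, 1)) ^ p * chi k m a).coeff 0) = 0
        rw [chi_X1, AddMonoidAlgebra.single_pow, one_pow,
          AddMonoidAlgebra.coeff_single_mul_apply, one_mul]
        have := chi_coeff_mem k m a i p (-(p • -(Pi.single i (1 : ℤ))) + 0) (by simp)
        obtain ⟨c, hc⟩ := Ideal.mem_span_singleton.mp this
        rw [hc]; exact eps_tv_pow_mul p m i c
  | zero => intro a; rw [mul_zero, RingHom.map_zero]; simp [eps_zero]
  | add f g _ _ hf hg =>
    intro a
    rw [mul_add, map_add, AddMonoidAlgebra.coeff_add, Finsupp.add_apply, eps_add, hf, hg,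
      add_zero]
  | smul r f _ hf => intro a; rw [smul_eq_mul, ← mul_assoc]; exact hf (a * r)

end Chi

section Rho

/-- The specialization `t_i ↦ tv i` of integer polynomials. -/
noncomputable def rho (K : Type*) [CommRing K] (m : ℕ) :
    MvPolynomial (Fin (m + 3)) ℤ →+* Polynomial (Polynomial K) :=
  MvPolynomial.eval₂Hom (Int.castRingHom _) (tv K m)

/-- The specialization `t_i ↦ x_i y_i`. -/
noncomputable def theta (k : Type u) [Field k] (m : ℕ) :
    MvPolynomial (Fin (m + 3)) ℤ →+* MvPolynomial (Fin (m + 3) × Fin 2) k :=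
  MvPolynomial.eval₂Hom (Int.castRingHom _)
    (fun i => MvPolynomial.X (i, 0) * MvPolynomial.X (i, 1))

variable (k : Type u) [Field k] (m : ℕ)

theorem chi_theta (E : MvPolynomial (Fin (m + 3)) ℤ) :
    chi k m (theta k m E) = AddMonoidAlgebra.singleZeroRingHom (rho k m E) := by
  have : (chi k m).comp (theta k m) = (AddMonoidAlgebra.singleZeroRingHom).comp (rho k m) := by
    apply MvPolynomial.ringHom_ext
    · intro a
      exact RingHom.congr_fun (RingHom.ext_int
        (((chi k m).comp (theta k m)).comp MvPolynomial.C)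
        (((AddMonoidAlgebra.singleZeroRingHom).comp (rho k m)).comp MvPolynomial.C)) a
    · intro i
      rw [RingHom.comp_apply, RingHom.comp_apply]
      unfold theta rho
      rw [MvPolynomial.eval₂Hom_X', MvPolynomial.eval₂Hom_X', chi_prod]
  exact RingHom.congr_fun this E

theorem rho_map (E : MvPolynomial (Fin (m + 3)) ℤ) :
    rho k m E = Polynomial.map (Polynomial.mapRingHom (Int.castRingHom k)) (rho ℤ m E) := by
  have : rho k m = (Polynomial.mapRingHom (Polynomial.mapRingHom (Int.castRingHom k))).comp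
      (rho ℤ m) := by
    apply MvPolynomial.ringHom_ext
    · intro a
      exact RingHom.congr_fun (RingHom.ext_int ((rho k m).comp MvPolynomial.C)
        (((Polynomial.mapRingHom (Polynomial.mapRingHom (Int.castRingHom k))).comp
          (rho ℤ m)).comp MvPolynomial.C)) a
    · intro i
      rw [RingHom.comp_apply]
      unfold rho
      rw [MvPolynomial.eval₂Hom_X', MvPolynomial.eval₂Hom_X', Polynomial.coe_mapRingHom, map_tv]
  rw [this]; rfl

theorem eps_rho_int (p : ℕ) [hp : Fact p.Prime] (E : MvPolynomial (Fin (m + 3)) ℤ)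
    (hE : (∑ i, (MvPolynomial.X i : MvPolynomial (Fin (m + 3)) ℤ)) ^ p =
      ∑ i, (MvPolynomial.X i : MvPolynomial (Fin (m + 3)) ℤ) ^ p + MvPolynomial.C (p : ℤ) * E) :
    eps p (rho ℤ m E) = -(-1) ^ p := by
  have hp2 : 2 ≤ p := hp.out.two_le
  have h := congrArg (rho ℤ m) hE
  rw [map_pow, map_sum, map_add, map_sum, map_mul] at h
  have hX : ∀ i, rho ℤ m (MvPolynomial.X i) = tv ℤ m i := fun i => by
    unfold rho; rw [MvPolynomial.eval₂Hom_X']
  have hC : rho ℤ m (MvPolynomial.C (p : ℤ)) = C (C (p : ℤ)) := by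
    unfold rho; rw [MvPolynomial.eval₂Hom_C]; simp
  simp only [map_pow, hX] at h
  rw [sum_tv, zero_pow (by omega), sum_tv_pow p m (by omega), hC] at h
  have h2 := congrArg (eps p) h
  rw [eps_zero, eps_add, eps_add, eps_add, eps_CC_mul] at h2
  have e1 : eps p ((C X : ℤ[X][X]) ^ p) = 0 := by
    have := eps_CX_pow_mul (K := ℤ) p hp2 1; rwa [mul_one] at this
  have e2 : eps p ((X : ℤ[X][X]) ^ p) = 0 := by
    have := eps_X_pow_mul (K := ℤ) p hp2 1; rwa [mul_one] at this
  have e3 : eps p ((-(C (X : ℤ[X])) - (X : ℤ[X][X])) ^ p) = (-1) ^ p * p := by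
    have e' : (-(C (X : ℤ[X])) - (X : ℤ[X][X])) = -(X + C X) := by ring
    have e2' : ((-1 : ℤ[X][X])) ^ p = C (C ((-1) ^ p)) := by simp
    rw [e', neg_pow, e2', eps_CC_mul]
    congr 1
    unfold eps
    rw [coeff_X_add_C_pow, Nat.choose_symm (by omega : 1 ≤ p), Nat.choose_one_right]
    have : p - (p - 1) = 1 := by omega
    rw [this, pow_one]
    simp
  rw [e1, e2, e3] at h2
  have hp0 : (p : ℤ) ≠ 0 := by exact_mod_cast hp.out.ne_zero
  have : (p : ℤ) * (eps p (rho ℤ m E) + (-1) ^ p) = 0 := by linarith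
  rcases mul_eq_zero.mp this with h3 | h3
  · exact absurd h3 hp0
  · linarith

theorem core (p : ℕ) [hp : Fact p.Prime] [CharP k p] (E : MvPolynomial (Fin (m + 3)) ℤ)
    (hE : (∑ i, (MvPolynomial.X i : MvPolynomial (Fin (m + 3)) ℤ)) ^ p =
      ∑ i, (MvPolynomial.X i : MvPolynomial (Fin (m + 3)) ℤ) ^ p + MvPolynomial.C (p : ℤ) * E)
    (c : k) :
    theta k m E - MvPolynomial.C c ∉ Ideal.span (insert
      (∑ i : Fin (m + 3), MvPolynomial.X (i, 0) * MvPolynomial.X (i, 1))
      (Set.range fun v => (MvPolynomial.X v : MvPolynomial (Fin (m + 3) × Fin 2) k) ^ p)) := by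
  intro hmem
  have h := lam_vanish k m p _ hmem 1
  rw [one_mul, map_sub, chi_theta, chi_C] at h
  have hc : ((AddMonoidAlgebra.singleZeroRingHom (rho k m E) -
      AddMonoidAlgebra.single 0 (C (C c)) :
        AddMonoidAlgebra (Polynomial (Polynomial k)) (Fin (m + 3) → ℤ))).coeff 0 =
      rho k m E - C (C c) := by
    rw [AddMonoidAlgebra.coeff_sub]
    simp
  rw [hc] at h
  have hp2 := hp.out.two_le
  have h' : eps p (rho k m E - C (C c)) = eps p (rho k m E) := by
    have := eps_add p (rho k m E - C (C c)) (C (C c))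
    rw [sub_add_cancel, eps_CC p hp2, add_zero] at this
    exact this.symm
  rw [h', rho_map, eps_map, eps_rho_int m p E hE] at h
  simp at h

end Rho

end Groth.Agent.Lib.Helper4.FrobQ
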