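import Mathlib
import Groth.Agent.Lib.Helper4.FrobQ3

/-!
# Non-liftability of the split quadric cone (S13146, S19564): the main theorems
-/

set_option autoImplicit false
set_option linter.style.haveILetI false
set_option linter.unusedSectionVars false
set_option linter.unusedVariables false
set_option linter.unusedSimpArgs false
set_option maxHeartbeats 1600000
set_option maxSynthPendingDepth 3

namespace Groth.Agent.Lib.Helper4.FrobQ

open FrobAlg Groth.Agent.Lib.Helper20

universe u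

/-- In characteristic `p`, `g^p` is congruent to a constant modulo the `p`-th powers of the
variables. -/
theorem pow_sub_C_mem {σ : Type*} (p : ℕ) [hp : Fact p.Prime] (k : Type*) [Field k] [CharP k p]
    (g : MvPolynomial σ k) :
    g ^ p - MvPolynomial.C ((MvPolynomial.constantCoeff g) ^ p) ∈
      Ideal.span (Set.range fun v : σ => (MvPolynomial.X v : MvPolynomial σ k) ^ p) := by
  induction g using MvPolynomial.induction_on with
  | C a =>
    rw [MvPolynomial.constantCoeff_C, ← map_pow, sub_self]; exact Ideal.zero_mem _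
  | add g₁ g₂ h₁ h₂ =>
    rw [add_pow_char, map_add, add_pow_char, map_add]
    have : g₁ ^ p + g₂ ^ p - (MvPolynomial.C (MvPolynomial.constantCoeff g₁ ^ p) +
        MvPolynomial.C (MvPolynomial.constantCoeff g₂ ^ p)) =
        (g₁ ^ p - MvPolynomial.C (MvPolynomial.constantCoeff g₁ ^ p)) +
        (g₂ ^ p - MvPolynomial.C (MvPolynomial.constantCoeff g₂ ^ p)) := by ring
    rw [this]; exact Ideal.add_mem _ h₁ h₂
  | mul_X g v hg =>
    rw [map_mul, MvPolynomial.constantCoeff_X, mul_zero, zero_pow hp.out.ne_zero, map_zero,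
      sub_zero, mul_pow]
    exact Ideal.mul_mem_left _ _ (Ideal.subset_span ⟨v, rfl⟩)

/-- The split quadratic form. -/
noncomputable def QQ (R : Type*) [CommRing R] (m : ℕ) : MvPolynomial (Fin (m + 3) × Fin 2) R :=
  ∑ i : Fin (m + 3), MvPolynomial.X (i, (0 : Fin 2)) * MvPolynomial.X (i, (1 : Fin 2))

theorem map_QQ {R S : Type*} [CommRing R] [CommRing S] (f : R →+* S) (m : ℕ) :
    MvPolynomial.map f (QQ R m) = QQ S m := by
  simp [QQ, map_sum]

section Main

variable (p : ℕ) [hp : Fact p.Prime] (k : Type u) [Field k] [CharP k p] (m : ℕ)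

/-- `t_i ↦ x_i y_i` over `W₂(k)`. -/
noncomputable def thetaW : MvPolynomial (Fin (m + 3)) ℤ →+*
    MvPolynomial (Fin (m + 3) × Fin 2) (W2 p k) :=
  MvPolynomial.eval₂Hom (Int.castRingHom _)
    (fun i => MvPolynomial.X (i, 0) * MvPolynomial.X (i, 1))

theorem red_thetaW (E : MvPolynomial (Fin (m + 3)) ℤ) :
    MvPolynomial.map (res p k) (thetaW p k m E) = theta k m E := by
  have : (MvPolynomial.map (res p k)).comp (thetaW p k m) = theta k m := by
    apply MvPolynomial.ringHom_ext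
    · intro a
      exact RingHom.congr_fun (RingHom.ext_int
        (((MvPolynomial.map (res p k)).comp (thetaW p k m)).comp MvPolynomial.C)
        ((theta k m).comp MvPolynomial.C)) a
    · intro i
      rw [RingHom.comp_apply]
      unfold thetaW theta
      rw [MvPolynomial.eval₂Hom_X', MvPolynomial.eval₂Hom_X', map_mul, MvPolynomial.map_X,
        MvPolynomial.map_X]
  exact RingHom.congr_fun this E

theorem thetaW_pow_sum (E : MvPolynomial (Fin (m + 3)) ℤ)
    (hE : (∑ i, (MvPolynomial.X i : MvPolynomial (Fin (m + 3)) ℤ)) ^ p =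
      ∑ i, (MvPolynomial.X i : MvPolynomial (Fin (m + 3)) ℤ) ^ p + MvPolynomial.C (p : ℤ) * E) :
    (QQ (W2 p k) m) ^ p =
      ∑ i : Fin (m + 3), MvPolynomial.X (i, (0 : Fin 2)) ^ p * MvPolynomial.X (i, (1 : Fin 2)) ^ p +
        (p : MvPolynomial (Fin (m + 3) × Fin 2) (W2 p k)) * thetaW p k m E := by
  have := congrArg (thetaW p k m) hE
  rw [map_pow, map_sum, map_add, map_sum, map_mul] at this
  have hX : ∀ i, thetaW p k m (MvPolynomial.X i) =
      MvPolynomial.X (i, 0) * MvPolynomial.X (i, 1) := fun i => by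
    unfold thetaW; rw [MvPolynomial.eval₂Hom_X']
  have hC : thetaW p k m (MvPolynomial.C (p : ℤ)) =
      (p : MvPolynomial (Fin (m + 3) × Fin 2) (W2 p k)) := by
    unfold thetaW; rw [MvPolynomial.eval₂Hom_C]; simp
  simp only [map_pow, hX, hC, mul_pow] at this
  exact this

variable [PerfectRing k p]

/-- The product expansion modulo `p²`. -/
theorem sum_prod_expand (a : Fin (m + 3) × Fin 2 → MvPolynomial (Fin (m + 3) × Fin 2) (W2 p k)) :
    ∑ i : Fin (m + 3),
      (MvPolynomial.X (i, (0 : Fin 2)) ^ p +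
        (p : MvPolynomial (Fin (m + 3) × Fin 2) (W2 p k)) * a (i, 0)) *
      (MvPolynomial.X (i, (1 : Fin 2)) ^ p +
        (p : MvPolynomial (Fin (m + 3) × Fin 2) (W2 p k)) * a (i, 1)) =
    ∑ i : Fin (m + 3), MvPolynomial.X (i, (0 : Fin 2)) ^ p * MvPolynomial.X (i, (1 : Fin 2)) ^ p +
      (p : MvPolynomial (Fin (m + 3) × Fin 2) (W2 p k)) *
        ∑ i : Fin (m + 3), (a (i, 0) * MvPolynomial.X (i, (1 : Fin 2)) ^ p +
          a (i, 1) * MvPolynomial.X (i, (0 : Fin 2)) ^ p) := by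
  have hpp := mvPoly_p_mul_p p k (Fin (m + 3) × Fin 2)
  rw [Finset.mul_sum, ← Finset.sum_add_distrib]
  refine Finset.sum_congr rfl (fun i _ => ?_)
  linear_combination (a (i, 0) * a (i, 1)) * hpp

/-- The correction terms reduce into the ideal. -/
theorem red_sum_mem (a : Fin (m + 3) × Fin 2 → MvPolynomial (Fin (m + 3) × Fin 2) (W2 p k)) :
    MvPolynomial.map (res p k) (∑ i : Fin (m + 3),
      (a (i, 0) * MvPolynomial.X (i, (1 : Fin 2)) ^ p +
        a (i, 1) * MvPolynomial.X (i, (0 : Fin 2)) ^ p)) ∈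
      Ideal.span (insert (QQ k m)
          (Set.range fun v : Fin (m + 3) × Fin 2 =>
            (MvPolynomial.X v : MvPolynomial (Fin (m + 3) × Fin 2) k) ^ p)) := by
  rw [map_sum]
  apply Ideal.sum_mem
  intro i _
  rw [map_add, map_mul, map_mul, map_pow, map_pow, MvPolynomial.map_X, MvPolynomial.map_X]
  exact Ideal.add_mem _
    (Ideal.mul_mem_left _ _ (Ideal.subset_span (Set.mem_insert_of_mem _ ⟨(i, 1), rfl⟩)))
    (Ideal.mul_mem_left _ _ (Ideal.subset_span (Set.mem_insert_of_mem _ ⟨(i, 0), rfl⟩)))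

/-- S13146 for `n = m + 3`. -/
theorem not_w2liftable_aux :
    ¬ FrobAlg.IsW2Liftable p k
      (MvPolynomial (Fin (m + 3) × Fin 2) k ⧸ Ideal.span
        (insert (∑ i : Fin (m + 3), MvPolynomial.X (i, (0 : Fin 2)) *
            MvPolynomial.X (i, (1 : Fin 2)))
          (Set.range fun v : Fin (m + 3) × Fin 2 =>
            (MvPolynomial.X v : MvPolynomial (Fin (m + 3) × Fin 2) k) ^ p))) := by
  rintro ⟨B, _, ι, π, h⟩
  obtain ⟨Ψ, hΨs, hπΨ, hΨC⟩ := exists_presentation _ h
  obtain ⟨E, hE⟩ := exists_E p (m + 3)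
  have hpp := mvPoly_p_mul_p p k (Fin (m + 3) × Fin 2)
  obtain ⟨g₀, hg₀⟩ := exists_lift_mem_ker _ h Ψ hΨs hπΨ (QQ (W2 p k) m)
    (by rw [map_QQ]; exact Ideal.subset_span (Set.mem_insert _ _))
  have hXp : ∀ v : Fin (m + 3) × Fin 2, ∃ a,
      Ψ (MvPolynomial.X v ^ p + (p : MvPolynomial (Fin (m + 3) × Fin 2) (W2 p k)) * a) = 0 :=
    fun v => exists_lift_mem_ker _ h Ψ hΨs hπΨ (MvPolynomial.X v ^ p) (by
      rw [map_pow, MvPolynomial.map_X]
      exact Ideal.subset_span (Set.mem_insert_of_mem _ ⟨v, rfl⟩))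
  choose a ha using hXp
  have h1 : (QQ (W2 p k) m +
      (p : MvPolynomial (Fin (m + 3) × Fin 2) (W2 p k)) * g₀) ^ p =
      ∑ i : Fin (m + 3), MvPolynomial.X (i, (0 : Fin 2)) ^ p * MvPolynomial.X (i, (1 : Fin 2)) ^ p +
        (p : MvPolynomial (Fin (m + 3) × Fin 2) (W2 p k)) * thetaW p k m E := by
    rw [add_p_mul_pow p hpp, thetaW_pow_sum p k m E hE]
  have hid : (p : MvPolynomial (Fin (m + 3) × Fin 2) (W2 p k)) *
      (thetaW p k m E - ∑ i : Fin (m + 3),
        (a (i, 0) * MvPolynomial.X (i, (1 : Fin 2)) ^ p +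
          a (i, 1) * MvPolynomial.X (i, (0 : Fin 2)) ^ p)) =
      (QQ (W2 p k) m + (p : MvPolynomial (Fin (m + 3) × Fin 2) (W2 p k)) * g₀) ^ p -
      ∑ i : Fin (m + 3),
        (MvPolynomial.X (i, (0 : Fin 2)) ^ p +
          (p : MvPolynomial (Fin (m + 3) × Fin 2) (W2 p k)) * a (i, 0)) *
        (MvPolynomial.X (i, (1 : Fin 2)) ^ p +
          (p : MvPolynomial (Fin (m + 3) × Fin 2) (W2 p k)) * a (i, 1)) := by
    rw [h1, sum_prod_expand]; ring
  have hT : Ψ ((p : MvPolynomial (Fin (m + 3) × Fin 2) (W2 p k)) *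
      (thetaW p k m E - ∑ i : Fin (m + 3),
        (a (i, 0) * MvPolynomial.X (i, (1 : Fin 2)) ^ p +
          a (i, 1) * MvPolynomial.X (i, (0 : Fin 2)) ^ p))) = 0 := by
    rw [hid, map_sub, map_pow, hg₀, zero_pow hp.out.ne_zero, map_sum, zero_sub, neg_eq_zero]
    apply Finset.sum_eq_zero
    intro i _
    rw [map_mul, ha, zero_mul]
  have hmem := red_mem_of_p_mul _ h Ψ hπΨ _ hT
  rw [map_sub, red_thetaW] at hmem
  refine core k m p E hE 0 ?_
  rw [map_zero, sub_zero]
  have := Ideal.add_mem _ hmem (red_sum_mem p k m a)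
  rwa [sub_add_cancel] at this

/-- S19564 for `n = m + 3`. -/
theorem not_fliftable_aux :
    ¬ FrobAlg.IsFLiftable p k
      (MvPolynomial (Fin (m + 3) × Fin 2) k ⧸ Ideal.span
        {(∑ i : Fin (m + 3), MvPolynomial.X (i, (0 : Fin 2)) * MvPolynomial.X (i, (1 : Fin 2)) :
          MvPolynomial (Fin (m + 3) × Fin 2) k)}) := by
  rintro ⟨B, _, ι, π, Φ, hF⟩
  have h : IsLift p k _ B ι π := hF.toIsLift
  obtain ⟨Ψ, hΨs, hπΨ, hΨC⟩ := exists_presentation _ h
  obtain ⟨E, hE⟩ := exists_E p (m + 3)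
  have hpp := mvPoly_p_mul_p p k (Fin (m + 3) × Fin 2)
  have hstep : ∀ v : Fin (m + 3) × Fin 2, ∃ hv : MvPolynomial (Fin (m + 3) × Fin 2) (W2 p k),
      Φ (Ψ (MvPolynomial.X v)) =
        Ψ (MvPolynomial.X v ^ p + (p : MvPolynomial (Fin (m + 3) × Fin 2) (W2 p k)) * hv) := by
    intro v
    have : Φ (Ψ (MvPolynomial.X v)) - Ψ (MvPolynomial.X v) ^ p ∈ RingHom.ker π := by
      rw [RingHom.mem_ker, map_sub, hF.red, map_pow, sub_self]
    rw [lift_ker_eq_span h, Ideal.mem_span_singleton] at this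
    obtain ⟨b₁, hb₁⟩ := this
    obtain ⟨hv, rfl⟩ := hΨs b₁
    exact ⟨hv, by rw [map_add, map_pow, map_mul, map_natCast, ← hb₁]; ring⟩
  choose hh hhv using hstep
  obtain ⟨F, hFdef⟩ : ∃ F : MvPolynomial (Fin (m + 3) × Fin 2) (W2 p k) →+*
      MvPolynomial (Fin (m + 3) × Fin 2) (W2 p k),
      F = MvPolynomial.eval₂Hom (MvPolynomial.C.comp (sigma p k))
        (fun v => MvPolynomial.X v ^ p +
          (p : MvPolynomial (Fin (m + 3) × Fin 2) (W2 p k)) * hh v) := ⟨_, rfl⟩
  have hFC : ∀ w, F (MvPolynomial.C w) = MvPolynomial.C (sigma p k w) := fun w => by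
    rw [hFdef, MvPolynomial.eval₂Hom_C]; rfl
  have hFX : ∀ v, F (MvPolynomial.X v) = MvPolynomial.X v ^ p +
      (p : MvPolynomial (Fin (m + 3) × Fin 2) (W2 p k)) * hh v := fun v => by
    rw [hFdef, MvPolynomial.eval₂Hom_X']
  have hΦΨ : ∀ g, Φ (Ψ g) = Ψ (F g) := by
    have : Φ.comp Ψ = Ψ.comp F := by
      apply MvPolynomial.ringHom_ext
      · intro w
        rw [RingHom.comp_apply, RingHom.comp_apply, hΨC, hFC, hΨC]
        exact RingHom.congr_fun hF.semi w
      · intro v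
        rw [RingHom.comp_apply, RingHom.comp_apply, hFX, hhv]
    exact fun g => RingHom.congr_fun this g
  have hredF : ∀ g, MvPolynomial.map (res p k) (F g) = (MvPolynomial.map (res p k) g) ^ p := by
    have : (MvPolynomial.map (res p k)).comp F =
        (frobenius (MvPolynomial (Fin (m + 3) × Fin 2) k) p).comp
          (MvPolynomial.map (res p k)) := by
      apply MvPolynomial.ringHom_ext
      · intro w
        rw [RingHom.comp_apply, RingHom.comp_apply, hFC, MvPolynomial.map_C, MvPolynomial.map_C,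
          frobenius_def, ← map_pow, res_apply, res_apply, WittGrp.coeff_frob]
      · intro v
        rw [RingHom.comp_apply, RingHom.comp_apply, hFX, map_add, map_pow, MvPolynomial.map_X,
          map_mul, map_natCast, frobenius_def, CharP.cast_eq_zero, zero_mul, add_zero]
    exact fun g => RingHom.congr_fun this g
  obtain ⟨g₀, hg₀⟩ := exists_lift_mem_ker _ h Ψ hΨs hπΨ (QQ (W2 p k) m)
    (by rw [map_QQ]; exact Ideal.mem_span_singleton_self _)
  have h1 : (QQ (W2 p k) m +
      (p : MvPolynomial (Fin (m + 3) × Fin 2) (W2 p k)) * g₀) ^ p =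
      ∑ i : Fin (m + 3), MvPolynomial.X (i, (0 : Fin 2)) ^ p * MvPolynomial.X (i, (1 : Fin 2)) ^ p +
        (p : MvPolynomial (Fin (m + 3) × Fin 2) (W2 p k)) * thetaW p k m E := by
    rw [add_p_mul_pow p hpp, thetaW_pow_sum p k m E hE]
  have hpF : (p : MvPolynomial (Fin (m + 3) × Fin 2) (W2 p k)) * F g₀ =
      (p : MvPolynomial (Fin (m + 3) × Fin 2) (W2 p k)) * g₀ ^ p := by
    have : F g₀ - g₀ ^ p ∈ RingHom.ker (MvPolynomial.map (σ := Fin (m + 3) × Fin 2) (res p k)) := by
      rw [RingHom.mem_ker, map_sub, hredF, map_pow, sub_self]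
    rw [ker_map_res, Ideal.mem_span_singleton] at this
    obtain ⟨t, ht⟩ := this
    have : F g₀ = g₀ ^ p + (p : MvPolynomial (Fin (m + 3) × Fin 2) (W2 p k)) * t := by
      rw [← ht]; ring
    rw [this, mul_add, ← mul_assoc, hpp, zero_mul, add_zero]
  have hFQ : F (QQ (W2 p k) m) =
      ∑ i : Fin (m + 3),
        (MvPolynomial.X (i, (0 : Fin 2)) ^ p +
          (p : MvPolynomial (Fin (m + 3) × Fin 2) (W2 p k)) * hh (i, 0)) *
        (MvPolynomial.X (i, (1 : Fin 2)) ^ p +
          (p : MvPolynomial (Fin (m + 3) × Fin 2) (W2 p k)) * hh (i, 1)) := by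
    unfold QQ
    rw [map_sum]
    simp_rw [map_mul, hFX]
  have hid : F (QQ (W2 p k) m +
      (p : MvPolynomial (Fin (m + 3) × Fin 2) (W2 p k)) * g₀) -
      (QQ (W2 p k) m + (p : MvPolynomial (Fin (m + 3) × Fin 2) (W2 p k)) * g₀) ^ p =
      (p : MvPolynomial (Fin (m + 3) × Fin 2) (W2 p k)) *
        (∑ i : Fin (m + 3),
          (hh (i, 0) * MvPolynomial.X (i, (1 : Fin 2)) ^ p +
            hh (i, 1) * MvPolynomial.X (i, (0 : Fin 2)) ^ p) +
          g₀ ^ p - thetaW p k m E) := by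
    rw [h1, map_add, map_mul, map_natCast, hpF, hFQ, sum_prod_expand]
    ring
  have hT0 : Ψ ((p : MvPolynomial (Fin (m + 3) × Fin 2) (W2 p k)) *
        (∑ i : Fin (m + 3),
          (hh (i, 0) * MvPolynomial.X (i, (1 : Fin 2)) ^ p +
            hh (i, 1) * MvPolynomial.X (i, (0 : Fin 2)) ^ p) +
          g₀ ^ p - thetaW p k m E)) = 0 := by
    rw [← hid, map_sub, ← hΦΨ, hg₀, map_zero, map_pow, hg₀, zero_pow hp.out.ne_zero, sub_zero]
  have hmem := red_mem_of_p_mul _ h Ψ hπΨ _ hT0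
  rw [map_sub, map_add, red_thetaW, map_pow] at hmem
  refine core k m p E hE
    ((MvPolynomial.constantCoeff (MvPolynomial.map (res p k) g₀)) ^ p) ?_
  have hle : Ideal.span {(∑ i : Fin (m + 3), MvPolynomial.X (i, (0 : Fin 2)) *
      MvPolynomial.X (i, (1 : Fin 2)) : MvPolynomial (Fin (m + 3) × Fin 2) k)} ≤
      Ideal.span (insert (QQ k m)
          (Set.range fun v : Fin (m + 3) × Fin 2 =>
            (MvPolynomial.X v : MvPolynomial (Fin (m + 3) × Fin 2) k) ^ p)) :=
    Ideal.span_mono (by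
      intro x hx
      rw [Set.mem_singleton_iff] at hx
      rw [hx]; exact Set.mem_insert _ _)
  have hle2 : Ideal.span (Set.range fun v : Fin (m + 3) × Fin 2 =>
      (MvPolynomial.X v : MvPolynomial (Fin (m + 3) × Fin 2) k) ^ p) ≤
      Ideal.span (insert (QQ k m)
          (Set.range fun v : Fin (m + 3) × Fin 2 =>
            (MvPolynomial.X v : MvPolynomial (Fin (m + 3) × Fin 2) k) ^ p)) :=
    Ideal.span_mono (Set.subset_insert _ _)
  have hpow := hle2 (pow_sub_C_mem p k (MvPolynomial.map (res p k) g₀))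
  have h3 := Ideal.add_mem _ (Ideal.sub_mem _ (red_sum_mem p k m hh) (hle hmem)) hpow
  have e : theta k m E -
      MvPolynomial.C ((MvPolynomial.constantCoeff (MvPolynomial.map (res p k) g₀)) ^ p) =
      MvPolynomial.map (res p k) (∑ i : Fin (m + 3),
          (hh (i, 0) * MvPolynomial.X (i, (1 : Fin 2)) ^ p +
            hh (i, 1) * MvPolynomial.X (i, (0 : Fin 2)) ^ p)) -
        (MvPolynomial.map (res p k) (∑ i : Fin (m + 3),
          (hh (i, 0) * MvPolynomial.X (i, (1 : Fin 2)) ^ p +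
            hh (i, 1) * MvPolynomial.X (i, (0 : Fin 2)) ^ p)) +
          MvPolynomial.map (res p k) g₀ ^ p - theta k m E) +
        (MvPolynomial.map (res p k) g₀ ^ p -
          MvPolynomial.C ((MvPolynomial.constantCoeff (MvPolynomial.map (res p k) g₀)) ^ p)) := by
    ring
  rw [e]
  exact h3

end Main

end Groth.Agent.Lib.Helper4.FrobQ
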