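import Mathlib
import Groth.Agent.Lib.Helper4.QuotCanon
import Groth.Agent.Lib.Helper4.CMLoc
import Groth.Agent.Lib.Helper4.FaltCat

/-!
# Generalized Cohen–Macaulay modules over quotients of Gorenstein local rings (helper4)
-/

set_option autoImplicit false
set_option linter.style.haveILetI false
set_option linter.unusedSectionVars false
set_option linter.unusedVariables false
set_option maxHeartbeats 800000

open CategoryTheory Limits Opposite Abelian IsLocalRing

universe u

namespace Groth.Agent.Lib.Helper4.StalkDual

open Groth.Agent.Lib.Helper4 Groth.Agent.Lib.Helper4.LC Groth.Agent.Lib.Helper4.Falt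

section arith

lemma enat_relHeight_add (a b c x y z : ℕ∞) (ha : a ≠ ⊤) (hb : b ≠ ⊤) (hc : c ≠ ⊤)
    (e1 : a = c + x) (e2 : a = b + z) (e3 : b = c + y) : x = y + z := by
  lift a to ℕ using ha
  lift b to ℕ using hb
  lift c to ℕ using hc
  have hx : x ≠ ⊤ := by
    rintro rfl
    rw [add_top] at e1
    exact ENat.coe_ne_top _ e1
  have hy : y ≠ ⊤ := by
    rintro rfl
    rw [add_top] at e3
    exact ENat.coe_ne_top _ e3
  have hz : z ≠ ⊤ := by
    rintro rfl
    rw [add_top] at e2
    exact ENat.coe_ne_top _ e2
  lift x to ℕ using hx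
  lift y to ℕ using hy
  lift z to ℕ using hz
  norm_cast at e1 e2 e3 ⊢
  omega

end arith

section gorheight

variable (B : Type u) [CommRing B] [LocCoh.IsGorensteinLocalRing B]

/-- `ht Q = ht P + ht(Q/P)` in a Gorenstein local ring. -/
theorem gor_height_eq_add_relHeight (P Q : Ideal B) [P.IsPrime] [Q.IsPrime] (hPQ : P ≤ Q) :
    Q.height = P.height + (Q.map (Ideal.Quotient.mk P)).height := by
  have hdisj : Disjoint (Q.primeCompl : Set B) (P : Set B) := by
    rw [Set.disjoint_left]
    intro x hx hxP
    exact hx (hPQ hxP)
  haveI hprime : (P.map (algebraMap B (Localization.AtPrime Q))).IsPrime :=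
    IsLocalization.isPrime_of_isPrime_disjoint Q.primeCompl _ _ ‹_› hdisj
  haveI := gor_isGorensteinLocalRing_localization B Q
  have h1 := gor_height_add_ringKrullDim_quotient (Localization.AtPrime Q)
    (P.map (algebraMap B (Localization.AtPrime Q)))
  rw [IsLocalization.height_map_of_disjoint Q.primeCompl P hdisj,
    ringKrullDim_quotient_map_eq_height P Q hPQ,
    IsLocalization.AtPrime.ringKrullDim_eq_height Q (Localization.AtPrime Q)] at h1
  exact_mod_cast h1.symm

theorem gor_relHeight_add_eq (P₀ P Q : Ideal B) [P₀.IsPrime] [P.IsPrime] [Q.IsPrime]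
    (h1 : P₀ ≤ P) (h2 : P ≤ Q) :
    (Q.map (Ideal.Quotient.mk P₀)).height =
      (P.map (Ideal.Quotient.mk P₀)).height + (Q.map (Ideal.Quotient.mk P)).height :=
  enat_relHeight_add Q.height P.height P₀.height _ _ _
    (Ideal.height_ne_top (Ideal.IsPrime.ne_top ‹_›))
    (Ideal.height_ne_top (Ideal.IsPrime.ne_top ‹_›))
    (Ideal.height_ne_top (Ideal.IsPrime.ne_top ‹_›))
    (gor_height_eq_add_relHeight B P₀ Q (h1.trans h2))
    (gor_height_eq_add_relHeight B P Q h2)
    (gor_height_eq_add_relHeight B P₀ P h1)

/-- **finite length of `H^i_m(N)` over a Gorenstein local ring**, stalkwise. -/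
theorem gor_isFiniteLength_HH_iff (N : Type u) [AddCommGroup N] [Module B N] [Module.Finite B N]
    (i : ℕ) :
    IsFiniteLength B (HH (maximalIdeal B) (ModuleCat.of B N) i) ↔
      ∀ (P : Ideal B) [P.IsPrime], P ≠ maximalIdeal B → ∀ (e j : ℕ),
        ringKrullDim (B ⧸ P) = e → j + e = i →
        Subsingleton (HH (maximalIdeal (Localization.AtPrime P))
          (ModuleCat.of (Localization.AtPrime P) (LocalizedModule P.primeCompl N)) j) := by
  obtain ⟨n, hn⟩ := gor_exists_nat_dim B
  by_cases hin : i ≤ n
  · obtain ⟨c, hc⟩ : ∃ c, i + c = n := ⟨n - i, by omega⟩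
    obtain ⟨E, _, _, f, hf, hdual⟩ := gor_duality B n hn
    obtain ⟨eD⟩ := hdual c i hc N
    have h1 : IsFiniteLength B (HH (maximalIdeal B) (ModuleCat.of B N) i) ↔
        IsFiniteLength B (Ext.{u} (ModuleCat.of B N) (ModuleCat.of B B) c) :=
      ⟨fun h => (isFiniteLength_hom_iff f hf _).1 (eD.isFiniteLength h),
        fun h => eD.symm.isFiniteLength ((isFiniteLength_hom_iff f hf _).2 h)⟩
    rw [h1, isFiniteLength_iff_forall_prime]
    refine forall_congr' (fun P => ?_)
    refine forall_congr' (fun hPprime => ?_)
    refine forall_congr' (fun hPne => ?_)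
    haveI := hPprime
    rw [← subsingleton_ext_localization_iff P.primeCompl N c]
    obtain ⟨nP, e₀, hdimP, he₀, hne⟩ := gor_prime_facts B n hn P
    haveI := gor_isGorensteinLocalRing_localization B P
    constructor
    · intro hExt e j he hje
      have hee : e = e₀ := by
        rw [he₀] at he
        exact_mod_cast he.symm
      exact (gor_vanishing_iff (Localization.AtPrime P) nP hdimP
        (LocalizedModule P.primeCompl N) j c (by omega)).2 hExt
    · intro hH
      by_cases hkP : c ≤ nP
      · have := hH e₀ (nP - c) he₀ (by omega)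
        exact (gor_vanishing_iff (Localization.AtPrime P) nP hdimP
          (LocalizedModule P.primeCompl N) (nP - c) c (by omega)).1 this
      · exact gor_ext_self_subsingleton_of_gt (Localization.AtPrime P) nP hdimP
          (LocalizedModule P.primeCompl N) c (not_le.1 hkP)
  · have hsub : Subsingleton (HH (maximalIdeal B) (ModuleCat.of B N) i) := by
      refine HH.subsingleton_of_ringKrullDim_lt _ _ i ?_
      rw [hn]
      exact_mod_cast (not_le.1 hin)
    constructor
    · intro _ P _ hPne e j he hje
      obtain ⟨nP, e₀, hdimP, he₀, hne⟩ := gor_prime_facts B n hn P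
      have hee : e = e₀ := by
        rw [he₀] at he
        exact_mod_cast he.symm
      refine HH.subsingleton_of_ringKrullDim_lt _ _ j ?_
      rw [hdimP]
      have : nP < j := by omega
      exact_mod_cast this
    · intro _
      exact IsFiniteLength.of_subsingleton

end gorheight

section transferfl

variable {B R : Type u} [CommRing B] [LocCoh.IsGorensteinLocalRing B] [CommRing R] [IsLocalRing R]
  [IsNoetherianRing R] [Algebra B R] (hsurj : Function.Surjective (algebraMap B R))

include hsurj in
/-- additivity of relative heights in a quotient of a Gorenstein local ring. -/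
theorem relHeight_add_eq_of_surjective_gor (p₀ p q : Ideal R) [p₀.IsPrime] [p.IsPrime]
    [q.IsPrime] (h1 : p₀ ≤ p) (h2 : p ≤ q) :
    (q.map (Ideal.Quotient.mk p₀)).height =
      (p.map (Ideal.Quotient.mk p₀)).height + (q.map (Ideal.Quotient.mk p)).height := by
  have key : ∀ (s t : Ideal R) [s.IsPrime] [t.IsPrime], s ≤ t →
      ((t.comap (algebraMap B R)).map (Ideal.Quotient.mk (s.comap (algebraMap B R)))).height =
        (t.map (Ideal.Quotient.mk s)).height := by
    intro s t _ _ hst
    have h := height_map_comap hsurj s (t.comap (algebraMap B R))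
    rw [Ideal.map_comap_of_surjective _ hsurj, sup_eq_left.mpr hst,
      sup_eq_left.mpr (Ideal.comap_mono hst)] at h
    exact h
  rw [← key p₀ q (h1.trans h2), ← key p₀ p h1, ← key p q h2]
  exact gor_relHeight_add_eq B _ _ _ (Ideal.comap_mono h1) (Ideal.comap_mono h2)

variable (M : Type u) [AddCommGroup M] [Module B M] [Module R M] [IsScalarTower B R M]
  [Module.Finite R M]

include hsurj in
/-- finite length of `H^i_m(M)` over a quotient of a Gorenstein local ring, stalkwise. -/
theorem isFiniteLength_H_iff_of_surjective_gor (i : ℕ) :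
    IsFiniteLength R (LocCoh.H (maximalIdeal R) i M) ↔
      ∀ (p : Ideal R) [p.IsPrime], p ≠ maximalIdeal R → ∀ (e j : ℕ),
        ringKrullDim (R ⧸ p) = e → j + e = i →
        Subsingleton (HH (maximalIdeal (Localization.AtPrime p))
          (ModuleCat.of (Localization.AtPrime p) (LocalizedModule p.primeCompl M)) j) := by
  classical
  haveI : Module.Finite B R := Module.Finite.of_surjective (Algebra.linearMap B R) hsurj
  haveI : Module.Finite B M := Module.Finite.trans R M
  have hmap := map_maximalIdeal_eq hsurj
  have hcomap := comap_maximalIdeal_eq hsurj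
  obtain ⟨φ, hφ⟩ : ∃ φ : HH (maximalIdeal R) (ModuleCat.of R M) i ≃+
      HH (maximalIdeal B) (ModuleCat.of B M) i,
      ∀ (r : B) (x : HH (maximalIdeal R) (ModuleCat.of R M) i),
        φ (algebraMap B R r • x) = r • φ x := by
    have := Groth.Agent.Lib.Helper20.LCIndep2.exists_addEquiv (R := B) R (maximalIdeal B) M i
    rw [hmap] at this
    exact this
  have h12 : IsFiniteLength R (LocCoh.H (maximalIdeal R) i M) ↔
      IsFiniteLength B (HH (maximalIdeal B) (ModuleCat.of B M) i) := by
    rw [← isFiniteLength_iff_of_addEquiv hsurj φ hφ]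
    exact ⟨(lcEquiv (maximalIdeal R) (ModuleCat.of R M) i).isFiniteLength,
      (lcEquiv (maximalIdeal R) (ModuleCat.of R M) i).symm.isFiniteLength⟩
  rw [h12, gor_isFiniteLength_HH_iff B M i]
  constructor
  · intro h p hp hpne e j he hje
    haveI := hp
    have hPne : p.comap (algebraMap B R) ≠ maximalIdeal B := by
      intro heq
      apply hpne
      rw [← hcomap] at heq
      exact Ideal.comap_injective_of_surjective _ hsurj heq
    have hdimB : ringKrullDim (B ⧸ p.comap (algebraMap B R)) = e := by
      rw [← relHeight_maximalIdeal (p.comap (algebraMap B R)),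
        relHeight_maximalIdeal_comap hsurj p, he]
    have h3 := h (p.comap (algebraMap B R)) hPne e j hdimB hje
    rw [HH_localization_comap_iff hsurj M p j] at h3
    exact h3
  · intro h P _ hPne e j he hje
    by_cases hker : RingHom.ker (algebraMap B R) ≤ P
    · have hPprime : (P.map (algebraMap B R)).IsPrime :=
        Ideal.map_isPrime_of_surjective hsurj hker
      have hcm : (P.map (algebraMap B R)).comap (algebraMap B R) = P := by
        rw [Ideal.comap_map_of_surjective _ hsurj]
        exact sup_eq_left.mpr (by rwa [← RingHom.ker_eq_comap_bot])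
      obtain ⟨p, hpprime, rfl⟩ : ∃ p : Ideal R, p.IsPrime ∧ p.comap (algebraMap B R) = P :=
        ⟨P.map _, hPprime, hcm⟩
      haveI := hpprime
      have hp_ne : p ≠ maximalIdeal R := by
        rintro rfl
        exact hPne hcomap
      have hdimR : ringKrullDim (R ⧸ p) = e := by
        rw [← relHeight_maximalIdeal_comap hsurj p,
          relHeight_maximalIdeal (p.comap (algebraMap B R)), he]
      have h3 := h p hp_ne e j hdimR hje
      rw [HH_localization_comap_iff hsurj M p j]
      exact h3
    · obtain ⟨s, hsker, hsP⟩ := SetLike.not_le_iff_exists.1 hker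
      haveI : Subsingleton (LocalizedModule P.primeCompl M) := by
        rw [LocalizedModule.subsingleton_iff]
        intro m
        refine ⟨s, hsP, ?_⟩
        rw [← algebraMap_smul R s m, (RingHom.mem_ker).1 hsker, zero_smul]
      exact HH.subsingleton_of_subsingleton _ _ j

include hsurj in
/-- **generalized Cohen–Macaulay ⇔ equidimensional and CM on the punctured spectrum.** -/
theorem genCM_iff (n : ℕ) (hn : Module.supportDim R M = n) :
    (∀ i : ℕ, i < n → IsFiniteLength R (LocCoh.H (maximalIdeal R) i M)) ↔
      ((∀ p ∈ (Module.annihilator R M).minimalPrimes, ringKrullDim (R ⧸ p) = n) ∧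
        ∀ (p : Ideal R) [p.IsPrime], p ≠ maximalIdeal R → Module.annihilator R M ≤ p →
          LocCoh.IsCohenMacaulayModule (Localization.AtPrime p)
            (LocalizedModule p.primeCompl M)) := by
  classical
  have facts : ∀ (p : Ideal R) [p.IsPrime], Module.annihilator R M ≤ p →
      Nontrivial (LocalizedModule p.primeCompl M) ∧
      ∃ d t e : ℕ, Module.supportDim (Localization.AtPrime p) (LocalizedModule p.primeCompl M) =
          ((d : ℕ∞) : WithBot ℕ∞) ∧
        LocCoh.depth (Localization.AtPrime p) (LocalizedModule p.primeCompl M) = (t : ℕ∞) ∧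
        ringKrullDim (R ⧸ p) = (e : WithBot ℕ∞) ∧ t ≤ d ∧ d + e ≤ n := by
    intro p hp hAnn
    have hsupp : (⟨p, hp⟩ : PrimeSpectrum R) ∈ Module.support R M :=
      Module.mem_support_iff_of_finite.2 hAnn
    haveI hnt : Nontrivial (LocalizedModule p.primeCompl M) := hsupp
    refine ⟨hnt, ?_⟩
    obtain ⟨d, hd⟩ := exists_nat_supportDim (R := Localization.AtPrime p)
      (M := LocalizedModule p.primeCompl M)
    obtain ⟨t, ht⟩ := exists_nat_depth (R := Localization.AtPrime p)
      (M := LocalizedModule p.primeCompl M)
    obtain ⟨e, he⟩ := exists_nat_ringKrullDim_quotient p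
    have h1 := depth_le_supportDim (R := Localization.AtPrime p)
      (M := LocalizedModule p.primeCompl M)
    rw [hd, ht] at h1
    have h2 := Groth.Agent.S5765.result R M p
    have h3 : Module.supportDim R (M ⧸ p • (⊤ : Submodule R M)) = ringKrullDim (R ⧸ p) :=
      supportDim_quot_prime_eq (p := ⟨p, hp⟩) hsupp
    rw [h3, hd, he, hn] at h2
    refine ⟨d, t, e, hd, ht, he, by exact_mod_cast h1, by exact_mod_cast h2⟩
  have crit : (∀ i : ℕ, i < n → IsFiniteLength R (LocCoh.H (maximalIdeal R) i M)) ↔
      ∀ (p : Ideal R) [p.IsPrime], p ≠ maximalIdeal R → Module.annihilator R M ≤ p →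
        ∀ t e : ℕ, LocCoh.depth (Localization.AtPrime p) (LocalizedModule p.primeCompl M) =
          (t : ℕ∞) → ringKrullDim (R ⧸ p) = (e : WithBot ℕ∞) → n ≤ t + e := by
    constructor
    · intro h p hp hpne hAnn t e ht he
      by_contra hlt
      have hlt' : t + e < n := not_le.1 hlt
      have hfl := h (t + e) hlt'
      rw [isFiniteLength_H_iff_of_surjective_gor hsurj M (t + e)] at hfl
      have hsub := hfl p hpne e t he rfl
      obtain ⟨hnt, -⟩ := facts p hAnn
      haveI := hnt
      haveI hnon := HH.nontrivial_of_idealDepth_eq (maximalIdeal (Localization.AtPrime p)) t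
        (LocalizedModule p.primeCompl M) maximalIdeal_smul_top_ne_top ht
      exact not_subsingleton _ hsub
    · intro h i hi
      rw [isFiniteLength_H_iff_of_surjective_gor hsurj M i]
      intro p hp hpne e j he hje
      by_cases hAnn : Module.annihilator R M ≤ p
      · obtain ⟨hnt, d, t, e', hd, ht, he', htd, hde⟩ := facts p hAnn
        haveI := hnt
        have h1 := h p hpne hAnn t e ht he
        apply HH.subsingleton_of_lt_idealDepth
        show (j : ℕ∞) < LocCoh.depth (Localization.AtPrime p) (LocalizedModule p.primeCompl M)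
        rw [ht]
        exact_mod_cast (by omega : j < t)
      · have hns : (⟨p, hp⟩ : PrimeSpectrum R) ∉ Module.support R M :=
          fun hs => hAnn (Module.mem_support_iff_of_finite.1 hs)
        haveI : Subsingleton (LocalizedModule p.primeCompl M) :=
          not_nontrivial_iff_subsingleton.1 hns
        exact HH.subsingleton_of_subsingleton _ _ j
  rw [crit]
  constructor
  · intro h
    refine ⟨?_, ?_⟩
    · intro q hq
      haveI hqp : q.IsPrime := hq.1.1
      have hAnn : Module.annihilator R M ≤ q := hq.1.2
      by_cases hqm : q = maximalIdeal R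
      · have hsub : Subsingleton (Module.support R M) := by
          have key : ∀ a : Module.support R M, a.1.asIdeal = q := by
            intro a
            have hA : Module.annihilator R M ≤ a.1.asIdeal :=
              Module.mem_support_iff_of_finite.1 a.2
            have hle : a.1.asIdeal ≤ q := by
              rw [hqm]
              exact le_maximalIdeal a.1.2.ne_top
            exact le_antisymm hle (hq.2 ⟨a.1.2, hA⟩ hle)
          exact ⟨fun a b => Subtype.ext (PrimeSpectrum.ext ((key a).trans (key b).symm))⟩
        have h0 : Module.supportDim R M ≤ 0 := by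
          rw [Module.supportDim]
          exact Order.krullDim_nonpos_of_subsingleton
        rw [hn] at h0
        have hn0 : n = 0 := by
          have : (n : WithBot ℕ∞) ≤ ((0 : ℕ) : WithBot ℕ∞) := by exact_mod_cast h0
          have h' : n ≤ 0 := by exact_mod_cast this
          omega
        rw [hqm, hn0]
        have := ringKrullDim_eq_zero_of_isField
          ((Ideal.Quotient.maximal_ideal_iff_isField_quotient (maximalIdeal R)).1 inferInstance)
        exact_mod_cast this
      · obtain ⟨hnt, d, t, e, hd, ht, he, htd, hde⟩ := facts q hAnn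
        have h1 := h q hqm hAnn t e ht he
        have h2 := supportDim_localizedModule_le_zero_of_mem_minimalPrimes q hq
        rw [hd] at h2
        have hd0 : d = 0 := by
          have : ((d : ℕ) : WithBot ℕ∞) ≤ ((0 : ℕ) : WithBot ℕ∞) := by exact_mod_cast h2
          have h' : d ≤ 0 := by exact_mod_cast this
          omega
        rw [he]
        exact_mod_cast (by omega : e = n)
    · intro p hp hpne hAnn
      obtain ⟨hnt, d, t, e, hd, ht, he, htd, hde⟩ := facts p hAnn
      have h1 := h p hpne hAnn t e ht he
      have hdt : d = t := by omega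
      rw [LocCoh.IsCohenMacaulayModule, hd, ht, hdt]
  · rintro ⟨hequi, hcm⟩ p hp hpne hAnn t e ht he
    obtain ⟨q, hq, hqp⟩ := Ideal.exists_minimalPrimes_le hAnn
    haveI hqprime : q.IsPrime := hq.1.1
    have hqAnn : Module.annihilator R M ≤ q := hq.1.2
    have hsuppq : (⟨q, hqprime⟩ : PrimeSpectrum R) ∈ Module.support R M :=
      Module.mem_support_iff_of_finite.2 hqAnn
    have h1 := relHeight_le_depth_of_cm q p hqp hsuppq (hcm p hpne hAnn)
    rw [ht] at h1
    have h2 := relHeight_add_eq_of_surjective_gor hsurj q p (maximalIdeal R) hqp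
      (le_maximalIdeal hp.ne_top)
    have h3 := relHeight_maximalIdeal q
    rw [hequi q hq] at h3
    have h4 := relHeight_maximalIdeal p
    rw [he] at h4
    have h3' : ((maximalIdeal R).map (Ideal.Quotient.mk q)).height = (n : ℕ∞) := by
      exact_mod_cast h3
    have h4' : ((maximalIdeal R).map (Ideal.Quotient.mk p)).height = (e : ℕ∞) := by
      exact_mod_cast h4
    rw [h3', h4'] at h2
    have h5 : (n : ℕ∞) ≤ (t : ℕ∞) + (e : ℕ∞) := by
      rw [h2]
      exact add_le_add h1 le_rfl
    exact_mod_cast h5

end transferfl

end Groth.Agent.Lib.Helper4.StalkDual
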