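import Mathlib
import Groth.Prelude

set_option autoImplicit false
set_option linter.style.haveILetI false
set_option linter.unusedSectionVars false
set_option linter.unusedVariables false
set_option linter.unusedSimpArgs false
set_option maxHeartbeats 1600000
set_option maxSynthPendingDepth 3

universe u

namespace Groth.Agent.Lib.Helper4.GlueHtOne

open IsLocalRing

section defs

variable {A : Type u} [CommRing A] (t : A) {ι : Type} (B : ι → Type u) [∀ i, CommRing (B i)]
  [∀ i, Algebra A (B i)]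

/-- `A_t`. -/
abbrev T := Localization.Away t
/-- `(B_i)_t`. -/
abbrev E (i : ι) := Localization.Away (algebraMap A (B i) t)

/-- the comparison map `A_t → (B_i)_t`. -/
noncomputable def psi (i : ι) : T t →+* E t B i :=
  IsLocalization.Away.lift t (g := (algebraMap (B i) (E t B i)).comp (algebraMap A (B i)))
    (IsLocalization.Away.algebraMap_isUnit (algebraMap A (B i) t))

theorem psi_algebraMap (i : ι) (a : A) :
    psi t B i (algebraMap A (T t) a) = algebraMap (B i) (E t B i) (algebraMap A (B i) a) := by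
  unfold psi
  rw [IsLocalization.Away.lift_eq]
  rfl

/-- elements of `t^{-k} A` mapping into every `B_i`. -/
def M (k : ℕ) : Submodule A (T t) where
  carrier := {x | (∃ a : A, algebraMap A (T t) a = algebraMap A (T t) t ^ k * x) ∧
    ∀ i, ∃ b : B i, algebraMap (B i) (E t B i) b = psi t B i x}
  add_mem' := by
    rintro x y ⟨⟨a, ha⟩, hx⟩ ⟨⟨a', ha'⟩, hy⟩
    refine ⟨⟨a + a', by rw [map_add, ha, ha', mul_add]⟩, fun i => ?_⟩
    obtain ⟨b, hb⟩ := hx i
    obtain ⟨b', hb'⟩ := hy i
    exact ⟨b + b', by rw [map_add, map_add, hb, hb']⟩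
  zero_mem' := ⟨⟨0, by simp⟩, fun i => ⟨0, by simp⟩⟩
  smul_mem' := by
    rintro d x ⟨⟨a, ha⟩, hx⟩
    refine ⟨⟨d * a, by rw [map_mul, ha, Algebra.smul_def]; ring⟩, fun i => ?_⟩
    obtain ⟨b, hb⟩ := hx i
    exact ⟨algebraMap A (B i) d * b, by
      rw [map_mul, hb, Algebra.smul_def, map_mul, psi_algebraMap]⟩

theorem algebraMap_mem_M (k : ℕ) (a : A) : algebraMap A (T t) a ∈ M t B k :=
  ⟨⟨t ^ k * a, by rw [map_mul, map_pow]⟩,
    fun i => ⟨algebraMap A (B i) a, (psi_algebraMap t B i a).symm⟩⟩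

theorem M_of_cond {k l : ℕ} {x : T t} (hx : x ∈ M t B k)
    (h : ∃ a : A, algebraMap A (T t) a = algebraMap A (T t) t ^ l * x) : x ∈ M t B l :=
  ⟨h, hx.2⟩

theorem mul_mem_M {k l : ℕ} {x y : T t} (hx : x ∈ M t B k) (hy : y ∈ M t B l) :
    x * y ∈ M t B (k + l) := by
  obtain ⟨⟨a, ha⟩, hx2⟩ := hx
  obtain ⟨⟨a', ha'⟩, hy2⟩ := hy
  refine ⟨⟨a * a', by rw [map_mul, ha, ha', pow_add]; ring⟩, fun i => ?_⟩
  obtain ⟨b, hb⟩ := hx2 i
  obtain ⟨b', hb'⟩ := hy2 i
  exact ⟨b * b', by rw [map_mul, map_mul, hb, hb']⟩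

theorem isUnit_t (k : ℕ) : IsUnit (algebraMap A (T t) t ^ k) :=
  (IsLocalization.Away.algebraMap_isUnit t).pow k

theorem M_le_span (k : ℕ) :
    M t B k ≤ Submodule.span A {(IsLocalization.Away.invSelf t : T t) ^ k} := by
  rintro x ⟨⟨a, ha⟩, -⟩
  have hu : algebraMap A (T t) t * (IsLocalization.Away.invSelf t : T t) = 1 :=
    IsLocalization.Away.mul_invSelf t
  have hk : algebraMap A (T t) t ^ k * (IsLocalization.Away.invSelf t : T t) ^ k = 1 := by
    rw [← mul_pow, hu, one_pow]
  refine Submodule.mem_span_singleton.mpr ⟨a, ?_⟩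
  rw [Algebra.smul_def]
  linear_combination (IsLocalization.Away.invSelf t : T t) ^ k * ha + x * hk

theorem M_fg [IsNoetherianRing A] (k : ℕ) : (M t B k).FG := by
  haveI : IsNoetherian A ↥(Submodule.span A {(IsLocalization.Away.invSelf t : T t) ^ k}) :=
    isNoetherian_span_of_finite A (Set.finite_singleton _)
  exact Submodule.FG.of_le_of_isNoetherian (M_le_span t B k)

theorem psi_eq_of {i : ι} {k : ℕ} {x : T t} {a : A} {b : B i}
    (ha : algebraMap A (T t) a = algebraMap A (T t) t ^ k * x)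
    (hb : algebraMap A (B i) a = algebraMap A (B i) t ^ k * b) :
    algebraMap (B i) (E t B i) b = psi t B i x := by
  have hunit : IsUnit (algebraMap (B i) (E t B i) (algebraMap A (B i) t) ^ k) :=
    (IsLocalization.Away.algebraMap_isUnit (algebraMap A (B i) t)).pow k
  apply hunit.mul_left_cancel
  have h1 := congrArg (psi t B i) ha
  rw [psi_algebraMap, map_mul, map_pow, psi_algebraMap] at h1
  rw [← h1, hb, map_mul, map_pow]

theorem eq_of_psi {i : ι} (hinjE : Function.Injective (algebraMap (B i) (E t B i)))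
    {k : ℕ} {x : T t} {a : A} {b : B i}
    (ha : algebraMap A (T t) a = algebraMap A (T t) t ^ k * x)
    (hb : algebraMap (B i) (E t B i) b = psi t B i x) :
    algebraMap A (B i) a = algebraMap A (B i) t ^ k * b := by
  apply hinjE
  have h1 := congrArg (psi t B i) ha
  rw [psi_algebraMap, map_mul, map_pow, psi_algebraMap] at h1
  rw [h1, map_mul, map_pow, hb]

theorem injective_algE (i : ι) (hreg : ∀ b : B i, algebraMap A (B i) t * b = 0 → b = 0) :
    Function.Injective (algebraMap (B i) (E t B i)) := by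
  have hpow : ∀ (m : ℕ) (b : B i), algebraMap A (B i) t ^ m * b = 0 → b = 0 := by
    intro m
    induction m with
    | zero => intro b hb; simpa using hb
    | succ m ih =>
      intro b hb
      exact ih b (hreg _ (by rw [← mul_assoc, ← pow_succ']; exact hb))
  rw [injective_iff_map_eq_zero]
  intro b hb
  obtain ⟨⟨_, m, rfl⟩, hm⟩ :=
    (IsLocalization.map_eq_zero_iff (Submonoid.powers (algebraMap A (B i) t)) (E t B i) b).mp hb
  exact hpow m b hm

theorem injective_algT (ht : t ∈ nonZeroDivisors A) : Function.Injective (algebraMap A (T t)) :=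
  IsLocalization.injective (T t) (Submonoid.powers_le.mpr ht)

theorem exists_sig (i : ι) (hinjE : Function.Injective (algebraMap (B i) (E t B i)))
    (C : Subalgebra A (T t))
    (hC : ∀ x ∈ C, ∃ b : B i, algebraMap (B i) (E t B i) b = psi t B i x) :
    ∃ σ : C →ₐ[A] B i, ∀ c : C, algebraMap (B i) (E t B i) (σ c) = psi t B i c.1 := by
  choose f hf using fun c : C => hC c.1 c.2
  refine ⟨{ toFun := f, map_one' := ?_, map_mul' := ?_, map_zero' := ?_, map_add' := ?_,
            commutes' := ?_ }, hf⟩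
  · apply hinjE; rw [hf]; simp
  · intro x y; apply hinjE; rw [hf, map_mul, hf, hf]; simp
  · apply hinjE; rw [hf]; simp
  · intro x y; apply hinjE; rw [hf, map_add, hf, hf]; simp
  · intro a; apply hinjE; rw [hf]; exact psi_algebraMap t B i a

end defs

section primes

variable {A : Type u} [CommRing A] [IsNoetherianRing A] [IsLocalRing A]

theorem not_le_of_ne (hA : ringKrullDim A = 2) {t : A} (htnz : t ∈ nonZeroDivisors A)
    {p p' : Ideal A} [hp : p.IsPrime] [hp' : p'.IsPrime] (htp : t ∈ p)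
    (hp'm : p' ≠ maximalIdeal A) (hne : p ≠ p') : ¬ p ≤ p' := by
  intro hle
  have h1 : p < p' := lt_of_le_of_ne hle hne
  have h2 : p' < maximalIdeal A :=
    lt_of_le_of_ne (IsLocalRing.le_maximalIdeal hp'.ne_top) hp'm
  have hnotmin : p ∉ minimalPrimes A := fun hmin =>
    Set.disjoint_left.mp (Ideal.disjoint_nonZeroDivisors_of_mem_minimalPrimes hmin) htp htnz
  obtain ⟨p₀, hp₀, hp₀le⟩ := Ideal.exists_minimalPrimes_le (I := ⊥) (J := p) bot_le
  haveI hp₀prime : p₀.IsPrime := hp₀.1.1
  have h0 : p₀ < p := lt_of_le_of_ne hp₀le (fun h => hnotmin (h ▸ hp₀))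
  have e0 := Ideal.height_strict_mono_of_isPrime_of_isPrime h0
  have e1 := Ideal.height_strict_mono_of_isPrime_of_isPrime h1
  have e2 := Ideal.height_strict_mono_of_isPrime_of_isPrime h2
  have hm : (maximalIdeal A).height ≤ ((2 : ℕ) : ℕ∞) := by
    have h := IsLocalRing.maximalIdeal_height_eq_ringKrullDim (R := A)
    rw [hA] at h
    have h' : ((maximalIdeal A).height : WithBot ℕ∞) ≤ (((2 : ℕ) : ℕ∞) : WithBot ℕ∞) := by
      rw [h]; exact le_of_eq (by first | rfl | norm_cast | simp)
    exact WithBot.coe_le_coe.mp h'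
  have e0' := Order.add_one_le_of_lt e0
  have e1' := Order.add_one_le_of_lt e1
  have e2' := Order.add_one_le_of_lt e2
  have h3 : ((3 : ℕ) : ℕ∞) ≤ ((2 : ℕ) : ℕ∞) := by
    calc ((3 : ℕ) : ℕ∞) = 0 + 1 + 1 + 1 := by norm_num
      _ ≤ p₀.height + 1 + 1 + 1 := by gcongr; exact zero_le
      _ ≤ p.height + 1 + 1 := by gcongr
      _ ≤ p'.height + 1 := by gcongr
      _ ≤ (maximalIdeal A).height := e2'
      _ ≤ _ := hm
  exact absurd (Nat.cast_le.mp h3) (by norm_num)

end primes

section main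

variable {A : Type u} [CommRing A] [IsNoetherianRing A] [IsLocalRing A]
  (t : A) {ι : Type} [Fintype ι] [DecidableEq ι] (q : ι → Ideal A) [hq : ∀ i, (q i).IsPrime]
  (B : ι → Type u) [∀ i, CommRing (B i)] [∀ i, Algebra A (B i)]
  [∀ i, Algebra (Localization.AtPrime (q i)) (B i)]
  [∀ i, IsScalarTower A (Localization.AtPrime (q i)) (B i)]

/-- `A_{q_i}`. -/
abbrev Lq (q : ι → Ideal A) [∀ i, (q i).IsPrime] (i : ι) : Type u := Localization.AtPrime (q i)

/-- the hypotheses bundle. -/
structure Hyp (n : ℕ) : Prop where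
  hA : ringKrullDim A = 2
  htnz : t ∈ nonZeroDivisors A
  hinj : Function.Injective q
  hqm : ∀ i, q i ≠ maximalIdeal A
  htq : ∀ i, t ∈ q i
  hV : ∀ p : Ideal A, p.IsPrime → t ∈ p → p = maximalIdeal A ∨ ∃ i, p = q i
  hinjL : ∀ i, Function.Injective (algebraMap (Lq q i) (B i))
  hBn : ∀ i (b : B i), ∃ l : Lq q i,
    algebraMap (Lq q i) (B i) l = algebraMap A (B i) t ^ n * b
  hreg : ∀ i (b : B i), algebraMap A (B i) t * b = 0 → b = 0

variable {t q B} {n : ℕ}

theorem Hyp.not_le (H : Hyp t q B n) {j k : ι} (hjk : j ≠ k) : ¬ q j ≤ q k :=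
  not_le_of_ne H.hA H.htnz (H.htq j) (H.hqm k) (fun h => hjk (H.hinj h))

theorem Hyp.rad (H : Hyp t q B n) (j : ι) {a : A} (ha : a ∈ q j) :
    ∃ (N : ℕ) (l : Lq q j),
      algebraMap A (Lq q j) (a ^ N) = algebraMap A (Lq q j) t ^ n * l := by
  have hmem : algebraMap A (Lq q j) a ∈
      (Ideal.span {algebraMap A (Lq q j) t ^ n}).radical := by
    rw [Ideal.radical_eq_sInf]
    refine Ideal.mem_sInf.mpr ?_
    rintro P ⟨hle, hP⟩
    have htP : algebraMap A (Lq q j) t ∈ P :=
      hP.mem_of_pow_mem n (hle (Ideal.subset_span rfl))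
    have hpP : (P.comap (algebraMap A (Lq q j))).IsPrime := Ideal.comap_isPrime _ P
    have hple : P.comap (algebraMap A (Lq q j)) ≤ q j := by
      have := Ideal.comap_mono (f := algebraMap A (Lq q j))
        (IsLocalRing.le_maximalIdeal hP.ne_top)
      rwa [show (maximalIdeal (Lq q j)).comap (algebraMap A (Lq q j)) = q j from
        Localization.AtPrime.under_maximalIdeal] at this
    rcases H.hV _ hpP htP with h | ⟨k, hk⟩
    · exfalso
      rw [h] at hple
      exact H.hqm j (le_antisymm (IsLocalRing.le_maximalIdeal (hq j).ne_top) hple)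
    · have hkj : k = j := by
        by_contra hne
        rw [hk] at hple
        exact H.not_le hne hple
      rw [hkj] at hk
      show a ∈ P.comap (algebraMap A (Lq q j))
      rw [hk]; exact ha
  obtain ⟨N, hN⟩ := Ideal.mem_radical_iff.mp hmem
  obtain ⟨l, hl⟩ := Ideal.mem_span_singleton'.mp hN
  exact ⟨N, l, by rw [map_pow, ← hl, mul_comm]⟩

theorem Hyp.exists_w (H : Hyp t q B n) (i : ι) :
    ∃ w : A, w ∉ q i ∧ ∀ j, j ≠ i →
      ∃ l : Lq q j, algebraMap A (Lq q j) w = algebraMap A (Lq q j) t ^ n * l := by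
  have h1 : ∀ j, ∃ (s : A) (N : ℕ) (l : Lq q j), s ∉ q i ∧
      (j ≠ i → algebraMap A (Lq q j) (s ^ N) = algebraMap A (Lq q j) t ^ n * l) := by
    intro j
    by_cases hji : j = i
    · exact ⟨1, 0, 0, (Ideal.ne_top_iff_one _).mp (hq i).ne_top, fun h => absurd hji h⟩
    · obtain ⟨s, hsj, hsi⟩ := SetLike.not_le_iff_exists.mp (H.not_le hji)
      obtain ⟨N, l, hl⟩ := H.rad j hsj
      exact ⟨s, N, l, hsi, fun _ => hl⟩
  choose s N l hs hl using h1
  refine ⟨∏ j, s j ^ N j, ?_, fun j hji => ?_⟩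
  · intro hmem
    obtain ⟨j, -, hj⟩ := Ideal.IsPrime.prod_mem_iff.mp hmem
    exact hs j ((hq i).mem_of_pow_mem _ hj)
  · obtain ⟨d, hd⟩ := Finset.dvd_prod_of_mem (fun j => s j ^ N j) (Finset.mem_univ j)
    refine ⟨l j * algebraMap A (Lq q j) d, ?_⟩
    rw [hd, map_mul, hl j hji, mul_assoc]

theorem Hyp.exists_smul_mem (H : Hyp t q B n) (i : ι) {x : T t} (hx : x ∈ M t B (n + n)) :
    ∃ s : A, s ∉ q i ∧ s • x ∈ M t B n := by
  have hx' := hx
  obtain ⟨⟨a, ha⟩, hx2⟩ := hx
  obtain ⟨b, hb⟩ := hx2 i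
  have hinjE := injective_algE t B i (H.hreg i)
  have h1 : algebraMap A (B i) a = algebraMap A (B i) t ^ (n + n) * b :=
    eq_of_psi t B hinjE ha hb
  obtain ⟨l, hl⟩ := H.hBn i b
  obtain ⟨⟨a₁, s₁⟩, hs₁⟩ := IsLocalization.surj (q i).primeCompl l
  dsimp only at hs₁
  have h2 : algebraMap A (Lq q i) a = algebraMap A (Lq q i) t ^ n * l := by
    apply H.hinjL i
    rw [← IsScalarTower.algebraMap_apply, map_mul, map_pow, ← IsScalarTower.algebraMap_apply,
      hl, h1, pow_add, mul_assoc]
  have h3 : algebraMap A (Lq q i) (a * s₁) = algebraMap A (Lq q i) (t ^ n * a₁) := by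
    rw [map_mul, map_mul, map_pow, h2, ← hs₁]; ring
  obtain ⟨c, hc⟩ := (IsLocalization.eq_iff_exists (q i).primeCompl (Lq q i)).mp h3
  refine ⟨(c : A) * (s₁ : A), (q i).primeCompl.mul_mem c.2 s₁.2, ?_⟩
  refine M_of_cond t B ((M t B (n + n)).smul_mem _ hx') ⟨(c : A) * a₁, ?_⟩
  apply (isUnit_t t n).mul_left_cancel
  have e1 := congrArg (algebraMap A (T t)) hc
  simp only [map_mul, map_pow] at e1
  simp only [Algebra.smul_def, map_mul]
  linear_combination (-1 : T t) * e1 +
    (algebraMap A (T t) c * algebraMap A (T t) s₁) * ha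

theorem Hyp.exists_pow (H : Hyp t q B n) :
    ∃ c : ℕ, ∀ v ∈ maximalIdeal A ^ c, ∀ z ∈ M t B (n + n), v • z ∈ M t B n := by
  obtain ⟨𝔞, hmem⟩ : ∃ 𝔞 : Ideal A, ∀ v, v ∈ 𝔞 ↔ ∀ z ∈ M t B (n + n), v • z ∈ M t B n :=
    ⟨(M t B n).colon (M t B (n + n) : Set (T t)), fun v => Submodule.mem_colon⟩
  have htn : t ^ n ∈ 𝔞 := by
    rw [hmem]
    intro z hz
    refine M_of_cond t B ((M t B (n + n)).smul_mem _ hz) ?_
    obtain ⟨⟨a, ha⟩, -⟩ := hz
    exact ⟨a, by rw [ha, Algebra.smul_def, map_pow, pow_add, mul_assoc]⟩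
  have hnot : ∀ i, ¬ 𝔞 ≤ q i := by
    intro i hle
    obtain ⟨S, hS⟩ := M_fg t B (n + n)
    have h1 : ∀ x : T t, ∃ s : A, s ∉ q i ∧ (x ∈ M t B (n + n) → s • x ∈ M t B n) := by
      intro x
      by_cases hx : x ∈ M t B (n + n)
      · obtain ⟨s, hs, hsx⟩ := H.exists_smul_mem i hx
        exact ⟨s, hs, fun _ => hsx⟩
      · exact ⟨1, (Ideal.ne_top_iff_one _).mp (hq i).ne_top, fun h => absurd h hx⟩
    choose s hs hsx using h1
    have hw : (∏ x ∈ S, s x) ∈ 𝔞 := by
      rw [hmem]
      have hle' : M t B (n + n) ≤ Submodule.comap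
          ((∏ x ∈ S, s x) • (LinearMap.id : T t →ₗ[A] T t)) (M t B n) := by
        rw [← hS, Submodule.span_le]
        intro x hx
        have hxM : x ∈ M t B (n + n) := by rw [← hS]; exact Submodule.subset_span hx
        obtain ⟨d, hd⟩ := Finset.dvd_prod_of_mem s (Finset.mem_coe.mp hx)
        show ((∏ x ∈ S, s x) • (LinearMap.id : T t →ₗ[A] T t)) x ∈ M t B n
        rw [LinearMap.smul_apply, LinearMap.id_apply, hd, mul_comm, mul_smul]
        exact (M t B n).smul_mem d (hsx x hxM)
      exact fun z hz => hle' hz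
    have := hle hw
    obtain ⟨x, -, hx⟩ := Ideal.IsPrime.prod_mem_iff.mp this
    exact hs x hx
  have hrad : maximalIdeal A ≤ 𝔞.radical := by
    rw [Ideal.radical_eq_sInf]
    refine le_sInf ?_
    rintro P ⟨hle, hP⟩
    have htP : t ∈ P := hP.mem_of_pow_mem n (hle htn)
    rcases H.hV P hP htP with h | ⟨i, hi⟩
    · exact h.ge
    · exact absurd (hi ▸ hle) (hnot i)
  obtain ⟨c, hc⟩ := Ideal.exists_pow_le_of_le_radical_of_fg hrad (IsNoetherian.noetherian _)
  exact ⟨c, fun v hv => (hmem v).mp (hc hv)⟩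

/-- the module `𝔪^{c+1} M_n`. -/
abbrev Jmod (t : A) (B : ι → Type u) [∀ i, CommRing (B i)] [∀ i, Algebra A (B i)] (c n : ℕ) :
    Submodule A (T t) := (maximalIdeal A ^ (c + 1)) • M t B n

theorem Jmod_mul_le {c : ℕ}
    (hc : ∀ v ∈ maximalIdeal A ^ c, ∀ z ∈ M t B (n + n), v • z ∈ M t B n) :
    Jmod t B c n * Jmod t B c n ≤ Jmod t B c n := by
  rw [Submodule.mul_le]
  intro y hy y' hy'
  refine Submodule.smul_induction_on hy (fun r hr x hx => ?_) (fun y1 y2 h1 h2 => ?_)
  · refine Submodule.smul_induction_on hy' (fun r' hr' x' hx' => ?_) (fun y1 y2 h1 h2 => ?_)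
    · rw [smul_mul_smul_comm]
      have hrr : r * r' ∈ maximalIdeal A ^ (c + 2) • maximalIdeal A ^ c := by
        have : r * r' ∈ maximalIdeal A ^ (c + 1) * maximalIdeal A ^ (c + 1) :=
          Ideal.mul_mem_mul hr hr'
        rw [← pow_add, show c + 1 + (c + 1) = (c + 2) + c by omega, pow_add] at this
        rw [Ideal.smul_eq_mul]
        exact this
      have hxx : x * x' ∈ M t B (n + n) := mul_mem_M t B hx hx'
      refine Submodule.smul_induction_on hrr (fun u hu v hv => ?_) (fun w1 w2 h1 h2 => ?_)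
      · rw [smul_eq_mul, mul_smul]
        exact Submodule.smul_mem_smul (Ideal.pow_le_pow_right (by omega) hu) (hc v hv _ hxx)
      · rw [add_smul]; exact (Jmod t B c n).add_mem h1 h2
    · rw [mul_add]; exact (Jmod t B c n).add_mem h1 h2
  · rw [add_mul]; exact (Jmod t B c n).add_mem h1 h2

theorem main (H : Hyp t q B n) :
    ∃ (C : Subalgebra A (T t)),
      CycAlg.IsFinExt A C (Ideal.span {t}) ∧
      ∀ i, Nonempty (TensorProduct A (Localization.AtPrime (q i)) C ≃ₐ[Localization.AtPrime (q i)] B i) := by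
  obtain ⟨c, hc⟩ := H.exists_pow
  have hJM : Jmod t B c n ≤ M t B n :=
    Submodule.smul_le.mpr (fun r _ x hx => (M t B n).smul_mem r hx)
  have h1M : (1 : Submodule A (T t)) ≤ M t B n := by
    intro x hx
    obtain ⟨a, rfl⟩ := Submodule.mem_one.mp hx
    exact algebraMap_mem_M t B n a
  have hJJ := Jmod_mul_le hc
  have hmul : ∀ x y, x ∈ (1 : Submodule A (T t)) ⊔ Jmod t B c n →
      y ∈ (1 : Submodule A (T t)) ⊔ Jmod t B c n →
      x * y ∈ (1 : Submodule A (T t)) ⊔ Jmod t B c n := by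
    intro x y hx hy
    have : ((1 : Submodule A (T t)) ⊔ Jmod t B c n) * (1 ⊔ Jmod t B c n) ≤
        1 ⊔ Jmod t B c n := by
      rw [Submodule.sup_mul, one_mul, Submodule.mul_sup, mul_one]
      exact sup_le le_rfl (sup_le le_sup_right (hJJ.trans le_sup_right))
    exact this (Submodule.mul_mem_mul hx hy)
  have hone : (1 : T t) ∈ (1 : Submodule A (T t)) ⊔ Jmod t B c n :=
    Submodule.mem_sup_left (Submodule.mem_one.mpr ⟨1, map_one _⟩)
  obtain ⟨C, hC⟩ : ∃ C : Subalgebra A (T t),
      ∀ x, x ∈ C ↔ x ∈ (1 : Submodule A (T t)) ⊔ Jmod t B c n :=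
    ⟨Submodule.toSubalgebra _ hone hmul, fun x => Submodule.mem_toSubalgebra⟩
  have hCM : ∀ x ∈ C, x ∈ M t B n := fun x hx => sup_le h1M hJM ((hC x).mp hx)
  have hJC : ∀ x ∈ Jmod t B c n, x ∈ C := fun x hx => (hC x).mpr (Submodule.mem_sup_right hx)
  refine ⟨C, ⟨?_, ?_, ?_⟩, fun i => ?_⟩
  · intro a a' h
    exact injective_algT t H.htnz (congrArg Subtype.val h)
  · haveI : IsNoetherian A ↥(Submodule.span A {(IsLocalization.Away.invSelf t : T t) ^ n}) :=
      isNoetherian_span_of_finite A (Set.finite_singleton _)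
    have hle : Subalgebra.toSubmodule C ≤
        Submodule.span A {(IsLocalization.Away.invSelf t : T t) ^ n} :=
      fun x hx => M_le_span t B n (hCM x hx)
    haveI : IsNoetherian A ↥(Subalgebra.toSubmodule C) := isNoetherian_of_le hle
    exact Module.Finite.equiv (Subalgebra.toSubmoduleEquiv C)
  · refine ⟨n, fun r hr b => ?_⟩
    rw [Ideal.span_singleton_pow, Ideal.mem_span_singleton'] at hr
    obtain ⟨d, rfl⟩ := hr
    obtain ⟨⟨a, ha⟩, -⟩ := hCM b.1 b.2
    refine RingHom.mem_range.mpr ⟨d * a, Subtype.ext ?_⟩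
    show algebraMap A (T t) (d * a) = (d * t ^ n) • (b : T t)
    rw [Algebra.smul_def, map_mul, map_mul, map_pow, ha]; ring
  · have hinjE := injective_algE t B i (H.hreg i)
    obtain ⟨σ, hσ⟩ := exists_sig t B i hinjE C (fun x hx => (hCM x hx).2 i)
    haveI : IsLocalizedModule (q i).primeCompl σ.toLinearMap := by
      refine ⟨?_, ?_, ?_⟩
      · intro s
        rw [Module.End.isUnit_iff]
        obtain ⟨u, hu⟩ := IsLocalization.map_units (Lq q i) s
        have hsm : ∀ b : B i, (algebraMap A (Module.End A (B i)) s) b = (u : Lq q i) • b := by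
          intro b
          rw [Module.algebraMap_end_apply, hu, algebraMap_smul]
        constructor
        · intro b b' hbb
          rw [hsm, hsm] at hbb
          have := congrArg (fun z => (↑u⁻¹ : Lq q i) • z) hbb
          simpa [smul_smul] using this
        · intro b
          refine ⟨(↑u⁻¹ : Lq q i) • b, ?_⟩
          rw [hsm, smul_smul, Units.mul_inv, one_smul]
      · intro b
        obtain ⟨l, hl⟩ := H.hBn i b
        obtain ⟨⟨a₁, s₁⟩, hs₁⟩ := IsLocalization.surj (q i).primeCompl l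
        dsimp only at hs₁
        obtain ⟨w, hwi, hw⟩ := H.exists_w i
        obtain ⟨e, hem, hei⟩ : ∃ e ∈ maximalIdeal A, e ∉ q i := by
          by_contra hcon
          push_neg at hcon
          exact H.hqm i (le_antisymm (IsLocalRing.le_maximalIdeal (hq i).ne_top) hcon)
        have hut : algebraMap A (T t) t * (IsLocalization.Away.invSelf t : T t) = 1 :=
          IsLocalization.Away.mul_invSelf t
        have hutn : algebraMap A (T t) t ^ n * (IsLocalization.Away.invSelf t : T t) ^ n = 1 := by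
          rw [← mul_pow, hut, one_pow]
        obtain ⟨x₀, hx₀⟩ : ∃ x₀ : T t,
            x₀ = algebraMap A (T t) (w * a₁) * (IsLocalization.Away.invSelf t : T t) ^ n := ⟨_, rfl⟩
        have hx₀a : algebraMap A (T t) (w * a₁) = algebraMap A (T t) t ^ n * x₀ := by
          rw [hx₀]; linear_combination (-(algebraMap A (T t) (w * a₁))) * hutn
        have hia₁ : algebraMap A (B i) a₁ =
            algebraMap A (B i) t ^ n * (algebraMap A (B i) s₁ * b) := by
          have := congrArg (algebraMap (Lq q i) (B i)) hs₁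
          rw [map_mul, ← IsScalarTower.algebraMap_apply, ← IsScalarTower.algebraMap_apply, hl]
            at this
          rw [← this]; ring
        have hx₀M : x₀ ∈ M t B n := by
          refine ⟨⟨w * a₁, hx₀a⟩, fun j => ?_⟩
          by_cases hji : j = i
          · rw [hji]
            exact ⟨algebraMap A (B i) w * (algebraMap A (B i) s₁ * b),
              psi_eq_of t B hx₀a (by rw [map_mul, hia₁]; ring)⟩
          · obtain ⟨lj, hlj⟩ := hw j hji
            refine ⟨algebraMap (Lq q j) (B j) lj * algebraMap A (B j) a₁,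
              psi_eq_of t B hx₀a ?_⟩
            have := congrArg (algebraMap (Lq q j) (B j)) hlj
            rw [← IsScalarTower.algebraMap_apply, map_mul, map_pow,
              ← IsScalarTower.algebraMap_apply] at this
            rw [map_mul, this]; ring
        have hcJ : e ^ (c + 1) • x₀ ∈ Jmod t B c n :=
          Submodule.smul_mem_smul (Ideal.pow_mem_pow hem _) hx₀M
        refine ⟨(⟨e ^ (c + 1) • x₀, hJC _ hcJ⟩, ⟨e ^ (c + 1) * w * s₁, ?_⟩), ?_⟩
        · exact (q i).primeCompl.mul_mem ((q i).primeCompl.mul_mem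
            ((q i).primeCompl.pow_mem hei _) hwi) s₁.2
        · apply hinjE
          show algebraMap (B i) (E t B i) ((e ^ (c + 1) * w * s₁ : A) • b) =
            algebraMap (B i) (E t B i) (σ ⟨e ^ (c + 1) • x₀, hJC _ hcJ⟩)
          rw [hσ]
          refine psi_eq_of t B (k := n) (a := e ^ (c + 1) * (w * a₁)) (x := e ^ (c + 1) • x₀) ?_ ?_
          · rw [map_mul, hx₀a, Algebra.smul_def]; ring
          · simp only [Algebra.smul_def, map_mul, hia₁]; ring
      · intro c₁ c₂ h12
        have h0 : σ (c₁ - c₂) = 0 := by rw [map_sub]; exact sub_eq_zero.mpr h12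
        obtain ⟨⟨a, ha⟩, -⟩ := hCM (c₁ - c₂ : C).1 (c₁ - c₂ : C).2
        have hpsi0 : psi t B i (c₁ - c₂ : C).1 = 0 := by rw [← hσ, h0, map_zero]
        have hia : algebraMap A (B i) a = 0 := by
          apply hinjE
          have h1 := congrArg (psi t B i) ha
          rw [psi_algebraMap, map_mul, hpsi0, mul_zero] at h1
          rw [h1, map_zero]
        have hLa : algebraMap A (Lq q i) a = 0 := by
          apply H.hinjL i
          rw [← IsScalarTower.algebraMap_apply, hia, map_zero]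
        obtain ⟨s, hs⟩ := (IsLocalization.map_eq_zero_iff (q i).primeCompl (Lq q i) a).mp hLa
        refine ⟨s, ?_⟩
        have hz : (s : A) • (c₁ - c₂ : C) = 0 := by
          apply Subtype.ext
          show (s : A) • ((c₁ - c₂ : C) : T t) = 0
          apply (isUnit_t t n).mul_left_cancel
          rw [mul_zero, Algebra.smul_def, mul_left_comm, ← ha, ← map_mul, hs, map_zero]
        have h3 : (s : A) • c₁ - (s : A) • c₂ = 0 := by rw [← smul_sub]; exact hz
        exact sub_eq_zero.mp h3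
    have hbc : IsBaseChange (Lq q i) σ.toLinearMap :=
      IsLocalizedModule.isBaseChange (q i).primeCompl (Lq q i) σ.toLinearMap
    obtain ⟨Φ, hΦt⟩ : ∃ Φ : TensorProduct A (Lq q i) C →ₐ[Lq q i] B i,
        ∀ l x, Φ (l ⊗ₜ x) = algebraMap (Lq q i) (B i) l * σ x :=
      ⟨Algebra.TensorProduct.lift (Algebra.ofId (Lq q i) (B i)) σ (fun _ _ => Commute.all _ _),
        fun l x => Algebra.TensorProduct.lift_tmul _ _ _ _ _⟩
    have hΦ : ∀ z, Φ z = hbc.equiv z := by
      intro z
      induction z using TensorProduct.induction_on with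
      | zero => simp
      | tmul l x =>
        rw [hΦt, IsBaseChange.equiv_tmul, Algebra.smul_def]; rfl
      | add z w hz hw => rw [map_add, map_add, hz, hw]
    exact ⟨AlgEquiv.ofBijective Φ
      ⟨fun z w h => hbc.equiv.injective (by rw [← hΦ, ← hΦ, h]),
        fun b => ⟨hbc.equiv.symm b, by rw [hΦ]; simp⟩⟩⟩

end main

end Groth.Agent.Lib.Helper4.GlueHtOne
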