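import Mathlib
import Groth.Agent.Lib.Helper4.GorTop

/-!
# `Ext` from torsion modules into a module with a single injective local cohomology (helper4)

If `H^q_J(G) = 0` for `q ≠ d` and `H^d_J(G)` is injective, then `Ext^i(F, G) = 0` for `i > d` and
every `J`-power torsion module `F`.
-/

set_option autoImplicit false
set_option linter.style.haveILetI false
set_option linter.unusedSectionVars false
set_option linter.unusedVariables false
set_option maxHeartbeats 800000

open CategoryTheory Limits Opposite Abelian IsLocalRing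

universe u

namespace Groth.Agent.Lib.Helper4.LC

open Groth.Agent.Lib.Helper4

section acyclic

variable {R : Type u} [CommRing R] [IsNoetherianRing R] (J : Ideal R)

/-- if all local cohomology of `G` vanishes, `Ext` from a torsion module into `G` vanishes. -/
theorem ext_subsingleton_of_HH_subsingleton (F : Type u) [AddCommGroup F] [Module R F]
    (hF : LocCoh.IsPowerTorsion J F) :
    ∀ (i : ℕ) (G : Type u) [AddCommGroup G] [Module R G],
      (∀ q, Subsingleton (HH J (ModuleCat.of R G) q)) →
      Subsingleton (Ext.{u} (ModuleCat.of R F) (ModuleCat.of R G) i) := by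
  intro i
  induction i with
  | zero =>
    intro G _ _ h
    exact ext_zero_subsingleton_of_isPowerTorsion J hF
      ((HH0_subsingleton_iff J (ModuleCat.of R G)).1 (h 0))
  | succ i ih =>
    intro G _ _ h
    have hG : DRing.torsionSub J G = ⊥ := (HH0_subsingleton_iff J (ModuleCat.of R G)).1 (h 0)
    obtain ⟨E, C, _, _, _, _, f, g, hf, hg, hfg, hEinj, hEtf⟩ :=
      exists_torsionFree_injective_ses J G hG
    have hS : (sesOf f g hfg).ShortExact := sesOf_shortExact f g hfg hf hg
    haveI hinj : CategoryTheory.Injective (sesOf f g hfg).X₂ :=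
      Module.injective_object_of_injective_module R E
    have hC : ∀ q, Subsingleton (HH J (ModuleCat.of R C) q) := by
      intro q
      have h2 : Subsingleton (HH J (sesOf f g hfg).X₂ q) := by
        cases q with
        | zero => exact (HH0_subsingleton_iff J (sesOf f g hfg).X₂).2 hEtf
        | succ q => exact HH.subsingleton_of_injective J _ q
      exact HH.subsingleton_X₃ J hS q h2 (h (q + 1))
    have hExtC : Subsingleton (Ext.{u} (ModuleCat.of R F) (sesOf f g hfg).X₃ i) := ih C hC
    refine ⟨fun a b => ?_⟩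
    have key : ∀ x₁ : Ext.{u} (ModuleCat.of R F) (sesOf f g hfg).X₁ (i + 1), x₁ = 0 := by
      intro x₁
      have h0 : x₁.comp (Ext.mk₀ (sesOf f g hfg).f) (add_zero (i + 1)) = 0 :=
        Ext.eq_zero_of_injective _
      obtain ⟨x₃, hx₃⟩ := Ext.covariant_sequence_exact₁ (ModuleCat.of R F) hS x₁ h0 rfl
      rw [← hx₃, Subsingleton.elim x₃ 0, Ext.zero_comp]
    exact (key a).trans (key b).symm

/-- if `H^q_J(G) = 0` for `q ≠ d` and `H^d_J(G)` is injective then `Ext^i(F, G) = 0` for `i > d`
and `F` power torsion. -/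
theorem ext_subsingleton_of_HH_single (F : Type u) [AddCommGroup F] [Module R F]
    (hF : LocCoh.IsPowerTorsion J F) :
    ∀ (d : ℕ) (G : Type u) [AddCommGroup G] [Module R G],
      (∀ q, q ≠ d → Subsingleton (HH J (ModuleCat.of R G) q)) →
      Module.Injective R (HH J (ModuleCat.of R G) d) →
      ∀ i, d < i → Subsingleton (Ext.{u} (ModuleCat.of R F) (ModuleCat.of R G) i) := by
  intro d
  induction d with
  | zero =>
    intro G _ _ hv hinj i hi
    have hS := Groth.Agent.Lib.Helper20.LCFinite.torSES_shortExact J G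
    haveI hT : Module.Injective R (DRing.torsionSub J G) :=
      Groth.Agent.Lib.Helper1.InjHullLib.injective_of_linearEquiv (HH0Equiv J (ModuleCat.of R G))
    haveI hT' : CategoryTheory.Injective (Groth.Agent.Lib.Helper20.LCFinite.torSES J G).X₁ :=
      Module.injective_object_of_injective_module R (DRing.torsionSub J G)
    have hG' : ∀ q, Subsingleton (HH J (ModuleCat.of R (G ⧸ DRing.torsionSub J G)) q) := by
      intro q
      cases q with
      | zero => exact Groth.Agent.Lib.Helper20.LCFinite.subsingleton_HH_zero_quot J G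
      | succ q =>
        haveI := hv (q + 1) (Nat.succ_ne_zero q)
        exact (Groth.Agent.Lib.Helper20.LCFinite.quotEquiv J G q).symm.toEquiv.subsingleton
    obtain ⟨i', rfl⟩ : ∃ i', i = i' + 1 := ⟨i - 1, by omega⟩
    have hExt' : Subsingleton (Ext.{u} (ModuleCat.of R F)
        (Groth.Agent.Lib.Helper20.LCFinite.torSES J G).X₃ (i' + 1)) :=
      ext_subsingleton_of_HH_subsingleton J F hF (i' + 1) (G ⧸ DRing.torsionSub J G) hG'
    refine ⟨fun a b => ?_⟩
    have key : ∀ x₂ : Ext.{u} (ModuleCat.of R F)
        (Groth.Agent.Lib.Helper20.LCFinite.torSES J G).X₂ (i' + 1), x₂ = 0 := by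
      intro x₂
      obtain ⟨x₁, hx₁⟩ := Ext.covariant_sequence_exact₂ (ModuleCat.of R F) hS x₂
        (Subsingleton.elim _ _)
      rw [← hx₁, Ext.eq_zero_of_injective x₁, Ext.zero_comp]
    exact (key a).trans (key b).symm
  | succ d ih =>
    intro G _ _ hv hinj i hi
    have hG : DRing.torsionSub J G = ⊥ :=
      (HH0_subsingleton_iff J (ModuleCat.of R G)).1 (hv 0 (Nat.succ_ne_zero d).symm)
    obtain ⟨E, C, _, _, _, _, f, g, hf, hg, hfg, hEinj, hEtf⟩ :=
      exists_torsionFree_injective_ses J G hG
    have hS : (sesOf f g hfg).ShortExact := sesOf_shortExact f g hfg hf hg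
    haveI hinjE : CategoryTheory.Injective (sesOf f g hfg).X₂ :=
      Module.injective_object_of_injective_module R E
    have h2 : ∀ q, Subsingleton (HH J (sesOf f g hfg).X₂ q) := by
      intro q
      cases q with
      | zero => exact (HH0_subsingleton_iff J (sesOf f g hfg).X₂).2 hEtf
      | succ q => exact HH.subsingleton_of_injective J _ q
    have hδ : ∀ q, Function.Bijective (HH.δ J hS q) := fun q =>
      ⟨HH.δ_injective J hS q (h2 q), HH.δ_surjective J hS q (h2 (q + 1))⟩
    have hCv : ∀ q, q ≠ d → Subsingleton (HH J (ModuleCat.of R C) q) := by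
      intro q hq
      haveI : Subsingleton (HH J (sesOf f g hfg).X₁ (q + 1)) := hv (q + 1) (by omega)
      exact (hδ q).1.subsingleton
    haveI hinj' : Module.Injective R (HH J (sesOf f g hfg).X₁ (d + 1)) := hinj
    have hCinj : Module.Injective R (HH J (ModuleCat.of R C) d) :=
      Groth.Agent.Lib.Helper1.InjHullLib.injective_of_linearEquiv
        (LinearEquiv.ofBijective (HH.δ J hS d) (hδ d)).symm
    obtain ⟨i', rfl⟩ : ∃ i', i = i' + 1 := ⟨i - 1, by omega⟩
    have hExtC : Subsingleton (Ext.{u} (ModuleCat.of R F) (sesOf f g hfg).X₃ i') :=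
      ih C hCv hCinj i' (by omega)
    refine ⟨fun a b => ?_⟩
    have key : ∀ x₁ : Ext.{u} (ModuleCat.of R F) (sesOf f g hfg).X₁ (i' + 1), x₁ = 0 := by
      intro x₁
      have h0 : x₁.comp (Ext.mk₀ (sesOf f g hfg).f) (add_zero (i' + 1)) = 0 :=
        Ext.eq_zero_of_injective _
      obtain ⟨x₃, hx₃⟩ := Ext.covariant_sequence_exact₁ (ModuleCat.of R F) hS x₁ h0 rfl
      rw [← hx₃, Subsingleton.elim x₃ 0, Ext.zero_comp]
    exact (key a).trans (key b).symm

end acyclic

end Groth.Agent.Lib.Helper4.LC
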