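import Mathlib
import Groth.Prelude
import Groth.Agent.Lib.Helper23.T2A

/-!
# `H⁰(Y, O_Y)` has positive dimension for an integral proper scheme over a field

Sub-lemma (D2) requested by helper7 for S3322.
-/

set_option autoImplicit false
set_option linter.unusedSectionVars false
set_option linter.unusedVariables false
set_option linter.style.haveILetI false

universe u

open CategoryTheory CategoryTheory.Limits AlgebraicGeometry Opposite

namespace Groth.Agent.Lib.Helper4.H0Pos

open Groth.Agent.Lib.Helper23

theorem finrank_H0_pos (k : Type u) [Field k] (Y : Scheme.{u})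
    [Y.Over (Spec (CommRingCat.of k))] [IsProper (Y ↘ Spec (CommRingCat.of k))] [IsIntegral Y] :
    0 < Module.finrank k (Coh.HH Y (Coh.structureModule Y) 0) := by
  let f : Y ⟶ Spec (CommRingCat.of k) := Y ↘ Spec (CommRingCat.of k)
  let c : k →+* Γ(Y, ⊤) := (f.appTop).hom.comp (Scheme.ΓSpecIso (CommRingCat.of k)).inv.hom
  have hfin : c.Finite := by
    have h1 : (f.appTop).hom.Finite := finite_appTop_of_universallyClosed k f
    have h2 : ((Scheme.ΓSpecIso (CommRingCat.of k)).inv.hom).Finite :=
      RingHom.Finite.of_surjective _
        (ConcreteCategory.bijective_of_isIso (Scheme.ΓSpecIso (CommRingCat.of k)).inv).2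
    exact h1.comp h2
  letI : Algebra k Γ(Y, ⊤) := c.toAlgebra
  haveI : Module.Finite k Γ(Y, ⊤) := hfin
  let E := T2.H0equiv (Coh.structureModule Y)
  let e : Coh.HH Y (Coh.structureModule Y) 0 ≃ₗ[k] Γ(Y, ⊤) :=
    { toFun := fun x => E x
      invFun := fun y => E.symm y
      left_inv := fun x => E.symm_apply_apply x
      right_inv := fun y => E.apply_symm_apply y
      map_add' := fun x y => E.map_add x y
      map_smul' := fun a x => E.map_smul (Coh.toGlobal f a) x }
  rw [e.finrank_eq]
  exact Module.finrank_pos

end Groth.Agent.Lib.Helper4.H0Pos
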