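import Mathlib
import Groth.Prelude
import Groth.Agent.Lib.Helper23.T2A

/-!
# `H⁰(C, O_C)` is one-dimensional over `K` when `K → Γ(C, O_C)` is an isomorphism

Sub-lemma (B6) requested by helper7 for S3321.
-/

set_option autoImplicit false
set_option linter.unusedSectionVars false
set_option linter.unusedVariables false
set_option linter.style.haveILetI false

universe u

open CategoryTheory CategoryTheory.Limits AlgebraicGeometry Opposite

namespace Groth.Agent.Lib.Helper4.H0Rank

open Groth.Agent.Lib.Helper23

theorem finrank_H0_eq_one (K : Type u) [Field K] (C : Scheme.{u})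
    (f : C ⟶ Spec (CommRingCat.of K)) (hH0 : IsIso f.appTop) :
    letI : C.Over (Spec (CommRingCat.of K)) := ⟨f⟩
    Module.finrank K (Coh.HH C (Coh.structureModule C) 0) = 1 := by
  letI : C.Over (Spec (CommRingCat.of K)) := ⟨f⟩
  have hbij : Function.Bijective (Coh.toGlobal f) := by
    have h1 : Function.Bijective (f.appTop).hom := ConcreteCategory.bijective_of_isIso f.appTop
    have h2 : Function.Bijective (Scheme.ΓSpecIso (CommRingCat.of K)).inv.hom :=
      ConcreteCategory.bijective_of_isIso _
    exact h1.comp h2
  let E := T2.H0equiv (Coh.structureModule C)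
  let one' : T2.Γm (Coh.structureModule C) := (1 : Coh.Γtop C)
  let e : Coh.HH C (Coh.structureModule C) 0 := E.symm one'
  let φ : K →ₗ[K] Coh.HH C (Coh.structureModule C) 0 := LinearMap.toSpanSingleton K _ e
  have key : ∀ x : K, E (φ x) = (Coh.toGlobal f x : Coh.Γtop C) := by
    intro x
    have h0 : φ x = (Coh.toGlobal f x) • e := rfl
    rw [h0, map_smul, LinearEquiv.apply_symm_apply]
    exact mul_one (Coh.toGlobal f x : Coh.Γtop C)
  have hφ : Function.Bijective φ := by
    constructor
    · intro x y hxy
      apply hbij.1
      rw [← key, ← key, hxy]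
    · intro y
      obtain ⟨x, hx⟩ := hbij.2 (E y)
      exact ⟨x, E.injective ((key x).trans hx)⟩
  have h := (LinearEquiv.ofBijective φ hφ).finrank_eq
  rw [← h, Module.finrank_self]

end Groth.Agent.Lib.Helper4.H0Rank
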