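import Mathlib

/-!
# Higher double point: length and multiplicity witness (S19207)

General length inequalities for quotients by ideals, a toolkit for monomial computations in
`k[[x,y,t]] = MvPowerSeries (Fin 3) k`, and the final computation.
-/

set_option autoImplicit false
set_option linter.style.haveILetI false
set_option linter.unusedSectionVars false
set_option linter.unusedVariables false
set_option linter.unusedSimpArgs false
set_option maxHeartbeats 1600000
set_option maxSynthPendingDepth 3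

namespace Groth.Agent.Lib.Helper4.HDP

open Function IsLocalRing Module

universe u

/-! ## Part A: general length inequalities -/

section general

variable {A : Type*} [CommRing A]

theorem length_quot_anti {𝔞 𝔟 : Ideal A} (h : 𝔞 ≤ 𝔟) :
    Module.length A (A ⧸ 𝔟) ≤ Module.length A (A ⧸ 𝔞) := by
  refine Module.length_le_of_surjective
    (Submodule.mapQ 𝔞 𝔟 LinearMap.id (by intro x hx; exact h hx)) ?_
  intro y
  obtain ⟨r, rfl⟩ := Submodule.Quotient.mk_surjective _ y
  exact ⟨Submodule.Quotient.mk r, rfl⟩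

theorem length_quot_top : Module.length A (A ⧸ (⊤ : Ideal A)) = 0 := by
  haveI : Subsingleton (A ⧸ (⊤ : Ideal A)) := Ideal.Quotient.subsingleton_iff.mpr rfl
  exact Module.length_eq_zero

/-- If `c • 𝔟 ⊆ 𝔞` then `ℓ(A/𝔞) ≤ ℓ(A/𝔟) + ℓ(A/(𝔞 + (c)))`. -/
theorem length_quot_le_add (c : A) (𝔞 𝔟 : Ideal A) (h : ∀ x ∈ 𝔟, c * x ∈ 𝔞) :
    Module.length A (A ⧸ 𝔞) ≤
      Module.length A (A ⧸ 𝔟) + Module.length A (A ⧸ (𝔞 ⊔ Ideal.span {c})) := by
  let φ : (A ⧸ 𝔟) →ₗ[A] (A ⧸ 𝔞) := Submodule.mapQ 𝔟 𝔞 (LinearMap.mulLeft A c) (by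
    intro x hx
    exact h x hx)
  have hmem : ∀ r ∈ 𝔞 ⊔ Ideal.span {c}, (Submodule.Quotient.mk r : A ⧸ 𝔞) ∈ LinearMap.range φ := by
    intro r hr
    obtain ⟨u, hu, v, hv, rfl⟩ := Submodule.mem_sup.mp hr
    obtain ⟨w, rfl⟩ := Ideal.mem_span_singleton'.mp hv
    refine ⟨Submodule.Quotient.mk w, ?_⟩
    show (Submodule.Quotient.mk (c * w) : A ⧸ 𝔞) = Submodule.Quotient.mk (u + w * c)
    rw [Submodule.Quotient.eq]
    have : c * w - (u + w * c) = -u := by ring
    rw [this]
    exact 𝔞.neg_mem hu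
  have h1 := Module.length_eq_add_of_exact (LinearMap.range φ).subtype (LinearMap.range φ).mkQ
      (Submodule.subtype_injective _) (Submodule.mkQ_surjective _)
      (LinearMap.exact_subtype_mkQ _)
  have h2 : Module.length A (LinearMap.range φ) ≤ Module.length A (A ⧸ 𝔟) :=
    Module.length_le_of_surjective φ.rangeRestrict φ.surjective_rangeRestrict
  have h3 : Module.length A ((A ⧸ 𝔞) ⧸ LinearMap.range φ) ≤
      Module.length A (A ⧸ (𝔞 ⊔ Ideal.span {c})) := by
    let χ : (A ⧸ (𝔞 ⊔ Ideal.span {c})) →ₗ[A] ((A ⧸ 𝔞) ⧸ LinearMap.range φ) :=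
      Submodule.liftQ _ ((LinearMap.range φ).mkQ ∘ₗ Submodule.mkQ 𝔞) (by
        intro r hr
        rw [LinearMap.mem_ker, LinearMap.comp_apply, Submodule.mkQ_apply, Submodule.mkQ_apply,
          Submodule.Quotient.mk_eq_zero]
        exact hmem r hr)
    refine Module.length_le_of_surjective χ ?_
    intro y
    obtain ⟨z, rfl⟩ := Submodule.Quotient.mk_surjective _ y
    obtain ⟨r, rfl⟩ := Submodule.Quotient.mk_surjective _ z
    exact ⟨Submodule.Quotient.mk r, rfl⟩
  rw [h1]
  exact add_le_add h2 h3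

theorem length_quot_pow_le (a b : A) (K : ℕ∞)
    (hK : Module.length A (A ⧸ (Ideal.span {a} ⊔ Ideal.span {b})) ≤ K) (j : ℕ) :
    Module.length A (A ⧸ (Ideal.span {a} ⊔ Ideal.span {b ^ j})) ≤ j * K := by
  induction j with
  | zero =>
    have : (Ideal.span {a} ⊔ Ideal.span {b ^ 0} : Ideal A) = ⊤ := by
      rw [pow_zero, Ideal.span_singleton_one, sup_top_eq]
    rw [this, length_quot_top]
    exact zero_le
  | succ j ih =>
    have h := length_quot_le_add (b ^ j) (Ideal.span {a} ⊔ Ideal.span {b ^ (j + 1)})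
      (Ideal.span {a} ⊔ Ideal.span {b}) (by
        intro x hx
        obtain ⟨u, hu, v, hv, rfl⟩ := Submodule.mem_sup.mp hx
        obtain ⟨u', rfl⟩ := Ideal.mem_span_singleton'.mp hu
        obtain ⟨v', rfl⟩ := Ideal.mem_span_singleton'.mp hv
        have : b ^ j * (u' * a + v' * b) = (b ^ j * u') * a + v' * b ^ (j + 1) := by ring
        rw [this]
        exact Ideal.add_mem _
          (Ideal.mem_sup_left (Ideal.mul_mem_left _ _ (Ideal.subset_span rfl)))
          (Ideal.mem_sup_right (Ideal.mul_mem_left _ _ (Ideal.subset_span rfl))))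
    have e : (Ideal.span {a} ⊔ Ideal.span {b ^ (j + 1)}) ⊔ Ideal.span {b ^ j} =
        Ideal.span {a} ⊔ Ideal.span {b ^ j} := by
      apply le_antisymm
      · refine sup_le (sup_le le_sup_left ?_) le_sup_right
        rw [Ideal.span_singleton_le_iff_mem]
        apply Ideal.mem_sup_right
        rw [pow_succ]
        exact Ideal.mul_mem_right _ _ (Ideal.subset_span rfl)
      · exact sup_le (le_sup_of_le_left le_sup_left) le_sup_right
    rw [e] at h
    calc _ ≤ _ := h
      _ ≤ K + j * K := add_le_add hK ih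
      _ = ((j + 1 : ℕ) : ℕ∞) * K := by push_cast; ring

theorem length_quot_pow2_le (a b : A) (K : ℕ∞)
    (hK : Module.length A (A ⧸ (Ideal.span {a} ⊔ Ideal.span {b})) ≤ K) (m : ℕ) :
    Module.length A (A ⧸ (Ideal.span {a} ⊔ Ideal.span {b}) ^ m) ≤
      ((∑ i ∈ Finset.range (m + 1), i : ℕ) : ℕ∞) * K := by
  induction m with
  | zero =>
    rw [pow_zero, Ideal.one_eq_top, length_quot_top]
    exact zero_le
  | succ m ih =>
    obtain ⟨J, hJ⟩ : ∃ J : Ideal A, J = Ideal.span {a} ⊔ Ideal.span {b} := ⟨_, rfl⟩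
    rw [← hJ] at ih ⊢
    have h := length_quot_le_add a (J ^ (m + 1)) (J ^ m) (by
      intro x hx
      rw [pow_succ']
      exact Ideal.mul_mem_mul (hJ ▸ Ideal.mem_sup_left (Ideal.subset_span rfl)) hx)
    have h2 : Module.length A (A ⧸ (J ^ (m + 1) ⊔ Ideal.span {a})) ≤ ((m + 1 : ℕ) : ℕ∞) * K := by
      refine le_trans (length_quot_anti ?_) (length_quot_pow_le a b K hK (m + 1))
      refine sup_le le_sup_right (le_sup_of_le_left ?_)
      rw [Ideal.span_singleton_le_iff_mem]
      exact Ideal.pow_mem_pow (hJ ▸ Ideal.mem_sup_right (Ideal.subset_span rfl)) _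
    calc _ ≤ _ := h
      _ ≤ ((∑ i ∈ Finset.range (m + 1), i : ℕ) : ℕ∞) * K + ((m + 1 : ℕ) : ℕ∞) * K :=
        add_le_add ih h2
      _ = _ := by
        rw [Finset.sum_range_succ _ (m + 1)]
        push_cast
        ring

end general

end Groth.Agent.Lib.Helper4.HDP
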