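import Mathlib
import Groth.Agent.Lib.Helper4.HDP

/-!
# Monomial toolkit in `k[[x,y,t]]`
-/

set_option autoImplicit false
set_option linter.style.haveILetI false
set_option linter.unusedSectionVars false
set_option linter.unusedVariables false
set_option linter.unusedSimpArgs false
set_option maxHeartbeats 1600000
set_option maxSynthPendingDepth 3

namespace Groth.Agent.Lib.Helper4.HDP

open Function IsLocalRing Module MvPowerSeries

universe u

variable {k : Type u} [Field k]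

/-- The power series ring in three variables. -/
abbrev R3 (k : Type u) [Field k] := MvPowerSeries (Fin 3) k

/-! ### lengths over a local algebra with coefficient field -/

section lengths

variable {O : Type u} [CommRing O] [IsLocalRing O] [Algebra k O]

theorem isLocalHom_algebraMap_field : IsLocalHom (algebraMap k O) := by
  refine ⟨fun a ha => ?_⟩
  rw [isUnit_iff_ne_zero]
  rintro rfl
  rw [map_zero] at ha
  exact not_isUnit_zero ha

theorem length_eq_length_field
    (hres : Surjective ((IsLocalRing.residue O).comp (algebraMap k O)))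
    (M : Type*) [AddCommGroup M] [Module O M] [Module k M] [IsScalarTower k O M] :
    Module.length k M = Module.length O M := by
  haveI := isLocalHom_algebraMap_field (k := k) (O := O)
  have h := IsLocalRing.length_restrictScalars k O M
  have hsurj : Surjective (algebraMap (ResidueField k) (ResidueField O)) := by
    intro y
    obtain ⟨o, rfl⟩ := IsLocalRing.residue_surjective y
    obtain ⟨a, ha⟩ := hres (IsLocalRing.residue O o)
    refine ⟨IsLocalRing.residue k a, ?_⟩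
    rw [ResidueField.algebraMap_residue]
    exact ha
  have hone : Module.length (ResidueField k) (ResidueField O) = 1 := by
    let e : ResidueField k ≃ₗ[ResidueField k] ResidueField O :=
      LinearEquiv.ofBijective (Algebra.linearMap (ResidueField k) (ResidueField O))
        ⟨(algebraMap (ResidueField k) (ResidueField O)).injective, hsurj⟩
    rw [← e.length_eq]
    exact Module.length_eq_one_iff.mpr inferInstance
  rw [h, hone, mul_one]

end lengths

theorem hres : Surjective ((IsLocalRing.residue (R3 k)).comp (algebraMap k (R3 k))) := by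
  intro y
  obtain ⟨g, rfl⟩ := IsLocalRing.residue_surjective y
  refine ⟨MvPowerSeries.constantCoeff g, ?_⟩
  rw [RingHom.comp_apply]
  symm
  rw [← sub_eq_zero, ← map_sub, IsLocalRing.residue_eq_zero_iff, IsLocalRing.mem_maximalIdeal,
    mem_nonunits_iff, MvPowerSeries.isUnit_iff_constantCoeff]
  simp [MvPowerSeries.algebraMap_apply]

/-- transfer of lengths from the quotient ring to `k`-dimensions. -/
theorem transfer (𝔣 𝔟 : Ideal (R3 k)) :
    Module.length (R3 k ⧸ 𝔣) ((R3 k ⧸ 𝔣) ⧸ Ideal.map (Ideal.Quotient.mk 𝔣) 𝔟) =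
      Module.length k (R3 k ⧸ (𝔣 ⊔ 𝔟)) := by
  rw [← Module.length_eq_of_surjective (S := R3 k) (R := R3 k ⧸ 𝔣)
    (M := (R3 k ⧸ 𝔣) ⧸ Ideal.map (Ideal.Quotient.mk 𝔣) 𝔟) Ideal.Quotient.mk_surjective]
  have h1 : Module.length (R3 k) ((R3 k ⧸ 𝔣) ⧸ Ideal.map (Ideal.Quotient.mk 𝔣) 𝔟) =
      Module.length (R3 k) (R3 k ⧸ (𝔣 ⊔ 𝔟)) :=
    (DoubleQuot.quotQuotEquivQuotSupₐ (R3 k) 𝔣 𝔟).toLinearEquiv.length_eq
  rw [h1]
  exact (length_eq_length_field hres _).symm

/-! ### exponents -/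

/-- the exponent `(a,b,c)`. -/
noncomputable def mono (a b c : ℕ) : Fin 3 →₀ ℕ := Finsupp.equivFunOnFinite.symm ![a, b, c]

@[simp] lemma mono_zero (a b c : ℕ) : mono a b c 0 = a := rfl
@[simp] lemma mono_one (a b c : ℕ) : mono a b c 1 = b := rfl
@[simp] lemma mono_two (a b c : ℕ) : mono a b c 2 = c := rfl

lemma ext3 {d d' : Fin 3 →₀ ℕ} (h0 : d 0 = d' 0) (h1 : d 1 = d' 1) (h2 : d 2 = d' 2) : d = d' := by
  apply Finsupp.ext
  intro i
  fin_cases i
  · exact h0
  · exact h1
  · exact h2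

lemma le_iff3 (d d' : Fin 3 →₀ ℕ) : d ≤ d' ↔ d 0 ≤ d' 0 ∧ d 1 ≤ d' 1 ∧ d 2 ≤ d' 2 := by
  rw [Finsupp.le_def]
  constructor
  · intro h
    exact ⟨h 0, h 1, h 2⟩
  · rintro ⟨h0, h1, h2⟩ i
    fin_cases i
    · exact h0
    · exact h1
    · exact h2

lemma eq_mono (d : Fin 3 →₀ ℕ) : d = mono (d 0) (d 1) (d 2) := ext3 rfl rfl rfl

lemma mono_inj {a b c a' b' c' : ℕ} : mono a b c = mono a' b' c' ↔ a = a' ∧ b = b' ∧ c = c' := by
  constructor
  · intro h
    exact ⟨by simpa using congrArg (fun d => d 0) h, by simpa using congrArg (fun d => d 1) h,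
      by simpa using congrArg (fun d => d 2) h⟩
  · rintro ⟨rfl, rfl, rfl⟩
    rfl

lemma mono_add (a b c a' b' c' : ℕ) : mono a b c + mono a' b' c' = mono (a + a') (b + b') (c + c') :=
  ext3 rfl rfl rfl

lemma single0 (e : ℕ) : Finsupp.single (0 : Fin 3) e = mono e 0 0 := by
  apply ext3 <;> simp

lemma single1 (e : ℕ) : Finsupp.single (1 : Fin 3) e = mono 0 e 0 := by
  apply ext3 <;> simp

lemma single2 (e : ℕ) : Finsupp.single (2 : Fin 3) e = mono 0 0 e := by
  apply ext3 <;> simp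

/-- the monomial `x^a y^b t^c`. -/
noncomputable def xm (a b c : ℕ) : R3 k := monomial (mono a b c) 1

lemma xm_mul (a b c a' b' c' : ℕ) : (xm a b c : R3 k) * xm a' b' c' = xm (a + a') (b + b') (c + c') := by
  rw [xm, xm, monomial_mul_monomial, mono_add, mul_one, xm]

lemma X0_pow (e : ℕ) : (X 0 : R3 k) ^ e = xm e 0 0 := by rw [X_pow_eq, single0, xm]
lemma X1_pow (e : ℕ) : (X 1 : R3 k) ^ e = xm 0 e 0 := by rw [X_pow_eq, single1, xm]
lemma X2_pow (e : ℕ) : (X 2 : R3 k) ^ e = xm 0 0 e := by rw [X_pow_eq, single2, xm]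
lemma X0_eq : (X 0 : R3 k) = xm 1 0 0 := by rw [← pow_one (X 0), X0_pow]
lemma X1_eq : (X 1 : R3 k) = xm 0 1 0 := by rw [← pow_one (X 1), X1_pow]
lemma X2_eq : (X 2 : R3 k) = xm 0 0 1 := by rw [← pow_one (X 2), X2_pow]

lemma coeff_xm (a b c : ℕ) (d : Fin 3 →₀ ℕ) :
    coeff d (xm a b c : R3 k) = if d 0 = a ∧ d 1 = b ∧ d 2 = c then 1 else 0 := by
  rw [xm, coeff_monomial]
  have : d = mono a b c ↔ d 0 = a ∧ d 1 = b ∧ d 2 = c := by
    rw [eq_mono d, mono_inj]
    simp
  simp only [this]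

lemma coeff_xm_mul (a b c : ℕ) (d : Fin 3 →₀ ℕ) (h : R3 k) :
    coeff d (xm a b c * h) =
      if a ≤ d 0 ∧ b ≤ d 1 ∧ c ≤ d 2 then coeff (mono (d 0 - a) (d 1 - b) (d 2 - c)) h else 0 := by
  rw [xm, coeff_monomial_mul, one_mul]
  have e : d - mono a b c = mono (d 0 - a) (d 1 - b) (d 2 - c) :=
    ext3 (by simp [Finsupp.tsub_apply]) (by simp [Finsupp.tsub_apply]) (by simp [Finsupp.tsub_apply])
  have l : mono a b c ≤ d ↔ a ≤ d 0 ∧ b ≤ d 1 ∧ c ≤ d 2 := by
    rw [le_iff3]
    simp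
  simp only [l, e]

/-! ### downward closed vanishing ideals -/

/-- power series whose coefficients vanish on a downward closed set of exponents. -/
def vanI (P : ℕ → ℕ → ℕ → Prop)
    (hP : ∀ a b c a' b' c', P a b c → a' ≤ a → b' ≤ b → c' ≤ c → P a' b' c') : Ideal (R3 k) where
  carrier := {g | ∀ d : Fin 3 →₀ ℕ, P (d 0) (d 1) (d 2) → coeff d g = 0}
  add_mem' := by
    intro g h hg hh d hd
    rw [map_add, hg d hd, hh d hd, add_zero]
  zero_mem' := by
    intro d _
    exact map_zero _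
  smul_mem' := by
    intro c g hg d hd
    rw [smul_eq_mul, coeff_mul]
    refine Finset.sum_eq_zero ?_
    rintro ⟨p, q⟩ hpq
    rw [Finset.HasAntidiagonal.mem_antidiagonal] at hpq
    have hq : P (q 0) (q 1) (q 2) := by
      refine hP _ _ _ _ _ _ hd ?_ ?_ ?_ <;> (rw [← hpq]; simp)
    rw [hg q hq, mul_zero]

lemma mem_vanI {P : ℕ → ℕ → ℕ → Prop}
    {hP : ∀ a b c a' b' c', P a b c → a' ≤ a → b' ≤ b → c' ≤ c → P a' b' c'} {g : R3 k} :
    g ∈ vanI (k := k) P hP ↔ ∀ d : Fin 3 →₀ ℕ, P (d 0) (d 1) (d 2) → coeff d g = 0 := Iff.rfl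

lemma xm_mem_vanI {P : ℕ → ℕ → ℕ → Prop}
    {hP : ∀ a b c a' b' c', P a b c → a' ≤ a → b' ≤ b → c' ≤ c → P a' b' c'} {a b c : ℕ}
    (h : ¬ P a b c) : (xm a b c : R3 k) ∈ vanI (k := k) P hP := by
  intro d hd
  rw [coeff_xm, if_neg]
  rintro ⟨rfl, rfl, rfl⟩
  exact h hd

/-- the weight condition. -/
def Pw (n w a b c : ℕ) : Prop := n * a + 2 * b + c < w

lemma Pw_down (n w : ℕ) : ∀ a b c a' b' c', Pw n w a b c → a' ≤ a → b' ≤ b → c' ≤ c → Pw n w a' b' c' := by
  intro a b c a' b' c' h ha hb hc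
  unfold Pw at h ⊢
  have := Nat.mul_le_mul_left n ha
  omega

/-- the weight filtration. -/
def Fw (n w : ℕ) : Ideal (R3 k) := vanI (Pw n w) (Pw_down n w)

lemma Fw_mul (n a b : ℕ) : (Fw n a : Ideal (R3 k)) * Fw n b ≤ Fw n (a + b) := by
  rw [Ideal.mul_le]
  intro g hg h hh d hd
  rw [coeff_mul]
  refine Finset.sum_eq_zero ?_
  rintro ⟨p, q⟩ hpq
  rw [Finset.HasAntidiagonal.mem_antidiagonal] at hpq
  have h0 : d 0 = p 0 + q 0 := by rw [← hpq]; rfl
  have h1 : d 1 = p 1 + q 1 := by rw [← hpq]; rfl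
  have h2 : d 2 = p 2 + q 2 := by rw [← hpq]; rfl
  have : Pw n a (p 0) (p 1) (p 2) ∨ Pw n b (q 0) (q 1) (q 2) := by
    unfold Pw at hd ⊢
    rw [h0, h1, h2, Nat.mul_add] at hd
    omega
  rcases this with h' | h'
  · rw [hg p h', zero_mul]
  · rw [hh q h', mul_zero]

lemma Fw_pow (n a m : ℕ) : (Fw n a : Ideal (R3 k)) ^ m ≤ Fw n (a * m) := by
  induction m with
  | zero =>
    intro g _ d hd
    unfold Pw at hd
    omega
  | succ m ih =>
    rw [pow_succ, Nat.mul_succ]
    exact le_trans (Ideal.mul_mono ih le_rfl) (Fw_mul n _ _)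

/-! ### spanning by standard monomials -/

theorem mem_span_of_support (E : List (Fin 3 →₀ ℕ)) :
    ∀ h : R3 k, (∀ d, coeff d h ≠ 0 → ∃ e ∈ E, e ≤ d) →
      h ∈ Ideal.span {x : R3 k | ∃ e ∈ E, x = monomial e 1} := by
  induction E with
  | nil =>
    intro h hh
    have : h = 0 := by
      ext d
      by_contra hne
      obtain ⟨e, he, _⟩ := hh d (by simpa using hne)
      simp at he
    rw [this]
    exact Ideal.zero_mem _
  | cons e E ih =>
    intro h hh
    obtain ⟨q, hqdef⟩ : ∃ q : R3 k, ∀ d', coeff d' q = coeff (d' + e) h :=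
      ⟨fun d' => coeff (d' + e) h, fun d' => rfl⟩
    have hq : ∀ d, coeff d (monomial e 1 * q) = if e ≤ d then coeff d h else 0 := by
      intro d
      rw [coeff_monomial_mul]
      split_ifs with hle
      · rw [one_mul, hqdef, tsub_add_cancel_of_le hle]
      · rfl
    have h2 : h - monomial e 1 * q ∈ Ideal.span {x : R3 k | ∃ e' ∈ E, x = monomial e' 1} := by
      apply ih
      intro d hd
      rw [map_sub, hq] at hd
      by_cases hle : e ≤ d
      · rw [if_pos hle, sub_self] at hd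
        exact absurd rfl hd
      · rw [if_neg hle, sub_zero] at hd
        obtain ⟨e', he', hle'⟩ := hh d hd
        rcases List.mem_cons.mp he' with rfl | he'
        · exact absurd hle' hle
        · exact ⟨e', he', hle'⟩
    have h3 : h = (h - monomial e 1 * q) + monomial e 1 * q := by ring
    rw [h3]
    refine Ideal.add_mem _ (Ideal.span_mono ?_ h2)
      (Ideal.mul_mem_right _ _ (Ideal.subset_span ⟨e, List.mem_cons_self, rfl⟩))
    rintro x ⟨e', he', rfl⟩
    exact ⟨e', List.mem_cons_of_mem _ he', rfl⟩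

theorem span_decomp (E : List (Fin 3 →₀ ℕ)) (D : Finset (Fin 3 →₀ ℕ))
    (hD : ∀ d, d ∉ D → ∃ e ∈ E, e ≤ d) (g : R3 k) :
    g - ∑ d ∈ D, monomial d (coeff d g) ∈ Ideal.span {x : R3 k | ∃ e ∈ E, x = monomial e 1} := by
  apply mem_span_of_support
  intro d hd
  by_contra hcon
  have hdD : d ∈ D := by
    by_contra h
    exact hcon (hD d h)
  apply hd
  rw [map_sub, map_sum]
  simp only [coeff_monomial]
  rw [Finset.sum_ite_eq D d, if_pos hdD, sub_self]

theorem length_le_card (𝔞 : Ideal (R3 k)) (E : List (Fin 3 →₀ ℕ)) (D : Finset (Fin 3 →₀ ℕ))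
    (hD : ∀ d, d ∉ D → ∃ e ∈ E, e ≤ d) (hE : ∀ e ∈ E, (monomial e 1 : R3 k) ∈ 𝔞) :
    Module.length k (R3 k ⧸ 𝔞) ≤ D.card := by
  let v : D → (R3 k ⧸ 𝔞) := fun d => Ideal.Quotient.mk 𝔞 (monomial d.1 1)
  have hsurj : Function.Surjective (Fintype.linearCombination k v) := by
    intro y
    obtain ⟨g, rfl⟩ := Ideal.Quotient.mk_surjective y
    refine ⟨fun d => coeff d.1 g, ?_⟩
    rw [Fintype.linearCombination_apply]
    have h1 := span_decomp E D hD g
    have h2 : g - ∑ d ∈ D, monomial d (coeff d g) ∈ 𝔞 :=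
      (Ideal.span_le.mpr (by rintro x ⟨e, he, rfl⟩; exact hE e he)) h1
    rw [← Ideal.Quotient.eq] at h2
    rw [h2, map_sum, ← Finset.sum_coe_sort D]
    refine Finset.sum_congr rfl fun d _ => ?_
    show coeff d.1 g • (Submodule.Quotient.mk (monomial d.1 1) : R3 k ⧸ 𝔞) =
      Submodule.Quotient.mk (monomial d.1 (coeff d.1 g))
    rw [← Submodule.Quotient.mk_smul, ← map_smul, smul_eq_mul, mul_one]
  calc Module.length k (R3 k ⧸ 𝔞) ≤ Module.length k (D → k) :=
        Module.length_le_of_surjective _ hsurj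
    _ = D.card := by
        rw [Module.length_eq_finrank, Module.finrank_fintype_fun_eq_card, Fintype.card_coe]

/-! ### lower bounds via dual functionals -/

theorem card_le_length {ι : Type*} [DecidableEq ι] (𝔞 : Ideal (R3 k)) (T : Finset ι)
    (lam : ι → (R3 k →ₗ[k] k)) (g : ι → R3 k)
    (hvan : ∀ τ ∈ T, ∀ x ∈ 𝔞, lam τ x = 0)
    (hdual : ∀ σ ∈ T, ∀ τ ∈ T, lam σ (g τ) = if σ = τ then 1 else 0) :
    (T.card : ℕ∞) ≤ Module.length k (R3 k ⧸ 𝔞) := by
  let Ψ : R3 k →ₗ[k] (T → k) := LinearMap.pi (fun τ => lam τ.1)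
  have hΨ : 𝔞.restrictScalars k ≤ LinearMap.ker Ψ := by
    intro x hx
    rw [LinearMap.mem_ker]
    funext τ
    exact hvan τ.1 τ.2 x hx
  let Φ : (R3 k ⧸ 𝔞) →ₗ[k] (T → k) :=
    (Submodule.liftQ (𝔞.restrictScalars k) Ψ hΨ) ∘ₗ
      (Submodule.Quotient.restrictScalarsEquiv k 𝔞).symm.toLinearMap
  have hsurj : Function.Surjective Φ := by
    intro c
    refine ⟨Submodule.Quotient.mk (∑ τ : T, c τ • g τ.1), ?_⟩
    have : Φ (Submodule.Quotient.mk (∑ τ : T, c τ • g τ.1)) = Ψ (∑ τ : T, c τ • g τ.1) := by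
      simp only [Φ, LinearMap.comp_apply, LinearEquiv.coe_coe,
        Submodule.Quotient.restrictScalarsEquiv_symm_mk, Submodule.liftQ_apply]
    rw [this]
    funext σ
    rw [map_sum]
    simp only [map_smul, Finset.sum_apply, Pi.smul_apply, Ψ, LinearMap.pi_apply, smul_eq_mul]
    rw [Finset.sum_eq_single σ]
    · rw [hdual σ.1 σ.2 σ.1 σ.2, if_pos rfl, mul_one]
    · intro τ _ hne
      rw [hdual σ.1 σ.2 τ.1 τ.2, if_neg, mul_zero]
      intro h
      exact hne (Subtype.ext h.symm)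
    · intro h
      exact absurd (Finset.mem_univ σ) h
  calc (T.card : ℕ∞) = Module.length k (T → k) := by
        rw [Module.length_eq_finrank, Module.finrank_fintype_fun_eq_card, Fintype.card_coe]
    _ ≤ _ := Module.length_le_of_surjective Φ hsurj

end Groth.Agent.Lib.Helper4.HDP
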