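import Mathlib
import Groth.Agent.Lib.Helper4.HDP2

/-!
# The higher double point computation (S19207)
-/

set_option autoImplicit false
set_option linter.style.haveILetI false
set_option linter.unusedSectionVars false
set_option linter.unusedVariables false
set_option linter.unusedSimpArgs false
set_option maxHeartbeats 1600000
set_option maxSynthPendingDepth 3

namespace Groth.Agent.Lib.Helper4.HDP

open Function IsLocalRing Module MvPowerSeries

universe u

variable {k : Type u} [Field k]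

/-! ### coefficient extraction lemmas -/

lemma coeff_xm_mul_of_lt (a b c : ℕ) (d : Fin 3 →₀ ℕ) (h : R3 k)
    (hlt : d 0 < a ∨ d 1 < b ∨ d 2 < c) : coeff d (xm a b c * h) = 0 := by
  rw [coeff_xm_mul, if_neg]
  omega

lemma coeff_x2_mul (a b c : ℕ) (h : R3 k) :
    coeff (mono (a + 2) b c) (xm 2 0 0 * h) = coeff (mono a b c) h := by
  rw [coeff_xm_mul, if_pos]
  · simp only [mono_zero, mono_one, mono_two, Nat.add_sub_cancel, Nat.sub_zero]
  · simp only [mono_zero, mono_one, mono_two]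
    omega

lemma coeff_yn_mul (n a b c : ℕ) (h : R3 k) :
    coeff (mono a (b + n) c) (xm 0 n 0 * h) = coeff (mono a b c) h := by
  rw [coeff_xm_mul, if_pos]
  · simp only [mono_zero, mono_one, mono_two, Nat.add_sub_cancel, Nat.sub_zero]
  · simp only [mono_zero, mono_one, mono_two]
    omega

/-! ### the normal-form functionals -/

/-- the coefficient of `x^ε y^i t^j` in the normal form modulo `x^2 - y^n`. -/
noncomputable def lamn (n ε i j : ℕ) : R3 k →ₗ[k] k :=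
  ∑ q ∈ Finset.range (i / n + 1), MvPowerSeries.coeff (mono (ε + 2 * q) (i - n * q) j)

lemma lamn_apply (n ε i j : ℕ) (g : R3 k) :
    lamn n ε i j g =
      ∑ q ∈ Finset.range (i / n + 1), coeff (mono (ε + 2 * q) (i - n * q) j) g := by
  rw [lamn, LinearMap.sum_apply]

lemma lamn_mul_f (n ε i j : ℕ) (hn : 0 < n) (hε : ε < 2) (h : R3 k) :
    lamn n ε i j ((xm 2 0 0 - xm 0 n 0) * h) = 0 := by
  rw [sub_mul, map_sub, sub_eq_zero, lamn_apply, lamn_apply]
  rw [Finset.sum_range_succ', Finset.sum_range_succ]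
  have hF0 : coeff (mono (ε + 2 * 0) (i - n * 0) j) (xm 2 0 0 * h) = 0 := by
    apply coeff_xm_mul_of_lt
    left
    simp only [mono_zero]
    omega
  have hGQ : coeff (mono (ε + 2 * (i / n)) (i - n * (i / n)) j) (xm 0 n 0 * h) = 0 := by
    apply coeff_xm_mul_of_lt
    right
    left
    simp only [mono_one]
    have h3 : n * (i / n) + i % n = i := Nat.div_add_mod i n
    have h4 : i % n < n := Nat.mod_lt _ hn
    omega
  rw [hF0, hGQ, add_zero, add_zero]
  refine Finset.sum_congr rfl fun q hq => ?_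
  rw [Finset.mem_range] at hq
  have hmul : n * (q + 1) = n * q + n := Nat.mul_succ n q
  have hle : n * (q + 1) ≤ i := by
    have : q + 1 ≤ i / n := hq
    calc n * (q + 1) ≤ n * (i / n) := Nat.mul_le_mul_left n this
      _ ≤ i := Nat.mul_div_le i n
  have e1 : ε + 2 * (q + 1) = (ε + 2 * q) + 2 := by ring
  have e2 : i - n * q = (i - n * (q + 1)) + n := by omega
  rw [e1, coeff_x2_mul, e2, coeff_yn_mul]

lemma lamn_Fw (n ε i j w : ℕ) (hw : n * ε + 2 * i + j < w) (g : R3 k)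
    (hg : g ∈ Fw (k := k) n w) : lamn n ε i j g = 0 := by
  rw [lamn_apply]
  refine Finset.sum_eq_zero fun q hq => ?_
  rw [Finset.mem_range] at hq
  refine (mem_vanI.mp hg) _ ?_
  show Pw n w (ε + 2 * q) (i - n * q) j
  unfold Pw
  have hle : n * q ≤ i :=
    calc n * q ≤ n * (i / n) := Nat.mul_le_mul_left n (by omega)
      _ ≤ i := Nat.mul_div_le i n
  have : n * (ε + 2 * q) = n * ε + 2 * (n * q) := by ring
  omega

lemma lamn_xm (n ε i j ε' i' j' : ℕ) (hε : ε < 2) (hε' : ε' < 2) :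
    lamn n ε i j (xm ε' i' j' : R3 k) = if (ε, i, j) = (ε', i', j') then 1 else 0 := by
  rw [lamn_apply, Finset.sum_eq_single 0]
  · rw [coeff_xm]
    refine if_congr ?_ rfl rfl
    simp only [mono_zero, mono_one, mono_two, mul_zero, add_zero, Nat.sub_zero, Prod.mk.injEq]
  · intro q _ hq
    rw [coeff_xm, if_neg]
    simp only [mono_zero]
    omega
  · intro h
    exact absurd (Finset.mem_range.mpr (Nat.succ_pos _)) h

/-! ### triangular index sets -/

/-- the triangle `{(i, j) : i < N, j < 2 (i + 1)}`. -/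
def Tri (N : ℕ) : Finset (Σ _ : ℕ, ℕ) :=
  (Finset.range N).sigma (fun i => Finset.range (2 * (i + 1)))

lemma card_Tri (N : ℕ) : (Tri N).card = N * (N + 1) := by
  rw [Tri, Finset.card_sigma]
  simp only [Finset.card_range]
  induction N with
  | zero => simp
  | succ N ih =>
    rw [Finset.sum_range_succ, ih]
    ring

lemma mem_Tri {N : ℕ} {x : Σ _ : ℕ, ℕ} : x ∈ Tri N ↔ x.1 < N ∧ x.2 < 2 * (x.1 + 1) := by
  rw [Tri, Finset.mem_sigma, Finset.mem_range, Finset.mem_range]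

/-- the index set for the lower bound. -/
def TT (n m : ℕ) : Finset ((Σ _ : ℕ, ℕ) ⊕ (Σ _ : ℕ, ℕ)) :=
  (Tri (2 * m)).disjSum (Tri (2 * (m - n)))

lemma card_TT (n m : ℕ) :
    (TT n m).card = (2 * m) * (2 * m + 1) + (2 * (m - n)) * (2 * (m - n) + 1) := by
  rw [TT, Finset.card_disjSum, card_Tri, card_Tri]

/-- the exponent attached to an index. -/
def expo (n m : ℕ) : (Σ _ : ℕ, ℕ) ⊕ (Σ _ : ℕ, ℕ) → ℕ × ℕ × ℕ
  | Sum.inl x => (0, 2 * m - 1 - x.1, x.2)
  | Sum.inr x => (1, 2 * (m - n) - 1 - x.1, x.2)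

lemma expo_fst_lt (n m : ℕ) (τ : (Σ _ : ℕ, ℕ) ⊕ (Σ _ : ℕ, ℕ)) : (expo n m τ).1 < 2 := by
  rcases τ with x | x <;> simp [expo]

lemma expo_weight (n m : ℕ) (τ : (Σ _ : ℕ, ℕ) ⊕ (Σ _ : ℕ, ℕ)) (hτ : τ ∈ TT n m) :
    n * (expo n m τ).1 + 2 * (expo n m τ).2.1 + (expo n m τ).2.2 < 4 * m := by
  rcases τ with ⟨i, j⟩ | ⟨i, j⟩
  · rw [TT, Finset.inl_mem_disjSum, mem_Tri] at hτ
    simp only [expo]
    simp only at hτ
    omega
  · rw [TT, Finset.inr_mem_disjSum, mem_Tri] at hτ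
    simp only [expo]
    simp only at hτ
    omega

lemma expo_inj (n m : ℕ) {σ τ : (Σ _ : ℕ, ℕ) ⊕ (Σ _ : ℕ, ℕ)} (hσ : σ ∈ TT n m) (hτ : τ ∈ TT n m)
    (h : expo n m σ = expo n m τ) : σ = τ := by
  rcases σ with ⟨i, j⟩ | ⟨i, j⟩ <;> rcases τ with ⟨i', j'⟩ | ⟨i', j'⟩
  · rw [TT, Finset.inl_mem_disjSum, mem_Tri] at hσ hτ
    simp only [expo, Prod.mk.injEq] at h
    simp only at hσ hτ
    obtain ⟨_, h1, h2⟩ := h
    have : i = i' := by omega
    subst this
    subst h2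
    rfl
  · simp [expo] at h
  · simp [expo] at h
  · rw [TT, Finset.inr_mem_disjSum, mem_Tri] at hσ hτ
    simp only [expo, Prod.mk.injEq] at h
    simp only at hσ hτ
    obtain ⟨_, h1, h2⟩ := h
    have : i = i' := by omega
    subst this
    subst h2
    rfl

/-! ### the generators -/

/-- the ideal `(x², xy, y², xt, yt², t⁴)`. -/
noncomputable def GG (k : Type u) [Field k] : Ideal (R3 k) :=
  Ideal.span {(X 0 ^ 2 : R3 k), X 0 * X 1, X 1 ^ 2, X 0 * X 2, X 1 * X 2 ^ 2, X 2 ^ 4}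

lemma gens_le_vanI {P : ℕ → ℕ → ℕ → Prop}
    {hP : ∀ a b c a' b' c', P a b c → a' ≤ a → b' ≤ b → c' ≤ c → P a' b' c'}
    (h1 : ¬ P 2 0 0) (h2 : ¬ P 1 1 0) (h3 : ¬ P 0 2 0) (h4 : ¬ P 1 0 1) (h5 : ¬ P 0 1 2)
    (h6 : ¬ P 0 0 4) : GG k ≤ vanI P hP := by
  rw [GG, Ideal.span_le]
  intro x hx
  rw [SetLike.mem_coe]
  simp only [Set.mem_insert_iff, Set.mem_singleton_iff] at hx
  rcases hx with rfl | rfl | rfl | rfl | rfl | rfl
  · rw [X0_pow]
    exact xm_mem_vanI h1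
  · rw [X0_eq, X1_eq, xm_mul]
    exact xm_mem_vanI h2
  · rw [X1_pow]
    exact xm_mem_vanI h3
  · rw [X0_eq, X2_eq, xm_mul]
    exact xm_mem_vanI h4
  · rw [X1_eq, X2_pow, xm_mul]
    exact xm_mem_vanI h5
  · rw [X2_pow]
    exact xm_mem_vanI h6

lemma GG_le_Fw (n : ℕ) (hn : 3 ≤ n) : GG k ≤ Fw n 4 := by
  apply gens_le_vanI <;> (unfold Pw; omega)

lemma GG_pow_le_Fw (n : ℕ) (hn : 3 ≤ n) (m : ℕ) : GG k ^ m ≤ Fw n (4 * m) :=
  le_trans (Ideal.pow_right_mono (GG_le_Fw n hn) m) (Fw_pow n 4 m)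

/-! ### the lower bound -/

theorem lower_bound (n : ℕ) (hn : 3 ≤ n) (𝔣 : Ideal (R3 k))
    (h𝔣 : 𝔣 = Ideal.span {(X 0 ^ 2 - X 1 ^ n : R3 k)}) (m : ℕ) :
    ((TT n m).card : ℕ∞) ≤ Module.length k (R3 k ⧸ (𝔣 ⊔ GG k ^ m)) := by
  refine card_le_length (𝔣 ⊔ GG k ^ m) (TT n m)
    (fun τ => lamn n (expo n m τ).1 (expo n m τ).2.1 (expo n m τ).2.2)
    (fun τ => xm (expo n m τ).1 (expo n m τ).2.1 (expo n m τ).2.2) ?_ ?_
  · intro τ hτ x hx
    obtain ⟨u, hu, v, hv, rfl⟩ := Submodule.mem_sup.mp hx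
    rw [map_add]
    have h1 : lamn n (expo n m τ).1 (expo n m τ).2.1 (expo n m τ).2.2 u = 0 := by
      rw [h𝔣] at hu
      obtain ⟨c, rfl⟩ := Ideal.mem_span_singleton'.mp hu
      rw [mul_comm, X0_pow, X1_pow]
      exact lamn_mul_f n _ _ _ (by omega) (expo_fst_lt n m τ) c
    have h2 : lamn n (expo n m τ).1 (expo n m τ).2.1 (expo n m τ).2.2 v = 0 :=
      lamn_Fw n _ _ _ (4 * m) (expo_weight n m τ hτ) v (GG_pow_le_Fw n hn m hv)
    rw [h1, h2, add_zero]
  · intro σ hσ τ hτ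
    show lamn n (expo n m σ).1 (expo n m σ).2.1 (expo n m σ).2.2
      (xm (expo n m τ).1 (expo n m τ).2.1 (expo n m τ).2.2) = _
    rw [lamn_xm n _ _ _ _ _ _ (expo_fst_lt n m σ) (expo_fst_lt n m τ)]
    refine if_congr ?_ rfl rfl
    constructor
    · intro h
      exact expo_inj n m hσ hτ h
    · rintro rfl
      rfl

/-! ### the sixteen and the seven -/

/-- standard monomials for `(x², y², t⁴)`. -/
noncomputable def D16 : Finset (Fin 3 →₀ ℕ) :=
  ((Finset.range 2) ×ˢ (Finset.range 2) ×ˢ (Finset.range 4)).image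
    (fun τ => mono τ.1 τ.2.1 τ.2.2)

lemma card_D16 : D16.card ≤ 16 := le_trans Finset.card_image_le (by simp)

lemma hD16 : ∀ d, d ∉ D16 → ∃ e ∈ [mono 2 0 0, mono 0 2 0, mono 0 0 4], e ≤ d := by
  intro d hd
  by_contra hcon
  push_neg at hcon
  apply hd
  have h1 := hcon (mono 2 0 0) (by simp)
  have h2 := hcon (mono 0 2 0) (by simp)
  have h3 := hcon (mono 0 0 4) (by simp)
  rw [le_iff3] at h1 h2 h3
  simp only [mono_zero, mono_one, mono_two] at h1 h2 h3
  rw [D16, Finset.mem_image]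
  refine ⟨(d 0, d 1, d 2), ?_, (eq_mono d).symm⟩
  simp only [Finset.mem_product, Finset.mem_range]
  omega

theorem sixteen (n : ℕ) (hn : 3 ≤ n) (𝔣 : Ideal (R3 k))
    (h𝔣 : 𝔣 = Ideal.span {(X 0 ^ 2 - X 1 ^ n : R3 k)}) :
    Module.length k (R3 k ⧸ (𝔣 ⊔ (Ideal.span {(X 1 ^ 2 : R3 k)} ⊔ Ideal.span {(X 2 ^ 4 : R3 k)})))
      ≤ 16 := by
  refine le_trans (length_le_card _ [mono 2 0 0, mono 0 2 0, mono 0 0 4] D16 hD16 ?_)
    (by exact_mod_cast card_D16)
  intro e he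
  simp only [List.mem_cons, List.mem_singleton, List.not_mem_nil, or_false] at he
  rcases he with rfl | rfl | rfl
  · have : (monomial (mono 2 0 0) 1 : R3 k) = (X 0 ^ 2 - X 1 ^ n) + X 1 ^ (n - 2) * X 1 ^ 2 := by
      rw [← pow_add, Nat.sub_add_cancel (by omega), X0_pow]
      rw [xm]
      ring
    rw [this]
    refine Ideal.add_mem _ (Ideal.mem_sup_left (h𝔣 ▸ Ideal.subset_span rfl))
      (Ideal.mem_sup_right (Ideal.mem_sup_left (Ideal.mul_mem_left _ _ (Ideal.subset_span rfl))))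
  · have : (monomial (mono 0 2 0) 1 : R3 k) = X 1 ^ 2 := by rw [X1_pow, xm]
    rw [this]
    exact Ideal.mem_sup_right (Ideal.mem_sup_left (Ideal.subset_span rfl))
  · have : (monomial (mono 0 0 4) 1 : R3 k) = X 2 ^ 4 := by rw [X2_pow, xm]
    rw [this]
    exact Ideal.mem_sup_right (Ideal.mem_sup_right (Ideal.subset_span rfl))

/-- the seven standard exponents. -/
def T7 : Finset (ℕ × ℕ × ℕ) :=
  {(0, 0, 0), (0, 0, 1), (0, 0, 2), (0, 0, 3), (1, 0, 0), (0, 1, 0), (0, 1, 1)}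

lemma card_T7 : T7.card = 7 := by decide

/-- the standard monomials of `(x², xy, y², xt, yt², t⁴)`. -/
noncomputable def D7 : Finset (Fin 3 →₀ ℕ) := T7.image (fun τ => mono τ.1 τ.2.1 τ.2.2)

lemma card_D7 : D7.card ≤ 7 := le_trans Finset.card_image_le (le_of_eq card_T7)

lemma hD7 : ∀ d, d ∉ D7 → ∃ e ∈ [mono 2 0 0, mono 1 1 0, mono 0 2 0, mono 1 0 1, mono 0 1 2,
    mono 0 0 4], e ≤ d := by
  intro d hd
  by_contra hcon
  push_neg at hcon
  apply hd
  have h1 := hcon (mono 2 0 0) (by simp)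
  have h2 := hcon (mono 1 1 0) (by simp)
  have h3 := hcon (mono 0 2 0) (by simp)
  have h4 := hcon (mono 1 0 1) (by simp)
  have h5 := hcon (mono 0 1 2) (by simp)
  have h6 := hcon (mono 0 0 4) (by simp)
  rw [le_iff3] at h1 h2 h3 h4 h5 h6
  simp only [mono_zero, mono_one, mono_two] at h1 h2 h3 h4 h5 h6
  rw [D7, Finset.mem_image]
  refine ⟨(d 0, d 1, d 2), ?_, (eq_mono d).symm⟩
  simp only [T7, Finset.mem_insert, Finset.mem_singleton, Prod.mk.injEq]
  omega

/-- the exponents not divisible by a generator. -/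
def P7 (a b c : ℕ) : Prop :=
  a ≤ 1 ∧ b ≤ 1 ∧ c ≤ 3 ∧ (a = 0 ∨ b = 0) ∧ (a = 0 ∨ c = 0) ∧ (b = 0 ∨ c ≤ 1)

lemma P7_down : ∀ a b c a' b' c', P7 a b c → a' ≤ a → b' ≤ b → c' ≤ c → P7 a' b' c' := by
  intro a b c a' b' c' h ha hb hc
  unfold P7 at h ⊢
  omega

lemma GG_mem_xm_iff : ∀ e ∈ [mono 2 0 0, mono 1 1 0, mono 0 2 0, mono 1 0 1, mono 0 1 2,
    mono 0 0 4], (monomial e 1 : R3 k) ∈ GG k := by
  intro e he
  simp only [List.mem_cons, List.mem_singleton, List.not_mem_nil, or_false] at he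
  rcases he with rfl | rfl | rfl | rfl | rfl | rfl
  · have : (monomial (mono 2 0 0) 1 : R3 k) = X 0 ^ 2 := by rw [X0_pow, xm]
    rw [this, GG]
    exact Ideal.subset_span (by simp)
  · have : (monomial (mono 1 1 0) 1 : R3 k) = X 0 * X 1 := by rw [X0_eq, X1_eq, xm_mul, xm]
    rw [this, GG]
    exact Ideal.subset_span (by simp)
  · have : (monomial (mono 0 2 0) 1 : R3 k) = X 1 ^ 2 := by rw [X1_pow, xm]
    rw [this, GG]
    exact Ideal.subset_span (by simp)
  · have : (monomial (mono 1 0 1) 1 : R3 k) = X 0 * X 2 := by rw [X0_eq, X2_eq, xm_mul, xm]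
    rw [this, GG]
    exact Ideal.subset_span (by simp)
  · have : (monomial (mono 0 1 2) 1 : R3 k) = X 1 * X 2 ^ 2 := by rw [X1_eq, X2_pow, xm_mul, xm]
    rw [this, GG]
    exact Ideal.subset_span (by simp)
  · have : (monomial (mono 0 0 4) 1 : R3 k) = X 2 ^ 4 := by rw [X2_pow, xm]
    rw [this, GG]
    exact Ideal.subset_span (by simp)

theorem seven_k : Module.length k (R3 k ⧸ GG k) = 7 := by
  apply le_antisymm
  · exact le_trans (length_le_card _ _ D7 hD7 GG_mem_xm_iff) (by exact_mod_cast card_D7)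
  · have h := card_le_length (GG k) T7 (fun τ => MvPowerSeries.coeff (mono τ.1 τ.2.1 τ.2.2))
      (fun τ => xm τ.1 τ.2.1 τ.2.2) ?_ ?_
    · rw [card_T7] at h
      exact_mod_cast h
    · intro τ hτ x hx
      have hle : GG k ≤ vanI P7 P7_down := by
        apply gens_le_vanI <;> (unfold P7; omega)
      refine (mem_vanI.mp (hle hx)) _ ?_
      obtain ⟨a, b, c⟩ := τ
      simp only [T7, Finset.mem_insert, Finset.mem_singleton, Prod.mk.injEq] at hτ
      show P7 a b c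
      unfold P7
      omega
    · intro σ hσ τ hτ
      obtain ⟨a, b, c⟩ := σ
      obtain ⟨a', b', c'⟩ := τ
      show coeff (mono a b c) (xm a' b' c' : R3 k) = _
      rw [coeff_xm]
      refine if_congr ?_ rfl rfl
      simp only [mono_zero, mono_one, mono_two, Prod.mk.injEq]

end Groth.Agent.Lib.Helper4.HDP
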