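import Mathlib
import Groth.Agent.Lib.Helper4.HDP3

/-!
# The higher double point computation (S19207): assembly
-/

set_option autoImplicit false
set_option linter.style.haveILetI false
set_option linter.unusedSectionVars false
set_option linter.unusedVariables false
set_option linter.unusedSimpArgs false
set_option maxHeartbeats 1600000
set_option maxSynthPendingDepth 3

namespace Groth.Agent.Lib.Helper4.HDP

open Function IsLocalRing Module MvPowerSeries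

universe u

variable {k : Type u} [Field k]

theorem seven (n : ℕ) (hn : 3 ≤ n) (𝔣 : Ideal (R3 k))
    (h𝔣 : 𝔣 = Ideal.span {(X 0 ^ 2 - X 1 ^ n : R3 k)}) (I : Ideal (R3 k ⧸ 𝔣))
    (hI : I = Ideal.map (Ideal.Quotient.mk 𝔣) (GG k)) :
    Module.length (R3 k ⧸ 𝔣) ((R3 k ⧸ 𝔣) ⧸ I) = 7 := by
  subst hI
  rw [transfer]
  have hle : 𝔣 ≤ GG k := by
    rw [h𝔣, Ideal.span_singleton_le_iff_mem]
    have : (X 0 ^ 2 - X 1 ^ n : R3 k) = X 0 ^ 2 - X 1 ^ (n - 2) * X 1 ^ 2 := by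
      rw [← pow_add, Nat.sub_add_cancel (by omega)]
    rw [this, GG]
    exact Ideal.sub_mem _ (Ideal.subset_span (by simp))
      (Ideal.mul_mem_left _ _ (Ideal.subset_span (by simp)))
  rw [sup_eq_right.mpr hle]
  exact seven_k

theorem lower (n : ℕ) (hn : 3 ≤ n) (𝔣 : Ideal (R3 k))
    (h𝔣 : 𝔣 = Ideal.span {(X 0 ^ 2 - X 1 ^ n : R3 k)}) (I : Ideal (R3 k ⧸ 𝔣))
    (hI : I = Ideal.map (Ideal.Quotient.mk 𝔣) (GG k)) (m : ℕ) :
    ((TT n m).card : ℕ∞) ≤ Module.length (R3 k ⧸ 𝔣) ((R3 k ⧸ 𝔣) ⧸ I ^ m) := by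
  subst hI
  rw [← Ideal.map_pow, transfer]
  exact lower_bound n hn 𝔣 h𝔣 m

theorem upper (n : ℕ) (hn : 3 ≤ n) (𝔣 : Ideal (R3 k))
    (h𝔣 : 𝔣 = Ideal.span {(X 0 ^ 2 - X 1 ^ n : R3 k)}) (I : Ideal (R3 k ⧸ 𝔣))
    (hI : I = Ideal.map (Ideal.Quotient.mk 𝔣) (GG k)) (m : ℕ) :
    Module.length (R3 k ⧸ 𝔣) ((R3 k ⧸ 𝔣) ⧸ I ^ m) ≤
      ((∑ i ∈ Finset.range (m + 1), i : ℕ) : ℕ∞) * 16 := by
  obtain ⟨a, ha⟩ : ∃ a : R3 k ⧸ 𝔣, a = Ideal.Quotient.mk 𝔣 (X 1 ^ 2) := ⟨_, rfl⟩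
  obtain ⟨b, hb⟩ : ∃ b : R3 k ⧸ 𝔣, b = Ideal.Quotient.mk 𝔣 (X 2 ^ 4) := ⟨_, rfl⟩
  have hJ : Ideal.span {a} ⊔ Ideal.span {b} = Ideal.map (Ideal.Quotient.mk 𝔣)
      (Ideal.span {(X 1 ^ 2 : R3 k)} ⊔ Ideal.span {(X 2 ^ 4 : R3 k)}) := by
    rw [Ideal.map_sup, Ideal.map_span, Ideal.map_span, Set.image_singleton, Set.image_singleton,
      ha, hb]
  have hK : Module.length (R3 k ⧸ 𝔣) ((R3 k ⧸ 𝔣) ⧸ (Ideal.span {a} ⊔ Ideal.span {b})) ≤ 16 := by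
    rw [hJ, transfer]
    exact sixteen n hn 𝔣 h𝔣
  have hJI : Ideal.span {a} ⊔ Ideal.span {b} ≤ I := by
    rw [hJ, hI]
    apply Ideal.map_mono
    rw [GG]
    refine sup_le ?_ ?_
    · rw [Ideal.span_singleton_le_iff_mem]
      exact Ideal.subset_span (by simp)
    · rw [Ideal.span_singleton_le_iff_mem]
      exact Ideal.subset_span (by simp)
  exact le_trans (length_quot_anti (Ideal.pow_right_mono hJI m)) (length_quot_pow2_le a b 16 hK m)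

lemma arith (n m : ℕ) :
    8 * m ^ 2 ≤ (2 * m) * (2 * m + 1) + (2 * (m - n)) * (2 * (m - n) + 1) + 8 * n * m := by
  rcases Nat.lt_or_ge m n with h | h
  · have h0 : m - n = 0 := by omega
    rw [h0]
    nlinarith [Nat.mul_le_mul_right m (Nat.le_of_lt h)]
  · obtain ⟨r, rfl⟩ := Nat.exists_eq_add_of_le h
    rw [Nat.add_sub_cancel_left]
    nlinarith [Nat.zero_le (n * n), Nat.zero_le n, Nat.zero_le r]

theorem tendsto_of_bounds (n : ℕ) (L : ℕ → ℕ) (hU : ∀ m, L m ≤ 8 * m * (m + 1))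
    (hL : ∀ m, 8 * m ^ 2 ≤ L m + 8 * n * m) :
    Filter.Tendsto (fun m : ℕ => (2 : ℝ) * (L m : ℝ) / (m : ℝ) ^ 2) Filter.atTop (nhds 16) := by
  have h1 : Filter.Tendsto (fun m : ℕ => (16 : ℝ) - (16 * n : ℝ) / m) Filter.atTop (nhds 16) := by
    have := (tendsto_const_div_atTop_nhds_zero_nat (16 * n : ℝ)).const_sub 16
    simpa using this
  have h2 : Filter.Tendsto (fun m : ℕ => (16 : ℝ) + 16 / m) Filter.atTop (nhds 16) := by
    have := (tendsto_const_div_atTop_nhds_zero_nat (16 : ℝ)).const_add 16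
    simpa using this
  refine tendsto_of_tendsto_of_tendsto_of_le_of_le' h1 h2 ?_ ?_
  · filter_upwards [Filter.eventually_gt_atTop 0] with m hm
    have hm' : (0 : ℝ) < m := by exact_mod_cast hm
    have hne : (m : ℝ) ≠ 0 := hm'.ne'
    have h' : (8 : ℝ) * m ^ 2 ≤ L m + 8 * n * m := by exact_mod_cast hL m
    have e : (16 : ℝ) - 16 * n / m = (16 * m ^ 2 - 16 * n * m) / m ^ 2 := by
      field_simp
    rw [e]
    apply div_le_div_of_nonneg_right _ (by positivity)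
    nlinarith
  · filter_upwards [Filter.eventually_gt_atTop 0] with m hm
    have hm' : (0 : ℝ) < m := by exact_mod_cast hm
    have hne : (m : ℝ) ≠ 0 := hm'.ne'
    have h' : (L m : ℝ) ≤ 8 * m * (m + 1) := by exact_mod_cast hU m
    have e : (16 : ℝ) + 16 / m = (16 * m ^ 2 + 16 * m) / m ^ 2 := by
      field_simp
    rw [e]
    apply div_le_div_of_nonneg_right _ (by positivity)
    nlinarith

theorem main (n : ℕ) (hn : 3 ≤ n) (𝔣 : Ideal (R3 k))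
    (h𝔣 : 𝔣 = Ideal.span {(X 0 ^ 2 - X 1 ^ n : R3 k)}) (I : Ideal (R3 k ⧸ 𝔣))
    (hI : I = Ideal.map (Ideal.Quotient.mk 𝔣) (GG k)) :
    Module.length (R3 k ⧸ 𝔣) ((R3 k ⧸ 𝔣) ⧸ I) = 7 ∧
      Filter.Tendsto (fun m : ℕ => (2 : ℝ) *
        ((Module.length (R3 k ⧸ 𝔣) ((R3 k ⧸ 𝔣) ⧸ I ^ m)).toNat : ℝ) / (m : ℝ) ^ 2)
        Filter.atTop (nhds 16) := by
  refine ⟨seven n hn 𝔣 h𝔣 I hI, ?_⟩
  apply tendsto_of_bounds n
  · intro m
    have hu := upper n hn 𝔣 h𝔣 I hI m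
    have hS : (∑ i ∈ Finset.range (m + 1), i) * 2 = (m + 1) * (m + 1 - 1) :=
      Finset.sum_range_id_mul_two (m + 1)
    rw [Nat.add_sub_cancel] at hS
    have hu' : Module.length (R3 k ⧸ 𝔣) ((R3 k ⧸ 𝔣) ⧸ I ^ m) ≤
        (((∑ i ∈ Finset.range (m + 1), i) * 16 : ℕ) : ℕ∞) := by
      rw [Nat.cast_mul, Nat.cast_ofNat]
      exact hu
    have := ENat.toNat_le_of_le_coe hu'
    nlinarith
  · intro m
    have hu := upper n hn 𝔣 h𝔣 I hI m
    have hl := lower n hn 𝔣 h𝔣 I hI m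
    have hne : Module.length (R3 k ⧸ 𝔣) ((R3 k ⧸ 𝔣) ⧸ I ^ m) ≠ ⊤ := by
      intro htop
      rw [htop] at hu
      have hu' : (⊤ : ℕ∞) ≤ (((∑ i ∈ Finset.range (m + 1), i) * 16 : ℕ) : ℕ∞) := by
        rw [Nat.cast_mul, Nat.cast_ofNat]
        exact hu
      exact absurd (top_le_iff.mp hu') (ENat.coe_ne_top _)
    obtain ⟨N, hN⟩ := ENat.ne_top_iff_exists.mp hne
    rw [← hN] at hl ⊢
    rw [ENat.toNat_coe]
    have hl' : (TT n m).card ≤ N := by exact_mod_cast hl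
    rw [card_TT] at hl'
    have := arith n m
    omega

end Groth.Agent.Lib.Helper4.HDP
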