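import Mathlib
import Groth.Prelude.Def_Hens2
import Groth.Agent.S0526
import Groth.Agent.S15779
import Groth.Agent.Lib.Helper3.HenselPair
import Groth.Agent.Lib.Helper26.PairHens
import Groth.Agent.Lib.Helper26.PairHensNbhd
import Groth.Agent.Lib.Helper26.PairHensOps

/-!
Helper4: Henselian Weierstrass preparation for `R{t}` (the henselization of `R[t]` along `(t)`),
part 1: basic structure of `B = R{t}` for a local ring `R`: `(t, 𝔪)B` is contained in the Jacobson
radical, elements outside it are units, the residue homomorphism, and `B/(P) ≅ R[t]/(P)` for a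
distinguished polynomial `P` (when `R` is Henselian).
-/

set_option autoImplicit false
set_option linter.style.haveILetI false
set_option linter.unusedSectionVars false
set_option linter.unusedVariables false
set_option maxHeartbeats 800000

namespace Groth.Agent.Lib.Helper4.HW1

open Polynomial IsLocalRing
open Groth.Agent.Lib.Helper26.PairHensNbhd

universe u

section poly

variable {R : Type u} [CommRing R]

theorem coeff_rev (N : ℕ) (p : R[X]) (j : ℕ) (hj : j ≤ N) :
    (Groth.Agent.S15779.rev N p).coeff j = p.coeff (N - j) := by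
  unfold Groth.Agent.S15779.rev
  rw [finsetSum_coeff, Finset.sum_eq_single (N - j)]
  · rw [coeff_monomial, if_pos (by omega)]
  · intro i hi hij
    rw [coeff_monomial, if_neg]
    rw [Finset.mem_range] at hi
    omega
  · intro h
    exact absurd (Finset.mem_range.2 (by omega)) h

theorem exists_trunc [Nontrivial R] {S : Type*} [CommRing S] [Algebra R S] [Algebra R[X] S]
    [IsScalarTower R R[X] S] (a : R[X]) (k : ℕ) (hk : 1 ≤ k) :
    ∃ (c : Fin k → R) (d : R[X]), algebraMap R[X] S a =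
      ∑ i : Fin k, c i • (algebraMap R[X] S X) ^ (i : ℕ) +
        (algebraMap R[X] S X) ^ k * algebraMap R[X] S d := by
  have hmon : (X ^ k : R[X]).Monic := monic_X_pow k
  have hne : (X ^ k : R[X]) ≠ 1 := by
    intro h
    have := congrArg natDegree h
    rw [natDegree_X_pow, natDegree_one] at this
    omega
  have hdeg : (a %ₘ X ^ k).natDegree < k := by
    have := natDegree_modByMonic_lt a hmon hne
    rwa [natDegree_X_pow] at this
  refine ⟨fun i => (a %ₘ X ^ k).coeff i, a /ₘ X ^ k, ?_⟩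
  have h1 : a = (a %ₘ X ^ k) + X ^ k * (a /ₘ X ^ k) := (modByMonic_add_div a (X ^ k)).symm
  have h2 : a %ₘ X ^ k = ∑ i ∈ Finset.range k, monomial i ((a %ₘ X ^ k).coeff i) :=
    as_sum_range' _ k hdeg
  have h3 : algebraMap R[X] S (a %ₘ X ^ k) =
      ∑ i : Fin k, (a %ₘ X ^ k).coeff i • (algebraMap R[X] S X) ^ (i : ℕ) := by
    conv_lhs => rw [h2]
    rw [map_sum, Finset.sum_range]
    refine Finset.sum_congr rfl fun i _ => ?_
    rw [← C_mul_X_pow_eq_monomial, map_mul, map_pow, Algebra.smul_def]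
    congr 1
    exact (IsScalarTower.algebraMap_apply R R[X] S _).symm
  conv_lhs => rw [h1]
  rw [map_add, map_mul, map_pow, h3]

end poly

section basics

variable {R : Type u} [CommRing R] [IsLocalRing R] {B : Type u} [CommRing B] [Algebra R B]
  [Algebra R[X] B] [IsScalarTower R R[X] B]

theorem algebraMap_C (r : R) : algebraMap R[X] B (C r) = algebraMap R B r :=
  (IsScalarTower.algebraMap_apply R R[X] B r).symm

theorem map_span_X :
    (Ideal.span {(X : R[X])}).map (algebraMap R[X] B) = Ideal.span {algebraMap R[X] B X} := by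
  rw [Ideal.map_span, Set.image_singleton]

theorem map_map_C :
    ((maximalIdeal R).map (C : R →+* R[X])).map (algebraMap R[X] B) =
      (maximalIdeal R).map (algebraMap R B) := by
  rw [Ideal.map_map]
  congr 1
  ext r
  exact algebraMap_C r

theorem one_add_isUnit {μ : R} (hμ : μ ∈ maximalIdeal R) : IsUnit (1 + μ) := by
  rw [← IsLocalRing.notMem_maximalIdeal]
  intro h
  have h1 : (1 : R) ∈ maximalIdeal R := by
    have := Ideal.sub_mem _ h hμ
    rwa [add_sub_cancel_right] at this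
  exact (Ideal.ne_top_iff_one _).mp (IsLocalRing.maximalIdeal.isMaximal R).ne_top h1

theorem isUnit_of_one_sub_mem {c : R} (h : 1 - c ∈ maximalIdeal R) : IsUnit c := by
  rw [← IsLocalRing.notMem_maximalIdeal]
  intro hc
  have h1 : (1 : R) ∈ maximalIdeal R := by
    have := Ideal.add_mem _ h hc
    rwa [sub_add_cancel] at this
  exact (Ideal.ne_top_iff_one _).mp (IsLocalRing.maximalIdeal.isMaximal R).ne_top h1

variable (hB : Hens2.IsPairHenselization R[X] (Ideal.span {(X : R[X])}) B)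
include hB

theorem tau_mem_jacobson : algebraMap R[X] B X ∈ Ideal.jacobson (⊥ : Ideal B) := by
  have h := hB.1.jac
  rw [map_span_X] at h
  exact h (Ideal.mem_span_singleton_self _)

theorem exists_const_sub_mem (b : B) :
    ∃ r : R, b - algebraMap R B r ∈ Ideal.span {algebraMap R[X] B X} := by
  obtain ⟨a, ha⟩ := Groth.Agent.Lib.Helper26.PairHens.exists_sub_mem _ hB b
  rw [map_span_X] at ha
  refine ⟨a.coeff 0, ?_⟩
  obtain ⟨c, hc⟩ := (Polynomial.X_dvd_sub_C : X ∣ a - C (a.coeff 0))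
  have h2 : b - algebraMap R B (a.coeff 0) =
      (b - algebraMap R[X] B a) + algebraMap R[X] B X * algebraMap R[X] B c := by
    rw [← algebraMap_C, ← map_mul, ← hc, map_sub]; ring
  rw [h2]
  exact Ideal.add_mem _ ha (Ideal.mul_mem_right _ _ (Ideal.mem_span_singleton_self _))

theorem exists_mem_sub_mem (x : B) (hx : x ∈ (maximalIdeal R).map (algebraMap R B)) :
    ∃ μ ∈ maximalIdeal R, x - algebraMap R B μ ∈ Ideal.span {algebraMap R[X] B X} := by
  unfold Ideal.map at hx
  induction hx using Submodule.span_induction with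
  | mem y hy =>
    obtain ⟨μ, hμ, rfl⟩ := hy
    exact ⟨μ, hμ, by rw [sub_self]; exact zero_mem _⟩
  | zero => exact ⟨0, zero_mem _, by rw [map_zero, sub_zero]; exact zero_mem _⟩
  | add y z _ _ hy hz =>
    obtain ⟨μ₁, h₁, e₁⟩ := hy
    obtain ⟨μ₂, h₂, e₂⟩ := hz
    refine ⟨μ₁ + μ₂, add_mem h₁ h₂, ?_⟩
    have : y + z - algebraMap R B (μ₁ + μ₂) =
        (y - algebraMap R B μ₁) + (z - algebraMap R B μ₂) := by rw [map_add]; ring
    rw [this]; exact add_mem e₁ e₂
  | smul b y _ hy =>
    obtain ⟨μ, hμ, e⟩ := hy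
    obtain ⟨r, hr⟩ := exists_const_sub_mem hB b
    refine ⟨r * μ, Ideal.mul_mem_left _ _ hμ, ?_⟩
    have : b • y - algebraMap R B (r * μ) =
        b * (y - algebraMap R B μ) + (b - algebraMap R B r) * algebraMap R B μ := by
      rw [smul_eq_mul, map_mul]; ring
    rw [this]
    exact add_mem (Ideal.mul_mem_left _ _ e) (Ideal.mul_mem_right _ _ hr)

theorem map_maximal_le_jacobson :
    (maximalIdeal R).map (algebraMap R B) ≤ Ideal.jacobson (⊥ : Ideal B) := by
  intro x hx
  rw [Ideal.mem_jacobson_bot]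
  intro y
  obtain ⟨μ, hμ, e⟩ := exists_mem_sub_mem hB (x * y) (Ideal.mul_mem_right _ _ hx)
  obtain ⟨c, hc⟩ := Ideal.mem_span_singleton'.mp e
  obtain ⟨v, hv⟩ := one_add_isUnit hμ
  have h1 : (x * y + 1) * algebraMap R B (↑v⁻¹ : R) =
      algebraMap R[X] B X * (c * algebraMap R B ↑v⁻¹) + 1 := by
    have h2 : x * y + 1 = algebraMap R B (1 + μ) + c * algebraMap R[X] B X := by
      rw [hc, map_add, map_one]; ring
    have h3 : algebraMap R B (1 + μ) * algebraMap R B (↑v⁻¹ : R) = 1 := by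
      rw [← map_mul, ← hv, Units.mul_inv, map_one]
    rw [h2, add_mul, h3]; ring
  have h4 : IsUnit ((x * y + 1) * algebraMap R B (↑v⁻¹ : R)) := by
    rw [h1]
    exact Ideal.mem_jacobson_bot.mp (tau_mem_jacobson hB) _
  exact isUnit_of_mul_isUnit_left h4

theorem sup_le_jacobson :
    Ideal.span {algebraMap R[X] B X} ⊔ (maximalIdeal R).map (algebraMap R B) ≤
      Ideal.jacobson (⊥ : Ideal B) :=
  sup_le ((Ideal.span_singleton_le_iff_mem _).mpr (tau_mem_jacobson hB))
    (map_maximal_le_jacobson hB)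

theorem isUnit_of_sub_mem (b : B) (r : R) (hr : IsUnit r)
    (h : b - algebraMap R B r ∈
      Ideal.span {algebraMap R[X] B X} ⊔ (maximalIdeal R).map (algebraMap R B)) : IsUnit b := by
  obtain ⟨v, rfl⟩ := hr
  have h1 := Ideal.mem_jacobson_bot.mp (sup_le_jacobson hB h) (algebraMap R B (↑v⁻¹ : R))
  have h2 : (b - algebraMap R B ↑v) * algebraMap R B (↑v⁻¹ : R) + 1 =
      b * algebraMap R B (↑v⁻¹ : R) := by
    have h3 : algebraMap R B (↑v : R) * algebraMap R B (↑v⁻¹ : R) = 1 := by
      rw [← map_mul, Units.mul_inv, map_one]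
    rw [sub_mul, h3]; ring
  rw [h2] at h1
  exact isUnit_of_mul_isUnit_left h1

theorem isUnit_of_notMem (b : B)
    (h : b ∉ Ideal.span {algebraMap R[X] B X} ⊔ (maximalIdeal R).map (algebraMap R B)) :
    IsUnit b := by
  obtain ⟨r, hr⟩ := exists_const_sub_mem hB b
  by_cases hrm : r ∈ maximalIdeal R
  · exfalso; apply h
    have : b = (b - algebraMap R B r) + algebraMap R B r := by ring
    rw [this]
    exact add_mem (Ideal.mem_sup_left hr) (Ideal.mem_sup_right (Ideal.mem_map_of_mem _ hrm))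
  · exact isUnit_of_sub_mem hB b r (IsLocalRing.notMem_maximalIdeal.mp hrm) (Ideal.mem_sup_left hr)

theorem exists_residueHom : ∃ χ : B →+* ResidueField R,
    (∀ r : R, χ (algebraMap R B r) = residue R r) ∧ χ (algebraMap R[X] B X) = 0 ∧
    RingHom.ker χ =
      Ideal.span {algebraMap R[X] B X} ⊔ (maximalIdeal R).map (algebraMap R B) := by
  obtain ⟨g₀, hg₀, -⟩ := hB.2 R ⊥ (Polynomial.evalRingHom (0 : R)) (henselianRing_bot R) (by
    rw [Ideal.map_span, Set.image_singleton, Polynomial.coe_evalRingHom, Polynomial.eval_X,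
      Ideal.span_singleton_eq_bot.mpr rfl])
  have hg₀' : ∀ p, g₀ (algebraMap R[X] B p) = p.eval 0 := fun p => RingHom.congr_fun hg₀ p
  have h1 : ∀ r : R, ((residue R).comp g₀) (algebraMap R B r) = residue R r := by
    intro r
    rw [← algebraMap_C, RingHom.comp_apply, hg₀', eval_C]
  have h2 : ((residue R).comp g₀) (algebraMap R[X] B X) = 0 := by
    rw [RingHom.comp_apply, hg₀', eval_X, map_zero]
  refine ⟨(residue R).comp g₀, h1, h2, le_antisymm ?_ ?_⟩
  · intro b hb
    by_contra hbn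
    have hu := (isUnit_of_notMem hB b hbn).map ((residue R).comp g₀)
    rw [RingHom.mem_ker.mp hb] at hu
    exact not_isUnit_zero hu
  · refine sup_le ((Ideal.span_singleton_le_iff_mem _).mpr (RingHom.mem_ker.mpr h2)) ?_
    rw [Ideal.map_le_iff_le_comap]
    intro μ hμ
    rw [Ideal.mem_comap, RingHom.mem_ker, h1]
    exact (residue_eq_zero_iff μ).mpr hμ

/-- coefficients of a polynomial whose image lies in `𝔪B + tⁿB`. -/
theorem coeff_mem_of_map_mem (n : ℕ) (q : R[X])
    (h : algebraMap R[X] B q ∈ (maximalIdeal R).map (algebraMap R B) ⊔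
      Ideal.span {(algebraMap R[X] B X) ^ n}) :
    ∀ i < n, q.coeff i ∈ maximalIdeal R := by
  have hX0 : Ideal.Quotient.mk (Ideal.span {(X : R[X]) ^ n}) (X ^ n) = 0 :=
    Ideal.Quotient.eq_zero_iff_mem.mpr (Ideal.mem_span_singleton_self _)
  have hD : HenselianRing (R[X] ⧸ Ideal.span {(X : R[X]) ^ n})
      ((Ideal.span {(X : R[X])}).map (Ideal.Quotient.mk (Ideal.span {(X : R[X]) ^ n}))) := by
    apply henselianRing_of_le_nilradical
    rw [Ideal.map_span, Set.image_singleton, Ideal.span_singleton_le_iff_mem, mem_nilradical]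
    exact ⟨n, by rw [← map_pow]; exact hX0⟩
  obtain ⟨g, hg, -⟩ := hB.2 _ _ (Ideal.Quotient.mk (Ideal.span {(X : R[X]) ^ n})) hD le_rfl
  have hg' : ∀ p, g (algebraMap R[X] B p) = Ideal.Quotient.mk (Ideal.span {(X : R[X]) ^ n}) p :=
    fun p => RingHom.congr_fun hg p
  obtain ⟨x, hx, y, hy, hxy⟩ := Submodule.mem_sup.mp h
  obtain ⟨c, rfl⟩ := Ideal.mem_span_singleton'.mp hy
  have hgy : g (c * (algebraMap R[X] B X) ^ n) = 0 := by
    rw [map_mul, ← map_pow, hg', hX0, mul_zero]
  have hgx : g x ∈ ((maximalIdeal R).map (C : R →+* R[X])).map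
      (Ideal.Quotient.mk (Ideal.span {(X : R[X]) ^ n})) := by
    rw [← map_map_C (B := B)] at hx
    have h1 := Ideal.mem_map_of_mem g hx
    rwa [Ideal.map_map, hg] at h1
  have hq : Ideal.Quotient.mk (Ideal.span {(X : R[X]) ^ n}) q ∈
      ((maximalIdeal R).map (C : R →+* R[X])).map
        (Ideal.Quotient.mk (Ideal.span {(X : R[X]) ^ n})) := by
    rw [← hg', ← hxy, map_add, hgy, add_zero]
    exact hgx
  obtain ⟨q', hq', hqq'⟩ :=
    (Ideal.mem_map_iff_of_surjective _ Ideal.Quotient.mk_surjective).mp hq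
  obtain ⟨d, hd⟩ := Ideal.mem_span_singleton'.mp
    ((Ideal.Quotient.eq (I := Ideal.span {(X : R[X]) ^ n})).mp hqq')
  intro i hi
  have h1 := congrArg (fun p => p.coeff i) hd
  simp only [coeff_sub, coeff_mul_X_pow', if_neg (not_le.mpr hi)] at h1
  have h2 : q.coeff i = q'.coeff i := by linear_combination h1
  rw [h2]
  exact Ideal.mem_map_C_iff.mp hq' i

end basics

section dist

variable {R : Type u} [CommRing R] [HenselianLocalRing R]

/-- distinguished (Weierstrass) polynomials. -/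
def IsDist (P : R[X]) : Prop :=
  P.Monic ∧ ∀ i : ℕ, i < P.natDegree → P.coeff i ∈ maximalIdeal R

theorem IsDist.pow_mem {P : R[X]} (hP : IsDist P) :
    (Ideal.Quotient.mk (Ideal.span {P}) X) ^ P.natDegree ∈
      (maximalIdeal R).map (algebraMap R (R[X] ⧸ Ideal.span {P})) := by
  have h0 : Ideal.Quotient.mk (Ideal.span {P}) P = 0 :=
    Ideal.Quotient.eq_zero_iff_mem.mpr (Ideal.mem_span_singleton_self P)
  have h1 := congrArg (Ideal.Quotient.mk (Ideal.span {P})) hP.1.as_sum
  rw [h0, map_add, map_pow, map_sum] at h1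
  have h2 : (Ideal.Quotient.mk (Ideal.span {P}) X) ^ P.natDegree =
      - ∑ i ∈ Finset.range P.natDegree,
        Ideal.Quotient.mk (Ideal.span {P}) (C (P.coeff i) * X ^ i) := by
    rw [eq_neg_iff_add_eq_zero]; exact h1.symm
  rw [h2]
  refine neg_mem (Ideal.sum_mem _ fun i hi => ?_)
  rw [map_mul]
  refine Ideal.mul_mem_right _ _ ?_
  have : Ideal.Quotient.mk (Ideal.span {P}) (C (P.coeff i)) =
      algebraMap R (R[X] ⧸ Ideal.span {P}) (P.coeff i) := by
    rfl
  rw [this]
  exact Ideal.mem_map_of_mem _ (hP.2 i (Finset.mem_range.mp hi))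

theorem henselian_quot {P : R[X]} (hP : IsDist P) (J : Ideal (R[X] ⧸ Ideal.span {P}))
    (hJ : J ≤ ((maximalIdeal R).map (algebraMap R (R[X] ⧸ Ideal.span {P}))).radical) :
    HenselianRing (R[X] ⧸ Ideal.span {P}) J := by
  haveI : Module.Finite R (R[X] ⧸ Ideal.span {P}) := hP.1.finite_adjoinRoot
  haveI : Algebra.IsIntegral R (R[X] ⧸ Ideal.span {P}) := Algebra.IsIntegral.of_finite R _
  have h1 := Groth.Agent.S0526.result R (maximalIdeal R) (R[X] ⧸ Ideal.span {P})
  exact Groth.Agent.Lib.Helper3.henselianRing_of_le_radical h1 hJ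

variable {B : Type u} [CommRing B] [Algebra R B] [Algebra R[X] B] [IsScalarTower R R[X] B]
  (hB : Hens2.IsPairHenselization R[X] (Ideal.span {(X : R[X])}) B)
include hB

theorem exists_hom_quot {P : R[X]} (hP : IsDist P) :
    ∃ g : B →+* R[X] ⧸ Ideal.span {P},
      g.comp (algebraMap R[X] B) = Ideal.Quotient.mk (Ideal.span {P}) := by
  have hD : HenselianRing (R[X] ⧸ Ideal.span {P})
      ((Ideal.span {(X : R[X])}).map (Ideal.Quotient.mk (Ideal.span {P}))) := by
    apply henselian_quot hP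
    rw [Ideal.map_span, Set.image_singleton, Ideal.span_singleton_le_iff_mem]
    exact Ideal.mem_radical_iff.mpr ⟨P.natDegree, hP.pow_mem⟩
  obtain ⟨g, hg, -⟩ := hB.2 _ _ (Ideal.Quotient.mk (Ideal.span {P})) hD le_rfl
  exact ⟨g, hg⟩

theorem quot_dist {P : R[X]} (hP : IsDist P) :
    (∀ b : B, ∃ q : R[X], algebraMap R[X] B q - b ∈ Ideal.span {algebraMap R[X] B P}) ∧
    (∀ q : R[X], algebraMap R[X] B q ∈ Ideal.span {algebraMap R[X] B P} →
      q ∈ Ideal.span {P}) := by
  obtain ⟨g₁, hg₁⟩ := exists_hom_quot hB hP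
  have hg₁' : ∀ p, g₁ (algebraMap R[X] B p) = Ideal.Quotient.mk (Ideal.span {P}) p :=
    fun p => RingHom.congr_fun hg₁ p
  have h0 : Ideal.Quotient.mk (Ideal.span {P}) P = 0 :=
    Ideal.Quotient.eq_zero_iff_mem.mpr (Ideal.mem_span_singleton_self P)
  constructor
  · obtain ⟨πB, hπB⟩ : ∃ πB : B →+* B ⧸ Ideal.span {algebraMap R[X] B P},
      πB = Ideal.Quotient.mk _ := ⟨_, rfl⟩
    have hπ0 : πB (algebraMap R[X] B P) = 0 := by
      rw [hπB]; exact Ideal.Quotient.eq_zero_iff_mem.mpr (Ideal.mem_span_singleton_self _)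
    have hkill : ∀ a ∈ Ideal.span {P}, (πB.comp (algebraMap R[X] B)) a = 0 := by
      intro a ha
      obtain ⟨c, rfl⟩ := Ideal.mem_span_singleton'.mp ha
      rw [RingHom.comp_apply, map_mul, map_mul, hπ0, mul_zero]
    obtain ⟨φ', hφ'⟩ : ∃ φ' : (R[X] ⧸ Ideal.span {P}) →+* (B ⧸ Ideal.span {algebraMap R[X] B P}),
        ∀ p, φ' (Ideal.Quotient.mk _ p) = πB (algebraMap R[X] B p) :=
      ⟨Ideal.Quotient.lift _ (πB.comp (algebraMap R[X] B)) hkill,
        fun p => Ideal.Quotient.lift_mk _ _ _⟩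
    haveI := hB.1
    haveI : Algebra.IsIntegral B (B ⧸ Ideal.span {algebraMap R[X] B P}) :=
      Algebra.IsIntegral.of_surjective (Ideal.Quotient.mkₐ B _)
        (Ideal.Quotient.mkₐ_surjective B _)
    have hQ := Groth.Agent.S0526.result B ((Ideal.span {(X : R[X])}).map (algebraMap R[X] B))
      (B ⧸ Ideal.span {algebraMap R[X] B P})
    have hle : (Ideal.span {(X : R[X])}).map (πB.comp (algebraMap R[X] B)) ≤
        ((Ideal.span {(X : R[X])}).map (algebraMap R[X] B)).map
          (algebraMap B (B ⧸ Ideal.span {algebraMap R[X] B P})) := by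
      rw [Ideal.map_map, hπB]; exact le_rfl
    obtain ⟨g, -, hgu⟩ := hB.2 _ _ (πB.comp (algebraMap R[X] B)) hQ hle
    have e1 : φ'.comp g₁ = g := hgu _ (RingHom.ext fun p => by
      rw [RingHom.comp_apply, RingHom.comp_apply, hg₁', hφ', RingHom.comp_apply])
    have e2 : πB = g := hgu _ rfl
    intro b
    obtain ⟨q, hq⟩ := Ideal.Quotient.mk_surjective (g₁ b)
    refine ⟨q, ?_⟩
    have h3 : πB b = φ' (g₁ b) := by rw [e2, ← e1]; rfl
    rw [← Ideal.Quotient.eq_zero_iff_mem, ← hπB, map_sub, sub_eq_zero, h3, ← hq, hφ']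
  · intro q hq
    obtain ⟨c, hc⟩ := Ideal.mem_span_singleton'.mp hq
    have := congrArg g₁ hc
    rw [map_mul, hg₁', hg₁', h0, mul_zero] at this
    exact Ideal.Quotient.eq_zero_iff_mem.mp this.symm

end dist

end Groth.Agent.Lib.Helper4.HW1
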