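import Mathlib
import Groth.Agent.Lib.Helper4.HW1
import Groth.Agent.Lib.Helper8.HenselSplit

/-!
Helper4: Henselian Weierstrass preparation for `R{t}`, part 2: for `w ≡ tᵏ` modulo `𝔪`, the
quotient `R{t}/(w)` is a finite `R`-module (via the structure of quasi-finite algebras over a
Henselian local ring), and `w` is a unit times a distinguished polynomial of degree `k`.
-/

set_option autoImplicit false
set_option linter.style.haveILetI false
set_option linter.unusedSectionVars false
set_option linter.unusedVariables false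
set_option maxHeartbeats 800000

namespace Groth.Agent.Lib.Helper4.HW2

open Polynomial IsLocalRing TensorProduct
open Groth.Agent.Lib.Helper26.PairHensNbhd
open Groth.Agent.Lib.Helper4.HW1

universe u

section fiber

theorem finite_fiber_of_span {R S : Type*} [CommRing R] [CommRing S] [Algebra R S]
    (p : Ideal R) [p.IsPrime] (n : ℕ) (y : Fin n → S)
    (h : ∀ x : S, ∃ c : Fin n → R, x - ∑ i, c i • y i ∈ p.map (algebraMap R S)) :
    Module.Finite p.ResidueField (p.Fiber S) := by
  have e1 : ∀ s : S, (Algebra.TensorProduct.includeRight : S →ₐ[R] p.Fiber S) s =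
      (1 : p.ResidueField) ⊗ₜ[R] s := fun s => rfl
  have h2 : p.map (algebraMap R S) ≤
      RingHom.ker (Algebra.TensorProduct.includeRight : S →ₐ[R] p.Fiber S).toRingHom := by
    rw [Ideal.map_le_iff_le_comap]
    intro π hπ
    rw [Ideal.mem_comap, RingHom.mem_ker]
    show (Algebra.TensorProduct.includeRight : S →ₐ[R] p.Fiber S) (algebraMap R S π) = 0
    rw [AlgHom.commutes, Algebra.TensorProduct.algebraMap_apply,
      Ideal.algebraMap_residueField_eq_zero.mpr hπ, TensorProduct.zero_tmul]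
  have key : ∀ z : p.Fiber S, z ∈ Submodule.span p.ResidueField
      (Set.range fun i => (1 : p.ResidueField) ⊗ₜ[R] y i) := by
    intro z
    induction z using TensorProduct.induction_on with
    | zero => exact zero_mem _
    | add a b ha hb => exact add_mem ha hb
    | tmul a x =>
      have h1 : a ⊗ₜ[R] x = a • ((1 : p.ResidueField) ⊗ₜ[R] x) := by
        rw [TensorProduct.smul_tmul', smul_eq_mul, mul_one]
      rw [h1]
      refine Submodule.smul_mem _ _ ?_
      obtain ⟨c, hc⟩ := h x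
      have h5 : (Algebra.TensorProduct.includeRight : S →ₐ[R] p.Fiber S)
          (x - ∑ i, c i • y i) = 0 := h2 hc
      rw [map_sub, map_sum, sub_eq_zero] at h5
      have h3 : (1 : p.ResidueField) ⊗ₜ[R] x =
          ∑ i, c i • ((1 : p.ResidueField) ⊗ₜ[R] y i) := by
        rw [e1] at h5
        rw [h5]
        refine Finset.sum_congr rfl fun i _ => ?_
        rw [map_smul, e1]
      rw [h3]
      refine Submodule.sum_mem _ fun i _ => ?_
      rw [← algebraMap_smul p.ResidueField (c i)]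
      exact Submodule.smul_mem _ _ (Submodule.subset_span ⟨i, rfl⟩)
  have htop : Submodule.span p.ResidueField
      (Set.range fun i => (1 : p.ResidueField) ⊗ₜ[R] y i) = ⊤ :=
    eq_top_iff.mpr fun z _ => key z
  refine ⟨?_⟩
  rw [← htop]
  exact Submodule.fg_span (Set.finite_range _)

theorem quasiFiniteAt_of_span {R S : Type*} [CommRing R] [CommRing S] [Algebra R S]
    [Algebra.FiniteType R S] (q : Ideal S) [hq : q.IsPrime] (n : ℕ) (y : Fin n → S)
    (h : ∀ x : S, ∃ c : Fin n → R,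
      x - ∑ i, c i • y i ∈ (q.comap (algebraMap R S)).map (algebraMap R S)) :
    Algebra.QuasiFiniteAt R q := by
  let q₀ : PrimeSpectrum S := ⟨q, hq⟩
  let p := q₀.comap (algebraMap R S)
  let e := PrimeSpectrum.preimageHomeomorphFiber R S p
  haveI : q₀.asIdeal.LiesOver p.asIdeal := ⟨rfl⟩
  haveI : Module.Finite p.asIdeal.ResidueField (p.asIdeal.Fiber S) :=
    finite_fiber_of_span p.asIdeal n y h
  haveI : Algebra.QuasiFiniteAt p.asIdeal.ResidueField (e ⟨q₀, rfl⟩).asIdeal := inferInstance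
  exact Algebra.QuasiFiniteAt.of_quasiFiniteAt_residueField p.asIdeal q₀.asIdeal
    (e ⟨q₀, rfl⟩).asIdeal congr($(e.symm_apply_apply ⟨q₀, rfl⟩).1.asIdeal)

end fiber

section main

variable {R : Type u} [CommRing R] [HenselianLocalRing R] {B : Type u} [CommRing B] [Algebra R B]
  [Algebra R[X] B] [IsScalarTower R R[X] B]

theorem finite_quot_aux (hB : Hens2.IsPairHenselization R[X] (Ideal.span {(X : R[X])}) B)
    {A' : Type u} [CommRing A'] [Algebra R[X] A'] [Algebra R A'] [IsScalarTower R R[X] A']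
    [Algebra.Etale R[X] A'] (hA' : QuotBij (Ideal.span {(X : R[X])}) A') (φ : A' →ₐ[R[X]] B)
    (sA : A') (k : ℕ) (hk : 1 ≤ k)
    (hs : sA - (algebraMap R[X] A' X) ^ k ∈ (maximalIdeal R).map (algebraMap R A')) :
    Module.Finite R (B ⧸ Ideal.span {φ sA}) := by
  classical
  obtain ⟨χ, hχR, hχτ, hχker⟩ := exists_residueHom hB
  obtain ⟨t', ht'⟩ : ∃ t' : A', t' = algebraMap R[X] A' X := ⟨_, rfl⟩
  rw [← ht'] at hs
  have hφt : φ t' = algebraMap R[X] B X := by rw [ht']; exact φ.commutes X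
  have hφR : ∀ r : R, φ (algebraMap R A' r) = algebraMap R B r := by
    intro r
    rw [IsScalarTower.algebraMap_apply R R[X] A', φ.commutes, ← IsScalarTower.algebraMap_apply]
  -- congruence of `A'` with polynomials modulo `t'^k`
  have hcong : ∀ x : A', ∃ a : R[X], x - algebraMap R[X] A' a ∈ Ideal.span {t' ^ k} := by
    letI : Algebra A' B := φ.toRingHom.toAlgebra
    haveI : IsScalarTower R[X] A' B :=
      IsScalarTower.of_algebraMap_eq fun p => (φ.commutes p).symm
    have hB' := isPairHenselization_of_nbhd hB hA'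
    have h1 := ((quotBij_iff _ B).mp (quotBij_pow hB k)).1
    have h2 := ((quotBij_iff _ B).mp (quotBij_pow hB' k)).2
    intro x
    obtain ⟨a, ha⟩ := h1 (φ x)
    have h3 : x - algebraMap R[X] A' a ∈
        ((Ideal.span {(X : R[X])}).map (algebraMap R[X] A')) ^ k := by
      apply h2
      have e1 : (((Ideal.span {(X : R[X])}).map (algebraMap R[X] A')) ^ k).map
          (algebraMap A' B) = ((Ideal.span {(X : R[X])}) ^ k).map (algebraMap R[X] B) := by
        rw [← Ideal.map_pow, Ideal.map_map, ← IsScalarTower.algebraMap_eq]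
      rw [e1]
      have e3 : algebraMap A' B (algebraMap R[X] A' a) = algebraMap R[X] B a :=
        (IsScalarTower.algebraMap_apply R[X] A' B a).symm
      have e4 : algebraMap A' B x = φ x := rfl
      rw [map_sub, e3, e4]
      exact ha
    rw [Ideal.map_span, Set.image_singleton, Ideal.span_singleton_pow, ← ht'] at h3
    exact ⟨a, h3⟩
  -- the image `w` of `sA`
  have hw : φ sA - (algebraMap R[X] B X) ^ k ∈ (maximalIdeal R).map (algebraMap R B) := by
    have h2 := Ideal.mem_map_of_mem φ.toRingHom hs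
    rw [Ideal.map_map] at h2
    have h3 : φ.toRingHom.comp (algebraMap R A') = algebraMap R B := RingHom.ext hφR
    rw [h3] at h2
    have h4 : φ.toRingHom (sA - t' ^ k) = φ sA - (algebraMap R[X] B X) ^ k := by
      show φ (sA - t' ^ k) = _
      rw [map_sub, map_pow, hφt]
    rwa [h4] at h2
  have hχw : χ (φ sA) = 0 := by
    have h5 : φ sA - (algebraMap R[X] B X) ^ k ∈ RingHom.ker χ := by
      rw [hχker]; exact Ideal.mem_sup_right hw
    rw [RingHom.mem_ker, map_sub, map_pow, hχτ, zero_pow (by omega), sub_zero] at h5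
    exact h5
  -- the quotient `E' = A'/(sA)`
  haveI ftA : Algebra.FiniteType R A' :=
    Algebra.FiniteType.trans (S := R[X]) inferInstance inferInstance
  haveI ftE : Algebra.FiniteType R (A' ⧸ Ideal.span {sA}) := inferInstance
  let π' : A' →+* A' ⧸ Ideal.span {sA} := Ideal.Quotient.mk _
  have hπ's : π' sA = 0 :=
    Ideal.Quotient.eq_zero_iff_mem.mpr (Ideal.mem_span_singleton_self _)
  have hπ'surj : Function.Surjective π' := Ideal.Quotient.mk_surjective
  have hπ'alg : ∀ r : R, π' (algebraMap R A' r) = algebraMap R (A' ⧸ Ideal.span {sA}) r :=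
    fun r => rfl
  have hπ'smul : ∀ (r : R) (a : A'), π' (r • a) = r • π' a :=
    fun r a => map_smul (Ideal.Quotient.mkₐ R (Ideal.span {sA})) r a
  obtain ⟨χ₁, hχ₁⟩ : ∃ χ₁ : (A' ⧸ Ideal.span {sA}) →+* ResidueField R,
      ∀ a : A', χ₁ (π' a) = χ (φ a) := by
    refine ⟨Ideal.Quotient.lift (Ideal.span {sA}) (χ.comp φ.toRingHom) ?_, fun a => ?_⟩
    · intro a ha
      obtain ⟨c, rfl⟩ := Ideal.mem_span_singleton'.mp ha
      show χ (φ (c * sA)) = 0
      rw [map_mul, map_mul, hχw, mul_zero]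
    · exact Ideal.Quotient.lift_mk _ _ _
  haveI hq'prime : (RingHom.ker χ₁).IsPrime := RingHom.ker_isPrime χ₁
  have hq'comap : (RingHom.ker χ₁).comap (algebraMap R (A' ⧸ Ideal.span {sA})) =
      maximalIdeal R := by
    ext r
    rw [Ideal.mem_comap, RingHom.mem_ker, ← hπ'alg, hχ₁, hφR, hχR, residue_eq_zero_iff]
  haveI hlies : (RingHom.ker χ₁).LiesOver (maximalIdeal R) := ⟨hq'comap.symm⟩
  have hMk : π' (t' ^ k) ∈ (maximalIdeal R).map (algebraMap R (A' ⧸ Ideal.span {sA})) := by
    have h1 := Ideal.mem_map_of_mem π' hs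
    rw [Ideal.map_map, map_sub, hπ's, zero_sub] at h1
    have h2 := neg_mem h1
    rw [neg_neg] at h2
    exact h2
  haveI hqf : Algebra.QuasiFiniteAt R (RingHom.ker χ₁) := by
    refine quasiFiniteAt_of_span (RingHom.ker χ₁) k (fun i => π' (t' ^ (i : ℕ))) ?_
    rw [hq'comap]
    intro x
    obtain ⟨xA, rfl⟩ := hπ'surj x
    obtain ⟨a, ha⟩ := hcong xA
    obtain ⟨c, d, hcd⟩ := exists_trunc (S := A') a k hk
    rw [← ht'] at hcd
    refine ⟨c, ?_⟩
    obtain ⟨z, hz⟩ := Ideal.mem_span_singleton'.mp ha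
    have h1 : xA - ∑ i : Fin k, c i • t' ^ (i : ℕ) = (z + algebraMap R[X] A' d) * t' ^ k := by
      rw [add_mul, hz, hcd]; ring
    have h2 : π' xA - ∑ i : Fin k, c i • π' (t' ^ (i : ℕ)) =
        π' (z + algebraMap R[X] A' d) * π' (t' ^ k) := by
      rw [← map_mul, ← h1, map_sub, map_sum]
      congr 1 <;> exact Finset.sum_congr rfl fun i _ => (hπ'smul _ _).symm
    rw [h2]
    exact Ideal.mul_mem_left _ _ hMk
  -- the idempotent splitting off the finite part
  obtain ⟨e, he, hefin, heq⟩ :=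
    Groth.Agent.Lib.Helper8.exists_idempotent_finite_of_finiteType R (A' ⧸ Ideal.span {sA})
  have heq' : e ∉ RingHom.ker χ₁ := heq (RingHom.ker χ₁) hlies hqf
  obtain ⟨eA, heA⟩ := hπ'surj e
  have hunit : IsUnit (φ eA) := by
    apply isUnit_of_notMem hB
    rw [← hχker, RingHom.mem_ker]
    intro h0
    apply heq'
    rw [RingHom.mem_ker, ← heA]
    exact (hχ₁ eA).trans h0
  -- maps to `Q = B/(w)`
  let πw : B →+* B ⧸ Ideal.span {φ sA} := Ideal.Quotient.mk _
  have hπw : πw (φ sA) = 0 :=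
    Ideal.Quotient.eq_zero_iff_mem.mpr (Ideal.mem_span_singleton_self _)
  let ψ₀ : A' →ₐ[R] B ⧸ Ideal.span {φ sA} :=
    (Ideal.Quotient.mkₐ R (Ideal.span {φ sA})).comp (φ.restrictScalars R)
  have hψ₀ : ∀ a, ψ₀ a = πw (φ a) := fun a => rfl
  let φ₁ : (A' ⧸ Ideal.span {sA}) →ₐ[R] B ⧸ Ideal.span {φ sA} :=
    Ideal.Quotient.liftₐ (Ideal.span {sA}) ψ₀ (by
      intro a ha
      obtain ⟨c, rfl⟩ := Ideal.mem_span_singleton'.mp ha
      rw [map_mul, hψ₀ sA, hπw, mul_zero])
  have hφ₁ : ∀ a, φ₁ (π' a) = πw (φ a) := fun a => rfl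
  have hφ₁e : φ₁ e = 1 := by
    have hidem : φ₁ e * φ₁ e = φ₁ e := by rw [← map_mul, he.eq]
    have hu : IsUnit (φ₁ e) := by
      rw [← heA, hφ₁]; exact hunit.map πw
    exact hu.mul_left_cancel (by rw [hidem, mul_one])
  let φ₂ : ((A' ⧸ Ideal.span {sA}) ⧸ Ideal.span {1 - e}) →ₐ[R] B ⧸ Ideal.span {φ sA} :=
    Ideal.Quotient.liftₐ (Ideal.span {1 - e}) φ₁ (by
      intro a ha
      obtain ⟨c, rfl⟩ := Ideal.mem_span_singleton'.mp ha
      rw [map_mul, map_sub, map_one, hφ₁e, sub_self, mul_zero])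
  let π₁ : A' →+* (A' ⧸ Ideal.span {sA}) ⧸ Ideal.span {1 - e} :=
    (Ideal.Quotient.mk (Ideal.span {1 - e})).comp π'
  have hφ₂ : ∀ a : A', φ₂ (π₁ a) = πw (φ a) := fun a => rfl
  let f : R[X] →+* (A' ⧸ Ideal.span {sA}) ⧸ Ideal.span {1 - e} :=
    π₁.comp (algebraMap R[X] A')
  haveI := hefin
  have hD : HenselianRing ((A' ⧸ Ideal.span {sA}) ⧸ Ideal.span {1 - e})
      ((Ideal.span {(X : R[X])}).map f) := by
    haveI : Algebra.IsIntegral R ((A' ⧸ Ideal.span {sA}) ⧸ Ideal.span {1 - e}) :=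
      Algebra.IsIntegral.of_finite R _
    have h1 := Groth.Agent.S0526.result R (maximalIdeal R)
      ((A' ⧸ Ideal.span {sA}) ⧸ Ideal.span {1 - e})
    refine Groth.Agent.Lib.Helper3.henselianRing_of_le_radical h1 ?_
    rw [Ideal.map_span, Set.image_singleton, Ideal.span_singleton_le_iff_mem]
    refine Ideal.mem_radical_iff.mpr ⟨k, ?_⟩
    have h2 := Ideal.mem_map_of_mem (Ideal.Quotient.mk (Ideal.span {1 - e})) hMk
    rw [Ideal.map_map] at h2
    have h3 : (f X) ^ k = Ideal.Quotient.mk (Ideal.span {1 - e}) (π' (t' ^ k)) := by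
      rw [map_pow, map_pow, ht']; rfl
    rw [h3]; exact h2
  obtain ⟨g, hg, -⟩ := hB.2 _ _ f hD le_rfl
  have hg' : ∀ p, g (algebraMap R[X] B p) = f p := fun p => RingHom.congr_fun hg p
  haveI := hB.1
  haveI : Algebra.IsIntegral B (B ⧸ Ideal.span {φ sA}) :=
    Algebra.IsIntegral.of_surjective (Ideal.Quotient.mkₐ B _)
      (Ideal.Quotient.mkₐ_surjective B _)
  have hQ := Groth.Agent.S0526.result B ((Ideal.span {(X : R[X])}).map (algebraMap R[X] B))
    (B ⧸ Ideal.span {φ sA})
  have hle : (Ideal.span {(X : R[X])}).map (πw.comp (algebraMap R[X] B)) ≤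
      ((Ideal.span {(X : R[X])}).map (algebraMap R[X] B)).map
        (algebraMap B (B ⧸ Ideal.span {φ sA})) := by
    rw [Ideal.map_map]; exact le_rfl
  obtain ⟨g', -, hgu⟩ := hB.2 _ _ (πw.comp (algebraMap R[X] B)) hQ hle
  have e1 : (φ₂ : _ →+* B ⧸ Ideal.span {φ sA}).comp g = g' := hgu _ (RingHom.ext fun p => by
    show φ₂ (g (algebraMap R[X] B p)) = πw (algebraMap R[X] B p)
    rw [hg']
    show φ₂ (π₁ (algebraMap R[X] A' p)) = πw (algebraMap R[X] B p)
    rw [hφ₂, φ.commutes])
  have e2 : πw = g' := hgu _ rfl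
  refine Module.Finite.of_surjective φ₂.toLinearMap ?_
  intro z
  obtain ⟨b, rfl⟩ := Ideal.Quotient.mk_surjective z
  refine ⟨g b, ?_⟩
  have h9 : πw b = (φ₂ : _ →+* B ⧸ Ideal.span {φ sA}) (g b) := by rw [e2, ← e1]; rfl
  exact h9.symm

theorem finite_quot (hB : Hens2.IsPairHenselization R[X] (Ideal.span {(X : R[X])}) B)
    (w : B) (k : ℕ) (hk : 1 ≤ k)
    (hw : w - (algebraMap R[X] B X) ^ k ∈ (maximalIdeal R).map (algebraMap R B)) :
    Module.Finite R (B ⧸ Ideal.span {w}) := by
  classical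
  have hw' : w - (algebraMap R[X] B X) ^ k ∈
      Submodule.span B (algebraMap R B '' (maximalIdeal R : Set R)) := hw
  obtain ⟨n, b, g, hsum⟩ := Submodule.mem_span_set'.mp hw'
  choose μ hμ hμg using fun i => (g i).2
  obtain ⟨A', _, _, _, hA', φ, hφ⟩ :=
    Groth.Agent.Lib.Helper26.PairHensOps.exists_nbhd_of_finset hB (Finset.univ.image b)
  letI : Algebra R A' := ((algebraMap R[X] A').comp (algebraMap R R[X])).toAlgebra
  haveI : IsScalarTower R R[X] A' := IsScalarTower.of_algebraMap_eq fun _ => rfl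
  have hφ' : ∀ i, ∃ y, φ y = b i :=
    fun i => hφ (b i) (Finset.mem_image_of_mem b (Finset.mem_univ i))
  choose yA hyA using hφ'
  have hφR : ∀ r : R, φ (algebraMap R A' r) = algebraMap R B r := by
    intro r
    rw [IsScalarTower.algebraMap_apply R R[X] A', φ.commutes, ← IsScalarTower.algebraMap_apply]
  obtain ⟨sA, hsA⟩ : ∃ sA : A',
      sA = (algebraMap R[X] A' X) ^ k + ∑ i, yA i * algebraMap R A' (μ i) := ⟨_, rfl⟩
  have hs : sA - (algebraMap R[X] A' X) ^ k ∈ (maximalIdeal R).map (algebraMap R A') := by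
    rw [hsA, add_sub_cancel_left]
    exact Ideal.sum_mem _ fun i _ => Ideal.mul_mem_left _ _ (Ideal.mem_map_of_mem _ (hμ i))
  have hφs : φ sA = w := by
    rw [hsA, map_add, map_pow, φ.commutes, map_sum]
    have h1 : ∑ i, φ (yA i * algebraMap R A' (μ i)) = w - (algebraMap R[X] B X) ^ k := by
      rw [← hsum]
      refine Finset.sum_congr rfl fun i _ => ?_
      rw [map_mul, hyA, hφR, smul_eq_mul, ← hμg i]
    rw [h1]; ring
  have h2 := finite_quot_aux hB hA' φ sA k hk hs
  rwa [hφs] at h2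

/-- Weierstrass preparation: `w ≡ tᵏ` modulo `𝔪` is a unit times a distinguished polynomial. -/
theorem exists_dist_mul (hB : Hens2.IsPairHenselization R[X] (Ideal.span {(X : R[X])}) B)
    (w : B) (k : ℕ)
    (hw : w - (algebraMap R[X] B X) ^ k ∈ (maximalIdeal R).map (algebraMap R B)) :
    ∃ P : R[X], IsDist P ∧ P.natDegree = k ∧ ∃ u : Bˣ, algebraMap R[X] B P = w * u := by
  rcases Nat.eq_zero_or_pos k with rfl | hk
  · rw [pow_zero] at hw
    have hu : IsUnit w := by
      refine isUnit_of_sub_mem hB w 1 isUnit_one ?_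
      rw [map_one]; exact Ideal.mem_sup_right hw
    refine ⟨1, ⟨monic_one, fun i hi => ?_⟩, natDegree_one, hu.unit⁻¹, ?_⟩
    · rw [natDegree_one] at hi; exact absurd hi (Nat.not_lt_zero _)
    · rw [map_one, IsUnit.mul_val_inv]
  · haveI := finite_quot hB w k hk hw
    obtain ⟨τ, hτ⟩ : ∃ τ : B, τ = algebraMap R[X] B X := ⟨_, rfl⟩
    rw [← hτ] at hw
    let πw : B →+* B ⧸ Ideal.span {w} := Ideal.Quotient.mk _
    have hπw : πw w = 0 :=
      Ideal.Quotient.eq_zero_iff_mem.mpr (Ideal.mem_span_singleton_self _)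
    have hπR : ∀ (r : R) (b : B), πw (r • b) = r • πw b :=
      fun r b => map_smul (Ideal.Quotient.mkₐ R (Ideal.span {w})) r b
    have hτkI : πw (τ ^ k) ∈ (maximalIdeal R).map (algebraMap R (B ⧸ Ideal.span {w})) := by
      have h1 := Ideal.mem_map_of_mem πw hw
      rw [Ideal.map_map, map_sub, hπw, zero_sub] at h1
      have h2 := neg_mem h1
      rw [neg_neg] at h2
      exact h2
    have hcov : (⊤ : Submodule R (B ⧸ Ideal.span {w})) ≤
        Submodule.span R (Set.range fun i : Fin k => πw (τ ^ (i : ℕ))) ⊔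
          maximalIdeal R • ⊤ := by
      intro z _
      obtain ⟨b, rfl⟩ := Ideal.Quotient.mk_surjective z
      obtain ⟨a, ha⟩ := ((quotBij_iff _ B).mp (quotBij_pow hB k)).1 b
      rw [Ideal.map_pow, map_span_X, Ideal.span_singleton_pow, ← hτ] at ha
      obtain ⟨z', hz'⟩ := Ideal.mem_span_singleton'.mp ha
      obtain ⟨c, d, hcd⟩ := exists_trunc (S := B) a k hk
      rw [← hτ] at hcd
      have hb : b = ∑ i : Fin k, c i • τ ^ (i : ℕ) + (algebraMap R[X] B d + z') * τ ^ k := by
        have h1 : b = algebraMap R[X] B a + z' * τ ^ k := by rw [hz']; ring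
        rw [h1, hcd]; ring
      have hz : πw b = ∑ i : Fin k, c i • πw (τ ^ (i : ℕ)) +
          πw (algebraMap R[X] B d + z') * πw (τ ^ k) := by
        conv_lhs => rw [hb]
        rw [map_add, map_mul, map_sum]
        congr 1 <;> exact Finset.sum_congr rfl fun i _ => hπR _ _
      refine Submodule.mem_sup.mpr ⟨_, ?_, _, ?_, hz.symm⟩
      · exact Submodule.sum_mem _ fun i _ =>
          Submodule.smul_mem _ _ (Submodule.subset_span ⟨i, rfl⟩)
      · rw [Ideal.smul_top_eq_map, Submodule.restrictScalars_mem]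
        exact Ideal.mul_mem_left _ _ hτkI
    have hjac : maximalIdeal R ≤ Ideal.jacobson (⊥ : Ideal R) := by
      rw [IsLocalRing.jacobson_eq_maximalIdeal ⊥ bot_ne_top]
    have hNtop := Submodule.le_of_le_smul_of_le_jacobson_bot Module.Finite.fg_top hjac hcov
    have hmem : πw (τ ^ k) ∈
        Submodule.span R (Set.range fun i : Fin k => πw (τ ^ (i : ℕ))) :=
      hNtop Submodule.mem_top
    obtain ⟨c, hc0⟩ := (Submodule.mem_span_range_iff_exists_fun R).mp hmem
    have hc : ∑ i : Fin k, c i • πw (τ ^ (i : ℕ)) = πw (τ ^ k) := hc0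
    obtain ⟨P, hPdef⟩ : ∃ P : R[X], P = X ^ k - ∑ i : Fin k, C (c i) * X ^ (i : ℕ) := ⟨_, rfl⟩
    have hdeg : (∑ i : Fin k, C (c i) * X ^ (i : ℕ)).degree < (k : WithBot ℕ) :=
      degree_sum_fin_lt c
    have hPmonic : P.Monic := by rw [hPdef]; exact monic_X_pow_sub hdeg
    have hPnat : P.natDegree = k := by
      apply natDegree_eq_of_degree_eq_some
      rw [hPdef, degree_sub_eq_left_of_degree_lt, degree_X_pow]
      rw [degree_X_pow]; exact hdeg
    have hPmap : algebraMap R[X] B P = τ ^ k - ∑ i : Fin k, c i • τ ^ (i : ℕ) := by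
      rw [hPdef, map_sub, map_pow, map_sum, ← hτ]
      congr 1
      refine Finset.sum_congr rfl fun i _ => ?_
      rw [map_mul, map_pow, algebraMap_C, Algebra.smul_def, ← hτ]
    have hPw : πw (algebraMap R[X] B P) = 0 := by
      rw [hPmap, map_sub, map_sum, sub_eq_zero, ← hc]
      exact Finset.sum_congr rfl fun i _ => (hπR _ _).symm
    obtain ⟨c', hc'⟩ := Ideal.mem_span_singleton'.mp (Ideal.Quotient.eq_zero_iff_mem.mp hPw)
    obtain ⟨c₀, hc₀⟩ := exists_const_sub_mem hB c'
    have hmem2 : algebraMap R[X] B (P - C c₀ * X ^ k) ∈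
        (maximalIdeal R).map (algebraMap R B) ⊔
          Ideal.span {(algebraMap R[X] B X) ^ (k + 1)} := by
      obtain ⟨d, hd⟩ := Ideal.mem_span_singleton'.mp hc₀
      rw [← hτ] at hd ⊢
      have h1 : algebraMap R[X] B (P - C c₀ * X ^ k) =
          c' * (w - τ ^ k) + d * τ ^ (k + 1) := by
        rw [map_sub, map_mul, map_pow, algebraMap_C, ← hc', ← hτ]
        have h2 : algebraMap R B c₀ = c' - d * τ := by rw [hd]; ring
        rw [h2]; ring
      rw [h1]
      exact Submodule.add_mem_sup (Ideal.mul_mem_left _ _ hw)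
        (Ideal.mul_mem_left _ _ (Ideal.mem_span_singleton_self _))
    have hcoef := coeff_mem_of_map_mem hB (k + 1) _ hmem2
    have hPdist : IsDist P := by
      refine ⟨hPmonic, fun i hi => ?_⟩
      rw [hPnat] at hi
      have h3 := hcoef i (by omega)
      rwa [coeff_sub, coeff_C_mul_X_pow, if_neg (by omega), sub_zero] at h3
    have hc₀unit : IsUnit c₀ := by
      apply isUnit_of_one_sub_mem
      have h3 := hcoef k (by omega)
      rw [coeff_sub, coeff_C_mul_X_pow, if_pos rfl] at h3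
      have h2 : P.coeff k = 1 := by
        have := hPmonic.coeff_natDegree
        rwa [hPnat] at this
      rwa [h2] at h3
    have hc'unit : IsUnit c' := isUnit_of_sub_mem hB c' c₀ hc₀unit (Ideal.mem_sup_left hc₀)
    refine ⟨P, hPdist, hPnat, hc'unit.unit, ?_⟩
    rw [← hc', IsUnit.unit_spec, mul_comm]

end main

end Groth.Agent.Lib.Helper4.HW2
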