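import Mathlib
import Groth.Agent.Lib.Helper4.HW2
import Groth.Agent.Lib.Helper26.PairHensConstr
import Groth.Agent.Lib.Helper27.PairHensNoeth

/-!
Helper4: Henselian Weierstrass preparation for `R{t}`, part 3: every `f ∉ 𝔪 R{t}` is
`tᵏ · unit` modulo `𝔪`, and the Weierstrass preparation theorem.
-/

set_option autoImplicit false
set_option linter.style.haveILetI false
set_option linter.unusedSectionVars false
set_option linter.unusedVariables false
set_option maxHeartbeats 800000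

namespace Groth.Agent.Lib.Helper4.HW3

open Polynomial IsLocalRing
open Groth.Agent.Lib.Helper26.PairHensNbhd
open Groth.Agent.Lib.Helper4.HW1 Groth.Agent.Lib.Helper4.HW2

universe u

variable {R : Type u} [CommRing R] [HenselianLocalRing R] {B : Type u} [CommRing B] [Algebra R B]
  [Algebra R[X] B] [IsScalarTower R R[X] B]

theorem mem_of_forall_mem (hB : Hens2.IsPairHenselization R[X] (Ideal.span {(X : R[X])}) B)
    (f : B)
    (h : ∀ n : ℕ, f ∈ (maximalIdeal R).map (algebraMap R B) ⊔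
      Ideal.span {(algebraMap R[X] B X) ^ n}) :
    f ∈ (maximalIdeal R).map (algebraMap R B) := by
  obtain ⟨𝔞, h𝔞⟩ : ∃ 𝔞 : Ideal R[X], 𝔞 = (maximalIdeal R).map (C : R →+* R[X]) := ⟨_, rfl⟩
  have hBq := Groth.Agent.Lib.Helper26.PairHensOps.isPairHenselization_quotient hB 𝔞
  haveI : IsNoetherianRing (R ⧸ maximalIdeal R) :=
    (inferInstance : IsNoetherianRing (ResidueField R))
  haveI : IsNoetherianRing (R[X] ⧸ 𝔞) := by
    rw [h𝔞]
    exact isNoetherianRing_of_ringEquiv _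
      (Ideal.polynomialQuotientEquivQuotientPolynomial (maximalIdeal R))
  obtain ⟨hNoeth, -, -⟩ := Groth.Agent.Lib.Helper27.PairHensNoeth.main (R[X] ⧸ 𝔞) _
    (B ⧸ 𝔞.map (algebraMap R[X] B)) hBq
  haveI := hNoeth
  have hJjac := hBq.1.jac
  have h0 := Ideal.iInf_pow_smul_eq_bot_of_le_jacobson
    (M := B ⧸ 𝔞.map (algebraMap R[X] B)) _ hJjac
  have hτJ : Ideal.Quotient.mk (𝔞.map (algebraMap R[X] B)) (algebraMap R[X] B X) ∈
      ((Ideal.span {(X : R[X])}).map (Ideal.Quotient.mk 𝔞)).map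
        (algebraMap (R[X] ⧸ 𝔞) (B ⧸ 𝔞.map (algebraMap R[X] B))) :=
    Ideal.mem_map_of_mem _ (Ideal.mem_map_of_mem _ (Ideal.mem_span_singleton_self X))
  have h𝔞B : 𝔞.map (algebraMap R[X] B) = (maximalIdeal R).map (algebraMap R B) := by
    rw [h𝔞]; exact map_map_C
  have hmem : Ideal.Quotient.mk (𝔞.map (algebraMap R[X] B)) f ∈
      (⨅ i : ℕ, (((Ideal.span {(X : R[X])}).map (Ideal.Quotient.mk 𝔞)).map
        (algebraMap (R[X] ⧸ 𝔞) (B ⧸ 𝔞.map (algebraMap R[X] B)))) ^ i • ⊤ :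
          Submodule (B ⧸ 𝔞.map (algebraMap R[X] B)) (B ⧸ 𝔞.map (algebraMap R[X] B))) := by
    rw [Submodule.mem_iInf]
    intro i
    rw [smul_eq_mul, Ideal.mul_top]
    obtain ⟨x, hx, y, hy, hxy⟩ := Submodule.mem_sup.mp (h i)
    obtain ⟨c, rfl⟩ := Ideal.mem_span_singleton'.mp hy
    rw [← h𝔞B] at hx
    rw [← hxy, map_add, Ideal.Quotient.eq_zero_iff_mem.mpr hx, zero_add, map_mul, map_pow]
    exact Ideal.mul_mem_left _ _ (Ideal.pow_mem_pow hτJ i)
  rw [h0, Submodule.mem_bot] at hmem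
  rw [← h𝔞B]
  exact Ideal.Quotient.eq_zero_iff_mem.mp hmem

theorem exists_order (hB : Hens2.IsPairHenselization R[X] (Ideal.span {(X : R[X])}) B)
    (f : B) (hf : f ∉ (maximalIdeal R).map (algebraMap R B)) :
    ∃ (k : ℕ) (g : B), IsUnit g ∧
      f - (algebraMap R[X] B X) ^ k * g ∈ (maximalIdeal R).map (algebraMap R B) := by
  classical
  have hex : ∃ n : ℕ, f ∉ (maximalIdeal R).map (algebraMap R B) ⊔
      Ideal.span {(algebraMap R[X] B X) ^ n} := by
    by_contra hcon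
    push_neg at hcon
    exact hf (mem_of_forall_mem hB f hcon)
  have hspec := Nat.find_spec hex
  obtain ⟨m, hm⟩ : ∃ m, Nat.find hex = m + 1 := by
    refine Nat.exists_eq_succ_of_ne_zero ?_
    intro h0
    rw [h0] at hspec
    apply hspec
    rw [pow_zero, Ideal.span_singleton_one]
    exact Submodule.mem_sup_right Submodule.mem_top
  have hSm : f ∈ (maximalIdeal R).map (algebraMap R B) ⊔
      Ideal.span {(algebraMap R[X] B X) ^ m} := by
    by_contra hcon
    exact Nat.find_min hex (m := m) (by rw [hm]; exact Nat.lt_succ_self m) hcon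
  obtain ⟨x, hx, y, hy, hxy⟩ := Submodule.mem_sup.mp hSm
  obtain ⟨c, rfl⟩ := Ideal.mem_span_singleton'.mp hy
  refine ⟨m, c, ?_, ?_⟩
  · apply isUnit_of_notMem hB
    intro hc
    apply hspec
    rw [hm]
    obtain ⟨y1, hy1, x1, hx1, hc1⟩ := Submodule.mem_sup.mp hc
    obtain ⟨d, rfl⟩ := Ideal.mem_span_singleton'.mp hy1
    have h1 : f = (x + x1 * (algebraMap R[X] B X) ^ m) +
        d * (algebraMap R[X] B X) ^ (m + 1) := by
      rw [← hxy, ← hc1]; ring
    rw [h1]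
    exact Submodule.add_mem_sup (add_mem hx (Ideal.mul_mem_right _ _ hx1))
      (Ideal.mul_mem_left _ _ (Ideal.mem_span_singleton_self _))
  · have h1 : f - (algebraMap R[X] B X) ^ m * c = x := by rw [← hxy]; ring
    rw [h1]; exact hx

/-- Henselian Weierstrass preparation for `B = R{t}`. -/
theorem weierstrass (hB : Hens2.IsPairHenselization R[X] (Ideal.span {(X : R[X])}) B)
    (f : B) (hf : f ∉ (IsLocalRing.maximalIdeal R).map (algebraMap R B)) :
    (∃! Pu : R[X] × Bˣ, Pu.1.Monic ∧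
        (∀ i : ℕ, i < Pu.1.natDegree → Pu.1.coeff i ∈ IsLocalRing.maximalIdeal R) ∧
        f = algebraMap R[X] B Pu.1 * (Pu.2 : B)) ∧
    (∀ (P : R[X]) (u : Bˣ), P.Monic →
        (∀ i : ℕ, i < P.natDegree → P.coeff i ∈ IsLocalRing.maximalIdeal R) →
        f = algebraMap R[X] B P * (u : B) →
      (∀ b : B, ∃ q : R[X], algebraMap R[X] B q - b ∈ Ideal.span {f}) ∧
      (∀ q : R[X], algebraMap R[X] B q ∈ Ideal.span {f} → q ∈ Ideal.span {P})) := by
  have part2 : ∀ (P : R[X]) (u : Bˣ), P.Monic →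
      (∀ i : ℕ, i < P.natDegree → P.coeff i ∈ IsLocalRing.maximalIdeal R) →
      f = algebraMap R[X] B P * (u : B) →
      (∀ b : B, ∃ q : R[X], algebraMap R[X] B q - b ∈ Ideal.span {f}) ∧
      (∀ q : R[X], algebraMap R[X] B q ∈ Ideal.span {f} → q ∈ Ideal.span {P}) := by
    intro P u hP hPc hfP
    have hspan : Ideal.span {f} = Ideal.span {algebraMap R[X] B P} := by
      rw [hfP]; exact Ideal.span_singleton_mul_right_unit u.isUnit _
    rw [hspan]
    exact quot_dist hB ⟨hP, hPc⟩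
  refine ⟨?_, part2⟩
  obtain ⟨k, g, hg, hfg⟩ := exists_order hB f hf
  obtain ⟨gu, rfl⟩ := hg
  have hw : f * ↑gu⁻¹ - (algebraMap R[X] B X) ^ k ∈
      (maximalIdeal R).map (algebraMap R B) := by
    have h1 : f * ↑gu⁻¹ - (algebraMap R[X] B X) ^ k =
        (f - (algebraMap R[X] B X) ^ k * ↑gu) * ↑gu⁻¹ := by
      rw [sub_mul, mul_assoc, Units.mul_inv, mul_one]
    rw [h1]; exact Ideal.mul_mem_right _ _ hfg
  obtain ⟨P, hPd, -, u, hu⟩ := exists_dist_mul hB (f * ↑gu⁻¹) k hw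
  have hfP : f = algebraMap R[X] B P * ((gu * u⁻¹ : Bˣ) : B) := by
    rw [hu, Units.val_mul]
    linear_combination (-f * (↑gu⁻¹ : B) * (gu : B)) * (Units.mul_inv u) +
      (-f) * (Units.inv_mul gu)
  refine ⟨(P, gu * u⁻¹), ⟨hPd.1, hPd.2, hfP⟩, ?_⟩
  rintro ⟨P', u'⟩ ⟨hP'0, hP'c0, hfP'0⟩
  have hP' : P'.Monic := hP'0
  have hP'c : ∀ i : ℕ, i < P'.natDegree → P'.coeff i ∈ IsLocalRing.maximalIdeal R := hP'c0
  have hfP' : f = algebraMap R[X] B P' * (u' : B) := hfP'0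
  have h1 := (part2 P (gu * u⁻¹) hPd.1 hPd.2 hfP).2 P' (by
    rw [Ideal.mem_span_singleton']
    refine ⟨↑u'⁻¹, ?_⟩
    linear_combination ((↑u'⁻¹ : B)) * hfP' + (algebraMap R[X] B P') * (Units.mul_inv u'))
  have h2 := (part2 P' u' hP' hP'c hfP').2 P (by
    rw [Ideal.mem_span_singleton']
    refine ⟨↑(gu * u⁻¹)⁻¹, ?_⟩
    linear_combination ((↑(gu * u⁻¹)⁻¹ : B)) * hfP +
      (algebraMap R[X] B P) * (Units.mul_inv (gu * u⁻¹)))
  have h1dvd : P ∣ P' := Ideal.mem_span_singleton.mp h1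
  have h2dvd : P' ∣ P := Ideal.mem_span_singleton.mp h2
  have hdeg : P'.natDegree ≤ P.natDegree := by
    by_contra hcon
    exact hP'.not_dvd_of_natDegree_lt hPd.1.ne_zero (not_le.mp hcon) h2dvd
  have hPP : P' = P := eq_of_monic_of_dvd_of_natDegree_le hPd.1 hP' h1dvd hdeg
  subst hPP
  haveI : Module.Flat R[X] B :=
    Groth.Agent.Lib.Helper26.PairHensConstr.flat_of_isPairHenselization hB
  have hreg : IsSMulRegular B (algebraMap R[X] B P') :=
    IsSMulRegular.of_flat hP'.isRegular.left.isSMulRegular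
  have h3 : (u' : B) = ((gu * u⁻¹ : Bˣ) : B) :=
    hreg (show algebraMap R[X] B P' • (u' : B) = algebraMap R[X] B P' • ((gu * u⁻¹ : Bˣ) : B) by
      rw [smul_eq_mul, smul_eq_mul, ← hfP', ← hfP])
  have h4 : u' = gu * u⁻¹ := Units.ext h3
  rw [h4]

end Groth.Agent.Lib.Helper4.HW3
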