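import Mathlib
import Groth.Agent.Lib.Helper4.HW2

/-!
Helper4: ideals of `R[s]` avoiding the special fibre versus ideals of the Henselian Laurent ring
`R{t}[1/t]` (`s = t⁻¹`), for a Henselian local ring `R`.
-/

set_option autoImplicit false
set_option linter.style.haveILetI false
set_option linter.unusedSectionVars false
set_option linter.unusedVariables false
set_option maxHeartbeats 800000

namespace Groth.Agent.Lib.Helper4.HW4

open Polynomial IsLocalRing
open Groth.Agent.Lib.Helper4.HW1 Groth.Agent.Lib.Helper4.HW2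
open Groth.Agent.S15779 (rev coeff_rev_top coeff_rev_zero natDegree_rev_le monic_rev map_rev
  monic_unit_mod)

universe u

variable {R : Type u} [CommRing R] [HenselianLocalRing R] {B : Type u} [CommRing B] [Algebra R B]
  [Algebra R[X] B] [IsScalarTower R R[X] B]

theorem main (hB : Hens2.IsPairHenselization R[X] (Ideal.span {(X : R[X])}) B)
    (L : Type u) [CommRing L] [Algebra B L] [IsLocalization.Away (algebraMap R[X] B X) L]
    (ψr : R[X] →+* L) (hC : ∀ r, ψr (C r) = algebraMap B L (algebraMap R[X] B (C r)))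
    (hX : ψr X * algebraMap B L (algebraMap R[X] B X) = 1) :
    (∀ I : Ideal R[X], I ⊔ (IsLocalRing.maximalIdeal R).map (C : R →+* R[X]) = ⊤ →
        (I.map ψr).comap ψr = I ∧
        I.map ψr ⊔ (IsLocalRing.maximalIdeal R).map (ψr.comp C) = ⊤ ∧
        Function.Bijective (Ideal.quotientMap (I.map ψr) ψr Ideal.le_comap_map)) ∧
    (∀ J : Ideal L, J ⊔ (IsLocalRing.maximalIdeal R).map (ψr.comp C) = ⊤ →
        (J.comap ψr).map ψr = J ∧
        J.comap ψr ⊔ (IsLocalRing.maximalIdeal R).map (C : R →+* R[X]) = ⊤) := by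
  obtain ⟨α, hα⟩ : ∃ α : R[X] →+* L, ∀ p, α p = algebraMap B L (algebraMap R[X] B p) :=
    ⟨(algebraMap B L).comp (algebraMap R[X] B), fun p => rfl⟩
  have hC' : ∀ r, ψr (C r) = α (C r) := fun r => by rw [hα]; exact hC r
  have hC'' : ∀ r, α (C r) = ψr (C r) := fun r => (hC' r).symm
  have hX' : ψr X * α X = 1 := by rw [hα]; exact hX
  have hXα : α X * ψr X = 1 := by rw [mul_comm]; exact hX'
  -- the key homomorphism `L → R[s]/I`
  have exists_lam : ∀ I : Ideal R[X],
      I ⊔ (IsLocalRing.maximalIdeal R).map (C : R →+* R[X]) = ⊤ →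
      ∃ lam : L →+* R[X] ⧸ I, lam.comp ψr = Ideal.Quotient.mk I ∧
        ∀ x, lam x = 0 → x ∈ I.map ψr := by
    intro I hI
    obtain ⟨hXi, hhXi⟩ := monic_unit_mod R I hI X monic_X
    obtain ⟨π, hπ⟩ : ∃ π : R[X] →+* (R[X] ⧸ I), π = Ideal.Quotient.mk I := ⟨_, rfl⟩
    have hπmem : ∀ p, p ∈ I → π p = 0 := fun p hp => by
      rw [hπ]; exact Ideal.Quotient.eq_zero_iff_mem.2 hp
    have hπmem' : ∀ p, π p = 0 → p ∈ I := fun p hp => by
      rw [hπ] at hp; exact Ideal.Quotient.eq_zero_iff_mem.1 hp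
    have hπX : π X * π hXi = 1 := by
      have h0 := hπmem _ hhXi
      rw [map_sub, map_mul, map_one] at h0
      exact sub_eq_zero.mp h0
    obtain ⟨f, hf⟩ : ∃ f : R[X] →+* (R[X] ⧸ I), f = eval₂RingHom (π.comp C) (π hXi) :=
      ⟨_, rfl⟩
    have hfC : ∀ r, f (C r) = π (C r) := fun r => by
      rw [hf, coe_eval₂RingHom, eval₂_C, RingHom.comp_apply]
    have hfX : f X = π hXi := by rw [hf, coe_eval₂RingHom, eval₂_X]
    have hπfX : π X * f X = 1 := by rw [hfX]; exact hπX
    have hfπX : f X * π X = 1 := by rw [mul_comm]; exact hπfX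
    -- an element of `I` congruent to `1`
    have h1 : (1 : R[X]) ∈ I ⊔ (IsLocalRing.maximalIdeal R).map (C : R →+* R[X]) := by
      rw [hI]; trivial
    obtain ⟨i, hi, μ, hμ, hiμ⟩ := Submodule.mem_sup.1 h1
    have hμc : ∀ n, μ.coeff n ∈ maximalIdeal R := fun n => Ideal.mem_map_C_iff.1 hμ n
    have hi0 : 1 - i.coeff 0 ∈ maximalIdeal R := by
      have h2 := congrArg (fun p => p.coeff 0) hiμ
      simp only [coeff_add, coeff_one_zero] at h2
      have h3 : 1 - i.coeff 0 = μ.coeff 0 := by linear_combination -h2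
      rw [h3]; exact hμc 0
    have hin : ∀ n, 0 < n → i.coeff n ∈ maximalIdeal R := by
      intro n hn
      have h2 := congrArg (fun p => p.coeff n) hiμ
      simp only [coeff_add, coeff_one, if_neg (by omega : ¬ n = 0)] at h2
      have h3 : i.coeff n = - μ.coeff n := by linear_combination h2
      rw [h3]; exact neg_mem (hμc n)
    obtain ⟨v, hv⟩ := isUnit_of_one_sub_mem hi0
    obtain ⟨N, hN⟩ : ∃ N : ℕ, N = i.natDegree := ⟨_, rfl⟩
    obtain ⟨P, hPdef⟩ : ∃ P : R[X], P = C (↑v⁻¹ : R) * rev N i := ⟨_, rfl⟩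
    have hPle : P.natDegree ≤ N := by
      rw [hPdef]; exact (natDegree_C_mul_le _ _).trans (natDegree_rev_le N i)
    have hPmonic : P.Monic := by
      refine monic_of_natDegree_le_of_coeff_eq_one N hPle ?_
      rw [hPdef, coeff_C_mul, coeff_rev_top, ← hv, Units.inv_mul]
    have hPdist : IsDist P := by
      refine ⟨hPmonic, fun j hj => ?_⟩
      have hjN : j < N := lt_of_lt_of_le hj hPle
      rw [hPdef, coeff_C_mul, coeff_rev N i j hjN.le]
      exact Ideal.mul_mem_left _ _ (hin _ (by omega))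
    have hfP : f P = 0 := by
      rw [hPdef, map_mul, map_rev f π hfC hfπX N i (by rw [hN]), hπmem i hi, mul_zero, mul_zero]
    obtain ⟨g₁, hg₁⟩ := exists_hom_quot hB hPdist
    have hg₁' : ∀ p, g₁ (algebraMap R[X] B p) = Ideal.Quotient.mk (Ideal.span {P}) p :=
      fun p => RingHom.congr_fun hg₁ p
    obtain ⟨fbar, hfbar⟩ : ∃ fbar : (R[X] ⧸ Ideal.span {P}) →+* (R[X] ⧸ I),
        ∀ p, fbar (Ideal.Quotient.mk (Ideal.span {P}) p) = f p := by
      refine ⟨Ideal.Quotient.lift (Ideal.span {P}) f ?_, fun p => Ideal.Quotient.lift_mk _ _ _⟩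
      intro a ha
      obtain ⟨c, rfl⟩ := Ideal.mem_span_singleton'.mp ha
      rw [map_mul, hfP, mul_zero]
    obtain ⟨lamB, hlamB⟩ : ∃ lamB : B →+* (R[X] ⧸ I), ∀ p, lamB (algebraMap R[X] B p) = f p :=
      ⟨fbar.comp g₁, fun p => by rw [RingHom.comp_apply, hg₁', hfbar]⟩
    have hlamBτ : IsUnit (lamB (algebraMap R[X] B X)) := by
      rw [hlamB]; exact IsUnit.of_mul_eq_one _ hfπX
    obtain ⟨lam, hlam⟩ : ∃ lam : L →+* (R[X] ⧸ I), ∀ b, lam (algebraMap B L b) = lamB b :=
      ⟨IsLocalization.Away.lift (algebraMap R[X] B X) hlamBτ,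
        fun b => IsLocalization.Away.lift_eq _ hlamBτ b⟩
    have hlamα : ∀ p, lam (α p) = f p := fun p => by rw [hα, hlam, hlamB]
    have hcomp : lam.comp ψr = π := by
      apply Polynomial.ringHom_ext
      · intro r
        rw [RingHom.comp_apply, hC' r, hlamα, hfC]
      · rw [RingHom.comp_apply]
        have h2 : lam (ψr X) * f X = 1 := by
          rw [← hlamα, ← map_mul, hX', map_one]
        calc lam (ψr X) = lam (ψr X) * (f X * π X) := by rw [hfπX, mul_one]
          _ = (lam (ψr X) * f X) * π X := by ring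
          _ = π X := by rw [h2, one_mul]
    refine ⟨lam, by rw [hcomp, hπ], ?_⟩
    intro x hx
    obtain ⟨n, b, hnb⟩ := IsLocalization.Away.surj (algebraMap R[X] B X) x
    have hb0 : lamB b = 0 := by rw [← hlam, ← hnb, map_mul, hx, zero_mul]
    obtain ⟨q, hq⟩ := (quot_dist hB hPdist).1 b
    obtain ⟨c, hc⟩ := Ideal.mem_span_singleton'.mp hq
    have hb : b = algebraMap R[X] B q - c * algebraMap R[X] B P := by rw [hc]; ring
    have hfq : f q = 0 := by
      have h2 := congrArg lamB hb
      rw [map_sub, map_mul, hlamB, hlamB, hfP, mul_zero, sub_zero, hb0] at h2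
      exact h2.symm
    have hrevI : rev q.natDegree q ∈ I := by
      apply hπmem'
      rw [map_rev π f (fun r => (hfC r).symm) hπfX q.natDegree q le_rfl, hfq, mul_zero]
    have hαq : α q ∈ I.map ψr := by
      have e1 : α q = (α X) ^ q.natDegree * ψr (rev q.natDegree q) := by
        rw [map_rev ψr α hC' hX' q.natDegree q le_rfl, ← mul_assoc, ← mul_pow, hXα, one_pow,
          one_mul]
      rw [e1]
      exact Ideal.mul_mem_left _ _ (Ideal.mem_map_of_mem ψr hrevI)
    have hαP : α P ∈ I.map ψr := by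
      rw [hPdef, map_mul, map_rev α ψr hC'' hXα N i (by rw [hN])]
      exact Ideal.mul_mem_left _ _ (Ideal.mul_mem_left _ _ (Ideal.mem_map_of_mem ψr hi))
    have hβb : algebraMap B L b ∈ I.map ψr := by
      rw [hb, map_sub, map_mul, ← hα, ← hα]
      exact Ideal.sub_mem _ hαq (Ideal.mul_mem_left _ _ hαP)
    have hxeq : x = algebraMap B L b * (ψr X) ^ n := by
      rw [← hnb, mul_assoc, ← mul_pow]
      have h3 : algebraMap B L (algebraMap R[X] B X) * ψr X = 1 := by
        rw [mul_comm]; exact hX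
      rw [h3, one_pow, mul_one]
    rw [hxeq]
    exact Ideal.mul_mem_right _ _ hβb
  refine ⟨?_, ?_⟩
  · -- Part 1
    intro I hI
    obtain ⟨lam, hcomp, hker⟩ := exists_lam I hI
    have h1a : (I.map ψr).comap ψr = I := by
      refine le_antisymm (fun p hp => ?_) Ideal.le_comap_map
      have h1 : lam (ψr p) ∈ (I.map ψr).map lam := Ideal.mem_map_of_mem _ hp
      rw [Ideal.map_map, hcomp, Ideal.map_quotient_self, Ideal.mem_bot, ← RingHom.comp_apply,
        hcomp] at h1
      exact Ideal.Quotient.eq_zero_iff_mem.1 h1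
    refine ⟨h1a, ?_, ?_, ?_⟩
    · have h2 := congrArg (Ideal.map ψr) hI
      rw [Ideal.map_sup, Ideal.map_map, Ideal.map_top] at h2
      exact h2
    · exact Ideal.quotientMap_injective' h1a.le
    · intro y
      obtain ⟨x, rfl⟩ := Ideal.Quotient.mk_surjective y
      obtain ⟨q, hq⟩ := Ideal.Quotient.mk_surjective (lam x)
      refine ⟨Ideal.Quotient.mk I q, ?_⟩
      rw [Ideal.quotientMap_mk, Ideal.Quotient.eq]
      apply hker
      rw [map_sub, ← RingHom.comp_apply, hcomp, hq, sub_self]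
  · -- Part 2
    intro J hJ
    have h2b : J.comap ψr ⊔ (IsLocalRing.maximalIdeal R).map (C : R →+* R[X]) = ⊤ := by
      have h1 : (1 : L) ∈ J ⊔ (IsLocalRing.maximalIdeal R).map (ψr.comp C) := by
        rw [hJ]; trivial
      obtain ⟨j, hj, ν, hν, hjν⟩ := Submodule.mem_sup.1 h1
      have hmap : (IsLocalRing.maximalIdeal R).map (ψr.comp C) =
          ((IsLocalRing.maximalIdeal R).map (algebraMap R B)).map (algebraMap B L) := by
        rw [Ideal.map_map]
        congr 1
        ext r
        rw [RingHom.comp_apply, RingHom.comp_apply, hC, algebraMap_C]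
      rw [hmap] at hν
      obtain ⟨⟨⟨ν₀, hν₀⟩, ⟨m, hm⟩⟩, hνeq⟩ :=
        (IsLocalization.mem_map_algebraMap_iff (Submonoid.powers (algebraMap R[X] B X)) L).mp hν
      obtain ⟨n, rfl⟩ := hm
      have hνeq' : ν * algebraMap B L ((algebraMap R[X] B X) ^ n) = algebraMap B L ν₀ := hνeq
      have hw : ((algebraMap R[X] B X) ^ n - ν₀) - (algebraMap R[X] B X) ^ n ∈
          (maximalIdeal R).map (algebraMap R B) := by
        rw [sub_sub_cancel_left]; exact neg_mem hν₀
      obtain ⟨P, hPd, hPn, u, hu⟩ := exists_dist_mul hB ((algebraMap R[X] B X) ^ n - ν₀) n hw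
      have hαP : α P ∈ J := by
        have e1 : α P = j * (algebraMap B L ((algebraMap R[X] B X) ^ n) * algebraMap B L ↑u) := by
          rw [hα, hu, map_mul, map_sub, ← hνeq']
          have h3 : j = 1 - ν := by linear_combination hjν
          rw [h3]; ring
        rw [e1]
        exact Ideal.mul_mem_right _ _ hj
      have hvJ : rev n P ∈ J.comap ψr := by
        rw [Ideal.mem_comap, map_rev ψr α hC' hX' n P (by rw [hPn])]
        exact Ideal.mul_mem_left _ _ hαP
      have hPn1 : P.coeff n = 1 := by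
        have h4 := hPd.1.coeff_natDegree
        rwa [hPn] at h4
      have hv1 : rev n P - 1 ∈ (IsLocalRing.maximalIdeal R).map (C : R →+* R[X]) := by
        rw [Ideal.mem_map_C_iff]
        intro m
        rw [coeff_sub, coeff_one]
        rcases Nat.eq_zero_or_pos m with rfl | hm0
        · rw [if_pos rfl, coeff_rev_zero, hPn1, sub_self]; exact zero_mem _
        · rw [if_neg (by omega), sub_zero]
          rcases le_or_gt m n with hmn | hmn
          · rw [coeff_rev n P m hmn]
            exact hPd.2 _ (by rw [hPn]; omega)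
          · rw [coeff_eq_zero_of_natDegree_lt (lt_of_le_of_lt (natDegree_rev_le n P) hmn)]
            exact zero_mem _
      rw [Ideal.eq_top_iff_one]
      exact Submodule.mem_sup.2 ⟨rev n P, hvJ, -(rev n P - 1), neg_mem hv1, by ring⟩
    obtain ⟨lam, hcomp, hker⟩ := exists_lam (J.comap ψr) h2b
    have h2a : (J.comap ψr).map ψr = J := by
      refine le_antisymm Ideal.map_comap_le (fun x hx => ?_)
      obtain ⟨q, hq⟩ := Ideal.Quotient.mk_surjective (lam x)
      have h3 : x - ψr q ∈ (J.comap ψr).map ψr := by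
        apply hker
        rw [map_sub, ← RingHom.comp_apply, hcomp, hq, sub_self]
      have h4 : ψr q ∈ J := by
        have h5 := J.sub_mem hx (Ideal.map_comap_le h3)
        rwa [sub_sub_cancel] at h5
      have h5 : ψr q ∈ (J.comap ψr).map ψr :=
        Ideal.mem_map_of_mem ψr (Ideal.mem_comap.mpr h4)
      have h6 := Ideal.add_mem _ h3 h5
      rwa [sub_add_cancel] at h6
    exact ⟨h2a, h2b⟩

end Groth.Agent.Lib.Helper4.HW4
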