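import Mathlib
import Groth.Agent.Lib.Helper4.ExtFlat
import Groth.Agent.Lib.Helper4.Ischebeck
import Groth.Agent.Lib.Helper4.Depth
import Groth.Agent.Lib.Helper9.InjDim

/-!
# Base change of injective modules along flat maps with `pB_q = qB_q` (helper4)

`A → B` flat, Noetherian, such that for every prime `q` of `B` over `p` one has `pB_q = qB_q`.
Then `B ⊗_A I` is injective over `B` for every injective `A`-module `I`
(`injective_baseChange`).  The proof is a Noetherian induction on primes of `B`, using flat base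
change for `Ext` and Baer's criterion; no structure theory of injectives is needed.
-/

set_option autoImplicit false
set_option linter.style.haveILetI false
set_option linter.unusedSectionVars false
set_option linter.unusedVariables false
set_option maxHeartbeats 800000

open CategoryTheory Abelian TensorProduct

universe u

namespace Groth.Agent.Lib.Helper4.InjBC

open Groth.Agent.Lib.Helper4

section colon

variable {B : Type u} [CommRing B] [IsNoetherianRing B]

/-- if `K B_q = q B_q` then some `s ∉ q` multiplies `q` into `K`. -/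
theorem exists_notMem_mul_mem (q : Ideal B) [q.IsPrime] (K : Ideal B)
    (h : Ideal.map (algebraMap B (Localization.AtPrime q)) K =
      IsLocalRing.maximalIdeal (Localization.AtPrime q)) :
    ∃ s : B, s ∉ q ∧ ∀ b ∈ q, s * b ∈ K := by
  classical
  have h1 : ∀ b ∈ q, ∃ t : B, t ∉ q ∧ t * b ∈ K := by
    intro b hb
    have hb' : algebraMap B (Localization.AtPrime q) b ∈
        Ideal.map (algebraMap B (Localization.AtPrime q)) K := by
      rw [h, ← Localization.AtPrime.map_eq_maximalIdeal]
      exact Ideal.mem_map_of_mem _ hb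
    rw [IsLocalization.mem_map_algebraMap_iff q.primeCompl] at hb'
    obtain ⟨⟨a, t⟩, hat⟩ := hb'
    dsimp only at hat
    rw [← map_mul, IsLocalization.eq_iff_exists q.primeCompl] at hat
    obtain ⟨c, hc⟩ := hat
    refine ⟨c * t, q.primeCompl.mul_mem c.2 t.2, ?_⟩
    have h2 : (c : B) * t * b = c * a := by rw [← hc]; ring
    rw [h2]
    exact K.mul_mem_left _ a.2
  choose! t ht1 ht2 using h1
  obtain ⟨S, hS⟩ := (IsNoetherian.noetherian q : q.FG)
  refine ⟨∏ b ∈ S, t b, ?_, ?_⟩
  · intro hmem
    rw [Ideal.IsPrime.prod_mem_iff] at hmem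
    obtain ⟨b, hbS, hb⟩ := hmem
    have hbq : b ∈ q := by rw [← hS]; exact Ideal.subset_span hbS
    exact ht1 b hbq hb
  · intro b hb
    have hle : Ideal.span (S : Set B) ≤
        Submodule.comap (LinearMap.lsmul B B (∏ b ∈ S, t b)) K := by
      rw [Ideal.span_le]
      intro b hbS
      have hbq : b ∈ q := by rw [← hS]; exact Ideal.subset_span hbS
      obtain ⟨c, hc⟩ := Finset.dvd_prod_of_mem t hbS
      change (∏ b ∈ S, t b) • b ∈ K
      rw [hc, smul_eq_mul, mul_comm (t b) c, mul_assoc]
      exact K.mul_mem_left _ (ht2 b hbq)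
    have hS' : Ideal.span (S : Set B) = q := hS
    have h3 := hle (by rw [hS']; exact hb)
    exact h3

end colon

section prime_filtration

variable {B : Type u} [CommRing B] [IsNoetherianRing B]

/-- `Ext¹(N, J) = 0` if `Ext¹(B/r, J) = 0` for all `r ∈ Supp N`. -/
theorem ext_one_of_support (J : ModuleCat.{u} B) :
    ∀ (N : Type u) [AddCommGroup N] [Module B N] [Module.Finite B N],
      (∀ r ∈ Module.support B N, Subsingleton (Ext (ModuleCat.of B (B ⧸ r.asIdeal)) J 1)) →
      Subsingleton (Ext (ModuleCat.of B N) J 1) := by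
  intro N _ _ hfin
  induction hfin using IsNoetherianRing.induction_on_isQuotientEquivQuotientPrime B with
  | subsingleton N =>
    intro _
    exact subsingleton_ext_of_subsingleton_left _ _ 1
  | quotient N p e =>
    intro H
    have hp : p ∈ Module.support B N := by
      rw [e.support_eq, Module.support_eq_zeroLocus, Ideal.annihilator_quotient,
        PrimeSpectrum.mem_zeroLocus]
    exact subsingleton_ext_of_iso_left (e.symm.toModuleIso) 1 (H p hp)
  | exact N₁ N₂ N₃ f g hf hg hfg h₁ h₃ =>
    intro H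
    have hsupp := Module.support_of_exact hfg hf hg
    let S : ShortComplex (ModuleCat.{u} B) :=
      ModuleCat.shortComplexOfCompEqZero f g (by ext x; simpa using hfg.apply_apply_eq_zero x)
    have hS : S.ShortExact := ModuleCat.shortComplex_shortExact S hfg hf hg
    exact subsingleton_ext_left_X₂ hS J 1
      (h₁ (fun r hr => H r (by rw [hsupp]; exact Or.inl hr)))
      (h₃ (fun r hr => H r (by rw [hsupp]; exact Or.inr hr)))

end prime_filtration

section kill

variable {A B : Type u} [CommRing A] [CommRing B] [Algebra A B]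

/-- if `s q ⊆ pB` and `Ext¹(B ⊗ A/p, J) = 0` then `s` kills `Ext¹(B/q, J)`. -/
theorem smul_ext_eq_zero (q : Ideal B) [q.IsPrime] (p : Ideal A)
    (hp : p = q.comap (algebraMap A B)) (s : B)
    (hs : ∀ b ∈ q, s * b ∈ p.map (algebraMap A B)) (J : ModuleCat.{u} B)
    (hX : Subsingleton (Ext (ModuleCat.of B (B ⊗[A] (A ⧸ p))) J 1))
    (x : Ext (ModuleCat.of B (B ⧸ q)) J 1) : s • x = 0 := by
  let x₀ : B ⊗[A] (A ⧸ p) := (1 : B) ⊗ₜ[A] (1 : A ⧸ p)
  have hx₀ : ∀ c ∈ p.map (algebraMap A B), c • x₀ = 0 := by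
    intro c hc
    have hle : p.map (algebraMap A B) ≤
        LinearMap.ker (LinearMap.toSpanSingleton B (B ⊗[A] (A ⧸ p)) x₀) := by
      rw [Ideal.map_le_iff_le_comap]
      intro a ha
      rw [Ideal.mem_comap, LinearMap.mem_ker, LinearMap.toSpanSingleton_apply]
      change (algebraMap A B a) • ((1 : B) ⊗ₜ[A] (1 : A ⧸ p)) = 0
      have h0 : a • (1 : A ⧸ p) = 0 := by
        rw [Algebra.smul_def, mul_one]
        exact Ideal.Quotient.eq_zero_iff_mem.2 ha
      rw [TensorProduct.smul_tmul', smul_eq_mul, mul_one, Algebra.algebraMap_eq_smul_one,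
        TensorProduct.smul_tmul, h0, TensorProduct.tmul_zero]
    have h1 := hle hc
    rwa [LinearMap.mem_ker, LinearMap.toSpanSingleton_apply] at h1
  let g : A →ₗ[A] B ⧸ q := Algebra.linearMap A (B ⧸ q)
  have hg : p ≤ LinearMap.ker g := by
    intro a ha
    rw [LinearMap.mem_ker]
    change algebraMap A (B ⧸ q) a = 0
    rw [IsScalarTower.algebraMap_apply A B (B ⧸ q), Ideal.Quotient.algebraMap_eq,
      Ideal.Quotient.eq_zero_iff_mem]
    rw [hp] at ha
    exact ha
  let f : A ⧸ p →ₗ[A] B ⧸ q := Submodule.liftQ p g hg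
  let π : B ⊗[A] (A ⧸ p) →ₗ[B] B ⧸ q := LinearMap.liftBaseChange B f
  have hq_le : q ≤ LinearMap.ker
      (LinearMap.toSpanSingleton B (B ⊗[A] (A ⧸ p)) (s • x₀)) := by
    intro b hb
    rw [LinearMap.mem_ker, LinearMap.toSpanSingleton_apply, smul_smul, mul_comm]
    exact hx₀ _ (hs b hb)
  let φ : B ⧸ q →ₗ[B] B ⊗[A] (A ⧸ p) :=
    Submodule.liftQ q (LinearMap.toSpanSingleton B _ (s • x₀)) hq_le
  have hπx : π x₀ = 1 := by
    change LinearMap.liftBaseChange B f ((1 : B) ⊗ₜ[A] (1 : A ⧸ p)) = 1
    rw [LinearMap.liftBaseChange_tmul, one_smul]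
    change f (Submodule.Quotient.mk (1 : A)) = 1
    rw [Submodule.liftQ_apply]
    change algebraMap A (B ⧸ q) 1 = 1
    exact map_one _
  have hcomp : ∀ y : B ⧸ q, π (φ y) = s • y := by
    intro y
    obtain ⟨b, rfl⟩ := Submodule.Quotient.mk_surjective q y
    change π (Submodule.liftQ q _ hq_le (Submodule.Quotient.mk b)) = _
    rw [Submodule.liftQ_apply, LinearMap.toSpanSingleton_apply, map_smul, map_smul, hπx]
    rw [Algebra.smul_def, Algebra.smul_def, Algebra.smul_def, mul_one,
      Ideal.Quotient.algebraMap_eq, mul_comm]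
    rfl
  have hcomp' : ModuleCat.ofHom φ ≫ ModuleCat.ofHom π = s • 𝟙 (ModuleCat.of B (B ⧸ q)) := by
    apply ModuleCat.hom_ext
    apply LinearMap.ext
    intro y
    exact hcomp y
  have h1 : (Ext.mk₀ (ModuleCat.ofHom π)).comp x (zero_add 1) = 0 := Subsingleton.elim _ _
  have h2 := Ext.mk₀_comp_mk₀_assoc (ModuleCat.ofHom φ) (ModuleCat.ofHom π) x
  rw [h1, Ext.comp_zero, hcomp'] at h2
  have h3 : (Ext.mk₀ (s • 𝟙 (ModuleCat.of B (B ⧸ q)))).comp x (zero_add 1) = s • x := by
    simp [Ext.mk₀_smul]
  rw [← h3, ← h2]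

end kill

section main

variable (A B : Type u) [CommRing A] [CommRing B] [Algebra A B] [IsNoetherianRing A]
  [IsNoetherianRing B] [Module.Flat A B]

theorem injective_baseChange
    (h : ∀ q : PrimeSpectrum B, Ideal.map (algebraMap B (Localization.AtPrime q.asIdeal))
      ((q.asIdeal.comap (algebraMap A B)).map (algebraMap A B)) =
        IsLocalRing.maximalIdeal (Localization.AtPrime q.asIdeal))
    (I : Type u) [AddCommGroup I] [Module A I] [Module.Injective A I] :
    Module.Injective B (B ⊗[A] I) := by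
  let J : ModuleCat.{u} B := ModuleCat.of B (B ⊗[A] I)
  have hX : ∀ p : Ideal A, Subsingleton (Ext (ModuleCat.of B (B ⊗[A] (A ⧸ p))) J 1) := by
    intro p
    obtain ⟨e⟩ := ExtFlat.main A B I 1 (A ⧸ p)
    haveI : Injective (ModuleCat.of A I) := Module.injective_object_of_injective_module A I
    haveI : Subsingleton (Ext.{u} (ModuleCat.of A (A ⧸ p)) (ModuleCat.of A I) 1) :=
      ⟨fun x y => by rw [Ext.eq_zero_of_injective x, Ext.eq_zero_of_injective y]⟩
    exact e.symm.toEquiv.subsingleton
  have hprime : ∀ q : Ideal B, q.IsPrime →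
      Subsingleton (Ext (ModuleCat.of B (B ⧸ q)) J 1) := by
    intro q
    refine WellFoundedGT.induction (motive := fun q : Ideal B => q.IsPrime →
      Subsingleton (Ext (ModuleCat.of B (B ⧸ q)) J 1)) q ?_
    intro q IH hq
    haveI := hq
    obtain ⟨s, hsq, hs⟩ := exists_notMem_mul_mem q
      ((q.comap (algebraMap A B)).map (algebraMap A B)) (h ⟨q, hq⟩)
    have hkill : ∀ x : Ext (ModuleCat.of B (B ⧸ q)) J 1, s • x = 0 :=
      smul_ext_eq_zero q (q.comap (algebraMap A B)) rfl s hs J (hX _)
    let N : ModuleCat.{u} B := ModuleCat.of B (B ⧸ q)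
    have reg : IsSMulRegular N s := by
      intro a b hab
      change s • a = s • b at hab
      rw [Algebra.smul_def, Algebra.smul_def] at hab
      refine mul_left_cancel₀ ?_ hab
      rw [Ideal.Quotient.algebraMap_eq, Ne, Ideal.Quotient.eq_zero_iff_mem]
      exact hsq
    have hS : (ModuleCat.smulShortComplex N s).ShortExact := reg.smulShortComplex_shortExact
    have h3 : Subsingleton (Ext (ModuleCat.smulShortComplex N s).X₃ J 1) := by
      change Subsingleton (Ext (ModuleCat.of B (QuotSMulTop s (B ⧸ q))) J 1)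
      apply ext_one_of_support J (QuotSMulTop s (B ⧸ q))
      intro r hr
      rw [Module.support_quotSMulTop, Module.support_eq_zeroLocus, Ideal.annihilator_quotient]
        at hr
      obtain ⟨hr1, hr2⟩ := hr
      rw [PrimeSpectrum.mem_zeroLocus] at hr1 hr2
      have hlt : q < r.asIdeal := lt_of_le_of_ne hr1
        (fun heq => hsq (by rw [heq]; exact hr2 (Set.mem_singleton s)))
      exact IH r.asIdeal hlt r.2
    refine ⟨fun a b => ?_⟩
    have key : ∀ x : Ext N J 1, x = 0 := by
      intro x
      have hx0 : (Ext.mk₀ (ModuleCat.smulShortComplex N s).f).comp x (zero_add 1) = 0 := by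
        have hf : (ModuleCat.smulShortComplex N s).f = s • 𝟙 N := rfl
        rw [hf]
        have h3' : (Ext.mk₀ (s • 𝟙 (ModuleCat.of B (B ⧸ q)))).comp x (zero_add 1) = s • x := by
          simp [Ext.mk₀_smul]
        exact h3'.trans (hkill x)
      obtain ⟨x₃, hx₃⟩ := Ext.contravariant_sequence_exact₂ hS J x hx0
      rw [← hx₃, Subsingleton.elim x₃ 0, Ext.comp_zero]
      rfl
    rw [key a, key b]
  have hall : ∀ 𝔟 : Ideal B, Subsingleton (Ext (ModuleCat.of B (B ⧸ 𝔟)) J 1) := fun 𝔟 =>
    ext_one_of_support J (B ⧸ 𝔟) (fun r _ => hprime r.asIdeal r.2)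
  exact (Groth.Agent.Lib.Helper9.baer_of_ext_one J hall).injective

end main

end Groth.Agent.Lib.Helper4.InjBC
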