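import Mathlib
import Groth.Agent.Lib.Helper4.FiniteExt
import Groth.Agent.Lib.Helper4.SuppLoc
import Groth.Agent.Lib.Helper4.SkRing
import Groth.Agent.Lib.Helper28.DepthLoc

/-!
# Descent of depth, `(S_r)` and Cohen–Macaulayness to a direct summand `A ⊆ R` with `R` finite over `A`
and `ht (q ∩ A) ≤ ht q` (helper4)
-/

set_option autoImplicit false
set_option linter.style.haveILetI false
set_option linter.unusedSectionVars false
set_option linter.unusedVariables false
set_option maxHeartbeats 800000

universe u v

open RingTheory.Sequence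

namespace Groth.Agent.Lib.Helper4.InvDepth

/-- A weakly regular sequence on `M` is weakly regular on every retract of `M`. -/
theorem isWeaklyRegular_of_retract {B : Type u} [CommRing B] (rs : List B) :
    ∀ {M N : Type v} [AddCommGroup M] [Module B M] [AddCommGroup N] [Module B N]
      (i : N →ₗ[B] M) (π : M →ₗ[B] N), π ∘ₗ i = LinearMap.id →
      IsWeaklyRegular M rs → IsWeaklyRegular N rs := by
  induction rs with
  | nil =>
    intro M N _ _ _ _ i π h _
    exact IsWeaklyRegular.nil B N
  | cons x rs ih =>
    intro M N _ _ _ _ i π h hM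
    rw [isWeaklyRegular_cons_iff] at hM ⊢
    refine ⟨?_, ih (QuotSMulTop.map x i) (QuotSMulTop.map x π) ?_ hM.2⟩
    · intro a b hab
      have h1 : ∀ n, π (i n) = n := fun n => LinearMap.congr_fun h n
      have hinj : Function.Injective i := fun a b hab => by
        have := congrArg π hab
        rwa [h1, h1] at this
      apply hinj
      apply hM.1
      change x • i a = x • i b
      rw [← map_smul, ← map_smul]
      exact congrArg i hab
    · rw [← QuotSMulTop.map_comp, h, QuotSMulTop.map_id]

section main

variable {A R : Type u} [CommRing A] [CommRing R] [Algebra A R] [IsNoetherianRing A]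
  [Module.Finite A R]

theorem smul_top_ne_top_of_comap_eq (p : Ideal A) (Q : Ideal R) [Q.IsPrime]
    (hQ : Q.comap (algebraMap A R) = p) : p • (⊤ : Submodule A R) ≠ ⊤ := by
  intro h
  have hle : p • (⊤ : Submodule A R) ≤ Q.restrictScalars A := by
    rw [Submodule.smul_le]
    intro a ha r _
    rw [Submodule.restrictScalars_mem, Algebra.smul_def]
    exact Ideal.mul_mem_right _ _ (by rw [← hQ] at ha; exact ha)
  have h1 : (1 : R) ∈ Q.restrictScalars A := hle (by rw [h]; trivial)
  exact (Ideal.ne_top_iff_one Q).mp (Ideal.IsPrime.ne_top ‹_›) h1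

theorem nontrivial_localizedModule (hinj : Function.Injective (algebraMap A R)) (p : Ideal A)
    [p.IsPrime] : Nontrivial (LocalizedModule p.primeCompl R) := by
  by_contra hns
  rw [not_nontrivial_iff_subsingleton, LocalizedModule.subsingleton_iff] at hns
  obtain ⟨s, hs, hs1⟩ := hns (1 : R)
  rw [Algebra.smul_def, mul_one] at hs1
  have : s = 0 := hinj (by rw [hs1, map_zero])
  exact (Ideal.mem_primeCompl_iff.mp hs) (by rw [this]; exact p.zero_mem)

theorem support_eq_univ (hinj : Function.Injective (algebraMap A R)) :
    Module.support A R = Set.univ := by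
  rw [Module.support_eq_zeroLocus]
  have : Module.annihilator A R = ⊥ := by
    rw [Module.annihilator_eq_bot]
    exact (faithfulSMul_iff_algebraMap_injective A R).mpr hinj
  rw [this]
  simp

variable [IsNoetherianRing R]

/-- Key inequality: a lower bound for the depths of all `R_Q`, `Q ⊇ pR`, is a lower bound for the
depth of `R_p` over `A_p`, and (when `A` is a direct summand of `R`) for the depth of `A_p`. -/
theorem natCast_le_depth_of_forall (hinj : Function.Injective (algebraMap A R))
    (E : R →ₗ[A] A) (hE : ∀ a : A, E (algebraMap A R a) = a)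
    (p : Ideal A) [p.IsPrime] (n : ℕ)
    (h : ∀ (Q : Ideal R) [Q.IsPrime], p.map (algebraMap A R) ≤ Q →
      (n : ℕ∞) ≤ LocCoh.depth (Localization.AtPrime Q) (LocalizedModule Q.primeCompl R)) :
    (n : ℕ∞) ≤ LocCoh.depth (Localization.AtPrime p) (LocalizedModule p.primeCompl R) ∧
    (n : ℕ∞) ≤ LocCoh.depth (Localization.AtPrime p) (LocalizedModule p.primeCompl A) := by
  haveI : Algebra.IsIntegral A R := Algebra.IsIntegral.of_finite A R
  obtain ⟨Q0, -, hQ0, hQ0p⟩ := Ideal.exists_ideal_over_prime_of_isIntegral p (⊥ : Ideal R) (by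
    intro x hx
    have hx0 : algebraMap A R x = 0 := Ideal.mem_bot.mp (Ideal.mem_comap.mp hx)
    have : x = 0 := hinj (by rw [hx0, map_zero])
    rw [this]
    exact p.zero_mem)
  haveI := hQ0
  have hpR : p • (⊤ : Submodule A R) ≠ ⊤ := smul_top_ne_top_of_comap_eq p Q0 hQ0p
  haveI hnt : Nontrivial (LocalizedModule p.primeCompl R) := nontrivial_localizedModule hinj p
  have h1 : (n : ℕ∞) ≤ LocCoh.idealDepth (p.map (algebraMap A R)) R :=
    Groth.Agent.Lib.Helper28.le_idealDepth_of_forall_localization (p.map (algebraMap A R)) n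
      (fun Q _ hQ _ => h Q hQ)
  have h2 : (n : ℕ∞) ≤ LocCoh.idealDepth p R := by
    rw [Groth.Agent.Lib.Helper4.idealDepth_map_eq (B := R) p R]
    exact h1
  constructor
  · exact h2.trans (Groth.Agent.Lib.Helper28.idealDepth_le_depth_localization p p le_rfl)
  · obtain ⟨rs, hlen, hmem, hreg⟩ :=
      Groth.Agent.Lib.Helper4.exists_isWeaklyRegular_of_le_idealDepth p hpR n h2
    have hregA : IsWeaklyRegular A rs :=
      isWeaklyRegular_of_retract rs (Algebra.linearMap A R) E
        (LinearMap.ext fun a => by simp [hE]) hreg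
    have h3 : (n : ℕ∞) ≤ LocCoh.idealDepth p A := by
      rw [← hlen]
      exact Groth.Agent.Lib.Helper4.length_le_idealDepth p rs hregA hmem
    haveI : Nontrivial (LocalizedModule p.primeCompl A) :=
      nontrivial_localizedModule (A := A) (R := A) (fun _ _ h => h) p
    exact h3.trans (Groth.Agent.Lib.Helper28.idealDepth_le_depth_localization p p le_rfl)

/-- `(S_r)` descends from `R` to the `A`-module `R` and to a direct summand `A`. -/
theorem hasSk_of_hasSk (hinj : Function.Injective (algebraMap A R))
    (E : R →ₗ[A] A) (hE : ∀ a : A, E (algebraMap A R a) = a)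
    (hht : ∀ (Q : Ideal R) [Q.IsPrime], (Q.comap (algebraMap A R)).height ≤ Q.height)
    (r : ℕ) (hR : LocCoh.HasSk r R R) : LocCoh.HasSk r A R ∧ LocCoh.HasSk r A A := by
  have key : ∀ (p : Ideal A) [p.IsPrime],
      min (r : ℕ∞) p.height ≤
        LocCoh.depth (Localization.AtPrime p) (LocalizedModule p.primeCompl R) ∧
      min (r : ℕ∞) p.height ≤
        LocCoh.depth (Localization.AtPrime p) (LocalizedModule p.primeCompl A) := by
    intro p _
    obtain ⟨n, hn⟩ : ∃ n : ℕ, (n : ℕ∞) = min (r : ℕ∞) p.height :=
      ENat.ne_top_iff_exists.mp (ne_top_of_le_ne_top (ENat.natCast_ne_top r) (min_le_left _ _))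
    rw [← hn]
    apply natCast_le_depth_of_forall hinj E hE p n
    intro Q _ hQ
    have hRQ := (Groth.Agent.Lib.Helper4.hasSk_self_iff' r).mp hR Q
    rw [← Groth.Agent.Lib.Helper4.depth_localizedModule_self Q] at hRQ
    refine le_trans ?_ hRQ
    rw [hn]
    refine min_le_min le_rfl ?_
    have hpQ : p ≤ Q.comap (algebraMap A R) := Ideal.map_le_iff_le_comap.mp hQ
    exact (Ideal.height_mono hpQ).trans (hht Q)
  constructor
  · rw [Groth.Agent.Lib.Helper4.hasSk_iff_of_support_eq_univ r (support_eq_univ hinj)]
    intro p _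
    exact (key p).1
  · rw [Groth.Agent.Lib.Helper4.hasSk_self_iff']
    intro p _
    rw [← Groth.Agent.Lib.Helper4.depth_localizedModule_self p]
    exact (key p).2

/-- Cohen–Macaulayness descends from `R` to a direct summand `A`, and `R` is maximal
Cohen–Macaulay over `A`. -/
theorem cm_of_cm (hinj : Function.Injective (algebraMap A R))
    (E : R →ₗ[A] A) (hE : ∀ a : A, E (algebraMap A R a) = a)
    (hht : ∀ (Q : Ideal R) [Q.IsPrime], (Q.comap (algebraMap A R)).height ≤ Q.height)
    (hR : LocCoh.IsCohenMacaulayRing R) :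
    LocCoh.IsCohenMacaulayRing A ∧ ∀ (p : Ideal A) [p.IsPrime],
      LocCoh.IsCohenMacaulayModule (Localization.AtPrime p) (LocalizedModule p.primeCompl R) ∧
        Module.supportDim (Localization.AtPrime p) (LocalizedModule p.primeCompl R) =
          ringKrullDim (Localization.AtPrime p) := by
  have key : ∀ (p : Ideal A) [p.IsPrime],
      p.height ≤ LocCoh.depth (Localization.AtPrime p) (LocalizedModule p.primeCompl R) ∧
      p.height ≤ LocCoh.depth (Localization.AtPrime p) (LocalizedModule p.primeCompl A) := by
    intro p _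
    obtain ⟨n, hn⟩ := ENat.ne_top_iff_exists.mp (Ideal.height_ne_top_of_isPrime (I := p))
    rw [← hn]
    apply natCast_le_depth_of_forall hinj E hE p n
    intro Q _ hQ
    have hcm := hR.isCohenMacaulayLocalRing_localization Q
    have h1 : Module.supportDim (Localization.AtPrime Q) (Localization.AtPrime Q) =
        ((LocCoh.depth (Localization.AtPrime Q) (Localization.AtPrime Q) : ℕ∞) : WithBot ℕ∞) :=
      hcm.supportDim_eq_depth
    rw [Module.supportDim_self_eq_ringKrullDim,
      IsLocalization.AtPrime.ringKrullDim_eq_height Q (Localization.AtPrime Q)] at h1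
    have h2 : Q.height = LocCoh.depth (Localization.AtPrime Q) (Localization.AtPrime Q) :=
      WithBot.coe_eq_coe.mp h1
    rw [Groth.Agent.Lib.Helper4.depth_localizedModule_self Q, ← h2, hn]
    have hpQ : p ≤ Q.comap (algebraMap A R) := Ideal.map_le_iff_le_comap.mp hQ
    exact (Ideal.height_mono hpQ).trans (hht Q)
  refine ⟨?_, ?_⟩
  · refine { isCohenMacaulayLocalRing_localization := ?_ }
    intro p _
    refine { supportDim_eq_depth := ?_ }
    have hk := (key p).2
    rw [Groth.Agent.Lib.Helper4.depth_localizedModule_self p] at hk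
    have hle := Groth.Agent.Lib.Helper28.depth_le_supportDim (R := Localization.AtPrime p)
      (M := Localization.AtPrime p)
    rw [Module.supportDim_self_eq_ringKrullDim,
      IsLocalization.AtPrime.ringKrullDim_eq_height p (Localization.AtPrime p)] at hle ⊢
    exact le_antisymm (WithBot.coe_le_coe.mpr hk) hle
  · intro p _
    haveI hnt : Nontrivial (LocalizedModule p.primeCompl R) := nontrivial_localizedModule hinj p
    have hk := (key p).1
    have hle := Groth.Agent.Lib.Helper28.depth_le_supportDim (R := Localization.AtPrime p)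
      (M := LocalizedModule p.primeCompl R)
    have hle2 := Module.supportDim_le_ringKrullDim (Localization.AtPrime p)
      (LocalizedModule p.primeCompl R)
    rw [IsLocalization.AtPrime.ringKrullDim_eq_height p (Localization.AtPrime p)] at hle2 ⊢
    have hk' : ((p.height : ℕ∞) : WithBot ℕ∞) ≤
        ((LocCoh.depth (Localization.AtPrime p) (LocalizedModule p.primeCompl R) : ℕ∞) :
          WithBot ℕ∞) := WithBot.coe_le_coe.mpr hk
    have e1 : Module.supportDim (Localization.AtPrime p) (LocalizedModule p.primeCompl R) =
        ((p.height : ℕ∞) : WithBot ℕ∞) := le_antisymm hle2 (hk'.trans hle)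
    refine ⟨?_, e1⟩
    unfold LocCoh.IsCohenMacaulayModule
    exact le_antisymm (e1.le.trans hk') hle

end main

end Groth.Agent.Lib.Helper4.InvDepth
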