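import Mathlib
import Groth.Agent.Lib.Helper22.SmoothDim

/-!
# Heights of primes along a "quotient by a finite flat groupoid" (helper4)

Abstract setting: `A → R` integral and injective, `T` a finite free `R`-algebra, and a second ring map
`ρ : R → T` agreeing with the structure map on `A`, such that the norm of `ρ f` lies in `A` and is
divisible by `f`.  (Example: `T = R ⊗ H`, `ρ` the coaction of a finite Hopf algebra, `A` the invariants.)
Then any two primes of `R` over the same prime of `A` are "conjugate" (contractions of one prime of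
`T`), hence have the same height, and `ht q = ht (q ∩ A)` for every prime `q` of `R`.
-/

set_option autoImplicit false
set_option linter.style.haveILetI false
set_option linter.unusedSectionVars false
set_option linter.unusedVariables false
set_option maxHeartbeats 800000

universe u

namespace Groth.Agent.Lib.Helper4.InvHt

/-- Heights can only go up under contraction along an integral ring map. -/
theorem height_le_height_comap_of_isIntegral {R T : Type*} [CommRing R] [CommRing T] (φ : R →+* T)
    (hφ : φ.IsIntegral) (z : Ideal T) [z.IsPrime] : z.height ≤ (z.comap φ).height := by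
  letI : Algebra R T := φ.toAlgebra
  haveI : Algebra.IsIntegral R T := ⟨hφ⟩
  have hmono : StrictMono (PrimeSpectrum.comap (algebraMap R T)) := by
    intro Q1 Q2 h
    have h1 : Q1.asIdeal < Q2.asIdeal := h
    exact Ideal.IsIntegral.comap_lt_comap (R := R) h1
  have := Order.height_le_height_apply_of_strictMono _ hmono (⟨z, inferInstance⟩ : PrimeSpectrum T)
  rw [← PrimeSpectrum.height_eq_orderHeight, ← PrimeSpectrum.height_eq_orderHeight] at this
  exact this

section orbit

variable {R T : Type*} [CommRing R] [CommRing T] [Algebra R T] [Module.Free R T] [Module.Finite R T]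

/-- If `t` avoids all primes of `T` over `q`, then `t` divides (the image of) an element `s ∉ q`. -/
theorem exists_mul_eq_algebraMap_of_forall_notMem (q : Ideal R) [q.IsPrime] (t : T)
    (ht : ∀ Q : Ideal T, Q.IsPrime → Q.comap (algebraMap R T) = q → t ∉ Q) :
    ∃ (u : T) (s : R), s ∉ q ∧ t * u = algebraMap R T s := by
  haveI : Algebra.IsIntegral R T := Algebra.IsIntegral.of_finite R T
  by_contra hcon
  push Not at hcon
  have hdisj : Disjoint ((Ideal.span {t} : Ideal T) : Set T)
      (Algebra.algebraMapSubmonoid T q.primeCompl : Set T) := by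
    rw [Set.disjoint_left]
    intro x hx hx'
    have hx'' : x ∈ Algebra.algebraMapSubmonoid T q.primeCompl := hx'
    obtain ⟨s, hs, rfl⟩ := hx''
    obtain ⟨u, hu⟩ := Ideal.mem_span_singleton'.mp hx
    exact hcon u s (Ideal.mem_primeCompl_iff.mp hs) (by rw [mul_comm]; exact hu)
  obtain ⟨Q0, hQ0, hle, hQ0d⟩ := Ideal.exists_le_prime_disjoint (Ideal.span {t})
    (Algebra.algebraMapSubmonoid T q.primeCompl) hdisj
  have hcomap : Q0.comap (algebraMap R T) ≤ q := by
    intro r hr
    by_contra hrq
    have h1 : algebraMap R T r ∈ (Q0 : Set T) := hr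
    have h2 : algebraMap R T r ∈ (Algebra.algebraMapSubmonoid T q.primeCompl : Set T) :=
      Algebra.mem_algebraMapSubmonoid_of_mem (⟨r, hrq⟩ : q.primeCompl)
    exact Set.disjoint_left.mp hQ0d h1 h2
  obtain ⟨Q, hQ0Q, hQ, hQq⟩ := Ideal.exists_ideal_over_prime_of_isIntegral q Q0 hcomap
  exact ht Q hQ hQq (hQ0Q (hle (Ideal.mem_span_singleton_self t)))

/-- "Transitivity on fibres": if the norm of `ρ f` lies in `q` for all `f ∈ q'`, then some prime `Q`
of `T` contracts to `q` along the structure map and to a prime containing `q'` along `ρ`. -/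
theorem exists_prime_comap_eq_le_comap (ρ : R →+* T) (q q' : Ideal R) [q.IsPrime] [q'.IsPrime]
    (hN : ∀ f ∈ q', Algebra.norm R (ρ f) ∈ q) :
    ∃ Q : Ideal T, Q.IsPrime ∧ Q.comap (algebraMap R T) = q ∧ q' ≤ Q.comap ρ := by
  classical
  by_contra hcon
  push Not at hcon
  have hfin : (q.primesOver T).Finite := Algebra.QuasiFinite.finite_primesOver q
  have hnot : ¬ ((q' : Set R) ⊆ ⋃ Q ∈ (↑hfin.toFinset : Set (Ideal T)),
      ((Q.comap ρ : Ideal R) : Set R)) := by
    intro hsub
    obtain ⟨Q, hQ, hle⟩ := (Ideal.subset_union_prime (s := hfin.toFinset)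
      (f := fun Q : Ideal T => Q.comap ρ) ⊤ ⊤ (fun Q hQ _ _ => by
        have hQ' := hfin.mem_toFinset.mp hQ
        haveI := hQ'.1
        exact Ideal.comap_isPrime ρ Q)).mp hsub
    have hQ' := hfin.mem_toFinset.mp hQ
    exact hcon Q hQ'.1 hQ'.2.over.symm hle
  obtain ⟨f, hf, hfn⟩ := Set.not_subset.mp hnot
  have hav : ∀ Q : Ideal T, Q.IsPrime → Q.comap (algebraMap R T) = q → ρ f ∉ Q := by
    intro Q hQ hQq hmem
    apply hfn
    have hQmem : Q ∈ q.primesOver T := ⟨hQ, ⟨hQq.symm⟩⟩
    exact Set.mem_biUnion (Finset.mem_coe.mpr (hfin.mem_toFinset.mpr hQmem)) hmem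
  obtain ⟨u, s, hs, hus⟩ := exists_mul_eq_algebraMap_of_forall_notMem q (ρ f) hav
  have hnorm := congrArg (Algebra.norm R) hus
  rw [map_mul, Algebra.norm_algebraMap] at hnorm
  have h1 : s ^ Module.finrank R T ∈ q := by
    rw [← hnorm]
    exact Ideal.mul_mem_right _ _ (hN f hf)
  exact hs (Ideal.IsPrime.mem_of_pow_mem ‹q.IsPrime› _ h1)

variable {A : Type*} [CommRing A] [Algebra A R] [Algebra.IsIntegral A R] [IsNoetherianRing R]

/-- Two primes of `R` over the same prime of `A` have comparable (hence equal) heights. -/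
theorem height_le_of_comap_eq
    (ρ : R →+* T) (hρA : ∀ a : A, ρ (algebraMap A R a) = algebraMap R T (algebraMap A R a))
    (hN : ∀ f : R, ∃ a : A, algebraMap A R a = Algebra.norm R (ρ f) ∧ f ∣ Algebra.norm R (ρ f))
    (q q' : Ideal R) [q.IsPrime] [q'.IsPrime]
    (hqq' : q.comap (algebraMap A R) = q'.comap (algebraMap A R)) :
    q.height ≤ q'.height := by
  haveI : IsNoetherianRing T := IsNoetherianRing.of_finite R T
  haveI : Algebra.IsIntegral R T := Algebra.IsIntegral.of_finite R T
  have hNq : ∀ f ∈ q', Algebra.norm R (ρ f) ∈ q := by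
    intro f hf
    obtain ⟨a, ha, hdvd⟩ := hN f
    have h1 : Algebra.norm R (ρ f) ∈ q' := by
      obtain ⟨c, hc⟩ := hdvd
      rw [hc]
      exact Ideal.mul_mem_right c q' hf
    have h2 : a ∈ q'.comap (algebraMap A R) := by
      rw [Ideal.mem_comap, ha]
      exact h1
    rw [← hqq', Ideal.mem_comap, ha] at h2
    exact h2
  obtain ⟨Q, hQ, hQq, hle⟩ := exists_prime_comap_eq_le_comap ρ q q' hNq
  haveI := hQ
  have hcomp : ρ.comp (algebraMap A R) = (algebraMap R T).comp (algebraMap A R) := RingHom.ext hρA
  have hint : ρ.IsIntegral := by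
    have h1 : (ρ.comp (algebraMap A R)).IsIntegral := by
      rw [hcomp]
      exact RingHom.IsIntegral.trans _ _ (algebraMap_isIntegral_iff.mpr inferInstance)
        (algebraMap_isIntegral_iff.mpr inferInstance)
    exact RingHom.IsIntegral.tower_top (algebraMap A R) ρ h1
  haveI hQρ : (Q.comap ρ).IsPrime := Ideal.comap_isPrime ρ Q
  have hover : (Q.comap ρ).comap (algebraMap A R) = q'.comap (algebraMap A R) := by
    rw [Ideal.comap_comap, hcomp, ← Ideal.comap_comap, hQq, hqq']
  have heq : q' = Q.comap ρ := by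
    rcases lt_or_eq_of_le hle with hlt | heq
    · exfalso
      have := Ideal.IsIntegral.comap_lt_comap (R := A) hlt
      rw [hover] at this
      exact lt_irrefl _ this
    · exact heq
  calc q.height = (Q.comap (algebraMap R T)).height := by rw [hQq]
    _ = Q.height := (Groth.Agent.Lib.Helper22.SmoothDim.height_eq_height_under (A := R) Q).symm
    _ ≤ (Q.comap ρ).height := height_le_height_comap_of_isIntegral ρ hint Q
    _ = q'.height := by rw [← heq]

end orbit

section goingUp

/-- Going up: over a prime `p` of height `≥ n` there is a prime of height `≥ n`. -/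
theorem exists_prime_over_height_ge {A R : Type*} [CommRing A] [CommRing R] [Algebra A R]
    [Algebra.IsIntegral A R] [IsNoetherianRing A] (hinj : Function.Injective (algebraMap A R)) :
    ∀ (n : ℕ) (p : Ideal A) [p.IsPrime], (n : ℕ∞) ≤ p.height →
      ∃ q : Ideal R, q.IsPrime ∧ q.comap (algebraMap A R) = p ∧ (n : ℕ∞) ≤ q.height := by
  intro n
  induction n with
  | zero =>
    intro p _ _
    obtain ⟨Q, -, hQ, hQp⟩ := Ideal.exists_ideal_over_prime_of_isIntegral p (⊥ : Ideal R) (by
      intro x hx
      have hx0 : algebraMap A R x = 0 := Ideal.mem_bot.mp (Ideal.mem_comap.mp hx)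
      have : x = 0 := hinj (by rw [hx0, map_zero])
      rw [this]
      exact p.zero_mem)
    exact ⟨Q, hQ, hQp, by simp⟩
  | succ n ih =>
    intro p hp hn
    let x : PrimeSpectrum A := ⟨p, hp⟩
    have hx : p.height = Order.height x := PrimeSpectrum.height_eq_orderHeight x
    have hfin : Order.height x < ⊤ := by
      rw [← hx]
      exact Ideal.height_lt_top_of_isPrime
    have hlt : (n : ℕ∞) < Order.height x := by
      rw [← hx]
      refine lt_of_lt_of_le ?_ hn
      exact_mod_cast Nat.lt_succ_self n
    obtain ⟨y, hyx, hy⟩ := (Order.coe_lt_height_iff hfin).mp hlt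
    haveI := y.isPrime
    obtain ⟨q0, hq0, hq0p, hq0h⟩ := ih y.asIdeal
      (le_of_eq (by rw [PrimeSpectrum.height_eq_orderHeight y, hy]))
    haveI := hq0
    have hyx' : y.asIdeal ≤ p := (PrimeSpectrum.asIdeal_le_asIdeal y x).mpr hyx.le
    obtain ⟨q, hq0q, hq, hqp⟩ := Ideal.exists_ideal_over_prime_of_isIntegral p q0
      (by rw [hq0p]; exact hyx')
    haveI := hq
    refine ⟨q, hq, hqp, ?_⟩
    have hne : q0 ≠ q := by
      intro h
      rw [h, hqp] at hq0p
      exact hyx.ne (PrimeSpectrum.ext hq0p.symm)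
    have hle' : (⟨q0, hq0⟩ : PrimeSpectrum R) ≤ ⟨q, hq⟩ := hq0q
    have hlt' : (⟨q0, hq0⟩ : PrimeSpectrum R) < ⟨q, hq⟩ :=
      lt_of_le_of_ne hle' (fun h => hne (congrArg PrimeSpectrum.asIdeal h))
    have h1 := Order.height_add_one_le hlt'
    rw [← PrimeSpectrum.height_eq_orderHeight, ← PrimeSpectrum.height_eq_orderHeight] at h1
    calc ((n + 1 : ℕ) : ℕ∞) = (n : ℕ∞) + 1 := Nat.cast_succ n
      _ ≤ q0.height + 1 := add_le_add_left hq0h 1
      _ ≤ q.height := h1

end goingUp

section main

variable {A R T : Type*} [CommRing A] [CommRing R] [CommRing T] [Algebra R T] [Module.Free R T]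
  [Module.Finite R T] [Algebra A R] [Algebra.IsIntegral A R] [IsNoetherianRing A] [IsNoetherianRing R]

/-- In the abstract quotient setting, `ht (q ∩ A) ≤ ht q` for every prime `q` of `R`
(the reverse inequality is incomparability). -/
theorem height_comap_le (hinj : Function.Injective (algebraMap A R))
    (ρ : R →+* T) (hρA : ∀ a : A, ρ (algebraMap A R a) = algebraMap R T (algebraMap A R a))
    (hN : ∀ f : R, ∃ a : A, algebraMap A R a = Algebra.norm R (ρ f) ∧ f ∣ Algebra.norm R (ρ f))
    (q : Ideal R) [q.IsPrime] :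
    (q.comap (algebraMap A R)).height ≤ q.height := by
  haveI hp : (q.comap (algebraMap A R)).IsPrime := Ideal.comap_isPrime _ q
  obtain ⟨n, hn⟩ := ENat.ne_top_iff_exists.mp
    (Ideal.height_ne_top_of_isPrime (I := q.comap (algebraMap A R)))
  obtain ⟨q1, hq1, hq1p, hq1h⟩ :=
    exists_prime_over_height_ge hinj n (q.comap (algebraMap A R)) (le_of_eq hn)
  haveI := hq1
  have := height_le_of_comap_eq ρ hρA hN q1 q hq1p
  rw [← hn]
  exact hq1h.trans this

end main

end Groth.Agent.Lib.Helper4.InvHt
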