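import Mathlib
import Groth.Agent.Lib.Helper4.InvHt
import Groth.Agent.Lib.Helper4.InvDepth
import Groth.Agent.Lib.Helper28.FiniteHopfInv
import Groth.Agent.Lib.Helper19.LunaB

/-!
# Invariants of a finite linearly reductive Hopf algebra acting on a finite type algebra:
`(S_r)` and Cohen–Macaulayness descend (helper4)
-/

set_option autoImplicit false
set_option linter.style.haveILetI false
set_option linter.unusedSectionVars false
set_option linter.unusedVariables false
set_option maxHeartbeats 800000

universe u

open TensorProduct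

namespace Groth.Agent.Lib.Helper4.InvHopf

section

variable {k : Type u} [Field k] {H : Type u} [CommRing H] [HopfAlgebra k H] [Module.Finite k H]
  {R : Type u} [CommRing R] [Algebra k R] [HopfRep.Comod k H R] [GLin.IsCoactAlg k H R]

theorem norm_mem (f : R) :
    Algebra.norm R (HopfRep.Comod.coact (k := k) (A := H) f) ∈ GLin.invariants k H R := by
  rw [Algebra.norm_apply, LinearMap.det_eq_sign_charpoly_coeff]
  exact mul_mem (pow_mem (neg_mem (one_mem _)) _)
    (Groth.Agent.Lib.Helper28.FiniteHopfInv.coeff_cp_mem (k := k) (A := H) f 0)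

theorem dvd_norm (f : R) : f ∣ Algebra.norm R (HopfRep.Comod.coact (k := k) (A := H) f) := by
  rw [Algebra.norm_apply, LinearMap.det_eq_sign_charpoly_coeff]
  apply Dvd.dvd.mul_left
  have h0 := Groth.Agent.Lib.Helper28.FiniteHopfInv.aeval_cp_coact (k := k) (A := H) f
  unfold Groth.Agent.Lib.Helper28.FiniteHopfInv.cp at h0
  obtain ⟨P, hP⟩ : ∃ P, P =
    (Algebra.lmul R (R ⊗[k] H) (HopfRep.Comod.coact (k := k) (A := H) f)).charpoly := ⟨_, rfl⟩
  rw [← hP] at h0 ⊢
  have h1 : Polynomial.aeval f (Polynomial.X * Polynomial.divX P + Polynomial.C (P.coeff 0)) = 0 := by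
    rw [Polynomial.X_mul_divX_add]
    exact h0
  rw [map_add, map_mul, Polynomial.aeval_X, Polynomial.aeval_C] at h1
  have h2 : (algebraMap R R) (P.coeff 0) = P.coeff 0 := rfl
  rw [h2] at h1
  refine ⟨-(Polynomial.aeval f (Polynomial.divX P)), ?_⟩
  linear_combination h1

variable [Algebra.FiniteType k R]

theorem algebraMap_injective :
    Function.Injective (algebraMap ↥(GLin.invariants k H R) R) := Subtype.val_injective

/-- All primes of `R` over a prime `p` of the invariants have height at least `ht p`. -/
theorem height_comap_le (Q : Ideal R) [Q.IsPrime] :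
    (Q.comap (algebraMap ↥(GLin.invariants k H R) R)).height ≤ Q.height := by
  haveI : IsNoetherianRing R := Algebra.FiniteType.isNoetherianRing k R
  haveI : Algebra.FiniteType k ↥(GLin.invariants k H R) :=
    Groth.Agent.Lib.Helper28.FiniteHopfInv.finiteType_invariants
  haveI : IsNoetherianRing ↥(GLin.invariants k H R) :=
    Algebra.FiniteType.isNoetherianRing k ↥(GLin.invariants k H R)
  haveI : Algebra.IsIntegral ↥(GLin.invariants k H R) R :=
    Groth.Agent.Lib.Helper28.FiniteHopfInv.isIntegral_algebra
  refine Groth.Agent.Lib.Helper4.InvHt.height_comap_le (A := ↥(GLin.invariants k H R)) (R := R)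
    (T := R ⊗[k] H) algebraMap_injective (GLin.coactAlgHom k H R).toRingHom ?_ ?_ Q
  · intro a
    change HopfRep.Comod.coact (k := k) (A := H) (a : R) = algebraMap R (R ⊗[k] H) (a : R)
    rw [Algebra.TensorProduct.algebraMap_apply]
    exact a.2
  · intro f
    exact ⟨⟨_, norm_mem (k := k) (H := H) f⟩, rfl, dvd_norm (k := k) (H := H) f⟩

/-- The Reynolds operator as a linear retraction of `R` onto the invariants. -/
theorem exists_reynolds (hG : HopfRep.IsLinearlyReductive k H) :
    ∃ E : R →ₗ[↥(GLin.invariants k H R)] ↥(GLin.invariants k H R),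
      ∀ a : ↥(GLin.invariants k H R), E (algebraMap ↥(GLin.invariants k H R) R a) = a := by
  haveI : TameAct.IsHopfMod k H R R := Groth.Agent.Lib.Helper19.Luna.isHopfMod_self
  obtain ⟨EA, _, h1, h2, -, -, -, -, h7, -⟩ :=
    Groth.Agent.Lib.Helper19.Luna.exists_reynolds_pair (K := k) (H := H) (A := R) (M := R) hG
  refine ⟨{ toFun := fun r => ⟨EA r, h1 r⟩
            map_add' := fun x y => Subtype.ext (map_add EA x y)
            map_smul' := fun a r => Subtype.ext (by
              change EA (a • r) = (a : R) * EA r
              rw [Algebra.smul_def]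
              exact h7 (a : R) a.2 r) }, fun a => Subtype.ext (h2 (a : R) a.2)⟩

theorem hasSk (hG : HopfRep.IsLinearlyReductive k H) (r : ℕ) (hR : LocCoh.HasSk r R R) :
    LocCoh.HasSk r ↥(GLin.invariants k H R) R ∧
      LocCoh.HasSk r ↥(GLin.invariants k H R) ↥(GLin.invariants k H R) := by
  haveI : IsNoetherianRing R := Algebra.FiniteType.isNoetherianRing k R
  haveI : Algebra.FiniteType k ↥(GLin.invariants k H R) :=
    Groth.Agent.Lib.Helper28.FiniteHopfInv.finiteType_invariants
  haveI : IsNoetherianRing ↥(GLin.invariants k H R) :=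
    Algebra.FiniteType.isNoetherianRing k ↥(GLin.invariants k H R)
  haveI : Module.Finite ↥(GLin.invariants k H R) R :=
    Groth.Agent.Lib.Helper28.FiniteHopfInv.finite_invariants
  obtain ⟨E, hE⟩ := exists_reynolds (k := k) (H := H) (R := R) hG
  exact Groth.Agent.Lib.Helper4.InvDepth.hasSk_of_hasSk algebraMap_injective E hE
    (fun Q _ => height_comap_le (k := k) (H := H) Q) r hR

theorem cm (hG : HopfRep.IsLinearlyReductive k H) (hR : LocCoh.IsCohenMacaulayRing R) :
    LocCoh.IsCohenMacaulayRing ↥(GLin.invariants k H R) ∧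
      ∀ (p : Ideal ↥(GLin.invariants k H R)) [p.IsPrime],
        LocCoh.IsCohenMacaulayModule (Localization.AtPrime p) (LocalizedModule p.primeCompl R) ∧
          Module.supportDim (Localization.AtPrime p) (LocalizedModule p.primeCompl R) =
            ringKrullDim (Localization.AtPrime p) := by
  haveI : IsNoetherianRing R := Algebra.FiniteType.isNoetherianRing k R
  haveI : Algebra.FiniteType k ↥(GLin.invariants k H R) :=
    Groth.Agent.Lib.Helper28.FiniteHopfInv.finiteType_invariants
  haveI : IsNoetherianRing ↥(GLin.invariants k H R) :=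
    Algebra.FiniteType.isNoetherianRing k ↥(GLin.invariants k H R)
  haveI : Module.Finite ↥(GLin.invariants k H R) R :=
    Groth.Agent.Lib.Helper28.FiniteHopfInv.finite_invariants
  obtain ⟨E, hE⟩ := exists_reynolds (k := k) (H := H) (R := R) hG
  exact Groth.Agent.Lib.Helper4.InvDepth.cm_of_cm algebraMap_injective E hE
    (fun Q _ => height_comap_le (k := k) (H := H) Q) hR

end

end Groth.Agent.Lib.Helper4.InvHopf
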