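import Mathlib

/-!
# Lifting isomorphisms of finite projective modules modulo an ideal in the Jacobson radical
(helper4)
-/

set_option autoImplicit false

universe u v w

open TensorProduct

namespace Groth.Agent.Lib.Helper4

section

variable {R : Type u} [CommRing R] (I : Ideal R)

lemma mk_one_surjective (X : Type v) [AddCommGroup X] [Module R X] :
    Function.Surjective (TensorProduct.mk R (R ⧸ I) X 1) := by
  rw [← TensorProduct.quotTensorEquivQuotSMul_symm_comp_mkQ]
  exact (TensorProduct.quotTensorEquivQuotSMul X I).symm.surjective.comp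
    (Submodule.mkQ_surjective _)

lemma one_tmul_eq_zero_iff {X : Type v} [AddCommGroup X] [Module R X] (x : X) :
    (1 : R ⧸ I) ⊗ₜ[R] x = 0 ↔ x ∈ I • (⊤ : Submodule R X) := by
  rw [← (TensorProduct.quotTensorEquivQuotSMul X I).map_eq_zero_iff,
    TensorProduct.quotTensorEquivQuotSMul_mk_one_tmul, Submodule.Quotient.mk_eq_zero]

variable {I}

/-- A map to a finite projective module which is bijective modulo `I ⊆ rad R` is bijective. -/
theorem bijective_of_baseChange_bijective (hI : I ≤ Ideal.jacobson (⊥ : Ideal R))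
    {P : Type v} {P' : Type w} [AddCommGroup P] [Module R P] [Module.Finite R P]
    [AddCommGroup P'] [Module R P'] [Module.Finite R P'] [Module.Projective R P']
    (φ : P →ₗ[R] P') (h : Function.Bijective (φ.baseChange (R ⧸ I))) : Function.Bijective φ := by
  have hsurj : Function.Surjective φ := by
    rw [← LinearMap.range_eq_top, eq_top_iff]
    apply Submodule.le_of_le_smul_of_le_jacobson_bot Module.Finite.fg_top hI
    intro p' _
    obtain ⟨t, ht⟩ := h.2 ((1 : R ⧸ I) ⊗ₜ p')
    obtain ⟨x, rfl⟩ := mk_one_surjective I P t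
    rw [TensorProduct.mk_apply, LinearMap.baseChange_tmul] at ht
    have h1 : p' - φ x ∈ I • (⊤ : Submodule R P') :=
      (one_tmul_eq_zero_iff I _).mp (by rw [TensorProduct.tmul_sub, ht, sub_self])
    have h2 : p' = φ x + (p' - φ x) := by abel
    rw [h2]
    exact Submodule.add_mem_sup (LinearMap.mem_range_self φ x) h1
  refine ⟨?_, hsurj⟩
  obtain ⟨s, hs⟩ := Module.projective_lifting_property φ LinearMap.id hsurj
  have hs' : ∀ y, φ (s y) = y := fun y => LinearMap.congr_fun hs y
  obtain ⟨π, hπ⟩ : ∃ π : P →ₗ[R] P, π = LinearMap.id - s ∘ₗ φ := ⟨_, rfl⟩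
  have hπapp : ∀ y, π y = y - s (φ y) := fun y => by rw [hπ]; rfl
  have hker : LinearMap.ker φ = LinearMap.range π := by
    ext k
    constructor
    · intro hk
      refine ⟨k, ?_⟩
      rw [hπapp, LinearMap.mem_ker.mp hk, map_zero, sub_zero]
    · rintro ⟨y, rfl⟩
      rw [LinearMap.mem_ker, hπapp, map_sub, hs', sub_self]
  have hfg : (LinearMap.ker φ).FG := by
    rw [hker, LinearMap.range_eq_map]
    exact Module.Finite.fg_top.map _
  have hle : LinearMap.ker φ ≤ I • LinearMap.ker φ := by
    intro k hk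
    have h1 : (1 : R ⧸ I) ⊗ₜ[R] k = 0 := by
      apply h.1
      rw [LinearMap.baseChange_tmul, LinearMap.mem_ker.mp hk, TensorProduct.tmul_zero, map_zero]
    have h2 : k ∈ I • (⊤ : Submodule R P) := (one_tmul_eq_zero_iff I k).mp h1
    have h3 : π k = k := by rw [hπapp, LinearMap.mem_ker.mp hk, map_zero, sub_zero]
    have h4 : π k ∈ Submodule.map π (I • ⊤) := Submodule.mem_map_of_mem h2
    rw [Submodule.map_smul'', Submodule.map_top, ← hker, h3] at h4
    exact h4
  have hbot := Submodule.eq_bot_of_le_smul_of_le_jacobson_bot I _ hfg hle hI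
  exact LinearMap.ker_eq_bot.mp hbot

/-- Finite projective modules which are isomorphic modulo `I ⊆ rad R` are isomorphic. -/
theorem nonempty_linearEquiv_of_baseChange (hI : I ≤ Ideal.jacobson (⊥ : Ideal R))
    (P : Type v) (P' : Type w) [AddCommGroup P] [Module R P] [Module.Finite R P]
    [Module.Projective R P] [AddCommGroup P'] [Module R P'] [Module.Finite R P']
    [Module.Projective R P'] (e : (R ⧸ I) ⊗[R] P ≃ₗ[R ⧸ I] (R ⧸ I) ⊗[R] P') :
    Nonempty (P ≃ₗ[R] P') := by
  obtain ⟨φ, hφ⟩ := Module.projective_lifting_property (TensorProduct.mk R (R ⧸ I) P' 1)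
    ((e.toLinearMap.restrictScalars R) ∘ₗ TensorProduct.mk R (R ⧸ I) P 1)
    (mk_one_surjective I P')
  have hbc : ∀ t, φ.baseChange (R ⧸ I) t = e t := by
    intro t
    obtain ⟨p, rfl⟩ := mk_one_surjective I P t
    rw [TensorProduct.mk_apply, LinearMap.baseChange_tmul]
    exact LinearMap.congr_fun hφ p
  have hbij : Function.Bijective (φ.baseChange (R ⧸ I)) := by
    have : ⇑(φ.baseChange (R ⧸ I)) = ⇑e := funext hbc
    rw [this]
    exact e.bijective
  exact ⟨LinearEquiv.ofBijective φ (bijective_of_baseChange_bijective hI φ hbij)⟩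

end

end Groth.Agent.Lib.Helper4
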