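import Mathlib

/-!
# Euler characteristics of long exact sequences of modules of finite length

* `sgn i = (-1)^i`, `len A N` (the length as an integer), `chiF A W = ∑ᶠ i, sgn i * len A (W i)`.
* `chi_les`: for a long exact sequence `… → X i → Y i → Z i → X (i+1) → …` of modules of finite
  length, almost all zero, `χ(Y) = χ(X) + χ(Z)`.
-/

set_option autoImplicit false
set_option linter.style.haveILetI false
set_option linter.unusedSectionVars false
set_option linter.unusedVariables false
set_option maxHeartbeats 800000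

universe u v

namespace Groth.Agent.Lib.Helper4.KE

/-- the sign `(-1)^i` as an integer. -/
def sgn (i : ℤ) : ℤ := ((i.negOnePow : ℤˣ) : ℤ)

lemma sgn_succ (i : ℤ) : sgn (i + 1) = -sgn i := by
  unfold sgn
  rw [Int.negOnePow_succ, Units.val_neg]

lemma sgn_pred (i : ℤ) : sgn i = -sgn (i - 1) := by
  have h := sgn_succ (i - 1)
  rw [sub_add_cancel] at h
  exact h

lemma sgn_zero : sgn 0 = 1 := by
  unfold sgn
  rw [Int.negOnePow_zero, Units.val_one]

lemma finite_support_of_bound (F : ℤ → ℤ) (N : ℕ) (h : ∀ i : ℤ, (N : ℤ) < |i| → F i = 0) :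
    (Function.support F).Finite := by
  refine (Set.finite_Icc (-(N : ℤ)) (N : ℤ)).subset ?_
  intro i hi
  rw [Function.mem_support] at hi
  rw [Set.mem_Icc]
  by_contra hcon
  apply hi
  apply h
  rw [lt_abs]
  rw [not_and_or, not_le, not_le] at hcon
  rcases hcon with h1 | h1
  · right
    omega
  · left
    exact h1

lemma finsum_alt_shift (W : ℤ → ℤ) (hW : (Function.support W).Finite) :
    ∑ᶠ i : ℤ, (sgn i * W (i - 1) + sgn i * W i) = 0 := by
  have h1 : (Function.support fun i : ℤ => sgn i * W (i - 1)).Finite := by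
    refine (hW.image (fun j => j + 1)).subset ?_
    intro i hi
    rw [Function.mem_support] at hi
    refine ⟨i - 1, ?_, sub_add_cancel i 1⟩
    rw [Function.mem_support]
    intro h0
    apply hi
    rw [h0, mul_zero]
  have h2 : (Function.support fun i : ℤ => sgn i * W i).Finite := by
    refine hW.subset ?_
    intro i hi
    rw [Function.mem_support] at hi ⊢
    intro h0
    apply hi
    rw [h0, mul_zero]
  have e1 : ∑ᶠ i : ℤ, (sgn i * W (i - 1) + sgn i * W i) =
      (∑ᶠ i : ℤ, sgn i * W (i - 1)) + ∑ᶠ i : ℤ, sgn i * W i := finsum_add_distrib h1 h2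
  have e2 : ∑ᶠ i : ℤ, sgn i * W (i - 1) = -∑ᶠ i : ℤ, sgn (i - 1) * W (i - 1) := by
    rw [← finsum_neg_distrib]
    apply finsum_congr
    intro i
    show sgn i * W (i - 1) = -(sgn (i - 1) * W (i - 1))
    rw [sgn_pred i, neg_mul]
  have e3 : ∑ᶠ i : ℤ, sgn (i - 1) * W (i - 1) = ∑ᶠ j : ℤ, sgn j * W j :=
    finsum_comp_equiv (Equiv.subRight (1 : ℤ)) (f := fun j => sgn j * W j)
  rw [e1, e2, e3]
  exact neg_add_cancel _

section

variable (A : Type u) [Ring A]

/-- length as an integer. -/
noncomputable def len (N : Type v) [AddCommGroup N] [Module A N] : ℤ :=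
  ((Module.length A N).toNat : ℤ)

/-- Euler characteristic of a `ℤ`-indexed family of modules. -/
noncomputable def chiF (W : ℤ → Type v) [∀ i, AddCommGroup (W i)] [∀ i, Module A (W i)] : ℤ :=
  ∑ᶠ i : ℤ, sgn i * len A (W i)

variable {A}

lemma len_nonneg (N : Type v) [AddCommGroup N] [Module A N] : 0 ≤ len A N :=
  Int.natCast_nonneg _

lemma len_eq_of_equiv {N N' : Type v} [AddCommGroup N] [Module A N] [AddCommGroup N']
    [Module A N'] (e : N ≃ₗ[A] N') : len A N = len A N' := by
  unfold len
  rw [e.length_eq]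

lemma len_of_subsingleton (N : Type v) [AddCommGroup N] [Module A N] [Subsingleton N] :
    len A N = 0 := by
  unfold len
  rw [Module.length_eq_zero]
  rfl

lemma len_pos_of_nontrivial (N : Type v) [AddCommGroup N] [Module A N] [Nontrivial N]
    (h : IsFiniteLength A N) : 0 < len A N := by
  unfold len
  have h1 : Module.length A N ≠ ⊤ := Module.length_ne_top_iff.mpr h
  have h2 : 0 < Module.length A N := Module.length_pos
  have h3 : (Module.length A N).toNat ≠ 0 := by
    intro h0
    rcases (ENat.toNat_eq_zero).mp h0 with h | h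
    · exact (ne_of_gt h2) h
    · exact h1 h
  exact_mod_cast Nat.pos_of_ne_zero h3

lemma length_ker_add_range {M P : Type v} [AddCommGroup M] [Module A M] [AddCommGroup P]
    [Module A P] (g : M →ₗ[A] P) :
    Module.length A M =
      Module.length A (LinearMap.ker g) + Module.length A (LinearMap.range g) := by
  refine Module.length_eq_add_of_exact (LinearMap.ker g).subtype g.rangeRestrict
    (Submodule.subtype_injective _) g.surjective_rangeRestrict ?_
  intro y
  constructor
  · intro hy
    have hy' : g y = 0 := congrArg Subtype.val hy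
    exact ⟨⟨y, hy'⟩, rfl⟩
  · rintro ⟨x, rfl⟩
    exact Subtype.ext (LinearMap.mem_ker.mp x.2)

lemma len_eq_ker_add_range {M P : Type v} [AddCommGroup M] [Module A M] [AddCommGroup P]
    [Module A P] (g : M →ₗ[A] P) (hM : IsFiniteLength A M) :
    len A M = len A (LinearMap.ker g) + len A (LinearMap.range g) := by
  unfold len
  have h := length_ker_add_range g
  have hM' : Module.length A M ≠ ⊤ := Module.length_ne_top_iff.mpr hM
  have h1 : Module.length A (LinearMap.ker g) ≠ ⊤ := by
    intro h0
    rw [h0, top_add] at h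
    exact hM' h
  have h2 : Module.length A (LinearMap.range g) ≠ ⊤ := by
    intro h0
    rw [h0, add_top] at h
    exact hM' h
  rw [h, ENat.toNat_add h1 h2, Nat.cast_add]

lemma len_range_of_subsingleton {M P : Type v} [AddCommGroup M] [Module A M] [AddCommGroup P]
    [Module A P] (g : M →ₗ[A] P) [Subsingleton M] : len A (LinearMap.range g) = 0 := by
  haveI : Subsingleton (LinearMap.range g) := by
    refine ⟨fun a b => ?_⟩
    obtain ⟨z, hz⟩ := a.2
    obtain ⟨z', hz'⟩ := b.2
    exact Subtype.ext (by rw [← hz, ← hz', Subsingleton.elim z z'])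
  exact len_of_subsingleton _

lemma len_range_of_subsingleton' {M P : Type v} [AddCommGroup M] [Module A M] [AddCommGroup P]
    [Module A P] (g : M →ₗ[A] P) [Subsingleton P] : len A (LinearMap.range g) = 0 := by
  haveI : Subsingleton (LinearMap.range g) := ⟨fun a b => Subtype.ext (Subsingleton.elim _ _)⟩
  exact len_of_subsingleton _

lemma chiF_congr (X Y : ℤ → Type v) [∀ i, AddCommGroup (X i)] [∀ i, Module A (X i)]
    [∀ i, AddCommGroup (Y i)] [∀ i, Module A (Y i)] (e : ∀ i, X i ≃ₗ[A] Y i) :
    chiF A X = chiF A Y := by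
  unfold chiF
  apply finsum_congr
  intro i
  show sgn i * len A (X i) = sgn i * len A (Y i)
  rw [len_eq_of_equiv (e i)]

lemma chiF_of_subsingleton (X : ℤ → Type v) [∀ i, AddCommGroup (X i)] [∀ i, Module A (X i)]
    (h : ∀ i, Subsingleton (X i)) : chiF A X = 0 := by
  unfold chiF
  have : (fun i : ℤ => sgn i * len A (X i)) = fun _ => 0 := by
    funext i
    haveI := h i
    rw [len_of_subsingleton, mul_zero]
  rw [this, finsum_zero]

lemma chiF_eq_len_zero (X : ℤ → Type v) [∀ i, AddCommGroup (X i)] [∀ i, Module A (X i)]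
    (h : ∀ i : ℤ, i ≠ 0 → Subsingleton (X i)) : chiF A X = len A (X 0) := by
  unfold chiF
  rw [finsum_eq_single (fun i : ℤ => sgn i * len A (X i)) 0 (fun i hi => by
    haveI := h i hi
    show sgn i * len A (X i) = 0
    rw [len_of_subsingleton, mul_zero])]
  show sgn 0 * len A (X 0) = len A (X 0)
  rw [sgn_zero, one_mul]

/-- **Euler characteristic of a long exact sequence.** -/
theorem chi_les (X Y Z : ℤ → Type v) [∀ i, AddCommGroup (X i)] [∀ i, Module A (X i)]
    [∀ i, AddCommGroup (Y i)] [∀ i, Module A (Y i)] [∀ i, AddCommGroup (Z i)]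
    [∀ i, Module A (Z i)]
    (f : ∀ i, X i →ₗ[A] Y i) (g : ∀ i, Y i →ₗ[A] Z i)
    (δ : ∀ i j : ℤ, i + 1 = j → (Z i →ₗ[A] X j))
    (h₁ : ∀ i, Function.Exact (f i) (g i))
    (h₂ : ∀ i j (h : i + 1 = j), Function.Exact (g i) (δ i j h))
    (h₃ : ∀ i j (h : i + 1 = j), Function.Exact (δ i j h) (f j))
    (hX : ∀ i, IsFiniteLength A (X i)) (hY : ∀ i, IsFiniteLength A (Y i))
    (hZ : ∀ i, IsFiniteLength A (Z i)) (N : ℕ)
    (hXs : ∀ i : ℤ, (N : ℤ) < |i| → Subsingleton (X i))
    (hYs : ∀ i : ℤ, (N : ℤ) < |i| → Subsingleton (Y i))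
    (hZs : ∀ i : ℤ, (N : ℤ) < |i| → Subsingleton (Z i)) :
    chiF A Y = chiF A X + chiF A Z := by
  obtain ⟨U, hU⟩ : ∃ U : ℤ → ℤ, ∀ i, U i = len A (LinearMap.range (f i)) := ⟨_, fun _ => rfl⟩
  obtain ⟨V, hV⟩ : ∃ V : ℤ → ℤ, ∀ i, V i = len A (LinearMap.range (g i)) := ⟨_, fun _ => rfl⟩
  obtain ⟨W, hW⟩ : ∃ W : ℤ → ℤ, ∀ i, W i = len A (LinearMap.range (δ i (i + 1) rfl)) :=
    ⟨_, fun _ => rfl⟩
  have hWeq : ∀ i j (h : i + 1 = j), len A (LinearMap.range (δ i j h)) = W i := by
    intro i j h
    subst h
    exact (hW i).symm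
  have hYi : ∀ i, len A (Y i) = U i + V i := by
    intro i
    rw [len_eq_ker_add_range (g i) (hY i), hU, hV]
    have : len A (LinearMap.ker (g i)) = len A (LinearMap.range (f i)) := by
      rw [LinearMap.exact_iff.mp (h₁ i)]
    rw [this]
  have hZi : ∀ i, len A (Z i) = V i + W i := by
    intro i
    rw [len_eq_ker_add_range (δ i (i + 1) rfl) (hZ i), hV, hW]
    have : len A (LinearMap.ker (δ i (i + 1) rfl)) = len A (LinearMap.range (g i)) := by
      rw [LinearMap.exact_iff.mp (h₂ i (i + 1) rfl)]
    rw [this]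
  have hXi : ∀ i, len A (X i) = W (i - 1) + U i := by
    intro i
    have hi : i - 1 + 1 = i := sub_add_cancel i 1
    rw [len_eq_ker_add_range (f i) (hX i), hU, ← hWeq (i - 1) i hi]
    have : len A (LinearMap.ker (f i)) = len A (LinearMap.range (δ (i - 1) i hi)) := by
      rw [LinearMap.exact_iff.mp (h₃ (i - 1) i hi)]
    rw [this]
  have hpt : ∀ i, sgn i * len A (X i) + sgn i * len A (Z i) =
      sgn i * len A (Y i) + (sgn i * W (i - 1) + sgn i * W i) := by
    intro i
    rw [hXi, hYi, hZi]
    ring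
  have hW0 : ∀ j : ℤ, (N : ℤ) < |j| → W j = 0 := by
    intro j hj
    rw [hW]
    haveI := hZs j hj
    exact len_range_of_subsingleton _
  have sX : (Function.support fun i : ℤ => sgn i * len A (X i)).Finite :=
    finite_support_of_bound _ N (fun i hi => by
      haveI := hXs i hi
      show sgn i * len A (X i) = 0
      rw [len_of_subsingleton, mul_zero])
  have sY : (Function.support fun i : ℤ => sgn i * len A (Y i)).Finite :=
    finite_support_of_bound _ N (fun i hi => by
      haveI := hYs i hi
      show sgn i * len A (Y i) = 0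
      rw [len_of_subsingleton, mul_zero])
  have sZ : (Function.support fun i : ℤ => sgn i * len A (Z i)).Finite :=
    finite_support_of_bound _ N (fun i hi => by
      haveI := hZs i hi
      show sgn i * len A (Z i) = 0
      rw [len_of_subsingleton, mul_zero])
  have sW : (Function.support W).Finite := finite_support_of_bound W N hW0
  have sWW : (Function.support fun i : ℤ => sgn i * W (i - 1) + sgn i * W i).Finite :=
    finite_support_of_bound _ (N + 1) (fun i hi => by
      show sgn i * W (i - 1) + sgn i * W i = 0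
      rw [lt_abs] at hi
      have hi1 : (N : ℤ) < |i - 1| := by
        rw [lt_abs]
        push_cast at hi
        rcases hi with h | h
        · left; omega
        · right; omega
      have hi2 : (N : ℤ) < |i| := by
        rw [lt_abs]
        push_cast at hi
        rcases hi with h | h
        · left; omega
        · right; omega
      rw [hW0 _ hi1, hW0 _ hi2, mul_zero, add_zero])
  calc chiF A Y = ∑ᶠ i : ℤ, sgn i * len A (Y i) + 0 := (add_zero _).symm
    _ = ∑ᶠ i : ℤ, sgn i * len A (Y i) + ∑ᶠ i : ℤ, (sgn i * W (i - 1) + sgn i * W i) := by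
        rw [finsum_alt_shift W sW]
    _ = ∑ᶠ i : ℤ, (sgn i * len A (Y i) + (sgn i * W (i - 1) + sgn i * W i)) :=
        (finsum_add_distrib sY sWW).symm
    _ = ∑ᶠ i : ℤ, (sgn i * len A (X i) + sgn i * len A (Z i)) :=
        finsum_congr (fun i => (hpt i).symm)
    _ = chiF A X + chiF A Z := finsum_add_distrib sX sZ

end

end Groth.Agent.Lib.Helper4.KE
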