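import Groth.Agent.Lib.Helper4.KE2

/-!
# Euler characteristic of Koszul cohomology: products and powers

* `mulQ`, `projQ`: the exact sequence `0 → N/aN --b--> N/(ab)N → N/bN → 0` (`b` regular).
* `smul_zero_or_regular`: on `A/p` every element acts as zero or as a nonzerodivisor.
* `induction_good`: prime filtration induction for modules `N` with `N/IN` of finite length.
* `chiK_mul_head`: `χ(xy, l; N) = χ(x, l; N) + χ(y, l; N)`.
* `chiK_pow`: `χ(x^m; N) = ∏ m_j · χ(x; N)`.
-/

set_option autoImplicit false
set_option linter.style.haveILetI false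
set_option linter.unusedSectionVars false
set_option linter.unusedVariables false
set_option maxHeartbeats 800000

universe u

open CategoryTheory CategoryTheory.Limits Pointwise

namespace Groth.Agent.Lib.Helper4.KE

open CohIII Groth.Agent.Lib.Helper14.KoszulFun

variable {A : Type u} [CommRing A]

section sesMul

variable (a b : A) (N : Type u) [AddCommGroup N] [Module A N]

lemma le_comap_lsmul : (a • (⊤ : Submodule A N)) ≤
    ((a * b) • (⊤ : Submodule A N)).comap (LinearMap.lsmul A N b) := by
  intro n hn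
  obtain ⟨m, -, rfl⟩ := (Submodule.mem_smul_pointwise_iff_exists _ _ _).mp hn
  rw [Submodule.mem_comap, LinearMap.lsmul_apply, smul_smul, mul_comm b a]
  exact Submodule.smul_mem_pointwise_smul m (a * b) ⊤ Submodule.mem_top

lemma le_comap_id : ((a * b) • (⊤ : Submodule A N)) ≤
    (b • (⊤ : Submodule A N)).comap LinearMap.id := by
  intro n hn
  obtain ⟨m, -, rfl⟩ := (Submodule.mem_smul_pointwise_iff_exists _ _ _).mp hn
  rw [Submodule.mem_comap, LinearMap.id_apply, mul_comm a b, mul_smul]
  exact Submodule.smul_mem_pointwise_smul (a • m) b ⊤ Submodule.mem_top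

/-- multiplication by `b` as a map `N/aN → N/(ab)N`. -/
noncomputable def mulQ : QuotSMulTop a N →ₗ[A] QuotSMulTop (a * b) N :=
  Submodule.mapQ _ _ (LinearMap.lsmul A N b) (le_comap_lsmul a b N)

/-- the projection `N/(ab)N → N/bN`. -/
noncomputable def projQ : QuotSMulTop (a * b) N →ₗ[A] QuotSMulTop b N :=
  Submodule.mapQ _ _ LinearMap.id (le_comap_id a b N)

lemma mulQ_mk (n : N) :
    mulQ a b N (Submodule.Quotient.mk n) = Submodule.Quotient.mk (b • n) := rfl

lemma projQ_mk (n : N) :
    projQ a b N (Submodule.Quotient.mk n) = Submodule.Quotient.mk n := rfl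

lemma projQ_surjective : Function.Surjective (projQ a b N) := by
  intro q
  obtain ⟨n, rfl⟩ := Submodule.Quotient.mk_surjective _ q
  exact ⟨Submodule.Quotient.mk n, rfl⟩

lemma mulQ_injective (hb : IsSMulRegular N b) : Function.Injective (mulQ a b N) := by
  rw [injective_iff_map_eq_zero]
  intro q hq
  obtain ⟨n, rfl⟩ := Submodule.Quotient.mk_surjective _ q
  rw [mulQ_mk, Submodule.Quotient.mk_eq_zero] at hq
  obtain ⟨m, -, hm⟩ := (Submodule.mem_smul_pointwise_iff_exists _ _ _).mp hq
  rw [Submodule.Quotient.mk_eq_zero]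
  have hn : n = a • m := hb (by
    show b • n = b • (a • m)
    rw [← hm, smul_smul, mul_comm])
  rw [hn]
  exact Submodule.smul_mem_pointwise_smul m a ⊤ Submodule.mem_top

lemma mulQ_projQ_exact : Function.Exact (mulQ a b N) (projQ a b N) := by
  intro q
  constructor
  · intro hq
    obtain ⟨n, rfl⟩ := Submodule.Quotient.mk_surjective _ q
    rw [projQ_mk, Submodule.Quotient.mk_eq_zero] at hq
    obtain ⟨m, -, rfl⟩ := (Submodule.mem_smul_pointwise_iff_exists _ _ _).mp hq
    exact ⟨Submodule.Quotient.mk m, rfl⟩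
  · rintro ⟨p, rfl⟩
    obtain ⟨n, rfl⟩ := Submodule.Quotient.mk_surjective _ p
    rw [mulQ_mk, projQ_mk, Submodule.Quotient.mk_eq_zero]
    exact Submodule.smul_mem_pointwise_smul n b ⊤ Submodule.mem_top

lemma subsingleton_quotSMulTop_one : Subsingleton (QuotSMulTop (1 : A) N) := by
  refine ⟨fun p q => ?_⟩
  obtain ⟨m, rfl⟩ := Submodule.Quotient.mk_surjective _ p
  obtain ⟨m', rfl⟩ := Submodule.Quotient.mk_surjective _ q
  rw [Submodule.Quotient.eq, ← one_smul A (m - m')]
  exact Submodule.smul_mem_pointwise_smul _ 1 ⊤ Submodule.mem_top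

end sesMul

lemma smul_zero_or_regular {N : Type u} [AddCommGroup N] [Module A N] (p : PrimeSpectrum A)
    (e : N ≃ₗ[A] A ⧸ p.1) (x : A) : (∀ n : N, x • n = 0) ∨ IsSMulRegular N x := by
  haveI := p.isPrime
  by_cases hx : x ∈ p.1
  · left
    intro n
    apply e.injective
    rw [map_smul, map_zero]
    obtain ⟨a, ha⟩ := Ideal.Quotient.mk_surjective (e n)
    rw [← ha, Algebra.smul_def, Ideal.Quotient.algebraMap_eq, ← map_mul,
      Ideal.Quotient.eq_zero_iff_mem]
    exact p.1.mul_mem_right a hx
  · right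
    intro n n' h
    have h' : x • e n = x • e n' := by
      rw [← map_smul, ← map_smul]
      exact congrArg e h
    apply e.injective
    rw [Algebra.smul_def, Algebra.smul_def, Ideal.Quotient.algebraMap_eq] at h'
    have hx0 : Ideal.Quotient.mk p.1 x ≠ 0 := by
      rwa [Ne, Ideal.Quotient.eq_zero_iff_mem]
    exact mul_left_cancel₀ hx0 h'

section ind

variable [IsLocalRing A] [IsNoetherianRing A]

/-- prime filtration induction for modules with `N/IN` of finite length. -/
theorem induction_good (I : Ideal A)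
    {motive : (N : Type u) → [AddCommGroup N] → [Module A N] → [Module.Finite A N] → Prop}
    (subsingleton : ∀ (N : Type u) [AddCommGroup N] [Module A N] [Module.Finite A N]
      [Subsingleton N], motive N)
    (quotient : ∀ (N : Type u) [AddCommGroup N] [Module A N] [Module.Finite A N]
      (p : PrimeSpectrum A), (N ≃ₗ[A] A ⧸ p.1) → Good I N → motive N)
    (exact : ∀ (N₁ : Type u) [AddCommGroup N₁] [Module A N₁] [Module.Finite A N₁]
      (N₂ : Type u) [AddCommGroup N₂] [Module A N₂] [Module.Finite A N₂]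
      (N₃ : Type u) [AddCommGroup N₃] [Module A N₃] [Module.Finite A N₃]
      (f : N₁ →ₗ[A] N₂) (g : N₂ →ₗ[A] N₃), Function.Injective f → Function.Surjective g →
      Function.Exact f g → Good I N₂ → motive N₁ → motive N₃ → motive N₂)
    (M : Type u) [AddCommGroup M] [Module A M] [hM : Module.Finite A M] (h : Good I M) :
    motive M := by
  revert h
  induction hM using IsNoetherianRing.induction_on_isQuotientEquivQuotientPrime A with
  | subsingleton N => intro _; exact subsingleton N
  | quotient N p e => intro h; exact quotient N p e h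
  | exact N₁ N₂ N₃ f g hf hg hfg h₁ h₃ =>
    intro h
    exact exact N₁ N₂ N₃ f g hf hg hfg h
      (h₁ (h.of_ann_le (annihilator_le_of_injective f hf)))
      (h₃ (h.of_ann_le (annihilator_le_of_surjective g hg)))

lemma good_mul {x y : A} {l : List A} {M : Type u} [AddCommGroup M] [Module A M]
    (gx : Good (Ideal.ofList (x :: l)) M) (gy : Good (Ideal.ofList (y :: l)) M) :
    Good (Ideal.ofList ((x * y) :: l)) M := by
  obtain ⟨n, hn⟩ := gx
  obtain ⟨k, hk⟩ := gy
  have hrad : IsLocalRing.maximalIdeal A ≤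
      (Ideal.ofList ((x * y) :: l) ⊔ Module.annihilator A M).radical := by
    rw [Ideal.radical_eq_sInf]
    refine le_sInf ?_
    rintro p ⟨hJp, hp⟩
    have hxy : x * y ∈ p := hJp (Ideal.mem_sup_left (Ideal.subset_span List.mem_cons_self))
    have hl : Ideal.ofList l ⊔ Module.annihilator A M ≤ p :=
      le_trans (sup_le_sup_right (by rw [Ideal.ofList_cons]; exact le_sup_right) _) hJp
    rcases hp.mem_or_mem hxy with h | h
    · have h1 : Ideal.ofList (x :: l) ⊔ Module.annihilator A M ≤ p := by
        rw [Ideal.ofList_cons, sup_assoc]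
        exact sup_le ((Ideal.span_singleton_le_iff_mem _).mpr h) hl
      exact hp.le_of_pow_le (hn.trans h1)
    · have h1 : Ideal.ofList (y :: l) ⊔ Module.annihilator A M ≤ p := by
        rw [Ideal.ofList_cons, sup_assoc]
        exact sup_le ((Ideal.span_singleton_le_iff_mem _).mpr h) hl
      exact hp.le_of_pow_le (hk.trans h1)
  exact Ideal.exists_pow_le_of_le_radical_of_fg hrad (IsNoetherian.noetherian _)

/-- **`χ(xy, l; N) = χ(x, l; N) + χ(y, l; N)`.** -/
theorem chiK_mul_head (x y : A) (l : List A) (N : Type u) [AddCommGroup N] [Module A N]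
    [Module.Finite A N] (h : Good (Ideal.ofList ((x * y) :: l)) N) :
    chiK ((x * y) :: l) (ModuleCat.of A N) =
      chiK (x :: l) (ModuleCat.of A N) + chiK (y :: l) (ModuleCat.of A N) := by
  have hle1 : Ideal.ofList ((x * y) :: l) ≤ Ideal.ofList (x :: l) := by
    rw [Ideal.ofList_cons, Ideal.ofList_cons]
    exact sup_le_sup_right ((Ideal.span_singleton_le_iff_mem _).mpr
      (Ideal.mul_mem_right y _ (Ideal.mem_span_singleton_self x))) _
  have hle2 : Ideal.ofList ((x * y) :: l) ≤ Ideal.ofList (y :: l) := by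
    rw [Ideal.ofList_cons, Ideal.ofList_cons]
    exact sup_le_sup_right ((Ideal.span_singleton_le_iff_mem _).mpr
      (Ideal.mul_mem_left _ x (Ideal.mem_span_singleton_self y))) _
  refine induction_good (Ideal.ofList ((x * y) :: l))
    (motive := fun N _ _ _ => chiK ((x * y) :: l) (ModuleCat.of A N) =
      chiK (x :: l) (ModuleCat.of A N) + chiK (y :: l) (ModuleCat.of A N)) ?_ ?_ ?_ N h
  · intro N _ _ _ _
    rw [chiK_of_subsingleton, chiK_of_subsingleton, chiK_of_subsingleton, add_zero]
  · intro N _ _ _ p e hN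
    rcases smul_zero_or_regular p e x with hx | hx
    · have hxy : ∀ n : N, (x * y) • n = 0 := fun n => by
        rw [mul_comm, mul_smul, hx, smul_zero]
      rw [chiK_cons_eq_zero_of_smul_eq_zero (x * y) l (ModuleCat.of A N) hN hxy,
        chiK_cons_eq_zero_of_smul_eq_zero x l (ModuleCat.of A N) (hN.mono hle1) hx,
        chiK_cons_eq_zero y l (ModuleCat.of A N) (hN.of_smul_eq_zero hxy), add_zero]
    · rcases smul_zero_or_regular p e y with hy | hy
      · have hxy : ∀ n : N, (x * y) • n = 0 := fun n => by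
          rw [mul_smul, hy, smul_zero]
        rw [chiK_cons_eq_zero_of_smul_eq_zero (x * y) l (ModuleCat.of A N) hN hxy,
          chiK_cons_eq_zero_of_smul_eq_zero y l (ModuleCat.of A N) (hN.mono hle2) hy,
          chiK_cons_eq_zero x l (ModuleCat.of A N) (hN.of_smul_eq_zero hxy), add_zero]
      · rw [chiK_cons_of_regular (x * y) N (hx.mul hy) l, chiK_cons_of_regular x N hx l,
          chiK_cons_of_regular y N hy l]
        exact chiK_add' l (mulQ x y N) (projQ x y N) (mulQ_injective x y N hy)
          (projQ_surjective x y N) (mulQ_projQ_exact x y N) hN.quotSMulTop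
  · intro N₁ _ _ _ N₂ _ _ _ N₃ _ _ _ f g hf hg hfg hN h1 h3
    rw [chiK_add' ((x * y) :: l) f g hf hg hfg hN,
      chiK_add' (x :: l) f g hf hg hfg (hN.mono hle1),
      chiK_add' (y :: l) f g hf hg hfg (hN.mono hle2), h1, h3]
    ring

lemma chiK_quot_pow (x : A) (L : List A) (N : Type u) [AddCommGroup N] [Module A N]
    [Module.Finite A N] (hN : Good (Ideal.ofList (x :: L)) N) (hx : IsSMulRegular N x) :
    ∀ m : ℕ, chiK L (ModuleCat.of A (QuotSMulTop (x ^ m) N)) =
      (m : ℤ) * chiK L (ModuleCat.of A (QuotSMulTop x N))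
  | 0 => by
    haveI : Subsingleton (QuotSMulTop (x ^ 0) N) := by
      rw [pow_zero]
      exact subsingleton_quotSMulTop_one N
    rw [chiK_of_subsingleton, Nat.cast_zero, zero_mul]
  | m + 1 => by
    have ih := chiK_quot_pow x L N hN hx m
    have hG : Good (Ideal.ofList ((x ^ m * x) :: L)) N := by
      refine hN.of_le_radical ((ofList_le_radical (x :: L) _ ?_).trans
        (Ideal.radical_mono le_sup_left))
      intro a ha
      rcases List.mem_cons.mp ha with rfl | ha'
      · exact ⟨m + 1, by rw [pow_succ]; exact Ideal.subset_span List.mem_cons_self⟩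
      · exact ⟨1, by rw [pow_one]; exact Ideal.subset_span (List.mem_cons_of_mem _ ha')⟩
    have e := chiK_add' L (mulQ (x ^ m) x N) (projQ (x ^ m) x N) (mulQ_injective _ _ N hx)
      (projQ_surjective _ _ N) (mulQ_projQ_exact _ _ N) hG.quotSMulTop
    rw [pow_succ, e, ih]
    push_cast
    ring

lemma good_pow_head (x : A) (m : ℕ) (L : List A) {N' : Type u} [AddCommGroup N'] [Module A N']
    (h : Good (Ideal.ofList (x :: L)) N') : Good (Ideal.ofList (x ^ m :: L)) N' := by
  refine h.of_le_radical ((ofList_le_radical (x :: L) _ ?_).trans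
    (Ideal.radical_mono le_sup_left))
  intro a ha
  rcases List.mem_cons.mp ha with rfl | ha'
  · exact ⟨m, Ideal.subset_span List.mem_cons_self⟩
  · exact ⟨1, by rw [pow_one]; exact Ideal.subset_span (List.mem_cons_of_mem _ ha')⟩

lemma good_pow_list (x : A) (m : ℕ) (l' : List (A × ℕ)) {N' : Type u} [AddCommGroup N']
    [Module A N'] (h : Good (Ideal.ofList (x :: l'.map Prod.fst)) N') :
    Good (Ideal.ofList (x ^ m :: l'.map (fun p => p.1 ^ p.2))) N' := by
  refine h.of_le_radical ((ofList_le_radical (x :: l'.map Prod.fst) _ ?_).trans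
    (Ideal.radical_mono le_sup_left))
  intro a ha
  rcases List.mem_cons.mp ha with rfl | ha'
  · exact ⟨m, Ideal.subset_span List.mem_cons_self⟩
  · obtain ⟨p, hp, rfl⟩ := List.mem_map.mp ha'
    exact ⟨p.2, Ideal.subset_span (List.mem_cons_of_mem _ (List.mem_map.mpr ⟨p, hp, rfl⟩))⟩

/-- **`χ(x_1^{m_1}, …, x_k^{m_k}; N) = m_1 ⋯ m_k · χ(x_1, …, x_k; N)`.** -/
theorem chiK_pow (l : List (A × ℕ)) : ∀ (N : Type u) [AddCommGroup N] [Module A N]
    [Module.Finite A N], Good (Ideal.ofList (l.map Prod.fst)) N →
    chiK (l.map (fun p => p.1 ^ p.2)) (ModuleCat.of A N) =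
      ((l.map Prod.snd).prod : ℤ) * chiK (l.map Prod.fst) (ModuleCat.of A N) := by
  induction l with
  | nil =>
    intro N _ _ _ _
    simp only [List.map_nil, List.prod_nil, Nat.cast_one, one_mul]
  | cons pm l' ih =>
    obtain ⟨x, m⟩ := pm
    intro N _ _ _ hN
    show chiK (x ^ m :: l'.map (fun p => p.1 ^ p.2)) (ModuleCat.of A N) =
      ((m * (l'.map Prod.snd).prod : ℕ) : ℤ) * chiK (x :: l'.map Prod.fst) (ModuleCat.of A N)
    have hN' : Good (Ideal.ofList (x :: l'.map Prod.fst)) N := hN
    rcases Nat.eq_zero_or_pos m with rfl | hm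
    · have h1 : IsSMulRegular N (1 : A) := fun a b hab => by simpa using hab
      haveI : Subsingleton (QuotSMulTop (1 : A) N) := subsingleton_quotSMulTop_one N
      rw [pow_zero, chiK_cons_of_regular 1 N h1, chiK_of_subsingleton, Nat.zero_mul,
        Nat.cast_zero, zero_mul]
    · refine induction_good (Ideal.ofList (x :: l'.map Prod.fst))
        (motive := fun N _ _ _ =>
          chiK (x ^ m :: l'.map (fun p => p.1 ^ p.2)) (ModuleCat.of A N) =
            ((m * (l'.map Prod.snd).prod : ℕ) : ℤ) *
              chiK (x :: l'.map Prod.fst) (ModuleCat.of A N)) ?_ ?_ ?_ N hN'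
      · intro N _ _ _ _
        rw [chiK_of_subsingleton, chiK_of_subsingleton, mul_zero]
      · intro N _ _ _ p e hNq
        rcases smul_zero_or_regular p e x with hx | hx
        · have hxm : ∀ n : N, x ^ m • n = 0 := fun n => by
            obtain ⟨k, rfl⟩ := Nat.exists_eq_succ_of_ne_zero hm.ne'
            rw [pow_succ, mul_smul, hx, smul_zero]
          rw [chiK_cons_eq_zero_of_smul_eq_zero (x ^ m) _ (ModuleCat.of A N) (good_pow_list x m l' hNq) hxm,
            chiK_cons_eq_zero_of_smul_eq_zero x _ (ModuleCat.of A N) hNq hx, mul_zero]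
        · have hGm : Good (Ideal.ofList (x ^ m :: l'.map Prod.fst)) N := good_pow_head x m _ hNq
          rw [chiK_cons_of_regular (x ^ m) N (hx.pow m), chiK_cons_of_regular x N hx,
            ih (QuotSMulTop (x ^ m) N) hGm.quotSMulTop, chiK_quot_pow x _ N hNq hx m]
          push_cast
          ring
      · intro N₁ _ _ _ N₂ _ _ _ N₃ _ _ _ f g hf hg hfg hN2 h1 h3
        have hN2' : Good (Ideal.ofList (x ^ m :: l'.map (fun p : A × ℕ => p.1 ^ p.2))) N₂ :=
          good_pow_list x m l' hN2
        have e1 := chiK_add' (x ^ m :: l'.map (fun p : A × ℕ => p.1 ^ p.2)) f g hf hg hfg hN2'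
        have e2 := chiK_add' (x :: l'.map Prod.fst) f g hf hg hfg hN2
        rw [e1, e2, h1, h3]
        ring

end ind

end Groth.Agent.Lib.Helper4.KE
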