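import Groth.Agent.Lib.Helper4.KE3
import Groth.Agent.Lib.Helper4.CM

/-!
# Koszul Euler characteristics: vanishing below the length, positivity at the length

* `supportDim_le_max`: `dim N₂ ≤ max (dim N₁) (dim N₃)` for a short exact sequence.
* `supportDim_le_of_good`: if `N/(l)N` has finite length (`Good`), then `dim N ≤ |l|`.
* `chiK_nil`: `χ(∅; N) = length N`.
* `chiK_dim`: for `l ⊆ 𝔪` with `N/(l)N` of finite length, `χ(l; N) = 0` if `dim N < |l|`
  and `χ(l; N) > 0` if `dim N = |l|`.
-/

set_option autoImplicit false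
set_option linter.style.haveILetI false
set_option linter.unusedSectionVars false
set_option linter.unusedVariables false
set_option maxHeartbeats 800000

universe u

open CategoryTheory CategoryTheory.Limits Pointwise

namespace Groth.Agent.Lib.Helper4.KE

open CohIII Groth.Agent.Lib.Helper14.KoszulFun

/-! ### arithmetic in `WithBot ℕ∞` -/

lemma wb_lt_of_succ_lt (s : WithBot ℕ∞) (k : ℕ) (h : s + 1 < ((k + 1 : ℕ) : WithBot ℕ∞)) :
    s < (k : WithBot ℕ∞) := by
  induction s using WithBot.recBotCoe with
  | bot => exact WithBot.bot_lt_coe _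
  | coe e =>
    induction e using ENat.recTopCoe with
    | top =>
      exfalso
      have e1 : ((⊤ : ℕ∞) : WithBot ℕ∞) + 1 = ⊤ := by
        rw [← WithBot.coe_one, ← WithBot.coe_add, top_add, WithBot.coe_top]
      rw [e1] at h
      exact not_top_lt h
    | coe n =>
      have h' : n + 1 < k + 1 := by exact_mod_cast h
      have : n < k := by omega
      exact_mod_cast this

lemma wb_le_of_succ_le (s : WithBot ℕ∞) (k : ℕ) (h : ((k + 1 : ℕ) : WithBot ℕ∞) ≤ s + 1) :
    (k : WithBot ℕ∞) ≤ s := by
  induction s using WithBot.recBotCoe with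
  | bot =>
    exfalso
    rw [WithBot.bot_add] at h
    exact absurd (le_bot_iff.mp h) (WithBot.natCast_ne_bot _)
  | coe e =>
    induction e using ENat.recTopCoe with
    | top => rw [WithBot.coe_top]; exact le_top
    | coe n =>
      have h' : k + 1 ≤ n + 1 := by exact_mod_cast h
      have : k ≤ n := by omega
      exact_mod_cast this

lemma wb_eq_bot_of_lt_zero (s : WithBot ℕ∞) (h : s < ((0 : ℕ) : WithBot ℕ∞)) : s = ⊥ := by
  induction s using WithBot.recBotCoe with
  | bot => rfl
  | coe e =>
    exfalso
    have h' : e < 0 := by exact_mod_cast h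
    exact lt_irrefl _ (lt_of_lt_of_le h' zero_le)

lemma wb_ne_bot_of_zero_le (s : WithBot ℕ∞) (h : ((0 : ℕ) : WithBot ℕ∞) ≤ s) : s ≠ ⊥ := by
  rintro rfl
  exact absurd (le_bot_iff.mp h) (WithBot.natCast_ne_bot _)

lemma wb_succ_not_le (k : ℕ) : ¬ ((k + 1 : ℕ) : WithBot ℕ∞) ≤ (k : WithBot ℕ∞) := by
  intro h
  have h' : k + 1 ≤ k := by exact_mod_cast h
  omega

variable {A : Type u} [CommRing A]

/-! ### dimension of the middle term of a short exact sequence -/

lemma supportDim_le_max {N₁ N₂ N₃ : Type u} [AddCommGroup N₁] [Module A N₁] [AddCommGroup N₂]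
    [Module A N₂] [AddCommGroup N₃] [Module A N₃] (f : N₁ →ₗ[A] N₂) (g : N₂ →ₗ[A] N₃)
    (hf : Function.Injective f) (hg : Function.Surjective g) (hfg : Function.Exact f g) :
    Module.supportDim A N₂ ≤ max (Module.supportDim A N₁) (Module.supportDim A N₃) := by
  refine iSup_le_iff.mpr (fun p => ?_)
  have hsupp := Module.support_of_exact hfg hf hg
  have hhead : p.head.1 ∈ Module.support A N₁ ∪ Module.support A N₃ := by
    rw [← hsupp]; exact p.head.2
  have hmem : ∀ i, p.head.1 ≤ (p i).1 := fun i => Subtype.coe_le_coe.mpr (p.head_le i)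
  rcases hhead with h1 | h3
  · refine le_max_of_le_left ?_
    exact Order.LTSeries.length_le_krullDim (LTSeries.mk p.length
      (fun i => (⟨(p i).1, Module.mem_support_mono (hmem i) h1⟩ : Module.support A N₁))
      (fun i j hij => Subtype.mk_lt_mk.mpr
        (Subtype.coe_lt_coe.mpr (p.strictMono hij))))
  · refine le_max_of_le_right ?_
    exact Order.LTSeries.length_le_krullDim (LTSeries.mk p.length
      (fun i => (⟨(p i).1, Module.mem_support_mono (hmem i) h3⟩ : Module.support A N₃))
      (fun i j hij => Subtype.mk_lt_mk.mpr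
        (Subtype.coe_lt_coe.mpr (p.strictMono hij))))

variable [IsLocalRing A] [IsNoetherianRing A]

/-! ### `Good` bounds the dimension -/

lemma supportDim_quot_le_zero_of_good (I : Ideal A) (N : Type u) [AddCommGroup N] [Module A N]
    [Module.Finite A N] (h : Good I N) :
    Module.supportDim A (N ⧸ I • (⊤ : Submodule A N)) ≤ 0 := by
  obtain ⟨n, hn⟩ := h
  have hle : I ⊔ Module.annihilator A N ≤
      Module.annihilator A (N ⧸ I • (⊤ : Submodule A N)) := by
    refine sup_le ?_ (annihilator_le_of_surjective (Submodule.mkQ _) (Submodule.mkQ_surjective _))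
    intro a ha
    rw [Module.mem_annihilator]
    intro z
    obtain ⟨m, rfl⟩ := Submodule.Quotient.mk_surjective _ z
    rw [← Submodule.Quotient.mk_smul, Submodule.Quotient.mk_eq_zero]
    exact Submodule.smul_mem_smul ha Submodule.mem_top
  have key : ∀ r : Module.support A (N ⧸ I • (⊤ : Submodule A N)),
      r.1 = IsLocalRing.closedPoint A := by
    intro r
    have hr := Module.mem_support_iff_of_finite.mp r.2
    have hm : IsLocalRing.maximalIdeal A ≤ r.1.asIdeal :=
      r.1.2.le_of_pow_le (hn.trans (hle.trans hr))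
    apply PrimeSpectrum.ext
    exact ((IsLocalRing.maximalIdeal.isMaximal A).eq_of_le r.1.2.ne_top hm).symm
  haveI hsub : Subsingleton (Module.support A (N ⧸ I • (⊤ : Submodule A N))) :=
    ⟨fun p q => Subtype.ext ((key p).trans (key q).symm)⟩
  show Order.krullDim (Module.support A (N ⧸ I • (⊤ : Submodule A N))) ≤ 0
  exact Order.krullDim_nonpos_of_subsingleton

lemma supportDim_le_of_good (l : List A) (hl : ∀ a ∈ l, a ∈ IsLocalRing.maximalIdeal A)
    (N : Type u) [AddCommGroup N] [Module A N] [Module.Finite A N]
    (h : Good (Ideal.ofList l) N) :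
    Module.supportDim A N ≤ (l.length : WithBot ℕ∞) := by
  have h1 := Groth.Agent.Lib.Helper4.supportDim_le_supportDim_quot_ofList_add_length
    (R := A) (M := N) l hl
  have h2 := supportDim_quot_le_zero_of_good (Ideal.ofList l) N h
  calc Module.supportDim A N
      ≤ Module.supportDim A (N ⧸ Ideal.ofList l • (⊤ : Submodule A N)) + l.length := h1
    _ ≤ 0 + (l.length : WithBot ℕ∞) := add_le_add h2 le_rfl
    _ = l.length := zero_add _

/-! ### the empty sequence -/

lemma chiK_nil (N : Type u) [AddCommGroup N] [Module A N] :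
    chiK [] (ModuleCat.of A N) = len A N := by
  have h0 : ∀ i : ℤ, i ≠ 0 →
      Subsingleton ((koszulCx (ModuleCat.of A N) []).homology i) := by
    intro i hi
    apply ModuleCat.subsingleton_of_isZero
    exact HomologicalComplex.isZero_single_obj_homology (ComplexShape.up ℤ) 0
      (ModuleCat.of A N) i hi
  have h1 := chiF_eq_len_zero (A := A)
    (fun i => ((koszulCx (ModuleCat.of A N) []).homology i : Type u)) h0
  have e : ((koszulCx (ModuleCat.of A N) []).homology 0) ≅ ModuleCat.of A N :=
    HomologicalComplex.singleObjHomologySelfIso (ComplexShape.up ℤ) 0 (ModuleCat.of A N)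
  exact h1.trans (len_eq_of_equiv e.toLinearEquiv)

/-! ### the main theorem -/

theorem chiK_dim (l : List A) : (∀ a ∈ l, a ∈ IsLocalRing.maximalIdeal A) →
    ∀ (N : Type u) [AddCommGroup N] [Module A N] [Module.Finite A N],
    Good (Ideal.ofList l) N →
    (Module.supportDim A N < (l.length : WithBot ℕ∞) → chiK l (ModuleCat.of A N) = 0) ∧
    ((l.length : WithBot ℕ∞) ≤ Module.supportDim A N → 0 < chiK l (ModuleCat.of A N)) := by
  induction l with
  | nil =>
    intro _ N _ _ _ h
    have hfl : IsFiniteLength A N :=
      isFiniteLength_of_good_of_killed (Ideal.ofList []) N h N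
        (fun a ha z => by
          rw [Ideal.ofList_nil, Ideal.mem_bot] at ha
          rw [ha, zero_smul])
        (fun a ha z => Module.mem_annihilator.mp ha z)
    rw [chiK_nil N]
    constructor
    · intro hlt
      have hlt' : Module.supportDim A N < ((0 : ℕ) : WithBot ℕ∞) := hlt
      haveI : Subsingleton N :=
        (Module.supportDim_eq_bot_iff_subsingleton A N).mp (wb_eq_bot_of_lt_zero _ hlt')
      exact len_of_subsingleton N
    · intro hle
      have hle' : ((0 : ℕ) : WithBot ℕ∞) ≤ Module.supportDim A N := hle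
      haveI : Nontrivial N :=
        (Module.supportDim_ne_bot_iff_nontrivial A N).mp (wb_ne_bot_of_zero_le _ hle')
      exact len_pos_of_nontrivial N hfl
  | cons x l' ih =>
    intro hl N _ _ _ h
    have hx : x ∈ IsLocalRing.maximalIdeal A := hl x List.mem_cons_self
    have hl' : ∀ a ∈ l', a ∈ IsLocalRing.maximalIdeal A :=
      fun a ha => hl a (List.mem_cons_of_mem _ ha)
    have IH := ih hl'
    rw [List.length_cons]
    refine induction_good (Ideal.ofList (x :: l'))
      (motive := fun N _ _ _ =>
        (Module.supportDim A N < ((l'.length + 1 : ℕ) : WithBot ℕ∞) →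
          chiK (x :: l') (ModuleCat.of A N) = 0) ∧
        (((l'.length + 1 : ℕ) : WithBot ℕ∞) ≤ Module.supportDim A N →
          0 < chiK (x :: l') (ModuleCat.of A N))) ?_ ?_ ?_ N h
    · intro N _ _ _ _
      refine ⟨fun _ => chiK_of_subsingleton _ _, fun hle => ?_⟩
      exfalso
      rw [Module.supportDim_eq_bot_of_subsingleton A N] at hle
      exact absurd (le_bot_iff.mp hle) (WithBot.natCast_ne_bot _)
    · intro N _ _ _ p e hN
      rcases smul_zero_or_regular p e x with hx0 | hreg
      · have hchi := chiK_cons_eq_zero_of_smul_eq_zero x l' (ModuleCat.of A N) hN hx0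
        have hdim := supportDim_le_of_good l' hl' N (hN.of_smul_eq_zero hx0)
        refine ⟨fun _ => hchi, fun hle => ?_⟩
        exact absurd (hle.trans hdim) (wb_succ_not_le _)
      · have hchi := chiK_cons_of_regular x N hreg l'
        have hdimeq := Module.supportDim_quotSMulTop_succ_eq_supportDim hreg hx
        obtain ⟨ha, hb⟩ := IH (QuotSMulTop x N) hN.quotSMulTop
        rw [hchi]
        refine ⟨fun hlt => ha (wb_lt_of_succ_lt _ _ ?_), fun hle => hb (wb_le_of_succ_le _ _ ?_)⟩
        · rw [hdimeq]; exact hlt
        · rw [hdimeq]; exact hle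
    · intro N₁ _ _ _ N₂ _ _ _ N₃ _ _ _ f g hf hg hfg hN2 h1 h3
      have hadd := chiK_add' (x :: l') f g hf hg hfg hN2
      have hd1 := Module.supportDim_le_of_injective f hf
      have hd3 := Module.supportDim_le_of_surjective g hg
      have hmax := supportDim_le_max f g hf hg hfg
      have nn1 : 0 ≤ chiK (x :: l') (ModuleCat.of A N₁) := by
        rcases lt_or_ge (Module.supportDim A N₁) ((l'.length + 1 : ℕ) : WithBot ℕ∞) with hlt | hge
        · exact (h1.1 hlt).ge
        · exact (h1.2 hge).le
      have nn3 : 0 ≤ chiK (x :: l') (ModuleCat.of A N₃) := by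
        rcases lt_or_ge (Module.supportDim A N₃) ((l'.length + 1 : ℕ) : WithBot ℕ∞) with hlt | hge
        · exact (h3.1 hlt).ge
        · exact (h3.2 hge).le
      rw [hadd]
      constructor
      · intro hlt
        rw [h1.1 (lt_of_le_of_lt hd1 hlt), h3.1 (lt_of_le_of_lt hd3 hlt), add_zero]
      · intro hle
        rcases le_max_iff.mp (hle.trans hmax) with h | h
        · have := h1.2 h
          linarith
        · have := h3.2 h
          linarith

end Groth.Agent.Lib.Helper4.KE
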