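import Groth.Agent.Lib.Helper4.KE4

/-!
# Koszul Euler characteristics over a domain: the rank formula

* `chiK_congr`: invariance under linear equivalences.
* `rk_self`, `rk_add`, `subsingleton_tensor_of_smul_eq_zero`: the rank `dim_K (K ⊗ N)`.
* `chiK_rank`: for a local Noetherian domain `A` of dimension `|l|` with `A/(l)` of finite length,
  `χ(l; M) = rank(M) · χ(l; A)`.
-/

set_option autoImplicit false
set_option linter.style.haveILetI false
set_option linter.unusedSectionVars false
set_option linter.unusedVariables false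
set_option maxHeartbeats 800000

universe u

open CategoryTheory CategoryTheory.Limits Pointwise TensorProduct

namespace Groth.Agent.Lib.Helper4.KE

open CohIII Groth.Agent.Lib.Helper14.KoszulFun

lemma wb_lt_of_succ_le (s : WithBot ℕ∞) (k : ℕ) (h : s + 1 ≤ (k : WithBot ℕ∞)) :
    s < (k : WithBot ℕ∞) := by
  induction s using WithBot.recBotCoe with
  | bot => exact WithBot.bot_lt_coe _
  | coe e =>
    induction e using ENat.recTopCoe with
    | top =>
      exfalso
      have e1 : ((⊤ : ℕ∞) : WithBot ℕ∞) + 1 = ⊤ := by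
        rw [← WithBot.coe_one, ← WithBot.coe_add, top_add, WithBot.coe_top]
      rw [e1] at h
      have h2 : ((k : ℕ) : WithBot ℕ∞) = ((⊤ : ℕ∞) : WithBot ℕ∞) := by
        rw [WithBot.coe_top]; exact top_le_iff.mp h
      have h3 : ((k : ℕ) : ℕ∞) = ⊤ := by exact_mod_cast h2
      exact absurd h3 (ENat.natCast_ne_top k)
    | coe n =>
      have h' : n + 1 ≤ k := by exact_mod_cast h
      have : n < k := by omega
      exact_mod_cast this

variable {A : Type u} [CommRing A]

lemma chiK_congr (l : List A) {N N' : Type u} [AddCommGroup N] [Module A N] [AddCommGroup N']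
    [Module A N'] (e : N ≃ₗ[A] N') :
    chiK l (ModuleCat.of A N) = chiK l (ModuleCat.of A N') := by
  refine chiF_congr _ _ (fun i => ?_)
  exact ((HomologicalComplex.homologyFunctor _ _ i).mapIso
    (koszulIso e.toModuleIso l)).toLinearEquiv

lemma smul_eq_zero_of_mem_prime {N : Type u} [AddCommGroup N] [Module A N] (p : PrimeSpectrum A)
    (e : N ≃ₗ[A] A ⧸ p.1) (x : A) (hx : x ∈ p.1) (n : N) : x • n = 0 := by
  apply e.injective
  rw [map_smul, map_zero]
  obtain ⟨a, ha⟩ := Ideal.Quotient.mk_surjective (e n)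
  rw [← ha, Algebra.smul_def, Ideal.Quotient.algebraMap_eq, ← map_mul,
    Ideal.Quotient.eq_zero_iff_mem]
  exact p.1.mul_mem_right a hx

section domain

variable [IsDomain A]

lemma rk_self {N : Type u} [AddCommGroup N] [Module A N] (e : N ≃ₗ[A] A) :
    Module.finrank (FractionRing A) (FractionRing A ⊗[A] N) = 1 := by
  rw [(LinearEquiv.baseChange A (FractionRing A) _ _ e).finrank_eq,
    (TensorProduct.AlgebraTensorModule.rid A (FractionRing A) (FractionRing A)).finrank_eq,
    Module.finrank_self]

lemma rk_add {N₁ N₂ N₃ : Type u} [AddCommGroup N₁] [Module A N₁]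
    [AddCommGroup N₂] [Module A N₂] [Module.Finite A N₂] [AddCommGroup N₃]
    [Module A N₃] (f : N₁ →ₗ[A] N₂) (g : N₂ →ₗ[A] N₃)
    (hf : Function.Injective f) (hg : Function.Surjective g) (hfg : Function.Exact f g) :
    Module.finrank (FractionRing A) (FractionRing A ⊗[A] N₂) =
      Module.finrank (FractionRing A) (FractionRing A ⊗[A] N₁) +
        Module.finrank (FractionRing A) (FractionRing A ⊗[A] N₃) := by
  have hF : Function.Injective (f.baseChange (FractionRing A)) := by
    have h := Module.Flat.lTensor_preserves_injective_linearMap (M := FractionRing A) f hf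
    intro a b hab
    exact h hab
  have hG : Function.Surjective (g.baseChange (FractionRing A)) := by
    have h := LinearMap.lTensor_surjective (FractionRing A) hg
    intro b
    obtain ⟨a, ha⟩ := h b
    exact ⟨a, ha⟩
  have hFG : Function.Exact (f.baseChange (FractionRing A)) (g.baseChange (FractionRing A)) := by
    have h := Module.Flat.lTensor_exact (FractionRing A) hfg
    exact fun y => h y
  have h1 := LinearMap.finrank_range_add_finrank_ker (g.baseChange (FractionRing A))
  rw [LinearMap.range_eq_top.mpr hG, finrank_top, LinearMap.exact_iff.mp hFG,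
    LinearMap.finrank_range_of_inj hF] at h1
  omega

lemma subsingleton_tensor_of_smul_eq_zero {N : Type u} [AddCommGroup N] [Module A N] (a : A)
    (ha : a ≠ 0) (h : ∀ n : N, a • n = 0) :
    Subsingleton (FractionRing A ⊗[A] N) := by
  have ha' : algebraMap A (FractionRing A) a ≠ 0 :=
    (map_ne_zero_iff _ (IsFractionRing.injective A (FractionRing A))).mpr ha
  have hz : ∀ z : FractionRing A ⊗[A] N, z = 0 := fun z => by
    induction z using TensorProduct.induction_on with
    | zero => rfl
    | tmul k n =>
      have hk : k = a • (k * (algebraMap A (FractionRing A) a)⁻¹) := by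
        rw [Algebra.smul_def, mul_comm k, ← mul_assoc, mul_inv_cancel₀ ha', one_mul]
      rw [hk, TensorProduct.smul_tmul, h n, TensorProduct.tmul_zero]
    | add x y hx hy => rw [hx, hy, add_zero]
  exact ⟨fun x y => by rw [hz x, hz y]⟩

lemma supportDim_lt_of_ne_bot {N : Type u} [AddCommGroup N] [Module A N]
    (p : PrimeSpectrum A) (e : N ≃ₗ[A] A ⧸ p.1) (hp : p.1 ≠ ⊥) (k : ℕ)
    (hd : ringKrullDim A = (k : WithBot ℕ∞)) :
    Module.supportDim A N < (k : WithBot ℕ∞) := by
  obtain ⟨r, hr, hr0⟩ := Submodule.exists_mem_ne_zero_of_ne_bot hp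
  have h1 : ringKrullDim (A ⧸ p.1) + 1 ≤ ringKrullDim A :=
    ringKrullDim_succ_le_of_surjective (Ideal.Quotient.mk p.1) Ideal.Quotient.mk_surjective
      (mem_nonZeroDivisors_of_ne_zero hr0) (Ideal.Quotient.eq_zero_iff_mem.mpr hr)
  rw [Module.supportDim_eq_of_equiv e, Module.supportDim_quotient_eq_ringKrullDim]
  rw [hd] at h1
  exact wb_lt_of_succ_le _ _ h1

variable [IsLocalRing A] [IsNoetherianRing A]

/-- **The rank formula** `χ(l; M) = rank(M) · χ(l; A)`. -/
theorem chiK_rank (l : List A) (hl : ∀ a ∈ l, a ∈ IsLocalRing.maximalIdeal A)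
    (hd : ringKrullDim A = (l.length : WithBot ℕ∞)) (hA : Good (Ideal.ofList l) A)
    (M : Type u) [AddCommGroup M] [Module A M] [Module.Finite A M] :
    chiK l (ModuleCat.of A M) =
      (Module.finrank (FractionRing A) (FractionRing A ⊗[A] M) : ℤ) *
        chiK l (ModuleCat.of A A) := by
  have hgood : ∀ (N : Type u) [AddCommGroup N] [Module A N], Good (Ideal.ofList l) N := by
    intro N _ _
    obtain ⟨n, hn⟩ := hA
    refine ⟨n, hn.trans (sup_le_sup_left ?_ _)⟩
    intro a ha
    have h0 : a = 0 := by
      have := Module.mem_annihilator.mp ha (1 : A)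
      rwa [smul_eq_mul, mul_one] at this
    rw [h0]
    exact zero_mem _
  refine induction_good (Ideal.ofList l)
    (motive := fun N _ _ _ => chiK l (ModuleCat.of A N) =
      (Module.finrank (FractionRing A) (FractionRing A ⊗[A] N) : ℤ) *
        chiK l (ModuleCat.of A A)) ?_ ?_ ?_ M (hgood M)
  · intro N _ _ _ _
    haveI : Subsingleton (FractionRing A ⊗[A] N) :=
      subsingleton_tensor_of_smul_eq_zero 1 one_ne_zero (fun n => Subsingleton.elim _ _)
    rw [chiK_of_subsingleton, Module.finrank_zero_of_subsingleton, Nat.cast_zero, zero_mul]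
  · intro N _ _ _ p e hN
    by_cases hp : p.1 = ⊥
    · have e' : N ≃ₗ[A] A := e ≪≫ₗ Submodule.quotEquivOfEqBot p.1 hp
      rw [chiK_congr l e', rk_self e', Nat.cast_one, one_mul]
    · obtain ⟨r, hr, hr0⟩ := Submodule.exists_mem_ne_zero_of_ne_bot hp
      haveI : Subsingleton (FractionRing A ⊗[A] N) :=
        subsingleton_tensor_of_smul_eq_zero r hr0 (smul_eq_zero_of_mem_prime p e r hr)
      rw [Module.finrank_zero_of_subsingleton, Nat.cast_zero, zero_mul]
      exact (chiK_dim l hl N hN).1 (supportDim_lt_of_ne_bot p e hp l.length hd)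
  · intro N₁ _ _ _ N₂ _ _ _ N₃ _ _ _ f g hf hg hfg hN2 h1 h3
    rw [chiK_add' l f g hf hg hfg hN2, h1, h3, rk_add f g hf hg hfg]
    push_cast
    ring

end domain

end Groth.Agent.Lib.Helper4.KE
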