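import Groth.Agent.Lib.Helper4.KE5

/-!
# Lengths of Koszul homology of powers

* `hL L M j`: the length of `H^j` of the Koszul complex `K(L; M)`.
* `hL_le_of_ses`, `hL_cons_le`, `hL_cons_of_regular`, `hL_quot_pow`: sub-additivity tools.
* `hL_pow_le_poly`: `ℓ(H_i(x₁ⁿ,…,x_kⁿ; M)) ≤ c · n^(k-i)`.
* `hL_pow_le_dim`: `ℓ(H^j(x₁ⁿ,…,x_kⁿ; M)) ≤ c · n^d` for `dim M ≤ d`.
-/

set_option autoImplicit false
set_option linter.style.haveILetI false
set_option linter.unusedSectionVars false
set_option linter.unusedVariables false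
set_option maxHeartbeats 800000

universe u

open CategoryTheory CategoryTheory.Limits CochainComplex HomComplex Pointwise

namespace Groth.Agent.Lib.Helper4.KE

open CohIII Groth.Agent.Lib.Helper14.KoszulFun Groth.Agent.Lib.Helper4.KosCone
  Groth.Agent.Lib.Helper4.LCBridge

lemma wb_le_of_succ_le_succ (s : WithBot ℕ∞) (k : ℕ)
    (h : s + 1 ≤ ((k + 1 : ℕ) : WithBot ℕ∞)) : s ≤ (k : WithBot ℕ∞) := by
  induction s using WithBot.recBotCoe with
  | bot => exact bot_le
  | coe e =>
    induction e using ENat.recTopCoe with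
    | top =>
      exfalso
      have e1 : ((⊤ : ℕ∞) : WithBot ℕ∞) + 1 = ⊤ := by
        rw [← WithBot.coe_one, ← WithBot.coe_add, top_add, WithBot.coe_top]
      rw [e1] at h
      have h2 : (((k + 1 : ℕ) : ℕ) : WithBot ℕ∞) = ((⊤ : ℕ∞) : WithBot ℕ∞) := by
        rw [WithBot.coe_top]; exact top_le_iff.mp h
      have h3 : (((k + 1 : ℕ) : ℕ) : ℕ∞) = ⊤ := by exact_mod_cast h2
      exact absurd h3 (ENat.natCast_ne_top (k + 1))
    | coe n =>
      have h' : n + 1 ≤ k + 1 := by exact_mod_cast h
      have : n ≤ k := by omega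
      exact_mod_cast this

variable {A : Type u} [CommRing A]

lemma length_le_of_exact {X Y Z : Type u} [AddCommGroup X] [Module A X] [AddCommGroup Y]
    [Module A Y] [AddCommGroup Z] [Module A Z] (f : X →ₗ[A] Y) (g : Y →ₗ[A] Z)
    (h : Function.Exact f g) :
    Module.length A Y ≤ Module.length A X + Module.length A Z := by
  have hk : LinearMap.ker g = LinearMap.range f := LinearMap.exact_iff.mp h
  have h1 : Module.length A (LinearMap.ker g) ≤ Module.length A X := by
    rw [hk]
    exact Module.length_le_of_surjective f.rangeRestrict f.surjective_rangeRestrict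
  have h2 : Module.length A (LinearMap.range g) ≤ Module.length A Z :=
    Module.length_le_of_injective (LinearMap.range g).subtype (Submodule.subtype_injective _)
  rw [length_ker_add_range g]
  exact add_le_add h1 h2

/-- The length of the Koszul cohomology `H^j(K(L; M))`. -/
noncomputable def hL (L : List A) (M : Type u) [AddCommGroup M] [Module A M] (j : ℤ) : ℕ∞ :=
  Module.length A ((koszulCx (ModuleCat.of A M) L).homology j)

lemma length_tensor_eq (L : List A) (M : Type u) [AddCommGroup M] [Module A M] (j : ℤ) :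
    Module.length A
      ((DRing.tensorCx (Koszul.koszul A L) (ModuleCat.of A M)).homology j) = hL L M j := by
  obtain ⟨e⟩ := bridge (ModuleCat.of A M) L
  exact ((HomologicalComplex.homologyFunctor _ _ j).mapIso e).toLinearEquiv.length_eq

lemma hL_of_subsingleton (L : List A) (M : Type u) [AddCommGroup M] [Module A M]
    [Subsingleton M] (j : ℤ) : hL L M j = 0 := by
  haveI := subsingleton_homology_of_subsingleton (ModuleCat.of A M) L j
  unfold hL
  exact Module.length_eq_zero

lemma hL_of_big (L : List A) (M : Type u) [AddCommGroup M] [Module A M] (j : ℤ)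
    (h : (L.length : ℤ) < |j|) : hL L M j = 0 := by
  haveI := subsingleton_homology_of_big (ModuleCat.of A M) L j h
  unfold hL
  exact Module.length_eq_zero

lemma hL_of_pos (L : List A) (M : Type u) [AddCommGroup M] [Module A M] (j : ℤ)
    (h : 0 < j) : hL L M j = 0 := by
  haveI : Subsingleton ((koszulCx (ModuleCat.of A M) L).homology j) := by
    apply ModuleCat.subsingleton_of_isZero
    apply isZero_homology_of_isZero_X
    exact isZero_koszulCx_X_pos (ModuleCat.of A M) L j h
  unfold hL
  exact Module.length_eq_zero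

lemma hL_nil_zero (M : Type u) [AddCommGroup M] [Module A M] :
    hL ([] : List A) M 0 = Module.length A M := by
  have e : ((koszulCx (ModuleCat.of A M) []).homology 0) ≅ ModuleCat.of A M :=
    HomologicalComplex.singleObjHomologySelfIso (ComplexShape.up ℤ) 0 (ModuleCat.of A M)
  exact e.toLinearEquiv.length_eq

lemma hL_nil_ne (M : Type u) [AddCommGroup M] [Module A M] (j : ℤ) (hj : j ≠ 0) :
    hL ([] : List A) M j = 0 := by
  haveI : Subsingleton ((koszulCx (ModuleCat.of A M) []).homology j) := by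
    apply ModuleCat.subsingleton_of_isZero
    exact HomologicalComplex.isZero_single_obj_homology (ComplexShape.up ℤ) 0
      (ModuleCat.of A M) j hj
  unfold hL
  exact Module.length_eq_zero

lemma hL_le_of_ses (L : List A) {N₁ N₂ N₃ : Type u} [AddCommGroup N₁] [Module A N₁]
    [AddCommGroup N₂] [Module A N₂] [AddCommGroup N₃] [Module A N₃]
    (f : N₁ →ₗ[A] N₂) (g : N₂ →ₗ[A] N₃)
    (hf : Function.Injective f) (hg : Function.Surjective g) (hfg : Function.Exact f g)
    (j : ℤ) : hL L N₂ j ≤ hL L N₁ j + hL L N₃ j := by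
  have hzero : ModuleCat.ofHom f ≫ ModuleCat.ofHom g = 0 := by
    apply ModuleCat.hom_ext
    apply LinearMap.ext
    intro x
    exact hfg.apply_apply_eq_zero x
  have hS0 : (ShortComplex.mk (ModuleCat.ofHom f) (ModuleCat.ofHom g) hzero).ShortExact :=
    ModuleCat.shortComplex_shortExact _ hfg hf hg
  have hS := koszul_shortExact _ hS0 L
  have hex : Function.Exact
      (HomologicalComplex.homologyMap (koszulMap (ModuleCat.ofHom f) L) j).hom
      (HomologicalComplex.homologyMap (koszulMap (ModuleCat.ofHom g) L) j).hom :=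
    (ShortComplex.ShortExact.moduleCat_exact_iff_function_exact _).mp (hS.homology_exact₂ j)
  exact length_le_of_exact _ _ hex

lemma hL_cons_le (y : A) (L : List A) (M : Type u) [AddCommGroup M] [Module A M] (j : ℤ) :
    hL (y :: L) M j ≤ hL L M j + hL L M (j + 1) :=
  length_le_of_exact _ _
    (cone_exact_b (y • 𝟙 (koszulCx (ModuleCat.of A M) L)) j (j + 1) rfl)

lemma hL_cons_of_regular (y : A) (L : List A) (M : Type u) [AddCommGroup M] [Module A M]
    (hreg : IsSMulRegular M y) (j : ℤ) :
    hL (y :: L) M j = hL L (QuotSMulTop y M) j := by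
  have hq : QuasiIso (mappingCone.descShortComplex (SK y M L)) :=
    mappingCone.quasiIso_descShortComplex (SK_shortExact y M hreg L)
  have hiso : IsIso (HomologicalComplex.homologyMap
      (mappingCone.descShortComplex (SK y M L)) j) :=
    (quasiIsoAt_iff_isIso_homologyMap _ j).mp (hq.quasiIsoAt j)
  exact (@asIso _ _ _ _ (HomologicalComplex.homologyMap
    (mappingCone.descShortComplex (SK y M L)) j) hiso).toLinearEquiv.length_eq

lemma hL_quot_pow (x : A) (L : List A) (M : Type u) [AddCommGroup M] [Module A M]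
    (hreg : IsSMulRegular M x) (j : ℤ) :
    ∀ m : ℕ, hL L (QuotSMulTop (x ^ m) M) j ≤ (m : ℕ∞) * hL L (QuotSMulTop x M) j
  | 0 => by
    haveI : Subsingleton (QuotSMulTop (x ^ 0) M) := by
      rw [pow_zero]
      exact subsingleton_quotSMulTop_one M
    rw [hL_of_subsingleton]
    exact zero_le
  | m + 1 => by
    have ih := hL_quot_pow x L M hreg j m
    have e := hL_le_of_ses L (mulQ (x ^ m) x M) (projQ (x ^ m) x M)
      (mulQ_injective _ _ M hreg) (projQ_surjective _ _ M) (mulQ_projQ_exact _ _ M) j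
    rw [pow_succ, Nat.cast_succ, add_mul, one_mul]
    exact e.trans (add_le_add ih le_rfl)

variable [IsLocalRing A] [IsNoetherianRing A]

lemma isFiniteLength_of_good_nil (M : Type u) [AddCommGroup M] [Module A M] [Module.Finite A M]
    (h : Good (Ideal.ofList ([] : List A)) M) : IsFiniteLength A M :=
  isFiniteLength_of_good_of_killed (Ideal.ofList []) M h M
    (fun a ha z => by
      rw [Ideal.ofList_nil, Ideal.mem_bot] at ha
      rw [ha, zero_smul])
    (fun a ha z => Module.mem_annihilator.mp ha z)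

/-- `ℓ(H_i(x₁ⁿ, …, x_kⁿ; M)) ≤ c · n^(k-i)`. -/
theorem hL_pow_le_poly (l : List A) : ∀ (M : Type u) [AddCommGroup M] [Module A M]
    [Module.Finite A M], Good (Ideal.ofList l) M → ∀ i : ℕ, ∃ c : ℕ, ∀ n : ℕ, 0 < n →
      hL (l.map (fun a => a ^ n)) M (-(i : ℤ)) ≤ ((c * n ^ (l.length - i) : ℕ) : ℕ∞) := by
  induction l with
  | nil =>
    intro M _ _ _ h i
    have hfl : IsFiniteLength A M := isFiniteLength_of_good_nil M h
    have hne : Module.length A M ≠ ⊤ := Module.length_ne_top_iff.mpr hfl
    have hc : Module.length A M = ((Module.length A M).toNat : ℕ∞) :=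
      (ENat.natCast_toNat hne).symm
    rcases Nat.eq_zero_or_pos i with hi | hi
    · subst hi
      refine ⟨(Module.length A M).toNat, fun n hn => ?_⟩
      have e0 : (-((0 : ℕ) : ℤ)) = 0 := by simp
      show hL ([] : List A) M (-((0 : ℕ) : ℤ)) ≤ _
      rw [e0]
      exact (le_of_eq ((hL_nil_zero M).trans hc)).trans
        (Nat.cast_le.mpr (le_of_eq (by simp)))
    · refine ⟨0, fun n hn => ?_⟩
      show hL ([] : List A) M (-(i : ℤ)) ≤ _
      rw [hL_nil_ne M _ (by omega)]
      exact zero_le
  | cons x l' ih =>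
    intro M _ _ _ h
    refine induction_good (Ideal.ofList (x :: l'))
      (motive := fun M _ _ _ => ∀ i : ℕ, ∃ c : ℕ, ∀ n : ℕ, 0 < n →
        hL (x ^ n :: l'.map (fun a => a ^ n)) M (-(i : ℤ)) ≤
          ((c * n ^ (l'.length + 1 - i) : ℕ) : ℕ∞)) ?_ ?_ ?_ M h
    · intro M _ _ _ _ i
      exact ⟨0, fun n hn => by rw [hL_of_subsingleton]; exact zero_le⟩
    · intro M _ _ _ p e hM i
      rcases smul_zero_or_regular p e x with hx0 | hreg
      · have hG' : Good (Ideal.ofList l') M := hM.of_smul_eq_zero hx0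
        obtain ⟨c₁, hc₁⟩ := ih M hG' i
        cases i with
        | zero =>
          refine ⟨c₁, fun n hn => ?_⟩
          have h2 := hL_cons_le (x ^ n) (l'.map (fun a => a ^ n)) M (-((0 : ℕ) : ℤ))
          rw [hL_of_pos _ M (-((0 : ℕ) : ℤ) + 1) (by simp), add_zero] at h2
          refine h2.trans ((hc₁ n hn).trans ?_)
          exact Nat.cast_le.mpr (Nat.mul_le_mul_left _ (Nat.pow_le_pow_right hn (by omega)))
        | succ i' =>
          obtain ⟨c₂, hc₂⟩ := ih M hG' i'
          refine ⟨c₁ + c₂, fun n hn => ?_⟩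
          have h2 := hL_cons_le (x ^ n) (l'.map (fun a => a ^ n)) M (-((i' + 1 : ℕ) : ℤ))
          have hj : -((i' + 1 : ℕ) : ℤ) + 1 = -(i' : ℤ) := by push_cast; ring
          rw [hj] at h2
          refine h2.trans ((add_le_add (hc₁ n hn) (hc₂ n hn)).trans ?_)
          rw [← Nat.cast_add]
          refine Nat.cast_le.mpr ?_
          have e1 : l'.length + 1 - (i' + 1) = l'.length - i' := by omega
          have hp : n ^ (l'.length - (i' + 1)) ≤ n ^ (l'.length - i') :=
            Nat.pow_le_pow_right hn (by omega)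
          rw [e1, Nat.add_mul]
          exact Nat.add_le_add_right (Nat.mul_le_mul_left _ hp) _
      · have hGq : Good (Ideal.ofList l') (QuotSMulTop x M) := hM.quotSMulTop
        by_cases hik : i ≤ l'.length
        · obtain ⟨c, hc⟩ := ih (QuotSMulTop x M) hGq i
          refine ⟨c, fun n hn => ?_⟩
          rw [hL_cons_of_regular (x ^ n) _ M (hreg.pow n)]
          refine (hL_quot_pow x _ M hreg _ n).trans ?_
          refine (mul_le_mul' le_rfl (hc n hn)).trans ?_
          rw [← Nat.cast_mul]
          refine Nat.cast_le.mpr (le_of_eq ?_)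
          have e1 : l'.length + 1 - i = (l'.length - i) + 1 := by omega
          rw [e1, pow_succ]
          ring
        · refine ⟨0, fun n hn => ?_⟩
          rw [hL_cons_of_regular (x ^ n) _ M (hreg.pow n)]
          refine (hL_quot_pow x _ M hreg _ n).trans ?_
          rw [hL_of_big _ (QuotSMulTop x M) (-(i : ℤ)) (by
            rw [List.length_map, abs_neg, Nat.abs_cast]
            exact_mod_cast Nat.lt_of_not_le hik), mul_zero]
          exact zero_le
    · intro N₁ _ _ _ N₂ _ _ _ N₃ _ _ _ f g hf hg hfg hN2 h1 h3 i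
      obtain ⟨c₁, hc₁⟩ := h1 i
      obtain ⟨c₃, hc₃⟩ := h3 i
      refine ⟨c₁ + c₃, fun n hn => ?_⟩
      refine (hL_le_of_ses _ f g hf hg hfg _).trans
        ((add_le_add (hc₁ n hn) (hc₃ n hn)).trans ?_)
      exact le_of_eq (by rw [← Nat.cast_add, ← Nat.add_mul])

/-- `ℓ(H^j(x₁ⁿ, …, x_kⁿ; M)) ≤ c · n^d` for `dim M ≤ d`. -/
theorem hL_pow_le_dim (l : List A) : (∀ a ∈ l, a ∈ IsLocalRing.maximalIdeal A) →
    ∀ (M : Type u) [AddCommGroup M] [Module A M] [Module.Finite A M],
    Good (Ideal.ofList l) M → ∀ d : ℕ, Module.supportDim A M ≤ (d : WithBot ℕ∞) →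
    ∀ j : ℤ, ∃ c : ℕ, ∀ n : ℕ, 0 < n →
      hL (l.map (fun a => a ^ n)) M j ≤ ((c * n ^ d : ℕ) : ℕ∞) := by
  induction l with
  | nil =>
    intro _ M _ _ _ h d hd j
    have hfl : IsFiniteLength A M := isFiniteLength_of_good_nil M h
    have hne : Module.length A M ≠ ⊤ := Module.length_ne_top_iff.mpr hfl
    have hc : Module.length A M = ((Module.length A M).toNat : ℕ∞) :=
      (ENat.natCast_toNat hne).symm
    by_cases hj : j = 0
    · subst hj
      refine ⟨(Module.length A M).toNat, fun n hn => ?_⟩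
      show hL ([] : List A) M 0 ≤ _
      exact (le_of_eq ((hL_nil_zero M).trans hc)).trans
        (Nat.cast_le.mpr (Nat.le_mul_of_pos_right _ (pow_pos hn d)))
    · refine ⟨0, fun n hn => ?_⟩
      show hL ([] : List A) M j ≤ _
      rw [hL_nil_ne M j hj]
      exact zero_le
  | cons x l' ih =>
    intro hl M _ _ _ h
    have hx : x ∈ IsLocalRing.maximalIdeal A := hl x List.mem_cons_self
    have hl' : ∀ a ∈ l', a ∈ IsLocalRing.maximalIdeal A :=
      fun a ha => hl a (List.mem_cons_of_mem _ ha)
    have IH := ih hl'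
    refine induction_good (Ideal.ofList (x :: l'))
      (motive := fun M _ _ _ => ∀ d : ℕ, Module.supportDim A M ≤ (d : WithBot ℕ∞) →
        ∀ j : ℤ, ∃ c : ℕ, ∀ n : ℕ, 0 < n →
        hL (x ^ n :: l'.map (fun a => a ^ n)) M j ≤ ((c * n ^ d : ℕ) : ℕ∞)) ?_ ?_ ?_ M h
    · intro M _ _ _ _ d hd j
      exact ⟨0, fun n hn => by rw [hL_of_subsingleton]; exact zero_le⟩
    · intro M _ _ _ p e hM d hd j
      rcases smul_zero_or_regular p e x with hx0 | hreg
      · have hG' : Good (Ideal.ofList l') M := hM.of_smul_eq_zero hx0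
        obtain ⟨c₁, hc₁⟩ := IH M hG' d hd j
        obtain ⟨c₂, hc₂⟩ := IH M hG' d hd (j + 1)
        refine ⟨c₁ + c₂, fun n hn => ?_⟩
        refine (hL_cons_le (x ^ n) _ M j).trans
          ((add_le_add (hc₁ n hn) (hc₂ n hn)).trans ?_)
        exact le_of_eq (by rw [← Nat.cast_add, ← Nat.add_mul])
      · have hGq : Good (Ideal.ofList l') (QuotSMulTop x M) := hM.quotSMulTop
        have hdimeq := Module.supportDim_quotSMulTop_succ_eq_supportDim hreg hx
        have hs : Module.supportDim A (QuotSMulTop x M) + 1 ≤ (d : WithBot ℕ∞) := by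
          rw [hdimeq]; exact hd
        cases d with
        | zero =>
          haveI : Subsingleton (QuotSMulTop x M) :=
            (Module.supportDim_eq_bot_iff_subsingleton A _).mp
              (wb_eq_bot_of_lt_zero _ (wb_lt_of_succ_le _ 0 hs))
          refine ⟨0, fun n hn => ?_⟩
          rw [hL_cons_of_regular (x ^ n) _ M (hreg.pow n)]
          refine (hL_quot_pow x _ M hreg _ n).trans ?_
          rw [hL_of_subsingleton, mul_zero]
          exact zero_le
        | succ d' =>
          obtain ⟨c, hc⟩ := IH (QuotSMulTop x M) hGq d' (wb_le_of_succ_le_succ _ d' hs) j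
          refine ⟨c, fun n hn => ?_⟩
          rw [hL_cons_of_regular (x ^ n) _ M (hreg.pow n)]
          refine (hL_quot_pow x _ M hreg _ n).trans
            ((mul_le_mul' le_rfl (hc n hn)).trans ?_)
          rw [← Nat.cast_mul]
          refine Nat.cast_le.mpr (le_of_eq ?_)
          rw [pow_succ]
          ring
    · intro N₁ _ _ _ N₂ _ _ _ N₃ _ _ _ f g hf hg hfg hN2 h1 h3 d hd j
      obtain ⟨c₁, hc₁⟩ := h1 d ((Module.supportDim_le_of_injective f hf).trans hd) j
      obtain ⟨c₃, hc₃⟩ := h3 d ((Module.supportDim_le_of_surjective g hg).trans hd) j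
      refine ⟨c₁ + c₃, fun n hn => ?_⟩
      refine (hL_le_of_ses _ f g hf hg hfg _).trans
        ((add_le_add (hc₁ n hn) (hc₃ n hn)).trans ?_)
      exact le_of_eq (by rw [← Nat.cast_add, ← Nat.add_mul])

end Groth.Agent.Lib.Helper4.KE
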