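import Mathlib
import Groth.Agent.Lib.Helper22.Samuel14

/-!
# Serre's `χ = e`: combinatorics and asymptotics

* `mono s j`: number of monomials of degree `j` in `s` variables; `cum s n`: of degree `< n`.
* `tendsto_of_asy`: `|a n - χ cum r n| ≤ C mono r n` implies `r! a n / n^r → χ`.
* `asy_of_rec`, `asy_of_exact`, `asy_of_kill`: the three arithmetic steps of the induction.
-/

set_option autoImplicit false
set_option linter.style.haveILetI false
set_option linter.unusedSectionVars false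
set_option linter.unusedVariables false
set_option maxHeartbeats 800000

namespace Groth.Agent.Lib.Helper4.KS

open Filter Topology

/-- number of monomials of degree `j` in `s` variables. -/
def mono : ℕ → ℕ → ℕ
  | 0, j => if j = 0 then 1 else 0
  | (s + 1), j => ∑ i ∈ Finset.range (j + 1), mono s i

/-- number of monomials of degree `< n` in `s` variables. -/
def cum (s n : ℕ) : ℕ := ∑ i ∈ Finset.range n, mono s i

lemma mono_zero_zero : mono 0 0 = 1 := by simp [mono]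

lemma mono_zero_succ (j : ℕ) : mono 0 (j + 1) = 0 := by simp [mono]

lemma mono_succ (s j : ℕ) : mono (s + 1) j = cum s (j + 1) := rfl

lemma cum_zero (s : ℕ) : cum s 0 = 0 := Finset.sum_range_zero _

lemma cum_succ (s n : ℕ) : cum s (n + 1) = cum s n + mono s n := Finset.sum_range_succ _ _

lemma mono_succ_succ (s j : ℕ) : mono (s + 1) (j + 1) = mono (s + 1) j + mono s (j + 1) := by
  rw [mono_succ, mono_succ, cum_succ]

lemma mono_zero_right : ∀ s : ℕ, mono s 0 = 1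
  | 0 => mono_zero_zero
  | s + 1 => by
    rw [mono_succ, cum_succ, cum_zero, zero_add]
    exact mono_zero_right s

lemma one_le_mono_succ (s : ℕ) : ∀ j, 1 ≤ mono (s + 1) j
  | 0 => (mono_zero_right (s + 1)).ge
  | j + 1 => by
    rw [mono_succ_succ]
    exact le_trans (one_le_mono_succ s j) (Nat.le_add_right _ _)

lemma mono_succ_monotone (s : ℕ) : Monotone (mono (s + 1)) :=
  monotone_nat_of_le_succ (fun j => by rw [mono_succ_succ]; exact Nat.le_add_right _ _)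

lemma cum_monotone (s : ℕ) : Monotone (cum s) :=
  monotone_nat_of_le_succ (fun n => by rw [cum_succ]; exact Nat.le_add_right _ _)

lemma cum_le_mono_succ (s n : ℕ) : cum s n ≤ mono (s + 1) n := by
  rw [mono_succ, cum_succ]; exact Nat.le_add_right _ _

lemma mono_le_mono_succ (s n : ℕ) : mono s n ≤ mono (s + 1) n := by
  rw [mono_succ, cum_succ]; exact Nat.le_add_left _ _

lemma cum_zero_succ : ∀ n : ℕ, cum 0 (n + 1) = 1
  | 0 => by rw [cum_succ, cum_zero, zero_add, mono_zero_zero]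
  | n + 1 => by rw [cum_succ, cum_zero_succ n, mono_zero_succ]

lemma mono_succ_eq_choose : ∀ s j : ℕ, mono (s + 1) j = (j + s).choose s
  | 0, j => by
    rw [mono_succ, cum_zero_succ, Nat.choose_zero_right]
  | s + 1, 0 => by rw [mono_zero_right, zero_add, Nat.choose_self]
  | s + 1, j + 1 => by
    rw [mono_succ_succ, mono_succ_eq_choose (s + 1) j, mono_succ_eq_choose s (j + 1)]
    have h := Nat.choose_succ_succ' (j + 1 + s) s
    have e1 : j + (s + 1) = j + 1 + s := by ring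
    have e2 : j + 1 + (s + 1) = (j + 1 + s) + 1 := by ring
    rw [e1, e2, h, add_comm]

lemma cum_succ_eq_choose (s : ℕ) : ∀ n : ℕ, cum (s + 1) n = (n + s).choose (s + 1)
  | 0 => by rw [cum_zero, zero_add, Nat.choose_succ_self]
  | n + 1 => by
    rw [cum_succ, cum_succ_eq_choose s n, mono_succ_eq_choose]
    have e : n + 1 + s = (n + s) + 1 := by ring
    rw [e, Nat.choose_succ_succ' (n + s) s, add_comm]

lemma sum_shift_le (f : ℕ → ℕ) : ∀ k n : ℕ,
    ∑ i ∈ Finset.range n, f (i + 1 - k) ≤ k * f 0 + ∑ j ∈ Finset.range (n + 1), f j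
  | 0, n => by
    simp only [Nat.sub_zero, Nat.zero_mul, zero_add]
    rw [Finset.sum_range_succ' f n]
    exact Nat.le_add_right _ _
  | k + 1, 0 => by
    rw [Finset.sum_range_zero]
    exact Nat.zero_le _
  | k + 1, n + 1 => by
    have ih := sum_shift_le f k n
    rw [Finset.sum_range_succ' (fun i => f (i + 1 - (k + 1))) n]
    have e1 : ∑ i ∈ Finset.range n, f (i + 1 + 1 - (k + 1)) =
        ∑ i ∈ Finset.range n, f (i + 1 - k) :=
      Finset.sum_congr rfl (fun i _ => by rw [Nat.add_sub_add_right])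
    have e2 : 0 + 1 - (k + 1) = 0 := by omega
    show ∑ i ∈ Finset.range n, f (i + 1 + 1 - (k + 1)) + f (0 + 1 - (k + 1)) ≤ _
    rw [e1, e2]
    have h3 : ∑ j ∈ Finset.range (n + 1), f j ≤ ∑ j ∈ Finset.range (n + 1 + 1), f j := by
      rw [Finset.sum_range_succ _ (n + 1)]
      exact Nat.le_add_right _ _
    have h4 : (k + 1) * f 0 = k * f 0 + f 0 := Nat.succ_mul _ _
    omega

/-- `∑_{i<n} mono s (i+1-k)`. -/
def shiftSum (s k n : ℕ) : ℕ := ∑ i ∈ Finset.range n, mono s (i + 1 - k)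

lemma shiftSum_zero (s k : ℕ) : shiftSum s k 0 = 0 := Finset.sum_range_zero _

lemma shiftSum_succ (s k n : ℕ) :
    shiftSum s k (n + 1) = shiftSum s k n + mono s (n + 1 - k) := Finset.sum_range_succ _ _

lemma shiftSum_le (s k n : ℕ) : shiftSum s k n ≤ k + mono (s + 1) n := by
  have h := sum_shift_le (mono s) k n
  rw [mono_zero_right, mul_one] at h
  rw [mono_succ]
  exact h

lemma cum_sub_le (s : ℕ) (n : ℕ) :
    ∀ k : ℕ, cum (s + 1) n ≤ cum (s + 1) (n - k) + k * mono (s + 1) n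
  | 0 => by simp
  | k + 1 => by
    have ih := cum_sub_le s n k
    have h1 : cum (s + 1) (n - k) ≤ cum (s + 1) (n - (k + 1)) + mono (s + 1) n := by
      rcases Nat.eq_zero_or_pos (n - k) with h0 | hpos
      · have h00 : n - (k + 1) = 0 := by omega
        rw [h0, h00]
        exact Nat.le_add_right _ _
      · have e : n - k = (n - (k + 1)) + 1 := by omega
        rw [e, cum_succ]
        exact Nat.add_le_add_left (mono_succ_monotone s (by omega)) _
    have h4 : (k + 1) * mono (s + 1) n = k * mono (s + 1) n + mono (s + 1) n := Nat.succ_mul _ _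
    omega

/-- the limit statement. -/
theorem tendsto_of_asy (r : ℕ) (a : ℕ → ℕ) (χ : ℤ) (C : ℕ)
    (h : ∀ n, |(a n : ℤ) - χ * (cum r n : ℤ)| ≤ (C : ℤ) * (mono r n : ℤ)) :
    Tendsto (fun n : ℕ => (r.factorial : ℝ) * (a n : ℝ) / (n : ℝ) ^ r) atTop (𝓝 (χ : ℝ)) := by
  rcases r with _ | s
  · refine tendsto_const_nhds.congr' ?_
    filter_upwards [eventually_ge_atTop 1] with n hn
    obtain ⟨m, rfl⟩ : ∃ m, n = m + 1 := ⟨n - 1, by omega⟩
    have h1 := h (m + 1)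
    rw [cum_zero_succ, mono_zero_succ] at h1
    simp only [Nat.cast_one, mul_one, Nat.cast_zero, mul_zero] at h1
    have h2 : (a (m + 1) : ℤ) = χ := by
      have := abs_nonpos_iff.mp h1
      linarith
    have h3 : ((a (m + 1) : ℕ) : ℝ) = (χ : ℝ) := by
      have h4 : (((a (m + 1) : ℕ) : ℤ) : ℝ) = (χ : ℝ) := by rw [h2]
      exact_mod_cast h4
    simp only [Nat.factorial_zero, Nat.cast_one, one_mul, pow_zero, div_one]
    exact h3.symm
  · have hu : Tendsto (fun n : ℕ => ((s + 1).factorial : ℝ) * (cum (s + 1) n : ℝ) /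
        (n : ℝ) ^ (s + 1)) atTop (𝓝 1) := by
      have h0 := Groth.Agent.Lib.Helper22.HS.tendsto_choose_add_div_pow (s + 1) s
      refine h0.congr (fun n => ?_)
      rw [cum_succ_eq_choose]
    have hv : Tendsto (fun n : ℕ => ((s + 1).factorial : ℝ) * (mono (s + 1) n : ℝ) /
        (n : ℝ) ^ (s + 1)) atTop (𝓝 0) := by
      have h1 := Groth.Agent.Lib.Helper22.HS.tendsto_choose_add_div_pow s s
      have h2 : Tendsto (fun n : ℕ => ((s + 1 : ℕ) : ℝ) / (n : ℝ)) atTop (𝓝 0) :=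
        tendsto_const_div_atTop_nhds_zero_nat _
      have h3 := h2.mul h1
      rw [zero_mul] at h3
      refine h3.congr (fun n => ?_)
      show ((s + 1 : ℕ) : ℝ) / (n : ℝ) * ((s.factorial : ℝ) * ((n + s).choose s : ℝ) /
        (n : ℝ) ^ s) = ((s + 1).factorial : ℝ) * (mono (s + 1) n : ℝ) / (n : ℝ) ^ (s + 1)
      rw [mono_succ_eq_choose, Nat.factorial_succ]
      push_cast
      ring
    have hlow : Tendsto (fun n : ℕ => (χ : ℝ) * (((s + 1).factorial : ℝ) * (cum (s + 1) n : ℝ) /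
        (n : ℝ) ^ (s + 1)) - (C : ℝ) * (((s + 1).factorial : ℝ) * (mono (s + 1) n : ℝ) /
        (n : ℝ) ^ (s + 1))) atTop (𝓝 (χ : ℝ)) := by
      have h0 := (hu.const_mul (χ : ℝ)).sub (hv.const_mul (C : ℝ))
      rw [mul_one, mul_zero, sub_zero] at h0
      exact h0
    have hupp : Tendsto (fun n : ℕ => (χ : ℝ) * (((s + 1).factorial : ℝ) * (cum (s + 1) n : ℝ) /
        (n : ℝ) ^ (s + 1)) + (C : ℝ) * (((s + 1).factorial : ℝ) * (mono (s + 1) n : ℝ) /
        (n : ℝ) ^ (s + 1))) atTop (𝓝 (χ : ℝ)) := by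
      have h0 := (hu.const_mul (χ : ℝ)).add (hv.const_mul (C : ℝ))
      rw [mul_one, mul_zero, add_zero] at h0
      exact h0
    have hb : ∀ n : ℕ,
        (χ : ℝ) * (((s + 1).factorial : ℝ) * (cum (s + 1) n : ℝ) / (n : ℝ) ^ (s + 1)) -
          (C : ℝ) * (((s + 1).factorial : ℝ) * (mono (s + 1) n : ℝ) / (n : ℝ) ^ (s + 1)) ≤
          ((s + 1).factorial : ℝ) * (a n : ℝ) / (n : ℝ) ^ (s + 1) ∧
        ((s + 1).factorial : ℝ) * (a n : ℝ) / (n : ℝ) ^ (s + 1) ≤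
          (χ : ℝ) * (((s + 1).factorial : ℝ) * (cum (s + 1) n : ℝ) / (n : ℝ) ^ (s + 1)) +
          (C : ℝ) * (((s + 1).factorial : ℝ) * (mono (s + 1) n : ℝ) / (n : ℝ) ^ (s + 1)) := by
      intro n
      have h1 := abs_le.mp (h n)
      have h1a : -((C : ℝ) * (mono (s + 1) n : ℝ)) ≤ (a n : ℝ) - (χ : ℝ) * (cum (s + 1) n : ℝ) := by
        exact_mod_cast h1.1
      have h1b : (a n : ℝ) - (χ : ℝ) * (cum (s + 1) n : ℝ) ≤ (C : ℝ) * (mono (s + 1) n : ℝ) := by
        exact_mod_cast h1.2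
      have hw : (0 : ℝ) ≤ ((s + 1).factorial : ℝ) / (n : ℝ) ^ (s + 1) := by positivity
      have k1 : ((s + 1).factorial : ℝ) * (a n : ℝ) / (n : ℝ) ^ (s + 1) -
          ((χ : ℝ) * (((s + 1).factorial : ℝ) * (cum (s + 1) n : ℝ) / (n : ℝ) ^ (s + 1)) -
          (C : ℝ) * (((s + 1).factorial : ℝ) * (mono (s + 1) n : ℝ) / (n : ℝ) ^ (s + 1))) =
          ((s + 1).factorial : ℝ) / (n : ℝ) ^ (s + 1) *
            ((a n : ℝ) - (χ : ℝ) * (cum (s + 1) n : ℝ) + (C : ℝ) * (mono (s + 1) n : ℝ)) := by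
        ring
      have k2 : ((χ : ℝ) * (((s + 1).factorial : ℝ) * (cum (s + 1) n : ℝ) / (n : ℝ) ^ (s + 1)) +
          (C : ℝ) * (((s + 1).factorial : ℝ) * (mono (s + 1) n : ℝ) / (n : ℝ) ^ (s + 1))) -
          ((s + 1).factorial : ℝ) * (a n : ℝ) / (n : ℝ) ^ (s + 1) =
          ((s + 1).factorial : ℝ) / (n : ℝ) ^ (s + 1) *
            ((C : ℝ) * (mono (s + 1) n : ℝ) - ((a n : ℝ) - (χ : ℝ) * (cum (s + 1) n : ℝ))) := by
        ring
      have p1 := mul_nonneg hw (by linarith :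
        (0 : ℝ) ≤ (a n : ℝ) - (χ : ℝ) * (cum (s + 1) n : ℝ) + (C : ℝ) * (mono (s + 1) n : ℝ))
      have p2 := mul_nonneg hw (by linarith :
        (0 : ℝ) ≤ (C : ℝ) * (mono (s + 1) n : ℝ) - ((a n : ℝ) - (χ : ℝ) * (cum (s + 1) n : ℝ)))
      constructor <;> linarith
    exact tendsto_of_tendsto_of_tendsto_of_le_of_le hlow hupp (fun n => (hb n).1)
      (fun n => (hb n).2)

/-- the recursion step for a regular head element. -/
theorem asy_of_rec (s : ℕ) (a b ε : ℕ → ℕ) (χ : ℤ) (Cb C0 k : ℕ) (ha0 : a 0 = 0)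
    (hrec : ∀ n, a (n + 1) + ε n = a n + b (n + 1))
    (hb : ∀ n, |(b n : ℤ) - χ * (cum s n : ℤ)| ≤ (Cb : ℤ) * (mono s n : ℤ))
    (hε : ∀ n, ε n ≤ C0 * mono s (n + 1 - k)) :
    ∃ C : ℕ, ∀ n, |(a n : ℤ) - χ * (cum (s + 1) n : ℤ)| ≤ (C : ℤ) * (mono (s + 1) n : ℤ) := by
  have claim : ∀ n, |(a n : ℤ) - χ * (cum (s + 1) n : ℤ)| ≤
      (Cb : ℤ) * (mono (s + 1) n : ℤ) + (C0 : ℤ) * (shiftSum s k n : ℤ) := by
    intro n
    induction n with
    | zero =>
      rw [ha0, cum_zero]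
      simp only [Nat.cast_zero, mul_zero, sub_zero, abs_zero]
      positivity
    | succ n ih =>
      have h1 : (a (n + 1) : ℤ) = (a n : ℤ) + (b (n + 1) : ℤ) - (ε n : ℤ) := by
        have h0 : ((a (n + 1) + ε n : ℕ) : ℤ) = ((a n + b (n + 1) : ℕ) : ℤ) := by rw [hrec n]
        push_cast at h0
        linarith
      have h2 := abs_le.mp (hb (n + 1))
      have h3 : (ε n : ℤ) ≤ (C0 : ℤ) * (mono s (n + 1 - k) : ℤ) := by exact_mod_cast hε n
      have h4 : (0 : ℤ) ≤ (ε n : ℤ) := Int.natCast_nonneg _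
      have e1 : (cum (s + 1) (n + 1) : ℤ) = (cum (s + 1) n : ℤ) + (cum s (n + 1) : ℤ) := by
        rw [cum_succ (s + 1) n, mono_succ, Nat.cast_add]
      have e2 : (mono (s + 1) (n + 1) : ℤ) = (mono (s + 1) n : ℤ) + (mono s (n + 1) : ℤ) := by
        rw [mono_succ_succ, Nat.cast_add]
      have e3 : (shiftSum s k (n + 1) : ℤ) =
          (shiftSum s k n : ℤ) + (mono s (n + 1 - k) : ℤ) := by
        rw [shiftSum_succ, Nat.cast_add]
      have ih' := abs_le.mp ih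
      rw [e1, e2, e3, h1, abs_le]
      constructor <;> nlinarith [ih'.1, ih'.2, h2.1, h2.2, h3, h4]
  refine ⟨Cb + C0 * (k + 1), fun n => (claim n).trans ?_⟩
  have h1 : (shiftSum s k n : ℤ) ≤ (k : ℤ) + (mono (s + 1) n : ℤ) := by
    exact_mod_cast shiftSum_le s k n
  have h2 : (1 : ℤ) ≤ (mono (s + 1) n : ℤ) := by exact_mod_cast one_le_mono_succ s n
  have p1 := mul_nonneg (Int.natCast_nonneg C0) (sub_nonneg.mpr h1)
  have p2 := mul_nonneg (mul_nonneg (Int.natCast_nonneg C0) (Int.natCast_nonneg k))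
    (sub_nonneg.mpr h2)
  push_cast
  nlinarith [p1, p2]

/-- the exact sequence step. -/
theorem asy_of_exact (s : ℕ) (a1 a2 a3 q : ℕ → ℕ) (χ1 χ3 : ℤ) (C1 C3 k : ℕ)
    (h2 : ∀ n, a2 n = q n + a3 n) (hq1 : ∀ n, q n ≤ a1 n) (hq2 : ∀ n, a1 (n - k) ≤ q n)
    (h1 : ∀ n, |(a1 n : ℤ) - χ1 * (cum (s + 1) n : ℤ)| ≤ (C1 : ℤ) * (mono (s + 1) n : ℤ))
    (h3 : ∀ n, |(a3 n : ℤ) - χ3 * (cum (s + 1) n : ℤ)| ≤ (C3 : ℤ) * (mono (s + 1) n : ℤ)) :
    ∃ C : ℕ, ∀ n, |(a2 n : ℤ) - (χ1 + χ3) * (cum (s + 1) n : ℤ)| ≤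
      (C : ℤ) * (mono (s + 1) n : ℤ) := by
  refine ⟨C1 + χ1.natAbs * k + C3, fun n => ?_⟩
  have g1 := abs_le.mp (h1 n)
  have g1' := abs_le.mp (h1 (n - k))
  have g3 := abs_le.mp (h3 n)
  have e2 : (a2 n : ℤ) = (q n : ℤ) + (a3 n : ℤ) := by rw [h2 n, Nat.cast_add]
  have q1 : (q n : ℤ) ≤ (a1 n : ℤ) := by exact_mod_cast hq1 n
  have q2 : (a1 (n - k) : ℤ) ≤ (q n : ℤ) := by exact_mod_cast hq2 n
  have m1 : (mono (s + 1) (n - k) : ℤ) ≤ (mono (s + 1) n : ℤ) := by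
    exact_mod_cast mono_succ_monotone s (Nat.sub_le n k)
  have c1 : (cum (s + 1) (n - k) : ℤ) ≤ (cum (s + 1) n : ℤ) := by
    exact_mod_cast cum_monotone (s + 1) (Nat.sub_le n k)
  have c2 : (cum (s + 1) n : ℤ) ≤ (cum (s + 1) (n - k) : ℤ) + (k : ℤ) * (mono (s + 1) n : ℤ) := by
    exact_mod_cast cum_sub_le s n k
  have hM : (0 : ℤ) ≤ (mono (s + 1) n : ℤ) := Int.natCast_nonneg _
  have habs : ((χ1.natAbs : ℕ) : ℤ) = |χ1| := Int.natCast_natAbs χ1
  have d0 : (0 : ℤ) ≤ (cum (s + 1) n : ℤ) - (cum (s + 1) (n - k) : ℤ) := by linarith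
  have t1 : χ1 * ((cum (s + 1) n : ℤ) - (cum (s + 1) (n - k) : ℤ)) ≤
      |χ1| * ((cum (s + 1) n : ℤ) - (cum (s + 1) (n - k) : ℤ)) :=
    mul_le_mul_of_nonneg_right (le_abs_self χ1) d0
  have t2 : |χ1| * ((cum (s + 1) n : ℤ) - (cum (s + 1) (n - k) : ℤ)) ≤
      |χ1| * ((k : ℤ) * (mono (s + 1) n : ℤ)) :=
    mul_le_mul_of_nonneg_left (by linarith) (abs_nonneg χ1)
  have t3 : (0 : ℤ) ≤ |χ1| * ((k : ℤ) * (mono (s + 1) n : ℤ)) :=
    mul_nonneg (abs_nonneg χ1) (mul_nonneg (Int.natCast_nonneg k) hM)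
  have t4 : (C1 : ℤ) * (mono (s + 1) (n - k) : ℤ) ≤ (C1 : ℤ) * (mono (s + 1) n : ℤ) :=
    mul_le_mul_of_nonneg_left m1 (Int.natCast_nonneg C1)
  rw [e2, abs_le]
  push_cast
  constructor <;> nlinarith [g1.1, g1.2, g1'.1, g1'.2, g3.1, g3.2, t1, t2, t3, t4]

/-- the step for a head element killing the module. -/
theorem asy_of_kill (s : ℕ) (a : ℕ → ℕ) (χ' : ℤ) (C' : ℕ)
    (h : ∀ n, |(a n : ℤ) - χ' * (cum s n : ℤ)| ≤ (C' : ℤ) * (mono s n : ℤ)) :
    ∃ C : ℕ, ∀ n, |(a n : ℤ) - 0 * (cum (s + 1) n : ℤ)| ≤ (C : ℤ) * (mono (s + 1) n : ℤ) := by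
  refine ⟨χ'.natAbs + C', fun n => ?_⟩
  have g := abs_le.mp (h n)
  have habs : ((χ'.natAbs : ℕ) : ℤ) = |χ'| := Int.natCast_natAbs χ'
  have a0 : (0 : ℤ) ≤ (a n : ℤ) := Int.natCast_nonneg _
  have c1 : (cum s n : ℤ) ≤ (mono (s + 1) n : ℤ) := by exact_mod_cast cum_le_mono_succ s n
  have m1 : (mono s n : ℤ) ≤ (mono (s + 1) n : ℤ) := by exact_mod_cast mono_le_mono_succ s n
  have c0 : (0 : ℤ) ≤ (cum s n : ℤ) := Int.natCast_nonneg _
  have t1 : χ' * (cum s n : ℤ) ≤ |χ'| * (cum s n : ℤ) :=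
    mul_le_mul_of_nonneg_right (le_abs_self χ') c0
  have t2 : |χ'| * (cum s n : ℤ) ≤ |χ'| * (mono (s + 1) n : ℤ) :=
    mul_le_mul_of_nonneg_left c1 (abs_nonneg χ')
  have t3 : (C' : ℤ) * (mono s n : ℤ) ≤ (C' : ℤ) * (mono (s + 1) n : ℤ) :=
    mul_le_mul_of_nonneg_left m1 (Int.natCast_nonneg C')
  rw [zero_mul, sub_zero, abs_of_nonneg a0]
  push_cast
  nlinarith [g.2, t1, t2, t3]

end Groth.Agent.Lib.Helper4.KS
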