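import Groth.Agent.Lib.Helper4.KE6
import Groth.Agent.Lib.Helper22.Samuel4
import Groth.Agent.Lib.Helper4.KS1

/-!
# Serre's `χ = e`: the algebra of Samuel lengths

* `sam I M n = ℓ(M/IⁿM)` (as a natural number), `qlen J N = ℓ(N/JN)`.
* `qlen_pow_le`: `ℓ(𝔟ʲM / J𝔟ʲM) ≤ ℓ(M/JM) · mono s j` if `𝔟` is generated by `s` elements.
* `sam_rec`: for a regular `x`, `sam M (n+1) + ε n = sam M n + sam (M/xM) (n+1)` with `ε` small.
* `sam_exact`: comparison in a short exact sequence (Artin–Rees).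
-/

set_option autoImplicit false
set_option linter.style.haveILetI false
set_option linter.unusedSectionVars false
set_option linter.unusedVariables false
set_option maxHeartbeats 800000

universe u

open Pointwise

namespace Groth.Agent.Lib.Helper4.KS

open Groth.Agent.Lib.Helper4.KE Groth.Agent.Lib.Helper22.Samuel

variable {A : Type u} [CommRing A]

section general

variable {M : Type u} [AddCommGroup M] [Module A M]

/-- `ℓ(M/S) = ℓ(T/S) + ℓ(M/T)` for `S ≤ T`. -/
lemma length_quot_of_le (S T : Submodule A M) (h : S ≤ T) :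
    Module.length A (M ⧸ S) = Module.length A ↥(T.map S.mkQ) + Module.length A (M ⧸ T) := by
  rw [Module.length_eq_add_of_exact (T.map S.mkQ).subtype (T.map S.mkQ).mkQ
    (Submodule.subtype_injective _) (Submodule.mkQ_surjective _) (LinearMap.exact_subtype_mkQ _),
    (Submodule.quotientQuotientEquivQuotient S T h).length_eq]

/-- the image of `T` in `M/S` is a quotient of `T/JT` if `JT ≤ S`. -/
lemma length_map_le' (J : Ideal A) (T S : Submodule A M) (h : J • T ≤ S) :
    Module.length A ↥(T.map S.mkQ) ≤ Module.length A (↥T ⧸ J • (⊤ : Submodule A ↥T)) := by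
  have hr : LinearMap.range (S.mkQ.comp T.subtype) = T.map S.mkQ := by
    rw [LinearMap.range_comp, Submodule.range_subtype]
  rw [← (LinearEquiv.ofEq _ _ hr).length_eq]
  apply length_range_le_of_le_ker
  rw [LinearMap.ker_comp, Submodule.ker_mkQ]
  refine Submodule.smul_le.mpr (fun a ha t _ => ?_)
  rw [Submodule.mem_comap, map_smul]
  exact h (Submodule.smul_mem_smul ha t.2)

lemma pow_zero_smul_top (I : Ideal A) : I ^ 0 • (⊤ : Submodule A M) = ⊤ := by
  rw [pow_zero, Ideal.one_eq_top, Submodule.top_smul]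

/-- the Samuel function `n ↦ ℓ(M/IⁿM)`. -/
noncomputable def sam (I : Ideal A) (M : Type u) [AddCommGroup M] [Module A M] (n : ℕ) : ℕ :=
  (Module.length A (M ⧸ (I ^ n • (⊤ : Submodule A M)))).toNat

lemma sam_zero (I : Ideal A) (M : Type u) [AddCommGroup M] [Module A M] : sam I M 0 = 0 := by
  unfold sam
  haveI : Subsingleton (M ⧸ (I ^ 0 • (⊤ : Submodule A M))) :=
    Submodule.Quotient.subsingleton_iff.mpr (pow_zero_smul_top I)
  rw [Module.length_eq_zero]
  rfl

lemma sam_of_subsingleton (I : Ideal A) (M : Type u) [AddCommGroup M] [Module A M]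
    [Subsingleton M] (n : ℕ) : sam I M n = 0 := by
  unfold sam
  haveI : Subsingleton (M ⧸ (I ^ n • (⊤ : Submodule A M))) :=
    (Submodule.mkQ_surjective _).subsingleton
  rw [Module.length_eq_zero]
  rfl

lemma sam_nil_succ (M : Type u) [AddCommGroup M] [Module A M] (n : ℕ) :
    sam (Ideal.ofList ([] : List A)) M (n + 1) = (Module.length A M).toNat := by
  unfold sam
  have hbot : Ideal.ofList ([] : List A) ^ (n + 1) • (⊤ : Submodule A M) = ⊥ := by
    rw [Ideal.ofList_nil, ← Ideal.zero_eq_bot, zero_pow (Nat.succ_ne_zero n), Ideal.zero_eq_bot,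
      Submodule.bot_smul]
  rw [(Submodule.quotEquivOfEqBot _ hbot).length_eq]

/-! ### ideals killing the module -/

lemma smul_eq_bot_of_kills (J : Ideal A) (hJ : ∀ a ∈ J, ∀ m : M, a • m = 0)
    (N : Submodule A M) : J • N = ⊥ := by
  rw [eq_bot_iff]
  refine Submodule.smul_le.mpr (fun a ha m _ => ?_)
  rw [hJ a ha m]
  exact Submodule.zero_mem _

lemma sup_pow_smul_top_of_kills (J 𝔟 : Ideal A) (hJ : ∀ a ∈ J, ∀ m : M, a • m = 0) (n : ℕ) :
    (J ⊔ 𝔟) ^ n • (⊤ : Submodule A M) = 𝔟 ^ n • (⊤ : Submodule A M) := by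
  induction n with
  | zero => rw [pow_zero, pow_zero]
  | succ n ih =>
    rw [pow_succ', Submodule.mul_smul, ih, Submodule.sup_smul, smul_eq_bot_of_kills J hJ,
      bot_sup_eq, ← Submodule.mul_smul, ← pow_succ']

lemma span_singleton_kills (x : A) (hx : ∀ m : M, x • m = 0) :
    ∀ a ∈ Ideal.span {x}, ∀ m : M, a • m = 0 := by
  intro a ha m
  obtain ⟨c, rfl⟩ := Ideal.mem_span_singleton'.mp ha
  rw [mul_smul, hx, smul_zero]

lemma sam_cons_of_kills (x : A) (l : List A) (hx : ∀ m : M, x • m = 0) (n : ℕ) :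
    sam (Ideal.ofList (x :: l)) M n = sam (Ideal.ofList l) M n := by
  unfold sam
  rw [Ideal.ofList_cons, sup_pow_smul_top_of_kills _ _ (span_singleton_kills x hx)]

lemma smul_quotSMulTop_eq_zero (x : A) (q : QuotSMulTop x M) : x • q = 0 := by
  obtain ⟨m, rfl⟩ := Submodule.Quotient.mk_surjective _ q
  rw [← Submodule.Quotient.mk_smul, Submodule.Quotient.mk_eq_zero]
  exact Submodule.smul_mem_pointwise_smul m x ⊤ Submodule.mem_top

/-! ### powers of `I ⊔ 𝔟` -/

lemma sup_pow_succ_le (I 𝔟 : Ideal A) :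
    ∀ j : ℕ, (I ⊔ 𝔟) ^ (j + 1) ≤ I * (I ⊔ 𝔟) ^ j ⊔ 𝔟 ^ (j + 1)
  | 0 => by simp
  | j + 1 => by
    have ih := sup_pow_succ_le I 𝔟 j
    have h1 : 𝔟 * (I * (I ⊔ 𝔟) ^ j) ≤ I * (I ⊔ 𝔟) ^ (j + 1) := by
      rw [mul_left_comm, pow_succ' (I ⊔ 𝔟) j]
      exact Ideal.mul_mono_right (Ideal.mul_mono_left le_sup_right)
    have h2 : 𝔟 * (I ⊔ 𝔟) ^ (j + 1) ≤ I * (I ⊔ 𝔟) ^ (j + 1) ⊔ 𝔟 ^ (j + 1 + 1) := by
      refine (Ideal.mul_mono_right ih).trans ?_
      rw [Ideal.mul_sup]
      exact sup_le_sup h1 (le_of_eq (pow_succ' 𝔟 (j + 1)).symm)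
    rw [pow_succ' (I ⊔ 𝔟) (j + 1), Ideal.sup_mul]
    exact sup_le le_sup_left h2

lemma pow_smul_pow_le (I 𝔟 : Ideal A) (h𝔟 : 𝔟 ≤ I) (k j n : ℕ) (hn : n ≤ k + j) :
    I ^ k • 𝔟 ^ j • (⊤ : Submodule A M) ≤ I ^ n • (⊤ : Submodule A M) := by
  rw [← Submodule.mul_smul]
  refine (Submodule.smul_mono_left (Ideal.mul_mono_right (Ideal.pow_right_mono h𝔟 j))).trans ?_
  rw [← pow_add]
  exact Submodule.smul_mono_left (Ideal.pow_le_pow_right hn)

/-! ### `qlen` -/

/-- `ℓ(N/JN)`. -/
noncomputable def qlen (J : Ideal A) (N : Type u) [AddCommGroup N] [Module A N] : ℕ∞ :=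
  Module.length A (N ⧸ J • (⊤ : Submodule A N))

lemma qlen_of_subsingleton (J : Ideal A) (N : Type u) [AddCommGroup N] [Module A N]
    [Subsingleton N] : qlen J N = 0 := by
  unfold qlen
  haveI : Subsingleton (N ⧸ J • (⊤ : Submodule A N)) :=
    (Submodule.mkQ_surjective _).subsingleton
  exact Module.length_eq_zero

lemma qlen_le_of_surjective (J : Ideal A) {N N' : Type u} [AddCommGroup N] [Module A N]
    [AddCommGroup N'] [Module A N'] (f : N →ₗ[A] N') (hf : Function.Surjective f) :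
    qlen J N' ≤ qlen J N := by
  unfold qlen
  refine Module.length_le_of_surjective
    (Submodule.mapQ _ _ f (Submodule.smul_top_le_comap_smul_top J f)) ?_
  intro q
  obtain ⟨y', rfl⟩ := Submodule.mkQ_surjective _ q
  obtain ⟨y, rfl⟩ := hf y'
  exact ⟨(J • (⊤ : Submodule A N)).mkQ y, rfl⟩

lemma qlen_le_add (J : Ideal A) {N₁ N₂ N : Type u} [AddCommGroup N₁] [Module A N₁]
    [AddCommGroup N₂] [Module A N₂] [AddCommGroup N] [Module A N]
    (f₁ : N₁ →ₗ[A] N) (f₂ : N₂ →ₗ[A] N) (h : ∀ n : N, ∃ a b, f₁ a + f₂ b = n) :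
    qlen J N ≤ qlen J N₁ + qlen J N₂ := by
  unfold qlen
  have hg : Function.Surjective
      ((Submodule.mapQ (J • (⊤ : Submodule A N₁)) (J • (⊤ : Submodule A N)) f₁
        (Submodule.smul_top_le_comap_smul_top J f₁)).coprod
      (Submodule.mapQ (J • (⊤ : Submodule A N₂)) (J • (⊤ : Submodule A N)) f₂
        (Submodule.smul_top_le_comap_smul_top J f₂))) := by
    intro q
    obtain ⟨n, rfl⟩ := Submodule.mkQ_surjective _ q
    obtain ⟨a, b, rfl⟩ := h n
    refine ⟨((J • (⊤ : Submodule A N₁)).mkQ a, (J • (⊤ : Submodule A N₂)).mkQ b), ?_⟩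
    first
      | rfl
      | (rw [LinearMap.coprod_apply, map_add]; rfl)
  have h0 := Module.length_le_of_surjective _ hg
  rwa [Module.length_prod] at h0

lemma qlen_pow_zero_le (J I : Ideal A) (M : Type u) [AddCommGroup M] [Module A M] :
    qlen J ↥(I ^ 0 • (⊤ : Submodule A M)) ≤ qlen J M := by
  have hmem : ∀ m : M, (LinearMap.id : M →ₗ[A] M) m ∈ I ^ 0 • (⊤ : Submodule A M) := fun m => by
    rw [pow_zero_smul_top]
    exact Submodule.mem_top
  refine qlen_le_of_surjective J (LinearMap.codRestrict _ LinearMap.id hmem) ?_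
  intro t
  exact ⟨t.1, Subtype.ext rfl⟩

/-- **Lemma G**: `ℓ(𝔟ʲM / J𝔟ʲM) ≤ ℓ(M/JM) · #{monomials of degree j}`. -/
theorem qlen_pow_le (J : Ideal A) (l : List A) :
    ∀ (M : Type u) [AddCommGroup M] [Module A M] (j : ℕ),
      qlen J ↥(Ideal.ofList l ^ j • (⊤ : Submodule A M)) ≤
        qlen J M * ((mono l.length j : ℕ) : ℕ∞) := by
  induction l with
  | nil =>
    intro M _ _ j
    rcases j with _ | j
    · rw [mono_zero_right, Nat.cast_one, mul_one]
      exact qlen_pow_zero_le J _ M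
    · have hbot : Ideal.ofList ([] : List A) ^ (j + 1) • (⊤ : Submodule A M) = ⊥ := by
        rw [Ideal.ofList_nil, ← Ideal.zero_eq_bot, zero_pow (Nat.succ_ne_zero j),
          Ideal.zero_eq_bot, Submodule.bot_smul]
      haveI : Subsingleton ↥(Ideal.ofList ([] : List A) ^ (j + 1) • (⊤ : Submodule A M)) := by
        rw [hbot]
        infer_instance
      rw [qlen_of_subsingleton]
      exact zero_le
  | cons z l' ih =>
    intro M _ _ j
    induction j with
    | zero =>
      rw [mono_zero_right, Nat.cast_one, mul_one]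
      exact qlen_pow_zero_le J _ M
    | succ j ihj =>
      have hz : z ∈ Ideal.ofList (z :: l') := Ideal.subset_span List.mem_cons_self
      have hP : Ideal.ofList l' ≤ Ideal.ofList (z :: l') := by
        rw [Ideal.ofList_cons]
        exact le_sup_right
      have h1 : ∀ m ∈ Ideal.ofList (z :: l') ^ j • (⊤ : Submodule A M),
          (LinearMap.lsmul A M z) m ∈ Ideal.ofList (z :: l') ^ (j + 1) • (⊤ : Submodule A M) := by
        intro m hm
        rw [pow_succ', Submodule.mul_smul, LinearMap.lsmul_apply]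
        exact Submodule.smul_mem_smul hz hm
      have h2 : Ideal.ofList l' ^ (j + 1) • (⊤ : Submodule A M) ≤
          Ideal.ofList (z :: l') ^ (j + 1) • (⊤ : Submodule A M) :=
        Submodule.smul_mono_left (Ideal.pow_right_mono hP (j + 1))
      have h3 : Ideal.ofList (z :: l') ^ (j + 1) • (⊤ : Submodule A M) ≤
          z • (Ideal.ofList (z :: l') ^ j • (⊤ : Submodule A M)) ⊔
            Ideal.ofList l' ^ (j + 1) • (⊤ : Submodule A M) := by
        have hk : Ideal.ofList (z :: l') ^ (j + 1) ≤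
            Ideal.span {z} * Ideal.ofList (z :: l') ^ j ⊔ Ideal.ofList l' ^ (j + 1) := by
          have h0 := sup_pow_succ_le (Ideal.span {z}) (Ideal.ofList l') j
          rwa [← Ideal.ofList_cons] at h0
        refine (Submodule.smul_mono_left hk).trans (le_of_eq ?_)
        rw [Submodule.sup_smul, Submodule.mul_smul, Submodule.ideal_span_singleton_smul]
      have hsurj : ∀ t : ↥(Ideal.ofList (z :: l') ^ (j + 1) • (⊤ : Submodule A M)),
          ∃ a b, ((LinearMap.lsmul A M z).restrict h1) a + (Submodule.inclusion h2) b = t := by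
        intro t
        obtain ⟨u, hu, v, hv, huv⟩ := Submodule.mem_sup.mp (h3 t.2)
        obtain ⟨a, ha, rfl⟩ := (Submodule.mem_smul_pointwise_iff_exists _ _ _).mp hu
        exact ⟨⟨a, ha⟩, ⟨v, hv⟩, Subtype.ext huv⟩
      have hadd := qlen_le_add J ((LinearMap.lsmul A M z).restrict h1) (Submodule.inclusion h2)
        hsurj
      have ih' := ih M (j + 1)
      simp only [List.length_cons] at ihj ⊢
      calc qlen J ↥(Ideal.ofList (z :: l') ^ (j + 1) • (⊤ : Submodule A M))
          ≤ qlen J ↥(Ideal.ofList (z :: l') ^ j • (⊤ : Submodule A M)) +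
            qlen J ↥(Ideal.ofList l' ^ (j + 1) • (⊤ : Submodule A M)) := hadd
        _ ≤ qlen J M * ((mono (l'.length + 1) j : ℕ) : ℕ∞) +
            qlen J M * ((mono l'.length (j + 1) : ℕ) : ℕ∞) := add_le_add ihj ih'
        _ = qlen J M * ((mono (l'.length + 1) (j + 1) : ℕ) : ℕ∞) := by
          rw [mono_succ_succ, Nat.cast_add, mul_add]

/-- a submodule `K ≤ S ⊔ T` has image in `M/S` of length `≤ ℓ(T/JT)` if `JT ≤ S`. -/
lemma length_map_le_of_le (J : Ideal A) (K T S : Submodule A M) (hK : K ≤ S ⊔ T)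
    (hJ : J • T ≤ S) : Module.length A ↥(K.map S.mkQ) ≤ qlen J ↥T := by
  have h1 : K.map S.mkQ ≤ T.map S.mkQ := by
    refine (Submodule.map_mono hK).trans (le_of_eq ?_)
    rw [Submodule.map_sup, Submodule.mkQ_map_self, bot_sup_eq]
  exact (Module.length_le_of_injective (Submodule.inclusion h1)
    (Submodule.inclusion_injective h1)).trans (length_map_le' J T S hJ)

/-! ### the colon module -/

/-- `(I^{n+1} M :_M x)`. -/
def colon (I : Ideal A) (x : A) (M : Type u) [AddCommGroup M] [Module A M] (n : ℕ) :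
    Submodule A M :=
  LinearMap.ker ((I ^ (n + 1) • (⊤ : Submodule A M)).mkQ.comp (LinearMap.lsmul A M x))

lemma mem_colon (I : Ideal A) (x : A) (n : ℕ) (m : M) :
    m ∈ colon I x M n ↔ x • m ∈ I ^ (n + 1) • (⊤ : Submodule A M) := by
  unfold colon
  rw [LinearMap.mem_ker, LinearMap.comp_apply, LinearMap.lsmul_apply, Submodule.mkQ_apply,
    Submodule.Quotient.mk_eq_zero]

lemma le_colon (I : Ideal A) (x : A) (hxI : x ∈ I) (n : ℕ) :
    I ^ n • (⊤ : Submodule A M) ≤ colon I x M n := by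
  intro y hy
  rw [mem_colon, pow_succ', Submodule.mul_smul]
  exact Submodule.smul_mem_smul hxI hy

/-- the basic length identity. -/
lemma length_rec (I : Ideal A) (x : A) (hxI : x ∈ I) (M : Type u) [AddCommGroup M] [Module A M]
    (n : ℕ) :
    Module.length A (M ⧸ (I ^ (n + 1) • (⊤ : Submodule A M))) +
      Module.length A ↥((colon I x M n).map (I ^ n • (⊤ : Submodule A M)).mkQ) =
    Module.length A (M ⧸ (I ^ n • (⊤ : Submodule A M))) +
      Module.length A (QuotSMulTop x M ⧸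
        (I ^ (n + 1) • (⊤ : Submodule A (QuotSMulTop x M)))) := by
  have h1 := length_quot_eq I (x • (⊤ : Submodule A M)).mkQ (Submodule.mkQ_surjective _) (n + 1)
  rw [Submodule.ker_mkQ] at h1
  have hr : LinearMap.range ((I ^ (n + 1) • (⊤ : Submodule A M)).mkQ.comp
      (LinearMap.lsmul A M x)) =
      (x • (⊤ : Submodule A M)).map (I ^ (n + 1) • (⊤ : Submodule A M)).mkQ := by
    ext q
    constructor
    · rintro ⟨y, rfl⟩
      exact ⟨x • y, (Submodule.mem_smul_pointwise_iff_exists _ _ _).2 ⟨y, trivial, rfl⟩, rfl⟩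
    · rintro ⟨z, hz, rfl⟩
      obtain ⟨y, _, rfl⟩ := (Submodule.mem_smul_pointwise_iff_exists _ _ _).1 hz
      exact ⟨y, rfl⟩
  have h2 := (LinearMap.quotKerEquivRange ((I ^ (n + 1) • (⊤ : Submodule A M)).mkQ.comp
      (LinearMap.lsmul A M x))).length_eq
  have h3 := length_quot_of_le (I ^ n • (⊤ : Submodule A M)) (colon I x M n)
    (le_colon I x hxI n)
  have h4 := (LinearEquiv.ofEq _ _ hr).length_eq
  have h2' : Module.length A (M ⧸ colon I x M n) =
      Module.length A ↥((x • (⊤ : Submodule A M)).map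
        (I ^ (n + 1) • (⊤ : Submodule A M)).mkQ) := h2.trans h4
  rw [h1, h3, h2']
  ac_rfl

end general

/-! ### the local Noetherian case -/

section loc

variable [IsLocalRing A] [IsNoetherianRing A]

variable {M : Type u} [AddCommGroup M] [Module A M]

lemma good_pow {I : Ideal A} (h : Good I M) : ∀ n : ℕ, Good (I ^ n) M
  | 0 => ⟨0, le_sup_of_le_left (le_of_eq (by rw [pow_zero, pow_zero]))⟩
  | k + 1 => by
    have h1 : I ≤ (I ^ (k + 1)).radical := by
      rw [Ideal.radical_pow I (Nat.succ_ne_zero k)]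
      exact Ideal.le_radical
    exact h.of_le_radical (h1.trans (Ideal.radical_mono le_sup_left))

lemma isFiniteLength_quot_of_good [Module.Finite A M] {I : Ideal A} (h : Good I M) (n : ℕ)
    (S : Submodule A M) (hS : I ^ n • (⊤ : Submodule A M) ≤ S) : IsFiniteLength A (M ⧸ S) := by
  refine isFiniteLength_of_good_of_killed (I ^ n) M (good_pow h n) (M ⧸ S) ?_ ?_
  · intro a ha z
    obtain ⟨m, rfl⟩ := Submodule.Quotient.mk_surjective _ z
    rw [← Submodule.Quotient.mk_smul, Submodule.Quotient.mk_eq_zero]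
    exact hS (Submodule.smul_mem_smul ha Submodule.mem_top)
  · intro a ha z
    obtain ⟨m, rfl⟩ := Submodule.Quotient.mk_surjective _ z
    rw [← Submodule.Quotient.mk_smul, Module.mem_annihilator.mp ha m, Submodule.Quotient.mk_zero]

lemma length_quot_pow_ne_top [Module.Finite A M] {I : Ideal A} (h : Good I M) (n : ℕ) :
    Module.length A (M ⧸ (I ^ n • (⊤ : Submodule A M))) ≠ ⊤ :=
  Module.length_ne_top_iff.mpr (isFiniteLength_quot_of_good h n _ le_rfl)

/-- Artin–Rees for a regular element. -/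
lemma exists_colon_pow_le (𝔟 : Ideal A) (x : A) (M : Type u) [AddCommGroup M] [Module A M]
    [Module.Finite A M] (hx : IsSMulRegular M x) :
    ∃ k : ℕ, ∀ (N : ℕ) (m : M), x • m ∈ 𝔟 ^ N • (⊤ : Submodule A M) →
      m ∈ 𝔟 ^ (N - k) • (⊤ : Submodule A M) := by
  obtain ⟨k, hk⟩ := Ideal.exists_pow_inf_eq_pow_smul 𝔟 (x • (⊤ : Submodule A M))
  refine ⟨k, fun N m hm => ?_⟩
  rcases Nat.lt_or_ge N k with hN | hN
  · rw [Nat.sub_eq_zero_of_le hN.le, pow_zero_smul_top]
    exact Submodule.mem_top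
  · have h1 : x • m ∈ 𝔟 ^ N • (⊤ : Submodule A M) ⊓ x • (⊤ : Submodule A M) :=
      ⟨hm, Submodule.smul_mem_pointwise_smul m x ⊤ Submodule.mem_top⟩
    rw [hk N hN] at h1
    have h2 : 𝔟 ^ (N - k) • (𝔟 ^ k • (⊤ : Submodule A M) ⊓ x • (⊤ : Submodule A M)) ≤
        x • (𝔟 ^ (N - k) • (⊤ : Submodule A M)) := by
      refine (Submodule.smul_mono le_rfl inf_le_right).trans (le_of_eq ?_)
      rw [← Submodule.ideal_span_singleton_smul x (⊤ : Submodule A M), ← Submodule.mul_smul,
        mul_comm, Submodule.mul_smul, Submodule.ideal_span_singleton_smul]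
    obtain ⟨t, ht, hxt⟩ := (Submodule.mem_smul_pointwise_iff_exists _ _ _).mp (h2 h1)
    have htm : t = m := hx hxt
    rwa [← htm]

/-- the colon module is contained in `IⁿM + 𝔟^{n+1-k}M`. -/
lemma colon_le (I 𝔟 : Ideal A) (x : A) (hI : I = Ideal.span {x} ⊔ 𝔟) (k : ℕ)
    (hk : ∀ (N : ℕ) (m : M), x • m ∈ 𝔟 ^ N • (⊤ : Submodule A M) →
      m ∈ 𝔟 ^ (N - k) • (⊤ : Submodule A M)) (n : ℕ) :
    colon I x M n ≤ I ^ n • (⊤ : Submodule A M) ⊔ 𝔟 ^ (n + 1 - k) • (⊤ : Submodule A M) := by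
  subst hI
  intro m hm
  rw [mem_colon] at hm
  have hle : (Ideal.span {x} ⊔ 𝔟) ^ (n + 1) • (⊤ : Submodule A M) ≤
      x • ((Ideal.span {x} ⊔ 𝔟) ^ n • (⊤ : Submodule A M)) ⊔
        𝔟 ^ (n + 1) • (⊤ : Submodule A M) := by
    refine (Submodule.smul_mono_left (sup_pow_succ_le _ _ n)).trans (le_of_eq ?_)
    rw [Submodule.sup_smul, Submodule.mul_smul, Submodule.ideal_span_singleton_smul]
  obtain ⟨u, hu, v, hv, huv⟩ := Submodule.mem_sup.mp (hle hm)
  obtain ⟨a, ha, rfl⟩ := (Submodule.mem_smul_pointwise_iff_exists _ _ _).mp hu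
  have hv' : x • (m - a) ∈ 𝔟 ^ (n + 1) • (⊤ : Submodule A M) := by
    have e : x • (m - a) = v := by
      rw [smul_sub, ← huv]
      abel
    rw [e]
    exact hv
  have h5 := hk (n + 1) (m - a) hv'
  have e2 : a + (m - a) = m := by abel
  rw [← e2]
  exact Submodule.add_mem_sup ha h5

/-- **the recursion for a regular head element.** -/
theorem sam_rec (x : A) (l' : List A) (M : Type u) [AddCommGroup M] [Module A M]
    [Module.Finite A M] (h : Good (Ideal.ofList (x :: l')) M) (hx : IsSMulRegular M x) :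
    ∃ (k C0 : ℕ) (ε : ℕ → ℕ),
      (∀ n, sam (Ideal.ofList (x :: l')) M (n + 1) + ε n =
        sam (Ideal.ofList (x :: l')) M n + sam (Ideal.ofList l') (QuotSMulTop x M) (n + 1)) ∧
      (∀ n, ε n ≤ C0 * mono l'.length (n + 1 - k)) := by
  obtain ⟨k, hk⟩ := exists_colon_pow_le (Ideal.ofList l') x M hx
  have hI : Ideal.ofList (x :: l') = Ideal.span {x} ⊔ Ideal.ofList l' := Ideal.ofList_cons x l'
  have hxI : x ∈ Ideal.ofList (x :: l') := Ideal.subset_span List.mem_cons_self
  have h𝔟 : Ideal.ofList l' ≤ Ideal.ofList (x :: l') := by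
    rw [hI]
    exact le_sup_right
  have hGq : Good (Ideal.ofList (x :: l')) (QuotSMulTop x M) :=
    h.of_ann_le (annihilator_le_of_surjective (x • (⊤ : Submodule A M)).mkQ
      (Submodule.mkQ_surjective _))
  refine ⟨k, sam (Ideal.ofList (x :: l')) M k,
    fun n => (Module.length A ↥((colon (Ideal.ofList (x :: l')) x M n).map
      (Ideal.ofList (x :: l') ^ n • (⊤ : Submodule A M)).mkQ)).toNat, fun n => ?_, fun n => ?_⟩
  · have hrec := length_rec (Ideal.ofList (x :: l')) x hxI M n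
    have f1 := length_quot_pow_ne_top h (n + 1)
    have f2 := length_quot_pow_ne_top h n
    have f3 := length_quot_pow_ne_top hGq (n + 1)
    have f4 : Module.length A ↥((colon (Ideal.ofList (x :: l')) x M n).map
        (Ideal.ofList (x :: l') ^ n • (⊤ : Submodule A M)).mkQ) ≠ ⊤ :=
      ne_top_of_le_ne_top f2
        (Module.length_le_of_injective (Submodule.subtype _) (Submodule.subtype_injective _))
    have h0 := congrArg ENat.toNat hrec
    rw [ENat.toNat_add f1 f4, ENat.toNat_add f2 f3] at h0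
    rw [← sam_cons_of_kills (M := QuotSMulTop x M) x l' (smul_quotSMulTop_eq_zero x) (n + 1)]
    exact h0
  · have hle := length_map_le_of_le (Ideal.ofList (x :: l') ^ k)
      (colon (Ideal.ofList (x :: l')) x M n)
      (Ideal.ofList l' ^ (n + 1 - k) • (⊤ : Submodule A M))
      (Ideal.ofList (x :: l') ^ n • (⊤ : Submodule A M))
      (colon_le _ _ x hI k hk n)
      (pow_smul_pow_le _ _ h𝔟 k (n + 1 - k) n (by omega))
    have hG := qlen_pow_le (Ideal.ofList (x :: l') ^ k) l' M (n + 1 - k)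
    have hq : qlen (Ideal.ofList (x :: l') ^ k) M =
        ((sam (Ideal.ofList (x :: l')) M k : ℕ) : ℕ∞) := by
      unfold qlen sam
      rw [ENat.natCast_toNat (length_quot_pow_ne_top h k)]
    rw [hq] at hG
    have h0 := hle.trans hG
    exact ENat.toNat_le_of_le_natCast (by rw [Nat.cast_mul]; exact h0)

/-- **comparison in a short exact sequence.** -/
theorem sam_exact (I : Ideal A) {N₁ N₂ N₃ : Type u} [AddCommGroup N₁] [Module A N₁]
    [Module.Finite A N₁] [AddCommGroup N₂] [Module A N₂] [Module.Finite A N₂] [AddCommGroup N₃]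
    [Module A N₃] (f : N₁ →ₗ[A] N₂) (g : N₂ →ₗ[A] N₃)
    (hf : Function.Injective f) (hg : Function.Surjective g) (hfg : Function.Exact f g)
    (h : Good I N₂) :
    ∃ (k : ℕ) (q : ℕ → ℕ), (∀ n, sam I N₂ n = q n + sam I N₃ n) ∧ (∀ n, q n ≤ sam I N₁ n) ∧
      (∀ n, sam I N₁ (n - k) ≤ q n) := by
  have h1 : Good I N₁ := h.of_ann_le (annihilator_le_of_injective f hf)
  obtain ⟨k, hk⟩ := exists_length_le_map I (LinearMap.ker g)
  have e : N₁ ≃ₗ[A] ↥(LinearMap.ker g) :=
    (LinearEquiv.ofInjective f hf).trans (LinearEquiv.ofEq _ _ hfg.linearMap_ker_eq.symm)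
  have hsum : ∀ n, Module.length A (N₂ ⧸ (I ^ n • (⊤ : Submodule A N₂))) =
      Module.length A ↥((LinearMap.ker g).map (I ^ n • (⊤ : Submodule A N₂)).mkQ) +
        Module.length A (N₃ ⧸ (I ^ n • (⊤ : Submodule A N₃))) := fun n => length_quot_eq I g hg n
  have fq : ∀ n, Module.length A
      ↥((LinearMap.ker g).map (I ^ n • (⊤ : Submodule A N₂)).mkQ) ≠ ⊤ := fun n =>
    ne_top_of_le_ne_top (length_quot_pow_ne_top h n) ((hsum n).symm ▸ le_self_add)
  have f3 : ∀ n, Module.length A (N₃ ⧸ (I ^ n • (⊤ : Submodule A N₃))) ≠ ⊤ := fun n =>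
    ne_top_of_le_ne_top (length_quot_pow_ne_top h n) ((hsum n).symm ▸ le_add_self)
  refine ⟨k, fun n => (Module.length A
    ↥((LinearMap.ker g).map (I ^ n • (⊤ : Submodule A N₂)).mkQ)).toNat, fun n => ?_, fun n => ?_,
    fun n => ?_⟩
  · unfold sam
    rw [hsum n, ENat.toNat_add (fq n) (f3 n)]
  · unfold sam
    refine ENat.toNat_le_toNat ?_ (length_quot_pow_ne_top h1 n)
    rw [length_quot_congr I e n]
    exact length_map_le I (LinearMap.ker g) n
  · rcases Nat.lt_or_ge n k with hn | hn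
    · rw [Nat.sub_eq_zero_of_le hn.le, sam_zero]
      exact Nat.zero_le _
    · unfold sam
      refine ENat.toNat_le_toNat ?_ (fq n)
      rw [length_quot_congr I e (n - k)]
      exact hk n hn

end loc

end Groth.Agent.Lib.Helper4.KS
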