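import Groth.Agent.Lib.Helper4.KTor
import Groth.Agent.Lib.Helper14.KoszulBC2
import Groth.Agent.Lib.Helper14.KoszulLCI
import Groth.Agent.Lib.Helper14.TorVanish
import Groth.Agent.Lib.Helper10.KoszulLow
import Groth.Agent.S2103
import Groth.Agent.S5071

/-!
# `Tor_i(A/(l), M)` is Koszul homology for a Koszul-regular sequence `l`

Generalisation of `KTor.main` from weakly regular to Koszul-regular sequences, with consequences
for `Tor` of the powers of the ideal (through quasi-regularity).
-/

set_option autoImplicit false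
set_option linter.style.haveILetI false
set_option linter.unusedSectionVars false
set_option linter.unusedVariables false
set_option maxHeartbeats 800000

open CategoryTheory CategoryTheory.Limits CochainComplex HomComplex MonoidalCategory TensorProduct

universe u

namespace Groth.Agent.Lib.Helper4.KTor2

open CohIII Groth.Agent.Lib.Helper14.KoszulFun Groth.Agent.Lib.Helper4.KTor RingTheory.Sequence
  Groth.Agent.Lib.Helper14.TorKer

variable {A : Type u} [CommRing A]

/-- the Koszul complex of `l` on every flat module is acyclic off degree `0`. -/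
def AcycFlat (l : List A) : Prop :=
  ∀ (X : Type u) [AddCommGroup X] [Module A X] [Module.Flat A X] (j : ℤ), j ≠ 0 →
    IsZero ((koszulCx (ModuleCat.of A X) l).homology j)

theorem acycFlat_of_koszulRegular (l : List A) (hl : LCI.IsKoszulRegularSeq A l) :
    AcycFlat l := by
  intro X _ _ _ j hj
  have h0 := (isKoszulRegularSeq_iff A l).mp hl j hj
  haveI : Module.Flat A (ModuleCat.of A X) := inferInstanceAs (Module.Flat A X)
  have h1 := isZero_homology_koszul_tensorLeft (ModuleCat.of A X) (ModuleCat.of A A) l j h0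
  exact h1.of_iso ((HomologicalComplex.homologyFunctor _ _ j).mapIso
    (koszulIso (ρ_ (ModuleCat.of A X)) l)).symm

section steps

variable (l : List A) (hl : AcycFlat l)

include hl in
theorem step1 (M : Type u) [AddCommGroup M] [Module A M] :
    Nonempty (DRing.Tor A 1 (A ⧸ Ideal.ofList l) M ≃ₗ[A]
      ((koszulCx (ModuleCat.of A M) l).homology (-((1 : ℕ) : ℤ)) : Type u)) := by
  let p : (M →₀ A) →ₗ[A] M := Finsupp.linearCombination A id
  have hp : Function.Surjective p := Finsupp.linearCombination_id_surjective A M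
  let ι : ↥(LinearMap.ker p) →ₗ[A] (M →₀ A) := (LinearMap.ker p).subtype
  have hex : Function.Exact ι p := LinearMap.exact_subtype_ker_map p
  have hi : Function.Injective ι := (LinearMap.ker p).injective_subtype
  obtain ⟨eT⟩ := nonempty_tor_one_equiv_ker (A ⧸ Ideal.ofList l) (K := ↥(LinearMap.ker p))
    (F := M →₀ A) (N := M) ι p hex hi hp
  have hS0 := sc_shortExact (K := ↥(LinearMap.ker p)) (F := M →₀ A) (N := M) ι p hex hi hp
  have hne : (-((1 : ℕ) : ℤ)) ≠ 0 := by norm_num
  have hF : IsZero ((koszulCx (ModuleCat.of A (M →₀ A)) l).homology (-((1 : ℕ) : ℤ))) :=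
    hl (M →₀ A) _ hne
  obtain ⟨e⟩ := step1_aux l _ hS0 hF
  exact ⟨eT.trans e⟩

include hl in
theorem stepSucc (k : ℕ)
    (ih : ∀ (X : Type u) [AddCommGroup X] [Module A X],
      Nonempty (DRing.Tor A (k + 1) (A ⧸ Ideal.ofList l) X ≃ₗ[A]
        ((koszulCx (ModuleCat.of A X) l).homology (-((k + 1 : ℕ) : ℤ)) : Type u)))
    (M : Type u) [AddCommGroup M] [Module A M] :
    Nonempty (DRing.Tor A (k + 2) (A ⧸ Ideal.ofList l) M ≃ₗ[A]
      ((koszulCx (ModuleCat.of A M) l).homology (-((k + 2 : ℕ) : ℤ)) : Type u)) := by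
  let p : (M →₀ A) →ₗ[A] M := Finsupp.linearCombination A id
  have hp : Function.Surjective p := Finsupp.linearCombination_id_surjective A M
  let ι : ↥(LinearMap.ker p) →ₗ[A] (M →₀ A) := (LinearMap.ker p).subtype
  have hex : Function.Exact ι p := LinearMap.exact_subtype_ker_map p
  have hi : Function.Injective ι := (LinearMap.ker p).injective_subtype
  obtain ⟨eT⟩ := nonempty_tor_shift (A ⧸ Ideal.ofList l) (K := ↥(LinearMap.ker p))
    (F := M →₀ A) (N := M) ι p hex hi hp k
  obtain ⟨eN⟩ := ih ↥(LinearMap.ker p)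
  have hS0 := sc_shortExact (K := ↥(LinearMap.ker p)) (F := M →₀ A) (N := M) ι p hex hi hp
  have hF : ∀ j : ℤ, j ≠ 0 → IsZero ((koszulCx (ModuleCat.of A (M →₀ A)) l).homology j) :=
    fun j hj => hl (M →₀ A) j hj
  have hij : (-((k + 2 : ℕ) : ℤ)) + 1 = -((k + 1 : ℕ) : ℤ) := by push_cast; ring
  obtain ⟨e⟩ := stepSucc_aux l _ hS0 _ _ hij (hF _ (by omega)) (hF _ (by omega))
  exact ⟨eT.trans (eN.trans e)⟩

include hl in
/-- **Tor against a Koszul-regular sequence is Koszul homology.** -/
theorem main : ∀ (k : ℕ) (M : Type u) [AddCommGroup M] [Module A M],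
    Nonempty (DRing.Tor A k (A ⧸ Ideal.ofList l) M ≃ₗ[A]
      ((koszulCx (ModuleCat.of A M) l).homology (-(k : ℤ)) : Type u))
  | 0, M, _, _ => step0 l M
  | 1, M, _, _ => step1 l hl M
  | k + 2, M, _, _ => stepSucc l hl k (fun X _ _ => main (k + 1) X) M

include hl in
theorem torZ_quot (M : Type u) [AddCommGroup M] [Module A M] (k : ℕ)
    (hM : IsZero ((koszulCx (ModuleCat.of A M) l).homology (-(k : ℤ)))) :
    TorZ A k (A ⧸ Ideal.ofList l) M := by
  obtain ⟨e⟩ := main l hl k M
  haveI : Subsingleton ((koszulCx (ModuleCat.of A M) l).homology (-(k : ℤ)) : Type u) :=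
    ModuleCat.subsingleton_of_isZero hM
  exact e.toEquiv.subsingleton

end steps

/-! ### base change -/

/-- `A'` with scalars restricted along `A → A'` is `A'` as an `A`-module. -/
noncomputable def rsIso (A A' : Type u) [CommRing A] [CommRing A'] [Algebra A A'] :
    ModuleCat.of A ((ModuleCat.restrictScalars.{u} (algebraMap A A')).obj (ModuleCat.of A' A')) ≅
      ModuleCat.of A A' :=
  LinearEquiv.toModuleIso
    { toFun := fun x => x
      invFun := fun x => x
      map_add' := fun _ _ => rfl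
      map_smul' := fun a x => (Algebra.smul_def a (show A' from x)).symm
      left_inv := fun _ => rfl
      right_inv := fun _ => rfl }

theorem torZ_quot_of_koszulRegular (A A' : Type u) [CommRing A] [CommRing A'] [Algebra A A']
    (fs : List A) (hfs : LCI.IsKoszulRegularSeq A fs)
    (hfs' : LCI.IsKoszulRegularSeq A' (fs.map (algebraMap A A'))) (i : ℕ) :
    TorZ A (i + 1) (A ⧸ Ideal.ofList fs) A' := by
  have hne : (-((i + 1 : ℕ) : ℤ)) ≠ 0 := by omega
  have h1 := (isKoszulRegularSeq_iff A' _).mp hfs' _ hne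
  have h2 := (isZero_homology_koszul_restrictScalars_iff (algebraMap A A') (ModuleCat.of A' A')
    fs _).mpr h1
  have h3 : IsZero ((koszulCx (ModuleCat.of A A') fs).homology (-((i + 1 : ℕ) : ℤ))) :=
    h2.of_iso ((HomologicalComplex.homologyFunctor _ _ _).mapIso
      (koszulIso (rsIso A A') fs)).symm
  exact torZ_quot fs (acycFlat_of_koszulRegular fs hfs) A' (i + 1) h3

/-! ### finite products -/

section fin

variable {N : Type u} [AddCommGroup N] [Module A N]

theorem torZ_of_subsingleton_left (M : Type u) [AddCommGroup M] [Module A M] [Subsingleton M]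
    (n : ℕ) : TorZ A (n + 1) M N := by
  haveI : Module.Free A M := Module.Free.of_subsingleton A M
  exact torZ_of_flat_left n

theorem torZ_prod_left {X Y : Type u} [AddCommGroup X] [Module A X] [AddCommGroup Y] [Module A Y]
    (n : ℕ) (hX : TorZ A n X N) (hY : TorZ A n Y N) : TorZ A n (X × Y) N := by
  refine torZ_mid_left (LinearMap.inl A X Y) (LinearMap.snd A X Y) ?_ LinearMap.inl_injective
    LinearMap.snd_surjective n hX hY
  intro z
  constructor
  · intro h
    have h' : z.2 = 0 := h
    exact ⟨z.1, Prod.ext rfl h'.symm⟩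
  · rintro ⟨x, rfl⟩
    rfl

theorem torZ_pi_left {X : Type u} [AddCommGroup X] [Module A X] (n : ℕ)
    (h : TorZ A (n + 1) X N) (ι : Type) [Finite ι] : TorZ A (n + 1) (ι → X) N := by
  refine Finite.induction_empty_option (P := fun ι => TorZ A (n + 1) (ι → X) N) ?_ ?_ ?_ ι
  · intro α β e hα
    exact torZ_of_equiv_left (LinearEquiv.funCongrLeft A X e.symm) hα
  · exact torZ_of_subsingleton_left _ n
  · intro α _ hα
    exact torZ_of_equiv_left (LinearEquiv.piOptionEquivProd A (M := fun _ : Option α => X)).symm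
      (torZ_prod_left (n + 1) h hα)

theorem torZ_finsupp_left {X : Type u} [AddCommGroup X] [Module A X] (n : ℕ)
    (h : TorZ A (n + 1) X N) (ι : Type) [Finite ι] : TorZ A (n + 1) (ι →₀ X) N :=
  torZ_of_equiv_left (Finsupp.linearEquivFunOnFinite A X ι).symm (torZ_pi_left n h ι)

end fin

/-! ### powers of the ideal -/

section pow

variable (J : Ideal A) (X : Type u) [AddCommGroup X] [Module A X]

open Groth.Agent.S5071 in
theorem torZ_quot_pow
    (hG : ∀ k i, TorZ A (i + 1) (↥(J ^ k) ⧸ Submodule.comap (J ^ k).subtype (J ^ (k + 1))) X) :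
    ∀ m i, TorZ A (i + 1) (A ⧸ J ^ m) X
  | 0, i => by
    haveI : Subsingleton (A ⧸ J ^ 0) :=
      Ideal.Quotient.subsingleton_iff.2 (by rw [pow_zero, Ideal.one_eq_top])
    exact torZ_of_subsingleton_left _ i
  | m + 1, i =>
    torZ_mid_left (iota (J ^ m) (J ^ (m + 1)))
      (pi (J ^ m) (J ^ (m + 1)) (Ideal.pow_le_pow_right (Nat.le_succ m)))
      (iota_pi_exact _ _ _) (iota_injective _ _) (pi_surjective _ _ _) (i + 1) (hG m i)
      (torZ_quot_pow hG m i)

theorem torZ_pow (hQ : ∀ m i, TorZ A (i + 1) (A ⧸ J ^ m) X) (n i : ℕ) :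
    TorZ A (i + 1) ↥(J ^ n) X :=
  torZ_sub_left (J ^ n).subtype (Submodule.mkQ (J ^ n)) (LinearMap.exact_subtype_mkQ _)
    Subtype.val_injective (Submodule.mkQ_surjective _) (i + 1) (hQ n (i + 1))
    (torZ_of_flat_left i)

theorem torZ_gr {c : ℕ} (f : Fin c → A) (hq : CAlgX.IsQuasiRegular f)
    (hJ : J = Ideal.span (Set.range f)) (h0 : ∀ i, TorZ A (i + 1) (A ⧸ J) X) (k i : ℕ) :
    TorZ A (i + 1) (↥(J ^ k) ⧸ Submodule.comap (J ^ k).subtype (J ^ (k + 1))) X := by
  subst hJ
  obtain ⟨e⟩ := Groth.Agent.S5071.grade_equiv f k hq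
  haveI : Finite (Groth.Agent.S5071.Dk c k) := (Finsupp.finite_of_degree_eq k).to_subtype
  exact torZ_of_equiv_left e.symm (torZ_finsupp_left i (h0 i) (Groth.Agent.S5071.Dk c k))

end pow

/-- **Tor of the powers of a Koszul-regular ideal against a Koszul-regular base change.** -/
theorem main_pow (A A' : Type u) [CommRing A] [CommRing A'] [Algebra A A']
    (fs : List A) (hfs : LCI.IsKoszulRegularSeq A fs)
    (hfs' : LCI.IsKoszulRegularSeq A' (fs.map (algebraMap A A'))) (n i : ℕ) :
    TorZ A (i + 1) ↥(Ideal.span {x | x ∈ fs} ^ n) A' ∧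
    TorZ A (i + 1) (↥(Ideal.span {x | x ∈ fs} ^ n) ⧸
      Submodule.comap (Ideal.span {x | x ∈ fs} ^ n).subtype
        (Ideal.span {x | x ∈ fs} ^ (n + 1))) A' := by
  have hq : CAlgX.IsQuasiRegular fs.get :=
    Groth.Agent.S2103.result fs.get (fun a ha =>
      H10KL.h1_of_isZero_homology _ fs (hfs (-1) (by norm_num)) a ha)
  have hJ : Ideal.span {x | x ∈ fs} = Ideal.span (Set.range fs.get) := by
    rw [Set.range_list_get]
  have h0 : ∀ i, TorZ A (i + 1) (A ⧸ Ideal.span {x | x ∈ fs}) A' :=
    fun i => torZ_quot_of_koszulRegular A A' fs hfs hfs' i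
  have hG := torZ_gr (Ideal.span {x | x ∈ fs}) A' fs.get hq hJ h0
  have hQ := torZ_quot_pow (Ideal.span {x | x ∈ fs}) A' hG
  exact ⟨torZ_pow _ A' hQ n i, hG n i⟩

end Groth.Agent.Lib.Helper4.KTor2
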