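import Groth.Agent.Lib.Helper4.KTor2
import Groth.Agent.Lib.Helper4.KE2
import Groth.Agent.Lib.Helper1.KoszulSwap
import Groth.Agent.Lib.Helper1.KoszulConcat

/-!
# `Tor_i(A/(f,g), A/(f,h))` for Koszul-regular `f ++ g`, `f ++ h`, `f ++ g ++ h`

`Tor_i(A/(f,g), A/(f,h))` is free of rank `binom(|f|, i)` over `A/(f,g,h)`, hence is the `i`-th
exterior power (over `A`, for `i ≥ 1`) of `Tor_1`.
-/

set_option autoImplicit false
set_option linter.style.haveILetI false
set_option linter.unusedSectionVars false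
set_option linter.unusedVariables false
set_option maxHeartbeats 800000

open CategoryTheory CategoryTheory.Limits CochainComplex HomComplex MonoidalCategory TensorProduct

universe u

namespace Groth.Agent.Lib.Helper4.KTor3

open CohIII Groth.Agent.Lib.Helper14.KoszulFun Groth.Agent.Lib.Helper4.KE
  Groth.Agent.Lib.Helper4.KosCone Groth.Agent.Lib.Helper14.TorKer
  Groth.Agent.Lib.Helper1.KoszulConcat Groth.Agent.Lib.Helper1.KoszulSwap

variable {A : Type u} [CommRing A]

/-! ### elementary facts on quotients -/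

lemma smul_quot_eq_zero (J : Ideal A) {a : A} (ha : a ∈ J) (x : A ⧸ J) : a • x = 0 := by
  obtain ⟨b, rfl⟩ := Submodule.mkQ_surjective J x
  rw [← map_smul, ← LinearMap.mem_ker, Submodule.ker_mkQ, smul_eq_mul]
  exact J.mul_mem_right b ha

lemma smul_one_eq_mk (K : Ideal A) (r : A) : r • (1 : A ⧸ K) = Ideal.Quotient.mk K r := by
  have h := (Submodule.Quotient.mk_smul K r (1 : A)).symm
  rw [smul_eq_mul, mul_one] at h
  exact h

lemma mkQ_mem_smul_top_iff (J I : Ideal A) (a : A) :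
    Submodule.mkQ J a ∈ I • (⊤ : Submodule A (A ⧸ J)) ↔ a ∈ J ⊔ I := by
  constructor
  · intro h
    have hle : I • (⊤ : Submodule A (A ⧸ J)) ≤ Submodule.map (Submodule.mkQ J) (J ⊔ I) := by
      rw [Submodule.smul_le]
      intro c hc n _
      obtain ⟨b, rfl⟩ := Submodule.mkQ_surjective J n
      refine ⟨c * b, (J ⊔ I).mul_mem_right b (Ideal.mem_sup_right hc), ?_⟩
      rw [← smul_eq_mul, map_smul]
    obtain ⟨a', ha', haa'⟩ := hle h
    have h1 : a - a' ∈ J := by
      rw [← Submodule.ker_mkQ J, LinearMap.mem_ker, map_sub, haa', sub_self]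
    have h2 : a = (a - a') + a' := by ring
    rw [h2]
    exact (J ⊔ I).add_mem (Ideal.mem_sup_left h1) ha'
  · intro h
    obtain ⟨j, hj, c, hc, rfl⟩ := Submodule.mem_sup.mp h
    have hj0 : Submodule.mkQ J j = 0 := by
      rw [← LinearMap.mem_ker, Submodule.ker_mkQ]
      exact hj
    rw [map_add, hj0, zero_add]
    have h3 : Submodule.mkQ J c = c • Submodule.mkQ J (1 : A) := by
      rw [← map_smul, smul_eq_mul, mul_one]
    rw [h3]
    exact Submodule.smul_mem_smul hc Submodule.mem_top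

/-! ### free modules of finite rank over a quotient ring, seen as `A`-modules -/

/-- `X` is `A`-linearly isomorphic to `(A ⧸ K)^n`. -/
def FreeRk (K : Ideal A) (X : Type u) [AddCommGroup X] [Module A X] (n : ℕ) : Prop :=
  Nonempty (X ≃ₗ[A] (Fin n → A ⧸ K))

section freeRk

variable (K : Ideal A) {X Y Z : Type u} [AddCommGroup X] [Module A X] [AddCommGroup Y] [Module A Y]
  [AddCommGroup Z] [Module A Z]

lemma freeRk_of_subsingleton [Subsingleton X] : FreeRk K X 0 :=
  ⟨{ toFun := fun _ => 0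
     invFun := fun _ => 0
     map_add' := fun _ _ => (add_zero _).symm
     map_smul' := fun _ _ => (smul_zero _).symm
     left_inv := fun _ => Subsingleton.elim _ _
     right_inv := fun _ => Subsingleton.elim _ _ }⟩

lemma FreeRk.of_equiv {n : ℕ} (e : X ≃ₗ[A] Y) (h : FreeRk K X n) : FreeRk K Y n := by
  obtain ⟨e'⟩ := h
  exact ⟨e.symm.trans e'⟩

lemma FreeRk.cast {n n' : ℕ} (hn : n = n') (h : FreeRk K X n) : FreeRk K X n' := hn ▸ h

theorem freeRk_of_ses (i : X →ₗ[A] Y) (p : Y →ₗ[A] Z) (hi : Function.Injective i)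
    (hex : Function.Exact i p) (hp : Function.Surjective p)
    (hK : ∀ a ∈ K, ∀ y : Y, a • y = 0) {a b : ℕ} (hX : FreeRk K X a) (hZ : FreeRk K Z b) :
    FreeRk K Y (a + b) := by
  obtain ⟨eX⟩ := hX
  obtain ⟨eZ⟩ := hZ
  choose y hy using fun k : Fin b => hp (eZ.symm (Pi.single k 1))
  let t : Fin b → (A ⧸ K) →ₗ[A] Y := fun k =>
    Submodule.liftQ K (LinearMap.toSpanSingleton A Y (y k)) (by
      intro r hr
      rw [LinearMap.mem_ker, LinearMap.toSpanSingleton_apply]
      exact hK r hr (y k))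
  have ht : ∀ (k : Fin b) (r : A), t k (Ideal.Quotient.mk K r) = r • y k := by
    intro k r
    exact LinearMap.toSpanSingleton_apply _ _ _ _
  let s : (Fin b → A ⧸ K) →ₗ[A] Y := LinearMap.lsum A (fun _ : Fin b => A ⧸ K) A t
  have hs : p ∘ₗ s = eZ.symm.toLinearMap := by
    apply LinearMap.pi_ext
    intro k x
    obtain ⟨r, rfl⟩ := Ideal.Quotient.mk_surjective x
    rw [LinearMap.comp_apply, LinearMap.lsum_piSingle, ht, map_smul, hy, ← smul_one_eq_mk,
      Pi.single_smul', LinearEquiv.coe_coe, map_smul]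
  have hσ : p ∘ₗ (s ∘ₗ eZ.toLinearMap) = LinearMap.id := by
    rw [← LinearMap.comp_assoc, hs]
    ext z
    simp
  let e := (hex.splitSurjectiveEquiv hi ⟨s ∘ₗ eZ.toLinearMap, hσ⟩).1
  exact ⟨e.trans ((LinearEquiv.prodCongr eX eZ).trans
    ((LinearEquiv.sumArrowLequivProdArrow (Fin a) (Fin b) A (A ⧸ K)).symm.trans
      (LinearEquiv.funCongrLeft A (A ⧸ K) finSumFinEquiv.symm)))⟩

end freeRk

/-! ### ranks -/

/-- `binom(m, -i)` for `i ≤ 0`, and `0` for `i > 0`. -/
def rk (m : ℕ) (i : ℤ) : ℕ := if 0 < i then 0 else m.choose (-i).toNat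

lemma rk_succ (m : ℕ) (i : ℤ) : rk (m + 1) i = rk m i + rk m (i + 1) := by
  unfold rk
  rcases lt_trichotomy i 0 with h | h | h
  · obtain ⟨j, rfl⟩ : ∃ j : ℕ, i = -((j : ℤ) + 1) := ⟨(-i - 1).toNat, by omega⟩
    have h1 : ¬ (0 : ℤ) < -((j : ℤ) + 1) := by omega
    have h2 : ¬ (0 : ℤ) < -((j : ℤ) + 1) + 1 := by omega
    have e1 : (-(-((j : ℤ) + 1))).toNat = j + 1 := by omega
    have e2 : (-(-((j : ℤ) + 1) + 1)).toNat = j := by omega
    simp only [if_neg h1, if_neg h2, e1, e2]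
    rw [Nat.choose_succ_succ, add_comm]
  · subst h
    simp
  · have h2 : (0 : ℤ) < i + 1 := by omega
    simp only [if_pos h, if_pos h2, add_zero]

lemma rk_zero_zero : rk 0 0 = 1 := by simp [rk]

lemma rk_zero_of_ne {i : ℤ} (hi : i ≠ 0) : rk 0 i = 0 := by
  unfold rk
  split_ifs with h
  · rfl
  · have h1 : (-i).toNat ≠ 0 := by omega
    obtain ⟨k, hk⟩ := Nat.exists_eq_succ_of_ne_zero h1
    rw [hk, Nat.choose_zero_succ]

lemma rk_neg (m j : ℕ) : rk m (-(j : ℤ)) = m.choose j := by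
  unfold rk
  have h : ¬ (0 : ℤ) < -(j : ℤ) := by omega
  rw [if_neg h]
  congr 1
  omega

/-! ### Koszul homology with elements acting by zero -/

/-- all Koszul homology modules of `l` on `M` are free over `A ⧸ K`, of ranks `ρ`. -/
def KFree (K : Ideal A) (M : ModuleCat.{u} A) (l : List A) (ρ : ℤ → ℕ) : Prop :=
  ∀ i : ℤ, FreeRk K ((koszulCx M l).homology i) (ρ i)

theorem kfree_cons (K : Ideal A) (M : ModuleCat.{u} A) (x : A) (l : List A)
    (hx : ∀ m : M, x • m = 0)
    (hK : ∀ a ∈ K, ∀ (i : ℤ) (z : (koszulCx M (x :: l)).homology i), a • z = 0)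
    (ρ : ℤ → ℕ) (h : KFree K M l ρ) :
    KFree K M (x :: l) (fun i => ρ i + ρ (i + 1)) := by
  intro i
  set φ : koszulCx M l ⟶ koszulCx M l := x • 𝟙 (koszulCx M l) with hφ
  have h0 : φ = 0 := by
    have h0' : x • 𝟙 M = 0 := by
      apply ModuleCat.hom_ext
      apply LinearMap.ext
      intro m
      simp only [ModuleCat.hom_smul, ModuleCat.hom_id, LinearMap.smul_apply, LinearMap.id_apply,
        ModuleCat.hom_zero, LinearMap.zero_apply]
      exact hx m
    rw [hφ, ← koszulMap_smul_id, h0', koszulMap_zero]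
  have hH : ∀ (j : ℤ) (w : (koszulCx M l).homology j),
      (HomologicalComplex.homologyMap φ j).hom w = 0 := by
    intro j w
    rw [h0, HomologicalComplex.homologyMap_zero]
    rfl
  have ea := cone_exact_a φ i
  have eb := cone_exact_b φ i (i + 1) rfl
  have ec := cone_exact_c φ i (i + 1) rfl
  have hinj : Function.Injective (HomologicalComplex.homologyMap (mappingCone.inr φ) i).hom := by
    rw [injective_iff_map_eq_zero]
    intro z hz
    obtain ⟨w, hw⟩ := (ea z).mp hz
    rw [← hw]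
    exact hH i w
  have hsurj : Function.Surjective (conePi φ i (i + 1) rfl) := by
    intro a
    exact (ec a).mp (hH (i + 1) a)
  exact freeRk_of_ses K _ _ hinj eb hsurj (fun a ha z => hK a ha i z) (h i) (h (i + 1))

theorem kfree_append (K : Ideal A) (M : ModuleCat.{u} A) (g : List A)
    (hK : ∀ a ∈ K, ∀ (l : List A) (i : ℤ) (z : (koszulCx M (l ++ g)).homology i), a • z = 0)
    (h0 : KFree K M g (rk 0)) :
    ∀ f' : List A, (∀ x ∈ f', ∀ m : M, x • m = 0) → KFree K M (f' ++ g) (rk f'.length)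
  | [], _ => h0
  | x :: f', hf => by
    have ih := kfree_append K M g hK h0 f' (fun y hy => hf y (List.mem_cons_of_mem _ hy))
    have h1 := kfree_cons K M x (f' ++ g) (hf x List.mem_cons_self)
      (fun a ha i z => hK a ha (x :: f') i z) _ ih
    intro i
    have h2 : FreeRk K ((koszulCx M (x :: (f' ++ g))).homology i)
        (rk f'.length i + rk f'.length (i + 1)) := h1 i
    exact h2.cast K (rk_succ f'.length i).symm

/-! ### the base case -/

theorem kfree_base (J : Ideal A) (g : List A)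
    (hM : ∀ i : ℤ, i ≠ 0 → IsZero ((koszulCx (ModuleCat.of A (A ⧸ J)) g).homology i)) :
    KFree (J ⊔ Ideal.ofList g) (ModuleCat.of A (A ⧸ J)) g (rk 0) := by
  intro i
  by_cases hi : i = 0
  · subst hi
    rw [rk_zero_zero]
    let q : A →ₗ[A] ((koszulCx (ModuleCat.of A (A ⧸ J)) g).homology 0) :=
      (toH0 (ModuleCat.of A (A ⧸ J)) g).hom ∘ₗ (Submodule.mkQ J)
    have hq : Function.Surjective q :=
      (toH0_surjective (ModuleCat.of A (A ⧸ J)) g).comp (Submodule.mkQ_surjective J)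
    have hker : LinearMap.ker q = J ⊔ Ideal.ofList g := by
      ext a
      rw [LinearMap.mem_ker]
      exact (toH0_eq_zero_iff (ModuleCat.of A (A ⧸ J)) g (Submodule.mkQ J a)).trans
        (mkQ_mem_smul_top_iff J (Ideal.ofList g) a)
    exact ⟨((q.quotKerEquivOfSurjective hq).symm.trans
      (Submodule.quotEquivOfEq _ _ hker)).trans
        (LinearEquiv.funUnique (Fin 1) A (A ⧸ (J ⊔ Ideal.ofList g))).symm⟩
  · rw [rk_zero_of_ne hi]
    haveI : Subsingleton ((koszulCx (ModuleCat.of A (A ⧸ J)) g).homology i) :=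
      ModuleCat.subsingleton_of_isZero (hM i hi)
    exact freeRk_of_subsingleton _

/-! ### acyclicity of `g` on the quotient by `(f, h)` -/

theorem acyc_quot (f g h : List A) (hfh : LCI.IsKoszulRegularSeq A (f ++ h))
    (hfgh : LCI.IsKoszulRegularSeq A (f ++ g ++ h)) (i : ℤ) (hi : i ≠ 0) :
    IsZero ((koszulCx (ModuleCat.of A (A ⧸ Ideal.ofList (f ++ h))) g).homology i) := by
  have h1 : Koszul.koszul A (f ++ g ++ h) = iterCone f (iterCone g (Koszul.koszul A h)) := by
    rw [List.append_assoc, koszul_append, koszul_append]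
  have h2 : Koszul.koszul A (g ++ (f ++ h)) = iterCone g (iterCone f (Koszul.koszul A h)) := by
    rw [koszul_append, koszul_append]
  obtain ⟨ψ, hψ⟩ := exists_quasiIso_iterCone_comm f g (Koszul.koszul A h)
  haveI := hψ
  have h3 : IsZero ((Koszul.koszul A (g ++ (f ++ h))).homology i) := by
    rw [h2, ← isZero_homology_iff_of_quasiIso ψ i, ← h1]
    exact hfgh i hi
  have h4 := (isZero_homology_append_iff (f ++ h) hfh g i).mp h3
  rw [koszul_eq_koszulCx] at h4
  have h5 := (isZero_homology_koszul_restrictScalars_iff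
    (Ideal.Quotient.mk (Ideal.ofList (f ++ h)))
    (ModuleCat.of (A ⧸ Ideal.ofList (f ++ h)) (A ⧸ Ideal.ofList (f ++ h))) g i).mpr h4
  exact h5.of_iso ((HomologicalComplex.homologyFunctor _ _ i).mapIso
    (koszulIso (quotIso (Ideal.ofList (f ++ h))) g))

/-! ### exterior powers of a free module over a quotient ring -/

section ext

open exteriorPower

variable (K : Ideal A) (m i : ℕ)

noncomputable def altA :
    (Fin m → A ⧸ K) [⋀^Fin i]→ₗ[A] (⋀[A ⧸ K]^i (Fin m → A ⧸ K)) :=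
  { MultilinearMap.restrictScalars A (ιMulti (A ⧸ K) i).toMultilinearMap with
    map_eq_zero_of_eq' := (ιMulti (A ⧸ K) i).map_eq_zero_of_eq' }

lemma altA_apply (v : Fin i → Fin m → A ⧸ K) : altA K m i v = ιMulti (A ⧸ K) i v := rfl

noncomputable def phi : ⋀[A]^i (Fin m → A ⧸ K) →ₗ[A] (⋀[A ⧸ K]^i (Fin m → A ⧸ K)) :=
  alternatingMapLinearEquiv (altA K m i)

lemma phi_ιMulti (v : Fin i → Fin m → A ⧸ K) :
    phi K m i (ιMulti A i v) = ιMulti (A ⧸ K) i v := by
  rw [phi, alternatingMapLinearEquiv_apply_ιMulti, altA_apply]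

noncomputable def reprA :
    (⋀[A ⧸ K]^i (Fin m → A ⧸ K)) ≃ₗ[A] (Set.powersetCard (Fin m) i →₀ A ⧸ K) :=
  (((Pi.basisFun (A ⧸ K) (Fin m)).exteriorPower i).repr).restrictScalars A

lemma reprA_family (s : Set.powersetCard (Fin m) i) :
    reprA K m i (ιMulti_family (A ⧸ K) i (Pi.basisFun (A ⧸ K) (Fin m)) s) =
      Finsupp.single s 1 :=
  basis_repr (A ⧸ K) i (Pi.basisFun (A ⧸ K) (Fin m)) s

/-- the standard vectors. -/
def ev : Fin m → (Fin m → A ⧸ K) := fun j => Pi.single j 1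

lemma ev_eq : ⇑(Pi.basisFun (A ⧸ K) (Fin m)) = ev K m :=
  funext (fun j => Pi.basisFun_apply _ _ j)

lemma span_ev : Submodule.span A (Set.range (ev K m)) = ⊤ := by
  rw [eq_top_iff]
  intro v _
  rw [← Finset.univ_sum_single v]
  refine Submodule.sum_mem _ (fun j _ => ?_)
  obtain ⟨r, hr⟩ := Ideal.Quotient.mk_surjective (v j)
  have h1 : (Pi.single j (v j) : Fin m → A ⧸ K) = r • ev K m j := by
    rw [ev, ← Pi.single_smul', smul_one_eq_mk, hr]
  rw [h1]
  exact Submodule.smul_mem _ _ (Submodule.subset_span ⟨j, rfl⟩)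

lemma smul_extPow_eq_zero (hi : 1 ≤ i) (a : A) (ha : a ∈ K) (z : ⋀[A]^i (Fin m → A ⧸ K)) :
    a • z = 0 := by
  have h : (LinearMap.lsmul A (⋀[A]^i (Fin m → A ⧸ K)) a) = 0 := by
    apply LinearMap.ext_on (ιMulti_span A i (Fin m → A ⧸ K))
    rintro _ ⟨v, rfl⟩
    rw [LinearMap.lsmul_apply, LinearMap.zero_apply]
    obtain ⟨i', rfl⟩ : ∃ i', i = i' + 1 := ⟨i - 1, by omega⟩
    have hv0 : a • v 0 = 0 := by
      funext j
      exact smul_quot_eq_zero K ha (v 0 j)
    have h2 := (ιMulti A (i' + 1) (M := Fin m → A ⧸ K)).map_update_smul v 0 a (v 0)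
    rw [Function.update_eq_self] at h2
    rw [← h2, hv0]
    exact (ιMulti A (i' + 1)).map_coord_zero 0 (Function.update_self _ _ _)
  have e := LinearMap.congr_fun h z
  rw [LinearMap.lsmul_apply, LinearMap.zero_apply] at e
  exact e

noncomputable def tt (hi : 1 ≤ i) (s : Set.powersetCard (Fin m) i) :
    (A ⧸ K) →ₗ[A] ⋀[A]^i (Fin m → A ⧸ K) :=
  Submodule.liftQ K (LinearMap.toSpanSingleton A _ (ιMulti_family A i (ev K m) s)) (by
    intro r hr
    rw [LinearMap.mem_ker, LinearMap.toSpanSingleton_apply]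
    exact smul_extPow_eq_zero K m i hi r hr _)

lemma tt_mk (hi : 1 ≤ i) (s : Set.powersetCard (Fin m) i) (r : A) :
    tt K m i hi s (Ideal.Quotient.mk K r) = r • ιMulti_family A i (ev K m) s := by
  unfold tt
  exact LinearMap.toSpanSingleton_apply A (⋀[A]^i (Fin m → A ⧸ K))
    (exteriorPower.ιMulti_family A i (ev K m) s) r

noncomputable def Psi (hi : 1 ≤ i) :
    (Set.powersetCard (Fin m) i →₀ A ⧸ K) →ₗ[A] ⋀[A]^i (Fin m → A ⧸ K) :=
  Finsupp.lsum A (tt K m i hi)

noncomputable def cc :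
    ⋀[A]^i (Fin m → A ⧸ K) →ₗ[A] (Set.powersetCard (Fin m) i →₀ A ⧸ K) :=
  (reprA K m i).toLinearMap ∘ₗ phi K m i

lemma cc_family (s : Set.powersetCard (Fin m) i) :
    cc K m i (ιMulti_family A i (ev K m) s) = Finsupp.single s 1 := by
  have h1 : ιMulti_family A i (ev K m) s =
      ιMulti A i (fun a => ev K m (Set.powersetCard.ofFinEmbEquiv.symm s a)) := rfl
  have h2 : ιMulti (A ⧸ K) i (fun a => ev K m (Set.powersetCard.ofFinEmbEquiv.symm s a)) =
      ιMulti_family (A ⧸ K) i (⇑(Pi.basisFun (A ⧸ K) (Fin m))) s := by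
    rw [ev_eq]
    rfl
  rw [cc, LinearMap.comp_apply, h1, phi_ιMulti, h2]
  exact reprA_family K m i s

lemma cc_Psi (hi : 1 ≤ i) : (cc K m i) ∘ₗ (Psi K m i hi) = LinearMap.id := by
  apply Finsupp.lhom_ext
  intro s x
  obtain ⟨r, rfl⟩ := Ideal.Quotient.mk_surjective x
  rw [LinearMap.comp_apply, Psi, Finsupp.lsum_single, tt_mk, map_smul, cc_family,
    LinearMap.id_apply, Finsupp.smul_single, smul_one_eq_mk]

lemma Psi_surjective (hi : 1 ≤ i) : Function.Surjective (Psi K m i hi) := by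
  rw [← LinearMap.range_eq_top, eq_top_iff, ← ιMulti_family_span_of_span A (span_ev K m),
    Submodule.span_le]
  rintro _ ⟨s, rfl⟩
  refine ⟨Finsupp.single s 1, ?_⟩
  rw [Psi, Finsupp.lsum_single]
  have h := tt_mk K m i hi s 1
  rw [one_smul] at h
  exact h

theorem extPow_freeRk (hi : 1 ≤ i) :
    FreeRk K (⋀[A]^i (Fin m → A ⧸ K)) (m.choose i) := by
  have hinj : Function.Injective (Psi K m i hi) := by
    intro x y hxy
    have hx := LinearMap.congr_fun (cc_Psi K m i hi) x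
    have hy := LinearMap.congr_fun (cc_Psi K m i hi) y
    rw [LinearMap.comp_apply, LinearMap.id_apply] at hx hy
    rw [← hx, ← hy, hxy]
  have e1 := LinearEquiv.ofBijective (Psi K m i hi) ⟨hinj, Psi_surjective K m i hi⟩
  have hcard : Fintype.card (Set.powersetCard (Fin m) i) = m.choose i := by
    rw [← Nat.card_eq_fintype_card, Set.powersetCard.card, Nat.card_eq_fintype_card,
      Fintype.card_fin]
  exact ⟨e1.symm.trans ((Finsupp.linearEquivFunOnFinite A (A ⧸ K) _).trans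
    (LinearEquiv.funCongrLeft A (A ⧸ K) (Fintype.equivFinOfCardEq hcard).symm))⟩

end ext

/-- functoriality of exterior powers for linear equivalences. -/
noncomputable def extPowCongr {X Y : Type u} [AddCommGroup X] [Module A X] [AddCommGroup Y]
    [Module A Y] (e : X ≃ₗ[A] Y) (i : ℕ) : ⋀[A]^i X ≃ₗ[A] ⋀[A]^i Y :=
  LinearEquiv.ofLinear (exteriorPower.map i e.toLinearMap) (exteriorPower.map i e.symm.toLinearMap)
    (by
      rw [← exteriorPower.map_comp]
      have h : e.toLinearMap ∘ₗ e.symm.toLinearMap = LinearMap.id :=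
        LinearMap.ext e.apply_symm_apply
      rw [h, exteriorPower.map_id])
    (by
      rw [← exteriorPower.map_comp]
      have h : e.symm.toLinearMap ∘ₗ e.toLinearMap = LinearMap.id :=
        LinearMap.ext e.symm_apply_apply
      rw [h, exteriorPower.map_id])

/-! ### the main theorem -/

theorem main (f g h : List A) (hfg : LCI.IsKoszulRegularSeq A (f ++ g))
    (hfh : LCI.IsKoszulRegularSeq A (f ++ h)) (hfgh : LCI.IsKoszulRegularSeq A (f ++ g ++ h))
    (i : ℕ) (hi : 1 ≤ i) :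
    Nonempty (DRing.Tor A i (A ⧸ Ideal.ofList (f ++ g)) (A ⧸ Ideal.ofList (f ++ h)) ≃ₗ[A]
      ⋀[A]^i (DRing.Tor A 1 (A ⧸ Ideal.ofList (f ++ g)) (A ⧸ Ideal.ofList (f ++ h)))) := by
  have hM := acyc_quot f g h hfh hfgh
  have hbase := kfree_base (Ideal.ofList (f ++ h)) g hM
  have hJkill : ∀ a ∈ Ideal.ofList (f ++ h),
      ∀ m : (ModuleCat.of A (A ⧸ Ideal.ofList (f ++ h))), a • m = 0 :=
    fun a ha m => smul_quot_eq_zero (Ideal.ofList (f ++ h)) ha m
  have hkill : ∀ a ∈ Ideal.ofList (f ++ h) ⊔ Ideal.ofList g, ∀ (l : List A) (j : ℤ)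
      (z : (koszulCx (ModuleCat.of A (A ⧸ Ideal.ofList (f ++ h))) (l ++ g)).homology j),
      a • z = 0 := by
    intro a ha l j z
    obtain ⟨b, hb, c, hc, rfl⟩ := Submodule.mem_sup.mp ha
    rw [add_smul, smul_homology_eq_zero_of_ann _ _ b (hJkill b hb) j z,
      smul_homology_eq_zero_of_mem _ _ c (ofList_le_append_right l g hc) j z, add_zero]
  have hf : ∀ x ∈ f, ∀ m : (ModuleCat.of A (A ⧸ Ideal.ofList (f ++ h))), x • m = 0 :=
    fun x hx m => hJkill x (Ideal.subset_span (List.mem_append_left h hx)) m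
  have hfree := kfree_append _ _ g hkill hbase f hf
  have hAF := Groth.Agent.Lib.Helper4.KTor2.acycFlat_of_koszulRegular (f ++ g) hfg
  have hTor : ∀ k : ℕ, FreeRk (Ideal.ofList (f ++ h) ⊔ Ideal.ofList g)
      (DRing.Tor A k (A ⧸ Ideal.ofList (f ++ g)) (A ⧸ Ideal.ofList (f ++ h)))
      (f.length.choose k) := by
    intro k
    obtain ⟨eT⟩ := Groth.Agent.Lib.Helper4.KTor2.main (f ++ g) hAF k (A ⧸ Ideal.ofList (f ++ h))
    exact ((hfree (-(k : ℤ))).of_equiv _ eT.symm).cast _ (rk_neg _ _)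
  obtain ⟨e1⟩ := (hTor 1).cast _ (Nat.choose_one_right _)
  obtain ⟨ei⟩ := hTor i
  obtain ⟨ee⟩ := extPow_freeRk (Ideal.ofList (f ++ h) ⊔ Ideal.ofList g) f.length i hi
  exact ⟨ei.trans (ee.symm.trans (extPowCongr e1 i).symm)⟩

end Groth.Agent.Lib.Helper4.KTor3
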