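import Groth.Agent.Lib.Helper4.KosLim
import Groth.Agent.Lib.Helper14.KoszulDepth
import Groth.Prelude.Def_DRing3

/-!
# Bottom Koszul cohomology

`eps M xs d hd : H^d(K(xs; M)) →ₗ M` for `d = -length xs`: injective, with image the elements
killed by all `xs`; natural in `M` and compatible with the transition maps of the powers.
Consequently `T0 : colim_n H^0(fs^n; M) ↪ M` with image the `(fs)`-power torsion (`T0Equiv`).
-/

set_option autoImplicit false
set_option linter.style.haveILetI false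
set_option linter.unusedSectionVars false
set_option linter.unusedVariables false
set_option maxHeartbeats 800000

universe u

open CategoryTheory CategoryTheory.Limits CochainComplex HomComplex

namespace Groth.Agent.Lib.Helper4.KosBottom

open CohIII Groth.Agent.Lib.Helper14.KoszulFun Groth.Agent.Lib.Helper4.KosCone
  Groth.Agent.Lib.Helper4.KosLim Groth.Agent.Lib.Helper4.LCBridge

variable {A : Type u} [CommRing A]

lemma hd_cons {d : ℤ} {x : A} {xs : List A} (hd : d + ((x :: xs).length : ℤ) = 0) :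
    d + 1 + (xs.length : ℤ) = 0 := by
  simp only [List.length_cons, Nat.cast_add, Nat.cast_one] at hd
  omega

lemma hd_nil {d : ℤ} (hd : d + (([] : List A).length : ℤ) = 0) : d = 0 := by
  simpa using hd

lemma hd_pw {d : ℤ} {fs : List A} (n : ℕ) (hd : d + (fs.length : ℤ) = 0) :
    d + ((pw fs n).length : ℤ) = 0 := by
  simpa [pw] using hd

/-- the case of the empty list. -/
noncomputable def epsNil (M : ModuleCat.{u} A) (d : ℤ) (hd : d = 0) :
    ((HomologicalComplex.single (ModuleCat.{u} A) (ComplexShape.up ℤ) 0).obj M).homology d →ₗ[A]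
      M := by
  subst hd
  exact (HomologicalComplex.singleObjHomologySelfIso (ComplexShape.up ℤ) (0 : ℤ) M).hom.hom

lemma epsNil_zero (M : ModuleCat.{u} A) (h : (0 : ℤ) = 0) :
    epsNil M 0 h =
      (HomologicalComplex.singleObjHomologySelfIso (ComplexShape.up ℤ) (0 : ℤ) M).hom.hom := rfl

/-- bottom Koszul cohomology as a submodule of `M`. -/
noncomputable def eps (M : ModuleCat.{u} A) :
    ∀ (xs : List A) (d : ℤ), d + (xs.length : ℤ) = 0 → ((koszulCx M xs).homology d →ₗ[A] M)
  | [], d, hd => epsNil M d (hd_nil hd)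
  | x :: xs, d, hd =>
    (eps M xs (d + 1) (hd_cons hd)) ∘ₗ conePi (x • 𝟙 (koszulCx M xs)) d (d + 1) rfl

lemma eps_nil (M : ModuleCat.{u} A) (hd : (0 : ℤ) + (([] : List A).length : ℤ) = 0)
    (w : (koszulCx M []).homology 0) :
    eps M [] 0 hd w =
      (HomologicalComplex.singleObjHomologySelfIso (ComplexShape.up ℤ) (0 : ℤ) M).hom.hom w :=
  rfl

lemma eps_cons (M : ModuleCat.{u} A) (x : A) (xs : List A) (d : ℤ)
    (hd : d + ((x :: xs).length : ℤ) = 0)
    (w : (mappingCone (x • 𝟙 (koszulCx M xs))).homology d) :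
    eps M (x :: xs) d hd w =
      eps M xs (d + 1) (hd_cons hd) (conePi (x • 𝟙 (koszulCx M xs)) d (d + 1) rfl w) := rfl

lemma eps_natural {M N : ModuleCat.{u} A} (φ : M ⟶ N) :
    ∀ (xs : List A) (d : ℤ) (hd : d + (xs.length : ℤ) = 0) (w : (koszulCx M xs).homology d),
      eps N xs d hd ((HomologicalComplex.homologyMap (koszulMap φ xs) d).hom w) =
        φ.hom (eps M xs d hd w)
  | [], d, hd, w => by
    obtain rfl : d = 0 := hd_nil hd
    have e := congrArg (fun g => g.hom w)
      (HomologicalComplex.singleObjHomologySelfIso_hom_naturality (ComplexShape.up ℤ) (0 : ℤ) φ)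
    simp only [ModuleCat.hom_comp, LinearMap.comp_apply] at e
    exact e
  | x :: xs, d, hd, w => by
    have e := conePi_map (x • 𝟙 (koszulCx M xs)) (x • 𝟙 (koszulCx N xs)) (koszulMap φ xs)
      (koszulMap φ xs) (by simp) d (d + 1) rfl w
    have ih := eps_natural φ xs (d + 1) (hd_cons hd)
      (conePi (x • 𝟙 (koszulCx M xs)) d (d + 1) rfl w)
    exact (congrArg (eps N xs (d + 1) (hd_cons hd)) e).trans ih

lemma eps_trans (M : ModuleCat.{u} A) (n m : ℕ) (h : n ≤ m) :
    ∀ (fs : List A) (d : ℤ) (hd : d + (fs.length : ℤ) = 0)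
      (w : (koszulCx M (pw fs n)).homology d),
      eps M (pw fs m) d (hd_pw m hd)
          ((HomologicalComplex.homologyMap (koszulTrans M n m h fs) d).hom w) =
        eps M (pw fs n) d (hd_pw n hd) w
  | [], d, hd, w => by
    change eps M [] d _ ((HomologicalComplex.homologyMap (𝟙 (koszulCx M [])) d).hom w) =
      eps M [] d _ w
    rw [HomologicalComplex.homologyMap_id]
    rfl
  | f :: fs, d, hd, w => by
    have e := conePi_map (f ^ n • 𝟙 (koszulCx M (pw fs n))) (f ^ m • 𝟙 (koszulCx M (pw fs m)))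
      (koszulTrans M n m h fs) (f ^ (m - n) • koszulTrans M n m h fs) (trans_comm M n m h f fs)
      d (d + 1) rfl w
    have ih := eps_trans M n m h fs (d + 1) (hd_cons hd)
      (conePi (f ^ n • 𝟙 (koszulCx M (pw fs n))) d (d + 1) rfl w)
    exact (congrArg (eps M (pw fs m) (d + 1) (hd_pw m (hd_cons hd))) e).trans ih

lemma eps_injective (M : ModuleCat.{u} A) :
    ∀ (xs : List A) (d : ℤ) (hd : d + (xs.length : ℤ) = 0), Function.Injective (eps M xs d hd)
  | [], d, hd => by
    obtain rfl : d = 0 := hd_nil hd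
    exact (ConcreteCategory.bijective_of_isIso
      (HomologicalComplex.singleObjHomologySelfIso (ComplexShape.up ℤ) (0 : ℤ) M).hom).1
  | x :: xs, d, hd => by
    have hd1 := hd_cons hd
    rw [injective_iff_map_eq_zero]
    intro w hw
    obtain ⟨z, rfl⟩ := ModCx.cls_surjective (mappingCone (x • 𝟙 (koszulCx M xs))) d w
    rw [eps_cons, conePi_cls] at hw
    have h0 := (injective_iff_map_eq_zero _).mp (eps_injective M xs (d + 1) hd1) _ hw
    obtain ⟨b, hb⟩ := exists_inr_of_cls_fst_zero (x • 𝟙 (koszulCx M xs)) d (d + 1) rfl z h0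
    have hb0 : b = 0 := by
      have hz : IsZero ((koszulCx M xs).X d) := isZero_koszulCx_X_neg M xs d (by omega)
      haveI := ModuleCat.subsingleton_of_isZero hz
      exact Subsingleton.elim _ _
    have h1 : ModCx.cls (mappingCone (x • 𝟙 (koszulCx M xs))) d z = 0 := by
      rw [hb, hb0, map_zero, map_zero]
    exact h1

lemma eps_smul_eq_zero (M : ModuleCat.{u} A) :
    ∀ (xs : List A) (d : ℤ) (hd : d + (xs.length : ℤ) = 0) (w : (koszulCx M xs).homology d)
      (y : A), y ∈ xs → y • eps M xs d hd w = 0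
  | [], d, hd, w, y, hy => by simp at hy
  | x :: xs, d, hd, w, y, hy => by
    have hd1 := hd_cons hd
    obtain ⟨z, rfl⟩ := ModCx.cls_surjective (mappingCone (x • 𝟙 (koszulCx M xs))) d w
    rw [eps_cons, conePi_cls]
    rcases List.mem_cons.mp hy with hyx | hy'
    · subst hyx
      rw [← map_smul, ← map_smul]
      have h0 : ModCx.cls (koszulCx M xs) (d + 1)
          (y • ⟨fstL (y • 𝟙 (koszulCx M xs)) d (d + 1) rfl z.1,
            fst_mem_Z (y • 𝟙 (koszulCx M xs)) d (d + 1) rfl z⟩) = 0 := by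
        rw [cls0 _ d (d + 1) rfl]
        refine ⟨-(sndL (y • 𝟙 (koszulCx M xs)) d z.1), ?_⟩
        have hzc : ((mappingCone (y • 𝟙 (koszulCx M xs))).d d (d + 1)).hom z.1 = 0 :=
          (memZ _ d (d + 1) rfl z.1).mp z.2
        have e := snd_d (y • 𝟙 (koszulCx M xs)) d (d + 1) rfl z.1
        rw [hzc, map_zero, smul_id_f_apply] at e
        change _ = y • fstL (y • 𝟙 (koszulCx M xs)) d (d + 1) rfl z.1
        rw [map_neg, eq_neg_of_add_eq_zero_right e.symm, neg_neg]
      rw [h0, map_zero]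
    · exact eps_smul_eq_zero M xs (d + 1) hd1 _ y hy'

lemma eps_surj (M : ModuleCat.{u} A) :
    ∀ (xs : List A) (d : ℤ) (hd : d + (xs.length : ℤ) = 0) (m : M),
      (∀ y ∈ xs, y • m = 0) → ∃ w, eps M xs d hd w = m
  | [], d, hd, m, _ => by
    obtain rfl : d = 0 := hd_nil hd
    obtain ⟨w, hw⟩ := (ConcreteCategory.bijective_of_isIso
      (HomologicalComplex.singleObjHomologySelfIso (ComplexShape.up ℤ) (0 : ℤ) M).hom).2 m
    exact ⟨w, hw⟩
  | x :: xs, d, hd, m, hm => by
    have hd1 := hd_cons hd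
    obtain ⟨w', hw'⟩ := eps_surj M xs (d + 1) hd1 m
      (fun y hy => hm y (List.mem_cons_of_mem _ hy))
    obtain ⟨a, rfl⟩ := ModCx.cls_surjective (koszulCx M xs) (d + 1) w'
    have hxa : (HomologicalComplex.homologyMap (x • 𝟙 (koszulCx M xs)) (d + 1)).hom
        (ModCx.cls (koszulCx M xs) (d + 1) a) = 0 := by
      apply eps_injective M xs (d + 1) hd1
      rw [map_zero, homologyMap_smul, HomologicalComplex.homologyMap_id]
      change eps M xs (d + 1) hd1 (x • ModCx.cls (koszulCx M xs) (d + 1) a) = 0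
      rw [map_smul, hw']
      exact hm x List.mem_cons_self
    obtain ⟨z, hz⟩ := exists_cocycle_fst_eq (x • 𝟙 (koszulCx M xs)) d (d + 1) rfl a hxa
    refine ⟨ModCx.cls (mappingCone (x • 𝟙 (koszulCx M xs))) d z, ?_⟩
    rw [eps_cons, conePi_cls, ← hw']
    congr 2
    exact Subtype.ext hz

/-! ### degree zero of the limit -/

section T0

variable (fs : List A) (M : ModuleCat.{u} A)

lemma dg0 : ((0 : ℕ) : ℤ) - (fs.length : ℤ) + (fs.length : ℤ) = 0 := by simp

/-- the level-`n` embedding `H^0(fs^n; M) → M`. -/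
noncomputable def epsN (n : ℕ) : koszulHPow fs M 0 n →ₗ[A] M :=
  eps M (pw fs n) (((0 : ℕ) : ℤ) - fs.length) (hd_pw n (dg0 fs))

lemma epsN_tr (n m : ℕ) (h : n ≤ m) (y : koszulHPow fs M 0 n) :
    epsN fs M m (trHF fs M 0 n m h y) = epsN fs M n y :=
  eps_trans M n m h fs _ (dg0 fs) y

/-- `colim_n H^0(fs^n; M) → M`. -/
noncomputable def T0 : TT fs M 0 →ₗ[A] M :=
  Module.DirectLimit.lift A ℕ (fun n : ℕ => (koszulHPow fs M 0 n : Type u)) (trHF fs M 0)
    (epsN fs M) (epsN_tr fs M)

lemma T0_of (n : ℕ) (y : koszulHPow fs M 0 n) : T0 fs M (TT.of fs M 0 n y) = epsN fs M n y :=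
  Module.DirectLimit.lift_of (f := trHF fs M 0) (epsN fs M) (epsN_tr fs M) y

lemma T0_injective : Function.Injective (T0 fs M) :=
  Module.DirectLimit.lift_injective (f := trHF fs M 0) (epsN fs M) (epsN_tr fs M)
    (fun n => eps_injective M (pw fs n) _ _)

lemma T0_natural {N : ModuleCat.{u} A} (φ : M ⟶ N) (x : TT fs M 0) :
    T0 fs N (TT.map fs 0 φ x) = φ.hom (T0 fs M x) := by
  obtain ⟨n, y, rfl⟩ := TT.exists_of fs M 0 x
  rw [TT.map_of, T0_of, T0_of]
  exact eps_natural φ (pw fs n) _ _ y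

lemma T0_mem (x : TT fs M 0) :
    T0 fs M x ∈ DRing.torsionSub (Ideal.span {a | a ∈ fs}) M := by
  obtain ⟨n, y, rfl⟩ := TT.exists_of fs M 0 x
  rw [T0_of]
  set m := epsN fs M n y with hm
  have hk : ∀ f ∈ fs, f ^ n • m = 0 := fun f hf =>
    eps_smul_eq_zero M (pw fs n) _ _ y (f ^ n) (List.mem_map.mpr ⟨f, hf, rfl⟩)
  set J : Ideal A := LinearMap.ker (LinearMap.toSpanSingleton A M m) with hJ
  have hle : Ideal.span {a | a ∈ fs} ≤ J.radical := by
    rw [Ideal.span_le]
    intro f hf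
    refine ⟨n, ?_⟩
    change f ^ n ∈ LinearMap.ker (LinearMap.toSpanSingleton A M m)
    rw [LinearMap.mem_ker, LinearMap.toSpanSingleton_apply]
    exact hk f hf
  obtain ⟨k, hk'⟩ := Ideal.exists_pow_le_of_le_radical_of_fg hle
    (Submodule.fg_span (List.finite_toSet fs))
  refine ⟨k, fun a ha => ?_⟩
  have := hk' ha
  rw [hJ, LinearMap.mem_ker, LinearMap.toSpanSingleton_apply] at this
  exact this

lemma T0_surj (m : M) (hm : m ∈ DRing.torsionSub (Ideal.span {a | a ∈ fs}) M) :
    ∃ x, T0 fs M x = m := by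
  obtain ⟨k, hk⟩ := hm
  have hk' : ∀ g ∈ pw fs k, g • m = 0 := by
    intro g hg
    obtain ⟨f, hf, rfl⟩ := List.mem_map.mp hg
    exact hk _ (Ideal.pow_mem_pow (Ideal.subset_span (s := {a | a ∈ fs}) hf) k)
  obtain ⟨w, hw⟩ := eps_surj M (pw fs k) _ (hd_pw k (dg0 fs)) m hk'
  exact ⟨TT.of fs M 0 k w, by rw [T0_of]; exact hw⟩

/-- `colim_n H^0(fs^n; M)` is the `(fs)`-power torsion of `M`. -/
noncomputable def T0Equiv : TT fs M 0 ≃ₗ[A] DRing.torsionSub (Ideal.span {a | a ∈ fs}) M :=
  LinearEquiv.ofBijective (LinearMap.codRestrict _ (T0 fs M) (T0_mem fs M))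
    ⟨fun a b h => T0_injective fs M (congrArg Subtype.val h), fun m => by
      obtain ⟨x, hx⟩ := T0_surj fs M m.1 m.2
      exact ⟨x, Subtype.ext hx⟩⟩

lemma T0Equiv_apply (x : TT fs M 0) : (T0Equiv fs M x : M) = T0 fs M x := rfl

end T0

end Groth.Agent.Lib.Helper4.KosBottom
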