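import Groth.Agent.Lib.Helper4.TorChain

/-!
# The dévissage of `TorChain` for a cochain complex over an `A`-algebra `Λ`, restricted to `A`

`kills_H0`: let `K` be a cochain complex of `Λ`-modules, flat over `A` termwise, zero below degree
`-t`, and such that `algebraMap a` kills the cohomology of `K` in degrees `[-t, -1]` for `a ∈ 𝔠`.  Then
`𝔠 ^ (t+1)` kills `Tor^A_i(M, Q)` for `i ≥ t + 1`, where `Q = coker (K^{-1} → K^0)`.
-/

set_option autoImplicit false
set_option linter.style.haveILetI false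
set_option linter.unusedSectionVars false
set_option linter.unusedVariables false
set_option maxHeartbeats 800000

universe u

open CategoryTheory CategoryTheory.Limits

namespace Groth.Agent.Lib.Helper4.KosGood

open Groth.Agent.Lib.Helper4.TorChain

variable {A Λ : Type u} [CommRing A] [CommRing Λ] [Algebra A Λ]

/-- restriction of scalars from `Λ` to `A`. -/
noncomputable abbrev RS : ModuleCat.{u} Λ ⥤ ModuleCat.{u} A :=
  ModuleCat.restrictScalars (algebraMap A Λ)

variable (K : CochainComplex (ModuleCat.{u} Λ) ℤ)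

/-- cocycles `ker (K^q → K^r)` as an `A`-submodule. -/
noncomputable abbrev ZS (q r : ℤ) : Submodule A ((RS (A := A)).obj (K.X q)) :=
  LinearMap.ker ((RS (A := A)).map (K.d q r)).hom

/-- coboundaries as an `A`-submodule. -/
noncomputable abbrev BS (p q : ℤ) : Submodule A ((RS (A := A)).obj (K.X q)) :=
  LinearMap.range ((RS (A := A)).map (K.d p q)).hom

/-- cocycles `ker (K^q → K^r)` as an `A`-module. -/
noncomputable abbrev Zq (q r : ℤ) : ModuleCat.{u} A :=
  ModuleCat.of A (ZS (A := A) K q r)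

lemma d_d_apply (p q r : ℤ) (x : K.X p) : (K.d q r).hom ((K.d p q).hom x) = 0 := by
  have h := congrArg (fun f => f.hom x) (K.d_comp_d p q r)
  exact h

theorem goodZ (𝔠 : Ideal A) (t : ℕ)
    (hflat : ∀ p : ℤ, Module.Flat A ((RS (A := A)).obj (K.X p)))
    (hzero : ∀ p : ℤ, p < -(t : ℤ) → IsZero (K.X p))
    (hkill : ∀ p q r : ℤ, p + 1 = q → q + 1 = r → -(t : ℤ) ≤ q → q ≤ -1 → ∀ a ∈ 𝔠, ∀ w : K.X q,
      (K.d q r).hom w = 0 → ∃ v : K.X p, (K.d p q).hom v = algebraMap A Λ a • w) :
    ∀ (m : ℕ) (q r : ℤ), q + 1 = r → q = -(t : ℤ) + m → q ≤ -1 →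
      Good 𝔠 m (Zq (A := A) K q r) := by
  intro m
  induction m with
  | zero =>
    intro q r hqr hq hq1
    rw [good_zero_iff]
    intro a ha w
    obtain ⟨v, hv⟩ := hkill (q - 1) q r (by omega) hqr (by omega) hq1 a ha w.1 w.2
    haveI : Subsingleton (K.X (q - 1)) :=
      ModuleCat.subsingleton_of_isZero (hzero (q - 1) (by omega))
    apply Subtype.ext
    have h0 : (K.d (q - 1) q).hom v = 0 := by rw [Subsingleton.elim v 0, map_zero]
    exact hv.symm.trans h0
  | succ m ih =>
    intro q r hqr hq hq1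
    have hp : (q - 1) + 1 = q := by omega
    rw [good_succ_iff]
    refine ⟨ModuleCat.of A ((RS (A := A)).obj (K.X (q - 1))), Zq (A := A) K (q - 1) q,
      ModuleCat.ofHom (ZS (A := A) K (q - 1) q).subtype,
      ModuleCat.ofHom (LinearMap.codRestrict (ZS (A := A) K q r)
        ((RS (A := A)).map (K.d (q - 1) q)).hom (fun x => d_d_apply K (q - 1) q r x)),
      hflat (q - 1), Submodule.subtype_injective _, ?_, ?_,
      ih (q - 1) q hp (by push_cast at hq ⊢; omega) (by omega)⟩
    · intro x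
      constructor
      · intro hx
        have hx' : (K.d (q - 1) q).hom x = 0 := congrArg Subtype.val hx
        exact ⟨⟨x, hx'⟩, rfl⟩
      · rintro ⟨z, rfl⟩
        apply Subtype.ext
        exact z.2
    · intro a ha w
      obtain ⟨v, hv⟩ := hkill (q - 1) q r hp hqr (by omega) hq1 a ha w.1 w.2
      exact ⟨v, Subtype.ext hv⟩

theorem kills_H0 (𝔠 : Ideal A) (t : ℕ)
    (hflat : ∀ p : ℤ, Module.Flat A ((RS (A := A)).obj (K.X p)))
    (hzero : ∀ p : ℤ, p < -(t : ℤ) → IsZero (K.X p))
    (hkill : ∀ p q r : ℤ, p + 1 = q → q + 1 = r → -(t : ℤ) ≤ q → q ≤ -1 → ∀ a ∈ 𝔠, ∀ w : K.X q,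
      (K.d q r).hom w = 0 → ∃ v : K.X p, (K.d p q).hom v = algebraMap A Λ a • w)
    (Q : ModuleCat.{u} A) (π₀ : (RS (A := A)).obj (K.X 0) ⟶ Q)
    (hπ₀ : Function.Surjective π₀.hom)
    (hker : ∀ x : K.X 0, π₀.hom x = 0 ↔ ∃ v : K.X (-1), (K.d (-1) 0).hom v = x)
    (M : ModuleCat.{u} A) (i : ℕ) (hi : t + 1 ≤ i) (a : A) (ha : a ∈ 𝔠 ^ (t + 1))
    (y : T i M Q) : a • y = 0 := by
  let W : ModuleCat.{u} A := ModuleCat.of A (BS (A := A) K (-1) 0)
  let ι : W ⟶ (RS (A := A)).obj (K.X 0) :=
    (ModuleCat.ofHom (BS (A := A) K (-1) 0).subtype :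
      ModuleCat.of A (BS (A := A) K (-1) 0) ⟶ ModuleCat.of A ((RS (A := A)).obj (K.X 0)))
  have hι : Function.Injective ι.hom := by
    show Function.Injective (BS (A := A) K (-1) 0).subtype
    exact Submodule.subtype_injective _
  have hex : Function.Exact ι.hom π₀.hom := by
    intro x
    constructor
    · intro hx
      obtain ⟨v, hv⟩ := (hker x).mp hx
      exact ⟨⟨x, ⟨v, hv⟩⟩, rfl⟩
    · rintro ⟨z, rfl⟩
      obtain ⟨v, hv⟩ := z.2
      show π₀.hom z.1 = 0
      exact (hker z.1).mpr ⟨v, hv⟩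
  have hW : Good 𝔠 t W := by
    cases t with
    | zero =>
      rw [good_zero_iff]
      intro a ha w
      haveI : Subsingleton (K.X (-1)) :=
        ModuleCat.subsingleton_of_isZero (hzero (-1) (by norm_num))
      haveI : Subsingleton ((RS (A := A)).obj (K.X (-1))) :=
        (ModuleCat.subsingleton_of_isZero (hzero (-1) (by norm_num)) : Subsingleton (K.X (-1)))
      obtain ⟨v, hv⟩ := w.2
      have h0 : ((RS (A := A)).map (K.d (-1) 0)).hom v = 0 := by
        rw [Subsingleton.elim v 0, map_zero]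
      have hw : w = 0 := by
        apply Subtype.ext
        exact hv.symm.trans h0
      rw [hw, smul_zero]
    | succ m =>
      rw [good_succ_iff]
      refine ⟨ModuleCat.of A ((RS (A := A)).obj (K.X (-1))), Zq (A := A) K (-1) 0,
        ModuleCat.ofHom (ZS (A := A) K (-1) 0).subtype,
        ModuleCat.ofHom (LinearMap.rangeRestrict ((RS (A := A)).map (K.d (-1) 0)).hom),
        hflat (-1), Submodule.subtype_injective _, ?_, ?_,
        goodZ K 𝔠 (m + 1) hflat hzero hkill m (-1) 0 (by norm_num) (by push_cast; omega)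
          (le_refl _)⟩
      · intro x
        constructor
        · intro hx
          have hx' : (K.d (-1) 0).hom x = 0 := congrArg Subtype.val hx
          exact ⟨⟨x, hx'⟩, rfl⟩
        · rintro ⟨z, rfl⟩
          apply Subtype.ext
          exact z.2
      · intro a ha w
        obtain ⟨v, hv⟩ := (a • w).2
        exact ⟨v, Subtype.ext hv⟩
  exact kills_of_presentation 𝔠 t ((RS (A := A)).obj (K.X 0)) W Q ι π₀ (hflat 0) hι hex hπ₀ hW
    M i hi a ha y

end Groth.Agent.Lib.Helper4.KosGood
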