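import Groth.Agent.Lib.Helper4.KosBottom

/-!
# Vanishing of the limit Koszul cohomology of injective modules over a Noetherian ring

`subsingleton_TT_of_injective`: for `E` injective over Noetherian `A`, `colim_n H^p(fs^n; E) = 0`
for all `p > 0`.
-/

set_option autoImplicit false
set_option linter.style.haveILetI false
set_option linter.unusedSectionVars false
set_option linter.unusedVariables false
set_option maxHeartbeats 800000

universe u

open CategoryTheory CategoryTheory.Limits CochainComplex HomComplex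

namespace Groth.Agent.Lib.Helper4.KosInj

open CohIII Groth.Agent.Lib.Helper14.KoszulFun Groth.Agent.Lib.Helper4.KosCone
  Groth.Agent.Lib.Helper4.KosLim Groth.Agent.Lib.Helper4.KosBottom Groth.Agent.Lib.Helper4.LCBridge

variable {A : Type u} [CommRing A]

/-- Division lemma: if `J x = 0` in an injective module over a Noetherian ring, then for some `N`
there is `y₀` killed by `J` with `f^(N+m) y₀ = f^N x`. -/
theorem exists_div [IsNoetherianRing A] (E : Type u) [AddCommGroup E] [Module A E]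
    [Module.Injective A E] (f : A) (J : Ideal A) (m : ℕ) (x : E) (hx : ∀ j ∈ J, j • x = 0) :
    ∃ (N : ℕ) (y₀ : E), (∀ j ∈ J, j • y₀ = 0) ∧ f ^ (N + m) • y₀ = f ^ N • x := by
  let c : ℕ →o Ideal A :=
    ⟨fun N => Submodule.comap (LinearMap.mulLeft A (f ^ N)) J, by
      intro N N' h a ha
      have ha' : f ^ N * a ∈ J := ha
      change f ^ N' * a ∈ J
      have e : f ^ N' * a = f ^ (N' - N) * (f ^ N * a) := by
        rw [← mul_assoc, ← pow_add, Nat.sub_add_cancel h]
      rw [e]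
      exact J.mul_mem_left _ ha'⟩
  have hc : ∀ N a, a ∈ c N ↔ f ^ N * a ∈ J := fun N a => Iff.rfl
  obtain ⟨N, hN⟩ := (monotone_stabilizes_iff_noetherian (R := A) (M := A)).mpr inferInstance c
  have hK : c N = c (N + m) := hN (N + m) (Nat.le_add_right _ _)
  refine ⟨N, ?_⟩
  -- the map `a ↦ a • f^N • x` kills `c N`
  have hK0 : c N ≤ LinearMap.ker (LinearMap.toSpanSingleton A E (f ^ N • x)) := by
    intro a ha
    rw [LinearMap.mem_ker, LinearMap.toSpanSingleton_apply, smul_smul, mul_comm]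
    exact hx _ ((hc N a).mp ha)
  let gbar : (A ⧸ c N) →ₗ[A] E := (c N).liftQ (LinearMap.toSpanSingleton A E (f ^ N • x)) hK0
  have hle : c N ≤ Submodule.comap (LinearMap.mulLeft A (f ^ (N + m))) J := le_of_eq hK
  let ι : (A ⧸ c N) →ₗ[A] (A ⧸ J) := (c N).mapQ J (LinearMap.mulLeft A (f ^ (N + m))) hle
  have hι : Function.Injective ι := by
    rw [injective_iff_map_eq_zero]
    intro abar h0
    obtain ⟨a, rfl⟩ := Submodule.Quotient.mk_surjective _ abar
    have h1 : ι (Submodule.Quotient.mk a) = Submodule.Quotient.mk (f ^ (N + m) * a) := rfl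
    rw [h1, Submodule.Quotient.mk_eq_zero] at h0
    rw [Submodule.Quotient.mk_eq_zero, hK]
    exact (hc (N + m) a).mpr h0
  obtain ⟨h, hh⟩ := Module.Injective.out ι hι gbar
  refine ⟨h (Submodule.Quotient.mk 1), ?_, ?_⟩
  · intro j hj
    rw [← map_smul, ← Submodule.Quotient.mk_smul, smul_eq_mul, mul_one,
      (Submodule.Quotient.mk_eq_zero J).mpr hj, map_zero]
  · have h2 : f ^ (N + m) • (Submodule.Quotient.mk (1 : A) : A ⧸ J) =
        ι (Submodule.Quotient.mk 1) := by
      rw [← Submodule.Quotient.mk_smul, smul_eq_mul]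
      rfl
    rw [← map_smul, h2, hh]
    change (LinearMap.toSpanSingleton A E (f ^ N • x)) 1 = _
    rw [LinearMap.toSpanSingleton_apply, one_smul]

/-- every class in positive Koszul degree dies in the limit. -/
theorem dies [IsNoetherianRing A] (E : ModuleCat.{u} A) [Module.Injective A E] :
    ∀ (fs : List A) (d : ℤ), -(fs.length : ℤ) < d →
      ∀ (n : ℕ) (y : (koszulCx E (pw fs n)).homology d),
        ∃ m, ∃ h : n ≤ m, (HomologicalComplex.homologyMap (koszulTrans E n m h fs) d).hom y = 0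
  | [], d, hd, n, y => by
    refine ⟨n, le_rfl, ?_⟩
    have hz : IsZero ((koszulCx E (pw [] n)).homology d) :=
      isZero_homology_of_isZero_X _ d (isZero_koszulCx_X_pos E [] d (by simpa using hd))
    haveI := ModuleCat.subsingleton_of_isZero hz
    exact Subsingleton.elim _ _
  | f :: gs, d, hd, n, y => by
    have hdg : -(gs.length : ℤ) < d + 1 := by
      simp only [List.length_cons, Nat.cast_add, Nat.cast_one] at hd
      omega
    obtain ⟨z, rfl⟩ := ModCx.cls_surjective (mappingCone (f ^ n • 𝟙 (koszulCx E (pw gs n)))) d y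
    -- step 1: kill the first component
    obtain ⟨m₁, h₁, hk₁⟩ := dies E gs (d + 1) hdg n
      (ModCx.cls (koszulCx E (pw gs n)) (d + 1)
        ⟨fstL (f ^ n • 𝟙 (koszulCx E (pw gs n))) d (d + 1) rfl z.1,
          fst_mem_Z (f ^ n • 𝟙 (koszulCx E (pw gs n))) d (d + 1) rfl z⟩)
    obtain ⟨τ₁, hτ₁⟩ : ∃ τ₁, τ₁ = mappingCone.map (f ^ n • 𝟙 (koszulCx E (pw gs n)))
        (f ^ m₁ • 𝟙 (koszulCx E (pw gs m₁))) (koszulTrans E n m₁ h₁ gs)
        (f ^ (m₁ - n) • koszulTrans E n m₁ h₁ gs) (trans_comm E n m₁ h₁ f gs) := ⟨_, rfl⟩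
    obtain ⟨z₁, hz₁⟩ : ∃ z₁ : ModCx.Z (mappingCone (f ^ m₁ • 𝟙 (koszulCx E (pw gs m₁)))) d,
        z₁ = ⟨(τ₁.f d).hom z.1, ModCx.map_mem_Z d τ₁ z⟩ := ⟨_, rfl⟩
    have hcls₁ : (HomologicalComplex.homologyMap τ₁ d).hom
        (ModCx.cls (mappingCone (f ^ n • 𝟙 (koszulCx E (pw gs n)))) d z) =
        ModCx.cls (mappingCone (f ^ m₁ • 𝟙 (koszulCx E (pw gs m₁)))) d z₁ := by
      rw [hz₁]
      exact ModCx.homologyMap_cls d τ₁ z
    have hfst : ModCx.cls (koszulCx E (pw gs m₁)) (d + 1)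
        ⟨fstL (f ^ m₁ • 𝟙 (koszulCx E (pw gs m₁))) d (d + 1) rfl z₁.1,
          fst_mem_Z (f ^ m₁ • 𝟙 (koszulCx E (pw gs m₁))) d (d + 1) rfl z₁⟩ = 0 := by
      rw [ModCx.homologyMap_cls] at hk₁
      rw [← hk₁]
      congr 1
      apply Subtype.ext
      change fstL (f ^ m₁ • 𝟙 (koszulCx E (pw gs m₁))) d (d + 1) rfl z₁.1 = _
      rw [hz₁, hτ₁]
      exact fst_map_apply _ _ _ _ _ d (d + 1) rfl z.1
    obtain ⟨b, hb⟩ := exists_inr_of_cls_fst_zero (f ^ m₁ • 𝟙 (koszulCx E (pw gs m₁))) d (d + 1)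
      rfl z₁ hfst
    -- step 2: the key claim
    have key : ∃ m₂, ∃ h₂ : m₁ ≤ m₂, ∃ w : (koszulCx E (pw gs m₂)).homology d,
        (HomologicalComplex.homologyMap (f ^ (m₂ - m₁) • koszulTrans E m₁ m₂ h₂ gs) d).hom
            (ModCx.cls (koszulCx E (pw gs m₁)) d b) =
          (HomologicalComplex.homologyMap (f ^ m₂ • 𝟙 (koszulCx E (pw gs m₂))) d).hom w := by
      by_cases hbot : -(gs.length : ℤ) < d
      · obtain ⟨m₂, h₂, hk₂⟩ := dies E gs d hbot m₁ (ModCx.cls (koszulCx E (pw gs m₁)) d b)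
        refine ⟨m₂, h₂, 0, ?_⟩
        rw [homologyMap_smul, map_zero]
        change f ^ (m₂ - m₁) • (HomologicalComplex.homologyMap (koszulTrans E m₁ m₂ h₂ gs) d).hom
          (ModCx.cls (koszulCx E (pw gs m₁)) d b) = 0
        rw [hk₂, smul_zero]
      · have hd0 : d + (gs.length : ℤ) = 0 := by
          simp only [List.length_cons, Nat.cast_add, Nat.cast_one] at hd
          omega
        obtain ⟨x, hx⟩ : ∃ x : E, x = eps E (pw gs m₁) d (hd_pw m₁ hd0)
            (ModCx.cls (koszulCx E (pw gs m₁)) d b) := ⟨_, rfl⟩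
        have hxk : ∀ g ∈ gs, g ^ m₁ • x = 0 := fun g hg => by
          rw [hx]
          exact eps_smul_eq_zero E (pw gs m₁) d _ _ (g ^ m₁) (List.mem_map.mpr ⟨g, hg, rfl⟩)
        obtain ⟨J, hJ⟩ : ∃ J : Ideal A, J = Ideal.span ((fun g => g ^ m₁) '' {g | g ∈ gs}) :=
          ⟨_, rfl⟩
        have hJx : ∀ j ∈ J, j • x = 0 := by
          intro j hj
          have hle : J ≤ LinearMap.ker (LinearMap.toSpanSingleton A E x) := by
            rw [hJ, Ideal.span_le]
            rintro _ ⟨g, hg, rfl⟩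
            change g ^ m₁ ∈ LinearMap.ker (LinearMap.toSpanSingleton A E x)
            rw [LinearMap.mem_ker, LinearMap.toSpanSingleton_apply]
            exact hxk g hg
          have := hle hj
          rwa [LinearMap.mem_ker, LinearMap.toSpanSingleton_apply] at this
        obtain ⟨N, y₀, hy₀, hdiv⟩ := exists_div E f J m₁ x hJx
        have hm : m₁ ≤ N + m₁ := Nat.le_add_left _ _
        have hy₀k : ∀ g' ∈ pw gs (N + m₁), g' • y₀ = 0 := by
          intro g' hg'
          obtain ⟨g, hg, rfl⟩ := List.mem_map.mp hg'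
          have hgJ : g ^ m₁ ∈ J := by
            rw [hJ]
            exact Ideal.subset_span ⟨g, hg, rfl⟩
          change g ^ (N + m₁) • y₀ = 0
          rw [pow_add, mul_smul, hy₀ _ hgJ, smul_zero]
        obtain ⟨w, hw⟩ := eps_surj E (pw gs (N + m₁)) d (hd_pw _ hd0) y₀ hy₀k
        refine ⟨N + m₁, hm, w, ?_⟩
        apply eps_injective E (pw gs (N + m₁)) d (hd_pw _ hd0)
        rw [homologyMap_smul, homologyMap_smul, HomologicalComplex.homologyMap_id]
        change eps E (pw gs (N + m₁)) d (hd_pw _ hd0)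
            (f ^ (N + m₁ - m₁) • (HomologicalComplex.homologyMap (koszulTrans E m₁ (N + m₁) hm gs)
              d).hom (ModCx.cls (koszulCx E (pw gs m₁)) d b)) =
          eps E (pw gs (N + m₁)) d (hd_pw _ hd0) (f ^ (N + m₁) • w)
        rw [map_smul, map_smul, eps_trans E m₁ (N + m₁) hm gs d hd0, hw, hdiv, ← hx,
          Nat.add_sub_cancel]
    obtain ⟨m₂, h₂, w, hw⟩ := key
    refine ⟨m₂, h₁.trans h₂, ?_⟩
    have e1 := congrArg
      (fun g : koszulCx E (pw (f :: gs) n) ⟶ koszulCx E (pw (f :: gs) m₂) =>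
        (HomologicalComplex.homologyMap g d).hom
          (ModCx.cls (mappingCone (f ^ n • 𝟙 (koszulCx E (pw gs n)))) d z))
      (koszulTrans_comp E n m₁ m₂ h₁ h₂ (f :: gs)).symm
    simp only [HomologicalComplex.homologyMap_comp, ModuleCat.hom_comp, LinearMap.comp_apply] at e1
    refine e1.trans ?_
    have e2 : (HomologicalComplex.homologyMap (koszulTrans E n m₁ h₁ (f :: gs)) d).hom
        (ModCx.cls (mappingCone (f ^ n • 𝟙 (koszulCx E (pw gs n)))) d z) =
        ModCx.cls (mappingCone (f ^ m₁ • 𝟙 (koszulCx E (pw gs m₁)))) d z₁ := by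
      rw [← hcls₁, hτ₁]
      rfl
    rw [e2, hb]
    have e3 := homologyMap_map_inr (f ^ m₁ • 𝟙 (koszulCx E (pw gs m₁)))
      (f ^ m₂ • 𝟙 (koszulCx E (pw gs m₂))) (koszulTrans E m₁ m₂ h₂ gs)
      (f ^ (m₂ - m₁) • koszulTrans E m₁ m₂ h₂ gs) (trans_comm E m₁ m₂ h₂ f gs) d
      (ModCx.cls (koszulCx E (pw gs m₁)) d b)
    refine e3.trans ?_
    rw [hw]
    exact inr_map_apply (f ^ m₂ • 𝟙 (koszulCx E (pw gs m₂))) d w

/-- **Vanishing on injectives.** -/
theorem subsingleton_TT_of_injective [IsNoetherianRing A] (E : ModuleCat.{u} A)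
    [Module.Injective A E] (fs : List A) (p : ℕ) (hp : 0 < p) : Subsingleton (TT fs E p) := by
  apply TT.subsingleton_of_forall
  intro n y
  exact dies E fs ((p : ℤ) - fs.length) (by
    have : (0 : ℤ) < (p : ℤ) := by exact_mod_cast hp
    omega) n y

end Groth.Agent.Lib.Helper4.KosInj
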