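import Groth.Agent.Lib.Helper4.KosCone
import Groth.Agent.Lib.Helper14.KoszulFun
import Groth.Agent.Lib.Helper14.KoszulTop

/-!
# The direct limit of Koszul cohomology of powers: functoriality and long exact sequence

* `koszulTrans_self`, `koszulTrans_comp`, `koszulMap_trans`.
* `TT fs M p` (defeq to `CohIII.koszulHLim fs M p`, see `toTT`), `TT.of`, `TT.exists_of`,
  `TT.of_eq_zero_iff`, `TT.map`, `TT.δ`, `TT.exact₁`, `TT.exact₃`, `TT.δ_map_g`,
  `TT.δ_bijective`, `TT.nonempty_equiv_coker`.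
-/

set_option autoImplicit false
set_option linter.style.haveILetI false
set_option linter.unusedSectionVars false
set_option linter.unusedVariables false
set_option maxHeartbeats 800000

universe u

open CategoryTheory CategoryTheory.Limits CochainComplex HomComplex

namespace Groth.Agent.Lib.Helper4.KosLim

open CohIII Groth.Agent.Lib.Helper14.KoszulFun Groth.Agent.Lib.Helper4.KosCone
  Groth.Agent.Lib.Helper4.LCBridge

variable {A : Type u} [CommRing A]

/-- the list of `n`-th powers. -/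
abbrev pw (fs : List A) (n : ℕ) : List A := fs.map (· ^ n)

/-! ### transition maps -/

section trans

variable (M : ModuleCat.{u} A)

lemma trans_comm (n m : ℕ) (h : n ≤ m) (f : A) (fs : List A) :
    (f ^ n • 𝟙 (koszulCx M (pw fs n))) ≫ (f ^ (m - n) • koszulTrans M n m h fs) =
      koszulTrans M n m h fs ≫ (f ^ m • 𝟙 (koszulCx M (pw fs m))) := by
  simp only [Linear.smul_comp, Linear.comp_smul, Category.id_comp, Category.comp_id, smul_smul,
    ← pow_add, Nat.sub_add_cancel h]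

lemma koszulTrans_cons (n m : ℕ) (h : n ≤ m) (f : A) (fs : List A) :
    koszulTrans M n m h (f :: fs) =
      mappingCone.map (f ^ n • 𝟙 (koszulCx M (pw fs n))) (f ^ m • 𝟙 (koszulCx M (pw fs m)))
        (koszulTrans M n m h fs) (f ^ (m - n) • koszulTrans M n m h fs)
        (trans_comm M n m h f fs) := rfl

lemma koszulTrans_self (n : ℕ) : ∀ fs : List A, koszulTrans M n n le_rfl fs = 𝟙 _
  | [] => rfl
  | f :: fs => by
    rw [koszulTrans_cons]
    have h1 := koszulTrans_self n fs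
    have h2 : f ^ (n - n) • koszulTrans M n n le_rfl fs = 𝟙 _ := by
      rw [h1, Nat.sub_self, pow_zero, one_smul]
    rw [KosCone.map_congr _ _ h1 h2 _ (by rw [Category.comp_id, Category.id_comp])]
    exact mappingCone.map_id _

lemma koszulTrans_comp (n m k : ℕ) (h : n ≤ m) (h' : m ≤ k) : ∀ fs : List A,
    koszulTrans M n m h fs ≫ koszulTrans M m k h' fs = koszulTrans M n k (h.trans h') fs
  | [] => Category.id_comp _
  | f :: fs => by
    rw [koszulTrans_cons, koszulTrans_cons, koszulTrans_cons]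
    refine (mappingCone.map_comp _ _ _ _ _ _ _ _ _).symm.trans ?_
    apply KosCone.map_congr
    · exact koszulTrans_comp n m k h h' fs
    · rw [Linear.smul_comp, Linear.comp_smul, smul_smul, koszulTrans_comp n m k h h' fs,
        ← pow_add]
      have : m - n + (k - m) = k - n := by omega
      rw [this]

end trans

lemma koszulMap_trans {M N : ModuleCat.{u} A} (φ : M ⟶ N) (n m : ℕ) (h : n ≤ m) :
    ∀ fs : List A, koszulMap φ (pw fs n) ≫ koszulTrans N n m h fs =
      koszulTrans M n m h fs ≫ koszulMap φ (pw fs m)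
  | [] => by
    change koszulMap φ [] ≫ 𝟙 _ = 𝟙 _ ≫ koszulMap φ []
    rw [Category.comp_id, Category.id_comp]
  | f :: fs => by
    have ih := koszulMap_trans φ n m h fs
    change coneMap (f ^ n) (koszulMap φ (pw fs n)) ≫ koszulTrans N n m h (f :: fs) =
      koszulTrans M n m h (f :: fs) ≫ coneMap (f ^ m) (koszulMap φ (pw fs m))
    rw [koszulTrans_cons, koszulTrans_cons]
    unfold coneMap
    refine (mappingCone.map_comp _ _ _ _ _ _ _ _ _).symm.trans ?_
    refine Eq.trans ?_ (mappingCone.map_comp _ _ _ _ _ _ _ _ _)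
    apply KosCone.map_congr
    · exact ih
    · rw [Linear.comp_smul, Linear.smul_comp, ih]

/-! ### the direct limit -/

section lim

variable (fs : List A) (M : ModuleCat.{u} A) (p : ℕ)

/-- transition maps on cohomology. -/
noncomputable def trH (n m : ℕ) (h : n ≤ m) : koszulHPow fs M p n →ₗ[A] koszulHPow fs M p m :=
  (HomologicalComplex.homologyMap (koszulTrans M n m h fs) ((p : ℤ) - fs.length)).hom

/-- the transition maps as a family. -/
noncomputable def trHF : ∀ n m : ℕ, n ≤ m → koszulHPow fs M p n →ₗ[A] koszulHPow fs M p m :=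
  fun n m h => trH fs M p n m h

instance : DirectedSystem (fun n : ℕ => (koszulHPow fs M p n : Type u)) (trHF fs M p · · ·) where
  map_self n x := by
    change (HomologicalComplex.homologyMap (koszulTrans M n n le_rfl fs) _).hom x = x
    rw [koszulTrans_self, HomologicalComplex.homologyMap_id]
    rfl
  map_map k j i hij hjk x := by
    change (HomologicalComplex.homologyMap (koszulTrans M j k hjk fs) _).hom
        ((HomologicalComplex.homologyMap (koszulTrans M i j hij fs) _).hom x) =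
      (HomologicalComplex.homologyMap (koszulTrans M i k (hij.trans hjk) fs) _).hom x
    rw [← koszulTrans_comp M i j k hij hjk fs, HomologicalComplex.homologyMap_comp]
    rfl

/-- The direct limit of Koszul cohomology of the powers (a reducible copy of `koszulHLim`). -/
abbrev TT : Type u :=
  Module.DirectLimit (fun n : ℕ => (koszulHPow fs M p n : Type u)) (trHF fs M p)

/-- `koszulHLim` is `TT`. -/
noncomputable def toTT : koszulHLim fs M p ≃ₗ[A] TT fs M p := LinearEquiv.refl A _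

/-- the canonical maps to the direct limit. -/
noncomputable def TT.of (n : ℕ) : koszulHPow fs M p n →ₗ[A] TT fs M p :=
  Module.DirectLimit.of A ℕ (fun n : ℕ => (koszulHPow fs M p n : Type u)) (trHF fs M p) n

lemma TT.of_tr {n m : ℕ} (h : n ≤ m) (y : koszulHPow fs M p n) :
    TT.of fs M p m (trH fs M p n m h y) = TT.of fs M p n y :=
  Module.DirectLimit.of_f (f := trHF fs M p) (hij := h) (x := y)

lemma TT.exists_of (x : TT fs M p) : ∃ n y, TT.of fs M p n y = x :=
  Module.DirectLimit.exists_of x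

lemma TT.of_eq_zero_iff {n : ℕ} (y : koszulHPow fs M p n) :
    TT.of fs M p n y = 0 ↔ ∃ m, ∃ h : n ≤ m, trH fs M p n m h y = 0 := by
  constructor
  · intro h
    obtain ⟨m, hm, h0⟩ := Module.DirectLimit.of.zero_exact (f := trHF fs M p) h
    exact ⟨m, hm, h0⟩
  · rintro ⟨m, h, h0⟩
    rw [← TT.of_tr fs M p h, h0, map_zero]

lemma TT.subsingleton_of_forall
    (h : ∀ (n : ℕ) (y : koszulHPow fs M p n), ∃ m, ∃ h : n ≤ m, trH fs M p n m h y = 0) :
    Subsingleton (TT fs M p) := by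
  refine ⟨fun a b => ?_⟩
  have h0 : ∀ x : TT fs M p, x = 0 := by
    intro x
    obtain ⟨n, y, rfl⟩ := TT.exists_of fs M p x
    exact (TT.of_eq_zero_iff fs M p y).mpr (h n y)
  rw [h0 a, h0 b]

end lim

/-! ### functoriality -/

section map

variable (fs : List A) (p : ℕ) {M N : ModuleCat.{u} A} (φ : M ⟶ N)

/-- the map induced by `φ` at level `n`. -/
noncomputable def mapH (n : ℕ) : koszulHPow fs M p n →ₗ[A] koszulHPow fs N p n :=
  (HomologicalComplex.homologyMap (koszulMap φ (pw fs n)) ((p : ℤ) - fs.length)).hom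

lemma mapH_comm (n m : ℕ) (h : n ≤ m) :
    mapH fs p φ m ∘ₗ trHF fs M p n m h = trHF fs N p n m h ∘ₗ mapH fs p φ n := by
  apply LinearMap.ext
  intro x
  have e := congrArg
    (fun g : koszulCx M (pw fs n) ⟶ koszulCx N (pw fs m) =>
      (HomologicalComplex.homologyMap g ((p : ℤ) - fs.length)).hom x)
    (koszulMap_trans φ n m h fs)
  simp only [HomologicalComplex.homologyMap_comp, ModuleCat.hom_comp, LinearMap.comp_apply] at e
  exact e.symm

/-- functoriality of `TT` in the module. -/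
noncomputable def TT.map : TT fs M p →ₗ[A] TT fs N p :=
  Module.DirectLimit.map (f := trHF fs M p) (f' := trHF fs N p) (mapH fs p φ) (mapH_comm fs p φ)

lemma TT.map_of (n : ℕ) (y : koszulHPow fs M p n) :
    TT.map fs p φ (TT.of fs M p n y) = TT.of fs N p n (mapH fs p φ n y) :=
  Module.DirectLimit.map_apply_of (f := trHF fs M p) (f' := trHF fs N p) (mapH fs p φ)
    (mapH_comm fs p φ) y

end map

/-! ### the connecting map and exactness -/

section delta

variable (fs : List A) (S0 : ShortComplex (ModuleCat.{u} A)) (hS0 : S0.ShortExact) (p : ℕ)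

lemma rel_dg :
    (ComplexShape.up ℤ).Rel ((p : ℤ) - fs.length) (((p + 1 : ℕ) : ℤ) - fs.length) := by
  change (p : ℤ) - fs.length + 1 = ((p + 1 : ℕ) : ℤ) - fs.length
  push_cast
  ring

/-- the connecting map at level `n`. -/
noncomputable def delH (n : ℕ) : koszulHPow fs S0.X₃ p n →ₗ[A] koszulHPow fs S0.X₁ (p + 1) n :=
  ((koszul_shortExact S0 hS0 (pw fs n)).δ _ _ (rel_dg fs p)).hom

/-- the transition maps as a morphism of short complexes of complexes. -/
noncomputable def transSS (n m : ℕ) (h : n ≤ m) : KS S0 (pw fs n) ⟶ KS S0 (pw fs m) where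
  τ₁ := koszulTrans S0.X₁ n m h fs
  τ₂ := koszulTrans S0.X₂ n m h fs
  τ₃ := koszulTrans S0.X₃ n m h fs
  comm₁₂ := (koszulMap_trans S0.f n m h fs).symm
  comm₂₃ := (koszulMap_trans S0.g n m h fs).symm

lemma delH_comm (n m : ℕ) (h : n ≤ m) :
    delH fs S0 hS0 p m ∘ₗ trHF fs S0.X₃ p n m h =
      trHF fs S0.X₁ (p + 1) n m h ∘ₗ delH fs S0 hS0 p n := by
  apply LinearMap.ext
  intro x
  have e := congrArg (fun g => g.hom x)
    (HomologicalComplex.HomologySequence.δ_naturality (transSS fs S0 n m h)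
      (koszul_shortExact S0 hS0 (pw fs n)) (koszul_shortExact S0 hS0 (pw fs m)) _ _
      (rel_dg fs p))
  simp only [ModuleCat.hom_comp, LinearMap.comp_apply] at e
  exact e.symm

/-- the connecting map on the limit. -/
noncomputable def TT.δ : TT fs S0.X₃ p →ₗ[A] TT fs S0.X₁ (p + 1) :=
  Module.DirectLimit.map (f := trHF fs S0.X₃ p) (f' := trHF fs S0.X₁ (p + 1))
    (delH fs S0 hS0 p) (delH_comm fs S0 hS0 p)

lemma TT.δ_of (n : ℕ) (y : koszulHPow fs S0.X₃ p n) :
    TT.δ fs S0 hS0 p (TT.of fs S0.X₃ p n y) = TT.of fs S0.X₁ (p + 1) n (delH fs S0 hS0 p n y) :=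
  Module.DirectLimit.map_apply_of (f := trHF fs S0.X₃ p) (f' := trHF fs S0.X₁ (p + 1))
    (delH fs S0 hS0 p) (delH_comm fs S0 hS0 p) y

lemma delH_mapH_g (n : ℕ) (y : koszulHPow fs S0.X₂ p n) :
    delH fs S0 hS0 p n (mapH fs p S0.g n y) = 0 := by
  have e := congrArg (fun g => g.hom y)
    ((koszul_shortExact S0 hS0 (pw fs n)).comp_δ _ _ (rel_dg fs p))
  simp only [ModuleCat.hom_comp, LinearMap.comp_apply, ModuleCat.hom_zero,
    LinearMap.zero_apply] at e
  exact e

lemma exact₃_level (n : ℕ) (y₃ : koszulHPow fs S0.X₃ p n) (h : delH fs S0 hS0 p n y₃ = 0) :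
    ∃ y₂ : koszulHPow fs S0.X₂ p n, mapH fs p S0.g n y₂ = y₃ := by
  have hex := (koszul_shortExact S0 hS0 (pw fs n)).homology_exact₃ _ _ (rel_dg fs p)
  rw [ShortComplex.moduleCat_exact_iff] at hex
  exact hex y₃ h

lemma exact₁_level (n : ℕ) (y₁ : koszulHPow fs S0.X₁ (p + 1) n)
    (h : mapH fs (p + 1) S0.f n y₁ = 0) :
    ∃ y₃ : koszulHPow fs S0.X₃ p n, delH fs S0 hS0 p n y₃ = y₁ := by
  have hex := (koszul_shortExact S0 hS0 (pw fs n)).homology_exact₁ _ _ (rel_dg fs p)
  rw [ShortComplex.moduleCat_exact_iff] at hex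
  exact hex y₁ h

lemma TT.δ_map_g (x₂ : TT fs S0.X₂ p) : TT.δ fs S0 hS0 p (TT.map fs p S0.g x₂) = 0 := by
  obtain ⟨n, y, rfl⟩ := TT.exists_of fs S0.X₂ p x₂
  rw [TT.map_of, TT.δ_of, delH_mapH_g, map_zero]

lemma TT.exact₃ (x₃ : TT fs S0.X₃ p) (h : TT.δ fs S0 hS0 p x₃ = 0) :
    ∃ x₂ : TT fs S0.X₂ p, TT.map fs p S0.g x₂ = x₃ := by
  obtain ⟨n, y, rfl⟩ := TT.exists_of fs S0.X₃ p x₃
  rw [TT.δ_of, TT.of_eq_zero_iff] at h
  obtain ⟨m, hm, h0⟩ := h
  have h1 : delH fs S0 hS0 p m (trH fs S0.X₃ p n m hm y) = 0 :=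
    (LinearMap.congr_fun (delH_comm fs S0 hS0 p n m hm) y).trans h0
  obtain ⟨y₂, hy₂⟩ := exact₃_level fs S0 hS0 p m _ h1
  refine ⟨TT.of fs S0.X₂ p m y₂, ?_⟩
  rw [TT.map_of, hy₂, TT.of_tr]

lemma TT.exact₁ (x₁ : TT fs S0.X₁ (p + 1)) (h : TT.map fs (p + 1) S0.f x₁ = 0) :
    ∃ x₃ : TT fs S0.X₃ p, TT.δ fs S0 hS0 p x₃ = x₁ := by
  obtain ⟨n, y, rfl⟩ := TT.exists_of fs S0.X₁ (p + 1) x₁
  rw [TT.map_of, TT.of_eq_zero_iff] at h
  obtain ⟨m, hm, h0⟩ := h
  have h1 : mapH fs (p + 1) S0.f m (trH fs S0.X₁ (p + 1) n m hm y) = 0 :=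
    (LinearMap.congr_fun (mapH_comm fs (p + 1) S0.f n m hm) y).trans h0
  obtain ⟨y₃, hy₃⟩ := exact₁_level fs S0 hS0 p m _ h1
  refine ⟨TT.of fs S0.X₃ p m y₃, ?_⟩
  rw [TT.δ_of, hy₃, TT.of_tr]

lemma TT.δ_surjective (h2' : Subsingleton (TT fs S0.X₂ (p + 1))) :
    Function.Surjective (TT.δ fs S0 hS0 p) := fun x₁ =>
  TT.exact₁ fs S0 hS0 p x₁ (Subsingleton.elim _ _)

lemma TT.δ_injective (h2 : Subsingleton (TT fs S0.X₂ p)) :
    Function.Injective (TT.δ fs S0 hS0 p) := by
  rw [injective_iff_map_eq_zero]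
  intro x₃ hx
  obtain ⟨x₂, rfl⟩ := TT.exact₃ fs S0 hS0 p x₃ hx
  rw [Subsingleton.elim x₂ 0, map_zero]

lemma TT.ker_δ : LinearMap.ker (TT.δ fs S0 hS0 p) = LinearMap.range (TT.map fs p S0.g) := by
  ext x
  rw [LinearMap.mem_ker, LinearMap.mem_range]
  constructor
  · intro h
    exact TT.exact₃ fs S0 hS0 p x h
  · rintro ⟨x₂, rfl⟩
    exact TT.δ_map_g fs S0 hS0 p x₂

include hS0 in
theorem TT.nonempty_equiv_coker (h2' : Subsingleton (TT fs S0.X₂ (p + 1))) :
    Nonempty (TT fs S0.X₁ (p + 1) ≃ₗ[A]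
      (TT fs S0.X₃ p ⧸ LinearMap.range (TT.map fs p S0.g))) :=
  ⟨((TT.δ fs S0 hS0 p).quotKerEquivOfSurjective (TT.δ_surjective fs S0 hS0 p h2')).symm ≪≫ₗ
    Submodule.quotEquivOfEq _ _ (TT.ker_δ fs S0 hS0 p)⟩

include hS0 in
theorem TT.nonempty_equiv_succ (h2 : Subsingleton (TT fs S0.X₂ p))
    (h2' : Subsingleton (TT fs S0.X₂ (p + 1))) :
    Nonempty (TT fs S0.X₃ p ≃ₗ[A] TT fs S0.X₁ (p + 1)) :=
  ⟨LinearEquiv.ofBijective (TT.δ fs S0 hS0 p)
    ⟨TT.δ_injective fs S0 hS0 p h2, TT.δ_surjective fs S0 hS0 p h2'⟩⟩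

end delta

end Groth.Agent.Lib.Helper4.KosLim
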