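import Groth.Agent.Lib.Helper4.KosTop
import Groth.Agent.Lib.Helper4.KosPoly
import Groth.Agent.Lib.Helper14.KoszulReg

/-!
# The direct-limit Koszul cohomology of a polynomial ring with respect to its variables

For `S = A[X_0, …, X_r]` and `xs = (X_0, …, X_r)`: `H^i((xs), S) = 0` for `i ≠ r + 1`, and
`H^{r+1}((xs), S)` is `A`-linearly isomorphic to `S` (via "inverse monomials"), hence `A`-free.
-/

set_option autoImplicit false
set_option linter.style.haveILetI false
set_option linter.unusedSectionVars false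
set_option linter.unusedVariables false
set_option maxHeartbeats 800000

universe u

open CategoryTheory CategoryTheory.Limits

namespace Groth.Agent.Lib.Helper4.KosPolyMain

open CohIII Groth.Agent.Lib.Helper14.KoszulFun Groth.Agent.Lib.Helper4.KosLim
  Groth.Agent.Lib.Helper4.KosTop Groth.Agent.Lib.Helper4.KosPoly MvPolynomial

variable (A : Type u) [CommRing A] (r : ℕ)

/-- the polynomial ring. -/
abbrev SS : Type u := MvPolynomial (Fin (r + 1)) A

/-- the list of variables. -/
noncomputable abbrev xs : List (SS A r) := List.ofFn (fun j : Fin (r + 1) => (X j : SS A r))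

/-- the module. -/
noncomputable abbrev MM : ModuleCat.{u} (SS A r) := ModuleCat.of (SS A r) (SS A r)

lemma xs_length : (xs A r).length = r + 1 := by simp [xs]

lemma pw_xs (n : ℕ) :
    pw (xs A r) n = (List.finRange (r + 1)).map (fun j => (X j : SS A r) ^ n) := by
  have h : List.map (· ^ n) (List.ofFn fun j : Fin (r + 1) => (X j : SS A r)) =
      List.map ((· ^ n) ∘ (fun j : Fin (r + 1) => (X j : SS A r))) (List.finRange (r + 1)) := by
    rw [List.ofFn_eq_map, List.map_map]
  exact h

lemma isWeaklyRegular_pw (n : ℕ) :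
    RingTheory.Sequence.IsWeaklyRegular (SS A r) (pw (xs A r) n) := by
  rw [pw_xs]
  exact isWeaklyRegular_X_pow n _ (List.nodup_finRange _)

theorem subsingleton_of_ne (i : ℕ) (hi : i ≠ r + 1) :
    Subsingleton (koszulHLim (xs A r) (MM A r) i) := by
  have h : Subsingleton (TT (xs A r) (MM A r) i) := by
    apply TT.subsingleton_of_forall
    intro n y
    refine ⟨n, le_rfl, ?_⟩
    have hj : ((i : ℤ) - ((xs A r).length : ℤ)) ≠ 0 := by
      rw [xs_length]
      omega
    have hz := isZero_homology_of_isWeaklyRegular (pw (xs A r) n) (SS A r)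
      (isWeaklyRegular_pw A r n) _ hj
    haveI := ModuleCat.subsingleton_of_isZero hz
    exact Subsingleton.elim _ _
  exact (toTT (xs A r) (MM A r) i).toEquiv.subsingleton

lemma hd0 : ((r + 1 : ℕ) : ℤ) - ((xs A r).length : ℤ) = 0 := by
  rw [xs_length]
  omega

/-- the top limit. -/
abbrev TP : Type u := TT (xs A r) (MM A r) (r + 1)

/-- projection onto the `n`-th top Koszul cohomology. -/
noncomputable def pin (n : ℕ) : SS A r →ₗ[SS A r] koszulHPow (xs A r) (MM A r) (r + 1) n :=
  (topπ (MM A r) (pw (xs A r) n) _ (hd0 A r)).hom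

lemma pin_surjective (n : ℕ) : Function.Surjective (pin A r n) :=
  topπ_surjective (MM A r) (pw (xs A r) n) _ (hd0 A r)

lemma ofList_pw (n : ℕ) :
    Ideal.ofList (pw (xs A r) n) • (⊤ : Submodule (SS A r) (SS A r)) =
      JT A (Set.univ : Set (Fin (r + 1))) n := by
  have hset : {j : Fin (r + 1) | j ∈ List.finRange (r + 1)} = Set.univ := by
    ext j
    simp
  rw [smul_eq_mul, Ideal.mul_top, pw_xs, ofList_map_eq_JT, hset]

lemma pin_eq_zero_iff (n : ℕ) (p : SS A r) :
    pin A r n p = 0 ↔ p ∈ JT A (Set.univ : Set (Fin (r + 1))) n := by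
  have h := topπ_eq_zero_iff (MM A r) (pw (xs A r) n) _ (hd0 A r) p
  have h2 := ofList_pw A r n
  constructor
  · intro h0
    rw [← h2]
    exact h.mp h0
  · intro hp
    rw [← h2] at hp
    exact h.mpr hp

lemma ker_pin_le (n : ℕ) :
    LinearMap.ker (pin A r n) ≤ LinearMap.ker (leg A (SS A r) (g A (Fin (r + 1)) n)) := by
  intro p hp
  rw [LinearMap.mem_ker] at hp ⊢
  rw [pin_eq_zero_iff] at hp
  apply PS.ext
  intro s
  rw [leg_apply]
  change g A (Fin (r + 1)) n (s * p) = 0
  exact g_kills n (s * p) (Ideal.mul_mem_left _ s hp)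

/-- the leg maps. -/
noncomputable def ghat (n : ℕ) :
    koszulHPow (xs A r) (MM A r) (r + 1) n →ₗ[SS A r] PS A (SS A r) :=
  descSurj (pin A r n) (pin_surjective A r n) (leg A (SS A r) (g A (Fin (r + 1)) n))
    (ker_pin_le A r n)

lemma ghat_pin (n : ℕ) (p : SS A r) :
    ghat A r n (pin A r n p) = leg A (SS A r) (g A (Fin (r + 1)) n) p :=
  descSurj_apply _ _ _ _ p

lemma tr_pin (n m : ℕ) (h : n ≤ m) (p : SS A r) :
    trH (xs A r) (MM A r) (r + 1) n m h (pin A r n p) =
      pin A r m (cf (xs A r) (m - n) * p) :=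
  topπ_trans (MM A r) n m h (xs A r) _ (hd0 A r) p

lemma cf_xs (k : ℕ) : cf (xs A r) k = monomial (one (Fin (r + 1)) k) (1 : A) := by
  have h : cf (xs A r) k = ∏ j : Fin (r + 1), (X j : SS A r) ^ k := by
    change ((List.ofFn fun j : Fin (r + 1) => (X j : SS A r)).map (· ^ k)).prod = _
    rw [List.map_ofFn, List.prod_ofFn]
    try rfl
  rw [h, KosPoly.prod_X_pow]

lemma ghat_compat (n m : ℕ) (h : n ≤ m) (x : koszulHPow (xs A r) (MM A r) (r + 1) n) :
    ghat A r m (trHF (xs A r) (MM A r) (r + 1) n m h x) = ghat A r n x := by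
  obtain ⟨p, rfl⟩ := pin_surjective A r n x
  change ghat A r m (trH (xs A r) (MM A r) (r + 1) n m h (pin A r n p)) = _
  rw [tr_pin, ghat_pin, ghat_pin, cf_xs]
  apply PS.ext
  intro s
  rw [leg_apply, leg_apply]
  have e : s * (monomial (one (Fin (r + 1)) (m - n)) (1 : A) * p) =
      monomial (one (Fin (r + 1)) (m - n)) (1 : A) * (s * p) := by ring
  rw [e, g_compat n m h]

/-- the comparison map to `PS`. -/
noncomputable def PhiHat : TP A r →ₗ[SS A r] PS A (SS A r) :=
  Module.DirectLimit.lift (SS A r) ℕ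
    (fun n : ℕ => (koszulHPow (xs A r) (MM A r) (r + 1) n : Type u))
    (trHF (xs A r) (MM A r) (r + 1)) (ghat A r) (ghat_compat A r)

lemma PhiHat_of (n : ℕ) (x : koszulHPow (xs A r) (MM A r) (r + 1) n) :
    PhiHat A r (TT.of (xs A r) (MM A r) (r + 1) n x) = ghat A r n x := by
  unfold PhiHat TT.of
  exact Module.DirectLimit.lift_of (ghat A r) (ghat_compat A r) x

/-- evaluation at `1`. -/
noncomputable def phiFun (x : TP A r) : SS A r := PS.toLin A (SS A r) (PhiHat A r x) 1

lemma phiFun_add (x y : TP A r) : phiFun A r (x + y) = phiFun A r x + phiFun A r y := by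
  unfold phiFun
  rw [(PhiHat A r).map_add, PS.add_apply]

lemma phiFun_smul (a : A) (x : TP A r) :
    phiFun A r (algebraMap A (SS A r) a • x) = a • phiFun A r x := by
  unfold phiFun
  rw [(PhiHat A r).map_smul, PS.smul_apply, mul_one, Algebra.algebraMap_eq_smul_one,
    LinearMap.map_smul]

lemma phiFun_of_pin (n : ℕ) (p : SS A r) :
    phiFun A r (TT.of (xs A r) (MM A r) (r + 1) n (pin A r n p)) = g A (Fin (r + 1)) n p := by
  unfold phiFun
  rw [PhiHat_of, ghat_pin, leg_apply, one_mul]

lemma phiFun_eq_zero (t : TP A r) (h : phiFun A r t = 0) : t = 0 := by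
  obtain ⟨n, y, rfl⟩ := TT.exists_of (xs A r) (MM A r) (r + 1) t
  obtain ⟨p, rfl⟩ := pin_surjective A r n y
  rw [phiFun_of_pin] at h
  have hp := g_ker n p h
  rw [(pin_eq_zero_iff A r n p).mpr hp, map_zero]

/-- the `A`-linear comparison map. -/
noncomputable def Phi : RestrictScalars A (SS A r) (TP A r) →ₗ[A] SS A r where
  toFun x := phiFun A r (RestrictScalars.addEquiv A (SS A r) (TP A r) x)
  map_add' x y := by
    change phiFun A r (RestrictScalars.addEquiv A (SS A r) (TP A r) (x + y)) =
      phiFun A r (RestrictScalars.addEquiv A (SS A r) (TP A r) x) +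
        phiFun A r (RestrictScalars.addEquiv A (SS A r) (TP A r) y)
    rw [map_add, phiFun_add]
  map_smul' a x := by
    change phiFun A r (RestrictScalars.addEquiv A (SS A r) (TP A r) (a • x)) =
      a • phiFun A r (RestrictScalars.addEquiv A (SS A r) (TP A r) x)
    rw [RestrictScalars.addEquiv_map_smul, phiFun_smul]

lemma Phi_apply (x : RestrictScalars A (SS A r) (TP A r)) :
    Phi A r x = phiFun A r (RestrictScalars.addEquiv A (SS A r) (TP A r) x) := rfl

lemma Phi_injective : Function.Injective (Phi A r) := by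
  rw [injective_iff_map_eq_zero]
  intro x hx
  rw [Phi_apply] at hx
  have h0 := phiFun_eq_zero A r _ hx
  exact (RestrictScalars.addEquiv A (SS A r) (TP A r)).injective (h0.trans (map_zero _).symm)

lemma Phi_surjective : Function.Surjective (Phi A r) := by
  intro q
  refine MvPolynomial.induction_on' q ?_ ?_
  · intro α a
    obtain ⟨n, hα⟩ : ∃ n, ∀ j, α j < n :=
      ⟨Finset.univ.sup (fun j => α j) + 1, fun j =>
        Nat.lt_succ_of_le (Finset.le_sup (f := fun j => α j) (Finset.mem_univ j))⟩
    refine ⟨(RestrictScalars.addEquiv A (SS A r) (TP A r)).symm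
      (TT.of (xs A r) (MM A r) (r + 1) n (pin A r n (monomial (refl n α) a))), ?_⟩
    rw [Phi_apply, AddEquiv.apply_symm_apply, phiFun_of_pin, g_monomial n α hα a]
  · rintro p q ⟨x, rfl⟩ ⟨y, rfl⟩
    exact ⟨x + y, map_add _ _ _⟩

theorem free_top : Module.Free A (RestrictScalars A (SS A r) (TP A r)) :=
  Module.Free.of_equiv
    (LinearEquiv.ofBijective (Phi A r) ⟨Phi_injective A r, Phi_surjective A r⟩).symm

/-- **Koszul cohomology of the polynomial ring with respect to the variables.** -/
theorem main :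
    (∀ i : ℕ, i ≠ r + 1 → Subsingleton (koszulHLim (xs A r) (MM A r) i)) ∧
    Module.Free A (RestrictScalars A (SS A r) (koszulHLim (xs A r) (MM A r) (r + 1))) :=
  ⟨subsingleton_of_ne A r, free_top A r⟩

end Groth.Agent.Lib.Helper4.KosPolyMain
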