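import Mathlib

set_option autoImplicit false
set_option linter.style.haveILetI false
set_option linter.unusedSectionVars false
set_option linter.unusedVariables false
set_option linter.unusedSimpArgs false
set_option maxHeartbeats 1600000
set_option maxSynthPendingDepth 3

universe u

open Polynomial

namespace Groth.Agent.Lib.Helper4.KummerLevel

section Core

variable {A L : Type*} [CommRing A] [CommRing L] [Algebra A L]

local notation "α" => algebraMap A L

theorem prod_sub_mul_expand {ι : Type*} (S : Finset ι) (y u : L) (e : ι → L)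
    (he : ∀ i ∈ S, IsIntegral A (e i)) (hy : IsIntegral A y) (hu : IsIntegral A u) :
    ∃ b : L, IsIntegral A b ∧ ∏ i ∈ S, (y - u * e i) = y ^ S.card + u * b := by
  classical
  induction S using Finset.induction_on with
  | empty => exact ⟨0, isIntegral_zero, by simp⟩
  | insert a s ha ih =>
    obtain ⟨b, hb, hprod⟩ := ih (fun i hi => he i (Finset.mem_insert_of_mem hi))
    have hea := he a (Finset.mem_insert_self a s)
    refine ⟨y * b - e a * y ^ s.card - u * e a * b,
      ((hy.mul hb).sub (hea.mul (hy.pow _))).sub ((hu.mul hea).mul hb), ?_⟩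
    rw [Finset.prod_insert ha, hprod, Finset.card_insert_of_notMem ha]; ring

theorem add_pow_integral (p n : ℕ) (hp : p.Prime) (x y : L) (hx : IsIntegral A x)
    (hy : IsIntegral A y) :
    ∃ r : L, IsIntegral A r ∧ (x + y) ^ (p ^ n) = x ^ (p ^ n) + y ^ (p ^ n) + (p : L) * r :=
  ⟨_, IsIntegral.sum _ (fun k _ => ((hx.pow _).mul (hy.pow _)).mul (isIntegral_natCast (R := A) _)),
    add_pow_prime_pow_eq' hp x y n⟩

theorem core [Nontrivial A] [IsDomain L]
    (π : A) (p n q j : ℕ) (hp : p.Prime) (hqdef : q = p ^ n) (hq0 : q ≠ 0)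
    {ι : Type*} (S : Finset ι) (θ η : ι → A)
    (hπu : ∃ πinv : L, α π * πinv = 1)
    (hprod : ∀ x : L, x ^ q - 1 = ∏ i ∈ S, (x - α (θ i)))
    (hθ : ∀ i ∈ S, θ i - 1 = π ^ (j + 1) * η i)
    (hcard : S.card = q)
    (hpπ : ∃ c' : A, (p : A) = π * c')
    (hE : ∀ (x : L) (N : ℕ) (t : A), IsIntegral A x → α π ^ N * x = α t → ∃ c : A, t = π ^ N * c)
    (hRAD : ∀ x b : L, IsIntegral A x → IsIntegral A b → x ^ q = α π * b →
      ∃ w : L, IsIntegral A w ∧ x = α π * w)
    (hlift : ∀ a : A, IsUnit (Ideal.Quotient.mk (Ideal.span {π}) a) → IsUnit a)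
    (f g : Aˣ) (f₀ g₀ c₀ : A)
    (hfg : (f : A) * (g : A) ^ q = 1 + π ^ (j * q) * f₀)
    (hf₀ : f₀ - g₀ ^ q = π * c₀)
    (z : L) (hz : z ^ q = α (f : A)) :
    ∃ (g' : Aˣ) (c : A), (f : A) * (g' : A) ^ q = 1 + π ^ ((j + 1) * q) * c := by
  classical
  obtain ⟨πinv, hπinv⟩ := hπu
  have hαint : ∀ a : A, IsIntegral A (α a) := fun a => isIntegral_algebraMap
  have hθL : ∀ i ∈ S, α (θ i) = 1 + α π ^ (j + 1) * α (η i) := by
    intro i hi
    have := congrArg α (hθ i hi)
    rw [map_sub, map_one, map_mul, map_pow] at this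
    linear_combination this
  have hzg : (z * α (g : A)) ^ q = 1 + α π ^ (j * q) * α f₀ := by
    rw [mul_pow, hz, ← map_pow, ← map_mul, hfg, map_add, map_one, map_mul, map_pow]
  have hzgint : IsIntegral A (z * α (g : A)) := by
    refine IsIntegral.of_pow (Nat.pos_of_ne_zero hq0) ?_
    rw [hzg]
    exact isIntegral_one.add (((hαint π).pow _).mul (hαint f₀))
  obtain ⟨y, hy⟩ : ∃ y : L, α π ^ j * y = z * α (g : A) - 1 :=
    ⟨(z * α (g : A) - 1) * πinv ^ j, by
      calc α π ^ j * ((z * α (g : A) - 1) * πinv ^ j)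
          = (z * α (g : A) - 1) * (α π * πinv) ^ j := by rw [mul_pow]; ring
        _ = z * α (g : A) - 1 := by rw [hπinv, one_pow, mul_one]⟩
  have hfac : ∀ i ∈ S, z * α (g : A) - α (θ i) = α π ^ j * (y - α π * α (η i)) := by
    intro i hi
    rw [hθL i hi]
    linear_combination (-1 : L) * hy
  have hunitπ : IsUnit (α π) := isUnit_iff_exists_inv.mpr ⟨πinv, hπinv⟩
  have hM : ∏ i ∈ S, (y - α π * α (η i)) = α f₀ := by
    have h1 : ∏ i ∈ S, (z * α (g : A) - α (θ i)) =
        α π ^ (j * q) * ∏ i ∈ S, (y - α π * α (η i)) := by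
      rw [Finset.prod_congr rfl hfac, Finset.prod_mul_distrib, Finset.prod_const, hcard, ← pow_mul]
    have h2 := hprod (z * α (g : A))
    rw [hzg, h1] at h2
    apply (hunitπ.pow (j * q)).mul_left_cancel
    rw [← h2]; ring
  have hyint : IsIntegral A y := by
    have hGm : (∏ i ∈ S, (X - C (π * η i)) : A[X]).Monic :=
      monic_prod_of_monic _ _ (fun i _ => monic_X_sub_C _)
    have hGd : (∏ i ∈ S, (X - C (π * η i)) : A[X]).natDegree = q := by
      rw [natDegree_prod_of_monic _ _ (fun i _ => monic_X_sub_C _),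
        Finset.sum_congr rfl (fun i _ => natDegree_X_sub_C (π * η i))]
      simp [hcard]
    refine ⟨(∏ i ∈ S, (X - C (π * η i))) - C f₀, ?_, ?_⟩
    · apply hGm.sub_of_left
      rw [degree_eq_natDegree hGm.ne_zero, hGd]
      exact lt_of_le_of_lt degree_C_le (by exact_mod_cast Nat.pos_of_ne_zero hq0)
    · rw [eval₂_sub, eval₂_C, eval₂_finset_prod]
      simp only [eval₂_sub, eval₂_X, eval₂_C]
      simp only [map_mul]
      rw [hM, sub_self]
  obtain ⟨b₁, hb₁, hexp⟩ := prod_sub_mul_expand (A := A) S y (α π) (fun i => α (η i))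
    (fun i _ => hαint _) hyint (hαint π)
  rw [hcard, hM] at hexp
  -- freshman's dream
  have hyg : IsIntegral A (y - α g₀) := hyint.sub (hαint g₀)
  obtain ⟨r, hrint, hr⟩ : ∃ r : L, IsIntegral A r ∧
      (y - α g₀ + α g₀) ^ q = (y - α g₀) ^ q + (α g₀) ^ q + (p : L) * r := by
    rw [hqdef]; exact add_pow_integral p n hp _ _ hyg (hαint g₀)
  rw [sub_add_cancel] at hr
  obtain ⟨c', hc'⟩ := hpπ
  have hpL : (p : L) = α π * α c' := by rw [← map_mul, ← hc', map_natCast]
  have hf₀L : α f₀ - (α g₀) ^ q = α π * α c₀ := by rw [← map_pow, ← map_sub, hf₀, map_mul]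
  have hpow : (y - α g₀) ^ q = α π * (α c₀ - b₁ - α c' * r) := by
    linear_combination (-1 : L) * hr - hexp + hf₀L - r * hpL
  obtain ⟨w, hwint, hw⟩ := hRAD _ _ hyg (((hαint c₀).sub hb₁).sub ((hαint c').mul hrint)) hpow
  -- zg = α h + π^{j+1} w
  obtain ⟨hh, hhdef⟩ : ∃ hh : A, hh = 1 + π ^ j * g₀ := ⟨_, rfl⟩
  have hzg2 : z * α (g : A) = α hh + α π ^ (j + 1) * w := by
    rw [hhdef, map_add, map_one, map_mul, map_pow]
    linear_combination (-1 : L) * hy + (α π ^ j) * hw
  have hunit_h : IsUnit hh := by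
    apply hlift
    obtain ⟨k, hkint, hk⟩ : ∃ k : L, IsIntegral A k ∧
        (z * α (g : A)) ^ q - (α hh) ^ q = (z * α (g : A) - α hh) * k :=
      ⟨∑ i ∈ Finset.range q, (z * α (g : A)) ^ i * (α hh) ^ (q - 1 - i),
        IsIntegral.sum _ (fun i _ => (hzgint.pow _).mul ((hαint _).pow _)),
        (geom_sum₂_mul _ _ _).symm.trans (mul_comm _ _)⟩
    have e1 : α ((f : A) * (g : A) ^ q - hh ^ q) = (z * α (g : A)) ^ q - (α hh) ^ q := by
      rw [map_sub, map_mul, map_pow, map_pow, mul_pow, hz]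
    have h3 : α π ^ 1 * (α π ^ j * w * k) = α ((f : A) * (g : A) ^ q - hh ^ q) := by
      rw [e1, hk, hzg2]; ring
    obtain ⟨c₁, hc₁⟩ := hE _ 1 _ ((((hαint π).pow j).mul hwint).mul hkint) h3
    have h4 : Ideal.Quotient.mk (Ideal.span {π}) ((f : A) * (g : A) ^ q) =
        (Ideal.Quotient.mk (Ideal.span {π}) hh) ^ q := by
      rw [← map_pow, Ideal.Quotient.eq, hc₁, pow_one]
      exact Ideal.mul_mem_right _ _ (Ideal.subset_span rfl)
    have hFu : IsUnit (Ideal.Quotient.mk (Ideal.span {π}) ((f : A) * (g : A) ^ q)) :=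
      (f.isUnit.mul (g.isUnit.pow q)).map _
    rw [h4] at hFu
    exact (isUnit_pow_iff hq0).mp hFu
  obtain ⟨hinv, hhinv⟩ := isUnit_iff_exists_inv.mp hunit_h
  obtain ⟨g', hg'⟩ : ∃ g' : Aˣ, (g' : A) = (g : A) * hinv :=
    ⟨g * ⟨hinv, hh, by rw [mul_comm]; exact hhinv, hhinv⟩, rfl⟩
  have hw'int : IsIntegral A (w * α hinv) := hwint.mul (hαint hinv)
  have hzg' : z * α (g' : A) = 1 + α π ^ (j + 1) * (w * α hinv) := by
    rw [hg', map_mul, ← mul_assoc, hzg2]
    have : α hh * α hinv = 1 := by rw [← map_mul, hhinv, map_one]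
    linear_combination this
  have hfac' : ∀ i ∈ S, z * α (g' : A) - α (θ i) = α π ^ (j + 1) * (w * α hinv - α (η i)) := by
    intro i hi
    rw [hzg', hθL i hi]; ring
  have h4 : α π ^ ((j + 1) * q) * ∏ i ∈ S, (w * α hinv - α (η i)) =
      α ((f : A) * (g' : A) ^ q - 1) := by
    have h2 := hprod (z * α (g' : A))
    rw [Finset.prod_congr rfl hfac', Finset.prod_mul_distrib, Finset.prod_const, hcard,
      ← pow_mul] at h2
    rw [← h2, map_sub, map_one, map_mul, map_pow, mul_pow, hz]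
  obtain ⟨c, hc⟩ := hE _ ((j + 1) * q) _
    (IsIntegral.prod _ (fun i _ => hw'int.sub (hαint _))) h4
  exact ⟨g', c, by linear_combination hc⟩

end Core

end Groth.Agent.Lib.Helper4.KummerLevel
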