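import Mathlib
import Groth.Agent.Lib.Helper4.KummerLevel

set_option autoImplicit false
set_option linter.style.haveILetI false
set_option linter.unusedSectionVars false
set_option linter.unusedVariables false
set_option linter.unusedSimpArgs false
set_option maxHeartbeats 1600000
set_option maxSynthPendingDepth 3

universe u

open Polynomial

namespace Groth.Agent.Lib.Helper4.KummerLevel

theorem dvd_root_sub_one (R : Type*) [CommRing R] [IsDomain R] [IsIntegrallyClosed R]
    (p : ℕ) (hp : p.Prime) (ϖ : R) (n : ℕ) (hn : 0 < n) (ζ : R)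
    (hζ : IsPrimitiveRoot ζ (p ^ n)) (j : ℕ)
    (hj : ϖ ^ (p ^ (n - 1) * (p - 1) * (j + 1)) ∣ (p : R))
    (ξ : R) (hξ : ξ ^ (p ^ n) = 1) : ϖ ^ (j + 1) ∣ ξ - 1 := by
  obtain ⟨m, rfl⟩ : ∃ m, n = m + 1 := ⟨n - 1, by omega⟩
  haveI : Fact p.Prime := ⟨hp⟩
  haveI : NeZero (p ^ (m + 1)) := ⟨(pow_pos hp.pos _).ne'⟩
  have hj' : ϖ ^ (p ^ m * (p - 1) * (j + 1)) ∣ (p : R) := by simpa using hj
  have h1 : (p : R) = ∏ μ ∈ primitiveRoots (p ^ (m + 1)) R, (1 - μ) := by
    have := congrArg (eval 1) (cyclotomic_eq_prod_X_sub_primitiveRoots hζ)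
    rw [eval_one_cyclotomic_prime_pow, eval_prod] at this
    simpa using this
  have h2 : ∀ μ ∈ primitiveRoots (p ^ (m + 1)) R, (1 - μ) ∣ ζ - 1 := by
    intro μ hμ
    have hμ' : IsPrimitiveRoot μ (p ^ (m + 1)) := (mem_primitiveRoots (pow_pos hp.pos _)).mp hμ
    obtain ⟨i, -, hi⟩ := hμ'.eq_pow_of_pow_eq_one hζ.pow_eq_one
    rw [← hi]
    have h3 := sub_dvd_pow_sub_pow μ 1 i
    rw [one_pow] at h3
    have h4 : (1 - μ) = -(μ - 1) := by ring
    rw [h4]; exact neg_dvd.mpr h3
  have hφ0 : p ^ m * (p - 1) ≠ 0 :=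
    Nat.mul_ne_zero (pow_pos hp.pos _).ne' (Nat.sub_ne_zero_of_lt hp.one_lt)
  have h5 : (p : R) ∣ (ζ - 1) ^ (p ^ m * (p - 1)) := by
    have hcard : (primitiveRoots (p ^ (m + 1)) R).card = p ^ m * (p - 1) := by
      rw [hζ.card_primitiveRoots, Nat.totient_prime_pow_succ hp]
    rw [h1, ← hcard, ← Finset.prod_const]
    exact Finset.prod_dvd_prod_of_dvd _ _ h2
  have h6 : ϖ ^ (j + 1) ∣ ζ - 1 := by
    have h7 : (ϖ ^ (j + 1)) ^ (p ^ m * (p - 1)) ∣ (ζ - 1) ^ (p ^ m * (p - 1)) := by
      rw [← pow_mul']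
      exact hj'.trans h5
    exact (IsIntegrallyClosed.pow_dvd_pow_iff hφ0).mp h7
  obtain ⟨i, -, hi⟩ := hζ.eq_pow_of_pow_eq_one hξ
  rw [← hi]
  have h8 := sub_dvd_pow_sub_pow ζ 1 i
  rw [one_pow] at h8
  exact h6.trans h8

theorem descend_integral (A : Type u) [CommRing A] [IsDomain A] [IsIntegrallyClosed A] (π : A)
    (hπ : π ≠ 0) (P : (Localization.Away π)[X]) (hP : P.degree ≠ 0)
    (x : AdjoinRoot P) (N : ℕ) (t : A) (hx : IsIntegral A x)
    (h : algebraMap A (AdjoinRoot P) π ^ N * x = algebraMap A (AdjoinRoot P) t) :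
    ∃ c : A, t = π ^ N * c := by
  haveI : IsDomain (Localization.Away π) :=
    IsLocalization.isDomain_localization (powers_le_nonZeroDivisors_of_noZeroDivisors hπ)
  have hof : Function.Injective (AdjoinRoot.of P) := AdjoinRoot.of.injective_of_degree_ne_zero hP
  obtain ⟨πi, hπi⟩ := isUnit_iff_exists_inv.mp
    (IsLocalization.Away.algebraMap_isUnit (S := Localization.Away π) π)
  have hx₀ : x = AdjoinRoot.of P (algebraMap A (Localization.Away π) t * πi ^ N) := by
    have h' : (AdjoinRoot.of P (algebraMap A (Localization.Away π) π)) ^ N * x =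
        AdjoinRoot.of P (algebraMap A (Localization.Away π) t) := h
    calc x = (AdjoinRoot.of P (algebraMap A (Localization.Away π) π * πi)) ^ N * x := by
          rw [hπi, map_one, one_pow, one_mul]
      _ = (AdjoinRoot.of P πi) ^ N *
            ((AdjoinRoot.of P (algebraMap A (Localization.Away π) π)) ^ N * x) := by
          rw [map_mul, mul_pow]; ring
      _ = AdjoinRoot.of P (algebraMap A (Localization.Away π) t * πi ^ N) := by
          rw [h', map_mul, map_pow]; ring
  let ofA : Localization.Away π →ₐ[A] AdjoinRoot P :=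
    { AdjoinRoot.of P with commutes' := fun a => rfl }
  have hx₀int : IsIntegral A (algebraMap A (Localization.Away π) t * πi ^ N) := by
    refine (isIntegral_algHom_iff ofA hof).mp ?_
    rw [hx₀] at hx; exact hx
  have hπK : IsUnit (algebraMap A (FractionRing A) π) :=
    IsUnit.mk0 _ ((map_ne_zero_iff _ (IsFractionRing.injective A (FractionRing A))).mpr hπ)
  let φ : Localization.Away π →+* FractionRing A := IsLocalization.Away.lift π hπK
  have hφ : ∀ a, φ (algebraMap A (Localization.Away π) a) = algebraMap A (FractionRing A) a :=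
    fun a => IsLocalization.Away.lift_eq π hπK a
  obtain ⟨G, hGm, hG⟩ := hx₀int
  have hG' : eval₂ (algebraMap A (FractionRing A))
      (φ (algebraMap A (Localization.Away π) t * πi ^ N)) G = 0 := by
    have := congrArg φ hG
    rw [hom_eval₂, map_zero] at this
    have e : φ.comp (algebraMap A (Localization.Away π)) = algebraMap A (FractionRing A) :=
      RingHom.ext hφ
    rw [e] at this; exact this
  obtain ⟨c, hc⟩ := IsIntegrallyClosed.isIntegral_iff.mp
    (⟨G, hGm, hG'⟩ : IsIntegral A (φ (algebraMap A (Localization.Away π) t * πi ^ N)))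
  refine ⟨c, (IsFractionRing.injective A (FractionRing A) ?_).symm⟩
  have h1 : algebraMap A (FractionRing A) π * φ πi = 1 := by
    rw [← hφ, ← map_mul, hπi, map_one]
  rw [map_mul, map_pow, hc, map_mul, map_pow, hφ]
  calc algebraMap A (FractionRing A) π ^ N * (algebraMap A (FractionRing A) t * φ πi ^ N)
      = algebraMap A (FractionRing A) t * (algebraMap A (FractionRing A) π * φ πi) ^ N := by
        rw [mul_pow]; ring
    _ = algebraMap A (FractionRing A) t := by rw [h1, one_pow, mul_one]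

theorem rad_step (A L : Type*) [CommRing A] [CommRing L] [Algebra A L] (π : A) (q : ℕ)
    (hred : (Ideal.span {algebraMap A (integralClosure A L) π}).IsRadical)
    (x b : L) (hx : IsIntegral A x) (hb : IsIntegral A b) (h : x ^ q = algebraMap A L π * b) :
    ∃ w : L, IsIntegral A w ∧ x = algebraMap A L π * w := by
  have h1 : (⟨x, hx⟩ : integralClosure A L) ^ q =
      algebraMap A (integralClosure A L) π * ⟨b, hb⟩ := by
    apply Subtype.ext
    simp only [SubmonoidClass.coe_pow, MulMemClass.coe_mul, Subalgebra.coe_algebraMap]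
    exact h
  have h2 : (⟨x, hx⟩ : integralClosure A L) ∈
      Ideal.span {algebraMap A (integralClosure A L) π} :=
    hred ⟨q, by rw [h1]; exact Ideal.mul_mem_right _ _ (Ideal.subset_span rfl)⟩
  obtain ⟨wB, hwB⟩ := Ideal.mem_span_singleton'.mp h2
  refine ⟨wB.1, wB.2, ?_⟩
  have := congrArg Subtype.val hwB
  simp only [MulMemClass.coe_mul, Subalgebra.coe_algebraMap] at this
  rw [mul_comm]; exact this.symm

theorem main (R : Type u) [CommRing R] [IsDomain R] [IsDiscreteValuationRing R]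
    (p : ℕ) [Fact p.Prime] (ϖ : R) (hϖ : Irreducible ϖ)
    (n : ℕ) (hn : 0 < n) (ζ : R) (hζ : IsPrimitiveRoot ζ (p ^ n))
    (A : Type u) [CommRing A] [IsDomain A] [IsIntegrallyClosed A] [Algebra R A]
    [Module.FaithfullyFlat R A] (π : A) (hπdef : algebraMap R A ϖ = π)
    (hlift : ∀ a : A, IsUnit (Ideal.Quotient.mk (Ideal.span {π}) a) → IsUnit a)
    (f g : Aˣ) (j : ℕ) (hj : ϖ ^ (p ^ (n - 1) * (p - 1) * (j + 1)) ∣ (p : R)) (f₀ : A)
    (hfg : (f : A) * (g : A) ^ (p ^ n) = 1 + π ^ (j * p ^ n) * f₀)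
    (hmax : ∀ (g' : Aˣ) (c : A), (f : A) * (g' : A) ^ (p ^ n) ≠ 1 + π ^ ((j + 1) * p ^ n) * c)
    [IsDomain (AdjoinRoot (X ^ (p ^ n) - C (algebraMap A (Localization.Away π) (f : A))))]
    (hred : (Ideal.span {algebraMap A (integralClosure A (AdjoinRoot (X ^ (p ^ n) -
      C (algebraMap A (Localization.Away π) (f : A))))) π}).IsRadical)
    (g₀ : A) : f₀ - g₀ ^ (p ^ n) ∉ Ideal.span {π} := by
  classical
  intro hmem
  obtain ⟨c₀, hc₀⟩ := Ideal.mem_span_singleton'.mp hmem
  have hp := (Fact.out : p.Prime)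
  have hq0 : p ^ n ≠ 0 := (pow_pos hp.pos n).ne'
  have hπ0 : π ≠ 0 := by
    intro h0
    exact hϖ.ne_zero (FaithfulSMul.algebraMap_injective R A (by rw [hπdef, h0, map_zero]))
  haveI : IsDomain (Localization.Away π) :=
    IsLocalization.isDomain_localization (powers_le_nonZeroDivisors_of_noZeroDivisors hπ0)
  have hPdeg : (X ^ (p ^ n) - C (algebraMap A (Localization.Away π) (f : A)) :
      (Localization.Away π)[X]).degree ≠ 0 := by
    rw [degree_X_pow_sub_C (Nat.pos_of_ne_zero hq0)]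
    exact_mod_cast hq0
  have hdvd : ∀ ξ ∈ nthRootsFinset (p ^ n) (1 : R), ϖ ^ (j + 1) ∣ ξ - 1 := fun ξ hξ =>
    dvd_root_sub_one R p hp ϖ n hn ζ hζ j hj ξ
      ((mem_nthRootsFinset (Nat.pos_of_ne_zero hq0) 1).mp hξ)
  let ηR : R → R := fun ξ => if h : ϖ ^ (j + 1) ∣ ξ - 1 then Classical.choose h else 0
  have hηR : ∀ ξ ∈ nthRootsFinset (p ^ n) (1 : R), ξ - 1 = ϖ ^ (j + 1) * ηR ξ := by
    intro ξ hξ
    simp only [ηR, dif_pos (hdvd ξ hξ)]
    exact Classical.choose_spec (hdvd ξ hξ)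
  have hπu : ∃ πinv : AdjoinRoot (X ^ (p ^ n) - C (algebraMap A (Localization.Away π) (f : A))),
      algebraMap A _ π * πinv = 1 :=
    isUnit_iff_exists_inv.mp
      ((IsLocalization.Away.algebraMap_isUnit (S := Localization.Away π) π).map (AdjoinRoot.of _))
  have hprod : ∀ x : AdjoinRoot (X ^ (p ^ n) - C (algebraMap A (Localization.Away π) (f : A))),
      x ^ (p ^ n) - 1 = ∏ ξ ∈ nthRootsFinset (p ^ n) (1 : R),
        (x - algebraMap A _ (algebraMap R A ξ)) := by
    intro x
    have := congrArg (eval₂ ((algebraMap A (AdjoinRoot (X ^ (p ^ n) -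
      C (algebraMap A (Localization.Away π) (f : A))))).comp (algebraMap R A)) x)
      (X_pow_sub_one_eq_prod (Nat.pos_of_ne_zero hq0) hζ)
    simpa [eval₂_finset_prod] using this
  have hθ : ∀ ξ ∈ nthRootsFinset (p ^ n) (1 : R),
      algebraMap R A ξ - 1 = π ^ (j + 1) * algebraMap R A (ηR ξ) := by
    intro ξ hξ
    have := congrArg (algebraMap R A) (hηR ξ hξ)
    rw [map_sub, map_one, map_mul, map_pow, hπdef] at this
    exact this
  have hpπ : ∃ c' : A, (p : A) = π * c' := by
    have hne : p ^ (n - 1) * (p - 1) * (j + 1) ≠ 0 :=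
      Nat.mul_ne_zero (Nat.mul_ne_zero (pow_pos hp.pos _).ne' (Nat.sub_ne_zero_of_lt hp.one_lt))
        (Nat.succ_ne_zero j)
    obtain ⟨c', hc'⟩ := (dvd_pow_self ϖ hne).trans hj
    exact ⟨algebraMap R A c', by rw [← hπdef, ← map_mul, ← hc', map_natCast]⟩
  have hz : (AdjoinRoot.root (X ^ (p ^ n) - C (algebraMap A (Localization.Away π) (f : A)))) ^ (p ^ n)
      = algebraMap A _ (f : A) := by
    have := AdjoinRoot.eval₂_root (X ^ (p ^ n) - C (algebraMap A (Localization.Away π) (f : A)))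
    rw [eval₂_sub, eval₂_pow, eval₂_X, eval₂_C, sub_eq_zero] at this
    exact this
  obtain ⟨g', c, h⟩ := core (A := A)
    (L := AdjoinRoot (X ^ (p ^ n) - C (algebraMap A (Localization.Away π) (f : A))))
    π p n (p ^ n) j hp rfl hq0 (nthRootsFinset (p ^ n) (1 : R))
    (fun ξ => algebraMap R A ξ) (fun ξ => algebraMap R A (ηR ξ))
    hπu hprod hθ hζ.card_nthRootsFinset hpπ
    (fun x N t hx h => descend_integral A π hπ0 _ hPdeg x N t hx h)
    (fun x b hx hb h => rad_step A _ π (p ^ n) hred x b hx hb h)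
    hlift f g f₀ g₀ c₀ hfg (by rw [← hc₀, mul_comm])
    (AdjoinRoot.root _) hz
  exact hmax g' c h

end Groth.Agent.Lib.Helper4.KummerLevel
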