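import Groth.Agent.Lib.Helper4.LC11

/-!
# The comparison `H^i_{a+bR}(M) → H^i_a(M)` and localization at `b`, for `LocCoh.H` (helper4)
-/

set_option autoImplicit false
set_option linter.style.haveILetI false
set_option linter.unusedSectionVars false
set_option maxHeartbeats 400000

open CategoryTheory Limits Opposite Abelian

universe u

namespace Groth.Agent.Lib.Helper4.LC

variable {R : Type u} [CommRing R] [IsNoetherianRing R] (a : Ideal R) (b : R)
  (M : Type u) [AddCommGroup M] [Module R M]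

/-- the image of `H^i_{a+bR}(M) → H^i_a(M)` is the `b`-power torsion. -/
theorem mem_range_HmapOfLE_iff (i : ℕ) (x : LocCoh.H a i M) :
    x ∈ LinearMap.range ((Dual2.HmapOfLE (le_sup_left : a ≤ a ⊔ Ideal.span {b}) i).app
      (ModuleCat.of R M)).hom ↔ ∃ n : ℕ, b ^ n • x = 0 := by
  have key := HH.exists_ofLE_eq_iff a b i (ModuleCat.of R M) (lcEquiv a (ModuleCat.of R M) i x)
  constructor
  · rintro ⟨z, hz⟩
    obtain ⟨n, hn⟩ := key.1 ⟨lcEquiv (a ⊔ Ideal.span {b}) (ModuleCat.of R M) i z, by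
      rw [← hz]
      exact (lcEquiv_HmapOfLE (le_sup_left : a ≤ a ⊔ Ideal.span {b}) (ModuleCat.of R M) i z).symm⟩
    refine ⟨n, (lcEquiv a (ModuleCat.of R M) i).injective ?_⟩
    rw [map_smul, map_zero]
    exact hn
  · rintro ⟨n, hn⟩
    obtain ⟨z', hz'⟩ := key.2 ⟨n, by rw [← map_smul, hn, map_zero]⟩
    refine ⟨(lcEquiv (a ⊔ Ideal.span {b}) (ModuleCat.of R M) i).symm z',
      (lcEquiv a (ModuleCat.of R M) i).injective ?_⟩
    refine (lcEquiv_HmapOfLE (le_sup_left : a ≤ a ⊔ Ideal.span {b}) (ModuleCat.of R M) i _).trans ?_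
    rw [LinearEquiv.apply_symm_apply]
    exact hz'

theorem nonempty_ker_HmapOfLE_equiv_ker_ofLE (i : ℕ) :
    Nonempty (LinearMap.ker ((Dual2.HmapOfLE (le_sup_left : a ≤ a ⊔ Ideal.span {b}) i).app
      (ModuleCat.of R M)).hom ≃ₗ[R]
      LinearMap.ker (HH.ofLE (le_sup_span_left a b) (ModuleCat.of R M) i)) :=
  nonempty_kerEquiv _ _ (lcEquiv (a ⊔ Ideal.span {b}) (ModuleCat.of R M) i).toLinearMap
    (lcEquiv a (ModuleCat.of R M) i).toLinearMap
    (lcEquiv (a ⊔ Ideal.span {b}) (ModuleCat.of R M) i).bijective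
    (lcEquiv a (ModuleCat.of R M) i).injective
    (fun x => (lcEquiv_HmapOfLE (le_sup_span_left a b) (ModuleCat.of R M) i x).symm)

/-- `ker (H^{i+1}_{a+bR}(M) → H^{i+1}_a(M)) ≃ H^1_{bR}(H^i_a(M))`. -/
theorem nonempty_ker_HmapOfLE_equiv (i : ℕ) :
    Nonempty (LinearMap.ker ((Dual2.HmapOfLE (le_sup_left : a ≤ a ⊔ Ideal.span {b}) (i + 1)).app
      (ModuleCat.of R M)).hom ≃ₗ[R] LocCoh.H (Ideal.span {b}) 1 (LocCoh.H a i M)) := by
  obtain ⟨e1⟩ := nonempty_ker_HmapOfLE_equiv_ker_ofLE a b M (i + 1)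
  obtain ⟨e2⟩ := nonempty_ker_ofLE_equiv a b i (ModuleCat.of R M)
  let e3 : HH (Ideal.span {b}) (ModuleCat.of R (HH a (ModuleCat.of R M) i)) 1 ≃ₗ[R]
      HH (Ideal.span {b}) (ModuleCat.of R (LocCoh.H a i M)) 1 :=
    HH.mapIso (Ideal.span {b}) (lcEquiv a (ModuleCat.of R M) i).symm.toModuleIso 1
  exact ⟨e1.trans (e2.trans (e3.trans
    (lcEquiv (Ideal.span {b}) (ModuleCat.of R (LocCoh.H a i M)) 1).symm))⟩

/-- exactness of `H^i_{a+bR}(M) → H^i_a(M) → H^i_a(M_b)`. -/
theorem exact_HmapOfLE_map_loc (i : ℕ) :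
    Function.Exact ((Dual2.HmapOfLE (le_sup_left : a ≤ a ⊔ Ideal.span {b}) i).app
      (ModuleCat.of R M)).hom
      ((localCohomology a i).map (ModuleCat.ofHom
        (LocalizedModule.mkLinearMap (Submonoid.powers b) M))).hom := by
  intro y
  have hnat : lcEquiv a (locObj b (ModuleCat.of R M)) i
      (((localCohomology a i).map (ModuleCat.ofHom
        (LocalizedModule.mkLinearMap (Submonoid.powers b) M))).hom y) =
      HH.map a (locHom b (ModuleCat.of R M)) i (lcEquiv a (ModuleCat.of R M) i y) :=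
    lcEquiv_map a (locHom b (ModuleCat.of R M)) i y
  have hex := HH.exact_ofLE_map_locHom a b (ModuleCat.of R M) i (lcEquiv a (ModuleCat.of R M) i y)
  constructor
  · intro h0
    have h1 : HH.map a (locHom b (ModuleCat.of R M)) i (lcEquiv a (ModuleCat.of R M) i y) = 0 := by
      rw [← hnat, h0, map_zero]
    obtain ⟨z', hz'⟩ := hex.1 h1
    refine ⟨(lcEquiv (a ⊔ Ideal.span {b}) (ModuleCat.of R M) i).symm z',
      (lcEquiv a (ModuleCat.of R M) i).injective ?_⟩
    refine (lcEquiv_HmapOfLE (le_sup_left : a ≤ a ⊔ Ideal.span {b}) (ModuleCat.of R M) i _).trans ?_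
    rw [LinearEquiv.apply_symm_apply]
    exact hz'
  · rintro ⟨z, hz⟩
    apply (lcEquiv a (locObj b (ModuleCat.of R M)) i).injective
    rw [map_zero]
    refine hnat.trans ?_
    apply hex.2
    refine ⟨lcEquiv (a ⊔ Ideal.span {b}) (ModuleCat.of R M) i z, ?_⟩
    rw [← hz]
    exact (lcEquiv_HmapOfLE (le_sup_left : a ≤ a ⊔ Ideal.span {b}) (ModuleCat.of R M) i z).symm

theorem HmapOfLE_injective_zero :
    Function.Injective ((Dual2.HmapOfLE (le_sup_left : a ≤ a ⊔ Ideal.span {b}) 0).app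
      (ModuleCat.of R M)).hom := by
  intro x y hxy
  apply (lcEquiv (a ⊔ Ideal.span {b}) (ModuleCat.of R M) 0).injective
  apply HH.ofLE_injective_zero (le_sup_span_left a b) (ModuleCat.of R M)
  refine (lcEquiv_HmapOfLE (le_sup_span_left a b) (ModuleCat.of R M) 0 x).symm.trans ?_
  refine Eq.trans ?_ (lcEquiv_HmapOfLE (le_sup_span_left a b) (ModuleCat.of R M) 0 y)
  exact congrArg _ hxy

/-- `coker (H^i_a(M) → H^i_a(M_b)) ≃ ker (H^{i+1}_{a+bR}(M) → H^{i+1}_a(M))`. -/
theorem nonempty_coker_loc_equiv (i : ℕ) :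
    Nonempty ((LocCoh.H a i (LocalizedModule (Submonoid.powers b) M) ⧸
      LinearMap.range ((localCohomology a i).map (ModuleCat.ofHom
        (LocalizedModule.mkLinearMap (Submonoid.powers b) M))).hom) ≃ₗ[R]
      LinearMap.ker ((Dual2.HmapOfLE (le_sup_left : a ≤ a ⊔ Ideal.span {b}) (i + 1)).app
        (ModuleCat.of R M)).hom) := by
  obtain ⟨e1⟩ := nonempty_coker_equiv_ker a b (ModuleCat.of R M) i
  obtain ⟨e2⟩ := nonempty_ker_HmapOfLE_equiv_ker_ofLE a b M (i + 1)
  let eU := lcEquiv a (ModuleCat.of R M) i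
  let eU' := lcEquiv a (locObj b (ModuleCat.of R M)) i
  have hnat : ∀ y, eU' (((localCohomology a i).map (ModuleCat.ofHom
      (LocalizedModule.mkLinearMap (Submonoid.powers b) M))).hom y) =
      HH.map a (locHom b (ModuleCat.of R M)) i (eU y) :=
    fun y => lcEquiv_map a (locHom b (ModuleCat.of R M)) i y
  have hmap : Submodule.map eU'.toLinearMap
      (LinearMap.range ((localCohomology a i).map (ModuleCat.ofHom
        (LocalizedModule.mkLinearMap (Submonoid.powers b) M))).hom) =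
      LinearMap.range (HH.map a (locHom b (ModuleCat.of R M)) i) := by
    apply le_antisymm
    · rintro _ ⟨_, ⟨y, rfl⟩, rfl⟩
      exact ⟨eU y, (hnat y).symm⟩
    · rintro _ ⟨z, rfl⟩
      refine ⟨_, ⟨eU.symm z, rfl⟩, ?_⟩
      refine (hnat (eU.symm z)).trans ?_
      rw [LinearEquiv.apply_symm_apply]
  exact ⟨(Submodule.Quotient.equiv _ _ eU' hmap).trans (e1.trans e2.symm)⟩

end Groth.Agent.Lib.Helper4.LC
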