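import Groth.Agent.Lib.Helper4.LC5

/-!
# Uniform vanishing of transition maps above the cohomological dimension (helper4)

* `exists_universal_ext`: every `Ext^j(X, -)` has a universal class.
* `exists_precomp_eq_zero`: if `cd(I) ≤ e`, for every `n` there is `m > n` such that
  `Ext^i(R/I^n, N) → Ext^i(R/I^m, N)` vanishes for all `N` and all `i > e`.
-/

set_option autoImplicit false
set_option linter.style.haveILetI false
set_option linter.unusedSectionVars false
set_option maxHeartbeats 400000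

open CategoryTheory Limits Opposite Abelian

universe u

namespace Groth.Agent.Lib.Helper4.LC

variable {R : Type u} [CommRing R]

/-- every `Ext^j(X, -)` has a universal class. -/
theorem exists_universal_ext (j : ℕ) : ∀ (X : ModuleCat.{u} R),
    ∃ (K : ModuleCat.{u} R) (U : Ext.{u} X K j), ∀ (N : ModuleCat.{u} R) (ξ : Ext.{u} X N j),
      ∃ f : K ⟶ N, U.comp (Ext.mk₀ f) (add_zero j) = ξ := by
  induction j with
  | zero =>
    intro X
    refine ⟨X, Ext.mk₀ (𝟙 X), fun N ξ => ?_⟩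
    obtain ⟨f, rfl⟩ := (Ext.mk₀_bijective X N).2 ξ
    exact ⟨f, by rw [Ext.mk₀_comp_mk₀, Category.id_comp]⟩
  | succ j ih =>
    intro X
    let S := ShortComplex.mk _ _ (kernel.condition (Projective.π X))
    have hS : S.ShortExact :=
      { exact := ShortComplex.exact_of_f_is_kernel _ (kernelIsKernel S.g) }
    obtain ⟨K, U', hU'⟩ := ih S.X₁
    refine ⟨K, hS.extClass.comp U' (add_comm 1 j), fun N ξ => ?_⟩
    obtain ⟨η, hη⟩ := Ext.contravariant_sequence_exact₃ hS N ξ (Ext.eq_zero_of_projective _)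
      (add_comm 1 j)
    obtain ⟨f, hf⟩ := hU' N η
    refine ⟨f, ?_⟩
    rw [← hη, ← hf]
    exact Ext.comp_assoc_of_third_deg_zero hS.extClass U' (Ext.mk₀ f) (add_comm 1 j)

lemma tr_eq_zero_step {S : ShortComplex (ModuleCat.{u} R)} (hS : S.ShortExact) [Injective S.X₂]
    (I : Ideal R) {n m : ℕ} (h : n ≤ m) (j : ℕ)
    (ih : ∀ η : Ext.{u} (Q I n) S.X₃ j, tr I S.X₃ j h η = 0)
    (ξ : Ext.{u} (Q I n) S.X₁ (j + 1)) : tr I S.X₁ (j + 1) h ξ = 0 := by
  obtain ⟨η, hη⟩ := Ext.covariant_sequence_exact₁ (Q I n) hS ξ (Ext.eq_zero_of_injective _) rfl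
  rw [← hη, tr_apply]
  have h1 := Ext.comp_assoc (Ext.mk₀ (qmap I h)) η hS.extClass (zero_add j) rfl
    (by omega : 0 + j + 1 = j + 1)
  rw [← h1]
  have h2 := ih η
  rw [tr_apply] at h2
  rw [h2, Ext.zero_comp]

/-- if `H^i_I = 0` for `i > e`, then for every `n` there is `m ≥ n` such that the transition maps
`Ext^i(R/I^n, N) → Ext^i(R/I^m, N)` vanish for all `N` and `i > e`. -/
theorem exists_tr_eq_zero_of_cd (I : Ideal R) (e : ℕ)
    (he : ∀ (M : ModuleCat.{u} R) (i : ℕ), e < i → Subsingleton (HH I M i)) (n : ℕ) :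
    ∃ m, ∃ h : n ≤ m, ∀ (N : ModuleCat.{u} R) (i : ℕ), e < i →
      ∀ ξ : Ext.{u} (Q I n) N i, tr I N i h ξ = 0 := by
  obtain ⟨K, U, hU⟩ := exists_universal_ext (e + 1) (Q I n)
  have h0 : HH.of I K (e + 1) n U = 0 := (he K (e + 1) (Nat.lt_succ_self e)).elim _ _
  obtain ⟨m, hnm, hm⟩ := (HH.of_eq_zero_iff I K (e + 1) U).1 h0
  refine ⟨m, hnm, ?_⟩
  have key : ∀ r : ℕ, ∀ (N : ModuleCat.{u} R) (ξ : Ext.{u} (Q I n) N (e + 1 + r)),
      tr I N (e + 1 + r) hnm ξ = 0 := by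
    intro r
    induction r with
    | zero =>
      intro N ξ
      obtain ⟨f, hf⟩ := hU N ξ
      rw [tr_apply] at hm
      have h1 : (Ext.mk₀ (qmap I hnm)).comp ξ (zero_add (e + 1)) =
          ((Ext.mk₀ (qmap I hnm)).comp U (zero_add (e + 1))).comp (Ext.mk₀ f)
            (add_zero (e + 1)) := by
        rw [← hf]
        exact (Ext.comp_assoc_of_third_deg_zero (Ext.mk₀ (qmap I hnm)) U (Ext.mk₀ f)
          (zero_add (e + 1))).symm
      rw [hm, Ext.zero_comp] at h1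
      exact h1
    | succ r ih =>
      intro N ξ
      exact tr_eq_zero_step (injSES_shortExact N) I hnm (e + 1 + r) (fun η => ih _ η) ξ
  intro N i hi ξ
  obtain ⟨r, rfl⟩ : ∃ r, i = e + 1 + r := ⟨i - (e + 1), by omega⟩
  exact key r N ξ

/-- `S1744` in terms of `Ext`. -/
theorem exists_precomp_eq_zero {A : Type u} [CommRing A] [IsNoetherianRing A] (I : Ideal A) (e : ℕ)
    (he : LocCoh.CdLE A I e) (n : ℕ) :
    ∃ (m : ℕ) (hm : n < m), ∀ (N : Type u) [AddCommGroup N] [Module A N] (i : ℕ), e < i →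
      ∀ ξ : Ext.{u} (Q I n) (ModuleCat.of A N) i,
        (Ext.mk₀ (qmap I (Nat.le_of_lt hm))).comp ξ (zero_add i) = 0 := by
  obtain ⟨m', hnm', hm'⟩ := exists_tr_eq_zero_of_cd I e (fun M i hi => cdLE_HH he M i hi) n
  refine ⟨m' + 1, Nat.lt_succ_of_le hnm', fun N _ _ i hi ξ => ?_⟩
  have h1 := hm' (ModuleCat.of A N) i hi ξ
  rw [tr_apply] at h1
  have h2 : qmap I (Nat.le_succ m') ≫ qmap I hnm' = qmap I (Nat.le_of_lt (Nat.lt_succ_of_le hnm')) :=
    qmap_comp I hnm' (Nat.le_succ m')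
  rw [← h2, ← Ext.mk₀_comp_mk₀_assoc, h1, Ext.comp_zero]

end Groth.Agent.Lib.Helper4.LC
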