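import Groth.Agent.Lib.Helper4.LC9
import Groth.Prelude.Def_DualLC

/-!
# Local cohomology: change of ideal (`HH.ofLE`), compatibility with `Dual2.HmapOfLE`,
naturality of the connecting homomorphism (helper4)
-/

set_option autoImplicit false
set_option linter.style.haveILetI false
set_option linter.unusedSectionVars false
set_option maxHeartbeats 400000

open CategoryTheory Limits Opposite Abelian

universe u

namespace Groth.Agent.Lib.Helper4.LC

open Groth.Agent.Lib.Helper4.LCBridge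

variable {R : Type u} [CommRing R]

/-! ### change of ideal -/

section ofLE

variable {I I' : Ideal R} (h : I ≤ I')

/-- the surjection `R ⧸ I^n ⟶ R ⧸ I'^n` for `I ≤ I'`. -/
def qmapLE (n : ℕ) : Q I n ⟶ Q I' n :=
  ModuleCat.ofHom (Submodule.mapQ (I ^ n) (I' ^ n) LinearMap.id (Ideal.pow_right_mono h n))

lemma qmapLE_apply (n : ℕ) (r : R) :
    (qmapLE h n).hom (Submodule.Quotient.mk r) = Submodule.Quotient.mk r := rfl

lemma qmapLE_comm {n m : ℕ} (hnm : n ≤ m) :
    qmap I hnm ≫ qmapLE h n = qmapLE h m ≫ qmap I' hnm := by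
  apply ModuleCat.hom_ext
  apply LinearMap.ext
  intro x
  obtain ⟨x, rfl⟩ := Submodule.Quotient.mk_surjective _ x
  rfl

lemma qmapLE_eq (n : ℕ) : qmapLE h n = (Dual2.quotMapOfLE h).app (op n) := rfl

variable (M : ModuleCat.{u} R) (i : ℕ)

/-- precomposition with `R ⧸ I^n ⟶ R ⧸ I'^n` at the `n`-th stage. -/
noncomputable def leF (n : ℕ) : Ext.{u} (Q I' n) M i →ₗ[R] Ext.{u} (Q I n) M i :=
  Ext.precompOfLinear (Ext.mk₀ (qmapLE h n)) R M (zero_add i)

lemma leF_apply (n : ℕ) (y : Ext.{u} (Q I' n) M i) :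
    leF h M i n y = (Ext.mk₀ (qmapLE h n)).comp y (zero_add i) := rfl

lemma leF_comm (n m : ℕ) (hnm : n ≤ m) :
    leF h M i m ∘ₗ trF I' M i n m hnm = trF I M i n m hnm ∘ₗ leF h M i n := by
  apply LinearMap.ext
  intro y
  change (Ext.mk₀ (qmapLE h m)).comp ((Ext.mk₀ (qmap I' hnm)).comp y (zero_add i)) (zero_add i) =
    (Ext.mk₀ (qmap I hnm)).comp ((Ext.mk₀ (qmapLE h n)).comp y (zero_add i)) (zero_add i)
  rw [Ext.mk₀_comp_mk₀_assoc, Ext.mk₀_comp_mk₀_assoc, qmapLE_comm]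

/-- the comparison map `H^i_{I'}(M) → H^i_I(M)` for `I ≤ I'` in the model. -/
noncomputable def HH.ofLE : HH I' M i →ₗ[R] HH I M i :=
  Module.DirectLimit.map (f := trF I' M i) (f' := trF I M i) (leF h M i) (leF_comm h M i)

lemma HH.ofLE_of (n : ℕ) (y : Ext.{u} (Q I' n) M i) :
    HH.ofLE h M i (HH.of I' M i n y) =
      HH.of I M i n ((Ext.mk₀ (qmapLE h n)).comp y (zero_add i)) :=
  Module.DirectLimit.map_apply_of (f := trF I' M i) (f' := trF I M i) (leF h M i)
    (leF_comm h M i) y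

variable {M} in
/-- naturality of the comparison map in the module. -/
lemma HH.ofLE_map {M' : ModuleCat.{u} R} (g : M ⟶ M') (x : HH I' M i) :
    HH.ofLE h M' i (HH.map I' g i x) = HH.map I g i (HH.ofLE h M i x) := by
  obtain ⟨n, y, rfl⟩ := HH.exists_of I' M i x
  rw [HH.map_of, HH.ofLE_of, HH.ofLE_of, HH.map_of, Ext.comp_assoc_of_third_deg_zero]

/-- the comparison map commutes with connecting homomorphisms. -/
lemma HH.ofLE_δ {S : ShortComplex (ModuleCat.{u} R)} (hS : S.ShortExact) (x : HH I' S.X₃ i) :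
    HH.ofLE h S.X₁ (i + 1) (HH.δ I' hS i x) = HH.δ I hS i (HH.ofLE h S.X₃ i x) := by
  obtain ⟨n, y, rfl⟩ := HH.exists_of I' S.X₃ i x
  rw [HH.δ_of, HH.ofLE_of, HH.ofLE_of, HH.δ_of]
  congr 1
  exact (Ext.comp_assoc (Ext.mk₀ (qmapLE h n)) y hS.extClass (zero_add i) rfl (by omega)).symm

/-- in degree zero the comparison map is the inclusion `Γ_{I'}(M) ⊆ Γ_I(M)`. -/
lemma HH0_ofLE (z : HH I' M 0) : HH0 I M (HH.ofLE h M 0 z) = HH0 I' M z := by
  obtain ⟨n, y, rfl⟩ := HH.exists_of I' M 0 z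
  obtain ⟨φ, rfl⟩ := (Ext.mk₀_bijective (Q I' n) M).2 y
  rw [HH.ofLE_of, HH0_of, HH0_of, Ext.mk₀_comp_mk₀, ev0_mk₀, ev0_mk₀]
  rfl

lemma HH.ofLE_injective_zero : Function.Injective (HH.ofLE h M 0) := by
  intro a b hab
  apply HH0_injective I' M
  rw [← HH0_ofLE h M a, ← HH0_ofLE h M b, hab]

end ofLE

/-! ### naturality of the connecting homomorphism -/

section deltaNat

variable (I : Ideal R) {S S' : ShortComplex (ModuleCat.{u} R)} (hS : S.ShortExact)
  (hS' : S'.ShortExact) (φ : S ⟶ S') (i : ℕ)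

lemma HH.map_δ (x : HH I S.X₃ i) :
    HH.map I φ.τ₁ (i + 1) (HH.δ I hS i x) = HH.δ I hS' i (HH.map I φ.τ₃ i x) := by
  obtain ⟨n, y, rfl⟩ := HH.exists_of I S.X₃ i x
  rw [HH.δ_of, HH.map_of, HH.map_of, HH.δ_of, Ext.comp_assoc_of_third_deg_zero,
    ShortComplex.ShortExact.extClass_naturality hS hS' φ, Ext.comp_assoc_of_second_deg_zero]

end deltaNat

end Groth.Agent.Lib.Helper4.LC
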