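import Groth.Agent.Lib.Helper4.LC8

/-!
# The bridge between `Dual2.HmapOfLE` and `HH.ofLE` (helper4)
-/

set_option autoImplicit false
set_option maxHeartbeats 400000

open CategoryTheory Limits Opposite Abelian

universe u

namespace Groth.Agent.Lib.Helper4.LC

open Groth.Agent.Lib.Helper4.LCBridge

variable {R : Type u} [CommRing R]

variable {I I' : Ideal R} (h : I ≤ I') (M : ModuleCat.{u} R) (i : ℕ)

set_option maxHeartbeats 4000000 in
/-- compatibility with the categorical comparison map `Dual2.HmapOfLE`. -/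
lemma lcι_HmapOfLE (n : ℕ) (x : ((Ext R (ModuleCat.{u} R) i).obj (op (Q I' n))).obj M) :
    ((Dual2.HmapOfLE h i).app M).hom (lcι I' M i n x) =
      lcι I M i n ((((Ext R (ModuleCat.{u} R) i).map (qmapLE h n).op).app M).hom x) := by
  have hw := ι_colimMap (Functor.whiskerRight (NatTrans.op (Dual2.quotMapOfLE h))
    (Ext R (ModuleCat.{u} R) i)) (op (op n))
  have h2 := congrArg (fun f => f.app M) hw
  simp only [NatTrans.comp_app] at h2
  have h3 := congrArg (fun f => f.hom x) h2
  simp only [ModuleCat.hom_comp] at h3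
  exact h3

/-- **the bridge**: under `lcEquiv`, `Dual2.HmapOfLE` is `HH.ofLE`. -/
lemma lcEquiv_HmapOfLE (x : (localCohomology I' i).obj M) :
    lcEquiv I M i (((Dual2.HmapOfLE h i).app M).hom x) = HH.ofLE h M i (lcEquiv I' M i x) := by
  have key : (lcEquiv I M i).toLinearMap ∘ₗ ((Dual2.HmapOfLE h i).app M).hom =
      HH.ofLE h M i ∘ₗ (lcEquiv I' M i).toLinearMap := by
    apply lc_hom_ext
    intro n x
    change lcEquiv I M i (((Dual2.HmapOfLE h i).app M).hom (lcι I' M i n x)) =
      HH.ofLE h M i (lcEquiv I' M i (lcι I' M i n x))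
    rw [lcι_HmapOfLE, lcEquiv_lcι, lcEquiv_lcι, HH.ofLE_of,
      extBridge_map_left.{u, u, u + 1, u} (R := R) (qmapLE h n) M i x]
  exact congrArg (fun f => f x) key

end Groth.Agent.Lib.Helper4.LC
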