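import Groth.Agent.Lib.Helper4.LD1
import Groth.Agent.Lib.Helper4.RegCM
import Groth.Agent.Lib.Helper4.Matlis
import Groth.Agent.Lib.Helper1.InjHullLib
import Groth.Agent.Lib.Helper1.InjHullLib2
import Groth.Agent.S0563

/-!
# Rees isomorphisms, `Ext^n(k, A) ≃ k` for a regular local ring, and an injectivity criterion for
power-torsion modules (helper4)
-/

set_option autoImplicit false
set_option linter.style.haveILetI false
set_option linter.unusedSectionVars false
set_option linter.unusedVariables false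
set_option maxHeartbeats 400000

open CategoryTheory Limits Opposite Abelian IsLocalRing

universe u

namespace Groth.Agent.Lib.Helper4.LC

open Groth.Agent.Lib.Helper4

section rees

variable {R : Type u} [CommRing R]

/-- **Rees**: `Ext^i(N, M/aM) ≃ Ext^{i+1}(N, M)` if `aN = 0`, `a` is `M`-regular and
`Ext^i(N, M) = 0`. -/
theorem nonempty_ext_quotSMulTop_equiv {N M : ModuleCat.{u} R} (a : R)
    (ha : a ∈ Module.annihilator R N) (hreg : IsSMulRegular M a) (i : ℕ)
    (h0 : Subsingleton (Ext.{u} N M i)) :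
    Nonempty (Ext.{u} N (ModuleCat.of R (QuotSMulTop a M)) i ≃ₗ[R] Ext.{u} N M (i + 1)) := by
  have hS : (M.smulShortComplex a).ShortExact := hreg.smulShortComplex_shortExact
  refine ⟨LinearEquiv.ofBijective
    (Ext.postcompOfLinear hS.extClass R N (rfl : i + 1 = i + 1)) ⟨?_, ?_⟩⟩
  · rw [injective_iff_map_eq_zero]
    intro x₃ hx₃
    obtain ⟨x₂, hx₂⟩ := Ext.covariant_sequence_exact₃ N hS x₃ rfl hx₃
    haveI : Subsingleton (Ext.{u} N (M.smulShortComplex a).X₂ i) := h0
    rw [← hx₂, Subsingleton.elim x₂ 0, Ext.zero_comp]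
  · intro x₁
    have key : ∀ y : Ext.{u} N M (i + 1),
        y.comp (Ext.mk₀ (a • 𝟙 M)) (add_zero (i + 1)) = 0 := by
      intro y
      rw [← Ext.smul_eq_comp_mk₀]
      exact ext_smul_eq_zero_of_mem_annihilator_left ha y
    refine Ext.covariant_sequence_exact₁ N hS x₁ ?_ rfl
    rw [ModuleCat.smulShortComplex_f_eq_smul_id]
    exact key x₁

variable [IsLocalRing R] [IsNoetherianRing R]

lemma support_residue_subset :
    Module.support R (R ⧸ maximalIdeal R) ⊆ PrimeSpectrum.zeroLocus (maximalIdeal R : Set R) := by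
  rw [Module.support_eq_zeroLocus, Ideal.annihilator_quotient]

/-- iterated Rees isomorphism along a regular sequence in the maximal ideal. -/
theorem nonempty_ext_residue_chain :
    ∀ (rs : List R) (M : Type u) [AddCommGroup M] [Module R M] [Module.Finite R M],
    (∀ r ∈ rs, r ∈ maximalIdeal R) → RingTheory.Sequence.IsRegular M rs →
    Nonempty (Ext.{u} (ModuleCat.of R (R ⧸ maximalIdeal R))
        (ModuleCat.of R (M ⧸ Ideal.ofList rs • (⊤ : Submodule R M))) 0 ≃ₗ[R]
      Ext.{u} (ModuleCat.of R (R ⧸ maximalIdeal R)) (ModuleCat.of R M) rs.length) := by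
  intro rs
  induction rs with
  | nil =>
    intro M _ _ _ _ _
    have hbot : (Ideal.ofList ([] : List R) • (⊤ : Submodule R M)) = ⊥ := by
      rw [Ideal.ofList_nil, Submodule.bot_smul]
    exact ⟨extCongrRight _ (Submodule.quotEquivOfEqBot _ hbot).toModuleIso 0⟩
  | cons a rs ih =>
    intro M _ _ _ hmem hreg
    obtain ⟨hareg, hrs⟩ := (RingTheory.Sequence.isRegular_cons_iff M a rs).1 hreg
    obtain ⟨e1⟩ := ih (QuotSMulTop a M) (fun r hr => hmem r (List.mem_cons_of_mem a hr)) hrs
    have hlen : ((a :: rs).length : ℕ∞) ≤ LocCoh.idealDepth (maximalIdeal R) M :=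
      length_le_idealDepth (maximalIdeal R) (a :: rs) hreg.toIsWeaklyRegular hmem
    have h0 : Subsingleton (Ext.{u} (ModuleCat.of R (R ⧸ maximalIdeal R)) (ModuleCat.of R M)
        rs.length) := by
      apply subsingleton_ext_of_lt_idealDepth (maximalIdeal R) _ support_residue_subset
        (ModuleCat.of R M) rs.length
      refine lt_of_lt_of_le ?_ hlen
      rw [List.length_cons]
      exact_mod_cast Nat.lt_succ_self _
    have ha : a ∈ Module.annihilator R (ModuleCat.of R (R ⧸ maximalIdeal R)) := by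
      change a ∈ Module.annihilator R (R ⧸ maximalIdeal R)
      rw [Ideal.annihilator_quotient]
      exact hmem a List.mem_cons_self
    obtain ⟨e2⟩ := nonempty_ext_quotSMulTop_equiv
      (N := ModuleCat.of R (R ⧸ maximalIdeal R)) (M := ModuleCat.of R M) a ha hareg rs.length h0
    have e3 := (Submodule.quotOfListConsSMulTopEquivQuotSMulTopInner M a rs).toModuleIso
    exact ⟨(extCongrRight _ e3 0).trans (e1.trans e2)⟩

/-- `End(R/I) ≃ R/I`. -/
noncomputable def endQuotEquiv (I : Ideal R) : ((R ⧸ I) →ₗ[R] (R ⧸ I)) ≃ₗ[R] (R ⧸ I) :=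
  LinearEquiv.ofBijective (LinearMap.applyₗ (1 : R ⧸ I))
    ⟨by
      rw [injective_iff_map_eq_zero]
      intro φ hφ
      change φ 1 = 0 at hφ
      apply LinearMap.ext
      intro y
      obtain ⟨r, rfl⟩ := Ideal.Quotient.mk_surjective y
      have h1 : Ideal.Quotient.mk I r = r • (1 : R ⧸ I) := by
        rw [Algebra.smul_def, mul_one]; rfl
      rw [h1, map_smul, hφ, smul_zero, LinearMap.zero_apply],
    by
      intro c
      refine ⟨LinearMap.mulLeft R c, ?_⟩
      change c * 1 = c
      rw [mul_one]⟩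

end rees

section regular

variable (A : Type u) [CommRing A] [IsRegularLocalRing A]

/-- over a regular local ring of dimension `n`, `Ext^j` vanishes for `j > n`. -/
lemma subsingleton_ext_of_gt (n : ℕ) (hn : ringKrullDim A = n) (X : Type u) [AddCommGroup X]
    [Module A X] (Y : ModuleCat.{u} A) (j : ℕ) (hj : n < j) :
    Subsingleton (Ext.{u} (ModuleCat.of A X) Y j) := by
  haveI := Groth.Agent.S0563.result A n hn X
  exact HasProjectiveDimensionLT.subsingleton (ModuleCat.of A X) (n + 1) j hj Y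

/-- `Ext^n(k, A) ≃ k` for a regular local ring of dimension `n`. -/
theorem nonempty_ext_residue_self_equiv (n : ℕ) (hn : ringKrullDim A = n) :
    Nonempty (Ext.{u} (ModuleCat.of A (A ⧸ maximalIdeal A)) (ModuleCat.of A A) n ≃ₗ[A]
      (A ⧸ maximalIdeal A)) := by
  obtain ⟨x, hx, hreg⟩ := RegCM.exists_regular_system A n hn
  have hmem : ∀ r ∈ List.ofFn x, r ∈ maximalIdeal A := by
    intro r hr
    rw [List.mem_ofFn] at hr
    obtain ⟨i, rfl⟩ := hr
    exact hx ▸ Ideal.subset_span ⟨i, rfl⟩
  obtain ⟨e1⟩ := nonempty_ext_residue_chain (List.ofFn x) A hmem hreg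
  have hlen : (List.ofFn x).length = n := List.length_ofFn
  rw [hlen] at e1
  have hI : (Ideal.ofList (List.ofFn x) • (⊤ : Submodule A A)) = maximalIdeal A := by
    rw [smul_eq_mul, Ideal.mul_top, ← hx]
    unfold Ideal.ofList
    congr 1
    ext r
    simp [List.mem_ofFn]
  have e2 : ModuleCat.of A (A ⧸ Ideal.ofList (List.ofFn x) • (⊤ : Submodule A A)) ≅
      ModuleCat.of A (A ⧸ maximalIdeal A) := (Submodule.quotEquivOfEq _ _ hI).toModuleIso
  have e3 : Ext.{u} (ModuleCat.of A (A ⧸ maximalIdeal A)) (ModuleCat.of A (A ⧸ maximalIdeal A)) 0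
      ≃ₗ[A] (A ⧸ maximalIdeal A) :=
    (Ext.linearEquiv₀ (R := A)).trans
      ((ModuleCat.homLinearEquiv (S := A)).trans (endQuotEquiv (maximalIdeal A)))
  exact ⟨e1.symm.trans ((extCongrRight _ e2 0).trans e3)⟩

end regular

section injective

variable {A : Type u} [CommRing A] [IsLocalRing A] [IsNoetherianRing A]

/-- a nonzero element of a power-torsion module has a nonzero multiple in the socle. -/
lemma exists_smul_ne_zero_socle {E : Type*} [AddCommGroup E] [Module A E]
    (hpt : LocCoh.IsPowerTorsion (maximalIdeal A) E) (x : E) (hx0 : x ≠ 0) :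
    ∃ a : A, a • x ≠ 0 ∧ ∀ b ∈ maximalIdeal A, b • (a • x) = 0 := by
  classical
  have hex := hpt x
  have hn0 : Nat.find hex ≠ 0 := by
    intro h0
    have h1 := Nat.find_spec hex
    rw [h0, pow_zero, Ideal.one_eq_top] at h1
    apply hx0
    have h2 := h1 1 Submodule.mem_top
    rwa [one_smul] at h2
  obtain ⟨k, hk⟩ := Nat.exists_eq_succ_of_ne_zero hn0
  have hmin : ¬ ∀ a ∈ maximalIdeal A ^ k, a • x = 0 :=
    Nat.find_min hex (by rw [hk]; exact Nat.lt_succ_self k)
  push_neg at hmin
  obtain ⟨a, ha, hax⟩ := hmin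
  refine ⟨a, hax, fun b hb => ?_⟩
  rw [smul_smul]
  have h1 := Nat.find_spec hex
  rw [hk] at h1
  exact h1 (b * a) (by rw [pow_succ']; exact Ideal.mul_mem_mul hb ha)

/-- an essential extension of a power-torsion module inside an injective module is power
torsion. -/
lemma isPowerTorsion_of_isInjectiveHull (I : Ideal A) {H Q : Type u} [AddCommGroup H] [Module A H]
    [AddCommGroup Q] [Module A Q] (htors : LocCoh.IsPowerTorsion I H) (f : H →ₗ[A] Q)
    (hf : InjHull.IsInjectiveHull f) : LocCoh.IsPowerTorsion I Q := by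
  haveI := hf.isInjective
  haveI : Module.Injective A (DRing.torsionSub I Q) := injective_torsionSub I Q
  obtain ⟨r, hr⟩ := Module.Injective.extension_property A (DRing.torsionSub I Q)
    (DRing.torsionSub I Q) Q (DRing.torsionSub I Q).subtype (Submodule.injective_subtype _)
    LinearMap.id
  have hr' : ∀ t : DRing.torsionSub I Q, r (t : Q) = t := fun t =>
    LinearMap.congr_fun hr t
  have hfT : ∀ h : H, f h ∈ DRing.torsionSub I Q := by
    intro h
    obtain ⟨k, hk⟩ := htors h
    exact ⟨k, fun a ha => by rw [← map_smul, hk a ha, map_zero]⟩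
  have hker : LinearMap.ker r ⊓ LinearMap.range f = ⊥ := by
    rw [eq_bot_iff]
    rintro y ⟨hy1, ⟨h, rfl⟩⟩
    rw [SetLike.mem_coe, LinearMap.mem_ker] at hy1
    have h2 := hr' ⟨f h, hfT h⟩
    rw [hy1] at h2
    have h3 : f h = 0 := by
      have := congrArg Subtype.val h2
      simpa using this.symm
    rw [h3]
    exact Submodule.zero_mem _
  have hk0 : LinearMap.ker r = ⊥ := by
    by_contra hne
    exact hf.essential _ hne hker
  intro x
  have hx : x - ((r x : DRing.torsionSub I Q) : Q) ∈ LinearMap.ker r := by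
    rw [LinearMap.mem_ker, map_sub, hr', sub_self]
  rw [hk0, Submodule.mem_bot, sub_eq_zero] at hx
  have hxT : x ∈ DRing.torsionSub I Q := by
    rw [hx]; exact (r x).2
  exact hxT

/-- **Injectivity criterion**: an `m`-power torsion module `H` over a Noetherian local ring with
`Ext^1(k, H) = 0` is injective. -/
theorem injective_of_ext_one_residue (H : Type u) [AddCommGroup H] [Module A H]
    (htors : LocCoh.IsPowerTorsion (maximalIdeal A) H)
    (hext : Subsingleton
      (Ext.{u} (ModuleCat.of A (A ⧸ maximalIdeal A)) (ModuleCat.of A H) 1)) :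
    Module.Injective A H := by
  obtain ⟨Q, _, _, f, hf⟩ := Groth.Agent.Lib.Helper1.InjHullLib.exists_injective_hull A H
  haveI := hf.isInjective
  have hQ : LocCoh.IsPowerTorsion (maximalIdeal A) Q :=
    isPowerTorsion_of_isInjectiveHull (maximalIdeal A) htors f hf
  suffices hsurj : Function.Surjective f by
    have e : Q ≃ₗ[A] H := (LinearEquiv.ofBijective f ⟨hf.injective, hsurj⟩).symm
    exact Groth.Agent.Lib.Helper1.InjHullLib.injective_of_linearEquiv e
  by_contra hns
  have hrange : LinearMap.range f ≠ ⊤ := fun h => hns (LinearMap.range_eq_top.1 h)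
  -- a nonzero socle element of the cokernel
  have hCt : LocCoh.IsPowerTorsion (maximalIdeal A) (Q ⧸ LinearMap.range f) :=
    isPowerTorsion_of_surjective (maximalIdeal A) (LinearMap.range f).mkQ
      (Submodule.mkQ_surjective _) hQ
  obtain ⟨q₀, hq₀⟩ : ∃ q₀ : Q, q₀ ∉ LinearMap.range f := by
    by_contra hcon
    push_neg at hcon
    exact hrange (eq_top_iff.2 fun q _ => hcon q)
  have hc0 : (LinearMap.range f).mkQ q₀ ≠ 0 := by
    intro h0
    exact hq₀ ((Submodule.Quotient.mk_eq_zero _).1 h0)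
  obtain ⟨a, hac, hsoc⟩ := exists_smul_ne_zero_socle hCt _ hc0
  set c : Q ⧸ LinearMap.range f := a • (LinearMap.range f).mkQ q₀ with hc
  -- the map `k → C`
  have hle : maximalIdeal A ≤ LinearMap.ker (LinearMap.toSpanSingleton A (Q ⧸ LinearMap.range f) c) := by
    intro b hb
    rw [LinearMap.mem_ker, LinearMap.toSpanSingleton_apply]
    exact hsoc b hb
  let g : (A ⧸ maximalIdeal A) →ₗ[A] (Q ⧸ LinearMap.range f) :=
    Submodule.liftQ (maximalIdeal A) (LinearMap.toSpanSingleton A _ c) hle
  have hg1 : g (Submodule.Quotient.mk 1) = c := by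
    change Submodule.liftQ _ _ hle (Submodule.Quotient.mk 1) = c
    rw [Submodule.liftQ_apply, LinearMap.toSpanSingleton_apply, one_smul]
  have hex : Function.Exact f (LinearMap.range f).mkQ := LinearMap.exact_map_mkQ_range f
  have hS : (sesOf f (LinearMap.range f).mkQ hex).ShortExact :=
    sesOf_shortExact f _ hex hf.injective (Submodule.mkQ_surjective _)
  haveI : Subsingleton (Ext.{u} (ModuleCat.of A (A ⧸ maximalIdeal A))
      (sesOf f (LinearMap.range f).mkQ hex).X₁ 1) := hext
  obtain ⟨x₂, hx₂⟩ := Ext.covariant_sequence_exact₃ (ModuleCat.of A (A ⧸ maximalIdeal A)) hS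
    (Ext.mk₀ (ModuleCat.ofHom g)) rfl (Subsingleton.elim _ _)
  obtain ⟨ψ, rfl⟩ := (Ext.mk₀_bijective _ _).2 x₂
  rw [Ext.mk₀_comp_mk₀] at hx₂
  have h1 : ψ ≫ (sesOf f (LinearMap.range f).mkQ hex).g = ModuleCat.ofHom g :=
    (Ext.mk₀_bijective _ _).1 hx₂
  set q : Q := ψ.hom (Submodule.Quotient.mk 1) with hq
  have hπq : (LinearMap.range f).mkQ q = c := by
    have h2 := congrArg (fun φ => φ.hom (Submodule.Quotient.mk (1 : A))) h1
    exact h2.trans hg1
  have hqsoc : ∀ b ∈ maximalIdeal A, b • q = 0 := by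
    intro b hb
    rw [hq, ← map_smul]
    have h3 : b • (Submodule.Quotient.mk (1 : A) : A ⧸ maximalIdeal A) = 0 := by
      rw [← Submodule.Quotient.mk_smul, Submodule.Quotient.mk_eq_zero, smul_eq_mul, mul_one]
      exact hb
    rw [h3, map_zero]
  have hq0 : q ≠ 0 := by
    intro h0
    apply hac
    rw [← hπq, h0, map_zero]
  have hspan : Submodule.span A {q} ≠ ⊥ := by
    intro h0
    exact hq0 ((Submodule.span_singleton_eq_bot).1 h0)
  obtain ⟨y, hy, hy0⟩ := (Submodule.ne_bot_iff _).1 (hf.essential _ hspan)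
  obtain ⟨hyq, hyf⟩ := Submodule.mem_inf.1 hy
  obtain ⟨r, rfl⟩ := Submodule.mem_span_singleton.1 hyq
  have hr : IsUnit r := by
    by_contra hnu
    exact hy0 (hqsoc r ((mem_maximalIdeal r).2 hnu))
  obtain ⟨u, rfl⟩ := hr
  have hqf : q ∈ LinearMap.range f := by
    have h4 : q = (↑u⁻¹ : A) • ((u : A) • q) := by
      rw [smul_smul, Units.inv_mul, one_smul]
    rw [h4]
    exact Submodule.smul_mem _ _ hyf
  apply hac
  rw [← hπq]
  exact (Submodule.Quotient.mk_eq_zero _).2 hqf

end injective

end Groth.Agent.Lib.Helper4.LC
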