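import Mathlib

set_option autoImplicit false
set_option linter.style.haveILetI false
set_option linter.unusedSectionVars false
set_option linter.unusedVariables false
set_option linter.unusedSimpArgs false
set_option maxHeartbeats 1600000
set_option maxSynthPendingDepth 3

universe u v w

/-!
# Lengths of quotient modules

* `length_quot_map`: for an injective linear map `ι : V → W` and `P ≤ V`,
  `length (W/ι(P)) = length (V/P) + length (W/ι(V))`.
* a pigeonhole principle bounding the number of generators of `J/μ(J)` by `length (W/μ(W))`.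
* finiteness of `length (W/Q)` when `Q ⊇ sW` for a nonzerodivisor `s` of a one-dimensional
  Noetherian ring.
-/

namespace Groth.Agent.Lib.Helper4.LenQuot

variable {A : Type u} [CommRing A] {V : Type v} {W : Type w} [AddCommGroup V] [Module A V]
  [AddCommGroup W] [Module A W]

theorem length_quot_map (ι : V →ₗ[A] W) (hι : Function.Injective ι) (P : Submodule A V) :
    Module.length A (W ⧸ P.map ι) =
      Module.length A (V ⧸ P) + Module.length A (W ⧸ LinearMap.range ι) := by
  have hle : P.map ι ≤ LinearMap.range ι := by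
    rintro _ ⟨v, _, rfl⟩; exact ⟨v, rfl⟩
  let f : (V ⧸ P) →ₗ[A] (W ⧸ P.map ι) := P.mapQ (P.map ι) ι (Submodule.le_comap_map _ _)
  let g : (W ⧸ P.map ι) →ₗ[A] (W ⧸ LinearMap.range ι) := Submodule.factor hle
  have hf : Function.Injective f := by
    rw [← LinearMap.ker_eq_bot, LinearMap.ker_eq_bot']
    intro y hy
    obtain ⟨v, rfl⟩ := Submodule.mkQ_surjective P y
    have h1 : (P.map ι).mkQ (ι v) = 0 := hy
    have h2 : ι v ∈ P.map ι := (Submodule.Quotient.mk_eq_zero _).mp h1
    obtain ⟨p, hp, hpv⟩ := h2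
    have h3 : p = v := hι hpv
    exact (Submodule.Quotient.mk_eq_zero _).mpr (h3 ▸ hp)
  have hg : Function.Surjective g := Submodule.factor_surjective hle
  have hex : Function.Exact f g := by
    intro y
    obtain ⟨w, rfl⟩ := Submodule.mkQ_surjective (P.map ι) y
    constructor
    · intro h
      have h1 : (LinearMap.range ι).mkQ w = 0 := by
        have h2 : g ((P.map ι).mkQ w) = (LinearMap.range ι).mkQ w := Submodule.factor_mk hle w
        rw [← h2]; exact h
      obtain ⟨v, rfl⟩ := (Submodule.Quotient.mk_eq_zero _).mp h1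
      exact ⟨P.mkQ v, rfl⟩
    · rintro ⟨z, hz⟩
      obtain ⟨v, rfl⟩ := Submodule.mkQ_surjective P z
      rw [← hz]
      have h2 : g ((P.map ι).mkQ (ι v)) = (LinearMap.range ι).mkQ (ι v) :=
        Submodule.factor_mk hle (ι v)
      have h3 : f (P.mkQ v) = (P.map ι).mkQ (ι v) := rfl
      rw [h3, h2]
      exact (Submodule.Quotient.mk_eq_zero _).mpr ⟨v, rfl⟩
  exact Module.length_eq_add_of_exact f g hf hg hex

/-- A strict inclusion of submodules drops the length of the quotient by at least one. -/
theorem length_quot_succ_le {P P' : Submodule A W} (h : P ≤ P') {x : W} (hx : x ∈ P')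
    (hx' : x ∉ P) : Module.length A (W ⧸ P') + 1 ≤ Module.length A (W ⧸ P) := by
  have hex := Module.length_eq_add_of_exact (LinearMap.ker (Submodule.factor h)).subtype
    (Submodule.factor h) (Submodule.subtype_injective _) (Submodule.factor_surjective h)
    (LinearMap.exact_subtype_ker_map _)
  have hnt : Nontrivial (LinearMap.ker (Submodule.factor h)) := by
    refine ⟨⟨⟨Submodule.mkQ P x, ?_⟩, 0, ?_⟩⟩
    · rw [LinearMap.mem_ker, Submodule.factor_mk]
      exact (Submodule.Quotient.mk_eq_zero P').mpr hx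
    · intro h0
      have h1 := congrArg Subtype.val h0
      exact hx' ((Submodule.Quotient.mk_eq_zero P).mp h1)
  have h1 : (1 : ℕ∞) ≤ Module.length A (LinearMap.ker (Submodule.factor h)) :=
    Order.one_le_iff_pos.mpr (Module.length_pos_iff.mpr hnt)
  rw [hex, add_comm]
  gcongr

theorem length_quot_le {P P' : Submodule A W} (h : P ≤ P') :
    Module.length A (W ⧸ P') ≤ Module.length A (W ⧸ P) :=
  Module.length_le_of_surjective (Submodule.factor h) (Submodule.factor_surjective h)

/-- Pigeonhole for modules. -/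
theorem exists_mem_of_length (μ : W →ₗ[A] W) (hμ : Function.Injective μ) (J : Submodule A W)
    (hJ : Module.length A (W ⧸ J) ≠ ⊤) (hμJ : J.map μ ≤ J) (e : ℕ)
    (he : Module.length A (W ⧸ LinearMap.range μ) = e)
    (x : ℕ → W) (hx : ∀ i, i ≤ e → x i ∈ J) :
    ∃ i, i ≤ e ∧ x i ∈ J.map μ ⊔ Submodule.span A (x '' Set.Iio i) := by
  by_contra hcon
  push_neg at hcon
  let P : ℕ → Submodule A W := fun i => J.map μ ⊔ Submodule.span A (x '' Set.Iio i)
  have hPle : ∀ i, i ≤ e + 1 → P i ≤ J := by
    intro i hi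
    refine sup_le hμJ (Submodule.span_le.mpr ?_)
    rintro _ ⟨j, hj, rfl⟩
    have hj' : j < i := hj
    exact hx j (by omega)
  have hchain : ∀ N, N ≤ e + 1 →
      Module.length A (W ⧸ P N) + (N : ℕ∞) ≤ Module.length A (W ⧸ P 0) := by
    intro N
    induction N with
    | zero => intro _; simp
    | succ N ih =>
      intro hN
      have hle : P N ≤ P (N + 1) :=
        sup_le_sup_left (Submodule.span_mono (Set.image_mono (Set.Iio_subset_Iio (Nat.le_succ N)))) _
      have hmem : x N ∈ P (N + 1) :=
        Submodule.mem_sup_right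
          (Submodule.subset_span ⟨N, Set.mem_Iio.mpr (Nat.lt_succ_self N), rfl⟩)
      have hnot : x N ∉ P N := hcon N (by omega)
      have h1 := length_quot_succ_le hle hmem hnot
      calc Module.length A (W ⧸ P (N + 1)) + ((N + 1 : ℕ) : ℕ∞)
          = (Module.length A (W ⧸ P (N + 1)) + 1) + (N : ℕ∞) := by
            push_cast; rw [add_assoc, add_comm (1 : ℕ∞) (N : ℕ∞)]
        _ ≤ Module.length A (W ⧸ P N) + (N : ℕ∞) := by gcongr
        _ ≤ _ := ih (by omega)
  have hP0 : P 0 = J.map μ := by
    show J.map μ ⊔ Submodule.span A (x '' Set.Iio 0) = J.map μ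
    simp
  have hlen : Module.length A (W ⧸ J.map μ) = Module.length A (W ⧸ J) + (e : ℕ∞) := by
    rw [← he]
    exact length_quot_map μ hμ J
  have h2 := hchain (e + 1) le_rfl
  rw [hP0, hlen] at h2
  have h3 : Module.length A (W ⧸ J) ≤ Module.length A (W ⧸ P (e + 1)) :=
    length_quot_le (hPle _ le_rfl)
  have h4 : Module.length A (W ⧸ J) + ((e + 1 : ℕ) : ℕ∞) ≤ Module.length A (W ⧸ J) + (e : ℕ∞) :=
    le_trans (by gcongr) h2
  have hl := ENat.coe_toNat hJ
  rw [← hl] at h4
  have h5 : ((Module.length A (W ⧸ J)).toNat + (e + 1) : ℕ) ≤ (Module.length A (W ⧸ J)).toNat + e := by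
    exact_mod_cast h4
  omega

/-- Finite length of `W/Q` when `Q ⊇ sW`, `W` finite, `A/sA` of finite length. -/
theorem length_quot_ne_top_of_smul_mem [Module.Finite A W] {s : A}
    (hs : IsFiniteLength A (A ⧸ Ideal.span {s})) (Q : Submodule A W)
    (hQ : ∀ w : W, s • w ∈ Q) : Module.length A (W ⧸ Q) ≠ ⊤ := by
  classical
  obtain ⟨k, f, hf⟩ := Module.Finite.exists_fin' A W
  obtain ⟨hN, hAr⟩ := isFiniteLength_iff_isNoetherian_isArtinian.mp hs
  haveI := hN
  haveI := hAr
  let wv : Fin k → W := fun i => f (Pi.single i 1)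
  have hle : ∀ i, Ideal.span {s} ≤
      LinearMap.ker (LinearMap.toSpanSingleton A (W ⧸ Q) (Q.mkQ (wv i))) := by
    intro i
    rw [Ideal.span_le, Set.singleton_subset_iff]
    show LinearMap.toSpanSingleton A (W ⧸ Q) (Q.mkQ (wv i)) s = 0
    rw [LinearMap.toSpanSingleton_apply, ← map_smul]
    exact (Submodule.Quotient.mk_eq_zero Q).mpr (hQ _)
  let gi : ∀ i, (A ⧸ Ideal.span {s}) →ₗ[A] (W ⧸ Q) := fun i =>
    Submodule.liftQ (Ideal.span {s}) (LinearMap.toSpanSingleton A (W ⧸ Q) (Q.mkQ (wv i))) (hle i)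
  let g : (Fin k → A ⧸ Ideal.span {s}) →ₗ[A] (W ⧸ Q) :=
    ∑ i, (gi i).comp (LinearMap.proj i)
  have hg : Function.Surjective g := by
    intro y
    obtain ⟨w, rfl⟩ := Submodule.mkQ_surjective Q y
    obtain ⟨v, rfl⟩ := hf w
    refine ⟨fun i => Ideal.Quotient.mk _ (v i), ?_⟩
    have h1 : f v = ∑ i, v i • wv i := by
      conv_lhs => rw [← Finset.univ_sum_single v]
      rw [map_sum]
      refine Finset.sum_congr rfl (fun i _ => ?_)
      have : (Pi.single i (v i) : Fin k → A) = v i • Pi.single i 1 := by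
        ext j; simp [Pi.single_apply]
      rw [this, map_smul]
    rw [h1, map_sum]
    simp only [g, LinearMap.sum_apply, LinearMap.comp_apply, LinearMap.proj_apply]
    refine Finset.sum_congr rfl (fun i _ => ?_)
    show gi i (Submodule.Quotient.mk (v i)) = _
    simp only [gi]
    rw [Submodule.liftQ_apply, LinearMap.toSpanSingleton_apply, map_smul]
  have hfl : IsFiniteLength A (Fin k → A ⧸ Ideal.span {s}) :=
    isFiniteLength_iff_isNoetherian_isArtinian.mpr ⟨inferInstance, inferInstance⟩
  exact Module.length_ne_top_iff.mpr (hfl.of_surjective hg)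

end Groth.Agent.Lib.Helper4.LenQuot
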