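import Groth.Agent.Lib.Helper4.ExtReg
import Groth.Agent.Lib.Helper4.GorTop
import Groth.Agent.Lib.Helper4.GorStalk
import Groth.Agent.Lib.Helper4.FaltRing

/-!
# Liaison: annihilators modulo regular sequences over Gorenstein rings

Let `I` be an ideal of a ring `A` with `Ext^j_A(A/I, A) = 0` for `j ≥ 1` (e.g. `A` Gorenstein local
and `A/I` maximal Cohen–Macaulay), `J = (0 : I)`.  For every `A`-regular sequence generating `𝔮`:
`J + 𝔮 = (𝔮 : I)` and `J ∩ 𝔮 = 𝔮 J` (`linked_ofList`).
-/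

set_option autoImplicit false
set_option linter.style.haveILetI false
set_option linter.unusedSectionVars false
set_option linter.unusedVariables false
set_option maxHeartbeats 800000

open CategoryTheory Limits Opposite Abelian IsLocalRing

universe u

namespace Groth.Agent.Lib.Helper4.Liaison

open Groth.Agent.Lib.Helper4 Groth.Agent.Lib.Helper4.LC Groth.Agent.Lib.Helper4.ExtTop
  Groth.Agent.Lib.Helper4.ExtReg Groth.Agent.Lib.Helper4.StalkDual RingTheory.Sequence

variable {A : Type u} [CommRing A]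

/-! ### generalities on `Ext` -/

lemma subsingleton_ext_of_iso {X Y Y' : ModuleCat.{u} A} (e : Y ≅ Y') (n : ℕ)
    (h : Subsingleton (Ext.{u} X Y' n)) : Subsingleton (Ext.{u} X Y n) := by
  refine subsingleton_of_forall_eq 0 (fun x => ?_)
  have h1 : x = push (push x e.hom) e.inv := by
    rw [← push_comp, e.hom_inv_id, push_id]
  rw [h1, @Subsingleton.elim _ h (push x e.hom) 0]
  unfold push
  rw [Ext.zero_comp]

section elt

variable (I : Ideal A) {M : Type u} [AddCommGroup M] [Module A M]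

/-- the map `A/I → M`, `1 ↦ x`, for `x` killed by `I`. -/
noncomputable def qelt (x : M) (hx : ∀ i ∈ I, i • x = 0) : (A ⧸ I) →ₗ[A] M :=
  Submodule.liftQ I (LinearMap.toSpanSingleton A M x) (by
    intro a ha
    rw [LinearMap.mem_ker, LinearMap.toSpanSingleton_apply]
    exact hx a ha)

lemma qelt_one (x : M) (hx : ∀ i ∈ I, i • x = 0) : qelt I x hx 1 = x := by
  change Submodule.liftQ I (LinearMap.toSpanSingleton A M x) _ (Submodule.Quotient.mk 1) = x
  rw [Submodule.liftQ_apply, LinearMap.toSpanSingleton_apply, one_smul]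

end elt

/-! ### the inductive property -/

/-- the linkage property of an ideal `𝔮` relative to `I`. -/
structure Linked (I 𝔮 : Ideal A) : Prop where
  ext : ∀ j : ℕ, Subsingleton (Ext.{u} (Bm I) (Bm 𝔮) (j + 1))
  colon : Submodule.annihilator I ⊔ 𝔮 = Submodule.colon 𝔮 (I : Set A)
  inter : Submodule.annihilator I ⊓ 𝔮 = 𝔮 * Submodule.annihilator I

section step

variable (I 𝔮 : Ideal A) (r : A)

lemma exists_lift (h1 : Subsingleton (Ext.{u} (Bm I) (Bm 𝔮) 1))
    (hr : IsSMulRegular (A ⧸ 𝔮) r) (u : (A ⧸ I) →ₗ[A] (A ⧸ (𝔮 ⊔ Ideal.span {r}))) :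
    ∃ v : (A ⧸ I) →ₗ[A] (A ⧸ 𝔮), piq 𝔮 (𝔮 ⊔ Ideal.span {r}) le_sup_left ∘ₗ v = u := by
  have hS := SES_shortExact 𝔮 (𝔮 ⊔ Ideal.span {r}) r le_sup_left rfl hr
  have h0 : (Ext.mk₀ (ModuleCat.ofHom u)).comp hS.extClass (zero_add 1) = 0 :=
    @Subsingleton.elim _ h1 _ _
  obtain ⟨x₂, hx₂⟩ := Ext.covariant_sequence_exact₃ (Bm I) hS (Ext.mk₀ (ModuleCat.ofHom u))
    (zero_add 1) h0
  obtain ⟨φ, rfl⟩ := (Ext.mk₀_bijective _ _).2 x₂
  rw [Ext.mk₀_comp_mk₀] at hx₂
  have h2 := (Ext.mk₀_bijective _ _).1 hx₂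
  refine ⟨φ.hom, ?_⟩
  have h3 := congrArg ModuleCat.Hom.hom h2
  exact h3

lemma ext_step (h : ∀ j : ℕ, Subsingleton (Ext.{u} (Bm I) (Bm 𝔮) (j + 1)))
    (hr : IsSMulRegular (A ⧸ 𝔮) r) (j : ℕ) :
    Subsingleton (Ext.{u} (Bm I) (Bm (𝔮 ⊔ Ideal.span {r})) (j + 1)) := by
  have hS := SES_shortExact 𝔮 (𝔮 ⊔ Ideal.span {r}) r le_sup_left rfl hr
  refine subsingleton_of_forall_eq 0 (fun x₃ => ?_)
  have h0 : x₃.comp hS.extClass (rfl : j + 1 + 1 = j + 1 + 1) = 0 :=
    @Subsingleton.elim _ (h (j + 1)) _ _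
  obtain ⟨x₂, hx₂⟩ := Ext.covariant_sequence_exact₃ (Bm I) hS x₃ rfl h0
  haveI hsub : Subsingleton (Ext.{u} (Bm I)
      (SES 𝔮 (𝔮 ⊔ Ideal.span {r}) r le_sup_left rfl).X₂ (j + 1)) := h j
  rw [← hx₂, Subsingleton.elim x₂ 0, Ext.zero_comp]
  rfl

lemma colon_sup_le (h1 : Subsingleton (Ext.{u} (Bm I) (Bm 𝔮) 1))
    (hr : IsSMulRegular (A ⧸ 𝔮) r) :
    Submodule.colon (𝔮 ⊔ Ideal.span {r}) (I : Set A) ≤
      Submodule.colon 𝔮 (I : Set A) ⊔ (𝔮 ⊔ Ideal.span {r}) := by
  intro a ha
  rw [Submodule.mem_colon] at ha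
  have hkill : ∀ i ∈ I, i • (Submodule.Quotient.mk a : A ⧸ (𝔮 ⊔ Ideal.span {r})) = 0 := by
    intro i hi
    rw [← Submodule.Quotient.mk_smul, Submodule.Quotient.mk_eq_zero]
    have h2 := ha i hi
    rw [smul_eq_mul] at h2 ⊢
    rwa [mul_comm]
  obtain ⟨v, hv⟩ := exists_lift I 𝔮 r h1 hr (qelt I _ hkill)
  obtain ⟨b, hb⟩ := Submodule.Quotient.mk_surjective 𝔮 (v 1)
  have hb1 : ∀ i ∈ (I : Set A), b • i ∈ 𝔮 := by
    intro i hi
    have h3 : i • v 1 = 0 := by
      rw [← map_smul]
      have h4 : i • (1 : A ⧸ I) = 0 := kills_quot I i hi 1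
      rw [h4, map_zero]
    rw [← hb, ← Submodule.Quotient.mk_smul, Submodule.Quotient.mk_eq_zero] at h3
    rw [smul_eq_mul] at h3 ⊢
    rwa [mul_comm]
  have hab : a - b ∈ 𝔮 ⊔ Ideal.span {r} := by
    have h2 := congrArg (fun w => w 1) hv
    simp only [LinearMap.comp_apply] at h2
    rw [qelt_one, ← hb, piq_mk] at h2
    exact (Submodule.Quotient.eq _).mp h2.symm
  have e : a = b + (a - b) := by ring
  rw [e]
  exact Submodule.add_mem_sup (Submodule.mem_colon.mpr hb1) hab

theorem Linked.step {I 𝔮 : Ideal A} (h : Linked I 𝔮) (r : A) (hr : IsSMulRegular (A ⧸ 𝔮) r) :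
    Linked I (𝔮 ⊔ Ideal.span {r}) := by
  have hr𝔮 : r ∈ 𝔮 ⊔ Ideal.span {r} := Submodule.mem_sup_right (Ideal.subset_span rfl)
  refine ⟨fun j => ext_step I 𝔮 r h.ext hr j, ?_, ?_⟩
  · apply le_antisymm
    · refine sup_le ?_ ?_
      · intro a ha
        rw [Submodule.mem_colon]
        intro i hi
        rw [(Submodule.mem_annihilator.mp ha) i hi]
        exact Submodule.zero_mem _
      · intro a ha
        rw [Submodule.mem_colon]
        intro i hi
        rw [smul_eq_mul]
        exact Ideal.mul_mem_right _ _ ha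
    · refine (colon_sup_le I 𝔮 r (h.ext 0) hr).trans ?_
      rw [← h.colon, sup_assoc]
      exact sup_le_sup_left (sup_le le_sup_left le_rfl) _
  · apply le_antisymm
    · intro x hx
      obtain ⟨hxa, hxq⟩ := hx
      obtain ⟨y, hy, z, hz, hyz⟩ := Submodule.mem_sup.mp hxq
      obtain ⟨c, rfl⟩ := Ideal.mem_span_singleton'.mp hz
      have hc : c ∈ Submodule.colon 𝔮 (I : Set A) := by
        rw [Submodule.mem_colon]
        intro i hi
        have h0 : x • i = 0 := (Submodule.mem_annihilator.mp hxa) i hi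
        have h1 : r • (Submodule.Quotient.mk (c * i) : A ⧸ 𝔮) = r • 0 := by
          rw [smul_zero, ← Submodule.Quotient.mk_smul, Submodule.Quotient.mk_eq_zero]
          have h2 : r • (c * i) = x * i - y * i := by
            rw [← hyz, smul_eq_mul]
            ring
          rw [h2]
          rw [smul_eq_mul] at h0
          rw [h0, zero_sub]
          exact 𝔮.neg_mem (Ideal.mul_mem_right _ _ hy)
        have h3 := hr h1
        rw [smul_eq_mul]
        exact (Submodule.Quotient.mk_eq_zero 𝔮).mp h3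
      rw [← h.colon] at hc
      obtain ⟨j, hj, w, hw, hjw⟩ := Submodule.mem_sup.mp hc
      have hy' : y + w * r ∈ Submodule.annihilator I ⊓ 𝔮 := by
        refine ⟨?_, 𝔮.add_mem hy (Ideal.mul_mem_right _ _ hw)⟩
        have e1 : y + w * r = x - r * j := by
          rw [← hyz, ← hjw]
          ring
        rw [e1]
        exact Submodule.sub_mem _ hxa (Ideal.mul_mem_left _ _ hj)
      rw [h.inter] at hy'
      have e2 : x = (y + w * r) + r * j := by
        rw [← hyz, ← hjw]
        ring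
      rw [e2]
      exact Submodule.add_mem _ (Ideal.mul_mono_left le_sup_left hy')
        (Ideal.mul_mem_mul hr𝔮 hj)
    · exact le_inf Ideal.mul_le_right Ideal.mul_le_left

end step

theorem linked_bot (I : Ideal A)
    (hE : ∀ j : ℕ, Subsingleton (Ext.{u} (Bm I) (ModuleCat.of A A) (j + 1))) :
    Linked I ⊥ := by
  refine ⟨fun j => ?_, ?_, ?_⟩
  · exact subsingleton_ext_of_iso
      (Submodule.quotEquivOfEqBot (⊥ : Submodule A A) rfl).toModuleIso (j + 1) (hE j)
  · ext a
    rw [sup_bot_eq, Submodule.mem_annihilator, Submodule.mem_colon]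
    constructor
    · intro h s hs
      rw [Submodule.mem_bot]
      exact h s hs
    · intro h s hs
      exact (Submodule.mem_bot A).mp (h s hs)
  · rw [inf_bot_eq, Ideal.bot_mul]

theorem linked_ofList (I : Ideal A)
    (hE : ∀ j : ℕ, Subsingleton (Ext.{u} (Bm I) (ModuleCat.of A A) (j + 1))) (l : List A)
    (hl : IsWeaklyRegular A l) : Linked I (Ideal.ofList l) := by
  induction l using List.reverseRecOn with
  | nil =>
    rw [Ideal.ofList_nil]
    exact linked_bot I hE
  | append_singleton l r ih =>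
    rw [isWeaklyRegular_append_iff] at hl
    obtain ⟨h1, h2⟩ := hl
    rw [isWeaklyRegular_singleton_iff] at h2
    have e : (Ideal.ofList l • ⊤ : Submodule A A) = Ideal.ofList l := by
      rw [smul_eq_mul, Ideal.mul_top]
    rw [e] at h2
    rw [Ideal.ofList_append, Ideal.ofList_singleton]
    exact (ih h1).step r h2

/-! ### the Gorenstein case -/

section gor

variable (B : Type u) [CommRing B] [LocCoh.IsGorensteinLocalRing B]

/-- over a Gorenstein local ring, `Ext^{≥1}(X, B) = 0` for maximal Cohen–Macaulay `X`. -/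
theorem ext_self_subsingleton_of_mcm (n : ℕ) (hn : ringKrullDim B = n)
    (X : Type u) [AddCommGroup X] [Module B X] [Module.Finite B X]
    (hX : (n : ℕ∞) ≤ LocCoh.depth B X) (k : ℕ) :
    Subsingleton (Ext.{u} (ModuleCat.of B X) (ModuleCat.of B B) (k + 1)) := by
  by_cases hk : n < k + 1
  · exact gor_ext_self_subsingleton_of_gt B n hn X (k + 1) hk
  · rw [← gor_vanishing_iff B n hn X (n - (k + 1)) (k + 1) (by omega)]
    apply HH.subsingleton_of_lt_idealDepth (I := maximalIdeal B) X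
    refine lt_of_lt_of_le ?_ hX
    exact_mod_cast (by omega : n - (k + 1) < n)

/-- **linkage modulo a regular sequence** over a Gorenstein local ring. -/
theorem linked_of_gorenstein (I : Ideal B) (hI : ringKrullDim (B ⧸ I) = ringKrullDim B)
    [LocCoh.IsCohenMacaulayLocalRing (B ⧸ I)] (l : List B) (hl : IsWeaklyRegular B l) :
    Linked I (Ideal.ofList l) := by
  obtain ⟨n, hn⟩ := gor_exists_nat_dim B
  have hcm := LocCoh.IsCohenMacaulayLocalRing.supportDim_eq_depth (R := B ⧸ I)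
  rw [Module.supportDim_self_eq_ringKrullDim, hI, hn] at hcm
  have h1 : LocCoh.depth (B ⧸ I) (B ⧸ I) = n := by exact_mod_cast hcm.symm
  haveI : IsLocalHom (algebraMap B (B ⧸ I)) :=
    IsLocalHom.of_surjective _ Ideal.Quotient.mk_surjective
  have h2 := Falt.depth_eq_of_surjective (A := B) (A' := B ⧸ I) Ideal.Quotient.mk_surjective
    (B ⧸ I)
  have hdepth : (n : ℕ∞) ≤ LocCoh.depth B (B ⧸ I) := by rw [h2, h1]
  exact linked_ofList I (fun j => ext_self_subsingleton_of_mcm B n hn (B ⧸ I) hdepth j) l hl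

end gor

end Groth.Agent.Lib.Helper4.Liaison
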