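import Groth.Agent.Lib.Helper4.Liaison1
import Groth.Agent.Lib.Helper4.CM
import Groth.Agent.Lib.Helper4.RegCM
import Groth.Agent.Lib.Helper9.RegFlat
import Groth.Agent.Lib.Helper8.LocalCriterion3
import Groth.Agent.S0341

/-!
# Liaison: flatness of `A/I` and `A/(0 : I)` over a regular base

`R` regular local, `A` Gorenstein local flat local `R`-algebra, `I ⊆ A` with `dim A/I = dim A` and
`A/I` Cohen–Macaulay.  Then a regular system of parameters of `R` is regular on `A/I` (dimension
count) and on `A/(0 : I)` (linkage), hence both are flat over `R` (local criterion).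
-/

set_option autoImplicit false
set_option linter.style.haveILetI false
set_option linter.unusedSectionVars false
set_option linter.unusedVariables false
set_option maxHeartbeats 800000

open CategoryTheory Limits Opposite Abelian IsLocalRing

universe u

namespace Groth.Agent.Lib.Helper4.Liaison

open Groth.Agent.Lib.Helper4 Groth.Agent.Lib.Helper4.LC Groth.Agent.Lib.Helper4.ExtTop
  Groth.Agent.Lib.Helper4.ExtReg Groth.Agent.Lib.Helper4.StalkDual RingTheory.Sequence

/-! ### flatness over a regular local ring via a regular system of parameters -/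

section flat

lemma span_range_eq_ofList' {A : Type u} [CommRing A] {d : ℕ} (x : Fin d → A) :
    Ideal.span (Set.range x) = Ideal.ofList (List.ofFn x) := by
  show Ideal.span (Set.range x) = Ideal.span {a : A | a ∈ List.ofFn x}
  congr 1
  ext a
  simp only [Set.mem_range, Set.mem_ofPred_eq, List.mem_ofFn]

variable (R A : Type u) [CommRing R] [IsLocalRing R] [IsNoetherianRing R] [CommRing A]
  [IsLocalRing A] [IsNoetherianRing A] [Algebra R A] [IsLocalHom (algebraMap R A)]

/-- a finite module over a Noetherian local `R`-algebra on which a sequence generating the maximal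
ideal of `R` is weakly regular is flat over `R`. -/
theorem flat_of_isWeaklyRegular (N : Type u) [AddCommGroup N] [Module R N] [Module A N]
    [IsScalarTower R A N] [Module.Finite A N] (rs : List R)
    (hrs : Ideal.ofList rs = maximalIdeal R) (h : IsWeaklyRegular N rs) : Module.Flat R N := by
  have h1 := Groth.Agent.Lib.Helper9.RegFlat.mu_injective_ofList N rs h rs.length le_rfl
  rw [List.take_length, hrs] at h1
  refine Groth.Agent.Lib.Helper8.flat_of_local_criterion_of_finite (A := R) (B := A)
    (maximalIdeal R) Groth.Agent.Lib.Helper9.RegFlat.map_maximalIdeal_le_jacobson N ?_ ?_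
  · letI : Field (R ⧸ maximalIdeal R) := Ideal.Quotient.field _
    infer_instance
  · exact (Groth.Agent.Lib.Helper9.FlatCoker.mu_injective_iff _ N).mp h1

end flat

/-! ### part A: the quotient `A/I` -/

section partA

theorem isWeaklyRegular_quotient_of_cm (A : Type u) [CommRing A]
    [LocCoh.IsCohenMacaulayLocalRing A] (I : Ideal A)
    (hI : ringKrullDim (A ⧸ I) = ringKrullDim A) [LocCoh.IsCohenMacaulayLocalRing (A ⧸ I)]
    (l : List A) (hlm : ∀ x ∈ l, x ∈ maximalIdeal A) (hl : IsWeaklyRegular A l) :
    IsWeaklyRegular (A ⧸ I) l := by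
  have hcmA : LocCoh.IsCohenMacaulayModule A A :=
    LocCoh.IsCohenMacaulayLocalRing.supportDim_eq_depth (R := A)
  have hcmN : LocCoh.IsCohenMacaulayModule A (A ⧸ I) := by
    unfold LocCoh.IsCohenMacaulayModule
    haveI : IsLocalHom (algebraMap A (A ⧸ I)) :=
      IsLocalHom.of_surjective _ Ideal.Quotient.mk_surjective
    have h2 := Falt.depth_eq_of_surjective (A := A) (A' := A ⧸ I) Ideal.Quotient.mk_surjective
      (A ⧸ I)
    have h3 := LocCoh.IsCohenMacaulayLocalRing.supportDim_eq_depth (R := A ⧸ I)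
    rw [Module.supportDim_self_eq_ringKrullDim] at h3
    rw [Module.supportDim_quotient_eq_ringKrullDim, h2, h3]
  have h1 := ((cm_isWeaklyRegular_iff_supportDim hcmA l hlm).1).mp hl
  have hAI : Module.supportDim A (A ⧸ I) = Module.supportDim A A := by
    rw [Module.supportDim_quotient_eq_ringKrullDim, hI, Module.supportDim_self_eq_ringKrullDim]
  have hcomap : (Ideal.ofList l • (⊤ : Submodule A A)) ≤
      Submodule.comap I.mkQ (Ideal.ofList l • (⊤ : Submodule A (A ⧸ I))) := by
    refine Submodule.smul_le.mpr (fun r hr n _ => ?_)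
    rw [Submodule.mem_comap, map_smul]
    exact Submodule.smul_mem_smul hr Submodule.mem_top
  have hsurj : Function.Surjective (Submodule.mapQ _ _ I.mkQ hcomap) := by
    intro y
    obtain ⟨z, rfl⟩ := Submodule.Quotient.mk_surjective _ y
    obtain ⟨a, rfl⟩ := Submodule.Quotient.mk_surjective _ z
    exact ⟨Submodule.Quotient.mk a, rfl⟩
  have hle := Module.supportDim_le_of_surjective _ hsurj
  have hge := supportDim_le_supportDim_quot_ofList_add_length (M := A ⧸ I) l hlm
  have hdim : Module.supportDim A ((A ⧸ I) ⧸ Ideal.ofList l • (⊤ : Submodule A (A ⧸ I))) +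
      l.length = Module.supportDim A (A ⧸ I) := by
    apply le_antisymm
    · rw [hAI, ← h1]
      gcongr
    · exact hge
  exact cm_isWeaklyRegular_of_supportDim hcmN l hlm hdim

end partA

/-! ### part B: the quotient by the annihilator -/

section partB

variable {A : Type u} [CommRing A]

lemma mk_mem_smul_top_iff (J 𝔮 : Ideal A) (a : A) :
    (Submodule.Quotient.mk a : A ⧸ J) ∈ (𝔮 • ⊤ : Submodule A (A ⧸ J)) ↔ a ∈ J ⊔ 𝔮 := by
  have h1 : (𝔮 • ⊤ : Submodule A (A ⧸ J)) = Submodule.map J.mkQ 𝔮 := by
    have h2 : (⊤ : Submodule A (A ⧸ J)) = Submodule.map J.mkQ ⊤ := by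
      rw [Submodule.map_top, Submodule.range_mkQ]
    rw [h2, ← Submodule.map_smul'', smul_eq_mul, Ideal.mul_top]
  rw [h1, ← Submodule.mkQ_apply, ← Submodule.mem_comap, Submodule.comap_map_eq,
    Submodule.ker_mkQ, sup_comm]

theorem linked_take (I : Ideal A)
    (hE : ∀ j : ℕ, Subsingleton (Ext.{u} (Bm I) (ModuleCat.of A A) (j + 1))) (l : List A)
    (hl : IsWeaklyRegular A l) :
    ∀ k, k ≤ l.length → Linked I (Ideal.ofList (l.take k)) := by
  intro k
  induction k with
  | zero =>
    intro _
    rw [List.take_zero, Ideal.ofList_nil]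
    exact linked_bot I hE
  | succ k ih =>
    intro hk
    have hk' : k < l.length := hk
    have h2 := hl.regular_mod_prev k hk'
    have e : (Ideal.ofList (l.take k) • ⊤ : Submodule A A) = Ideal.ofList (l.take k) := by
      rw [smul_eq_mul, Ideal.mul_top]
    rw [e] at h2
    rw [List.take_succ_eq_append_getElem hk', Ideal.ofList_append, Ideal.ofList_singleton]
    exact (ih hk'.le).step _ h2

/-- a regular sequence on `A` is regular on `A/(0 : I)` when `Ext^{≥1}(A/I, A) = 0`. -/
theorem isWeaklyRegular_quotient_annihilator (I : Ideal A)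
    (hE : ∀ j : ℕ, Subsingleton (Ext.{u} (Bm I) (ModuleCat.of A A) (j + 1))) (l : List A)
    (hl : IsWeaklyRegular A l) : IsWeaklyRegular (A ⧸ Submodule.annihilator I) l := by
  refine ⟨fun i hi => ?_⟩
  have hL := linked_take I hE l hl i hi.le
  have hreg := hl.regular_mod_prev i hi
  have e : (Ideal.ofList (l.take i) • ⊤ : Submodule A A) = Ideal.ofList (l.take i) := by
    rw [smul_eq_mul, Ideal.mul_top]
  rw [e] at hreg
  rw [isSMulRegular_iff_right_eq_zero_of_smul]
  intro y hy
  obtain ⟨z, rfl⟩ := Submodule.Quotient.mk_surjective _ y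
  obtain ⟨a, rfl⟩ := Submodule.Quotient.mk_surjective _ z
  rw [← Submodule.Quotient.mk_smul, ← Submodule.Quotient.mk_smul, Submodule.Quotient.mk_eq_zero,
    mk_mem_smul_top_iff, hL.colon, Submodule.mem_colon] at hy
  rw [Submodule.Quotient.mk_eq_zero, mk_mem_smul_top_iff, hL.colon, Submodule.mem_colon]
  intro s hs
  have h1 := hy s hs
  have h2 : l[i] • (Submodule.Quotient.mk (a • s) : A ⧸ Ideal.ofList (l.take i)) = l[i] • 0 := by
    rw [smul_zero, ← Submodule.Quotient.mk_smul, Submodule.Quotient.mk_eq_zero, ← mul_smul]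
    exact h1
  have h3 := hreg h2
  exact (Submodule.Quotient.mk_eq_zero _).mp h3

end partB

/-! ### the theorem -/

section main

variable (B : Type u) [CommRing B] [LocCoh.IsGorensteinLocalRing B]

theorem ext_self_subsingleton_of_gorenstein (I : Ideal B)
    (hI : ringKrullDim (B ⧸ I) = ringKrullDim B) [LocCoh.IsCohenMacaulayLocalRing (B ⧸ I)]
    (j : ℕ) : Subsingleton (Ext.{u} (Bm I) (ModuleCat.of B B) (j + 1)) := by
  obtain ⟨n, hn⟩ := gor_exists_nat_dim B
  have hcm := LocCoh.IsCohenMacaulayLocalRing.supportDim_eq_depth (R := B ⧸ I)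
  rw [Module.supportDim_self_eq_ringKrullDim, hI, hn] at hcm
  have h1 : LocCoh.depth (B ⧸ I) (B ⧸ I) = n := by exact_mod_cast hcm.symm
  haveI : IsLocalHom (algebraMap B (B ⧸ I)) :=
    IsLocalHom.of_surjective _ Ideal.Quotient.mk_surjective
  have h2 := Falt.depth_eq_of_surjective (A := B) (A' := B ⧸ I) Ideal.Quotient.mk_surjective
    (B ⧸ I)
  have hdepth : (n : ℕ∞) ≤ LocCoh.depth B (B ⧸ I) := by rw [h2, h1]
  exact ext_self_subsingleton_of_mcm B n hn (B ⧸ I) hdepth j

/-- **flatness of linked quotients** over a regular base. -/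
theorem flat_quotient_and_quotient_annihilator (R : Type u) [CommRing R] [IsRegularLocalRing R]
    [Algebra R B] [IsLocalHom (algebraMap R B)] [Module.Flat R B] (I : Ideal B)
    (hI : ringKrullDim (B ⧸ I) = ringKrullDim B) [LocCoh.IsCohenMacaulayLocalRing (B ⧸ I)] :
    Module.Flat R (B ⧸ I) ∧ Module.Flat R (B ⧸ (Submodule.annihilator I)) := by
  obtain ⟨d, hd⟩ := RegCM.exists_nat_ringKrullDim R
  obtain ⟨x, hx, hreg⟩ := RegCM.exists_regular_system R d hd
  have hrs : Ideal.ofList (List.ofFn x) = maximalIdeal R := by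
    rw [← hx]
    exact (span_range_eq_ofList' x).symm
  have hl : IsWeaklyRegular B ((List.ofFn x).map (algebraMap R B)) :=
    hreg.toIsWeaklyRegular.of_flat
  haveI hcmB : LocCoh.IsCohenMacaulayLocalRing B := Groth.Agent.S0341.result B
  have hlm : ∀ y ∈ (List.ofFn x).map (algebraMap R B), y ∈ maximalIdeal B := by
    intro y hy
    obtain ⟨r, hr, rfl⟩ := List.mem_map.mp hy
    have hrm : r ∈ maximalIdeal R := by
      rw [← hrs]
      exact Ideal.subset_span hr
    rw [IsLocalRing.mem_maximalIdeal, mem_nonunits_iff] at hrm ⊢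
    exact fun h => hrm (isUnit_of_map_unit (algebraMap R B) r h)
  have hA1 : IsWeaklyRegular (B ⧸ I) ((List.ofFn x).map (algebraMap R B)) :=
    isWeaklyRegular_quotient_of_cm B I hI _ hlm hl
  have hA2 : IsWeaklyRegular (B ⧸ I) (List.ofFn x) :=
    (isWeaklyRegular_map_algebraMap_iff B (B ⧸ I) (List.ofFn x)).mp hA1
  have hB1 : IsWeaklyRegular (B ⧸ Submodule.annihilator I)
      ((List.ofFn x).map (algebraMap R B)) :=
    isWeaklyRegular_quotient_annihilator I (ext_self_subsingleton_of_gorenstein B I hI) _ hl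
  have hB2 : IsWeaklyRegular (B ⧸ Submodule.annihilator I) (List.ofFn x) :=
    (isWeaklyRegular_map_algebraMap_iff B (B ⧸ Submodule.annihilator I) (List.ofFn x)).mp hB1
  exact ⟨flat_of_isWeaklyRegular R B (B ⧸ I) _ hrs hA2,
    flat_of_isWeaklyRegular R B (B ⧸ Submodule.annihilator I) _ hrs hB2⟩

end main

end Groth.Agent.Lib.Helper4.Liaison
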