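import Groth.Agent.Lib.Helper4.Liaison2
import Groth.Agent.Lib.Helper22.CMGlue
import Groth.Agent.Lib.Helper22.DetGen
import Groth.Agent.Lib.Helper22.Liaison3

/-!
# Liaison: linkage by a Gorenstein ideal preserves Cohen–Macaulayness

If `R/𝔠` is a Gorenstein ring, `𝔠 : I = J`, `𝔠 : J = I` and `R/I` is a Cohen–Macaulay ring, then so
is `R/J` (`cmRing_quot_of_linked`).
-/

set_option autoImplicit false
set_option linter.style.haveILetI false
set_option linter.unusedSectionVars false
set_option linter.unusedVariables false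
set_option maxHeartbeats 800000

open CategoryTheory Limits Opposite Abelian IsLocalRing

universe u

namespace Groth.Agent.Lib.Helper4.Liaison

open Groth.Agent.Lib.Helper4 Groth.Agent.Lib.Helper4.LC Groth.Agent.Lib.Helper4.ExtTop
  Groth.Agent.Lib.Helper4.ExtReg Groth.Agent.Lib.Helper4.StalkDual RingTheory.Sequence
  Groth.Agent.Lib.Helper22.CMG

/-! ### the local statement -/

section localCore

variable (B : Type u) [CommRing B] [LocCoh.IsGorensteinLocalRing B]

/-- over a Gorenstein local ring `B`: if `B/I` is Cohen–Macaulay of the same dimension as `B`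
then `B/(0 : I)` is a Cohen–Macaulay module. -/
theorem cm_quotient_annihilator (I : Ideal B) (hdim : ringKrullDim (B ⧸ I) = ringKrullDim B)
    [LocCoh.IsCohenMacaulayLocalRing (B ⧸ I)] (hJne : Submodule.annihilator I ≠ ⊤) :
    LocCoh.IsCohenMacaulayModule B (B ⧸ Submodule.annihilator I) := by
  obtain ⟨n, hn⟩ := gor_exists_nat_dim B
  haveI hcmB : LocCoh.IsCohenMacaulayLocalRing B := Groth.Agent.S0341.result B
  have hdB := LocCoh.IsCohenMacaulayLocalRing.supportDim_eq_depth (R := B)
  rw [Module.supportDim_self_eq_ringKrullDim, hn] at hdB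
  have hdepthB : (n : ℕ∞) ≤ LocCoh.idealDepth (maximalIdeal B) B := by
    have h1 : LocCoh.depth B B = n := by exact_mod_cast hdB.symm
    exact h1.symm.le
  obtain ⟨l, hlen, hmem, hl⟩ := exists_isWeaklyRegular_of_le_idealDepth (maximalIdeal B)
    (maximalIdeal_smul_top_ne_top (R := B) (M := B)) n hdepthB
  have hE := ext_self_subsingleton_of_gorenstein B I hdim
  have hreg := isWeaklyRegular_quotient_annihilator I hE l hl
  haveI : Nontrivial (B ⧸ Submodule.annihilator I) := Ideal.Quotient.nontrivial_iff.mpr hJne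
  have h1 : (n : ℕ∞) ≤ LocCoh.depth B (B ⧸ Submodule.annihilator I) := by
    have := length_le_idealDepth (maximalIdeal B) l hreg hmem
    rw [hlen] at this
    exact this
  have h2 := depth_le_supportDim (R := B) (M := B ⧸ Submodule.annihilator I)
  have h3 : Module.supportDim B (B ⧸ Submodule.annihilator I) ≤ (n : WithBot ℕ∞) :=
    hn ▸ Module.supportDim_le_ringKrullDim B _
  unfold LocCoh.IsCohenMacaulayModule
  refine le_antisymm (h3.trans ?_) h2
  exact_mod_cast h1

/-- for an annihilator ideal `I = (0 : J)` of a Cohen–Macaulay local ring, `dim B/I = dim B`. -/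
theorem ringKrullDim_quotient_annihilator (J : Ideal B) (hne : Submodule.annihilator J ≠ ⊤) :
    ringKrullDim (B ⧸ Submodule.annihilator J) = ringKrullDim B := by
  haveI hcmB : LocCoh.IsCohenMacaulayLocalRing B := Groth.Agent.S0341.result B
  have hcm : LocCoh.IsCohenMacaulayModule B B :=
    LocCoh.IsCohenMacaulayLocalRing.supportDim_eq_depth (R := B)
  haveI : Nontrivial (B ⧸ Submodule.annihilator J) := Ideal.Quotient.nontrivial_iff.mpr hne
  obtain ⟨p, hp⟩ := associatedPrimes.nonempty B (B ⧸ Submodule.annihilator J)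
  have hsub := Groth.Agent.Lib.Helper22.Liaison.ass_colon_subset (⊥ : Ideal B) J
  rw [Submodule.bot_colon] at hsub
  have hp2 : p ∈ associatedPrimes B (B ⧸ (⊥ : Ideal B)) := hsub hp
  have hp3 : p ∈ associatedPrimes B B := by
    rw [← LinearEquiv.AssociatedPrimes.eq (Submodule.quotEquivOfEqBot (⊥ : Ideal B) rfl)]
    exact hp2
  have h1 := cm_ringKrullDim_quotient_eq hcm hp3
  rw [Module.supportDim_self_eq_ringKrullDim] at h1
  have hle : Submodule.annihilator J ≤ p := by
    have := IsAssociatedPrime.annihilator_le hp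
    rwa [Submodule.annihilator_top, Ideal.annihilator_quotient] at this
  haveI := hp.isPrime
  have h2 : ringKrullDim (B ⧸ p) ≤ ringKrullDim (B ⧸ Submodule.annihilator J) :=
    ringKrullDim_le_of_surjective (Ideal.Quotient.factor hle) (Ideal.Quotient.factor_surjective hle)
  exact le_antisymm (ringKrullDim_quotient_le _) (h1 ▸ h2)

end localCore

/-! ### localisation of annihilators -/

section locAnn

variable {S : Type u} [CommRing S] [IsNoetherianRing S] (Q : Ideal S) [Q.IsPrime]

theorem map_annihilator_eq (I : Ideal S) :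
    (Submodule.annihilator I).map (algebraMap S (Localization.AtPrime Q)) =
      Submodule.annihilator (I.map (algebraMap S (Localization.AtPrime Q))) := by
  classical
  apply le_antisymm
  · rw [Ideal.map_le_iff_le_comap]
    intro a ha
    rw [Ideal.mem_comap, Submodule.mem_annihilator]
    intro z hz
    induction hz using Submodule.span_induction with
    | mem z hz =>
      obtain ⟨i, hi, rfl⟩ := hz
      have h0 : a * i = 0 := (Submodule.mem_annihilator.mp ha) i hi
      rw [smul_eq_mul, ← map_mul, h0, map_zero]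
    | zero => rw [smul_zero]
    | add x y _ _ hx hy => rw [smul_add, hx, hy, add_zero]
    | smul r x _ hx => rw [smul_comm, hx, smul_zero]
  · intro z hz
    obtain ⟨b, s, rfl⟩ := IsLocalization.exists_mk'_eq Q.primeCompl z
    obtain ⟨G, hG⟩ := (isNoetherianRing_iff_ideal_fg S).1 inferInstance I
    have hg : ∀ g ∈ G, ∃ t : S, t ∉ Q ∧ t * (b * g) = 0 := by
      intro g hg
      have hgI : g ∈ I := hG ▸ Ideal.subset_span hg
      have h1 := (Submodule.mem_annihilator.mp hz) _ (Ideal.mem_map_of_mem _ hgI)
      rw [smul_eq_mul] at h1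
      have h2 : algebraMap S (Localization.AtPrime Q) (b * g) = 0 := by
        have h3 : algebraMap S (Localization.AtPrime Q) (b * g) =
            IsLocalization.mk' (Localization.AtPrime Q) b s *
              algebraMap S (Localization.AtPrime Q) g * algebraMap S (Localization.AtPrime Q) s := by
          rw [map_mul, mul_right_comm, IsLocalization.mk'_spec]
        rw [h3, h1, zero_mul]
      obtain ⟨⟨t, ht⟩, ht2⟩ := (IsLocalization.map_eq_zero_iff Q.primeCompl
        (Localization.AtPrime Q) _).1 h2
      exact ⟨t, ht, ht2⟩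
    choose t ht1 ht2 using hg
    set T : S := ∏ g ∈ G.attach, t g.1 g.2 with hT
    have hTQ : T ∉ Q := by
      rw [hT]
      intro h
      obtain ⟨g, -, hg⟩ := (Ideal.IsPrime.prod_mem_iff (hp := inferInstance)).1 h
      exact ht1 g.1 g.2 hg
    have hTb : T * b ∈ Submodule.annihilator I := by
      rw [Submodule.mem_annihilator]
      intro i hi
      rw [← hG] at hi
      induction hi using Submodule.span_induction with
      | mem g hg =>
        have h1 : (t g hg) ∣ T := by
          rw [hT]
          exact Finset.dvd_prod_of_mem (fun g : {x // x ∈ G} => t g.1 g.2)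
            (Finset.mem_attach G ⟨g, hg⟩)
        obtain ⟨q, hq⟩ := h1
        have e : (T * b) • g = q * (t g hg * (b * g)) := by rw [hq, smul_eq_mul]; ring
        rw [e, ht2 g hg, mul_zero]
      | zero => rw [smul_zero]
      | add x y _ _ hx hy => rw [smul_add, hx, hy, add_zero]
      | smul r x _ hx => rw [smul_comm, hx, smul_zero]
    rw [IsLocalization.mem_map_algebraMap_iff Q.primeCompl (Localization.AtPrime Q)]
    refine ⟨(⟨T * b, hTb⟩, ⟨T * s, Q.primeCompl.mul_mem hTQ s.2⟩), ?_⟩
    show IsLocalization.mk' (Localization.AtPrime Q) b s *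
      algebraMap S (Localization.AtPrime Q) (T * s) = algebraMap S (Localization.AtPrime Q) (T * b)
    rw [map_mul, map_mul, mul_left_comm, IsLocalization.mk'_spec]

end locAnn

/-! ### the global statement over a Gorenstein ring -/

section semiglobal

variable {S : Type u} [CommRing S] [LocCoh.IsGorensteinRing S]

theorem cmRing_of_annihilator (I J : Ideal S) (h1 : Submodule.annihilator I = J)
    (h2 : Submodule.annihilator J = I) [LocCoh.IsCohenMacaulayRing (S ⧸ I)] :
    LocCoh.IsCohenMacaulayRing (S ⧸ J) := by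
  refine isCMRing_quotient_of_forall J (fun Q _ hle => ?_)
  haveI : LocCoh.IsGorensteinLocalRing (Localization.AtPrime Q) :=
    LocCoh.IsGorensteinRing.isGorensteinLocalRing_localization Q
  have hJ' : J.map (algebraMap S (Localization.AtPrime Q)) =
      Submodule.annihilator (I.map (algebraMap S (Localization.AtPrime Q))) := by
    rw [← h1, map_annihilator_eq]
  have hI' : I.map (algebraMap S (Localization.AtPrime Q)) =
      Submodule.annihilator (J.map (algebraMap S (Localization.AtPrime Q))) := by
    rw [← h2, map_annihilator_eq]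
  have hJne : J.map (algebraMap S (Localization.AtPrime Q)) ≠ ⊤ := map_ne_top_of_le J Q hle
  unfold CMat
  by_cases hIQ : I ≤ Q
  · have hIne : I.map (algebraMap S (Localization.AtPrime Q)) ≠ ⊤ := map_ne_top_of_le I Q hIQ
    -- `B/I'` is a Cohen–Macaulay local ring
    have hker : RingHom.ker (Ideal.Quotient.mk I) ≤ Q := by rw [Ideal.mk_ker]; exact hIQ
    haveI hq : (Q.map (Ideal.Quotient.mk I)).IsPrime :=
      Ideal.map_isPrime_of_surjective Ideal.Quotient.mk_surjective hker
    have hQ : Q = (Q.map (Ideal.Quotient.mk I)).comap (Ideal.Quotient.mk I) := by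
      rw [Ideal.comap_map_of_surjective _ Ideal.Quotient.mk_surjective, ← RingHom.ker_eq_comap_bot,
        Ideal.mk_ker]
      exact (sup_eq_left.mpr hIQ).symm
    haveI : LocCoh.IsCohenMacaulayLocalRing
        (Localization.AtPrime (Q.map (Ideal.Quotient.mk I))) :=
      LocCoh.IsCohenMacaulayRing.isCohenMacaulayLocalRing_localization _
    have hcmat := cmAt_of_isCMLocalRing I (Q.map (Ideal.Quotient.mk I)) Q hQ
    unfold CMat at hcmat
    haveI hcmI : LocCoh.IsCohenMacaulayLocalRing
        (Localization.AtPrime Q ⧸ I.map (algebraMap S (Localization.AtPrime Q))) :=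
      (cmModule_quotient_iff _ _ hIne).mp hcmat
    have hdim : ringKrullDim (Localization.AtPrime Q ⧸
        I.map (algebraMap S (Localization.AtPrime Q))) = ringKrullDim (Localization.AtPrime Q) := by
      have h3 := ringKrullDim_quotient_annihilator (Localization.AtPrime Q)
        (J.map (algebraMap S (Localization.AtPrime Q))) (hI' ▸ hIne)
      rw [← hI'] at h3
      exact h3
    have hmain := cm_quotient_annihilator (Localization.AtPrime Q)
      (I.map (algebraMap S (Localization.AtPrime Q))) hdim (hJ' ▸ hJne)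
    rw [← hJ'] at hmain
    exact hmain
  · have hItop : I.map (algebraMap S (Localization.AtPrime Q)) = ⊤ := map_eq_top_of_not_le I Q hIQ
    have hJbot : J.map (algebraMap S (Localization.AtPrime Q)) = ⊥ := by
      rw [hJ', hItop, eq_bot_iff]
      intro a ha
      have := (Submodule.mem_annihilator.mp ha) 1 Submodule.mem_top
      rw [smul_eq_mul, mul_one] at this
      rw [this]
      exact Submodule.zero_mem _
    haveI hcmB : LocCoh.IsCohenMacaulayLocalRing (Localization.AtPrime Q) :=
      Groth.Agent.S0341.result _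
    have hcm : LocCoh.IsCohenMacaulayModule (Localization.AtPrime Q) (Localization.AtPrime Q) :=
      LocCoh.IsCohenMacaulayLocalRing.supportDim_eq_depth (R := Localization.AtPrime Q)
    exact (cm_congr (Submodule.quotEquivOfEqBot _ hJbot)).mpr hcm

end semiglobal

/-! ### linkage -/

section linkage

variable {R : Type u} [CommRing R]

lemma le_colon' (𝔠 : Ideal R) (T : Set R) : 𝔠 ≤ 𝔠.colon T := by
  intro x hx
  rw [Submodule.mem_colon]
  intro s _
  rw [smul_eq_mul]
  exact Ideal.mul_mem_right _ _ hx

theorem annihilator_map_mk (𝔠 I : Ideal R) :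
    Submodule.annihilator (I.map (Ideal.Quotient.mk 𝔠)) =
      (𝔠.colon (I : Set R)).map (Ideal.Quotient.mk 𝔠) := by
  ext y
  obtain ⟨x, rfl⟩ := Ideal.Quotient.mk_surjective y
  rw [Ideal.mem_quotient_iff_mem (le_colon' 𝔠 _), Submodule.mem_annihilator, Submodule.mem_colon]
  constructor
  · intro h i hi
    have h1 := h _ (Ideal.mem_map_of_mem (Ideal.Quotient.mk 𝔠) hi)
    rw [smul_eq_mul, ← map_mul, Ideal.Quotient.eq_zero_iff_mem] at h1
    rw [smul_eq_mul]
    exact h1
  · intro h z hz
    obtain ⟨i, hi, rfl⟩ := (Ideal.mem_map_iff_of_surjective _ Ideal.Quotient.mk_surjective).mp hz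
    have h1 := h i hi
    rw [smul_eq_mul] at h1
    rw [smul_eq_mul, ← map_mul, Ideal.Quotient.eq_zero_iff_mem]
    exact h1

/-- **linkage by a Gorenstein ideal preserves Cohen–Macaulayness.** -/
theorem cmRing_quot_of_linked (𝔠 I J : Ideal R) [LocCoh.IsGorensteinRing (R ⧸ 𝔠)]
    (hIJ : 𝔠.colon (I : Set R) = J) (hJI : 𝔠.colon (J : Set R) = I)
    [LocCoh.IsCohenMacaulayRing (R ⧸ I)] : LocCoh.IsCohenMacaulayRing (R ⧸ J) := by
  have hcI : 𝔠 ≤ I := hJI ▸ le_colon' 𝔠 _
  have hcJ : 𝔠 ≤ J := hIJ ▸ le_colon' 𝔠 _
  have h1 : Submodule.annihilator (I.map (Ideal.Quotient.mk 𝔠)) = J.map (Ideal.Quotient.mk 𝔠) := by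
    rw [annihilator_map_mk, hIJ]
  have h2 : Submodule.annihilator (J.map (Ideal.Quotient.mk 𝔠)) = I.map (Ideal.Quotient.mk 𝔠) := by
    rw [annihilator_map_mk, hJI]
  haveI : LocCoh.IsCohenMacaulayRing ((R ⧸ 𝔠) ⧸ I.map (Ideal.Quotient.mk 𝔠)) :=
    isCMRing_of_ringEquiv (DoubleQuot.quotQuotEquivQuotOfLE hcI).symm
  haveI := cmRing_of_annihilator (I.map (Ideal.Quotient.mk 𝔠)) (J.map (Ideal.Quotient.mk 𝔠)) h1 h2
  exact isCMRing_of_ringEquiv (DoubleQuot.quotQuotEquivQuotOfLE hcJ)

end linkage

end Groth.Agent.Lib.Helper4.Liaison
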