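import Groth.Agent.Lib.Helper4.Liaison3
import Groth.Agent.Lib.Helper4.QuotCanon
import Groth.Agent.Lib.Helper4.Unmixed
import Groth.Agent.Lib.Helper4.GorRing
import Groth.Agent.Lib.Helper14.KoszulReg
import Groth.Agent.Lib.Helper22.Liaison5
import Groth.Agent.S7701
import Groth.Agent.S0342

/-!
# Liaison: Gorenstein quotients (helper4)

* `gor_quotient_annihilator_span`: `B` Gorenstein local, `𝔧 = (0 : x)`, `(0 : 𝔧) = (x)`, `B/𝔧`
  Cohen–Macaulay: then `B/𝔧` is Gorenstein (its canonical module `Hom_B(B/𝔧, B) = (0 : 𝔧) = xB`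
  is isomorphic to `B/(0 : x) = B/𝔧`).
* `gorRing_of_annihilator_span`: the global version over a Gorenstein ring.
* `gorRing_quot_span_range_of_height`: a complete intersection in a regular ring is Gorenstein.
-/

set_option autoImplicit false
set_option linter.style.haveILetI false
set_option linter.unusedSectionVars false
set_option linter.unusedVariables false
set_option maxHeartbeats 800000

open CategoryTheory Limits Opposite Abelian IsLocalRing

universe u

namespace Groth.Agent.Lib.Helper4.Liaison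

open Groth.Agent.Lib.Helper4 Groth.Agent.Lib.Helper4.LC Groth.Agent.Lib.Helper4.ExtTop
  Groth.Agent.Lib.Helper4.ExtReg Groth.Agent.Lib.Helper4.StalkDual RingTheory.Sequence
  Groth.Agent.Lib.Helper22.CMG Groth.Agent.Lib.Helper4.QuotCanon
  Groth.Agent.Lib.Helper1.InjHullLib Groth.Agent.Lib.Helper4.GorFlat

/-! ### the local statement -/

section gorCore

variable (B : Type u) [CommRing B] [LocCoh.IsGorensteinLocalRing B]

/-- the `B`-linear isomorphism `Ext^0_B(B/𝔧, B) ≅ B/𝔧` when `𝔧 = (0 : x)` and `(0 : 𝔧) = (x)`. -/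
theorem nonempty_KExt_zero_equiv (x : B) (𝔧 : Ideal B)
    (h1 : Submodule.annihilator (Ideal.span {x}) = 𝔧)
    (h2 : Submodule.annihilator 𝔧 = Ideal.span {x}) :
    Nonempty (KExt B (B ⧸ 𝔧) 0 ≃ₗ[B] (B ⧸ 𝔧)) := by
  have h1' : ∀ a : B, a ∈ 𝔧 ↔ a * x = 0 := by
    intro a
    rw [← h1, Submodule.mem_annihilator]
    constructor
    · intro h
      have := h x (Ideal.mem_span_singleton_self x)
      rwa [smul_eq_mul] at this
    · intro h z hz
      obtain ⟨b, rfl⟩ := Ideal.mem_span_singleton'.mp hz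
      rw [smul_eq_mul, ← mul_assoc, mul_comm a b, mul_assoc, h, mul_zero]
  have hann : Groth.Agent.Lib.Helper22.Liaison.ann 𝔧 = Submodule.span B {x} := by
    have h3 : Groth.Agent.Lib.Helper22.Liaison.ann 𝔧 = Ideal.span {x} := by
      rw [← h2]
      ext a
      rw [Groth.Agent.Lib.Helper22.Liaison.mem_ann, Submodule.mem_annihilator]
      constructor
      · intro h j hj
        rw [smul_eq_mul]
        exact h j hj
      · intro h j hj
        have := h j hj
        rwa [smul_eq_mul] at this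
    exact h3
  have htors : Ideal.torsionOf B B x = 𝔧 := by
    ext a
    rw [Ideal.mem_torsionOf_iff, h1', smul_eq_mul]
  let e0 : KExt B (B ⧸ 𝔧) 0 ≃ₗ[B] ((B ⧸ 𝔧) →ₗ[B] B) :=
    (Ext.linearEquiv₀ (R := B) (X := ModuleCat.of B (B ⧸ 𝔧)) (Y := ModuleCat.of B B)).trans
      ModuleCat.homLinearEquiv
  let e1 : ((B ⧸ 𝔧) →ₗ[B] B) ≃ₗ[B] Groth.Agent.Lib.Helper22.Liaison.ann 𝔧 :=
    Groth.Agent.Lib.Helper22.Liaison.homQuotEquivAnn 𝔧
  let e2 : Groth.Agent.Lib.Helper22.Liaison.ann 𝔧 ≃ₗ[B] Submodule.span B {x} :=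
    LinearEquiv.ofEq _ _ hann
  let e3 : Submodule.span B {x} ≃ₗ[B] (B ⧸ Ideal.torsionOf B B x) :=
    (Ideal.quotTorsionOfEquivSpanSingleton B B x).symm
  let e4 : (B ⧸ Ideal.torsionOf B B x) ≃ₗ[B] (B ⧸ 𝔧) :=
    Submodule.quotEquivOfEq _ _ htors
  exact ⟨e0.trans (e1.trans (e2.trans (e3.trans e4)))⟩

/-- **the local core**: over a Gorenstein local ring `B`, if `𝔧 = (0 : x)`, `(0 : 𝔧) = (x)` and
`B/𝔧` is Cohen–Macaulay, then `B/𝔧` is Gorenstein. -/
theorem gor_quotient_annihilator_span (x : B) (𝔧 : Ideal B)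
    (h1 : Submodule.annihilator (Ideal.span {x}) = 𝔧)
    (h2 : Submodule.annihilator 𝔧 = Ideal.span {x}) (hne : 𝔧 ≠ ⊤)
    [LocCoh.IsCohenMacaulayLocalRing (B ⧸ 𝔧)] : LocCoh.IsGorensteinLocalRing (B ⧸ 𝔧) := by
  classical
  have hsurj : Function.Surjective (algebraMap B (B ⧸ 𝔧)) :=
    fun y => Ideal.Quotient.mk_surjective y
  obtain ⟨n', hn'⟩ := gor_exists_nat_dim B
  have hdim : ringKrullDim (B ⧸ 𝔧) = ringKrullDim B := by
    subst h1
    exact ringKrullDim_quotient_annihilator B _ hne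
  have hn : ringKrullDim (B ⧸ 𝔧) = n' := hdim.trans hn'
  obtain ⟨E, _, _, f, hf⟩ := exists_injective_hull (B ⧸ 𝔧) (ResidueField (B ⧸ 𝔧))
  letI : Module B E := Module.compHom E (algebraMap B (B ⧸ 𝔧))
  haveI : IsScalarTower B (B ⧸ 𝔧) E := IsScalarTower.of_algebraMap_smul (fun _ _ => rfl)
  have hK := KExt_smul_eq_zero (R := B ⧸ 𝔧) hsurj 0
  letI instM : Module (B ⧸ 𝔧) (KExt B (B ⧸ 𝔧) 0) := quotModule hsurj (KExt B (B ⧸ 𝔧) 0) hK
  haveI instT : IsScalarTower B (B ⧸ 𝔧) (KExt B (B ⧸ 𝔧) 0) :=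
    IsScalarTower.of_algebraMap_smul
      (fun b t => quotModule_algebraMap_smul hsurj (KExt B (B ⧸ 𝔧) 0) hK b t)
  haveI : Module.Finite (B ⧸ 𝔧) (KExt B (B ⧸ 𝔧) 0) := KExt_finite hsurj 0
  obtain ⟨eK⟩ := canonMod_KExt hsurj f hf n' hn n' hn' 0 (Nat.add_zero n')
  refine (Groth.Agent.S7701.result (B ⧸ 𝔧) n' hn E f hf (KExt B (B ⧸ 𝔧) 0) eK).mpr ?_
  obtain ⟨eB⟩ := nonempty_KExt_zero_equiv B x 𝔧 h1 h2
  exact ⟨LinearEquiv.ofBijective (linearMapOfTower hsurj eB.toLinearMap) eB.bijective⟩

end gorCore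

/-! ### the global statement over a Gorenstein ring -/

section gorSemiglobal

variable {S : Type u} [CommRing S] [LocCoh.IsGorensteinRing S]

theorem gorRing_of_annihilator_span (x : S) (J : Ideal S)
    (h1 : Submodule.annihilator (Ideal.span {x}) = J)
    (h2 : Submodule.annihilator J = Ideal.span {x})
    [LocCoh.IsCohenMacaulayRing (S ⧸ J)] : LocCoh.IsGorensteinRing (S ⧸ J) := by
  refine { isGorensteinLocalRing_localization := fun Q _ => ?_ }
  have hQ'p : (Q.comap (Ideal.Quotient.mk J)).IsPrime := Ideal.comap_isPrime _ _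
  generalize hQ' : Q.comap (Ideal.Quotient.mk J) = Q' at hQ'p
  haveI := hQ'p
  obtain ⟨e⟩ := GorRing.nonempty_quotLocEquiv J Q Q' hQ'.symm
  refine gor_of_ringEquiv e.symm ?_
  have hJQ : J ≤ Q' := by
    intro y hy
    rw [← hQ', Ideal.mem_comap, Ideal.Quotient.eq_zero_iff_mem.mpr hy]
    exact Q.zero_mem
  haveI : LocCoh.IsGorensteinLocalRing (Localization.AtPrime Q') :=
    LocCoh.IsGorensteinRing.isGorensteinLocalRing_localization Q'
  haveI : LocCoh.IsCohenMacaulayLocalRing (Localization.AtPrime Q) :=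
    LocCoh.IsCohenMacaulayRing.isCohenMacaulayLocalRing_localization Q
  haveI : LocCoh.IsCohenMacaulayLocalRing
      (Localization.AtPrime Q' ⧸ J.map (algebraMap S (Localization.AtPrime Q'))) :=
    isCMLocalRing_of_ringEquiv e
  have hJ' : Submodule.annihilator (Ideal.span {algebraMap S (Localization.AtPrime Q') x}) =
      J.map (algebraMap S (Localization.AtPrime Q')) := by
    rw [← h1, map_annihilator_eq Q', Ideal.map_span, Set.image_singleton]
  have hI' : Submodule.annihilator (J.map (algebraMap S (Localization.AtPrime Q'))) =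
      Ideal.span {algebraMap S (Localization.AtPrime Q') x} := by
    rw [← map_annihilator_eq Q' J, h2, Ideal.map_span, Set.image_singleton]
  exact gor_quotient_annihilator_span (Localization.AtPrime Q') _ _ hJ' hI'
    (map_ne_top_of_le J Q' hJQ)

end gorSemiglobal

/-! ### complete intersections in regular rings are Gorenstein -/

section ci

theorem gor_quot_span_range_of_height (A : Type u) [CommRing A] [IsRegularLocalRing A] (c : ℕ)
    (y : Fin c → A) (hmem : ∀ i, y i ∈ maximalIdeal A)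
    (hht : (c : ℕ∞) ≤ (Ideal.span (Set.range y)).height) :
    LocCoh.IsGorensteinLocalRing (A ⧸ Ideal.span (Set.range y)) := by
  have hspan : Ideal.span (Set.range y) = Ideal.ofList (List.ofFn y) := span_range_eq_ofList' y
  have hmem' : ∀ x ∈ List.ofFn y, x ∈ maximalIdeal A := by
    intro x hx
    obtain ⟨i, rfl⟩ := (List.mem_ofFn' y x).mp hx
    exact hmem i
  have hht' : ((List.ofFn y).length : ℕ∞) ≤ (Ideal.ofList (List.ofFn y)).height := by
    rw [List.length_ofFn, ← hspan]
    exact hht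
  have hreg := (Unmixed.unmixed_local A (List.ofFn y) hmem' hht').1
  have hK := Groth.Agent.Lib.Helper14.KoszulFun.isZero_homology_of_isWeaklyRegular
    (List.ofFn y) A hreg
  have hA : LocCoh.IsGorensteinLocalRing A := Groth.Agent.S0342.result A
  have hgor := GorRing.gor_quot_of_koszulRegular (A := A) hA (List.ofFn y) hmem' hK
  exact gor_of_ringEquiv (Ideal.quotEquivOfEq hspan.symm) hgor

theorem gorRing_quot_span_range_of_height {P : Type u} [CommRing P] [IsRegularRing P] (c : ℕ)
    (g : Fin c → P) (h : (c : ℕ∞) ≤ (Ideal.span (Set.range g)).height) :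
    LocCoh.IsGorensteinRing (P ⧸ Ideal.span (Set.range g)) := by
  refine { isGorensteinLocalRing_localization := fun Q _ => ?_ }
  have hQ'p : (Q.comap (Ideal.Quotient.mk (Ideal.span (Set.range g)))).IsPrime :=
    Ideal.comap_isPrime _ _
  generalize hQ' : Q.comap (Ideal.Quotient.mk (Ideal.span (Set.range g))) = Q' at hQ'p
  haveI := hQ'p
  obtain ⟨e⟩ := GorRing.nonempty_quotLocEquiv (Ideal.span (Set.range g)) Q Q' hQ'.symm
  refine gor_of_ringEquiv e.symm ?_
  have hIQ : Ideal.span (Set.range g) ≤ Q' := by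
    intro y hy
    rw [← hQ', Ideal.mem_comap, Ideal.Quotient.eq_zero_iff_mem.mpr hy]
    exact Q.zero_mem
  have hspan : (Ideal.span (Set.range g)).map (algebraMap P (Localization.AtPrime Q')) =
      Ideal.span (Set.range (fun i => algebraMap P (Localization.AtPrime Q') (g i))) := by
    rw [Ideal.map_span, ← Set.range_comp]
    rfl
  have hmem : ∀ i, algebraMap P (Localization.AtPrime Q') (g i) ∈
      maximalIdeal (Localization.AtPrime Q') := by
    intro i
    have h1 : g i ∈ Q' := hIQ (Ideal.subset_span ⟨i, rfl⟩)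
    rw [← Localization.AtPrime.map_eq_maximalIdeal]
    exact Ideal.mem_map_of_mem _ h1
  have hht : (c : ℕ∞) ≤ (Ideal.span (Set.range
      (fun i => algebraMap P (Localization.AtPrime Q') (g i)))).height := by
    rw [← hspan]
    refine h.trans ?_
    rw [← IsLocalization.height_under Q'.primeCompl
      ((Ideal.span (Set.range g)).map (algebraMap P (Localization.AtPrime Q')))]
    exact Ideal.height_mono Ideal.le_comap_map
  have hgor := gor_quot_span_range_of_height (Localization.AtPrime Q') c _ hmem hht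
  exact gor_of_ringEquiv (Ideal.quotEquivOfEq hspan.symm) hgor

end ci

end Groth.Agent.Lib.Helper4.Liaison
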