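import Groth.Agent.Lib.Helper4.Liaison4
import Groth.Agent.Lib.Helper22.Liaison6
import Groth.Agent.S7703
import Groth.Agent.S0341

/-!
# Liaison: the sum of two geometrically linked ideals is Gorenstein (helper4)

* `gor_of_cyclic_KExt`: a CM quotient `R` of a Gorenstein local ring `B` whose canonical module
  `Ext^c_B(R, B)` is cyclic is Gorenstein.
* `ext_one_cyclic`: `Ext^1_A(A/(𝔞₁+𝔞₂), A)` is cyclic when `𝔞₁ ∩ 𝔞₂ = 0` and
  `Ext^1_A(A/𝔞ᵢ, A) = 0`.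
* `gor_quotient_sup_of_linked`: the local statement.
* `gorRing_quot_sup_of_linked`: the global statement over a Gorenstein ring.
-/

set_option autoImplicit false
set_option linter.style.haveILetI false
set_option linter.unusedSectionVars false
set_option linter.unusedVariables false
set_option maxHeartbeats 800000

open CategoryTheory Limits Opposite Abelian IsLocalRing

universe u

namespace Groth.Agent.Lib.Helper4.Liaison

open Groth.Agent.Lib.Helper4 Groth.Agent.Lib.Helper4.LC Groth.Agent.Lib.Helper4.ExtTop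
  Groth.Agent.Lib.Helper4.ExtReg Groth.Agent.Lib.Helper4.StalkDual RingTheory.Sequence
  Groth.Agent.Lib.Helper22.CMG Groth.Agent.Lib.Helper4.QuotCanon
  Groth.Agent.Lib.Helper1.InjHullLib Groth.Agent.Lib.Helper4.GorFlat

/-! ### cyclic canonical module -/

section cyclic

variable {B R : Type u} [CommRing B] [LocCoh.IsGorensteinLocalRing B] [CommRing R]
  [LocCoh.IsCohenMacaulayLocalRing R] [Algebra B R]
  (hsurj : Function.Surjective (algebraMap B R))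

include hsurj in
/-- a Cohen–Macaulay quotient of a Gorenstein local ring with cyclic canonical module is
Gorenstein. -/
theorem gor_of_cyclic_KExt (n : ℕ) (hn : ringKrullDim R = n) (n' : ℕ)
    (hn' : ringKrullDim B = n') (c : ℕ) (hc : n + c = n')
    (hcyc : ∃ k₀ : KExt B R c, ∀ x : KExt B R c, ∃ b : B, x = b • k₀) :
    LocCoh.IsGorensteinLocalRing R := by
  classical
  obtain ⟨E, _, _, f, hf⟩ := exists_injective_hull R (ResidueField R)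
  letI : Module B E := Module.compHom E (algebraMap B R)
  haveI : IsScalarTower B R E := IsScalarTower.of_algebraMap_smul (fun _ _ => rfl)
  have hK := KExt_smul_eq_zero (R := R) hsurj c
  letI instM : Module R (KExt B R c) := quotModule hsurj (KExt B R c) hK
  haveI instT : IsScalarTower B R (KExt B R c) :=
    IsScalarTower.of_algebraMap_smul
      (fun b t => quotModule_algebraMap_smul hsurj (KExt B R c) hK b t)
  haveI : Module.Finite R (KExt B R c) := KExt_finite hsurj c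
  obtain ⟨eK⟩ := canonMod_KExt hsurj f hf n hn n' hn' c hc
  have hbij := Groth.Agent.S7703.result R n hn E f hf (KExt B R c) eK
  refine (Groth.Agent.S7701.result R n hn E f hf (KExt B R c) eK).mpr ?_
  obtain ⟨k₀, hk₀⟩ := hcyc
  let φ : R →ₗ[R] KExt B R c := LinearMap.toSpanSingleton R (KExt B R c) k₀
  have hφsurj : Function.Surjective φ := by
    intro x
    obtain ⟨b, hb⟩ := hk₀ x
    refine ⟨algebraMap B R b, ?_⟩
    show (algebraMap B R b) • k₀ = x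
    rw [algebraMap_smul, hb]
  have hφinj : Function.Injective φ := by
    rw [injective_iff_map_eq_zero]
    intro t ht
    have ht' : t • k₀ = 0 := ht
    apply hbij.1
    show t • (LinearMap.id : KExt B R c →ₗ[R] KExt B R c) = (0 : R) • LinearMap.id
    rw [zero_smul]
    apply LinearMap.ext
    intro x
    obtain ⟨b, hb⟩ := hk₀ x
    rw [LinearMap.smul_apply, LinearMap.id_apply, LinearMap.zero_apply, hb,
      ← algebraMap_smul R b k₀, smul_smul, mul_comm, ← smul_smul, ht', smul_zero]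
  exact ⟨(LinearEquiv.ofBijective φ ⟨hφinj, hφsurj⟩).symm⟩

end cyclic

/-! ### the Ext computation -/

section extCyclic

variable {A : Type u} [CommRing A] (𝔞₁ 𝔞₂ : Ideal A)

lemma f₁_injective (hinf : 𝔞₁ ⊓ 𝔞₂ = ⊥) :
    Function.Injective (𝔞₁.mkQ ∘ₗ 𝔞₂.subtype : 𝔞₂ →ₗ[A] A ⧸ 𝔞₁) := by
  rw [injective_iff_map_eq_zero]
  rintro ⟨a, ha⟩ h
  have h1 : a ∈ 𝔞₁ := (Submodule.Quotient.mk_eq_zero 𝔞₁).mp h
  have h2 : a ∈ 𝔞₁ ⊓ 𝔞₂ := Submodule.mem_inf.mpr ⟨h1, ha⟩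
  rw [hinf, Submodule.mem_bot] at h2
  exact Subtype.ext h2

lemma f₁_g₁_exact :
    Function.Exact (𝔞₁.mkQ ∘ₗ 𝔞₂.subtype : 𝔞₂ →ₗ[A] A ⧸ 𝔞₁)
      (piq 𝔞₁ (𝔞₁ ⊔ 𝔞₂) le_sup_left) := by
  intro y
  obtain ⟨b, rfl⟩ := Submodule.Quotient.mk_surjective 𝔞₁ y
  constructor
  · intro h
    have h1 : b ∈ 𝔞₁ ⊔ 𝔞₂ := (Submodule.Quotient.mk_eq_zero (𝔞₁ ⊔ 𝔞₂)).mp h
    obtain ⟨a₁, ha₁, a₂, ha₂, rfl⟩ := Submodule.mem_sup.mp h1
    refine ⟨⟨a₂, ha₂⟩, ?_⟩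
    show (Submodule.Quotient.mk a₂ : A ⧸ 𝔞₁) = Submodule.Quotient.mk (a₁ + a₂)
    rw [Submodule.Quotient.eq]
    have h3 : a₂ - (a₁ + a₂) = -a₁ := by ring
    rw [h3]
    exact 𝔞₁.neg_mem ha₁
  · rintro ⟨⟨a, ha⟩, h⟩
    rw [← h]
    show (Submodule.Quotient.mk a : A ⧸ (𝔞₁ ⊔ 𝔞₂)) = 0
    exact (Submodule.Quotient.mk_eq_zero _).mpr (Submodule.mem_sup_right ha)

/-- `Ext^1(A/(𝔞₁+𝔞₂), A)` is a cyclic `A`-module when `𝔞₁ ∩ 𝔞₂ = 0` and
`Ext^1(A/𝔞ᵢ, A) = 0`. -/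
theorem ext_one_cyclic (hinf : 𝔞₁ ⊓ 𝔞₂ = ⊥)
    (hE1 : Subsingleton (Ext.{u} (Bm 𝔞₁) (ModuleCat.of A A) 1))
    (hE2 : Subsingleton (Ext.{u} (Bm 𝔞₂) (ModuleCat.of A A) 1)) :
    ∃ k₀ : Ext.{u} (Bm (𝔞₁ ⊔ 𝔞₂)) (ModuleCat.of A A) 1,
      ∀ x : Ext.{u} (Bm (𝔞₁ ⊔ 𝔞₂)) (ModuleCat.of A A) 1, ∃ b : A, x = b • k₀ := by
  have hex₂ : Function.Exact 𝔞₂.subtype 𝔞₂.mkQ := LinearMap.exact_subtype_mkQ 𝔞₂
  have hS₂ : (sesOf 𝔞₂.subtype 𝔞₂.mkQ hex₂).ShortExact :=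
    sesOf_shortExact _ _ hex₂ (Submodule.injective_subtype _) (Submodule.mkQ_surjective _)
  have hex₁ := f₁_g₁_exact 𝔞₁ 𝔞₂
  have hS₁ : (sesOf (𝔞₁.mkQ ∘ₗ 𝔞₂.subtype : 𝔞₂ →ₗ[A] A ⧸ 𝔞₁)
      (piq 𝔞₁ (𝔞₁ ⊔ 𝔞₂) le_sup_left) hex₁).ShortExact :=
    sesOf_shortExact _ _ hex₁ (f₁_injective 𝔞₁ 𝔞₂ hinf) (piq_surjective _ _ _)
  refine ⟨hS₁.extClass.comp (Ext.mk₀ (sesOf 𝔞₂.subtype 𝔞₂.mkQ hex₂).f) (add_zero 1),
    fun x₃ => ?_⟩
  have h0 : (Ext.mk₀ (sesOf (𝔞₁.mkQ ∘ₗ 𝔞₂.subtype : 𝔞₂ →ₗ[A] A ⧸ 𝔞₁)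
      (piq 𝔞₁ (𝔞₁ ⊔ 𝔞₂) le_sup_left) hex₁).g).comp x₃ (zero_add 1) = 0 :=
    @Subsingleton.elim _ hE1 _ _
  obtain ⟨x₁, rfl⟩ := Ext.contravariant_sequence_exact₃ hS₁ (ModuleCat.of A A) x₃ h0
    (add_zero 1)
  have h0' : hS₂.extClass.comp x₁ (add_zero 1) = 0 := @Subsingleton.elim _ hE2 _ _
  obtain ⟨x₂, rfl⟩ := Ext.contravariant_sequence_exact₁ hS₂ (ModuleCat.of A A) x₁
    (add_zero 1) h0'
  obtain ⟨φ, rfl⟩ := (Ext.mk₀_bijective _ _).2 x₂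
  obtain ⟨b, hb⟩ : ∃ b : A, φ.hom (1 : A) = b := ⟨_, rfl⟩
  have hφ : φ = b • (𝟙 (ModuleCat.of A A) : ModuleCat.of A A ⟶ ModuleCat.of A A) := by
    apply ModuleCat.hom_ext
    apply LinearMap.ext_ring
    rw [hb]
    simp
  refine ⟨b, ?_⟩
  rw [Ext.mk₀_comp_mk₀, hφ, Linear.comp_smul, Category.comp_id, Ext.mk₀_smul, Ext.comp_smul]

end extCyclic

/-! ### the local statement -/

section gorSup

lemma cm_arith (d : ℕ) (s : WithBot ℕ∞) (k δ : ℕ∞)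
    (h1 : (d : WithBot ℕ∞) = s + (k : WithBot ℕ∞)) (hk : 1 ≤ k)
    (h2 : ((d - 1 : ℕ) : ℕ∞) ≤ δ) (h3 : (δ : WithBot ℕ∞) ≤ s) :
    1 ≤ d ∧ s = ((d - 1 : ℕ) : WithBot ℕ∞) ∧ s = (δ : WithBot ℕ∞) := by
  have hs : s ≠ ⊥ := by
    rintro rfl
    exact WithBot.coe_ne_bot (le_bot_iff.mp h3)
  obtain ⟨s', rfl⟩ := WithBot.ne_bot_iff_exists.mp hs
  have h1' : (d : ℕ∞) = s' + k := by exact_mod_cast h1
  have hs' : s' ≠ ⊤ := by
    rintro rfl
    rw [top_add] at h1'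
    exact ENat.coe_ne_top d h1'
  have hk' : k ≠ ⊤ := by
    rintro rfl
    rw [add_top] at h1'
    exact ENat.coe_ne_top d h1'
  lift s' to ℕ using hs'
  lift k to ℕ using hk'
  have h4 : d = s' + k := by exact_mod_cast h1'
  have h5 : 1 ≤ k := by exact_mod_cast hk
  have h6 : δ ≤ (s' : ℕ∞) := by exact_mod_cast h3
  have h7 : ((s' : ℕ) : ℕ∞) ≤ ((d - 1 : ℕ) : ℕ∞) := by
    exact_mod_cast (by omega : s' ≤ d - 1)
  have h8 : ((s' : ℕ) : ℕ∞) = δ := le_antisymm (h7.trans h2) h6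
  have h9 : s' = d - 1 := by
    have h10 : ((d - 1 : ℕ) : ℕ∞) ≤ (s' : ℕ∞) := h2.trans h6
    have h11 : d - 1 ≤ s' := by exact_mod_cast h10
    omega
  refine ⟨by omega, ?_, ?_⟩
  · rw [h9]
    exact WithBot.coe_natCast (d - 1)
  · rw [h8]

variable (B : Type u) [CommRing B] [LocCoh.IsGorensteinLocalRing B]

theorem depth_quot_eq_of_cm (n : ℕ) (hn : ringKrullDim B = n) (I : Ideal B)
    (hI : ringKrullDim (B ⧸ I) = ringKrullDim B) [LocCoh.IsCohenMacaulayLocalRing (B ⧸ I)] :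
    LocCoh.depth B (B ⧸ I) = n := by
  have hcm := LocCoh.IsCohenMacaulayLocalRing.supportDim_eq_depth (R := B ⧸ I)
  rw [Module.supportDim_self_eq_ringKrullDim, hI, hn] at hcm
  have h1 : LocCoh.depth (B ⧸ I) (B ⧸ I) = n := by exact_mod_cast hcm.symm
  haveI : IsLocalHom (algebraMap B (B ⧸ I)) :=
    IsLocalHom.of_surjective _ Ideal.Quotient.mk_surjective
  have h2 := Falt.depth_eq_of_surjective (A := B) (A' := B ⧸ I) Ideal.Quotient.mk_surjective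
    (B ⧸ I)
  rw [h2, h1]

/-- **the local core**: `B` Gorenstein local, `𝔞₁ = (0 : 𝔞₂)`, `𝔞₂ = (0 : 𝔞₁)`, `𝔞₁ ∩ 𝔞₂ = 0`,
`B/𝔞ᵢ` Cohen–Macaulay: then `B/(𝔞₁ + 𝔞₂)` is Gorenstein of dimension `dim B - 1`. -/
theorem gor_quotient_sup_of_linked (𝔞₁ 𝔞₂ : Ideal B)
    (h12 : Submodule.annihilator 𝔞₁ = 𝔞₂) (h21 : Submodule.annihilator 𝔞₂ = 𝔞₁)
    (hinf : 𝔞₁ ⊓ 𝔞₂ = ⊥) (hne : 𝔞₁ ⊔ 𝔞₂ ≠ ⊤)
    [LocCoh.IsCohenMacaulayLocalRing (B ⧸ 𝔞₁)] [LocCoh.IsCohenMacaulayLocalRing (B ⧸ 𝔞₂)] :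
    LocCoh.IsGorensteinLocalRing (B ⧸ (𝔞₁ ⊔ 𝔞₂)) ∧
      ringKrullDim (B ⧸ (𝔞₁ ⊔ 𝔞₂)) + 1 = ringKrullDim B := by
  classical
  obtain ⟨d, hd⟩ := gor_exists_nat_dim B
  haveI hcmB : LocCoh.IsCohenMacaulayLocalRing B := Groth.Agent.S0341.result B
  have hcm : LocCoh.IsCohenMacaulayModule B B :=
    LocCoh.IsCohenMacaulayLocalRing.supportDim_eq_depth (R := B)
  have h𝔞₁ne : 𝔞₁ ≠ ⊤ := fun h => hne (by rw [h, top_sup_eq])
  have h𝔞₂ne : 𝔞₂ ≠ ⊤ := fun h => hne (by rw [h, sup_top_eq])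
  have hdim₁ : ringKrullDim (B ⧸ 𝔞₁) = ringKrullDim B := by
    have h := ringKrullDim_quotient_annihilator B 𝔞₂ (by rw [h21]; exact h𝔞₁ne)
    rw [h21] at h
    exact h
  have hdim₂ : ringKrullDim (B ⧸ 𝔞₂) = ringKrullDim B := by
    have h := ringKrullDim_quotient_annihilator B 𝔞₁ (by rw [h12]; exact h𝔞₂ne)
    rw [h12] at h
    exact h
  have hdB : LocCoh.idealDepth (maximalIdeal B) B = d := by
    have h := hcm
    unfold LocCoh.IsCohenMacaulayModule at h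
    rw [Module.supportDim_self_eq_ringKrullDim, hd] at h
    have h' : LocCoh.depth B B = d := by exact_mod_cast h.symm
    exact h'
  have hd₁ : LocCoh.idealDepth (maximalIdeal B) (B ⧸ 𝔞₁) = d :=
    depth_quot_eq_of_cm B d hd 𝔞₁ hdim₁
  have hd₂ : LocCoh.idealDepth (maximalIdeal B) (B ⧸ 𝔞₂) = d :=
    depth_quot_eq_of_cm B d hd 𝔞₂ hdim₂
  -- depth of `𝔞₂`
  have hdep₂ := (idealDepth_shortExact (maximalIdeal B) 𝔞₂.subtype 𝔞₂.mkQ
    (Submodule.injective_subtype _) (Submodule.mkQ_surjective _)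
    (LinearMap.exact_subtype_mkQ 𝔞₂)).2.2
  have h𝔞₂d : (d : ℕ∞) ≤ LocCoh.idealDepth (maximalIdeal B) 𝔞₂ := by
    refine le_trans (le_min ?_ ?_) hdep₂
    · exact hdB.symm.le
    · rw [hd₂]
      exact le_self_add
  -- depth of the quotient
  have hdep₁ := (idealDepth_shortExact (maximalIdeal B)
    (𝔞₁.mkQ ∘ₗ 𝔞₂.subtype : 𝔞₂ →ₗ[B] B ⧸ 𝔞₁) (piq 𝔞₁ (𝔞₁ ⊔ 𝔞₂) le_sup_left)
    (f₁_injective 𝔞₁ 𝔞₂ hinf) (piq_surjective _ _ _) (f₁_g₁_exact 𝔞₁ 𝔞₂)).2.1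
  have hTd : ((d - 1 : ℕ) : ℕ∞) ≤
      LocCoh.idealDepth (maximalIdeal B) (B ⧸ (𝔞₁ ⊔ 𝔞₂)) := by
    refine le_trans (le_min ?_ ?_) hdep₁
    · rw [hd₁]
      exact_mod_cast Nat.sub_le d 1
    · have h : ((d - 1 : ℕ) : ℕ∞) = (d : ℕ∞) - 1 := by rw [ENat.coe_sub, Nat.cast_one]
      rw [h]
      exact tsub_le_tsub_right h𝔞₂d 1
  -- a regular element in `𝔞₁ + 𝔞₂`
  have hIne : (𝔞₁ ⊔ 𝔞₂) • (⊤ : Submodule B B) ≠ ⊤ := by
    rw [smul_eq_mul, Ideal.mul_top]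
    exact hne
  have hk0 : LocCoh.idealDepth (𝔞₁ ⊔ 𝔞₂) B ≠ 0 := by
    intro h0
    obtain ⟨p, hp, hle⟩ :=
      (idealDepth_eq_zero_iff_exists_le_associatedPrime (𝔞₁ ⊔ 𝔞₂) hIne).mp h0
    obtain ⟨hpp, z, hz⟩ := isAssociatedPrime_iff.mp hp
    have hkill : ∀ a ∈ 𝔞₁ ⊔ 𝔞₂, a * z = 0 := by
      intro a ha
      have h := hle ha
      rw [hz, Submodule.mem_colon_singleton, Submodule.mem_bot, smul_eq_mul] at h
      exact h
    have hz1 : z ∈ 𝔞₂ := by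
      rw [← h12, Submodule.mem_annihilator]
      intro a ha
      rw [smul_eq_mul, mul_comm]
      exact hkill a (Submodule.mem_sup_left ha)
    have hz2 : z ∈ 𝔞₁ := by
      rw [← h21, Submodule.mem_annihilator]
      intro a ha
      rw [smul_eq_mul, mul_comm]
      exact hkill a (Submodule.mem_sup_right ha)
    have hz0 : z = 0 := by
      have h : z ∈ 𝔞₁ ⊓ 𝔞₂ := Submodule.mem_inf.mpr ⟨hz2, hz1⟩
      rwa [hinf, Submodule.mem_bot] at h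
    apply hpp.ne_top
    rw [hz, hz0, eq_top_iff]
    intro a _
    rw [Submodule.mem_colon_singleton, smul_zero]
    exact Submodule.zero_mem _
  -- Cohen–Macaulayness of the quotient
  haveI hTnt : Nontrivial (B ⧸ (𝔞₁ ⊔ 𝔞₂)) := Ideal.Quotient.nontrivial_iff.mpr hne
  have h3 := depth_le_supportDim (R := B) (M := B ⧸ (𝔞₁ ⊔ 𝔞₂))
  have h1 := cm_supportDim_eq_add_idealDepth (𝔞₁ ⊔ 𝔞₂) hne hcm
  have hsmul : ((𝔞₁ ⊔ 𝔞₂) • (⊤ : Submodule B B)) = (𝔞₁ ⊔ 𝔞₂) := by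
    rw [smul_eq_mul, Ideal.mul_top]
  have he : Module.supportDim B (B ⧸ ((𝔞₁ ⊔ 𝔞₂) • (⊤ : Submodule B B))) =
      Module.supportDim B (B ⧸ (𝔞₁ ⊔ 𝔞₂)) :=
    Module.supportDim_eq_of_equiv (Submodule.quotEquivOfEq _ _ hsmul)
  rw [he, Module.supportDim_self_eq_ringKrullDim, hd] at h1
  obtain ⟨hd1, hs1, hs2⟩ := cm_arith d _ _ _ h1 (ENat.one_le_iff_ne_zero.mpr hk0) hTd h3
  have hcmT : LocCoh.IsCohenMacaulayModule B (B ⧸ (𝔞₁ ⊔ 𝔞₂)) := hs2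
  haveI hT : LocCoh.IsCohenMacaulayLocalRing (B ⧸ (𝔞₁ ⊔ 𝔞₂)) :=
    (cmModule_quotient_iff _ _ hne).mp hcmT
  have hn : ringKrullDim (B ⧸ (𝔞₁ ⊔ 𝔞₂)) = ((d - 1 : ℕ) : WithBot ℕ∞) := by
    rw [← Module.supportDim_quotient_eq_ringKrullDim]
    exact hs1
  -- the canonical module is cyclic
  have hE1 := ext_self_subsingleton_of_gorenstein B 𝔞₁ hdim₁ 0
  have hE2 := ext_self_subsingleton_of_gorenstein B 𝔞₂ hdim₂ 0
  obtain ⟨k₀, hk₀⟩ := ext_one_cyclic 𝔞₁ 𝔞₂ hinf hE1 hE2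
  have hsurj : Function.Surjective (algebraMap B (B ⧸ (𝔞₁ ⊔ 𝔞₂))) :=
    fun y => Ideal.Quotient.mk_surjective y
  refine ⟨gor_of_cyclic_KExt (B := B) (R := B ⧸ (𝔞₁ ⊔ 𝔞₂)) hsurj (d - 1) hn d hd 1
    (by omega) ⟨k₀, hk₀⟩, ?_⟩
  rw [hn, hd]
  exact_mod_cast (by omega : d - 1 + 1 = d)

end gorSup

/-! ### the global statement over a Gorenstein ring -/

section gorSupGlobal

variable {S : Type u} [CommRing S]

lemma map_inf_eq_bot (Q : Ideal S) [Q.IsPrime] (I₁ I₂ : Ideal S) (h : I₁ ⊓ I₂ = ⊥) :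
    I₁.map (algebraMap S (Localization.AtPrime Q)) ⊓
      I₂.map (algebraMap S (Localization.AtPrime Q)) = ⊥ := by
  rw [eq_bot_iff]
  intro z hz
  obtain ⟨hz1, hz2⟩ := Submodule.mem_inf.mp hz
  rw [IsLocalization.mem_map_algebraMap_iff Q.primeCompl (Localization.AtPrime Q)] at hz1 hz2
  obtain ⟨⟨⟨a, ha⟩, s⟩, h1⟩ := hz1
  obtain ⟨⟨⟨b, hb⟩, t⟩, h2⟩ := hz2
  have h1' : z * algebraMap S (Localization.AtPrime Q) (s : S) =
      algebraMap S (Localization.AtPrime Q) a := h1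
  have h2' : z * algebraMap S (Localization.AtPrime Q) (t : S) =
      algebraMap S (Localization.AtPrime Q) b := h2
  have key : algebraMap S (Localization.AtPrime Q) (a * t) =
      algebraMap S (Localization.AtPrime Q) (b * s) := by
    rw [map_mul, map_mul, ← h1', ← h2']
    ring
  obtain ⟨u, hu⟩ := (IsLocalization.eq_iff_exists Q.primeCompl (Localization.AtPrime Q)).mp key
  have hmem : (u : S) * (a * t) ∈ I₁ ⊓ I₂ := by
    refine Submodule.mem_inf.mpr ⟨I₁.mul_mem_left _ (I₁.mul_mem_right _ ha), ?_⟩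
    rw [hu]
    exact I₂.mul_mem_left _ (I₂.mul_mem_right _ hb)
  rw [h, Submodule.mem_bot] at hmem
  have h3 : algebraMap S (Localization.AtPrime Q) (u : S) *
      (algebraMap S (Localization.AtPrime Q) a *
        algebraMap S (Localization.AtPrime Q) (t : S)) = 0 := by
    rw [← map_mul, ← map_mul, hmem, map_zero]
  have hu' : IsUnit (algebraMap S (Localization.AtPrime Q) (u : S)) :=
    IsLocalization.map_units _ u
  have ht' : IsUnit (algebraMap S (Localization.AtPrime Q) (t : S)) :=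
    IsLocalization.map_units _ t
  have hs' : IsUnit (algebraMap S (Localization.AtPrime Q) (s : S)) :=
    IsLocalization.map_units _ s
  have h4 := (hu'.mul_right_eq_zero).mp h3
  have h5 := (ht'.mul_left_eq_zero).mp h4
  rw [h5] at h1'
  rw [Submodule.mem_bot]
  exact (hs'.mul_left_eq_zero).mp h1'

theorem cmLocal_quot_map (I Q : Ideal S) [Q.IsPrime] (hIQ : I ≤ Q)
    [LocCoh.IsCohenMacaulayRing (S ⧸ I)] :
    LocCoh.IsCohenMacaulayLocalRing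
      (Localization.AtPrime Q ⧸ I.map (algebraMap S (Localization.AtPrime Q))) := by
  have hker : RingHom.ker (Ideal.Quotient.mk I) ≤ Q := by rw [Ideal.mk_ker]; exact hIQ
  haveI hq : (Q.map (Ideal.Quotient.mk I)).IsPrime :=
    Ideal.map_isPrime_of_surjective Ideal.Quotient.mk_surjective hker
  have hQ : Q = (Q.map (Ideal.Quotient.mk I)).comap (Ideal.Quotient.mk I) := by
    rw [Ideal.comap_map_of_surjective _ Ideal.Quotient.mk_surjective, ← RingHom.ker_eq_comap_bot,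
      Ideal.mk_ker]
    exact (sup_eq_left.mpr hIQ).symm
  haveI : LocCoh.IsCohenMacaulayLocalRing
      (Localization.AtPrime (Q.map (Ideal.Quotient.mk I))) :=
    LocCoh.IsCohenMacaulayRing.isCohenMacaulayLocalRing_localization _
  obtain ⟨e⟩ := GorRing.nonempty_quotLocEquiv I (Q.map (Ideal.Quotient.mk I)) Q hQ
  exact isCMLocalRing_of_ringEquiv e

variable [LocCoh.IsGorensteinRing S]

/-- **the sum of two linked ideals with zero intersection in a Gorenstein ring is Gorenstein**, of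
codimension one. -/
theorem gorRing_quot_sup_of_linked (𝔞₁ 𝔞₂ J : Ideal S) (hJ : J = 𝔞₁ ⊔ 𝔞₂)
    (h12 : Submodule.annihilator 𝔞₁ = 𝔞₂) (h21 : Submodule.annihilator 𝔞₂ = 𝔞₁)
    (hinf : 𝔞₁ ⊓ 𝔞₂ = ⊥)
    [LocCoh.IsCohenMacaulayRing (S ⧸ 𝔞₁)] [LocCoh.IsCohenMacaulayRing (S ⧸ 𝔞₂)] :
    LocCoh.IsGorensteinRing (S ⧸ J) ∧
      ∀ (𝔮 : Ideal (S ⧸ J)) [𝔮.IsPrime],
        𝔮.height + 1 = (𝔮.comap (Ideal.Quotient.mk J)).height := by
  have key : ∀ (𝔮 : Ideal (S ⧸ J)) [𝔮.IsPrime] (Q' : Ideal S) [Q'.IsPrime]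
      (hQ' : Q' = 𝔮.comap (Ideal.Quotient.mk J)),
      LocCoh.IsGorensteinLocalRing (Localization.AtPrime 𝔮) ∧
        ringKrullDim (Localization.AtPrime 𝔮) + 1 = ringKrullDim (Localization.AtPrime Q') := by
    intro 𝔮 _ Q' _ hQ'
    obtain ⟨e⟩ := GorRing.nonempty_quotLocEquiv J 𝔮 Q' hQ'
    have hJQ : J ≤ Q' := by
      intro y hy
      rw [hQ', Ideal.mem_comap, Ideal.Quotient.eq_zero_iff_mem.mpr hy]
      exact 𝔮.zero_mem
    have h1J : 𝔞₁ ≤ J := by rw [hJ]; exact le_sup_left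
    have h2J : 𝔞₂ ≤ J := by rw [hJ]; exact le_sup_right
    haveI : LocCoh.IsGorensteinLocalRing (Localization.AtPrime Q') :=
      LocCoh.IsGorensteinRing.isGorensteinLocalRing_localization Q'
    haveI := cmLocal_quot_map 𝔞₁ Q' (h1J.trans hJQ)
    haveI := cmLocal_quot_map 𝔞₂ Q' (h2J.trans hJQ)
    have hmap : J.map (algebraMap S (Localization.AtPrime Q')) =
        𝔞₁.map (algebraMap S (Localization.AtPrime Q')) ⊔
          𝔞₂.map (algebraMap S (Localization.AtPrime Q')) := by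
      rw [hJ, Ideal.map_sup]
    have hne : 𝔞₁.map (algebraMap S (Localization.AtPrime Q')) ⊔
        𝔞₂.map (algebraMap S (Localization.AtPrime Q')) ≠ ⊤ := by
      rw [← hmap]
      exact map_ne_top_of_le J Q' hJQ
    have h12' : Submodule.annihilator (𝔞₁.map (algebraMap S (Localization.AtPrime Q'))) =
        𝔞₂.map (algebraMap S (Localization.AtPrime Q')) := by
      rw [← map_annihilator_eq Q' 𝔞₁, h12]
    have h21' : Submodule.annihilator (𝔞₂.map (algebraMap S (Localization.AtPrime Q'))) =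
        𝔞₁.map (algebraMap S (Localization.AtPrime Q')) := by
      rw [← map_annihilator_eq Q' 𝔞₂, h21]
    obtain ⟨hgor, hdim⟩ := gor_quotient_sup_of_linked (Localization.AtPrime Q') _ _ h12' h21'
      (map_inf_eq_bot Q' 𝔞₁ 𝔞₂ hinf) hne
    have e' : Localization.AtPrime 𝔮 ≃+* (Localization.AtPrime Q' ⧸
        (𝔞₁.map (algebraMap S (Localization.AtPrime Q')) ⊔
          𝔞₂.map (algebraMap S (Localization.AtPrime Q')))) :=
      e.trans (Ideal.quotEquivOfEq hmap)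
    refine ⟨gor_of_ringEquiv e'.symm hgor, ?_⟩
    rw [ringKrullDim_eq_of_ringEquiv e', hdim]
  refine ⟨{ isGorensteinLocalRing_localization := fun 𝔮 _ =>
    (key 𝔮 (𝔮.comap (Ideal.Quotient.mk J)) rfl).1 }, fun 𝔮 _ => ?_⟩
  have h := (key 𝔮 (𝔮.comap (Ideal.Quotient.mk J)) rfl).2
  rw [IsLocalization.AtPrime.ringKrullDim_eq_height 𝔮 (Localization.AtPrime 𝔮),
    IsLocalization.AtPrime.ringKrullDim_eq_height (𝔮.comap (Ideal.Quotient.mk J))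
      (Localization.AtPrime (𝔮.comap (Ideal.Quotient.mk J)))] at h
  exact_mod_cast h

end gorSupGlobal

end Groth.Agent.Lib.Helper4.Liaison
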