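import Groth.Agent.Lib.Helper4.Liaison5

/-!
# Liaison: global lemmas in the polynomial ring (helper4)

* `colon_inf_eq_of_disjoint`: `(I₁ ∩ I₂) : I₁ = I₂` for ideals without common components, `R/I₂`
  Cohen–Macaulay.
* `height_inf_eq`: `ht (I₁ ∩ I₂) = c` when `ht I₁ = ht I₂ = c`.
* `height_add_height_map_irr`: `ht J + ht (𝔪/J) = n + 1` for homogeneous `J` with CM quotient.
-/

set_option autoImplicit false
set_option linter.style.haveILetI false
set_option linter.unusedSectionVars false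
set_option linter.unusedVariables false
set_option maxHeartbeats 800000

universe u

namespace Groth.Agent.Lib.Helper4.Liaison

open Groth.Agent.Lib.Helper22.Liaison

theorem height_inf_eq {R : Type u} [CommRing R] (I₁ I₂ : Ideal R) (c : ℕ∞)
    (h₁ : I₁.height = c) (h₂ : I₂.height = c) : (I₁ ⊓ I₂).height = c := by
  apply le_antisymm
  · rw [← h₁]
    exact Ideal.height_mono inf_le_left
  · rw [Ideal.height_eq_inf_minimalPrimes]
    refine le_iInf₂ (fun 𝔭 h𝔭 => ?_)
    rcases (Ideal.IsPrime.inf_le h𝔭.1.1).mp h𝔭.1.2 with h | h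
    · rw [← h₁]
      exact Ideal.height_mono h
    · rw [← h₂]
      exact Ideal.height_mono h

section Poly

variable {K : Type u} [Field K] {n : ℕ}

theorem colon_inf_eq_of_disjoint (I₁ I₂ : Ideal (MvPolynomial (Fin (n + 1)) K))
    (hI₂ : I₂.IsHomogeneous (GrSyz.stdGr K (Fin (n + 1))))
    [LocCoh.IsCohenMacaulayRing (MvPolynomial (Fin (n + 1)) K ⧸ I₂)]
    (hht : I₂.height ≤ I₁.height) (hdisj : Disjoint I₁.minimalPrimes I₂.minimalPrimes) :
    (I₁ ⊓ I₂).colon (I₁ : Set (MvPolynomial (Fin (n + 1)) K)) = I₂ := by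
  apply le_antisymm
  · intro x hx
    by_contra hxI
    have hne : (Ideal.Quotient.mk I₂ x : MvPolynomial (Fin (n + 1)) K ⧸ I₂) ≠ 0 :=
      fun h => hxI (Ideal.Quotient.eq_zero_iff_mem.1 h)
    obtain ⟨Q, hQ, hle⟩ := exists_le_isAssociatedPrime_of_isNoetherianRing
      (R := MvPolynomial (Fin (n + 1)) K) (M := MvPolynomial (Fin (n + 1)) K ⧸ I₂) _ hne
    haveI : Q.IsPrime := hQ.isPrime
    have hI₁Q : I₁ ≤ Q := by
      refine le_trans ?_ hle
      intro i hi
      rw [Submodule.mem_colon_singleton, Submodule.mem_bot]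
      have h0 : i • (Ideal.Quotient.mk I₂ x : MvPolynomial (Fin (n + 1)) K ⧸ I₂) =
          Ideal.Quotient.mk I₂ (i * x) := rfl
      rw [h0]
      refine Ideal.Quotient.eq_zero_iff_mem.2 ?_
      have h1 := Submodule.mem_colon.1 hx i hi
      rw [smul_eq_mul] at h1
      rw [mul_comm]
      exact (Submodule.mem_inf.mp h1).2
    have hQh : Q.height = I₂.height := height_eq_of_mem_ass I₂ hI₂ Q hQ
    have hQ2 : Q ∈ I₂.minimalPrimes := ass_subset_minimalPrimes_quot I₂ hQ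
    have hQ1 : Q ∈ I₁.minimalPrimes :=
      Ideal.mem_minimalPrimes_of_height_le hI₁Q (by rw [hQh]; exact hht)
    exact Set.disjoint_left.mp hdisj hQ1 hQ2
  · intro x hx
    refine Submodule.mem_colon.2 (fun i hi => ?_)
    rw [smul_eq_mul]
    exact Submodule.mem_inf.mpr ⟨I₁.mul_mem_left _ hi, I₂.mul_mem_right _ hx⟩

/-- for a homogeneous ideal `J` with Cohen–Macaulay quotient: `ht J + ht(𝔪/J) = n + 1`. -/
theorem height_add_height_map_irr (J : Ideal (MvPolynomial (Fin (n + 1)) K))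
    (hJ : J.IsHomogeneous (GrSyz.stdGr K (Fin (n + 1))))
    [LocCoh.IsCohenMacaulayRing (MvPolynomial (Fin (n + 1)) K ⧸ J)] (hJne : J ≠ ⊤) :
    J.height + ((irr K n).map (Ideal.Quotient.mk J)).height = ((n + 1 : ℕ) : ℕ∞) := by
  obtain ⟨𝔭, h𝔭⟩ := Ideal.nonempty_minimalPrimes hJne
  haveI h𝔭p : 𝔭.IsPrime := h𝔭.1.1
  have hPh := height_eq_of_mem_minimalPrimes J hJ 𝔭 h𝔭
  have e1 := dim_quot_eq_of_mem_minimalPrimes J hJ 𝔭 h𝔭
  rw [Groth.Agent.Lib.Helper12.DimFT.ringKrullDim_quotient_eq_coheight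
    (⟨𝔭, h𝔭p⟩ : PrimeSpectrum (MvPolynomial (Fin (n + 1)) K))] at e1
  have e2 : Order.coheight (⟨𝔭, h𝔭p⟩ : PrimeSpectrum (MvPolynomial (Fin (n + 1)) K)) =
      ((irr K n).map (Ideal.Quotient.mk J)).height := by exact_mod_cast e1
  have hdimR : ringKrullDim (MvPolynomial (Fin (n + 1)) K) = ((n + 1 : ℕ) : WithBot ℕ∞) := by
    rw [MvPolynomial.ringKrullDim_of_isNoetherianRing, ringKrullDim_eq_zero_of_field]
    simp
  have a1 := Groth.Agent.Lib.Helper12.DimFT2.height_add_coheight' K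
    (MvPolynomial (Fin (n + 1)) K) (n + 1) hdimR ⟨𝔭, h𝔭p⟩
  rw [← PrimeSpectrum.height_eq_orderHeight] at a1
  simp only at a1
  rw [hPh, e2] at a1
  exact a1

end Poly

end Groth.Agent.Lib.Helper4.Liaison
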