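import Mathlib
import Groth.Agent.Lib.Helper4.GorFlat
import Groth.Agent.Lib.Helper4.Rees
import Groth.Agent.S0543

/-!
# Gorenstein multicross singularities are nodes

`n_eq_two`: a Gorenstein local ring `B` with an injective ring map to `k⟦X⟧ⁿ` whose image is the
ring of tuples with a common constant term, `n ≥ 2`, has `n = 2`.
`gor_completion`: the completion of a Gorenstein local ring is Gorenstein.
-/

set_option autoImplicit false
set_option linter.style.haveILetI false
set_option linter.unusedSectionVars false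
set_option linter.unusedVariables false
set_option maxHeartbeats 800000

open IsLocalRing

universe u

namespace Groth.Agent.Lib.Helper4.Multicross

open Groth.Agent.Lib.Helper4

lemma coeff_one_mul' {k : Type*} [CommRing k] (f g : PowerSeries k) :
    PowerSeries.coeff 1 (f * g) =
      PowerSeries.constantCoeff f * PowerSeries.coeff 1 g +
        PowerSeries.coeff 1 f * PowerSeries.constantCoeff g := by
  rw [PowerSeries.coeff_mul, show Finset.HasAntidiagonal.antidiagonal 1 = ({(0, 1), (1, 0)} : Finset (ℕ × ℕ)) from rfl,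
    Finset.sum_pair (by decide), PowerSeries.coeff_zero_eq_constantCoeff_apply,
    PowerSeries.coeff_zero_eq_constantCoeff_apply]

lemma cc_single {k : Type*} [Field k] {n : ℕ} (i j : Fin n) :
    PowerSeries.constantCoeff ((Pi.single i (PowerSeries.X : PowerSeries k) :
      Fin n → PowerSeries k) j) = 0 := by
  rw [Pi.single_apply]
  split_ifs
  · exact PowerSeries.constantCoeff_X
  · exact map_zero _

lemma coeff_one_single {k : Type*} [Field k] {n : ℕ} (i j : Fin n) :
    PowerSeries.coeff 1 ((Pi.single i (PowerSeries.X : PowerSeries k) :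
      Fin n → PowerSeries k) j) = (Pi.single i (1 : k) : Fin n → k) j := by
  rw [Pi.single_apply, Pi.single_apply]
  split_ifs
  · exact PowerSeries.coeff_one_X
  · exact map_zero _

section

variable {k : Type u} [Field k] {B : Type u} [CommRing B] {n : ℕ}
  (φ : B →+* (Fin n → PowerSeries k)) (hinj : Function.Injective φ)
  (hrange : Set.range φ = {f : Fin n → PowerSeries k | ∀ i j : Fin n,
    PowerSeries.constantCoeff (f i) = PowerSeries.constantCoeff (f j)})

include hrange in
lemma cc_eq (b : B) (i j : Fin n) :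
    PowerSeries.constantCoeff (φ b i) = PowerSeries.constantCoeff (φ b j) := by
  have h : φ b ∈ Set.range φ := ⟨b, rfl⟩
  rw [hrange] at h
  exact h i j

include hrange in
lemma exists_preimage (f : Fin n → PowerSeries k)
    (hf : ∀ i j : Fin n, PowerSeries.constantCoeff (f i) = PowerSeries.constantCoeff (f j)) :
    ∃ b : B, φ b = f := by
  have h : f ∈ Set.range φ := by rw [hrange]; exact hf
  exact h

include hinj hrange in
lemma isUnit_iff (b : B) (i : Fin n) :
    IsUnit b ↔ PowerSeries.constantCoeff (φ b i) ≠ 0 := by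
  constructor
  · intro hb
    have h1 : IsUnit (φ b) := hb.map φ
    have h2 : IsUnit (φ b i) := (Pi.isUnit_iff.1 h1) i
    exact (PowerSeries.isUnit_iff_constantCoeff.1 h2).ne_zero
  · intro hb
    have hall : ∀ j, PowerSeries.constantCoeff (φ b j) ≠ 0 := fun j => by
      rw [cc_eq φ hrange b j i]; exact hb
    obtain ⟨b', hb'⟩ := exists_preimage φ hrange (fun j => (φ b j)⁻¹) (fun j j' => by
      rw [PowerSeries.constantCoeff_inv, PowerSeries.constantCoeff_inv, cc_eq φ hrange b j j'])
    have h1 : b * b' = 1 := by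
      apply hinj
      rw [map_mul, map_one, hb']
      funext j
      rw [Pi.mul_apply, Pi.one_apply]
      exact PowerSeries.mul_inv_cancel _ (hall j)
    exact IsUnit.of_mul_eq_one _ h1

include hinj hrange in
lemma mem_max_iff [IsLocalRing B] (b : B) (i : Fin n) :
    b ∈ maximalIdeal B ↔ PowerSeries.constantCoeff (φ b i) = 0 := by
  rw [mem_maximalIdeal, mem_nonunits_iff, isUnit_iff φ hinj hrange b i, not_not]

include hinj hrange in
/-- the main computation. -/
theorem n_eq_two (hG : LocCoh.IsGorensteinLocalRing B) (hn : 2 ≤ n) : n = 2 := by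
  haveI := hG
  let i0 : Fin n := ⟨0, by omega⟩
  let i1 : Fin n := ⟨1, by omega⟩
  obtain ⟨x, hx⟩ := exists_preimage φ hrange (fun _ => (PowerSeries.X : PowerSeries k))
    (fun _ _ => rfl)
  have he : ∀ i : Fin n, ∃ e : B, φ e = Pi.single i (PowerSeries.X : PowerSeries k) := fun i =>
    exists_preimage φ hrange _ (fun j j' => by rw [cc_single, cc_single])
  choose e he using he
  -- linear part and constant part
  have hCx : ∀ j, PowerSeries.constantCoeff (φ x j) = 0 := fun j => by
    rw [hx]; exact PowerSeries.constantCoeff_X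
  have hLx : ∀ j, PowerSeries.coeff 1 (φ x j) = 1 := fun j => by
    rw [hx]; exact PowerSeries.coeff_one_X
  have hLmul : ∀ (a b : B) (j : Fin n), PowerSeries.coeff 1 (φ (a * b) j) =
      PowerSeries.constantCoeff (φ a i0) * PowerSeries.coeff 1 (φ b j) +
        PowerSeries.coeff 1 (φ a j) * PowerSeries.constantCoeff (φ b i0) := by
    intro a b j
    rw [map_mul, Pi.mul_apply, coeff_one_mul', cc_eq φ hrange a j i0, cc_eq φ hrange b j i0]
  have hLadd : ∀ (a b : B) (j : Fin n), PowerSeries.coeff 1 (φ (a + b) j) =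
      PowerSeries.coeff 1 (φ a j) + PowerSeries.coeff 1 (φ b j) := by
    intro a b j
    rw [map_add, Pi.add_apply, map_add]
  have hLe : ∀ i j : Fin n, PowerSeries.coeff 1 (φ (e i) j) = (Pi.single i (1 : k) : Fin n → k) j :=
    fun i j => by rw [he]; exact coeff_one_single i j
  have hem : ∀ i, e i ∈ maximalIdeal B := fun i => by
    rw [mem_max_iff φ hinj hrange (e i) i0, he]; exact cc_single i i0
  have hxm : x ∈ maximalIdeal B := (mem_max_iff φ hinj hrange x i0).2 (hCx i0)
  have hxreg : IsSMulRegular B x := by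
    intro a b hab
    have hab' : x * a = x * b := hab
    apply hinj
    funext j
    have h1 : φ (x * a) j = φ (x * b) j := by rw [hab']
    rw [map_mul, map_mul, Pi.mul_apply, Pi.mul_apply, hx] at h1
    exact mul_left_cancel₀ PowerSeries.X_ne_zero h1
  -- membership in `(x)`
  have hmem : ∀ w : B, (∀ j, ∃ v : PowerSeries k, φ w j = PowerSeries.X * v ∧
      PowerSeries.constantCoeff v = 0) → w ∈ Ideal.span {x} := by
    intro w hw
    choose v hv hv0 using hw
    obtain ⟨b, hb⟩ := exists_preimage φ hrange v (fun j j' => by rw [hv0, hv0])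
    rw [Ideal.mem_span_singleton']
    refine ⟨b, hinj ?_⟩
    funext j
    rw [map_mul, Pi.mul_apply, hb, hx, hv j, mul_comm]
  have hdiv : ∀ y : B, y ∈ maximalIdeal B → ∀ j, ∃ u : PowerSeries k,
      φ y j = PowerSeries.X * u := fun y hy j =>
    PowerSeries.X_dvd_iff.2 ((mem_max_iff φ hinj hrange y j).1 hy)
  have hsq : ∀ y : B, y ∈ maximalIdeal B → y * y ∈ Ideal.span {x} := by
    intro y hy
    refine hmem _ (fun j => ?_)
    obtain ⟨u, hu⟩ := hdiv y hy j
    refine ⟨u * φ y j, ?_, ?_⟩
    · rw [map_mul, Pi.mul_apply]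
      nth_rewrite 1 [hu]
      rw [mul_assoc]
    · rw [map_mul, (mem_max_iff φ hinj hrange y j).1 hy, mul_zero]
  have hye : ∀ (y : B) (i : Fin n), y ∈ maximalIdeal B → y * e i ∈ Ideal.span {x} := by
    intro y i hy
    refine hmem _ (fun j => ?_)
    by_cases hji : j = i
    · refine ⟨φ y j, ?_, (mem_max_iff φ hinj hrange y j).1 hy⟩
      rw [map_mul, Pi.mul_apply, he, hji, Pi.single_eq_same, mul_comm]
    · refine ⟨0, ?_, map_zero _⟩
      rw [map_mul, Pi.mul_apply, he, Pi.single_eq_of_ne hji, mul_zero, mul_zero]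
  have hei0 : e i0 ∉ Ideal.span {x} := by
    intro h
    obtain ⟨b, hb⟩ := Ideal.mem_span_singleton'.1 h
    have h0 := hLmul b x i0
    have h1 := hLmul b x i1
    rw [hb, hLe, hLx, hCx, mul_zero, add_zero, mul_one] at h0 h1
    rw [Pi.single_eq_same] at h0
    rw [Pi.single_eq_of_ne (show i1 ≠ i0 from fun h => by
      have := congrArg Fin.val h
      simp [i0, i1] at this)] at h1
    rw [← h1] at h0
    exact one_ne_zero h0
  -- the quotient
  have hGQ : LocCoh.IsGorensteinLocalRing (B ⧸ Ideal.span {x}) :=
    (Rees.gorenstein_quotient_iff B x hxm hxreg).1 hG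
  haveI := hGQ
  haveI : IsLocalHom (Ideal.Quotient.mk (Ideal.span {x})) :=
    IsLocalHom.of_surjective _ Ideal.Quotient.mk_surjective
  have hlift : ∀ y : B, Ideal.Quotient.mk (Ideal.span {x}) y ∈ maximalIdeal (B ⧸ Ideal.span {x}) →
      y ∈ maximalIdeal B := by
    intro y hy
    by_contra hny
    have hu : IsUnit y := IsLocalRing.notMem_maximalIdeal.1 hny
    exact (mem_maximalIdeal _).1 hy (hu.map _)
  have hQ0 : ringKrullDim (B ⧸ Ideal.span {x}) = 0 := by
    haveI : Ring.KrullDimLE 0 (B ⧸ Ideal.span {x}) := Ring.KrullDimLE.mk₀ (fun P hP => by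
      have hle : maximalIdeal (B ⧸ Ideal.span {x}) ≤ P := by
        intro q hq
        obtain ⟨y, rfl⟩ := Ideal.Quotient.mk_surjective q
        have hy : y ∈ maximalIdeal B := hlift y hq
        have h0 : Ideal.Quotient.mk (Ideal.span {x}) y * Ideal.Quotient.mk (Ideal.span {x}) y = 0 := by
          rw [← map_mul, Ideal.Quotient.eq_zero_iff_mem]
          exact hsq y hy
        exact (hP.mem_or_mem (h0 ▸ P.zero_mem)).elim id id
      rw [← (IsLocalRing.maximalIdeal.isMaximal (B ⧸ Ideal.span {x})).eq_of_le hP.ne_top hle]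
      exact IsLocalRing.maximalIdeal.isMaximal _)
    refine le_antisymm ?_ ringKrullDim_nonneg_of_nontrivial
    have := (Ring.krullDimLE_iff (n := 0) (R := B ⧸ Ideal.span {x})).1 inferInstance
    simpa using this
  obtain ⟨zbar, hz0, hzsoc, hzgen⟩ := GorFlat.type1_of_gor (B ⧸ Ideal.span {x}) hGQ hQ0
  obtain ⟨z, rfl⟩ := Ideal.Quotient.mk_surjective zbar
  -- `z` is in the maximal ideal
  have hCz : PowerSeries.constantCoeff (φ z i0) = 0 := by
    by_contra hne
    have hu : IsUnit z := (isUnit_iff φ hinj hrange z i0).2 hne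
    have hu' : IsUnit (Ideal.Quotient.mk (Ideal.span {x}) z) := hu.map _
    have h1 := hzsoc (Ideal.Quotient.mk (Ideal.span {x}) (e i0))
      (map_nonunit _ _ (hem i0))
    have h2 := (hu'.mul_left_eq_zero).1 h1
    exact hei0 (Ideal.Quotient.eq_zero_iff_mem.1 h2)
  -- each `e i` is a socle element modulo `x`
  have hsoc : ∀ i, GorFlat.IsSoc (B ⧸ Ideal.span {x}) (Ideal.Quotient.mk (Ideal.span {x}) (e i)) := by
    intro i q hq
    obtain ⟨y, rfl⟩ := Ideal.Quotient.mk_surjective q
    rw [← map_mul, Ideal.Quotient.eq_zero_iff_mem]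
    exact hye y i (hlift y hq)
  have hrep : ∀ i, ∃ c r : B, e i = r * x + c * z := by
    intro i
    obtain ⟨cbar, hc⟩ := hzgen _ (hsoc i)
    obtain ⟨c, rfl⟩ := Ideal.Quotient.mk_surjective cbar
    rw [← map_mul, Ideal.Quotient.eq, Ideal.mem_span_singleton'] at hc
    obtain ⟨r, hr⟩ := hc
    exact ⟨c, r, by rw [hr]; ring⟩
  choose c r hcr using hrep
  have hsingle : ∀ i : Fin n, (Pi.single i (1 : k) : Fin n → k) =
      PowerSeries.constantCoeff (φ (c i) i0) • (fun j => PowerSeries.coeff 1 (φ z j)) +
        PowerSeries.constantCoeff (φ (r i) i0) • (fun _ => (1 : k)) := by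
    intro i
    funext j
    rw [← hLe i j]
    conv_lhs => rw [hcr i]
    rw [hLadd, hLmul, hLmul, hLx, hCx, hCz, Pi.add_apply, Pi.smul_apply, Pi.smul_apply,
      smul_eq_mul, smul_eq_mul]
    ring
  -- dimension count
  have hspan : (⊤ : Submodule k (Fin n → k)) ≤ Submodule.span k
      (Set.range ![(fun j => PowerSeries.coeff 1 (φ z j) : Fin n → k), fun _ => (1 : k)]) := by
    rw [← (Pi.basisFun k (Fin n)).span_eq, Submodule.span_le]
    rintro _ ⟨i, rfl⟩
    rw [Pi.basisFun_apply, hsingle i]
    exact Submodule.add_mem _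
      (Submodule.smul_mem _ _ (Submodule.subset_span ⟨0, rfl⟩))
      (Submodule.smul_mem _ _ (Submodule.subset_span ⟨1, rfl⟩))
  have h2 : Module.finrank k (Submodule.span k
      (Set.range ![(fun j => PowerSeries.coeff 1 (φ z j) : Fin n → k), fun _ => (1 : k)])) ≤ 2 := by
    have := finrank_range_le_card (R := k)
      ![(fun j => PowerSeries.coeff 1 (φ z j) : Fin n → k), fun _ => (1 : k)]
    rw [Fintype.card_fin] at this
    exact this
  rw [top_le_iff.1 hspan, finrank_top, Module.finrank_fin_fun] at h2
  omega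

end

/-- the completion of a Gorenstein local ring is a Gorenstein local ring. -/
theorem gor_completion (A : Type u) [CommRing A] [hA : LocCoh.IsGorensteinLocalRing A] :
    LocCoh.IsGorensteinLocalRing (AdicCompletion (maximalIdeal A) A) := by
  haveI : IsNoetherianRing (AdicCompletion (maximalIdeal A) A) :=
    Groth.Agent.S0543.result A (maximalIdeal A)
  haveI : IsLocalHom (algebraMap A (AdicCompletion (maximalIdeal A) A)) := by
    refine ⟨fun a ha => ?_⟩
    by_contra hna
    have ham : a ∈ maximalIdeal A := (mem_maximalIdeal _).2 hna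
    have h1 : algebraMap A (AdicCompletion (maximalIdeal A) A) a ∈
        maximalIdeal (AdicCompletion (maximalIdeal A) A) := by
      rw [AdicCompletion.maximalIdeal_eq_map]
      exact Ideal.mem_map_of_mem _ ham
    exact (mem_maximalIdeal _).1 h1 ha
  have hker : RingHom.ker (IsLocalRing.residue (AdicCompletion (maximalIdeal A) A)) =
      (maximalIdeal A).map (algebraMap A (AdicCompletion (maximalIdeal A) A)) := by
    rw [IsLocalRing.ker_residue]
    exact AdicCompletion.maximalIdeal_eq_map
  exact (GorFlat.gor_flat_iff A (AdicCompletion (maximalIdeal A) A)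
    (ResidueField (AdicCompletion (maximalIdeal A) A))
    (IsLocalRing.residue _) IsLocalRing.residue_surjective hker).2 ⟨hA, GorFlat.gor_field _⟩

end Groth.Agent.Lib.Helper4.Multicross
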