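import Mathlib
import Groth.Agent.Lib.Helper21.KaehlerRank
import Groth.Agent.Lib.Helper6.FiberRankMono
import Groth.Agent.Lib.Helper12.IntegralDim

/-!
# Number of generators of `Ω_{A/K}` when the geometric fibre has hypersurface singularities

At a maximal ideal `n` of `K̄ ⊗_K A` the fibre of `Ω` is the cotangent space (rational point), whose
dimension is at most `ht n + 1 ≤ dim A + 1`; fibre ranks are compared along `A → K̄ ⊗ A` and are
upper semicontinuous, and Nakayama gives the generators.
-/

set_option autoImplicit false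
set_option linter.style.haveILetI false
set_option linter.unusedSectionVars false
set_option linter.unusedVariables false
set_option linter.unusedSimpArgs false
set_option maxHeartbeats 1600000
set_option maxSynthPendingDepth 3

universe u

open TensorProduct Module IsLocalRing

namespace Groth.Agent.Lib.Helper4.OmegaGenHyp

attribute [local instance] Algebra.TensorProduct.rightAlgebra

theorem finrank_fiber_eq_of_ker {A : Type u} [CommRing A] (N : Type u) [AddCommGroup N]
    [Module A N] (L : Type u) [Field L] [Algebra A L] (P : Ideal A) [P.IsPrime]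
    (hP : RingHom.ker (algebraMap A L) = P) :
    finrank P.ResidueField (P.ResidueField ⊗[A] N) = finrank L (L ⊗[A] N) := by
  have hf₁ : P ≤ RingHom.ker (algebraMap A L) := hP.ge
  have hf₂ : P.primeCompl ≤ (IsUnit.submonoid L).comap (algebraMap A L) := by
    intro x hx
    show IsUnit (algebraMap A L x)
    rw [isUnit_iff_ne_zero]
    intro h0
    exact hx (hP ▸ (RingHom.mem_ker.mpr h0))
  letI : Algebra P.ResidueField L :=
    (Ideal.ResidueField.lift P (algebraMap A L) hf₁ hf₂).toAlgebra
  haveI : IsScalarTower A P.ResidueField L := IsScalarTower.of_algebraMap_eq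
    (fun x => (Ideal.ResidueField.lift_algebraMap P (algebraMap A L) hf₁ hf₂ x).symm)
  let e := AlgebraTensorModule.cancelBaseChange A P.ResidueField L L N
  rw [← e.finrank_eq]
  exact (Module.finrank_baseChange).symm

theorem finrank_chain (K Kb A : Type u) [Field K] [Field Kb] [Algebra K Kb] [CommRing A]
    [Algebra K A] (n : Ideal (Kb ⊗[K] A)) [n.IsPrime]
    (L : Type u) [Field L] [Algebra (Localization.AtPrime n) L] [Algebra (Kb ⊗[K] A) L]
    [Algebra A L] [IsScalarTower (Kb ⊗[K] A) (Localization.AtPrime n) L]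
    [IsScalarTower A (Kb ⊗[K] A) L] :
    finrank L (L ⊗[A] Ω[A⁄K]) =
      finrank L (L ⊗[Localization.AtPrime n] Ω[(Localization.AtPrime n)⁄Kb]) := by
  let e1 : L ⊗[Localization.AtPrime n] ((Localization.AtPrime n) ⊗[Kb ⊗[K] A] Ω[(Kb ⊗[K] A)⁄Kb])
      ≃ₗ[L] L ⊗[Localization.AtPrime n] Ω[(Localization.AtPrime n)⁄Kb] :=
    AlgebraTensorModule.congr (LinearEquiv.refl _ _)
      (Groth.Agent.Lib.Helper21.KaehlerRank.isBaseChange_map Kb (Kb ⊗[K] A) n).equiv
  let e2 := AlgebraTensorModule.cancelBaseChange (Kb ⊗[K] A)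
    (Localization.AtPrime n) L L (Ω[(Kb ⊗[K] A)⁄Kb])
  let e3 : L ⊗[Kb ⊗[K] A] ((Kb ⊗[K] A) ⊗[A] Ω[A⁄K]) ≃ₗ[L] L ⊗[Kb ⊗[K] A] Ω[(Kb ⊗[K] A)⁄Kb] :=
    AlgebraTensorModule.congr (LinearEquiv.refl _ _)
      (KaehlerDifferential.tensorKaehlerEquiv K Kb A (Kb ⊗[K] A))
  let e4 := AlgebraTensorModule.cancelBaseChange A (Kb ⊗[K] A) L L (Ω[A⁄K])
  rw [← e4.finrank_eq, e3.finrank_eq, ← e2.finrank_eq, e1.finrank_eq]

section tensor

variable (K : Type u) [Field K] (Kb : Type u) [Field Kb] [Algebra K Kb] [Algebra.IsAlgebraic K Kb]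
  (A : Type u) [CommRing A] [Algebra K A]

theorem ringKrullDim_tensor_le : ringKrullDim (Kb ⊗[K] A) ≤ ringKrullDim A := by
  haveI : Algebra.IsIntegral K Kb := inferInstance
  have h1 : ringKrullDim (A ⊗[K] Kb) ≤ ringKrullDim A :=
    Groth.Agent.Lib.Helper12.ringKrullDim_le_of_isIntegral (R := A) (S := A ⊗[K] Kb)
  rw [ringKrullDim_eq_of_ringEquiv (Algebra.TensorProduct.comm K Kb A).toRingEquiv]
  exact h1

theorem exists_maximal_over (m : Ideal A) [m.IsMaximal] :
    ∃ n : Ideal (Kb ⊗[K] A), n.IsMaximal ∧ n.comap (algebraMap A (Kb ⊗[K] A)) = m := by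
  haveI : Algebra.IsIntegral K Kb := inferInstance
  have hker : RingHom.ker (algebraMap A (A ⊗[K] Kb)) ≤ m := by
    have hinj : Function.Injective (algebraMap A (A ⊗[K] Kb)) :=
      Algebra.TensorProduct.includeLeft_injective (S := A) (algebraMap K Kb).injective
    rw [(RingHom.injective_iff_ker_eq_bot _).mp hinj]; exact bot_le
  obtain ⟨Q, hQ, hQm⟩ := Ideal.exists_ideal_over_maximal_of_isIntegral (S := A ⊗[K] Kb) m hker
  let c := (Algebra.TensorProduct.comm K Kb A)
  refine ⟨Q.comap (c : Kb ⊗[K] A →+* A ⊗[K] Kb), ?_, ?_⟩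
  · exact Ideal.comap_isMaximal_of_surjective _ c.surjective
  · rw [← hQm, Ideal.comap_comap]
    congr 1

end tensor

section main

variable {K : Type u} [Field K] {A : Type u} [CommRing A] [Algebra K A] [Algebra.FiniteType K A]

theorem bound
    (hhyp : ∀ (q : Ideal (TensorProduct K (AlgebraicClosure K) A)) [q.IsPrime],
      (Module.finrank (IsLocalRing.ResidueField (Localization.AtPrime q))
          (IsLocalRing.CotangentSpace (Localization.AtPrime q)) : ℕ∞) ≤ q.height + 1)
    (d : ℕ) (hd : ringKrullDim A = d) (m : Ideal A) [m.IsMaximal]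
    (n : Ideal (TensorProduct K (AlgebraicClosure K) A)) [n.IsMaximal]
    (hnm : n.comap (algebraMap A (TensorProduct K (AlgebraicClosure K) A)) = m) :
    finrank m.ResidueField (m.ResidueField ⊗[A] Ω[A⁄K]) ≤ d + 1 := by
  haveI : Algebra.FiniteType (AlgebraicClosure K) (AlgebraicClosure K ⊗[K] A) := inferInstance
  haveI : IsNoetherianRing (AlgebraicClosure K ⊗[K] A) :=
    Algebra.FiniteType.isNoetherianRing (AlgebraicClosure K) _
  haveI : IsNoetherianRing (Localization.AtPrime n) :=
    IsLocalization.isNoetherianRing n.primeCompl _ inferInstance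
  have hres := Groth.Agent.Lib.Helper21.KaehlerRank.bijective_algebraMap_residueField
    (AlgebraicClosure K) (AlgebraicClosure K ⊗[K] A) n
  have h1 := Groth.Agent.Lib.Helper21.CotangentKaehler.finrank_tensor_eq (AlgebraicClosure K)
    (Localization.AtPrime n) hres
  have h2 : finrank (ResidueField (Localization.AtPrime n))
      (CotangentSpace (Localization.AtPrime n)) ≤ d + 1 := by
    have hh := hhyp n
    have hht : n.height ≤ d := by
      have a1 := Ideal.height_le_ringKrullDim_of_ne_top (I := n) Ideal.IsPrime.ne_top'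
      have a2 := ringKrullDim_tensor_le K (AlgebraicClosure K) A
      rw [hd] at a2
      have a3 : (n.height : WithBot ℕ∞) ≤ ((d : ℕ∞) : WithBot ℕ∞) := a1.trans a2
      exact WithBot.coe_le_coe.mp a3
    have : (finrank (ResidueField (Localization.AtPrime n))
        (CotangentSpace (Localization.AtPrime n)) : ℕ∞) ≤ (d : ℕ∞) + 1 :=
      hh.trans (add_le_add_left hht 1)
    exact_mod_cast this
  letI : Algebra A (ResidueField (Localization.AtPrime n)) :=
    ((algebraMap (AlgebraicClosure K ⊗[K] A) (ResidueField (Localization.AtPrime n))).comp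
      (algebraMap A (AlgebraicClosure K ⊗[K] A))).toAlgebra
  haveI : IsScalarTower A (AlgebraicClosure K ⊗[K] A) (ResidueField (Localization.AtPrime n)) :=
    IsScalarTower.of_algebraMap_eq (fun _ => rfl)
  have hker : RingHom.ker (algebraMap A (ResidueField (Localization.AtPrime n))) = m := by
    rw [← hnm]
    ext a
    rw [RingHom.mem_ker, Ideal.mem_comap]
    show algebraMap (AlgebraicClosure K ⊗[K] A) n.ResidueField
      (algebraMap A (AlgebraicClosure K ⊗[K] A) a) = 0 ↔ _
    rw [Ideal.algebraMap_residueField_eq_zero]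
  have hA := finrank_fiber_eq_of_ker (Ω[A⁄K]) (ResidueField (Localization.AtPrime n)) m hker
  have hB := finrank_chain K (AlgebraicClosure K) A n (ResidueField (Localization.AtPrime n))
  exact le_trans (le_of_eq (hA.trans (hB.trans h1))) h2

theorem main [IsDomain (TensorProduct K (AlgebraicClosure K) A)]
    (hhyp : ∀ (q : Ideal (TensorProduct K (AlgebraicClosure K) A)) [q.IsPrime],
      (Module.finrank (IsLocalRing.ResidueField (Localization.AtPrime q))
          (IsLocalRing.CotangentSpace (Localization.AtPrime q)) : ℕ∞) ≤ q.height + 1)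
    (d : ℕ) (hd : ringKrullDim A = d) (p : Ideal A) [p.IsPrime] :
    ∃ s : Finset (LocalizedModule p.primeCompl (KaehlerDifferential K A)),
      s.card ≤ d + 1 ∧ Submodule.span (Localization.AtPrime p)
        (s : Set (LocalizedModule p.primeCompl (KaehlerDifferential K A))) = ⊤ := by
  classical
  obtain ⟨m, hm, hpm⟩ := Ideal.exists_le_maximal p (Ideal.IsPrime.ne_top ‹_›)
  haveI := hm
  obtain ⟨n, hn, hnm⟩ := exists_maximal_over K (AlgebraicClosure K) A m
  haveI := hn
  have hkey := bound hhyp d hd m n hnm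
  have hmono := Groth.Agent.Lib.Helper6.FiberRankMono.finrank_fiber_mono (Ω[A⁄K]) p m hpm
  obtain ⟨f, hf⟩ := Groth.Agent.Lib.Helper6.FiberRankMono.exists_span_localization (Ω[A⁄K]) p
  let e := LocalizedModule.equivTensorProduct p.primeCompl (Ω[A⁄K])
  refine ⟨Finset.image (fun i => e.symm (f i)) Finset.univ, ?_, ?_⟩
  · calc (Finset.image (fun i => e.symm (f i)) Finset.univ).card
        ≤ (Finset.univ : Finset (Fin (finrank p.ResidueField
            (p.ResidueField ⊗[A] Ω[A⁄K])))).card := Finset.card_image_le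
      _ = finrank p.ResidueField (p.ResidueField ⊗[A] Ω[A⁄K]) := by simp
      _ ≤ d + 1 := hmono.trans hkey
  · have h1 : Submodule.span (Localization.AtPrime p)
        (⇑(e.symm.toLinearMap) '' Set.range f) = ⊤ := by
      rw [← Submodule.map_span, hf, Submodule.map_top, LinearEquiv.range]
    rw [Finset.coe_image, Finset.coe_univ, Set.image_univ]
    convert h1 using 2
    rw [← Set.range_comp]
    rfl

end main

end Groth.Agent.Lib.Helper4.OmegaGenHyp
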