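import Mathlib
import Groth.Agent.Lib.Helper4.ExtSupp2
import Groth.Agent.Lib.Helper4.CMChain
import Groth.Agent.Lib.Helper28.Reflexive
import Groth.Agent.Lib.Helper28.DepthLoc
import Groth.Agent.S0369
import Groth.Agent.S19859

/-!
# Dualizing complexes which are a module in degree `0` off a closed set of codimension `≥ 1`
(helper4)
-/

set_option autoImplicit false
set_option linter.style.haveILetI false
set_option linter.unusedSectionVars false
set_option linter.unusedVariables false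
set_option maxHeartbeats 800000

universe u

open CategoryTheory CategoryTheory.Limits CategoryTheory.Pretriangulated DerivedCategory

attribute [local instance] HasDerivedCategory.standard

namespace Groth.Agent.Lib.Helper4.OrdDual

open Groth.Agent.Lib.Helper18.DR Groth.Agent.Lib.Helper18.DR.Dim Groth.Agent.Lib.Helper4
  Groth.Agent.Lib.Helper4.DT Groth.Agent.Lib.Helper4.LC Groth.Agent.Lib.Helper4.ExtSupp

variable {A : Type u} [CommRing A] [IsNoetherianRing A] [IsLocalRing A] (ω : Dual.D A)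
  (hω : Dual.IsDualizing A ω)

/-- `H^i(ω⟦m⟧) ≃ H^{m+i}(ω)` -/
lemma hdShift (m i j : ℤ) (h : m + i = j) :
    Nonempty (Dual.HD A (ω⟦m⟧) i ≃ₗ[A] Dual.HD A ω j) :=
  ⟨((HShiftIso A m i j h).app ω).toLinearEquiv⟩

include hω in
/-- **S18720** -/
theorem ordinary (n : ℕ) (hd : ringKrullDim A = n) (J : Ideal A) (hJ : 1 ≤ J.height)
    (hoff : ∀ p : PrimeSpectrum A, ¬ J ≤ p.asIdeal → ∀ i : ℤ, i ≠ 0 →
      p ∉ Module.support A (Dual.HD A ω i)) :
    (EGA4.IsEquidim A ∧ Dual.IsNormalized A (ω⟦(n : ℤ)⟧) ∧ LocCoh.HasSk 2 A (Dual.HD A ω 0)) ∧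
    (2 ≤ J.height → 2 ≤ LocCoh.idealDepth J (Dual.HD A ω 0)) := by
  obtain ⟨m, hm⟩ := Uniq.exists_isNormalized_shift ω hω
  have hω' := InvTwist.isDualizing_shift ω hω m
  obtain ⟨δ', hδ'1, hδ'3⟩ := exists_dimFun_max (ω⟦m⟧) hω' (hmax_of_isNormalized (ω⟦m⟧) hm)
  -- every minimal prime has `dim A/p₀ = m`
  have hmin : ∀ p₀ ∈ minimalPrimes A,
      ringKrullDim (A ⧸ p₀) = ((m.toNat : ℕ) : WithBot ℕ∞) ∧ 0 ≤ m := by
    intro p₀ hp₀
    haveI hp₀prime : p₀.IsPrime := hp₀.1.1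
    have he : ringKrullDim (A ⧸ p₀) = (((δ' ⟨p₀, hp₀prime⟩).toNat : ℕ) : WithBot ℕ∞) :=
      (hδ'3 ⟨p₀, hp₀prime⟩).2
    have h1 : Nontrivial (LocalizedModule p₀.primeCompl
        (Dual.HD A (ω⟦m⟧) (-(((δ' ⟨p₀, hp₀prime⟩).toNat : ℕ) : ℤ)))) :=
      (nontrivial_localized_HD_iff_minimalPrime (ω⟦m⟧) hω' hm p₀ hp₀ _ he _).2 rfl
    have h2 : (⟨p₀, hp₀prime⟩ : PrimeSpectrum A) ∈
        Module.support A (Dual.HD A (ω⟦m⟧) (-(((δ' ⟨p₀, hp₀prime⟩).toNat : ℕ) : ℤ))) :=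
      Module.mem_support_iff.2 h1
    obtain ⟨eS⟩ := hdShift ω m (-(((δ' ⟨p₀, hp₀prime⟩).toNat : ℕ) : ℤ))
      (m - (((δ' ⟨p₀, hp₀prime⟩).toNat : ℕ) : ℤ)) (by ring)
    rw [eS.support_eq] at h2
    have hJp : ¬ J ≤ p₀ := by
      intro hle
      have h3 := Ideal.height_mono hle
      rw [Ideal.height_eq_zero_iff.2 hp₀] at h3
      have h4 : (1 : ℕ∞) ≤ 0 := hJ.trans h3
      exact absurd h4 (by simp)
    have h5 : m - (((δ' ⟨p₀, hp₀prime⟩).toNat : ℕ) : ℤ) = 0 := by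
      by_contra hne
      exact hoff ⟨p₀, hp₀prime⟩ hJp _ hne h2
    have h6 : m.toNat = (δ' ⟨p₀, hp₀prime⟩).toNat := by omega
    refine ⟨?_, by omega⟩
    rw [he, h6]
  -- the normalized complex
  have hS := Groth.Agent.S0369.result A (ω⟦m⟧) hω' hm n hd
  have hnt : Nontrivial (Dual.inD A A ⟶ (ω⟦m⟧)⟦-(n : ℤ)⟧) :=
    Groth.Agent.S19859.result A (ω⟦m⟧) hω' hm A n
      ((Module.supportDim_self_eq_ringKrullDim (R := A)).trans hd)
  obtain ⟨eT⟩ := Tself (ω⟦m⟧) (-(n : ℤ))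
  haveI : Nontrivial (Dual.HD A (ω⟦m⟧) (-(n : ℤ))) := eT.injective.nontrivial
  obtain ⟨p, hp⟩ := exists_mem_support_of_nontrivial (A := A) (Dual.HD A (ω⟦m⟧) (-(n : ℤ)))
  rw [hS.1] at hp
  obtain ⟨q, hq, -, hqd⟩ := hp
  have hnm : (n : ℤ) = m := by
    have h1 : ((m.toNat : ℕ) : WithBot ℕ∞) = ((n : ℕ) : WithBot ℕ∞) :=
      (hmin q hq).1.symm.trans hqd
    have h2 : m.toNat = n := by exact_mod_cast h1
    have h3 := (hmin q hq).2
    omega
  have hmn : m.toNat = n := by omega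
  obtain ⟨eL⟩ := hdShift ω m (-(n : ℤ)) 0 (by omega)
  have hSk : LocCoh.HasSk 2 A (Dual.HD A ω 0) :=
    Groth.Agent.Lib.Helper28.hasSk_congr 2 eL hS.2
  refine ⟨⟨?_, ?_, hSk⟩, ?_⟩
  · intro p₀ hp₀
    rw [(hmin p₀ hp₀).1, hd, hmn]
  · rw [hnm]
    exact hm
  · intro hJ2
    haveI : Module.Finite A (Dual.HD A ω 0) := hω.finite_cohomology 0
    have hsupp : Module.support A (Dual.HD A ω 0) = Set.univ := by
      rw [← eL.support_eq, hS.1, Set.eq_univ_iff_forall]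
      intro x
      obtain ⟨q', hq', hq'x⟩ := Ideal.exists_minimalPrimes_le (I := ⊥) (J := x.asIdeal) bot_le
      refine ⟨q', hq', hq'x, ?_⟩
      rw [(hmin q' hq').1, hmn]
    have h2 := Groth.Agent.Lib.Helper28.le_idealDepth_of_forall_localization
      (M := Dual.HD A ω 0) J 2 (fun p _ hJp hntp => by
        have hdim : Module.supportDim (Localization.AtPrime p)
            (LocalizedModule p.primeCompl (Dual.HD A ω 0)) = ((p.height : ℕ∞) : WithBot ℕ∞) := by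
          rw [supportDim_eq_ringKrullDim_of_support_eq_univ
            (support_localizedModule_eq_univ hsupp p),
            IsLocalization.AtPrime.ringKrullDim_eq_height p (Localization.AtPrime p)]
        have h2p : (2 : ℕ∞) ≤ p.height := hJ2.trans (Ideal.height_mono hJp)
        have h2p' : ((2 : ℕ) : WithBot ℕ∞) ≤ ((p.height : ℕ∞) : WithBot ℕ∞) := by
          have h4 : (((2 : ℕ) : ℕ∞) : WithBot ℕ∞) ≤ ((p.height : ℕ∞) : WithBot ℕ∞) :=
            WithBot.coe_le_coe.2 (by exact_mod_cast h2p)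
          exact h4
        have h3 := hSk p
        rw [hdim, min_eq_left h2p'] at h3
        have h3' : (((2 : ℕ) : ℕ∞) : WithBot ℕ∞) ≤
            ((LocCoh.depth (Localization.AtPrime p)
              (LocalizedModule p.primeCompl (Dual.HD A ω 0)) : ℕ∞) : WithBot ℕ∞) := h3
        exact WithBot.coe_le_coe.1 h3')
    exact_mod_cast h2

end Groth.Agent.Lib.Helper4.OrdDual
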