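import Mathlib
import Groth.Agent.Lib.Helper4.OrdDual
import Groth.Agent.Lib.Helper4.HomSk
import Groth.Agent.Lib.Helper4.HomDepth
import Groth.Agent.Lib.Helper4.SkRing
import Groth.Agent.S18703

/-!
# The dualizing module of an ordinary dualizing complex: reflexivity and reflexive powers
(helper4)
-/

set_option autoImplicit false
set_option linter.style.haveILetI false
set_option linter.unusedSectionVars false
set_option linter.unusedVariables false
set_option maxHeartbeats 800000

universe u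

open CategoryTheory CategoryTheory.Limits CategoryTheory.Pretriangulated DerivedCategory

attribute [local instance] HasDerivedCategory.standard

namespace Groth.Agent.Lib.Helper4.OrdDual

open Groth.Agent.Lib.Helper4

section depthJ

variable {A : Type u} [CommRing A] [IsNoetherianRing A]

/-- `(S_k)` for the ring and `ht J ≥ k` give `depth_J A ≥ k`. -/
lemma le_idealDepth_self_of_hasSk (k : ℕ) (hA : LocCoh.HasSk k A A) (J : Ideal A)
    (hJ : (k : ℕ∞) ≤ J.height) : (k : ℕ∞) ≤ LocCoh.idealDepth J A := by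
  refine Groth.Agent.Lib.Helper28.le_idealDepth_of_forall_localization (M := A) J k
    (fun p _ hJp hnt => ?_)
  have hkp : (k : ℕ∞) ≤ p.height := hJ.trans (Ideal.height_mono hJp)
  have hkp' : ((k : ℕ) : WithBot ℕ∞) ≤ ((p.height : ℕ∞) : WithBot ℕ∞) := by
    have h4 : (((k : ℕ) : ℕ∞) : WithBot ℕ∞) ≤ ((p.height : ℕ∞) : WithBot ℕ∞) :=
      WithBot.coe_le_coe.2 hkp
    exact h4
  have h3 := hA p
  rw [supportDim_localizedModule_self p, min_eq_left hkp'] at h3
  have h3' : (((k : ℕ) : ℕ∞) : WithBot ℕ∞) ≤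
      ((LocCoh.depth (Localization.AtPrime p) (LocalizedModule p.primeCompl A) : ℕ∞) :
        WithBot ℕ∞) := h3
  exact WithBot.coe_le_coe.1 h3'

end depthJ

variable {A : Type u} [CommRing A] [IsNoetherianRing A] [IsLocalRing A] (ω : Dual.D A)
  (hω : Dual.IsDualizing A ω)

include hω in
/-- **S18723** -/
theorem refl_result (n : ℕ) (hd : ringKrullDim A = n) (J : Ideal A) (hJ : 2 ≤ J.height)
    (hoff : ∀ p : PrimeSpectrum A, ¬ J ≤ p.asIdeal →
      (∀ i : ℤ, i ≠ 0 → p ∉ Module.support A (Dual.HD A ω i)) ∧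
      Module.Free (Localization.AtPrime p.asIdeal)
        (LocalizedModule p.asIdeal.primeCompl (Dual.HD A ω 0)) ∧
      Module.finrank (Localization.AtPrime p.asIdeal)
        (LocalizedModule p.asIdeal.primeCompl (Dual.HD A ω 0)) = 1) :
    (LocCoh.HasSk 1 A A →
      (EGA4.IsEquidim A ∧ Dual.IsNormalized A (ω⟦(n : ℤ)⟧)) ∧
      Module.IsReflexive A (Dual.HD A ω 0) ∧ LocCoh.HasSk 2 A (Dual.HD A ω 0)) ∧
    (LocCoh.HasSk 2 A A → ∀ m : ℕ,
      LocCoh.HasSk 2 A (Module.Dual A (Module.Dual A (TensorPower A m (Dual.HD A ω 0)))) ∧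
      2 ≤ LocCoh.idealDepth J
        (Module.Dual A (Module.Dual A (TensorPower A m (Dual.HD A ω 0))))) := by
  haveI : Module.Finite A (Dual.HD A ω 0) := hω.finite_cohomology 0
  have hJ1 : (1 : ℕ∞) ≤ J.height := le_trans one_le_two hJ
  obtain ⟨⟨hEq, hNorm, hSk2⟩, hdep⟩ := ordinary ω hω n hd J hJ1 (fun p hp => (hoff p hp).1)
  refine ⟨fun hA1 => ⟨⟨hEq, hNorm⟩, ?_, hSk2⟩, fun hA2 m => ?_⟩
  · have h1 : (1 : ℕ∞) ≤ LocCoh.idealDepth J A := by
      have := le_idealDepth_self_of_hasSk 1 hA1 J (by exact_mod_cast hJ1)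
      exact_mod_cast this
    refine Groth.Agent.S18703.result A J h1 (Dual.HD A ω 0) (fun p hp => ?_) (hdep hJ)
    obtain ⟨-, hfree, -⟩ := hoff p hp
    haveI := hfree
    haveI hfin : Module.Finite (Localization.AtPrime p.asIdeal)
        (LocalizedModule p.asIdeal.primeCompl (Dual.HD A ω 0)) := inferInstance
    exact Module.IsReflexive.of_finite_of_free _ _
  · have h2 : (2 : ℕ∞) ≤ LocCoh.idealDepth J A := by
      have := le_idealDepth_self_of_hasSk 2 hA2 J (by exact_mod_cast hJ)
      exact_mod_cast this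
    exact ⟨hasSk_linearMap A (Module.Dual A (TensorPower A m (Dual.HD A ω 0))) A 2 (Or.inr rfl) hA2,
      two_le_idealDepth_linearMap J h2⟩

end Groth.Agent.Lib.Helper4.OrdDual
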