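import Groth.Agent.Lib.Helper4.PolyKos1
import Groth.Agent.Lib.Helper4.KosGood
import Groth.Agent.Lib.Helper4.KosCone
import Groth.Agent.Lib.Helper4.KTor
import Groth.Agent.Lib.Helper14.KoszulDepth
import Groth.Agent.Lib.Helper14.KoszulH0
import Groth.Agent.Lib.Helper7.TorARU
import Groth.Agent.Lib.Helper21.FlatKer

/-!
# Uniform annihilation of `Tor_i(M, A/I^q)` for `i > t` (`I` generated by `t` elements)

`main t a : ∃ c, ∀ M i q, t < i → I^c • Tor_i^A(M, A/I^q) = 0`, where `I = (a_1, …, a_t)`, `A` Noetherian.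
The proof uses the complex `K(X_j - a_j; A[X]/(X)^q)` of finite free `A`-modules of length `t`, whose
`H_0` is `A/I^q` and whose higher homology `Tor^{A[X]}_k(A, A[X]/(X)^q)` is killed by a power of `I`
independent of `q` (Artin–Rees), together with the dévissage of `TorChain`/`KosGood`.
-/

set_option autoImplicit false
set_option linter.style.haveILetI false
set_option linter.unusedSectionVars false
set_option linter.unusedVariables false
set_option maxHeartbeats 1600000

universe u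

open CategoryTheory CategoryTheory.Limits CochainComplex

namespace Groth.Agent.Lib.Helper4.PolyKos

open MvPolynomial CohIII Groth.Agent.Lib.Helper4.KosGood Groth.Agent.Lib.Helper4.TorChain
  Groth.Agent.Lib.Helper4.LCBridge Groth.Agent.Lib.Helper7 Groth.Agent.Lib.Helper14.KoszulFun
  Groth.Agent.Lib.Helper4.KosCone

section general

variable {A Λ : Type u} [CommRing A] [CommRing Λ] [Algebra A Λ]

/-- the terms of a mapping cone. -/
noncomputable def coneEquiv {K L : CochainComplex (ModuleCat.{u} Λ) ℤ} (φ : K ⟶ L) (i j : ℤ)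
    (h : i + 1 = j) : (mappingCone φ).X i ≃ₗ[Λ] (K.X j × L.X i) where
  toFun z := (fstL φ i j h z, sndL φ i z)
  map_add' z z' := by rw [map_add, map_add]; rfl
  map_smul' r z := by rw [map_smul, map_smul]; rfl
  invFun w := inlL φ i j h w.1 + inrL φ i w.2
  left_inv z := (decomp φ i j h z).symm
  right_inv w := by
    apply Prod.ext
    · show fstL φ i j h (inlL φ i j h w.1 + inrL φ i w.2) = w.1
      rw [map_add, fst_inl, fst_inr, add_zero]
    · show sndL φ i (inlL φ i j h w.1 + inrL φ i w.2) = w.2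
      rw [map_add, snd_inl, snd_inr, zero_add]

lemma flat_of_equiv_prod (X Y Z : ModuleCat.{u} Λ) (e : X ≃ₗ[Λ] (Y × Z))
    (hY : Module.Flat A ((RS (A := A)).obj Y)) (hZ : Module.Flat A ((RS (A := A)).obj Z)) :
    Module.Flat A ((RS (A := A)).obj X) := by
  let e' : ((RS (A := A)).obj X) ≃ₗ[A] (((RS (A := A)).obj Y) × ((RS (A := A)).obj Z)) :=
    { toFun := fun x => e x
      map_add' := fun x y => e.map_add x y
      map_smul' := fun r x => e.map_smul (algebraMap A Λ r) x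
      invFun := fun w => e.symm w
      left_inv := fun x => e.symm_apply_apply x
      right_inv := fun w => e.apply_symm_apply w }
  haveI := hY
  haveI := hZ
  haveI : Module.Flat A (((RS (A := A)).obj Y) × ((RS (A := A)).obj Z)) :=
    Groth.Agent.Lib.Helper21.flat_prod
  exact Module.Flat.of_linearEquiv e'

theorem flat_koszul_X (P : ModuleCat.{u} Λ) (hP : Module.Flat A ((RS (A := A)).obj P)) :
    ∀ (xs : List Λ) (p : ℤ), Module.Flat A ((RS (A := A)).obj ((koszulCx P xs).X p))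
  | [], p => by
    by_cases hp : p = 0
    · subst hp
      haveI := hP
      exact Module.Flat.of_linearEquiv
        ((RS (A := A)).mapIso
          (HomologicalComplex.singleObjXSelf (ComplexShape.up ℤ) (0 : ℤ) P)).toLinearEquiv
    · have hz : IsZero ((koszulCx P []).X p) :=
        HomologicalComplex.isZero_single_obj_X _ _ _ _ hp
      haveI : Subsingleton ((RS (A := A)).obj ((koszulCx P []).X p)) :=
        (ModuleCat.subsingleton_of_isZero hz : Subsingleton ((koszulCx P []).X p))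
      haveI : Module.Free A ((RS (A := A)).obj ((koszulCx P []).X p)) :=
        Module.Free.of_subsingleton A _
      infer_instance
  | x :: xs, p =>
    flat_of_equiv_prod _ _ _ (coneEquiv (x • 𝟙 (koszulCx P xs)) p (p + 1) rfl)
      (flat_koszul_X P hP xs (p + 1)) (flat_koszul_X P hP xs p)

end general

section tor

variable {R : Type u} [CommRing R]

theorem tor_killed_of_torFacZero (J : Ideal R) (N : ModuleCat.{u} R) (j c : ℕ)
    (H : ∀ n, c ≤ n → ∀ h : J ^ n ≤ J ^ (n - c), TorFacZero (j + 1) N h) (q : ℕ) (f : R)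
    (hf : f ∈ J ^ c) (y : T (j + 1) N (ModuleCat.of R (R ⧸ J ^ q))) : f • y = 0 := by
  suffices h : ∀ n, c ≤ n → ∀ y : T (j + 1) N (ModuleCat.of R (R ⧸ J ^ (n - c))), f • y = 0 by
    have h' := h (q + c) (Nat.le_add_left _ _)
    rw [Nat.add_sub_cancel] at h'
    exact h' y
  intro n hn y
  have hle : J ^ n ≤ J ^ (n - c) := Ideal.pow_le_pow_right (Nat.sub_le n c)
  have hz : ((Tor (ModuleCat.{u} R) (j + 1)).obj N).map (facM hle) = 0 :=
    (torFacZero_iff_map_eq_zero (j + 1) N hle).mp (H n hn hle)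
  let g : (R ⧸ J ^ n) →ₗ[R] (R ⧸ J ^ (n - c)) := Submodule.factor hle
  let S : ShortComplex (ModuleCat.{u} R) :=
    ModuleCat.shortComplexOfCompEqZero (LinearMap.ker g).subtype g (by
      apply LinearMap.ext
      intro z
      exact z.2)
  have hS : S.ShortExact := ModuleCat.shortComplex_shortExact S
    (by
      intro x
      constructor
      · intro hx
        exact ⟨⟨x, hx⟩, rfl⟩
      · rintro ⟨z, rfl⟩
        exact z.2)
    (Submodule.subtype_injective _) (Submodule.factor_surjective hle)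
  have hkill : ∀ w : S.X₁, f • w = 0 := by
    intro w
    obtain ⟨u, hu⟩ := Submodule.mkQ_surjective (J ^ n) w.1
    have hw : g w.1 = 0 := w.2
    rw [← hu, Submodule.factor_mk, Submodule.mkQ_apply, Submodule.Quotient.mk_eq_zero] at hw
    apply Subtype.ext
    show f • w.1 = 0
    rw [← hu, ← map_smul, Submodule.mkQ_apply, Submodule.Quotient.mk_eq_zero, smul_eq_mul]
    have hpow : J ^ n = J ^ c * J ^ (n - c) := by rw [← pow_add, Nat.add_sub_cancel' hn]
    rw [hpow]
    exact Ideal.mul_mem_mul hf hw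
  have hδ : (torδ N S hS j).hom (f • y) = 0 := by
    rw [map_smul]
    exact tor_smul_eq_zero_of_smul_eq_zero j N S.X₁ f hkill _
  obtain ⟨x, hx⟩ := exact₃_elem N S hS j (f • y) hδ
  have hz' : ((Tor (ModuleCat.{u} R) (j + 1)).obj N).map S.g = 0 := hz
  rw [← hx, hz']
  rfl

end tor

variable {A : Type u} [CommRing A] (t : ℕ) (a : Fin t → A)

/-- the module `Λ ⧸ (X)^n`. -/
noncomputable abbrev PP (A : Type u) [CommRing A] (t n : ℕ) :
    ModuleCat.{u} (MvPolynomial (Fin t) A) :=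
  ModuleCat.of (MvPolynomial (Fin t) A) (MvPolynomial (Fin t) A ⧸ JJ A t ^ n)

/-- the Koszul complex `K(X_j - a_j; Λ ⧸ (X)^n)`. -/
noncomputable abbrev KK (n : ℕ) : CochainComplex (ModuleCat.{u} (MvPolynomial (Fin t) A)) ℤ :=
  koszulCx (PP A t n) (gl t a)

lemma flat_PP (n : ℕ) : Module.Flat A ((RS (A := A)).obj (PP A t n)) := by
  haveI := flat_quot (A := A) t n
  let e : ((RS (A := A)).obj (PP A t n)) ≃ₗ[A] (MvPolynomial (Fin t) A ⧸ JJ A t ^ n) :=
    { toFun := fun x => x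
      invFun := fun x => x
      map_add' := fun _ _ => rfl
      map_smul' := fun r x => algebraMap_smul (MvPolynomial (Fin t) A) r
        (show MvPolynomial (Fin t) A ⧸ JJ A t ^ n from x)
      left_inv := fun _ => rfl
      right_inv := fun _ => rfl }
  exact Module.Flat.of_linearEquiv e

theorem exists_uniform [IsNoetherianRing A] : ∃ c : ℕ, ∀ (n k : ℕ), 1 ≤ k → k ≤ t →
    ∀ f ∈ JJ A t ^ c, ∀ x : (KK t a n).homology (-(k : ℤ)), f • x = 0 := by
  let N : Type u := MvPolynomial (Fin t) A ⧸ Ideal.ofList (gl t a)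
  have hj : ∀ j : ℕ, ∃ c, ∀ n, c ≤ n → ∀ h : JJ A t ^ n ≤ JJ A t ^ (n - c),
      TorFacZero (j + 1) (ModuleCat.of (MvPolynomial (Fin t) A) N) h :=
    fun j => exists_uniform_torFacZero_fin (JJ A t) j N
  choose cj hcj using hj
  refine ⟨∑ j ∈ Finset.range t, cj j, ?_⟩
  intro n k hk1 hkt f hf x
  obtain ⟨j, rfl⟩ : ∃ j, k = j + 1 := ⟨k - 1, by omega⟩
  have hf' : f ∈ JJ A t ^ (cj j) :=
    Ideal.pow_le_pow_right (Finset.single_le_sum (f := cj) (fun _ _ => Nat.zero_le _)
      (Finset.mem_range.mpr (by omega))) hf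
  obtain ⟨e⟩ := KTor.main (gl t a) (gl_weaklyRegular t a) (j + 1)
    (MvPolynomial (Fin t) A ⧸ JJ A t ^ n)
  have hT : ∀ y : DRing.Tor (MvPolynomial (Fin t) A) (j + 1) N
      (MvPolynomial (Fin t) A ⧸ JJ A t ^ n), f • y = 0 :=
    fun y => tor_killed_of_torFacZero (JJ A t) (ModuleCat.of _ N) j (cj j) (hcj j) n f hf' y
  have hx : f • x = e (f • e.symm x) := by rw [map_smul, LinearEquiv.apply_symm_apply]
  rw [hx, hT, map_zero]

theorem hkill_KK (c : ℕ)
    (hc : ∀ (n k : ℕ), 1 ≤ k → k ≤ t → ∀ f ∈ JJ A t ^ c,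
      ∀ x : (KK t a n).homology (-(k : ℤ)), f • x = 0) (n : ℕ) :
    ∀ p q r : ℤ, p + 1 = q → q + 1 = r → -(t : ℤ) ≤ q → q ≤ -1 → ∀ r₀ ∈ II t a ^ c,
      ∀ w : (KK t a n).X q, ((KK t a n).d q r).hom w = 0 →
      ∃ v : (KK t a n).X p, ((KK t a n).d p q).hom v =
        algebraMap A (MvPolynomial (Fin t) A) r₀ • w := by
  intro p q r hpq hqr hq1 hq2 r₀ hr₀ w hw
  obtain ⟨k, rfl⟩ : ∃ k : ℕ, q = -(k : ℤ) := ⟨(-q).toNat, by omega⟩
  have hk1 : 1 ≤ k := by omega
  have hkt : k ≤ t := by omega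
  let z : ModCx.Z (KK t a n) (-(k : ℤ)) := ⟨w, (memZ (KK t a n) _ r hqr w).mpr hw⟩
  have hmem : (C r₀ : MvPolynomial (Fin t) A) ∈ Ideal.ofList (gl t a) ⊔ JJ A t ^ c :=
    (mem_sup_iff t a c (C r₀)).mpr (by rw [ev_C]; exact hr₀)
  obtain ⟨u, hu, v, hv, huv⟩ := Submodule.mem_sup.mp hmem
  have h1 : ModCx.cls (KK t a n) _ (u • z) = 0 := by
    have hh := homologyMap_smul_id_eq_zero (PP A t n) (gl t a) u hu (-(k : ℤ))
    have h2 := ModCx.homologyMap_cls (-(k : ℤ)) (u • 𝟙 (KK t a n)) z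
    rw [hh] at h2
    exact h2.symm
  have h2 : ModCx.cls (KK t a n) _ (v • z) = 0 := by
    rw [map_smul]
    exact hc n k hk1 hkt v hv _
  have h3 : ModCx.cls (KK t a n) _ ((C r₀ : MvPolynomial (Fin t) A) • z) = 0 := by
    rw [← huv, add_smul, map_add, h1, h2, add_zero]
  obtain ⟨y, hy⟩ := (cls0 (KK t a n) p _ hpq _).mp h3
  exact ⟨y, hy⟩

/-! ### `H^0` -/

lemma memZ0 (n : ℕ) (x : (KK t a n).X 0) : x ∈ ModCx.Z (KK t a n) 0 := by
  rw [memZ (KK t a n) 0 1 (by norm_num) x]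
  haveI : Subsingleton ((KK t a n).X 1) :=
    ModuleCat.subsingleton_of_isZero (isZero_koszulCx_X_pos _ _ 1 one_pos)
  exact Subsingleton.elim _ _

/-- `K^0 → H^0(K)`. -/
noncomputable def pi0 (n : ℕ) : (KK t a n).X 0 ⟶ (KK t a n).homology 0 :=
  ModuleCat.ofHom ((ModCx.cls (KK t a n) 0).comp
    (LinearMap.codRestrict (ModCx.Z (KK t a n) 0) LinearMap.id (fun x => memZ0 t a n x)))

lemma pi0_surjective (n : ℕ) : Function.Surjective (pi0 t a n).hom := by
  intro h
  obtain ⟨z, rfl⟩ := ModCx.cls_surjective (KK t a n) 0 h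
  exact ⟨z.1, rfl⟩

lemma pi0_eq_zero_iff (n : ℕ) (x : (KK t a n).X 0) :
    (pi0 t a n).hom x = 0 ↔ ∃ v : (KK t a n).X (-1), ((KK t a n).d (-1) 0).hom v = x :=
  cls0 (KK t a n) (-1) 0 (by norm_num) ⟨x, memZ0 t a n x⟩

/-- `Λ → H^0(K)`, as an `A`-linear map. -/
noncomputable def sigmaA (n : ℕ) :
    MvPolynomial (Fin t) A →ₗ[A] ((RS (A := A)).obj ((KK t a n).homology 0)) where
  toFun p := (toH0 (PP A t n) (gl t a)).hom (Submodule.Quotient.mk p)
  map_add' p q := by rw [Submodule.Quotient.mk_add, map_add]; rfl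
  map_smul' r p := by
    rw [Algebra.smul_def, ← smul_eq_mul, Submodule.Quotient.mk_smul, map_smul]
    rfl

lemma sigmaA_surjective (n : ℕ) : Function.Surjective (sigmaA t a n) := by
  intro h
  obtain ⟨m, hm⟩ := toH0_surjective (PP A t n) (gl t a) h
  obtain ⟨p, rfl⟩ := Submodule.Quotient.mk_surjective _ m
  exact ⟨p, hm⟩

lemma sigmaA_eq_zero_iff (n : ℕ) (p : MvPolynomial (Fin t) A) :
    sigmaA t a n p = 0 ↔ ev t a p ∈ II t a ^ n :=
  (toH0_eq_zero_iff (PP A t n) (gl t a) (Submodule.Quotient.mk p)).trans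
    ((mk_mem_smul_top_iff _ _ p).trans (mem_sup_iff t a n p))

/-- `Λ → A/I^n`. -/
noncomputable def psiA (n : ℕ) : MvPolynomial (Fin t) A →ₗ[A] (A ⧸ II t a ^ n) :=
  (Submodule.mkQ (II t a ^ n)).comp (ev t a).toLinearMap

lemma psiA_surjective (n : ℕ) : Function.Surjective (psiA t a n) :=
  (Submodule.mkQ_surjective _).comp (ev_surjective t a)

lemma psiA_eq_zero_iff (n : ℕ) (p : MvPolynomial (Fin t) A) :
    psiA t a n p = 0 ↔ ev t a p ∈ II t a ^ n :=
  Submodule.Quotient.mk_eq_zero _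

lemma ker_eq (n : ℕ) : LinearMap.ker (sigmaA t a n) = LinearMap.ker (psiA t a n) := by
  ext p
  rw [LinearMap.mem_ker, LinearMap.mem_ker, sigmaA_eq_zero_iff, psiA_eq_zero_iff]

/-- `H^0(K) ≃ A/I^n`. -/
noncomputable def H0equiv (n : ℕ) :
    ((RS (A := A)).obj ((KK t a n).homology 0)) ≃ₗ[A] (A ⧸ II t a ^ n) :=
  ((sigmaA t a n).quotKerEquivOfSurjective (sigmaA_surjective t a n)).symm ≪≫ₗ
    Submodule.quotEquivOfEq _ _ (ker_eq t a n) ≪≫ₗ
    (psiA t a n).quotKerEquivOfSurjective (psiA_surjective t a n)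

theorem main [IsNoetherianRing A] : ∃ c : ℕ, ∀ (M : Type u) [AddCommGroup M] [Module A M]
    (i q : ℕ), t < i → ∀ r ∈ II t a ^ c, ∀ x : DRing.Tor A i M (A ⧸ II t a ^ q), r • x = 0 := by
  obtain ⟨c, hc⟩ := exists_uniform t a
  refine ⟨c * (t + 1), ?_⟩
  intro M _ _ i q hi r hr x
  have hr' : r ∈ (II t a ^ c) ^ (t + 1) := by rwa [← pow_mul]
  have hmain : ∀ y : T i (ModuleCat.of A M) ((RS (A := A)).obj ((KK t a q).homology 0)),
      r • y = 0 := by
    intro y
    exact kills_H0 (KK t a q) (II t a ^ c) t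
      (flat_koszul_X _ (flat_PP t q) (gl t a))
      (fun p hp => isZero_koszulCx_X_neg _ (gl t a) p (by rw [length_gl]; exact hp))
      (hkill_KK t a c hc q)
      _ ((RS (A := A)).map (pi0 t a q)) (pi0_surjective t a q) (pi0_eq_zero_iff t a q)
      (ModuleCat.of A M) i (by omega) r hr' y
  let eQ : (RS (A := A)).obj ((KK t a q).homology 0) ≅ ModuleCat.of A (A ⧸ II t a ^ q) :=
    (H0equiv t a q).toModuleIso
  let F := (Tor (ModuleCat.{u} A) i).obj (ModuleCat.of A M)
  have h1 : F.map eQ.inv ≫ F.map eQ.hom = 𝟙 _ := by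
    rw [← CategoryTheory.Functor.map_comp, Iso.inv_hom_id, CategoryTheory.Functor.map_id]
  have h2 : (F.map eQ.hom).hom ((F.map eQ.inv).hom x) = x := congrArg (fun g => g.hom x) h1
  rw [← h2, ← map_smul, hmain, map_zero]

end Groth.Agent.Lib.Helper4.PolyKos
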