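import Mathlib
import Groth.Prelude.Def_PP16
import Groth.Agent.Lib.Helper6.QRDescent
import Groth.Agent.Lib.Helper21.SymGrA
import Groth.Agent.Lib.Helper21.SymGrH

/-!
Helper4: quasi-regular ideals and the symmetric/graded comparison (EGA IV 16.9.3), part 1:
combinatorics of exponent vectors, monomial tensors in symmetric powers, and injectivity of
`Sym^n(J/J²) → J^n/J^(n+1)` for a locally quasi-regular ideal.
-/

set_option autoImplicit false
set_option linter.style.haveILetI false
set_option linter.unusedSectionVars false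
set_option linter.unusedVariables false
set_option maxHeartbeats 800000

namespace Groth.Agent.Lib.Helper4.QR1

open MvPolynomial
open Groth.Agent.Lib.Helper21.SymAlg
open Groth.Agent.Lib.Helper21
open Groth.Agent.Lib.Helper6.QRDescent

universe u

section combi

variable {ι : Type*} [Fintype ι] {m : ℕ}

theorem exists_expo_eq (d : Fin m →₀ ℕ) (hd : d.degree = Fintype.card ι) :
    ∃ a : ι → Fin m, expo a = d := by
  classical
  have hcard : Fintype.card ι = Fintype.card (Σ j : Fin m, Fin (d j)) := by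
    rw [Fintype.card_sigma, ← hd, Finsupp.degree_eq_sum]
    simp
  let e : ι ≃ Σ j : Fin m, Fin (d j) := Fintype.equivOfCardEq hcard
  refine ⟨fun i => (e i).1, ?_⟩
  ext k
  rw [expo_apply, ← Fintype.card_subtype]
  have e1 : {i // (e i).1 = k} ≃ {s : Σ j : Fin m, Fin (d j) // s.1 = k} :=
    e.subtypeEquiv (fun i => Iff.rfl)
  rw [Fintype.card_congr (e1.trans (Equiv.sigmaSubtype k)), Fintype.card_fin]

theorem prod_X_eq_monomial {S : Type*} [CommSemiring S] (a : ι → Fin m) :
    ∏ i, (X (a i) : MvPolynomial (Fin m) S) = monomial (expo a) 1 := by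
  rw [expo, MvPolynomial.monomial_sum_one]
  rfl

theorem prod_eq_prod_pow {S : Type*} [CommSemiring S] (x : Fin m → S) (a : ι → Fin m) :
    ∏ i, x (a i) = ∏ j, x j ^ (expo a j) := by
  have h := congrArg (MvPolynomial.eval x) (prod_X_eq_monomial (S := S) a)
  simp only [map_prod, eval_X] at h
  rw [eval_monomial, one_mul, Finsupp.prod_fintype _ _ (fun _ => pow_zero _)] at h
  exact h

end combi

section sym

variable {R : Type u} [CommRing R] {M : Type u} [AddCommGroup M] [Module R M]
  {ι : Type u} [Fintype ι] [DecidableEq ι] {m : ℕ}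

/-- the pure symmetric tensor of the family `v` with exponent vector `d` (zero if there is none). -/
noncomputable def TT (v : Fin m → M) (d : Fin m →₀ ℕ) : SymmetricPower R ι M :=
  open Classical in
  if h : ∃ a : ι → Fin m, expo a = d then SymmetricPower.tprod R (fun i => v (h.choose i)) else 0

theorem TT_expo (v : Fin m → M) (a : ι → Fin m) :
    TT (R := R) (ι := ι) v (expo a) = SymmetricPower.tprod R (fun i => v (a i)) := by
  have h : ∃ a' : ι → Fin m, expo a' = expo a := ⟨a, rfl⟩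
  rw [TT, dif_pos h]
  obtain ⟨σ, hσ⟩ := exists_perm_of_expo_eq a h.choose h.choose_spec.symm
  have : (fun i => v (h.choose i)) = fun i => (fun j => v (a j)) (σ i) := by
    funext i
    show v (h.choose i) = v (a (σ i))
    rw [hσ]
  rw [this]
  exact SymmetricPower.tprod_equiv σ (fun j => v (a j))

theorem sum_smul_tprod_eq (v : Fin m → M) (q : (ι → Fin m) → R) :
    ∑ a : ι → Fin m, q a • SymmetricPower.tprod R (fun i => v (a i)) =
      ∑ d ∈ (Finset.univ.image (expo : (ι → Fin m) → (Fin m →₀ ℕ))),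
        (∑ a ∈ Finset.univ.filter (fun a : ι → Fin m => expo a = d), q a) •
          TT (R := R) (ι := ι) v d := by
  have h1 := Finset.sum_fiberwise_of_maps_to (s := (Finset.univ : Finset (ι → Fin m)))
    (t := Finset.univ.image (expo : (ι → Fin m) → (Fin m →₀ ℕ))) (g := expo)
    (fun a _ => Finset.mem_image_of_mem _ (Finset.mem_univ a))
    (fun a => q a • SymmetricPower.tprod R (fun i => v (a i)))
  rw [← h1]
  refine Finset.sum_congr rfl (fun d _ => ?_)
  rw [Finset.sum_smul]
  refine Finset.sum_congr rfl (fun a ha => ?_)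
  rw [← (Finset.mem_filter.mp ha).2, TT_expo]

/-- the polynomial with coefficients `q`. -/
noncomputable def polyOf (q : (ι → Fin m) → R) : MvPolynomial (Fin m) R :=
  ∑ a : ι → Fin m, monomial (expo a) (q a)

theorem polyOf_isHomogeneous (q : (ι → Fin m) → R) :
    (polyOf q).IsHomogeneous (Fintype.card ι) :=
  IsHomogeneous.sum _ _ _ (fun a _ => isHomogeneous_monomial _ (degree_expo a))

theorem eval_polyOf (x : Fin m → R) (q : (ι → Fin m) → R) :
    eval x (polyOf q) = ∑ a : ι → Fin m, q a * ∏ i, x (a i) := by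
  rw [polyOf, map_sum]
  refine Finset.sum_congr rfl (fun a _ => ?_)
  rw [eval_monomial, Finsupp.prod_fintype _ _ (fun _ => pow_zero _), prod_eq_prod_pow]

theorem coeff_polyOf (q : (ι → Fin m) → R) (d : Fin m →₀ ℕ) :
    (polyOf q).coeff d = ∑ a ∈ Finset.univ.filter (fun a : ι → Fin m => expo a = d), q a := by
  rw [polyOf, coeff_sum, Finset.sum_filter]
  refine Finset.sum_congr rfl (fun a _ => ?_)
  rw [coeff_monomial]

/-- the linear map `Sym^ι M → A` induced by a linear map `M → A` to a commutative algebra. -/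
noncomputable def PsiMap {A : Type*} [CommRing A] [Algebra R A] (ℓ : M →ₗ[R] A) :
    SymmetricPower R ι M →ₗ[R] A :=
  SymPow.lift ((MultilinearMap.mkPiAlgebra R ι A).compLinearMap (fun _ => ℓ)) (by
    intro e v
    simp only [MultilinearMap.compLinearMap_apply, MultilinearMap.mkPiAlgebra_apply]
    exact Equiv.prod_comp e (fun i => ℓ (v i)))

theorem PsiMap_tprod {A : Type*} [CommRing A] [Algebra R A] (ℓ : M →ₗ[R] A) (v : ι → M) :
    PsiMap ℓ (SymmetricPower.tprod R v) = ∏ i, ℓ (v i) := by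
  rw [PsiMap, SymPow.lift_tprod]
  simp only [MultilinearMap.compLinearMap_apply, MultilinearMap.mkPiAlgebra_apply]

theorem PsiMap_TT {L : Type*} [CommRing L] [Algebra R L]
    (ℓ : M →ₗ[R] MvPolynomial (Fin m) L) (v : Fin m → M) (hv : ∀ j, ℓ (v j) = X j)
    (d : Fin m →₀ ℕ) (hd : d.degree = Fintype.card ι) :
    PsiMap ℓ (TT (R := R) (ι := ι) v d) = monomial d 1 := by
  obtain ⟨a, rfl⟩ := exists_expo_eq (ι := ι) d hd
  rw [TT_expo, PsiMap_tprod]
  simp only [hv]
  exact prod_X_eq_monomial a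

end sym

section cot

variable {R : Type u} [CommRing R] (J : Ideal R)

theorem smul_cot_eq_zero {g : R} (hg : g ∈ J) (v : J.Cotangent) : g • v = 0 := by
  obtain ⟨y, rfl⟩ := J.toCotangent_surjective v
  rw [← map_smul, Ideal.toCotangent_eq_zero]
  simp only [Submodule.coe_smul, smul_eq_mul, pow_two]
  exact Ideal.mul_mem_mul hg y.2

theorem toCot_eq_sum {m : ℕ} (x : Fin m → R) (hx : ∀ j, x j ∈ J) (c : Fin m → R) (y : R)
    (hy : y ∈ J) (h : y = ∑ j, c j * x j) :
    J.toCotangent ⟨y, hy⟩ = ∑ j, c j • J.toCotangent ⟨x j, hx j⟩ := by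
  have : (⟨y, hy⟩ : ↥J) = ∑ j, c j • (⟨x j, hx j⟩ : ↥J) := by
    apply Subtype.ext
    simp [h]
  rw [this, map_sum]
  simp only [map_smul]

theorem Phi_TT {ι : Type u} [Fintype ι] [DecidableEq ι] {m : ℕ} (ys : Fin m → ↥J) (d : Fin m →₀ ℕ)
    (hd : d.degree = Fintype.card ι) :
    SymGr.Phi J ι (TT (R := R) (ι := ι) (fun j => J.toCotangent (ys j)) d) =
      Ideal.Quotient.mk _ (∏ j, ((ys j : ↥J) : R) ^ d j) := by
  obtain ⟨a, rfl⟩ := exists_expo_eq (ι := ι) d hd
  rw [TT_expo, SymGr.Phi_tprod J (fun i => ys (a i)),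
    prod_eq_prod_pow (fun j => ((ys j : ↥J) : R)) a]

/-- version of `exists_intrinsic` with the generators chosen inside the ideal. -/
theorem exists_intrinsic_mem (g : R) {r : ℕ} (e : Fin r → Localization.Away g) (𝔞 : Ideal R)
    (hq : CAlgX.IsQuasiRegular e)
    (hs : Ideal.span (Set.range e) = 𝔞.map (algebraMap R (Localization.Away g))) :
    ∃ ε : Fin r → R, (∀ j, ε j ∈ 𝔞) ∧ QRA g 𝔞 ε ∧ GenA g 𝔞 ε := by
  classical
  have hmem : ∀ j, e j ∈ 𝔞.map (algebraMap R (Localization.Away g)) :=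
    fun j => hs ▸ Ideal.subset_span ⟨j, rfl⟩
  choose x hx using fun j => (IsLocalization.mem_map_algebraMap_iff (Submonoid.powers g)
    (Localization.Away g)).mp (hmem j)
  have hu : ∀ j, IsUnit (algebraMap R (Localization.Away g) ((x j).2 : R)) :=
    fun j => IsLocalization.map_units _ (x j).2
  have hspan' : Ideal.span (Set.range
      (fun j => algebraMap R (Localization.Away g) ((x j).1 : R))) = Ideal.span (Set.range e) := by
    apply le_antisymm
    · rw [Ideal.span_le]
      rintro _ ⟨j, rfl⟩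
      show algebraMap R _ ((x j).1 : R) ∈ _
      rw [← hx j, mul_comm]
      exact Ideal.mul_mem_left _ _ (Ideal.subset_span ⟨j, rfl⟩)
    · rw [Ideal.span_le]
      rintro _ ⟨j, rfl⟩
      have h1 : e j * algebraMap R (Localization.Away g) ((x j).2 : R) ∈
          Ideal.span (Set.range
            (fun j => algebraMap R (Localization.Away g) ((x j).1 : R))) := by
        rw [hx j]
        exact Ideal.subset_span ⟨j, rfl⟩
      rw [mul_comm] at h1
      exact (Ideal.unit_mul_mem_iff_mem _ (hu j)).mp h1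
  have hq' : CAlgX.IsQuasiRegular
      (fun j => algebraMap R (Localization.Away g) ((x j).1 : R)) :=
    Groth.Agent.Lib.Helper6.QuasiRegChange.isQuasiRegular_of_span_eq e _ hq hspan'
  have hs' := hspan'.trans hs
  exact ⟨fun j => ((x j).1 : R), fun j => (x j).1.2, (qr_iff_qra g _ 𝔞 _ hs').mp hq',
    (genA_iff g _ 𝔞 _).mp hs'⟩

variable {ι : Type u} [Fintype ι] {m : ℕ} {g : R} (x : Fin m → R) (hx : ∀ j, x j ∈ J)

theorem claimA (hgen : ∀ y ∈ J, ∃ N : ℕ, g ^ N * y ∈ Ideal.span (Set.range x))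
    (ξ : SymmetricPower R ι J.Cotangent) :
    ∃ N : ℕ, g ^ N • ξ ∈ Submodule.span R (Set.range (fun a : ι → Fin m =>
      SymmetricPower.tprod R (fun i => J.toCotangent ⟨x (a i), hx (a i)⟩))) := by
  classical
  have hξ : ξ ∈ Submodule.span R
      (Set.range (SymmetricPower.tprod R (ι := ι) (M := J.Cotangent))) := by
    rw [SymmetricPower.span_tprod_eq_top]; trivial
  induction hξ using Submodule.span_induction with
  | mem ξ h =>
    obtain ⟨v, rfl⟩ := h
    choose y hy using fun i => J.toCotangent_surjective (v i)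
    choose N hN using fun i => hgen (y i) (y i).2
    choose c hc using fun i => Ideal.mem_span_range_iff_exists_fun.mp (hN i)
    have h1 : ∀ i, g ^ N i • v i = ∑ j, c i j • J.toCotangent ⟨x j, hx j⟩ := by
      intro i
      rw [← hy i, ← map_smul]
      have hmem : g ^ N i * (y i : R) ∈ J := J.mul_mem_left _ (y i).2
      have : g ^ N i • y i = ⟨g ^ N i * (y i : R), hmem⟩ := Subtype.ext (by simp)
      rw [this]
      exact toCot_eq_sum J x hx (c i) _ hmem (hc i).symm
    refine ⟨∑ i, N i, ?_⟩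
    have h2 : g ^ (∑ i, N i) • SymmetricPower.tprod R v =
        SymmetricPower.tprod R (fun i => ∑ j, c i j • J.toCotangent ⟨x j, hx j⟩) := by
      rw [← Finset.prod_pow_eq_pow_sum,
        ← MultilinearMap.map_smul_univ (SymmetricPower.tprod R) (fun i => g ^ N i) v]
      congr 1
      funext i
      exact h1 i
    rw [h2, MultilinearMap.map_sum]
    refine Submodule.sum_mem _ (fun a _ => ?_)
    rw [MultilinearMap.map_smul_univ (SymmetricPower.tprod R) (fun i => c i (a i))
      (fun i => J.toCotangent ⟨x (a i), hx (a i)⟩)]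
    exact Submodule.smul_mem _ _ (Submodule.subset_span ⟨a, rfl⟩)
  | zero => exact ⟨0, by simp⟩
  | add ξ₁ ξ₂ _ _ h₁ h₂ =>
    obtain ⟨N₁, h₁⟩ := h₁
    obtain ⟨N₂, h₂⟩ := h₂
    refine ⟨N₁ + N₂, ?_⟩
    rw [smul_add]
    refine add_mem ?_ ?_
    · rw [pow_add, mul_comm, mul_smul]; exact Submodule.smul_mem _ _ h₁
    · rw [pow_add, mul_smul]; exact Submodule.smul_mem _ _ h₂
  | smul r ξ _ h =>
    obtain ⟨N, h⟩ := h
    exact ⟨N, by rw [smul_comm]; exact Submodule.smul_mem _ _ h⟩

theorem claimB [Nonempty ι] (hq : QRA g J x) (η : SymmetricPower R ι J.Cotangent)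
    (hη : η ∈ Submodule.span R (Set.range (fun a : ι → Fin m =>
      SymmetricPower.tprod R (fun i => J.toCotangent ⟨x (a i), hx (a i)⟩))))
    (h0 : SymGr.canon J ι η = 0) : ∃ N : ℕ, g ^ N • η = 0 := by
  classical
  obtain ⟨q, rfl⟩ := (Submodule.mem_span_range_iff_exists_fun R).mp hη
  have h1 : SymGr.Phi J ι (∑ a : ι → Fin m, q a •
      SymmetricPower.tprod R (fun i => J.toCotangent ⟨x (a i), hx (a i)⟩)) = 0 := by
    rw [SymGr.Phi, LinearMap.comp_apply, h0, map_zero]
  have h2 : ∀ a : ι → Fin m, SymGr.Phi J ι (SymmetricPower.tprod R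
      (fun i => J.toCotangent ⟨x (a i), hx (a i)⟩)) = Ideal.Quotient.mk _ (∏ i, x (a i)) :=
    fun a => SymGr.Phi_tprod J (fun i => (⟨x (a i), hx (a i)⟩ : ↥J))
  have h3 : Ideal.Quotient.mk (J ^ (Fintype.card ι + 1)) (eval x (polyOf q)) = 0 := by
    rw [eval_polyOf, map_sum, ← h1, map_sum]
    refine Finset.sum_congr rfl (fun a _ => ?_)
    rw [map_smul, h2, map_mul, Algebra.smul_def, Ideal.Quotient.algebraMap_eq]
  have hev : eval x (polyOf q) ∈ J ^ (Fintype.card ι + 1) := Ideal.Quotient.eq_zero_iff_mem.mp h3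
  have hcoef := hq (Fintype.card ι) (polyOf q) (polyOf_isHomogeneous q)
    ⟨0, by rw [pow_zero, one_mul]; exact hev⟩
  choose Nd hNd using hcoef
  let S : Finset (Fin m →₀ ℕ) := Finset.univ.image (expo : (ι → Fin m) → (Fin m →₀ ℕ))
  refine ⟨∑ d ∈ S, Nd d, ?_⟩
  have hre := sum_smul_tprod_eq (R := R) (ι := ι) (fun j => J.toCotangent ⟨x j, hx j⟩) q
  rw [hre, Finset.smul_sum]
  refine Finset.sum_eq_zero (fun d hd => ?_)
  rw [smul_smul, ← coeff_polyOf]
  refine SymPow.smul_eq_zero_of_forall _ (fun v => smul_cot_eq_zero J ?_ v) _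
  have hle : Nd d ≤ ∑ d ∈ S, Nd d := Finset.single_le_sum (fun _ _ => Nat.zero_le _) hd
  obtain ⟨k, hk⟩ := Nat.exists_eq_add_of_le hle
  rw [hk, pow_add, mul_comm (g ^ Nd d), mul_assoc]
  exact J.mul_mem_left _ (hNd d)

theorem canon_injective_of_loc [Nonempty ι] (h : PP16.IsLocallyQuasiRegular R J) :
    Function.Injective (SymGr.canon J ι) := by
  classical
  rw [injective_iff_map_eq_zero]
  intro ξ hξ
  by_contra hne
  let A : Ideal R := LinearMap.ker (LinearMap.toSpanSingleton R (SymmetricPower R ι J.Cotangent) ξ)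
  have hA : A ≠ ⊤ := by
    intro htop
    have h1 : (1 : R) ∈ A := htop ▸ Submodule.mem_top
    rw [LinearMap.mem_ker, LinearMap.toSpanSingleton_apply, one_smul] at h1
    exact hne h1
  obtain ⟨P, hP, hAP⟩ := Ideal.exists_le_maximal A hA
  haveI := hP.isPrime
  have key : ∃ g : R, g ∉ P ∧ ∃ N : ℕ, g ^ N • ξ = 0 := by
    by_cases hJP : J ≤ P
    · obtain ⟨g, hg, r, e, hqe, hse⟩ := h P hJP
      obtain ⟨x, hx, hqra, hgena⟩ := exists_intrinsic_mem g e J hqe hse
      obtain ⟨N₁, hN₁⟩ := claimA J x hx hgena.2 ξ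
      have h0 : SymGr.canon J ι (g ^ N₁ • ξ) = 0 := by rw [map_smul, hξ, smul_zero]
      obtain ⟨N₂, hN₂⟩ := claimB J x hx hqra _ hN₁ h0
      exact ⟨g, hg, N₂ + N₁, by rw [pow_add, mul_smul]; exact hN₂⟩
    · obtain ⟨g, hgJ, hgP⟩ := SetLike.not_le_iff_exists.mp hJP
      refine ⟨g, hgP, 1, ?_⟩
      rw [pow_one]
      exact SymPow.smul_eq_zero_of_forall _ (fun v => smul_cot_eq_zero J hgJ v) _
  obtain ⟨g, hg, N, hN⟩ := key
  have hmem : g ^ N ∈ A := by
    rw [LinearMap.mem_ker, LinearMap.toSpanSingleton_apply]; exact hN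
  exact hg (hP.isPrime.mem_of_pow_mem N (hAP hmem))

end cot

end Groth.Agent.Lib.Helper4.QR1
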