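import Mathlib
import Groth.Agent.Lib.Helper4.QR1

/-!
Helper4: quasi-regular ideals (EGA IV 16.9.3), part 2: the conormal module of a locally
quasi-regular ideal is finitely generated projective.
-/

set_option autoImplicit false
set_option linter.style.haveILetI false
set_option linter.unusedSectionVars false
set_option linter.unusedVariables false
set_option maxHeartbeats 800000

namespace Groth.Agent.Lib.Helper4.QR2

open MvPolynomial
open Groth.Agent.Lib.Helper21
open Groth.Agent.Lib.Helper6.QRDescent
open Groth.Agent.Lib.Helper4.QR1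

universe u

variable {R : Type u} [CommRing R] (J : Ideal R)

theorem finite_cotangent (hfg : J.FG) : Module.Finite (R ⧸ J) J.Cotangent := by
  haveI : Module.Finite R ↥J := Module.Finite.iff_fg.mpr hfg
  haveI : Module.Finite R J.Cotangent :=
    Module.Finite.of_surjective J.toCotangent J.toCotangent_surjective
  exact Module.Finite.of_restrictScalars_finite R (R ⧸ J) J.Cotangent

theorem free_localized (g : R) {m : ℕ} (x : Fin m → R) (hx : ∀ j, x j ∈ J)
    (hq : QRA g J x) (hgen : GenA g J x) :
    Module.Free (Localization (Submonoid.powers (Ideal.Quotient.mk J g)))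
      (LocalizedModule (Submonoid.powers (Ideal.Quotient.mk J g)) J.Cotangent) := by
  classical
  obtain ⟨gb, hgb⟩ : ∃ gb : R ⧸ J, gb = Ideal.Quotient.mk J g := ⟨_, rfl⟩
  rw [← hgb]
  obtain ⟨Sm, hSm⟩ : ∃ Sm : Submonoid (R ⧸ J), Sm = Submonoid.powers gb := ⟨_, rfl⟩
  rw [← hSm]
  have hpowmem : ∀ k : ℕ, gb ^ k ∈ Sm := fun k => hSm ▸ pow_mem (Submonoid.mem_powers gb) k
  let xb : Fin m → J.Cotangent := fun j => J.toCotangent ⟨x j, hx j⟩
  let v : Fin m → LocalizedModule Sm J.Cotangent :=
    fun j => LocalizedModule.mkLinearMap Sm J.Cotangent (xb j)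
  have hli : LinearIndependent (Localization Sm) v := by
    rw [Fintype.linearIndependent_iff]
    intro lam hlam j
    obtain ⟨b, hb⟩ := IsLocalization.exist_integer_multiples Sm
      (Finset.univ : Finset (Fin m)) lam
    choose a ha using fun i => RingHom.mem_rangeS.mp (hb i (Finset.mem_univ i))
    have h1 : LocalizedModule.mkLinearMap Sm J.Cotangent (∑ i, a i • xb i) = 0 := by
      rw [map_sum]
      have hterm : ∀ i, LocalizedModule.mkLinearMap Sm J.Cotangent (a i • xb i) =
          (b : R ⧸ J) • (lam i • v i) := by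
        intro i
        rw [map_smul, ← smul_assoc, ← ha i, algebraMap_smul]
      simp only [hterm]
      rw [← Finset.smul_sum, hlam, smul_zero]
    obtain ⟨t, ht⟩ := (IsLocalizedModule.eq_zero_iff Sm
      (LocalizedModule.mkLinearMap Sm J.Cotangent)).mp h1
    have hpow : ∀ s : R ⧸ J, s ∈ Sm → ∃ k : ℕ, gb ^ k = s := by
      intro s hs
      rw [hSm] at hs
      exact (Submonoid.mem_powers_iff _ _).mp hs
    obtain ⟨k, hk⟩ : ∃ k : ℕ, gb ^ k = (t : R ⧸ J) := hpow _ t.2
    choose at' hat' using fun i => Ideal.Quotient.mk_surjective (a i)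
    have hmem : ∑ i, (g ^ k * at' i) * x i ∈ J :=
      J.sum_mem (fun i _ => J.mul_mem_left _ (hx i))
    have h2 : J.toCotangent ⟨∑ i, (g ^ k * at' i) * x i, hmem⟩ = 0 := by
      rw [toCot_eq_sum J x hx (fun i => g ^ k * at' i) _ hmem rfl]
      have hterm : ∀ i, (g ^ k * at' i) • J.toCotangent ⟨x i, hx i⟩ = gb ^ k • (a i • xb i) := by
        intro i
        rw [← algebraMap_smul (R ⧸ J) (g ^ k * at' i) (J.toCotangent ⟨x i, hx i⟩),
          Ideal.Quotient.algebraMap_eq, map_mul, map_pow, hat' i, mul_smul, hgb]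
      simp only [hterm]
      rw [← Finset.smul_sum, hk]
      exact ht
    rw [Ideal.toCotangent_eq_zero] at h2
    let Pp : MvPolynomial (Fin m) R := ∑ i, C (g ^ k * at' i) * X i
    have hPp : Pp.IsHomogeneous 1 :=
      IsHomogeneous.sum _ _ _ (fun i _ => isHomogeneous_C_mul_X _ _)
    have hev : eval x Pp = ∑ i, (g ^ k * at' i) * x i := by
      simp only [Pp, map_sum, map_mul, eval_C, eval_X]
    obtain ⟨N, hN⟩ := hq 1 Pp hPp ⟨0, by rw [pow_zero, one_mul, hev]; exact h2⟩
      (Finsupp.single j 1)
    have hcoeff : Pp.coeff (Finsupp.single j 1) = g ^ k * at' j := by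
      simp only [Pp, coeff_sum, coeff_C_mul, coeff_X', Finsupp.single_left_inj one_ne_zero,
        mul_ite, mul_one, mul_zero, Finset.sum_ite_eq', Finset.mem_univ, if_true]
    rw [hcoeff] at hN
    have h3 : algebraMap (R ⧸ J) (Localization Sm) (a j) = 0 := by
      rw [IsLocalization.map_eq_zero_iff Sm]
      refine ⟨⟨gb ^ (N + k), hpowmem _⟩, ?_⟩
      show gb ^ (N + k) * a j = 0
      rw [← hat' j, hgb, ← map_pow, ← map_mul, Ideal.Quotient.eq_zero_iff_mem]
      have : g ^ (N + k) * at' j = g ^ N * (g ^ k * at' j) := by ring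
      rw [this]; exact hN
    rw [ha j] at h3
    have hbu : IsUnit (algebraMap (R ⧸ J) (Localization Sm) (b : R ⧸ J)) :=
      IsLocalization.map_units _ b
    rw [Algebra.smul_def] at h3
    exact (hbu.mul_right_eq_zero).mp h3
  have hsp : ⊤ ≤ Submodule.span (Localization Sm) (Set.range v) := by
    intro z _
    induction z using LocalizedModule.induction_on with
    | h mm s =>
      obtain ⟨y, rfl⟩ := J.toCotangent_surjective mm
      obtain ⟨N, hN⟩ := hgen.2 (y : R) y.2
      obtain ⟨c, hc⟩ := Ideal.mem_span_range_iff_exists_fun.mp hN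
      have hmem : g ^ N * (y : R) ∈ J := J.mul_mem_left _ y.2
      have h1 : gb ^ N • J.toCotangent y = ∑ i, (Ideal.Quotient.mk J (c i)) • xb i := by
        have e1 : J.toCotangent ⟨g ^ N * (y : R), hmem⟩ =
            ∑ i, c i • J.toCotangent ⟨x i, hx i⟩ :=
          toCot_eq_sum J x hx c _ hmem hc.symm
        have e2 : (⟨g ^ N * (y : R), hmem⟩ : ↥J) = g ^ N • y := Subtype.ext (by simp)
        rw [e2, map_smul] at e1
        rw [hgb, ← map_pow, ← Ideal.Quotient.algebraMap_eq, algebraMap_smul, e1]
        refine Finset.sum_congr rfl (fun i _ => ?_)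
        rw [algebraMap_smul]
      let t : Sm := ⟨gb ^ N, hpowmem N⟩
      have h2 : LocalizedModule.mk (J.toCotangent y) s = (Localization.mk 1 (t * s)) •
          LocalizedModule.mkLinearMap Sm J.Cotangent
            (∑ i, (Ideal.Quotient.mk J (c i)) • xb i) := by
        rw [← h1, LocalizedModule.mkLinearMap_apply, LocalizedModule.mk_smul_mk, one_smul, mul_one]
        exact (LocalizedModule.mk_cancel_common_left t s (J.toCotangent y)).symm
      rw [h2]
      refine Submodule.smul_mem _ _ ?_
      rw [map_sum]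
      refine Submodule.sum_mem _ (fun i _ => ?_)
      rw [map_smul, ← algebraMap_smul (Localization Sm) (Ideal.Quotient.mk J (c i))
        (LocalizedModule.mkLinearMap Sm J.Cotangent (xb i))]
      exact Submodule.smul_mem _ _ (Submodule.subset_span ⟨i, rfl⟩)
  exact Module.Free.of_basis (Module.Basis.mk hli hsp)

theorem projective_of_loc (h : PP16.IsLocallyQuasiRegular R J) :
    Module.Projective (R ⧸ J) J.Cotangent := by
  classical
  have hfg : J.FG := fg_of_locQR J h
  haveI : Module.Finite (R ⧸ J) J.Cotangent := finite_cotangent J hfg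
  have key : ∀ p : PrimeSpectrum (R ⧸ J), ∃ gb : R ⧸ J, gb ∉ p.asIdeal ∧
      Module.Free (Localization (Submonoid.powers gb))
        (LocalizedModule (Submonoid.powers gb) J.Cotangent) := by
    intro p
    let P : Ideal R := p.asIdeal.comap (Ideal.Quotient.mk J)
    haveI : P.IsPrime := Ideal.comap_isPrime _ _
    have hJP : J ≤ P := by
      intro a ha
      show Ideal.Quotient.mk J a ∈ p.asIdeal
      rw [Ideal.Quotient.eq_zero_iff_mem.mpr ha]
      exact zero_mem _
    obtain ⟨g, hg, r, e, hqe, hse⟩ := h P hJP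
    obtain ⟨x, hx, hqra, hgena⟩ := exists_intrinsic_mem g e J hqe hse
    exact ⟨Ideal.Quotient.mk J g, hg, free_localized J g x hx hqra hgena⟩
  haveI : Module.FinitePresentation (R ⧸ J) J.Cotangent := by
    let s : Set (R ⧸ J) := {gb | Module.Free (Localization (Submonoid.powers gb))
      (LocalizedModule (Submonoid.powers gb) J.Cotangent)}
    have hs : Ideal.span s = ⊤ := by
      by_contra hne
      obtain ⟨M, hM, hle⟩ := Ideal.exists_le_maximal _ hne
      obtain ⟨gb, hgb, hfree⟩ := key ⟨M, hM.isPrime⟩
      exact hgb (hle (Ideal.subset_span hfree))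
    refine Module.FinitePresentation.of_localizationSpan s hs (fun r => ?_)
    haveI : Module.Free (Localization (Submonoid.powers r.1))
      (LocalizedModule (Submonoid.powers r.1) J.Cotangent) := r.2
    exact Module.finitePresentation_of_projective _ _
  rw [← Module.freeLocus_eq_univ_iff, Set.eq_univ_iff_forall]
  intro p
  obtain ⟨gb, hgb, hfree⟩ := key p
  haveI := hfree
  have hsub : (PrimeSpectrum.basicOpen gb : Set (PrimeSpectrum (R ⧸ J))) ⊆
      Module.freeLocus (R ⧸ J) J.Cotangent :=
    Module.basicOpen_subset_freeLocus_iff.mpr inferInstance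
  exact hsub hgb

end Groth.Agent.Lib.Helper4.QR2
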