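import Mathlib
import Groth.Agent.Lib.Helper4.QR2

/-!
Helper4: quasi-regular ideals (EGA IV 16.9.3), part 3: a finitely generated ideal with projective
conormal module and `Sym(J/J²) ≅ gr_J(R)` is locally quasi-regular.
-/

set_option autoImplicit false
set_option linter.style.haveILetI false
set_option linter.unusedSectionVars false
set_option linter.unusedVariables false
set_option maxHeartbeats 800000

namespace Groth.Agent.Lib.Helper4.QR3

open MvPolynomial
open Groth.Agent.Lib.Helper21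
open Groth.Agent.Lib.Helper6.QRDescent
open Groth.Agent.Lib.Helper4.QR1 Groth.Agent.Lib.Helper4.QR2

universe u

variable {R : Type u} [CommRing R] (J : Ideal R)

/-- powers of the class of `g₀` in `R/J`. -/
abbrev SmOf (g₀ : R) : Submonoid (R ⧸ J) := Submonoid.powers (Ideal.Quotient.mk J g₀)

/-- the localization of `R/J` at the class of `g₀`. -/
abbrev LOf (g₀ : R) : Type u := Localization (SmOf J g₀)

theorem exists_local_data (hfg : J.FG) (hproj : Module.Projective (R ⧸ J) J.Cotangent)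
    (P : Ideal R) [P.IsPrime] (hJP : J ≤ P) :
    ∃ (g₀ : R) (m : ℕ) (ys : Fin m → ↥J)
      (ℓ : J.Cotangent →ₗ[R] MvPolynomial (Fin m) (LOf J g₀)),
      g₀ ∉ P ∧ (∀ j, ℓ (J.toCotangent (ys j)) = X j) ∧
      ∀ v : J.Cotangent, ∃ k : ℕ, (Ideal.Quotient.mk J g₀) ^ k • v ∈
        Submodule.span (R ⧸ J) (Set.range (fun j => J.toCotangent (ys j))) := by
  classical
  haveI := hproj
  haveI : Module.Finite (R ⧸ J) J.Cotangent := finite_cotangent J hfg
  haveI : Module.FinitePresentation (R ⧸ J) J.Cotangent :=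
    Module.finitePresentation_of_projective _ _
  let Pb : Ideal (R ⧸ J) := P.map (Ideal.Quotient.mk J)
  haveI hPb : Pb.IsPrime := Ideal.map_isPrime_of_surjective Ideal.Quotient.mk_surjective
    (by rw [Ideal.mk_ker]; exact hJP)
  have hfreeP : Module.Free (Localization.AtPrime Pb)
      (LocalizedModule Pb.primeCompl J.Cotangent) := by
    have h1 := Module.freeLocus_eq_univ (R := R ⧸ J) (M := J.Cotangent)
    have h2 : (⟨Pb, hPb⟩ : PrimeSpectrum (R ⧸ J)) ∈ Module.freeLocus (R ⧸ J) J.Cotangent :=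
      h1 ▸ Set.mem_univ _
    exact h2
  haveI := hfreeP
  obtain ⟨rb, hrb, hfree, -⟩ := Module.FinitePresentation.exists_free_localizedModule_powers
    Pb.primeCompl (LocalizedModule.mkLinearMap Pb.primeCompl J.Cotangent)
    (Localization.AtPrime Pb)
  obtain ⟨g₀, rfl⟩ := Ideal.Quotient.mk_surjective rb
  have hg₀ : g₀ ∉ P := fun hg => hrb (Ideal.mem_map_of_mem (Ideal.Quotient.mk J) hg)
  haveI : Nontrivial (LOf J g₀) :=
    (show LOf J g₀ →+* Localization.AtPrime Pb from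
      IsLocalization.map (M := SmOf J g₀) (T := Pb.primeCompl) _ (RingHom.id _)
        (Submonoid.powers_le.mpr hrb)).domain_nontrivial
  haveI : Module.Free (LOf J g₀) (LocalizedModule (SmOf J g₀) J.Cotangent) := hfree
  let b0 := Module.Free.chooseBasis (LOf J g₀) (LocalizedModule (SmOf J g₀) J.Cotangent)
  haveI : Finite (Module.Free.ChooseBasisIndex (LOf J g₀)
      (LocalizedModule (SmOf J g₀) J.Cotangent)) := Module.Finite.finite_basis b0
  obtain ⟨m, ⟨e⟩⟩ := Finite.exists_equiv_fin (Module.Free.ChooseBasisIndex (LOf J g₀)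
      (LocalizedModule (SmOf J g₀) J.Cotangent))
  let b1 := b0.reindex e
  choose ms hms using fun j => IsLocalizedModule.surj (SmOf J g₀)
    (LocalizedModule.mkLinearMap (SmOf J g₀) J.Cotangent) (b1 j)
  have hw : ∀ j, IsUnit (algebraMap (R ⧸ J) (LOf J g₀) ((ms j).2 : R ⧸ J)) :=
    fun j => IsLocalization.map_units _ (ms j).2
  let b2 := b1.isUnitSMul hw
  have hb2 : ∀ j, b2 j = LocalizedModule.mkLinearMap (SmOf J g₀) J.Cotangent (ms j).1 := by
    intro j
    rw [Module.Basis.isUnitSMul_apply, algebraMap_smul]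
    exact hms j
  choose ys hys using fun j => J.toCotangent_surjective (ms j).1
  let ℓ₁ : LocalizedModule (SmOf J g₀) J.Cotangent →ₗ[LOf J g₀] MvPolynomial (Fin m) (LOf J g₀) :=
    b2.constr (LOf J g₀) (fun j => (X j : MvPolynomial (Fin m) (LOf J g₀)))
  let ℓ : J.Cotangent →ₗ[R] MvPolynomial (Fin m) (LOf J g₀) :=
    (ℓ₁.restrictScalars R).comp
      ((LocalizedModule.mkLinearMap (SmOf J g₀) J.Cotangent).restrictScalars R)
  have hℓ : ∀ j, ℓ (J.toCotangent (ys j)) = X j := by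
    intro j
    show ℓ₁ (LocalizedModule.mkLinearMap (SmOf J g₀) J.Cotangent (J.toCotangent (ys j))) = X j
    rw [hys j, ← hb2 j]
    exact b2.constr_basis (LOf J g₀) _ j
  refine ⟨g₀, m, ys, ℓ, hg₀, hℓ, ?_⟩
  intro v
  have h1 : Submodule.localized' (LOf J g₀) (SmOf J g₀)
      (LocalizedModule.mkLinearMap (SmOf J g₀) J.Cotangent)
      (Submodule.span (R ⧸ J) (Set.range (fun j => J.toCotangent (ys j)))) = ⊤ := by
    rw [Submodule.localized'_span, ← Set.range_comp]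
    have : ((LocalizedModule.mkLinearMap (SmOf J g₀) J.Cotangent) ∘
        fun j => J.toCotangent (ys j)) = b2 := by
      funext j
      show LocalizedModule.mkLinearMap _ _ (J.toCotangent (ys j)) = b2 j
      rw [hys j, hb2 j]
    rw [this, b2.span_eq]
  have h2 : LocalizedModule.mkLinearMap (SmOf J g₀) J.Cotangent v ∈
      Submodule.localized' (LOf J g₀) (SmOf J g₀)
        (LocalizedModule.mkLinearMap (SmOf J g₀) J.Cotangent)
        (Submodule.span (R ⧸ J) (Set.range (fun j => J.toCotangent (ys j)))) :=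
    h1 ▸ Submodule.mem_top
  obtain ⟨w, hw', s, hs⟩ := h2
  rw [IsLocalizedModule.mk'_eq_iff] at hs
  have h3 : LocalizedModule.mkLinearMap (SmOf J g₀) J.Cotangent ((s : R ⧸ J) • v - w) = 0 := by
    rw [map_sub, map_smul, hs]
    exact sub_self _
  obtain ⟨t, ht⟩ := (IsLocalizedModule.eq_zero_iff (SmOf J g₀)
    (LocalizedModule.mkLinearMap (SmOf J g₀) J.Cotangent)).mp h3
  obtain ⟨k, hk⟩ := (Submonoid.mem_powers_iff _ _).mp (t * s).2
  refine ⟨k, ?_⟩
  rw [hk]
  have h4 : (t : R ⧸ J) • ((s : R ⧸ J) • v - w) = 0 := ht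
  rw [smul_sub, sub_eq_zero] at h4
  have h5 : ((t * s : SmOf J g₀) : R ⧸ J) • v = (t : R ⧸ J) • w := by
    rw [Submonoid.coe_mul, mul_smul, h4]
  rw [h5]
  exact Submodule.smul_mem _ _ hw'

theorem exists_mul_mem_span (hfg : J.FG) {m : ℕ} (x : Fin m → R) (hx : ∀ j, x j ∈ J) (g₀ : R)
    (hS : ∀ y ∈ J, ∃ (k : ℕ) (c : Fin m → R), g₀ ^ k * y - ∑ j, c j * x j ∈ J ^ 2)
    (P : Ideal R) [hPp : P.IsPrime] (hJP : J ≤ P) (hg₀ : g₀ ∉ P) :
    ∃ h : R, h ∉ P ∧ ∀ y ∈ J, h * y ∈ Ideal.span (Set.range x) := by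
  classical
  have hJ'J : Ideal.span (Set.range x) ≤ J :=
    Ideal.span_le.mpr (by rintro _ ⟨j, rfl⟩; exact hx j)
  obtain ⟨k₀, hk₀⟩ : ∃ k₀ : ℕ, ∀ y ∈ J, g₀ ^ k₀ * y ∈ Ideal.span (Set.range x) ⊔ J ^ 2 := by
    obtain ⟨s, hs⟩ := hfg
    choose! k c hkc using hS
    refine ⟨∑ y ∈ s, k y, ?_⟩
    have hsub : (s : Set R) ⊆ ↑(Submodule.comap (LinearMap.mulLeft R (g₀ ^ (∑ y ∈ s, k y)))
        (Ideal.span (Set.range x) ⊔ J ^ 2)) := by
      intro y hy
      have hyJ : y ∈ J := hs ▸ Submodule.subset_span hy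
      show g₀ ^ (∑ y ∈ s, k y) * y ∈ Ideal.span (Set.range x) ⊔ J ^ 2
      obtain ⟨e, he⟩ := Nat.exists_eq_add_of_le
        (Finset.single_le_sum (fun _ _ => Nat.zero_le _) hy : k y ≤ ∑ y ∈ s, k y)
      rw [he, pow_add, mul_comm (g₀ ^ k y), mul_assoc]
      refine Ideal.mul_mem_left _ _ ?_
      have h1 := hkc y hyJ
      have h2 : g₀ ^ k y * y = ∑ j, c y j * x j + (g₀ ^ k y * y - ∑ j, c y j * x j) := by ring
      rw [h2]
      exact Submodule.add_mem_sup (Ideal.sum_mem _ fun j _ =>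
        Ideal.mul_mem_left _ _ (Ideal.subset_span ⟨j, rfl⟩)) h1
    have hle := Submodule.span_le.mpr hsub
    intro y hy
    have hy' : y ∈ Ideal.span (s : Set R) := hs.symm ▸ hy
    exact hle hy'
  let N' : Submodule R ↥J := Submodule.comap J.subtype (Ideal.span (Set.range x))
  haveI : Module.Finite R ↥J := Module.Finite.iff_fg.mpr hfg
  obtain ⟨a, ha⟩ : ∃ a : R, a = g₀ ^ k₀ := ⟨_, rfl⟩
  let φ : Module.End R (↥J ⧸ N') := algebraMap R (Module.End R (↥J ⧸ N')) a
  have hφ : LinearMap.range φ ≤ J • (⊤ : Submodule R (↥J ⧸ N')) := by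
    rintro _ ⟨mt, rfl⟩
    obtain ⟨y, rfl⟩ := Submodule.Quotient.mk_surjective N' mt
    show a • (Submodule.Quotient.mk y : ↥J ⧸ N') ∈ _
    obtain ⟨w, hw, z, hz, hwz⟩ := Submodule.mem_sup.mp (hk₀ (y : R) y.2)
    have hzJ : z ∈ J := Ideal.pow_le_self two_ne_zero hz
    have hwJ : w ∈ J := hJ'J hw
    have e1 : a • y = (⟨w, hwJ⟩ : ↥J) + ⟨z, hzJ⟩ := Subtype.ext (by simp [ha, hwz])
    rw [← Submodule.Quotient.mk_smul, e1, Submodule.Quotient.mk_add]
    have e2 : (Submodule.Quotient.mk (⟨w, hwJ⟩ : ↥J) : ↥J ⧸ N') = 0 := by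
      rw [Submodule.Quotient.mk_eq_zero]; exact hw
    rw [e2, zero_add]
    have hz' : z ∈ (J • (⊤ : Submodule R ↥J)).map J.subtype := by
      rw [Submodule.map_smul'', Submodule.map_subtype_top, smul_eq_mul, ← pow_two]; exact hz
    obtain ⟨u, hu, huz⟩ := hz'
    have e3 : (⟨z, hzJ⟩ : ↥J) = u := Subtype.ext huz.symm
    rw [e3]
    have hmem : (Submodule.Quotient.mk u : ↥J ⧸ N') ∈
        (J • (⊤ : Submodule R ↥J)).map N'.mkQ := Submodule.mem_map_of_mem hu
    rw [Submodule.map_smul''] at hmem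
    exact Submodule.smul_mono le_rfl le_top hmem
  obtain ⟨p, hpm, -, hpc, hp0⟩ :=
    LinearMap.exists_monic_and_natDegree_eq_and_coeff_mem_pow_and_aeval_eq_zero R φ J hφ
  refine ⟨p.eval a, ?_, ?_⟩
  · intro hmem
    rw [Polynomial.eval_eq_sum_range, Finset.sum_range_succ] at hmem
    have h1 : ∑ i ∈ Finset.range p.natDegree, p.coeff i * a ^ i ∈ P := by
      refine P.sum_mem (fun i hi => P.mul_mem_right _ (hJP ?_))
      exact Ideal.pow_le_self (Nat.sub_ne_zero_of_lt (Finset.mem_range.mp hi)) (hpc i)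
    have h2 : p.coeff p.natDegree * a ^ p.natDegree ∈ P :=
      (Submodule.add_mem_iff_right _ h1).mp hmem
    rw [hpm.coeff_natDegree, one_mul, ha] at h2
    exact hg₀ (hPp.mem_of_pow_mem _ (hPp.mem_of_pow_mem _ h2))
  · intro y hy
    have h3 : Polynomial.aeval φ p = algebraMap R (Module.End R (↥J ⧸ N')) (p.eval a) := by
      show Polynomial.aeval (algebraMap R (Module.End R (↥J ⧸ N')) a) p = _
      rw [Polynomial.aeval_algebraMap_apply, Polynomial.coe_aeval_eq_eval]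
    rw [h3] at hp0
    have h4 := LinearMap.congr_fun hp0 (Submodule.Quotient.mk ⟨y, hy⟩)
    rw [Module.algebraMap_end_apply, LinearMap.zero_apply, ← Submodule.Quotient.mk_smul,
      Submodule.Quotient.mk_eq_zero] at h4
    simpa [N', Submodule.mem_comap] using h4

theorem qra_of_data
    (hinj : ∀ (ι : Type u) [Fintype ι] [Nonempty ι], Function.Injective (SymGr.canon J ι))
    (g₀ h : R) {L : Type u} [CommRing L] [Algebra R L]
    (hL : ∀ c : R, algebraMap R L c = 0 → ∃ k : ℕ, g₀ ^ k * c ∈ J)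
    {m : ℕ} (ys : Fin m → ↥J)
    (ℓ : J.Cotangent →ₗ[R] MvPolynomial (Fin m) L)
    (hℓ : ∀ j, ℓ (J.toCotangent (ys j)) = X j) :
    QRA (g₀ * h) J (fun j => ((ys j : ↥J) : R)) := by
  classical
  intro n Pp hPp hN d
  obtain ⟨N, hN⟩ := hN
  rcases Nat.eq_zero_or_pos n with rfl | hn
  · have hC : Pp = C (Pp.coeff 0) :=
      (totalDegree_eq_zero_iff_eq_C).mp (Nat.le_zero.mp hPp.totalDegree_le)
    rw [hC, eval_C, zero_add, pow_one] at hN
    rw [hC, coeff_C]
    split_ifs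
    · exact ⟨N, hN⟩
    · exact ⟨0, by simp⟩
  · let ι : Type u := ULift.{u} (Fin n)
    haveI : Nonempty ι := ⟨⟨⟨0, hn⟩⟩⟩
    have hcard : Fintype.card ι = n := by simp [ι]
    obtain ⟨g, hg⟩ : ∃ g : R, g = g₀ * h := ⟨_, rfl⟩
    rw [← hg] at hN ⊢
    let Q₂ : MvPolynomial (Fin m) R := C (g ^ N) * Pp
    have hQ₂h : Q₂.IsHomogeneous n := hPp.C_mul _
    have hev : eval (fun j => ((ys j : ↥J) : R)) Q₂ ∈ J ^ (n + 1) := by
      show eval (fun j => ((ys j : ↥J) : R)) (C (g ^ N) * Pp) ∈ _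
      rw [map_mul, eval_C]; exact hN
    have hdeg : ∀ d' ∈ Q₂.support, d'.degree = Fintype.card ι := by
      intro d' hd'
      rw [hcard, Finsupp.degree_eq_weight_one]
      exact hQ₂h (mem_support_iff.mp hd')
    let xb : Fin m → J.Cotangent := fun j => J.toCotangent (ys j)
    let η : SymmetricPower R ι J.Cotangent :=
      ∑ d' ∈ Q₂.support, Q₂.coeff d' • TT (R := R) (ι := ι) xb d'
    have hΦ : SymGr.Phi J ι η = 0 := by
      show SymGr.Phi J ι (∑ d' ∈ Q₂.support, Q₂.coeff d' • TT (R := R) (ι := ι) xb d') = 0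
      rw [map_sum]
      have hterm : ∀ d' ∈ Q₂.support,
          SymGr.Phi J ι (Q₂.coeff d' • TT (R := R) (ι := ι) xb d') =
            Ideal.Quotient.mk _ (Q₂.coeff d' * ∏ j, ((ys j : ↥J) : R) ^ d' j) := by
        intro d' hd'
        rw [map_smul, Phi_TT J ys d' (hdeg d' hd'), map_mul, Algebra.smul_def,
          Ideal.Quotient.algebraMap_eq]
      rw [Finset.sum_congr rfl hterm, ← map_sum, ← eval_eq', Ideal.Quotient.eq_zero_iff_mem,
        hcard]
      exact hev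
    have hη : η = 0 := (SymGr.Phi_injective_iff J ι).mpr (hinj ι) (by rw [hΦ, map_zero])
    have hΨ : PsiMap ℓ η =
        ∑ d' ∈ Q₂.support, monomial d' (algebraMap R L (Q₂.coeff d')) := by
      show PsiMap ℓ (∑ d' ∈ Q₂.support, Q₂.coeff d' • TT (R := R) (ι := ι) xb d') = _
      rw [map_sum]
      refine Finset.sum_congr rfl (fun d' hd' => ?_)
      rw [map_smul, PsiMap_TT ℓ xb hℓ d' (hdeg d' hd'), smul_monomial, Algebra.smul_def, mul_one]
    have hc : Q₂.coeff d = g ^ N * Pp.coeff d := coeff_C_mul _ _ _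
    by_cases hd : d ∈ Q₂.support
    · have h0 : algebraMap R L (Q₂.coeff d) = 0 := by
        have h1 := congrArg (coeff d) hΨ
        rw [hη, map_zero, coeff_zero, coeff_sum] at h1
        simp only [coeff_monomial] at h1
        rw [Finset.sum_ite_eq', if_pos hd] at h1
        exact h1.symm
      obtain ⟨k, hk⟩ := hL _ h0
      rw [hc] at hk
      refine ⟨k + N, ?_⟩
      have e : g ^ (k + N) * Pp.coeff d = h ^ k * (g₀ ^ k * (g ^ N * Pp.coeff d)) := by
        rw [hg]; ring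
      rw [e]
      exact J.mul_mem_left _ hk
    · refine ⟨N, ?_⟩
      rw [← hc, notMem_support_iff.mp hd]
      exact zero_mem _

theorem loc_of_symGr (hfg : J.FG) (hproj : Module.Projective (R ⧸ J) J.Cotangent)
    (hinj : ∀ (ι : Type u) [Fintype ι] [Nonempty ι], Function.Injective (SymGr.canon J ι)) :
    PP16.IsLocallyQuasiRegular R J := by
  classical
  intro P _ hJP
  obtain ⟨g₀, m, ys, ℓ, hg₀, hℓ, hspan⟩ := exists_local_data J hfg hproj P hJP
  have hx : ∀ j, ((ys j : ↥J) : R) ∈ J := fun j => (ys j).2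
  have hS : ∀ y ∈ J, ∃ (k : ℕ) (c : Fin m → R),
      g₀ ^ k * y - ∑ j, c j * ((ys j : ↥J) : R) ∈ J ^ 2 := by
    intro y hy
    obtain ⟨k, hk⟩ := hspan (J.toCotangent ⟨y, hy⟩)
    obtain ⟨cb, hcb⟩ := (Submodule.mem_span_range_iff_exists_fun (R ⧸ J)).mp hk
    choose c hc using fun j => Ideal.Quotient.mk_surjective (cb j)
    refine ⟨k, c, ?_⟩
    have e1 : J.toCotangent (g₀ ^ k • (⟨y, hy⟩ : ↥J)) = J.toCotangent (∑ j, c j • ys j) := by
      rw [map_smul, map_sum, ← algebraMap_smul (R ⧸ J) (g₀ ^ k) (J.toCotangent ⟨y, hy⟩),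
        Ideal.Quotient.algebraMap_eq, map_pow, ← hcb]
      refine Finset.sum_congr rfl (fun j _ => ?_)
      rw [map_smul, ← algebraMap_smul (R ⧸ J) (c j) (J.toCotangent (ys j)),
        Ideal.Quotient.algebraMap_eq, hc j]
    have e2 := (Ideal.toCotangent_eq J).mp e1
    simpa [Submodule.coe_sum] using e2
  obtain ⟨h, hhP, hh⟩ := exists_mul_mem_span J hfg (fun j => ((ys j : ↥J) : R)) hx g₀ hS P hJP hg₀
  have hgP : g₀ * h ∉ P := fun hmem => (‹P.IsPrime›.mem_or_mem hmem).elim hg₀ hhP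
  have hGen : GenA (g₀ * h) J (fun j => ((ys j : ↥J) : R)) := by
    refine ⟨fun i => ⟨0, by rw [pow_zero, one_mul]; exact hx i⟩, fun y hy => ⟨1, ?_⟩⟩
    rw [pow_one, mul_assoc]
    exact Ideal.mul_mem_left _ _ (hh y hy)
  have hL : ∀ c : R, algebraMap R (LOf J g₀) c = 0 → ∃ k : ℕ, g₀ ^ k * c ∈ J := by
    intro c h0
    rw [IsScalarTower.algebraMap_apply R (R ⧸ J) (LOf J g₀),
      IsLocalization.map_eq_zero_iff (SmOf J g₀)] at h0
    obtain ⟨t, ht⟩ := h0
    obtain ⟨k, hk⟩ := (Submonoid.mem_powers_iff _ _).mp t.2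
    rw [← hk, Ideal.Quotient.algebraMap_eq, ← map_pow, ← map_mul,
      Ideal.Quotient.eq_zero_iff_mem] at ht
    exact ⟨k, ht⟩
  have hQ : QRA (g₀ * h) J (fun j => ((ys j : ↥J) : R)) :=
    qra_of_data J hinj g₀ h hL ys ℓ hℓ
  have hspanT := (genA_iff (g₀ * h) (Localization.Away (g₀ * h)) J
    (fun j => ((ys j : ↥J) : R))).mpr hGen
  exact ⟨g₀ * h, hgP, m, fun j => algebraMap R (Localization.Away (g₀ * h)) ((ys j : ↥J) : R),
    (qr_iff_qra (g₀ * h) (Localization.Away (g₀ * h)) J _ hspanT).mpr hQ, hspanT⟩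

end Groth.Agent.Lib.Helper4.QR3
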