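import Mathlib
import Groth.Agent.Lib.Helper4.QR3
import Groth.Agent.Lib.Helper21.SymGrL
import Groth.Agent.Lib.Helper21.SymGrI

/-!
Helper4: EGA IV 16.9.3 — an ideal is locally quasi-regular iff it is finitely generated with
projective conormal module and `Sym(J/J²) ≅ gr_J(R)`; consequence for differential smoothness
(EGA IV 16.10.x: `B/A` of finite type is differentially smooth iff the diagonal is quasi-regular).
-/

set_option autoImplicit false
set_option linter.style.haveILetI false
set_option linter.unusedSectionVars false
set_option linter.unusedVariables false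
set_option maxHeartbeats 800000

namespace Groth.Agent.Lib.Helper4.QR4

open TensorProduct
open Groth.Agent.Lib.Helper4

universe u

theorem locQR_iff {R : Type u} [CommRing R] (J : Ideal R) :
    PP16.IsLocallyQuasiRegular R J ↔
      J.FG ∧ Module.Projective (R ⧸ J) J.Cotangent ∧ PP16.SymGrBijective R J := by
  rw [Groth.Agent.Lib.Helper21.SymGr.symGrBijective_iff]
  constructor
  · intro h
    exact ⟨Groth.Agent.Lib.Helper6.QRDescent.fg_of_locQR J h, QR2.projective_of_loc J h,
      fun ι _ _ => QR1.canon_injective_of_loc J h⟩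
  · rintro ⟨h1, h2, h3⟩
    exact QR3.loc_of_symGr J h1 h2 h3

theorem diffSmooth_iff (A B : Type u) [CommRing A] [CommRing B] [Algebra A B]
    [Algebra.FiniteType A B] :
    PP16.IsDiffSmooth A B ↔
      PP16.IsLocallyQuasiRegular (B ⊗[A] B) (KaehlerDifferential.ideal A B) := by
  haveI := Groth.Agent.Lib.Helper21.DiffSmooth.formallySmooth_quotient A B
  rw [Groth.Agent.Lib.Helper21.DiffSmooth.isDiffSmooth_iff A B,
    Groth.Agent.Lib.Helper21.SymSmooth.isAdicFormallySmooth_iff (A := B)
      (KaehlerDifferential.ideal A B),
    locQR_iff]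
  exact ⟨fun h => ⟨KaehlerDifferential.ideal_fg A B, h⟩, fun h => h.2⟩

end Groth.Agent.Lib.Helper4.QR4
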