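import Mathlib

/-!
# Ramification index of a prime of `Ω ⊗[k] R` over a local `k`-algebra `R`: reduction to the fibre ring

Sub-lemma (RB1) requested by helper22 for S6556.
-/

set_option autoImplicit false
set_option linter.unusedSectionVars false
set_option linter.unusedVariables false
set_option linter.style.haveILetI false

universe u

open TensorProduct IsLocalRing

namespace Groth.Agent.Lib.Helper4.RamTensor

theorem length_self_of_ringEquiv {A B : Type*} [CommRing A] [CommRing B] (e : A ≃+* B) :
    Module.length A A = Module.length B B := by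
  letI : Algebra A B := e.toRingHom.toAlgebra
  have h1 : Module.length B B = Module.length A B :=
    (Module.length_eq_of_surjective (R := B) (S := A) (M := B) e.surjective).symm
  let l : A ≃ₗ[A] B :=
    { e.toAddEquiv with
      map_smul' := fun a x => by
        show e (a * x) = e a * e x
        exact map_mul e a x }
  rw [h1, l.length_eq]

theorem length_quot_eq_length_fiber {R S : Type*} [CommRing R] [CommRing S] [Algebra R S]
    (p : Ideal R) [p.IsPrime] (r : Ideal (p.Fiber S)) [r.IsPrime] :
    Module.length (Localization.AtPrime (r.comap Algebra.TensorProduct.includeRight))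
      (Localization.AtPrime (r.comap Algebra.TensorProduct.includeRight) ⧸
        p.map (algebraMap R (Localization.AtPrime (r.comap Algebra.TensorProduct.includeRight)))) =
    Module.length (Localization.AtPrime r) (Localization.AtPrime r) := by
  letI := Localization.AtPrime.algebraOfLiesOver p (r.comap Algebra.TensorProduct.includeRight)
  let e := Ideal.Fiber.localizationAlgEquivQuotient p r
  have h2 := length_self_of_ringEquiv (A := Localization.AtPrime r)
    (B := Localization.AtPrime (r.comap Algebra.TensorProduct.includeRight) ⧸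
        p.map (algebraMap R (Localization.AtPrime (r.comap Algebra.TensorProduct.includeRight))))
    e.toRingEquiv
  rw [h2]
  exact (Module.length_eq_of_surjective (R := _ ⧸ _) Ideal.Quotient.mk_surjective)

section Fibre

attribute [local instance] Algebra.TensorProduct.rightAlgebra

variable (k Ω R : Type u) [Field k] [Field Ω] [Algebra k Ω] [CommRing R] [IsLocalRing R]
  [Algebra k R]

/-- `Ω ⊗[k] R` (an `R`-algebra on the right) is `R ⊗[k] Ω` (an `R`-algebra on the left). -/
noncomputable def commR : Ω ⊗[k] R ≃ₐ[R] R ⊗[k] Ω :=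
  AlgEquiv.ofRingEquiv (f := (Algebra.TensorProduct.comm k Ω R).toRingEquiv) (fun r => by
    show (Algebra.TensorProduct.comm k Ω R) ((1 : Ω) ⊗ₜ[k] r) = r ⊗ₜ[k] (1 : Ω)
    simp)

/-- the residue field of the maximal ideal, in its two guises. -/
noncomputable def resEquiv : (maximalIdeal R).ResidueField ≃ₐ[k] ResidueField R :=
  (AlgEquiv.ofBijective (IsScalarTower.toAlgHom k (R ⧸ maximalIdeal R) (maximalIdeal R).ResidueField)
    (maximalIdeal R).bijective_algebraMap_quotient_residueField).symm

/-- the fibre ring of `Ω ⊗[k] R` over the closed point of `R` is `Ω ⊗[k] κ`. -/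
noncomputable def fiberEquiv :
    (maximalIdeal R).Fiber (Ω ⊗[k] R) ≃+* Ω ⊗[k] ResidueField R :=
  let e1 : (maximalIdeal R).ResidueField ⊗[R] (Ω ⊗[k] R) ≃ₐ[R]
      (maximalIdeal R).ResidueField ⊗[R] (R ⊗[k] Ω) :=
    Algebra.TensorProduct.congr AlgEquiv.refl (commR k Ω R)
  let e2 : (maximalIdeal R).ResidueField ⊗[R] (R ⊗[k] Ω) ≃ₐ[R]
      (maximalIdeal R).ResidueField ⊗[k] Ω :=
    Algebra.TensorProduct.cancelBaseChange k R R (maximalIdeal R).ResidueField Ω
  let e3 : (maximalIdeal R).ResidueField ⊗[k] Ω ≃ₐ[k] Ω ⊗[k] (maximalIdeal R).ResidueField :=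
    Algebra.TensorProduct.comm k _ _
  let e4 : Ω ⊗[k] (maximalIdeal R).ResidueField ≃ₐ[k] Ω ⊗[k] ResidueField R :=
    Algebra.TensorProduct.congr AlgEquiv.refl (resEquiv k R)
  e1.toRingEquiv.trans (e2.toRingEquiv.trans (e3.toRingEquiv.trans e4.toRingEquiv))

theorem ramificationIdx_tensor_of (n : ℕ)
    (hRF : ∀ (Q : Ideal (Ω ⊗[k] ResidueField R)) [Q.IsPrime],
      Module.length (Localization.AtPrime Q) (Localization.AtPrime Q) = (n : ℕ∞))
    (q : Ideal (Ω ⊗[k] R)) [q.IsPrime] (hq : q.under R = maximalIdeal R) :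
    Ideal.ramificationIdx q R = n := by
  haveI : q.LiesOver (maximalIdeal R) := ⟨hq.symm⟩
  let r : PrimeSpectrum ((maximalIdeal R).Fiber (Ω ⊗[k] R)) :=
    PrimeSpectrum.primesOverOrderIsoFiber R (Ω ⊗[k] R) (maximalIdeal R) ⟨q, ‹_›, ‹_›⟩
  have hqr : q = r.1.comap Algebra.TensorProduct.includeRight := by
    rw [← PrimeSpectrum.coe_primesOverOrderIsoFiber_symm_apply, OrderIso.symm_apply_apply]
  have key : ∀ (q₁ : Ideal (Ω ⊗[k] R)) [q₁.IsPrime], q₁ = q →
      Module.length (Localization.AtPrime q₁) (Localization.AtPrime q₁ ⧸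
        (maximalIdeal R).map (algebraMap R (Localization.AtPrime q₁))) =
      Module.length (Localization.AtPrime q) (Localization.AtPrime q ⧸
        (maximalIdeal R).map (algebraMap R (Localization.AtPrime q))) := by
    rintro q₁ _ rfl
    rfl
  rw [Ideal.ramificationIdx_eq (maximalIdeal R) q]
  rw [← key _ hqr.symm, length_quot_eq_length_fiber (maximalIdeal R) r.1]
  let E := fiberEquiv k Ω R
  let Q : Ideal (Ω ⊗[k] ResidueField R) := r.1.comap E.symm
  haveI : Q.IsPrime := Ideal.comap_isPrime _ _
  have hrQ : r.1 = Q.comap E := by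
    ext x
    simp [Q, Ideal.mem_comap]
  have h3 := length_self_of_ringEquiv (A := Localization.AtPrime r.1)
    (B := Localization.AtPrime Q) (Localization.localRingEquiv r.1 Q E hrQ)
  rw [h3, hRF Q]
  simp

end Fibre

end Groth.Agent.Lib.Helper4.RamTensor
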