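import Mathlib
import Groth.Prelude

/-!
# Quasi-compactness descends along a surjective quasi-compact base change

Sub-lemma (Q1, with the necessary hypothesis `[QuasiCompact g]`) requested by helper7 for S1152.
-/

set_option autoImplicit false
set_option linter.unusedSectionVars false
set_option linter.unusedVariables false

universe u

open CategoryTheory CategoryTheory.Limits AlgebraicGeometry

namespace Groth.Agent.Lib.Helper4.RelFpqc

theorem quasiCompact_of_surjective_baseChange {X S S' : Scheme.{u}} (f : X ⟶ S) (g : S' ⟶ S)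
    [Surjective g] [QuasiCompact g] (h : QuasiCompact (pullback.snd f g)) : QuasiCompact f := by
  rw [quasiCompact_iff_forall_isAffineOpen]
  intro U hU
  have h1 : IsCompact ((g ⁻¹ᵁ U : S'.Opens) : Set S') :=
    QuasiCompact.isCompact_preimage (f := g) U.1 U.2 hU.isCompact
  have h2 : IsCompact (((pullback.snd f g) ⁻¹ᵁ (g ⁻¹ᵁ U) : (pullback f g).Opens) :
      Set ↥(pullback f g)) :=
    QuasiCompact.isCompact_preimage (f := pullback.snd f g) (g ⁻¹ᵁ U).1 (g ⁻¹ᵁ U).2 h1
  have h3 : ((f ⁻¹ᵁ U : X.Opens) : Set X) =
      (pullback.fst f g).base '' (((pullback.snd f g) ⁻¹ᵁ (g ⁻¹ᵁ U) : (pullback f g).Opens) :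
        Set ↥(pullback f g)) := by
    ext x
    constructor
    · intro hx
      obtain ⟨s', hs'⟩ := (inferInstance : Surjective g).surj (f.base x)
      obtain ⟨z, hz1, hz2⟩ := Scheme.Pullback.exists_preimage_pullback x s' hs'.symm
      refine ⟨z, ?_, hz1⟩
      show g.base ((pullback.snd f g).base z) ∈ U
      rw [hz2, hs']
      exact hx
    · rintro ⟨z, hz, rfl⟩
      show f.base ((pullback.fst f g).base z) ∈ U
      have hc : f.base ((pullback.fst f g).base z) = g.base ((pullback.snd f g).base z) := by
        rw [← Scheme.Hom.comp_apply, ← Scheme.Hom.comp_apply, pullback.condition]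
      rw [hc]
      exact hz
  rw [h3]
  exact h2.image (pullback.fst f g).continuous

end Groth.Agent.Lib.Helper4.RelFpqc
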