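import Mathlib
import Groth.Prelude

/-!
# Q2 for S1152: `Sigma.desc` of a finite jointly surjective flat family

Sub-lemma (Q2) requested by helper7 for S1152.
-/

set_option autoImplicit false
set_option linter.unusedSectionVars false
set_option linter.unusedVariables false

universe u

open CategoryTheory CategoryTheory.Limits AlgebraicGeometry

namespace Groth.Agent.Lib.Helper4.RelFpqc

/-- every point of a coproduct of schemes lies in a summand. -/
theorem exists_sigmaι_eq' {ι : Type u} (U : ι → Scheme.{u}) (z : ↥(∐ U)) :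
    ∃ (i : ι) (u : U i), Sigma.ι U i u = z := by
  obtain ⟨⟨i, u⟩, hu⟩ := (sigmaMk U).surjective z
  exact ⟨i, u, (sigmaMk_mk U i u).symm.trans hu⟩

/-- (Q2) the induced morphism out of the coproduct of a jointly surjective flat family is flat
and surjective, and the summands cover the coproduct. -/
theorem sigmaDesc_facts {Y : Scheme.{u}} {ι : Type u} [Finite ι] (T : ι → Scheme.{u})
    (t : ∀ i, T i ⟶ Y) [∀ i, Flat (t i)]
    (hsurj : ∀ y : Y, ∃ i, ∃ z : T i, (t i).base z = y) :
    Flat (Sigma.desc t) ∧ Surjective (Sigma.desc t) ∧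
      (⨆ i, (Sigma.ι T i).opensRange = (⊤ : (∐ T).Opens)) := by
  refine ⟨?_, ?_, ?_⟩
  · rw [IsZariskiLocalAtSource.iff_of_openCover (P := @Flat) (sigmaOpenCover T)]
    intro i
    change Flat (Sigma.ι T i ≫ Sigma.desc t)
    rw [Sigma.ι_desc]
    infer_instance
  · refine ⟨fun y => ?_⟩
    obtain ⟨i, z, rfl⟩ := hsurj y
    refine ⟨Sigma.ι T i z, ?_⟩
    rw [← Scheme.Hom.comp_apply, Sigma.ι_desc]
  · rw [eq_top_iff]
    intro z _
    obtain ⟨i, u, rfl⟩ := exists_sigmaι_eq' T z
    exact TopologicalSpace.Opens.mem_iSup.mpr ⟨i, ⟨u, rfl⟩⟩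

end Groth.Agent.Lib.Helper4.RelFpqc
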