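import Mathlib
import Groth.Prelude

/-!
# A compact open of a scheme is a finite union of affine opens (indexed by a `Type u`)

Sub-lemma (Q4) requested by helper7 for S1152.
-/

set_option autoImplicit false
set_option linter.unusedSectionVars false
set_option linter.unusedVariables false

universe u

open CategoryTheory CategoryTheory.Limits AlgebraicGeometry

namespace Groth.Agent.Lib.Helper4.RelFpqc

theorem exists_finite_affine_cover {S' : Scheme.{u}} (W : S'.Opens) (hW : IsCompact (W : Set S')) :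
    ∃ (ι : Type u) (_ : Finite ι) (V' : ι → S'.Opens), (∀ j, IsAffineOpen (V' j)) ∧
      (∀ j, V' j ≤ W) ∧ ∀ x ∈ W, ∃ j, x ∈ V' j := by
  obtain ⟨s, hs, hWs⟩ := isCompact_iff_finite_and_eq_biUnion_affineOpens.mp hW
  refine ⟨s, hs.to_subtype, fun j => (j.1 : S'.Opens), fun j => j.1.2, ?_, ?_⟩
  · intro j
    rw [hWs]
    exact le_iSup₂ (f := fun (i : S'.affineOpens) (_ : i ∈ s) => (i : S'.Opens)) j.1 j.2
  · intro x hx
    rw [hWs] at hx
    simp only [TopologicalSpace.Opens.mem_iSup] at hx
    obtain ⟨i, hi, hxi⟩ := hx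
    exact ⟨⟨i, hi⟩, hxi⟩

end Groth.Agent.Lib.Helper4.RelFpqc
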