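import Mathlib

/-!
# (N) Nakayama over all maximal ideals (helper23, S19496)
-/

set_option autoImplicit false
universe u

namespace Groth.Agent.Lib.Helper4.RelNefN

/-- (N) Nakayama over all maximal ideals. -/
theorem N_subsingleton {A M : Type u} [CommRing A] [AddCommGroup M] [Module A M]
    [Module.Finite A M]
    (h : ∀ m : Ideal A, m.IsMaximal → (⊤ : Submodule A M) ≤ m • (⊤ : Submodule A M)) :
    Subsingleton M := by
  by_contra hM
  rw [not_subsingleton_iff_nontrivial] at hM
  -- the annihilator is a proper ideal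
  have hann : (Module.annihilator A M) ≠ ⊤ := by
    intro htop
    have h1 : (1 : A) ∈ Module.annihilator A M := by rw [htop]; trivial
    obtain ⟨x, hx⟩ := exists_ne (0 : M)
    apply hx
    have := (Module.mem_annihilator.mp h1) x
    rwa [one_smul] at this
  obtain ⟨m, hm, hle⟩ := Ideal.exists_le_maximal _ hann
  obtain ⟨r, hr1, hr2⟩ := Submodule.exists_sub_one_mem_and_smul_eq_zero_of_fg_of_le_smul m
    (⊤ : Submodule A M) Module.Finite.fg_top (h m hm)
  have hrm : r ∈ m := hle (Module.mem_annihilator.mpr fun x => hr2 x trivial)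
  have h1m : (1 : A) ∈ m := by
    have : r - (r - 1) ∈ m := m.sub_mem hrm hr1
    rwa [sub_sub_cancel] at this
  exact hm.ne_top ((Ideal.eq_top_iff_one m).mpr h1m)

end Groth.Agent.Lib.Helper4.RelNefN
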