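import Mathlib
import Groth.Agent.Lib.Helper4.LD6
import Groth.Agent.Lib.Helper4.LC4
import Groth.Agent.Lib.Helper20.LCDeltaHH

/-!
# Top local cohomology of arbitrary modules: `H^d_I(M) ≅ M ⊗ H^d_I(R)` (helper4)

* `exists_fg_of_HH`: every class of `H^i_I(M)` comes from a finitely generated submodule.
* `exists_fg_ge_map_eq_zero`: a class of `H^i_I(M')` (`M' ⊆ M` f.g.) dying in `H^i_I(M)` already
  dies in `H^i_I(M'')` for a f.g. `M' ⊆ M'' ⊆ M`.
* `theta_hhFun_bijective`: the Eilenberg–Watts map `M ⊗ H^d_I(R) → H^d_I(M)` is bijective for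
  every module `M` (`d = dim R`).
-/

set_option autoImplicit false
set_option linter.style.haveILetI false
set_option linter.unusedSectionVars false
set_option linter.unusedVariables false
set_option maxHeartbeats 800000

open CategoryTheory Limits Opposite Abelian TensorProduct

universe u

namespace Groth.Agent.Lib.Helper4.WattsTop

open Groth.Agent.Lib.Helper4 Groth.Agent.Lib.Helper4.LC Groth.Agent.Lib.Helper4.EW

variable {R : Type u} [CommRing R] [IsNoetherianRing R] (I : Ideal R)

/-- every class of `HH I M i` comes from a finitely generated submodule. -/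
lemma exists_fg_of_HH (M : ModuleCat.{u} R) (i : ℕ) (ξ : HH I M i) :
    ∃ (M' : Submodule R M) (_ : M'.FG) (ξ' : HH I (ModuleCat.of R M') i),
      HH.map I (ModuleCat.ofHom M'.subtype : ModuleCat.of R M' ⟶ M) i ξ' = ξ := by
  obtain ⟨n, y, rfl⟩ := HH.exists_of I M i ξ
  obtain ⟨M', hM', y', hy'⟩ := ext_exists_fg_submodule i (R ⧸ I ^ n) M y
  exact ⟨M', hM', HH.of I (ModuleCat.of R M') i n y', by rw [HH.map_of, hy']⟩

/-- a class dying in `H^i_I(M)` dies at a finite stage. -/
lemma exists_fg_ge_map_eq_zero (M : Type u) [AddCommGroup M] [Module R M] (M' : Submodule R M)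
    (hM' : M'.FG) (i : ℕ) (ξ : HH I (ModuleCat.of R M') i)
    (hξ : HH.map I (ModuleCat.ofHom M'.subtype : ModuleCat.of R M' ⟶ ModuleCat.of R M) i ξ = 0) :
    ∃ (M'' : Submodule R M) (_ : M''.FG) (h : M' ≤ M''),
      HH.map I (ModuleCat.ofHom (Submodule.inclusion h) :
        ModuleCat.of R M' ⟶ ModuleCat.of R M'') i ξ = 0 := by
  have hS := sesOf_shortExact M'.subtype M'.mkQ (LinearMap.exact_subtype_mkQ M')
    (Submodule.injective_subtype M') (Submodule.mkQ_surjective M')
  cases i with
  | zero =>
    refine ⟨M', hM', le_rfl, ?_⟩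
    have h0 : ξ = 0 := by
      apply HH.map_f_injective_zero I hS
      rw [map_zero]
      exact hξ
    rw [h0, map_zero]
  | succ j =>
    obtain ⟨w, hw⟩ := HH.exact₁ I hS j ξ hξ
    obtain ⟨C', hC', w', hw'⟩ := exists_fg_of_HH I (ModuleCat.of R (M ⧸ M')) j w
    let M'' : Submodule R M := C'.comap M'.mkQ
    have hle : M' ≤ M'' := by
      intro x hx
      change M'.mkQ x ∈ C'
      rw [Submodule.mkQ_apply, (Submodule.Quotient.mk_eq_zero M').2 hx]
      exact C'.zero_mem
    have hfg : M''.FG := by
      apply Submodule.fg_of_fg_map_of_fg_inf_ker M'.mkQ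
      · rw [Submodule.map_comap_eq_of_surjective (Submodule.mkQ_surjective M')]
        exact hC'
      · rw [Submodule.ker_mkQ, inf_eq_right.2 hle]
        exact hM'
    let f'' : M' →ₗ[R] M'' := Submodule.inclusion hle
    let g'' : M'' →ₗ[R] C' := (M'.mkQ ∘ₗ M''.subtype).codRestrict C' (fun x => x.2)
    have hex : Function.Exact f'' g'' := by
      intro x
      constructor
      · intro hx
        have hx' : M'.mkQ (x : M) = 0 := congrArg Subtype.val hx
        rw [Submodule.mkQ_apply, Submodule.Quotient.mk_eq_zero] at hx'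
        exact ⟨⟨x, hx'⟩, Subtype.ext rfl⟩
      · rintro ⟨y, rfl⟩
        apply Subtype.ext
        change M'.mkQ (y : M) = 0
        rw [Submodule.mkQ_apply, Submodule.Quotient.mk_eq_zero]
        exact y.2
    have hf'' : Function.Injective f'' := Submodule.inclusion_injective hle
    have hg'' : Function.Surjective g'' := by
      rintro ⟨c, hc⟩
      obtain ⟨m, rfl⟩ := Submodule.mkQ_surjective M' c
      exact ⟨⟨m, hc⟩, Subtype.ext rfl⟩
    have hS'' := sesOf_shortExact f'' g'' hex hf'' hg''
    let φ : sesOf f'' g'' hex ⟶ sesOf M'.subtype M'.mkQ (LinearMap.exact_subtype_mkQ M') :=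
      { τ₁ := 𝟙 _
        τ₂ := ModuleCat.ofHom M''.subtype
        τ₃ := ModuleCat.ofHom C'.subtype
        comm₁₂ := by
          apply ModuleCat.hom_ext
          apply LinearMap.ext
          intro x
          rfl
        comm₂₃ := by
          apply ModuleCat.hom_ext
          apply LinearMap.ext
          intro x
          rfl }
    have hnat := Groth.Agent.Lib.Helper20.LCDeltaHH.δ_naturality I hS'' hS φ j w'
    refine ⟨M'', hfg, hle, ?_⟩
    have h1 : ξ = HH.δ I hS'' j w' := by
      rw [← hw, ← hw']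
      exact hnat.trans (HH.map_id I (j + 1) _)
    rw [h1]
    exact HH.map_f_δ I hS'' j w'

/-- **Eilenberg–Watts for the top local cohomology of arbitrary modules.** -/
theorem theta_hhFun_bijective (d : ℕ) (hd : ringKrullDim R = d) (M : Type u) [AddCommGroup M]
    [Module R M] :
    Function.Bijective (theta (hhFun I d hd) (ModuleCat.of R M)) := by
  constructor
  · rw [injective_iff_map_eq_zero]
    intro z hz
    obtain ⟨M', hM'fin, hzM'⟩ :=
      TensorProduct.exists_finite_submodule_left_of_setFinite ({z} : Set _)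
        (Set.finite_singleton z)
    obtain ⟨z', hz'⟩ := hzM' (Set.mem_singleton z)
    have hM' : M'.FG := Module.Finite.iff_fg.1 hM'fin
    have hnat := theta_naturality (hhFun I d hd)
      (ModuleCat.ofHom M'.subtype : ModuleCat.of R M' ⟶ ModuleCat.of R M) z'
    have hξ' : HH.map I (ModuleCat.ofHom M'.subtype : ModuleCat.of R M' ⟶ ModuleCat.of R M) d
        (theta (hhFun I d hd) (ModuleCat.of R M') z') = 0 := by
      refine hnat.trans ?_
      have h5 : (ModuleCat.ofHom M'.subtype : ModuleCat.of R M' ⟶ ModuleCat.of R M).hom.rTensor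
          ((hhFun I d hd).obj (ModuleCat.of R R)) z' = z := hz'
      rw [h5]
      exact hz
    obtain ⟨M'', hM'', hle, h0⟩ := exists_fg_ge_map_eq_zero I M M' hM' d _ hξ'
    haveI : Module.Finite R M'' := Module.Finite.iff_fg.2 hM''
    have hnat2 := theta_naturality (hhFun I d hd)
      (ModuleCat.ofHom (Submodule.inclusion hle) : ModuleCat.of R M' ⟶ ModuleCat.of R M'') z'
    have h1 : theta (hhFun I d hd) (ModuleCat.of R M'')
        ((Submodule.inclusion hle).rTensor ((hhFun I d hd).obj (ModuleCat.of R R)) z') = 0 :=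
      hnat2.symm.trans h0
    have h2 : (Submodule.inclusion hle).rTensor ((hhFun I d hd).obj (ModuleCat.of R R)) z' = 0 :=
      (injective_iff_map_eq_zero _).1 (theta_injective (hhFun I d hd) M'') _ h1
    rw [← hz']
    have h3 : M'.subtype = M''.subtype ∘ₗ Submodule.inclusion hle := by
      apply LinearMap.ext
      intro x
      rfl
    rw [h3, LinearMap.rTensor_comp, LinearMap.comp_apply, h2, map_zero]
  · intro ξ
    obtain ⟨M', hM', ξ', hξ'⟩ := exists_fg_of_HH I (ModuleCat.of R M) d ξ
    haveI : Module.Finite R M' := Module.Finite.iff_fg.2 hM'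
    obtain ⟨z', hz'⟩ := theta_surjective (hhFun I d hd) M' ξ'
    refine ⟨M'.subtype.rTensor _ z', ?_⟩
    have hnat := theta_naturality (hhFun I d hd)
      (ModuleCat.ofHom M'.subtype : ModuleCat.of R M' ⟶ ModuleCat.of R M) z'
    rw [hz'] at hnat
    exact hnat.symm.trans hξ'

/-- `H^d_I(M) ≅ H^d_I(R) ⊗ M` for every module `M`, `d = dim R`. -/
theorem nonempty_H_top_equiv_tensor (d : ℕ) (hd : ringKrullDim R = d) (M : Type u)
    [AddCommGroup M] [Module R M] :
    Nonempty (LocCoh.H I d M ≃ₗ[R] TensorProduct R (LocCoh.H I d R) M) := by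
  let e1 := lcEquiv I (ModuleCat.of R M) d
  let e2 := LinearEquiv.ofBijective (theta (hhFun I d hd) (ModuleCat.of R M))
    (theta_hhFun_bijective I d hd M)
  let e3 := TensorProduct.comm R M (HH I (ModuleCat.of R R) d)
  let e4 := TensorProduct.congr (lcEquiv I (ModuleCat.of R R) d).symm (LinearEquiv.refl R M)
  exact ⟨e1.trans (e2.symm.trans (e3.trans e4))⟩

end Groth.Agent.Lib.Helper4.WattsTop
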