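import Mathlib
import Groth.Agent.Lib.Helper4.WattsTop
import Groth.Agent.Lib.Helper4.HLVT2
import Groth.Agent.Lib.Helper4.LCModel

/-!
# Representability of `E ↦ Hom_R(H^d_J(E), F)` (helper4)

If `H^{d+1}_J` vanishes identically then `H^d_J` is right exact and commutes with filtered unions,
hence `H^d_J(E) ≅ H^d_J(S) ⊗ E` naturally in `E` (`natIso`).  By the tensor–hom and
restriction–coextension adjunctions the functor `E ↦ Hom_R(H^d_J(E), F)` is representable
(`isRepresentable`).
-/

set_option autoImplicit false
set_option linter.style.haveILetI false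
set_option linter.unusedSectionVars false
set_option linter.unusedVariables false
set_option maxHeartbeats 800000

open CategoryTheory Limits Opposite Abelian TensorProduct MonoidalCategory

universe u

namespace Groth.Agent.Lib.Helper4.ReprLC

open Groth.Agent.Lib.Helper4 Groth.Agent.Lib.Helper4.LC Groth.Agent.Lib.Helper4.EW
open Groth.Agent.Lib.Helper4.WattsTop

variable {R : Type u} [CommRing R] [IsNoetherianRing R] (I : Ideal R)

/-- local cohomology in a degree above which it vanishes identically, as a right exact functor. -/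
noncomputable def hhFun' (n : ℕ) (hv : ∀ M : ModuleCat.{u} R, Subsingleton (HH I M (n + 1))) :
    RFun R where
  obj M := HH I M n
  map f := HH.map I f n
  map_id M x := HH.map_id I n x
  map_comp f g x := HH.map_comp I f g n x
  map_add f g x := HH.map_add I f g n x
  map_smul r f x := HH.map_smul' I r f n x
  surj hS := HH.map_g_surjective I hS n (hv _)
  exact hS x hx := HH.exact₂ I hS n x hx

/-- **Eilenberg–Watts** for `H^d_I` when `H^{d+1}_I` vanishes identically. -/
theorem theta_hhFun'_bijective (d : ℕ) (hv : ∀ M : ModuleCat.{u} R, Subsingleton (HH I M (d + 1)))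
    (M : Type u) [AddCommGroup M] [Module R M] :
    Function.Bijective (theta (hhFun' I d hv) (ModuleCat.of R M)) := by
  constructor
  · rw [injective_iff_map_eq_zero]
    intro z hz
    obtain ⟨M', hM'fin, hzM'⟩ :=
      TensorProduct.exists_finite_submodule_left_of_setFinite ({z} : Set _)
        (Set.finite_singleton z)
    obtain ⟨z', hz'⟩ := hzM' (Set.mem_singleton z)
    have hM' : M'.FG := Module.Finite.iff_fg.1 hM'fin
    have hnat := theta_naturality (hhFun' I d hv)
      (ModuleCat.ofHom M'.subtype : ModuleCat.of R M' ⟶ ModuleCat.of R M) z'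
    have hξ' : HH.map I (ModuleCat.ofHom M'.subtype : ModuleCat.of R M' ⟶ ModuleCat.of R M) d
        (theta (hhFun' I d hv) (ModuleCat.of R M') z') = 0 := by
      refine hnat.trans ?_
      have h5 : (ModuleCat.ofHom M'.subtype : ModuleCat.of R M' ⟶ ModuleCat.of R M).hom.rTensor
          ((hhFun' I d hv).obj (ModuleCat.of R R)) z' = z := hz'
      rw [h5]
      exact hz
    obtain ⟨M'', hM'', hle, h0⟩ := exists_fg_ge_map_eq_zero I M M' hM' d _ hξ'
    haveI : Module.Finite R M'' := Module.Finite.iff_fg.2 hM''
    have hnat2 := theta_naturality (hhFun' I d hv)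
      (ModuleCat.ofHom (Submodule.inclusion hle) : ModuleCat.of R M' ⟶ ModuleCat.of R M'') z'
    have h1 : theta (hhFun' I d hv) (ModuleCat.of R M'')
        ((Submodule.inclusion hle).rTensor ((hhFun' I d hv).obj (ModuleCat.of R R)) z') = 0 :=
      hnat2.symm.trans h0
    have h2 : (Submodule.inclusion hle).rTensor ((hhFun' I d hv).obj (ModuleCat.of R R)) z' = 0 :=
      (injective_iff_map_eq_zero _).1 (theta_injective (hhFun' I d hv) M'') _ h1
    rw [← hz']
    have h3 : M'.subtype = M''.subtype ∘ₗ Submodule.inclusion hle := by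
      apply LinearMap.ext
      intro x
      rfl
    rw [h3, LinearMap.rTensor_comp, LinearMap.comp_apply, h2, map_zero]
  · intro ξ
    obtain ⟨M', hM', ξ', hξ'⟩ := exists_fg_of_HH I (ModuleCat.of R M) d ξ
    haveI : Module.Finite R M' := Module.Finite.iff_fg.2 hM'
    obtain ⟨z', hz'⟩ := theta_surjective (hhFun' I d hv) M' ξ'
    refine ⟨M'.subtype.rTensor _ z', ?_⟩
    have hnat := theta_naturality (hhFun' I d hv)
      (ModuleCat.ofHom M'.subtype : ModuleCat.of R M' ⟶ ModuleCat.of R M) z'
    rw [hz'] at hnat
    exact hnat.symm.trans hξ'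

variable (d : ℕ) (hv : ∀ M : ModuleCat.{u} R, Subsingleton (HH I M (d + 1)))

/-- `H^d_I(R)`. -/
noncomputable abbrev TT : ModuleCat.{u} R := (localCohomology I d).obj (ModuleCat.of R R)

/-- `H^d_I(R) ⊗ E ≃ H^d_I(E)`. -/
noncomputable def eqv (E : ModuleCat.{u} R) :
    (TT I d ⊗[R] E) ≃ₗ[R] (localCohomology I d).obj E :=
  (TensorProduct.comm R (TT I d) E).trans
    ((TensorProduct.congr (LinearEquiv.refl R E) (lcEquiv I (ModuleCat.of R R) d)).trans
      ((LinearEquiv.ofBijective (theta (hhFun' I d hv) (ModuleCat.of R E))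
        (theta_hhFun'_bijective I d hv E)).trans (lcEquiv I E d).symm))

lemma eqv_tmul (E : ModuleCat.{u} R) (t : TT I d) (e : E) :
    eqv I d hv E (t ⊗ₜ e) = ((localCohomology I d).map (hat e)).hom t := by
  have h1 : eqv I d hv E (t ⊗ₜ e) = (lcEquiv I E d).symm
      (HH.map I (hat e) d (lcEquiv I (ModuleCat.of R R) d t)) := rfl
  rw [h1, ← lcEquiv_map, LinearEquiv.symm_apply_apply]

lemma eqv_natural {E E' : ModuleCat.{u} R} (f : E ⟶ E') (z : TT I d ⊗[R] E) :
    eqv I d hv E' (f.hom.lTensor (TT I d) z) =
      ((localCohomology I d).map f).hom (eqv I d hv E z) := by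
  induction z using TensorProduct.induction_on with
  | zero => rw [map_zero, map_zero, map_zero, map_zero]
  | tmul t e =>
    rw [LinearMap.lTensor_tmul, eqv_tmul, eqv_tmul, ← hat_comp, CategoryTheory.Functor.map_comp]
    rfl
  | add a b ha hb => rw [map_add, map_add, map_add, map_add, ha, hb]

/-- `H^d_I(R) ⊗ - ≅ H^d_I` as functors. -/
noncomputable def natIso : tensorLeft (TT I d) ≅ localCohomology I d :=
  NatIso.ofComponents (fun E => (eqv I d hv E).toModuleIso) (by
    intro E E' f
    apply ModuleCat.hom_ext
    apply LinearMap.ext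
    intro z
    exact eqv_natural I d hv f z)

include hv in
/-- the functor `E ↦ Hom_A(H^d_I(E), F)` is representable. -/
theorem isRepresentable {A : Type u} [CommRing A] [Algebra A R]
    (F : ModuleCat.{u} A) :
    ((localCohomology I d ⋙ ModuleCat.restrictScalars (algebraMap A R)).op ⋙
      yoneda.obj F).IsRepresentable := by
  let adj := (ihom.adjunction (TT I d)).comp
    (ModuleCat.restrictCoextendScalarsAdj.{u, u, u} (algebraMap A R))
  have r1 := adj.representableBy F
  let α : tensorLeft (TT I d) ≅ localCohomology I d := natIso I d hv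
  let β : (tensorLeft (TT I d) ⋙ ModuleCat.restrictScalars (algebraMap A R)).op ⋙ yoneda.obj F ≅
      (localCohomology I d ⋙ ModuleCat.restrictScalars (algebraMap A R)).op ⋙ yoneda.obj F :=
    Functor.isoWhiskerRight
      (NatIso.op (Functor.isoWhiskerRight α (ModuleCat.restrictScalars (algebraMap A R)))).symm
      (yoneda.obj F)
  exact (r1.ofIso β).isRepresentable

end Groth.Agent.Lib.Helper4.ReprLC
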