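import Mathlib

/-!
# Semistable node (S14386): general lemmas

Extension of derivations to localizations, the consequence of étaleness on the generic fibre, a
divisibility lemma for two prime elements and a polynomial ODE lemma in characteristic zero.
-/

set_option autoImplicit false
set_option linter.style.haveILetI false
set_option linter.unusedSectionVars false
set_option linter.unusedVariables false
set_option linter.unusedSimpArgs false
set_option maxHeartbeats 1600000
set_option maxSynthPendingDepth 3

namespace Groth.Agent.Lib.Helper4.SSNode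

open Polynomial

universe u

/-- A derivation extends to a localization. -/
theorem exists_derivation_localization {R A S : Type*} [CommRing R] [CommRing A] [CommRing S]
    [Algebra R A] [Algebra A S] [Algebra R S] [IsScalarTower R A S] (M : Submonoid A)
    [IsLocalization M S] (D : Derivation R A A) :
    ∃ D' : Derivation R S S, ∀ a, D' (algebraMap A S a) = algebraMap A S (D a) := by
  haveI h1 : IsLocalizedModule M (KaehlerDifferential.map R R A S) :=
    KaehlerDifferential.isLocalizedModule_map R A S M
  haveI h2 : IsLocalizedModule M (Algebra.linearMap A S) :=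
    isLocalizedModule_iff_isLocalization.mpr inferInstance
  let g : Ω[A⁄R] →ₗ[A] S := (Algebra.linearMap A S).comp D.liftKaehlerDifferential
  let l : Ω[S⁄R] →ₗ[A] S := IsLocalizedModule.lift M (KaehlerDifferential.map R R A S) g
    (IsLocalizedModule.map_units (Algebra.linearMap A S))
  let l' : Ω[S⁄R] →ₗ[S] S := LinearMap.extendScalarsOfIsLocalization M S l
  refine ⟨l'.compDer (KaehlerDifferential.D R S), fun a => ?_⟩
  show l (KaehlerDifferential.D R S (algebraMap A S a)) = _
  rw [← KaehlerDifferential.map_D R R A S]
  show IsLocalizedModule.lift M (KaehlerDifferential.map R R A S) g _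
    (KaehlerDifferential.map R R A S (KaehlerDifferential.D R A a)) = _
  rw [IsLocalizedModule.lift_apply]
  simp [g]

/-- Two prime elements: a non-unit dividing a power of their product is divisible by one. -/
theorem mem_span_or_of_mul_eq_pow {B : Type*} [CommRing B] (x y : B)
    (hx : (Ideal.span {x}).IsPrime) (hy : (Ideal.span {y}).IsPrime)
    (hnzd : ∀ a : B, x * y * a = 0 → a = 0) (hyx : x ∉ Ideal.span {y}) (u : B)
    (hu : ¬ IsUnit u) :
    ∀ (N : ℕ) (w : B), u * w = (x * y) ^ N → u ∈ Ideal.span {x} ∨ u ∈ Ideal.span {y} := by
  intro N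
  induction N with
  | zero =>
    intro w hw
    rw [pow_zero] at hw
    exact absurd (IsUnit.of_mul_eq_one w hw) hu
  | succ N ih =>
    intro w hw
    have h1 : u * w ∈ Ideal.span {x} := by
      rw [hw, pow_succ]
      exact Ideal.mul_mem_left _ _ (Ideal.mul_mem_right _ _ (Ideal.subset_span rfl))
    have h2 : u * w ∈ Ideal.span {y} := by
      rw [hw, pow_succ]
      exact Ideal.mul_mem_left _ _ (Ideal.mul_mem_left _ _ (Ideal.subset_span rfl))
    rcases hx.mem_or_mem h1 with h | h
    · exact Or.inl h
    rcases hy.mem_or_mem h2 with h' | h'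
    · exact Or.inr h'
    obtain ⟨w1, rfl⟩ := Ideal.mem_span_singleton'.mp h
    rcases hy.mem_or_mem h' with h'' | h''
    · obtain ⟨w2, rfl⟩ := Ideal.mem_span_singleton'.mp h''
      apply ih w2
      have : x * y * (u * w2 - (x * y) ^ N) = 0 := by
        have e : x * y * (u * w2 - (x * y) ^ N) = u * (w2 * y * x) - (x * y) ^ (N + 1) := by
          rw [pow_succ]
          ring
        rw [e, hw, sub_self]
      exact sub_eq_zero.mp (hnzd _ this)
    · exact absurd h'' hyx

/-- The ODE `g p' = n p g'` in characteristic zero. -/
theorem poly_ode {κ : Type*} [Field κ] [CharZero κ] (g : κ[X]) (hg : g ≠ 0) (n : ℕ) :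
    ∀ p : κ[X], g * derivative p = (n : κ[X]) * p * derivative g → ∃ c : κ, p = C c * g ^ n := by
  by_cases hg' : derivative g = 0
  · -- g constant
    intro p hp
    have hgd : g.natDegree = 0 := natDegree_eq_zero_of_derivative_eq_zero hg'
    obtain ⟨g0, rfl⟩ : ∃ g0 : κ, g = C g0 := ⟨g.coeff 0, eq_C_of_natDegree_eq_zero hgd⟩
    have hg0 : g0 ≠ 0 := by
      rintro rfl
      exact hg (by simp)
    rw [hg', mul_zero] at hp
    have hp' : derivative p = 0 := by
      rcases mul_eq_zero.mp hp with h | h
      · exact absurd h hg
      · exact h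
    have hpd : p.natDegree = 0 := natDegree_eq_zero_of_derivative_eq_zero hp'
    obtain ⟨p0, rfl⟩ : ∃ p0 : κ, p = C p0 := ⟨p.coeff 0, eq_C_of_natDegree_eq_zero hpd⟩
    refine ⟨p0 / g0 ^ n, ?_⟩
    rw [← C_pow, ← C_mul, div_mul_cancel₀ _ (pow_ne_zero n hg0)]
  · -- g nonconstant
    have hG : 1 ≤ g.natDegree := by
      by_contra hlt
      have : g.natDegree = 0 := by omega
      rw [eq_C_of_natDegree_eq_zero this, derivative_C] at hg'
      exact hg' rfl
    -- degree claim
    have claim : ∀ p : κ[X], g * derivative p = (n : κ[X]) * p * derivative g → p ≠ 0 →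
        p.natDegree = n * g.natDegree := by
      intro p hp hp0
      by_cases hd : p.natDegree = 0
      · obtain ⟨p0, rfl⟩ : ∃ p0 : κ, p = C p0 := ⟨p.coeff 0, eq_C_of_natDegree_eq_zero hd⟩
        rw [derivative_C, mul_zero] at hp
        have hn : (n : κ[X]) = 0 := by
          rcases mul_eq_zero.mp hp.symm with h | h
          · rcases mul_eq_zero.mp h with h1 | h1
            · exact h1
            · exact absurd h1 hp0
          · exact absurd h hg'
        have hn' : n = 0 := by
          have h2 : C (n : κ) = 0 := by
            rw [C_eq_natCast]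
            exact hn
          have h3 : (n : κ) = 0 := C_eq_zero.mp h2
          exact_mod_cast h3
        rw [hn', zero_mul, natDegree_C]
      · have hd1 : 1 ≤ p.natDegree := by omega
        -- compare coefficients in degree G + d - 1
        have e1 : (g * derivative p).coeff (g.natDegree + (p.natDegree - 1)) =
            g.coeff g.natDegree * (derivative p).coeff (p.natDegree - 1) :=
          coeff_mul_add_eq_of_natDegree_le le_rfl (natDegree_derivative_le p)
        have e2 : (p * derivative g).coeff (p.natDegree + (g.natDegree - 1)) =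
            p.coeff p.natDegree * (derivative g).coeff (g.natDegree - 1) :=
          coeff_mul_add_eq_of_natDegree_le le_rfl (natDegree_derivative_le g)
        have e3 : g.natDegree + (p.natDegree - 1) = p.natDegree + (g.natDegree - 1) := by omega
        have e4 : ((n : κ[X]) * p * derivative g).coeff (p.natDegree + (g.natDegree - 1)) =
            (n : κ) * (p * derivative g).coeff (p.natDegree + (g.natDegree - 1)) := by
          rw [mul_assoc, ← C_eq_natCast, coeff_C_mul]
        have key : g.coeff g.natDegree * (derivative p).coeff (p.natDegree - 1) =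
            (n : κ) * (p.coeff p.natDegree * (derivative g).coeff (g.natDegree - 1)) := by
          rw [← e1, hp, e3, e4, e2]
        rw [coeff_derivative, coeff_derivative, Nat.sub_add_cancel hd1, Nat.sub_add_cancel hG]
          at key
        have hlg : g.coeff g.natDegree ≠ 0 := by
          rw [coeff_natDegree]
          exact leadingCoeff_ne_zero.mpr hg
        have hlp : p.coeff p.natDegree ≠ 0 := by
          rw [coeff_natDegree]
          exact leadingCoeff_ne_zero.mpr hp0
        have hcast : ((p.natDegree : ℕ) : κ) = ((n * g.natDegree : ℕ) : κ) := by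
          have h5 : g.coeff g.natDegree * p.coeff p.natDegree * (((p.natDegree - 1 : ℕ) : κ) + 1) =
              g.coeff g.natDegree * p.coeff p.natDegree *
                ((n : κ) * (((g.natDegree - 1 : ℕ) : κ) + 1)) := by
            linear_combination key
          have h6 := mul_left_cancel₀ (mul_ne_zero hlg hlp) h5
          have h7 : (((p.natDegree - 1 : ℕ) : κ) + 1) = (p.natDegree : κ) := by
            rw [← Nat.cast_succ, Nat.succ_eq_add_one, Nat.sub_add_cancel hd1]
          have h8 : (((g.natDegree - 1 : ℕ) : κ) + 1) = (g.natDegree : κ) := by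
            rw [← Nat.cast_succ, Nat.succ_eq_add_one, Nat.sub_add_cancel hG]
          rw [h7, h8] at h6
          rw [h6]
          push_cast
          ring
        exact_mod_cast hcast
    intro p hp
    by_cases hp0 : p = 0
    · exact ⟨0, by rw [hp0, C_0, zero_mul]⟩
    have hdeg := claim p hp hp0
    have hlg : g.leadingCoeff ≠ 0 := leadingCoeff_ne_zero.mpr hg
    refine ⟨p.leadingCoeff / g.leadingCoeff ^ n, ?_⟩
    by_contra hne
    have hw0 : p - C (p.leadingCoeff / g.leadingCoeff ^ n) * g ^ n ≠ 0 := sub_ne_zero.mpr hne
    have hc0 : p.leadingCoeff / g.leadingCoeff ^ n ≠ 0 :=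
      div_ne_zero (leadingCoeff_ne_zero.mpr hp0) (pow_ne_zero n hlg)
    have hq : (C (p.leadingCoeff / g.leadingCoeff ^ n) * g ^ n).natDegree = n * g.natDegree := by
      rw [natDegree_C_mul hc0, natDegree_pow]
    have hlq : (C (p.leadingCoeff / g.leadingCoeff ^ n) * g ^ n).leadingCoeff = p.leadingCoeff := by
      rw [leadingCoeff_mul, leadingCoeff_C, leadingCoeff_pow, div_mul_cancel₀ _ (pow_ne_zero n hlg)]
    have hw : g * derivative (p - C (p.leadingCoeff / g.leadingCoeff ^ n) * g ^ n) =
        (n : κ[X]) * (p - C (p.leadingCoeff / g.leadingCoeff ^ n) * g ^ n) * derivative g := by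
      rw [derivative_sub, mul_sub, hp, derivative_mul, derivative_C, zero_mul, zero_add,
        derivative_pow]
      rcases Nat.eq_zero_or_pos n with hn | hn
      · subst hn
        simp
      · have : g ^ n = g * g ^ (n - 1) := by
          rw [← pow_succ', Nat.sub_add_cancel hn]
        rw [this, C_eq_natCast]
        ring
    have hdw := claim _ hw hw0
    have hlt : (p - C (p.leadingCoeff / g.leadingCoeff ^ n) * g ^ n).degree < p.degree := by
      apply degree_sub_lt _ hp0 hlq.symm
      rw [degree_eq_natDegree hp0, degree_eq_natDegree (by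
        intro h0
        rw [h0, leadingCoeff_zero] at hlq
        exact (leadingCoeff_ne_zero.mpr hp0) hlq.symm), hdeg, hq]
    rw [degree_eq_natDegree hw0, degree_eq_natDegree hp0, hdw, hdeg] at hlt
    exact lt_irrefl _ hlt

end Groth.Agent.Lib.Helper4.SSNode
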