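import Mathlib
import Groth.Agent.Lib.Helper4.SSNode1

/-!
# Semistable node (S14386): the abstract argument

Abstract version of the argument: a ring `Q` with two elements `x`, `y` such that `x y = ϖ`,
an Euler derivation, and coordinate maps of the two components of the closed fibre.
-/

set_option autoImplicit false
set_option linter.style.haveILetI false
set_option linter.unusedSectionVars false
set_option linter.unusedVariables false
set_option linter.unusedSimpArgs false
set_option maxHeartbeats 1600000
set_option maxSynthPendingDepth 3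

namespace Groth.Agent.Lib.Helper4.SSNode

open Polynomial

universe u

/-- If `B[1/π]` is étale over `V[T]` via `T ↦ f` and `DB` is a derivation with `DB x = x`,
`x y = π`, then `DB f` divides a power of `π`. -/
theorem etale_unit_aux {V B B' : Type u} [CommRing V] [CommRing B] [CommRing B'] [Algebra V B]
    [Algebra B B'] [Algebra V B'] [IsScalarTower V B B'] (π : B) [IsLocalization.Away π B'] (f : B)
    (DB : Derivation V B B) (x y : B) (hxy : x * y = π) (hDx : DB x = x)
    (hf : ((algebraMap B B').comp
      (Polynomial.aeval f : Polynomial V →ₐ[V] B).toRingHom).Etale) :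
    ∃ (w : B) (N : ℕ), DB f * w = π ^ N := by
  obtain ⟨D', hD'⟩ := exists_derivation_localization (S := B') (Submonoid.powers π) DB
  letI : Algebra V[X] B' := ((algebraMap B B').comp
      (Polynomial.aeval f : Polynomial V →ₐ[V] B).toRingHom).toAlgebra
  haveI het : Algebra.Etale V[X] B' := hf
  have halg : ∀ g : V[X], algebraMap V[X] B' g = Polynomial.aeval (algebraMap B B' f) g := by
    intro g
    rw [Polynomial.aeval_algebraMap_apply]
    rfl
  haveI : IsScalarTower V V[X] B' := IsScalarTower.of_algebraMap_eq (fun v => by
    rw [halg, ← Polynomial.C_eq_algebraMap, Polynomial.aeval_C])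
  haveI : Subsingleton (Ω[B'⁄V[X]]) := inferInstance
  have key : ∀ z : Ω[B'⁄V],
      z ∈ Submodule.span B' {KaehlerDifferential.D V B' (algebraMap B B' f)} := by
    intro z
    have hz : z ∈ LinearMap.range (KaehlerDifferential.mapBaseChange V V[X] B') := by
      rw [KaehlerDifferential.range_mapBaseChange, LinearMap.mem_ker]
      exact Subsingleton.elim _ _
    obtain ⟨t, rfl⟩ := hz
    induction t using TensorProduct.induction_on with
    | zero => rw [map_zero]; exact Submodule.zero_mem _
    | tmul b ω =>
      rw [KaehlerDifferential.mapBaseChange_tmul]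
      refine Submodule.smul_mem _ _ ?_
      have hω : ω ∈ Submodule.span V[X] (Set.range (KaehlerDifferential.D V V[X])) := by
        rw [KaehlerDifferential.span_range_derivation]; trivial
      induction hω using Submodule.span_induction with
      | mem ω hω =>
        obtain ⟨g, rfl⟩ := hω
        rw [KaehlerDifferential.map_D, halg, Derivation.map_aeval]
        exact Submodule.smul_mem _ _ (Submodule.mem_span_singleton_self _)
      | zero => rw [map_zero]; exact Submodule.zero_mem _
      | add a b _ _ ha hb => rw [map_add]; exact add_mem ha hb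
      | smul r a _ ha =>
        rw [map_smul, ← algebraMap_smul B' r]
        exact Submodule.smul_mem _ _ ha
    | add a b ha hb => rw [map_add]; exact add_mem ha hb
  obtain ⟨c, hc⟩ := Submodule.mem_span_singleton.mp
    (key (KaehlerDifferential.D V B' (algebraMap B B' x)))
  have h2 := congrArg D'.liftKaehlerDifferential hc
  rw [map_smul, Derivation.liftKaehlerDifferential_comp_D,
    Derivation.liftKaehlerDifferential_comp_D, hD', hD', hDx, smul_eq_mul] at h2
  have hπu : IsUnit (algebraMap B B' π) := IsLocalization.Away.algebraMap_isUnit π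
  have hxu : IsUnit (algebraMap B B' x) := by
    rw [← hxy, map_mul] at hπu
    exact isUnit_of_mul_isUnit_left hπu
  have huu : IsUnit (algebraMap B B' (DB f)) := by
    rw [← h2] at hxu
    exact isUnit_of_mul_isUnit_right hxu
  obtain ⟨n, w, hw⟩ := (IsLocalization.Away.algebraMap_isUnit_iff π (S := B')).mp huu
  exact ⟨w, n, hw.symm⟩

/-- Differentials of a localization are spanned by the images of spanning differentials. -/
theorem kaehler_span_loc {V Q B : Type u} [CommRing V] [CommRing Q] [CommRing B] [Algebra V Q]
    [Algebra Q B] [Algebra V B] [IsScalarTower V Q B] (h : Q) [IsLocalization.Away h B]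
    (xQ yQ : Q)
    (hspan : ∀ q, KaehlerDifferential.D V Q q ∈
      Submodule.span Q {KaehlerDifferential.D V Q xQ, KaehlerDifferential.D V Q yQ}) :
    ∀ z : Ω[B⁄V], ∃ a b : B, z = a • KaehlerDifferential.D V B (algebraMap Q B xQ) +
      b • KaehlerDifferential.D V B (algebraMap Q B yQ) := by
  intro z
  have hz : z ∈ Submodule.span B
      (Set.range (KaehlerDifferential.map V V Q B ∘ KaehlerDifferential.D V Q)) := by
    rw [KaehlerDifferential.span_range_map_derivation_of_isLocalization V Q B
      (Submonoid.powers h)]
    trivial
  have hle : Submodule.span B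
      (Set.range (KaehlerDifferential.map V V Q B ∘ KaehlerDifferential.D V Q)) ≤
      Submodule.span B {KaehlerDifferential.D V B (algebraMap Q B xQ),
        KaehlerDifferential.D V B (algebraMap Q B yQ)} := by
    rw [Submodule.span_le]
    rintro _ ⟨q, rfl⟩
    obtain ⟨a, b, hab⟩ := Submodule.mem_span_pair.mp (hspan q)
    show KaehlerDifferential.map V V Q B (KaehlerDifferential.D V Q q) ∈ _
    rw [← hab, map_add, map_smul, map_smul, KaehlerDifferential.map_D,
      KaehlerDifferential.map_D, ← algebraMap_smul B a, ← algebraMap_smul B b]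
    exact Submodule.mem_span_pair.mpr ⟨_, _, rfl⟩
  obtain ⟨a, b, hab⟩ := Submodule.mem_span_pair.mp (hle hz)
  exact ⟨a, b, hab.symm⟩

/-- Nonzerodivisors stay nonzerodivisors in a localization. -/
theorem nzd_loc {Q B : Type*} [CommRing Q] [CommRing B] [Algebra Q B] (M : Submonoid Q)
    [IsLocalization M B] (p : Q) (hp : ∀ a, p * a = 0 → a = 0) :
    ∀ b : B, algebraMap Q B p * b = 0 → b = 0 := by
  intro b hb
  obtain ⟨a, s, rfl⟩ := IsLocalization.mk'_surjective M b
  rw [IsLocalization.mul_mk'_eq_mk'_of_mul, IsLocalization.mk'_eq_zero_iff] at hb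
  obtain ⟨m, hm⟩ := hb
  rw [IsLocalization.mk'_eq_zero_iff]
  refine ⟨m, hp _ ?_⟩
  rw [← hm]; ring

/-- Primes not containing `h` extend to primes of the localization away from `h`. -/
theorem loc_prime {Q B : Type*} [CommRing Q] [CommRing B] [Algebra Q B] (h : Q)
    [IsLocalization.Away h B] (I : Ideal Q) (hI : I.IsPrime) (hh : h ∉ I) :
    (Ideal.map (algebraMap Q B) I).IsPrime ∧
      Ideal.comap (algebraMap Q B) (Ideal.map (algebraMap Q B) I) = I := by
  have hd : Disjoint (Submonoid.powers h : Set Q) (I : Set Q) := by
    rw [Set.disjoint_left]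
    rintro _ ⟨n, rfl⟩ hn
    exact hh (hI.mem_of_pow_mem n hn)
  exact ⟨IsLocalization.isPrime_of_isPrime_disjoint (Submonoid.powers h) B I hI hd,
    IsLocalization.under_map_of_isPrime_disjoint (Submonoid.powers h) B hI hd⟩

end Groth.Agent.Lib.Helper4.SSNode
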