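import Mathlib
import Groth.Agent.Lib.Helper4.SSNode2

/-!
# Semistable node (S14386): the abstract argument, part 2

The component lemma and the abstract main theorem.
-/

set_option autoImplicit false
set_option linter.style.haveILetI false
set_option linter.unusedSectionVars false
set_option linter.unusedVariables false
set_option linter.unusedSimpArgs false
set_option maxHeartbeats 1600000
set_option maxSynthPendingDepth 3

namespace Groth.Agent.Lib.Helper4.SSNode

open Polynomial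

universe u

/-- The component lemma: if `DB f` vanishes along the component `x₁ = 0`, then `d f̄ = 0` there,
and in residue characteristic zero `f` is constant along that component, so that `T ↦ f` is not
quasi-finite. -/
theorem component {V Q B : Type u} [CommRing V] [IsLocalRing V] [CommRing Q] [Algebra V Q]
    [CommRing B] [Algebra Q B] [Algebra V B] [IsScalarTower V Q B]
    (ϖ : V) (hmax : IsLocalRing.maximalIdeal V = Ideal.span {ϖ})
    (x₁ x₂ : Q) (hxy : x₁ * x₂ = algebraMap V Q ϖ)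
    (DQ : Derivation V Q Q) (DB : Derivation V B B)
    (hDB : ∀ q, DB (algebraMap Q B q) = algebraMap Q B (DQ q))
    (s₁ s₂ : B) (hs₂ : IsUnit s₂) (hD1 : DB (algebraMap Q B x₁) = s₁ * algebraMap Q B x₁)
    (hD2 : DB (algebraMap Q B x₂) = s₂ * algebraMap Q B x₂)
    (ψ : Q →+* (IsLocalRing.ResidueField V)[X]) (hk : RingHom.ker ψ = Ideal.span {x₁})
    (hψ2 : ψ x₂ = X) (hψV : ∀ v, ψ (algebraMap V Q v) = C (IsLocalRing.residue V v))
    (e : (IsLocalRing.ResidueField V)[X]) (he : e ≠ 0)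
    (hψD : ∀ q, ψ (DQ q) = e * (X * derivative (ψ q)))
    (𝔪Q : Ideal Q) (h𝔪Q : 𝔪Q.IsPrime) (hx₁𝔪 : x₁ ∈ 𝔪Q) (hx₂𝔪 : x₂ ∈ 𝔪Q)
    (h𝔪V : ∀ v, algebraMap V Q v ∈ 𝔪Q → v ∈ IsLocalRing.maximalIdeal V)
    (h : Q) (hh : h ∉ 𝔪Q) [IsLocalization.Away h B] (f : B)
    (a₁ a₂ : B)
    (hdf : KaehlerDifferential.D V B f = a₁ • KaehlerDifferential.D V B (algebraMap Q B x₁)
      + a₂ • KaehlerDifferential.D V B (algebraMap Q B x₂))
    (hu : DB f ∈ Ideal.span {algebraMap Q B x₁}) :
    KaehlerDifferential.D V (B ⧸ Ideal.span {algebraMap Q B x₁}) (Ideal.Quotient.mk _ f) = 0 ∧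
      (CharZero (IsLocalRing.ResidueField V) →
        ¬ (Polynomial.aeval f : Polynomial V →ₐ[V] B).toRingHom.QuasiFinite) := by
  have hI₁ : (Ideal.span {x₁} : Ideal Q).IsPrime := by rw [← hk]; exact RingHom.ker_isPrime ψ
  have hle₁ : Ideal.span {x₁} ≤ 𝔪Q := (Ideal.span_singleton_le_iff_mem _).mpr hx₁𝔪
  have hh₁ : h ∉ Ideal.span {x₁} := fun hc => hh (hle₁ hc)
  obtain ⟨hP, hPc⟩ := loc_prime (B := B) h _ hI₁ hh₁
  obtain ⟨h𝔪B, h𝔪c⟩ := loc_prime (B := B) h _ h𝔪Q hh
  have hmapspan : Ideal.map (algebraMap Q B) (Ideal.span {x₁}) =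
      Ideal.span {algebraMap Q B x₁} := by
    rw [Ideal.map_span, Set.image_singleton]
  rw [hmapspan] at hP hPc
  have hx₂P : algebraMap Q B x₂ ∉ Ideal.span {algebraMap Q B x₁} := by
    intro hc
    have : x₂ ∈ Ideal.comap (algebraMap Q B) (Ideal.span {algebraMap Q B x₁}) := hc
    rw [hPc, ← hk, RingHom.mem_ker, hψ2] at this
    exact Polynomial.X_ne_zero this
  have hu_eq : DB f = a₁ * (s₁ * algebraMap Q B x₁) + a₂ * (s₂ * algebraMap Q B x₂) := by
    have h2 := congrArg DB.liftKaehlerDifferential hdf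
    rw [map_add, map_smul, map_smul, Derivation.liftKaehlerDifferential_comp_D,
      Derivation.liftKaehlerDifferential_comp_D, Derivation.liftKaehlerDifferential_comp_D,
      hD1, hD2, smul_eq_mul, smul_eq_mul] at h2
    exact h2
  have ha₂ : a₂ ∈ Ideal.span {algebraMap Q B x₁} := by
    have h3 : a₂ * s₂ * algebraMap Q B x₂ ∈ Ideal.span {algebraMap Q B x₁} := by
      have : a₂ * s₂ * algebraMap Q B x₂ = DB f - a₁ * s₁ * algebraMap Q B x₁ := by
        rw [hu_eq]; ring
      rw [this]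
      exact Ideal.sub_mem _ hu (Ideal.mul_mem_left _ _ (Ideal.mem_span_singleton_self _))
    rcases hP.mem_or_mem h3 with h4 | h4
    · rcases hP.mem_or_mem h4 with h5 | h5
      · exact h5
      · exact absurd (Ideal.eq_top_of_isUnit_mem _ h5 hs₂) hP.ne_top
    · exact absurd h4 hx₂P
  have hC1 : KaehlerDifferential.D V (B ⧸ Ideal.span {algebraMap Q B x₁})
      (Ideal.Quotient.mk _ f) = 0 := by
    have h2 := congrArg (KaehlerDifferential.map V V B (B ⧸ Ideal.span {algebraMap Q B x₁})) hdf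
    rw [map_add, map_smul, map_smul, KaehlerDifferential.map_D, KaehlerDifferential.map_D,
      KaehlerDifferential.map_D] at h2
    have e1 : algebraMap B (B ⧸ Ideal.span {algebraMap Q B x₁}) (algebraMap Q B x₁) = 0 :=
      Ideal.Quotient.eq_zero_iff_mem.mpr (Ideal.mem_span_singleton_self _)
    have e2 : a₂ • KaehlerDifferential.D V (B ⧸ Ideal.span {algebraMap Q B x₁})
        (algebraMap B _ (algebraMap Q B x₂)) = 0 := by
      rw [← algebraMap_smul (B ⧸ Ideal.span {algebraMap Q B x₁}) a₂]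
      have : algebraMap B (B ⧸ Ideal.span {algebraMap Q B x₁}) a₂ = 0 :=
        Ideal.Quotient.eq_zero_iff_mem.mpr ha₂
      rw [this, zero_smul]
    rw [e1, map_zero, smul_zero, zero_add, e2] at h2
    exact h2
  refine ⟨hC1, fun hchar hqf => ?_⟩
  haveI := hchar
  obtain ⟨n, q, hq⟩ := IsLocalization.Away.surj h f
  have hq' : f * algebraMap Q B (h ^ n) = algebraMap Q B q := by rw [map_pow]; exact hq
  have hE : algebraMap Q B (h ^ n * DQ q - q * DQ (h ^ n)) =
      algebraMap Q B (h ^ n) * algebraMap Q B (h ^ n) * DB f := by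
    have h2 := congrArg DB hq'
    rw [Derivation.leibniz, hDB, hDB, smul_eq_mul, smul_eq_mul] at h2
    rw [map_sub, map_mul, map_mul, ← h2, ← hq']
    ring
  have hEmem : h ^ n * DQ q - q * DQ (h ^ n) ∈ Ideal.span {x₁} := by
    rw [← hPc, Ideal.mem_comap, hE]
    exact Ideal.mul_mem_left _ _ hu
  rw [← hk, RingHom.mem_ker, map_sub, map_mul, map_mul, hψD, hψD] at hEmem
  have hG : ψ (h ^ n) ≠ 0 := by
    rw [map_pow]
    refine pow_ne_zero _ ?_
    intro hc
    exact hh₁ (by rw [← hk]; exact hc)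
  have hode : ψ (h ^ n) * derivative (ψ q) =
      ((1 : ℕ) : (IsLocalRing.ResidueField V)[X]) * ψ q * derivative (ψ (h ^ n)) := by
    have hX : (e * X : (IsLocalRing.ResidueField V)[X]) ≠ 0 :=
      mul_ne_zero he Polynomial.X_ne_zero
    apply mul_left_cancel₀ hX
    rw [Nat.cast_one, one_mul]
    linear_combination hEmem
  obtain ⟨c, hc⟩ := poly_ode (ψ (h ^ n)) hG 1 (ψ q) hode
  rw [pow_one] at hc
  obtain ⟨c', rfl⟩ := IsLocalRing.residue_surjective c
  have hmem : q - algebraMap V Q c' * h ^ n ∈ Ideal.span {x₁} := by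
    rw [← hk, RingHom.mem_ker, map_sub, map_mul, hψV, hc, sub_self]
  have hfc : f - algebraMap V B c' ∈ Ideal.span {algebraMap Q B x₁} := by
    have hunit : IsUnit (algebraMap Q B (h ^ n)) :=
      IsLocalization.map_units B (⟨h ^ n, n, rfl⟩ : Submonoid.powers h)
    rw [← Ideal.mul_unit_mem_iff_mem _ hunit]
    have : (f - algebraMap V B c') * algebraMap Q B (h ^ n) =
        algebraMap Q B (q - algebraMap V Q c' * h ^ n) := by
      rw [map_sub, map_mul, ← hq', ← IsScalarTower.algebraMap_apply]; ring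
    rw [this, ← hmapspan]
    exact Ideal.mem_map_of_mem _ hmem
  letI : Algebra V[X] B := (Polynomial.aeval f : Polynomial V →ₐ[V] B).toRingHom.toAlgebra
  haveI : Algebra.QuasiFinite V[X] B := hqf
  have halg : ∀ g : V[X], algebraMap V[X] B g = Polynomial.aeval f g := fun g => rfl
  haveI := hP
  haveI := h𝔪B
  have hle : Ideal.span {algebraMap Q B x₁} ≤ Ideal.map (algebraMap Q B) 𝔪Q := by
    rw [Ideal.span_singleton_le_iff_mem]
    exact Ideal.mem_map_of_mem _ hx₁𝔪
  have hunder : (Ideal.span {algebraMap Q B x₁}).under V[X] =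
      (Ideal.map (algebraMap Q B) 𝔪Q).under V[X] := by
    apply le_antisymm
    · exact Ideal.comap_mono hle
    · intro g hg
      have hg' : Polynomial.aeval f g ∈ Ideal.map (algebraMap Q B) 𝔪Q := hg
      show Polynomial.aeval f g ∈ Ideal.span {algebraMap Q B x₁}
      have h1 : Polynomial.aeval f g - algebraMap V B (Polynomial.eval c' g) ∈
          Ideal.span {algebraMap Q B x₁} := by
        rw [← Polynomial.aeval_algebraMap_apply_eq_algebraMap_eval,
          ← Polynomial.eval_map_algebraMap, ← Polynomial.eval_map_algebraMap]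
        obtain ⟨d, hd⟩ := Polynomial.sub_dvd_eval_sub f (algebraMap V B c')
          (g.map (algebraMap V B))
        rw [hd]
        exact Ideal.mul_mem_right _ _ hfc
      have h2 : algebraMap V B (Polynomial.eval c' g) ∈ Ideal.map (algebraMap Q B) 𝔪Q := by
        have := Ideal.sub_mem _ hg' (hle h1)
        rwa [sub_sub_cancel] at this
      have h3 : Polynomial.eval c' g ∈ IsLocalRing.maximalIdeal V := by
        apply h𝔪V
        rw [← h𝔪c, Ideal.mem_comap, ← IsScalarTower.algebraMap_apply]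
        exact h2
      rw [hmax] at h3
      obtain ⟨v', hv'⟩ := Ideal.mem_span_singleton'.mp h3
      have h4 : algebraMap V B (Polynomial.eval c' g) ∈ Ideal.span {algebraMap Q B x₁} := by
        rw [← hv', map_mul, IsScalarTower.algebraMap_apply V Q B ϖ, ← hxy, map_mul]
        exact Ideal.mul_mem_left _ _
          (Ideal.mul_mem_right _ _ (Ideal.mem_span_singleton_self _))
      have := Ideal.add_mem _ h1 h4
      rwa [sub_add_cancel] at this
  have hEq := Algebra.QuasiFinite.eq_of_le_of_under_eq (R := V[X])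
    (Ideal.span {algebraMap Q B x₁}) (Ideal.map (algebraMap Q B) 𝔪Q) hle hunder
  exact hx₂P (hEq ▸ Ideal.mem_map_of_mem _ hx₂𝔪)

/-- The abstract main theorem. -/
theorem main_abstract {V Q B : Type u} [CommRing V] [IsLocalRing V] [CommRing Q] [Algebra V Q]
    [CommRing B] [Algebra Q B] [Algebra V B] [IsScalarTower V Q B]
    (ϖ : V) (hmax : IsLocalRing.maximalIdeal V = Ideal.span {ϖ})
    (x y : Q) (hxy : x * y = algebraMap V Q ϖ)
    (hspan : ∀ q, KaehlerDifferential.D V Q q ∈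
      Submodule.span Q {KaehlerDifferential.D V Q x, KaehlerDifferential.D V Q y})
    (DQ : Derivation V Q Q) (hDx : DQ x = x) (hDy : DQ y = -y)
    (hnzd : ∀ a : Q, algebraMap V Q ϖ * a = 0 → a = 0)
    (ψx ψy : Q →+* (IsLocalRing.ResidueField V)[X])
    (hkx : RingHom.ker ψx = Ideal.span {x}) (hky : RingHom.ker ψy = Ideal.span {y})
    (hψxy : ψx y = X) (hψyx : ψy x = X)
    (hψxV : ∀ v, ψx (algebraMap V Q v) = C (IsLocalRing.residue V v))
    (hψyV : ∀ v, ψy (algebraMap V Q v) = C (IsLocalRing.residue V v))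
    (hψxD : ∀ q, ψx (DQ q) = (-1) * (X * derivative (ψx q)))
    (hψyD : ∀ q, ψy (DQ q) = 1 * (X * derivative (ψy q)))
    (h : Q) (hh : h ∉ Ideal.span {x, y}) [IsLocalization.Away h B] (f : B)
    (hf : ((algebraMap B (Localization.Away (algebraMap V B ϖ))).comp
          (Polynomial.aeval f : Polynomial V →ₐ[V] B).toRingHom).Etale) :
    (KaehlerDifferential.D V (B ⧸ Ideal.span {algebraMap Q B x}) (Ideal.Quotient.mk _ f) = 0 ∨
     KaehlerDifferential.D V (B ⧸ Ideal.span {algebraMap Q B y}) (Ideal.Quotient.mk _ f) = 0) ∧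
    (CharZero (IsLocalRing.ResidueField V) →
      ¬ (Polynomial.aeval f : Polynomial V →ₐ[V] B).toRingHom.QuasiFinite) := by
  obtain ⟨DB, hDB⟩ := exists_derivation_localization (S := B) (Submonoid.powers h) DQ
  have hDBx : DB (algebraMap Q B x) = algebraMap Q B x := by rw [hDB, hDx]
  have hDBy : DB (algebraMap Q B y) = -algebraMap Q B y := by rw [hDB, hDy, map_neg]
  obtain ⟨a, b, hdf⟩ := kaehler_span_loc (B := B) h x y hspan (KaehlerDifferential.D V B f)
  have hxyB : algebraMap Q B x * algebraMap Q B y = algebraMap V B ϖ := by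
    rw [← map_mul, hxy, ← IsScalarTower.algebraMap_apply]
  have hsurj : Function.Surjective ψx := by
    intro p
    induction p using Polynomial.induction_on' with
    | add p q hp hq =>
      obtain ⟨a, rfl⟩ := hp
      obtain ⟨b, rfl⟩ := hq
      exact ⟨a + b, map_add _ _ _⟩
    | monomial n c =>
      obtain ⟨v, rfl⟩ := IsLocalRing.residue_surjective c
      refine ⟨algebraMap V Q v * y ^ n, ?_⟩
      rw [map_mul, map_pow, hψxV, hψxy, Polynomial.C_mul_X_pow_eq_monomial]
  obtain ⟨𝔪Q, h𝔪Qdef⟩ : ∃ 𝔪Q : Ideal Q, 𝔪Q = Ideal.comap ψx (Ideal.span {X}) := ⟨_, rfl⟩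
  have h𝔪prime : 𝔪Q.IsPrime := by
    rw [h𝔪Qdef]
    haveI : (Ideal.span {(X : (IsLocalRing.ResidueField V)[X])}).IsPrime :=
      (Ideal.span_singleton_prime Polynomial.X_ne_zero).mpr Polynomial.prime_X
    exact Ideal.comap_isPrime ψx _
  have hx𝔪 : x ∈ 𝔪Q := by
    rw [h𝔪Qdef, Ideal.mem_comap]
    have : ψx x = 0 := by
      rw [← RingHom.mem_ker, hkx]; exact Ideal.mem_span_singleton_self x
    rw [this]; exact Ideal.zero_mem _
  have hy𝔪 : y ∈ 𝔪Q := by
    rw [h𝔪Qdef, Ideal.mem_comap, hψxy]; exact Ideal.mem_span_singleton_self _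
  have h𝔪V : ∀ v, algebraMap V Q v ∈ 𝔪Q → v ∈ IsLocalRing.maximalIdeal V := by
    intro v hv
    rw [h𝔪Qdef, Ideal.mem_comap, hψxV, Ideal.mem_span_singleton, Polynomial.X_dvd_iff,
      Polynomial.coeff_C_zero] at hv
    exact (IsLocalRing.residue_eq_zero_iff v).mp hv
  have h𝔪le : 𝔪Q ≤ Ideal.span {x, y} := by
    intro q hq
    rw [h𝔪Qdef, Ideal.mem_comap, Ideal.mem_span_singleton] at hq
    obtain ⟨p, hp⟩ := hq
    obtain ⟨q', rfl⟩ := hsurj p
    have : q - y * q' ∈ Ideal.span {x} := by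
      rw [← hkx, RingHom.mem_ker, map_sub, map_mul, hψxy, hp, sub_self]
    obtain ⟨t, ht⟩ := Ideal.mem_span_singleton.mp this
    rw [Ideal.mem_span_pair]
    exact ⟨t, q', by linear_combination (-1 : Q) * ht⟩
  have hh𝔪 : h ∉ 𝔪Q := fun hc => hh (h𝔪le hc)
  have hIx : (Ideal.span {x} : Ideal Q).IsPrime := by
    rw [← hkx]; exact RingHom.ker_isPrime ψx
  have hIy : (Ideal.span {y} : Ideal Q).IsPrime := by
    rw [← hky]; exact RingHom.ker_isPrime ψy
  have hhx : h ∉ Ideal.span {x} :=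
    fun hc => hh𝔪 ((Ideal.span_singleton_le_iff_mem _).mpr hx𝔪 hc)
  have hhy : h ∉ Ideal.span {y} :=
    fun hc => hh𝔪 ((Ideal.span_singleton_le_iff_mem _).mpr hy𝔪 hc)
  obtain ⟨hPx, hPxc⟩ := loc_prime (B := B) h _ hIx hhx
  obtain ⟨hPy, hPyc⟩ := loc_prime (B := B) h _ hIy hhy
  obtain ⟨h𝔪B, h𝔪c⟩ := loc_prime (B := B) h _ h𝔪prime hh𝔪
  rw [Ideal.map_span, Set.image_singleton] at hPx hPxc hPy hPyc
  have hyx : algebraMap Q B x ∉ Ideal.span {algebraMap Q B y} := by
    intro hc
    have : x ∈ Ideal.comap (algebraMap Q B) (Ideal.span {algebraMap Q B y}) := hc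
    rw [hPyc, ← hky, RingHom.mem_ker, hψyx] at this
    exact Polynomial.X_ne_zero this
  have hu_eq : DB f = a * algebraMap Q B x - b * algebraMap Q B y := by
    have h2 := congrArg DB.liftKaehlerDifferential hdf
    rw [map_add, map_smul, map_smul, Derivation.liftKaehlerDifferential_comp_D,
      Derivation.liftKaehlerDifferential_comp_D, Derivation.liftKaehlerDifferential_comp_D,
      hDBx, hDBy, smul_eq_mul, smul_eq_mul] at h2
    rw [h2]; ring
  have hu𝔪 : DB f ∈ Ideal.map (algebraMap Q B) 𝔪Q := by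
    rw [hu_eq]
    exact Ideal.sub_mem _ (Ideal.mul_mem_left _ _ (Ideal.mem_map_of_mem _ hx𝔪))
      (Ideal.mul_mem_left _ _ (Ideal.mem_map_of_mem _ hy𝔪))
  have hnu : ¬ IsUnit (DB f) := fun hc => h𝔪B.ne_top (Ideal.eq_top_of_isUnit_mem _ hu𝔪 hc)
  obtain ⟨w, N, hw⟩ := etale_unit_aux (B' := Localization.Away (algebraMap V B ϖ))
    (algebraMap V B ϖ) f DB (algebraMap Q B x) (algebraMap Q B y) hxyB hDBx hf
  rw [← hxyB] at hw
  have hnzdB : ∀ c : B, algebraMap Q B x * algebraMap Q B y * c = 0 → c = 0 := by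
    intro c hc
    rw [hxyB, IsScalarTower.algebraMap_apply V Q B] at hc
    exact nzd_loc (Submonoid.powers h) _ hnzd c hc
  rcases mem_span_or_of_mul_eq_pow _ _ hPx hPy hnzdB hyx (DB f) hnu N w hw with hcase | hcase
  · obtain ⟨h1, h2⟩ := component ϖ hmax x y hxy DQ DB hDB 1 (-1) isUnit_one.neg
      (by rw [hDBx, one_mul]) (by rw [hDBy, neg_one_mul]) ψx hkx hψxy hψxV (-1)
      (neg_ne_zero.mpr one_ne_zero) hψxD 𝔪Q h𝔪prime hx𝔪 hy𝔪 h𝔪V h hh𝔪 f a b hdf hcase
    exact ⟨Or.inl h1, h2⟩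
  · obtain ⟨h1, h2⟩ := component ϖ hmax y x (by rw [mul_comm]; exact hxy) DQ DB hDB (-1) 1
      isUnit_one (by rw [hDBy, neg_one_mul]) (by rw [hDBx, one_mul]) ψy hky hψyx hψyV 1
      one_ne_zero hψyD 𝔪Q h𝔪prime hy𝔪 hx𝔪 h𝔪V h hh𝔪 f b a (by rw [hdf, add_comm]) hcase
    exact ⟨Or.inr h1, h2⟩

end Groth.Agent.Lib.Helper4.SSNode
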