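import Mathlib
import Groth.Agent.Lib.Helper4.SSNode3

/-!
# Semistable node (S14386): the concrete ring `V[x, y]/(xy - ϖ)`
-/

set_option autoImplicit false
set_option linter.style.haveILetI false
set_option linter.unusedSectionVars false
set_option linter.unusedVariables false
set_option linter.unusedSimpArgs false
set_option maxHeartbeats 1600000
set_option maxSynthPendingDepth 3

namespace Groth.Agent.Lib.Helper4.SSNode

open Polynomial

universe u

/-- A ring hom from `V[x,y]` to `κ[X]` intertwines a derivation with `e X d/dX` as soon as it does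
so on the variables. -/
theorem phi_DP {V κ : Type*} [CommRing V] [Field κ] (φ : MvPolynomial (Fin 2) V →+* κ[X])
    (hφC : ∀ a, derivative (φ (MvPolynomial.C a)) = 0)
    (DP : Derivation V (MvPolynomial (Fin 2) V) (MvPolynomial (Fin 2) V)) (e : κ[X])
    (hX : ∀ i, φ (DP (MvPolynomial.X i)) = e * (X * derivative (φ (MvPolynomial.X i)))) :
    ∀ p, φ (DP p) = e * (X * derivative (φ p)) := by
  intro p
  induction p using MvPolynomial.induction_on with
  | C a =>
    have : DP (MvPolynomial.C a) = 0 := by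
      rw [← MvPolynomial.algebraMap_eq]; exact DP.map_algebraMap a
    rw [this, map_zero, hφC, mul_zero, mul_zero]
  | add p q hp hq =>
    rw [map_add, map_add, hp, hq, map_add, derivative_add]; ring
  | mul_X p i hp =>
    rw [Derivation.leibniz, smul_eq_mul, smul_eq_mul, map_add, map_mul, map_mul, hp, hX, map_mul,
      derivative_mul]
    ring

/-- The Euler-type derivation `x ∂/∂x - y ∂/∂y` on `V[x, y]`. -/
noncomputable def DP (V : Type u) [CommRing V] :
    Derivation V (MvPolynomial (Fin 2) V) (MvPolynomial (Fin 2) V) :=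
  MvPolynomial.mkDerivation V ![MvPolynomial.X 0, -MvPolynomial.X 1]

theorem DP_X0 (V : Type u) [CommRing V] : DP V (MvPolynomial.X 0) = MvPolynomial.X 0 := by
  simp [DP, MvPolynomial.mkDerivation_X]

theorem DP_X1 (V : Type u) [CommRing V] : DP V (MvPolynomial.X 1) = -MvPolynomial.X 1 := by
  simp [DP, MvPolynomial.mkDerivation_X]

theorem DP_rel {V : Type u} [CommRing V] (ϖ : V) :
    DP V (MvPolynomial.X 0 * MvPolynomial.X 1 - MvPolynomial.C ϖ) = 0 := by
  have hC : DP V (MvPolynomial.C ϖ) = 0 := by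
    rw [← MvPolynomial.algebraMap_eq]; exact (DP V).map_algebraMap ϖ
  rw [map_sub, Derivation.leibniz, DP_X0, DP_X1, hC, smul_eq_mul, smul_eq_mul]; ring

/-- The coordinate maps to `κ[X]`. -/
noncomputable def phiP (V : Type u) [CommRing V] [IsLocalRing V]
    (vals : Fin 2 → (IsLocalRing.ResidueField V)[X]) :
    MvPolynomial (Fin 2) V →+* (IsLocalRing.ResidueField V)[X] :=
  MvPolynomial.eval₂Hom ((C : _ →+* (IsLocalRing.ResidueField V)[X]).comp (IsLocalRing.residue V))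
    vals

theorem phiP_C {V : Type u} [CommRing V] [IsLocalRing V]
    (vals : Fin 2 → (IsLocalRing.ResidueField V)[X]) (a : V) :
    phiP V vals (MvPolynomial.C a) = C (IsLocalRing.residue V a) := by
  simp [phiP]

theorem phiP_X {V : Type u} [CommRing V] [IsLocalRing V]
    (vals : Fin 2 → (IsLocalRing.ResidueField V)[X]) (i : Fin 2) :
    phiP V vals (MvPolynomial.X i) = vals i := by
  simp [phiP]

section Concrete

variable {V : Type u} [CommRing V] [IsDomain V] [IsDiscreteValuationRing V] (ϖ : V)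
  (𝔯 : Ideal (MvPolynomial (Fin 2) V))
  (h𝔯 : 𝔯 = Ideal.span {MvPolynomial.X 0 * MvPolynomial.X 1 - MvPolynomial.C ϖ})

include h𝔯 in
theorem DP_mem (p : MvPolynomial (Fin 2) V) (hp : p ∈ 𝔯) : DP V p ∈ 𝔯 := by
  subst h𝔯
  obtain ⟨c, rfl⟩ := Ideal.mem_span_singleton'.mp hp
  rw [Derivation.leibniz, DP_rel, smul_zero, zero_add, smul_eq_mul]
  exact Ideal.mul_mem_right _ _ (Ideal.mem_span_singleton_self _)

include h𝔯 in
theorem exists_DQ : ∃ DQ : Derivation V (MvPolynomial (Fin 2) V ⧸ 𝔯) (MvPolynomial (Fin 2) V ⧸ 𝔯),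
    ∀ p, DQ (Ideal.Quotient.mk 𝔯 p) = Ideal.Quotient.mk 𝔯 (DP V p) := by
  have hd : ∀ p, (Ideal.Quotient.mkₐ V 𝔯) p = 0 → (Ideal.Quotient.mkₐ V 𝔯) (DP V p) = 0 := by
    intro p hp
    rw [Ideal.Quotient.mkₐ_eq_mk, Ideal.Quotient.eq_zero_iff_mem] at hp ⊢
    exact DP_mem ϖ 𝔯 h𝔯 p hp
  refine ⟨Derivation.liftOfSurjective (f := Ideal.Quotient.mkₐ V 𝔯)
    (Ideal.Quotient.mkₐ_surjective V 𝔯) hd, fun p => ?_⟩
  exact Derivation.liftOfSurjective_apply (f := Ideal.Quotient.mkₐ V 𝔯)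
    (Ideal.Quotient.mkₐ_surjective V 𝔯) hd p

theorem hspan_concrete : ∀ q : MvPolynomial (Fin 2) V ⧸ 𝔯,
    KaehlerDifferential.D V (MvPolynomial (Fin 2) V ⧸ 𝔯) q ∈
      Submodule.span (MvPolynomial (Fin 2) V ⧸ 𝔯)
        {KaehlerDifferential.D V (MvPolynomial (Fin 2) V ⧸ 𝔯)
          (Ideal.Quotient.mk 𝔯 (MvPolynomial.X 0)),
         KaehlerDifferential.D V (MvPolynomial (Fin 2) V ⧸ 𝔯)
          (Ideal.Quotient.mk 𝔯 (MvPolynomial.X 1))} := by
  intro q
  obtain ⟨p, rfl⟩ := Ideal.Quotient.mk_surjective q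
  have hi : ∀ i : Fin 2, KaehlerDifferential.D V (MvPolynomial (Fin 2) V ⧸ 𝔯)
      (Ideal.Quotient.mk 𝔯 (MvPolynomial.X i)) ∈
      Submodule.span (MvPolynomial (Fin 2) V ⧸ 𝔯)
        {KaehlerDifferential.D V (MvPolynomial (Fin 2) V ⧸ 𝔯)
          (Ideal.Quotient.mk 𝔯 (MvPolynomial.X 0)),
         KaehlerDifferential.D V (MvPolynomial (Fin 2) V ⧸ 𝔯)
          (Ideal.Quotient.mk 𝔯 (MvPolynomial.X 1))} := by
    rw [Fin.forall_fin_two]
    exact ⟨Submodule.subset_span (Set.mem_insert _ _),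
      Submodule.subset_span (Set.mem_insert_of_mem _ (Set.mem_singleton _))⟩
  induction p using MvPolynomial.induction_on with
  | C a =>
    have : Ideal.Quotient.mk 𝔯 (MvPolynomial.C a) =
        algebraMap V (MvPolynomial (Fin 2) V ⧸ 𝔯) a := rfl
    rw [this, Derivation.map_algebraMap]; exact Submodule.zero_mem _
  | add p q hp hq => rw [map_add, map_add]; exact add_mem hp hq
  | mul_X p i hp =>
    rw [map_mul, Derivation.leibniz]
    exact add_mem (Submodule.smul_mem _ _ (hi i)) (Submodule.smul_mem _ _ hp)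

include h𝔯 in
theorem hnzd_concrete (hϖ : Irreducible ϖ) :
    ∀ a : MvPolynomial (Fin 2) V ⧸ 𝔯,
      algebraMap V (MvPolynomial (Fin 2) V ⧸ 𝔯) ϖ * a = 0 → a = 0 := by
  subst h𝔯
  intro a ha
  obtain ⟨g, rfl⟩ := Ideal.Quotient.mk_surjective a
  have h1 : MvPolynomial.C ϖ * g ∈ Ideal.span
      {(MvPolynomial.X 0 * MvPolynomial.X 1 - MvPolynomial.C ϖ : MvPolynomial (Fin 2) V)} := by
    rw [← Ideal.Quotient.eq_zero_iff_mem, map_mul]; exact ha
  obtain ⟨q, hq⟩ := Ideal.mem_span_singleton'.mp h1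
  have hres : IsLocalRing.residue V ϖ = 0 := by
    rw [IsLocalRing.residue_eq_zero_iff, hϖ.maximalIdeal_eq]
    exact Ideal.mem_span_singleton_self _
  have hρ : MvPolynomial.map (IsLocalRing.residue V) q = 0 := by
    have h2 := congrArg (MvPolynomial.map (IsLocalRing.residue V)) hq
    rw [map_mul, map_mul, MvPolynomial.map_C, map_sub, map_mul, MvPolynomial.map_X,
      MvPolynomial.map_X, MvPolynomial.map_C, hres, map_zero, sub_zero, zero_mul] at h2
    rcases mul_eq_zero.mp h2 with h3 | h3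
    · exact h3
    · exact absurd h3 (mul_ne_zero (MvPolynomial.X_ne_zero 0) (MvPolynomial.X_ne_zero 1))
  have hq2 : q ∈ Ideal.span {(MvPolynomial.C ϖ : MvPolynomial (Fin 2) V)} := by
    have : q ∈ RingHom.ker
        (MvPolynomial.map (IsLocalRing.residue V) : MvPolynomial (Fin 2) V →+* _) := hρ
    rw [MvPolynomial.ker_map, IsLocalRing.ker_residue, hϖ.maximalIdeal_eq, Ideal.map_span,
      Set.image_singleton] at this
    exact this
  obtain ⟨q₁, rfl⟩ := Ideal.mem_span_singleton'.mp hq2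
  have hCϖ : (MvPolynomial.C ϖ : MvPolynomial (Fin 2) V) ≠ 0 :=
    (map_ne_zero_iff _ (MvPolynomial.C_injective (Fin 2) V)).mpr hϖ.ne_zero
  have : g = q₁ * (MvPolynomial.X 0 * MvPolynomial.X 1 - MvPolynomial.C ϖ) := by
    apply mul_left_cancel₀ hCϖ
    rw [← hq]; ring
  rw [this, Ideal.Quotient.eq_zero_iff_mem]
  exact Ideal.mul_mem_left _ _ (Ideal.mem_span_singleton_self _)

include h𝔯 in
theorem exists_psi (hϖ : Irreducible ϖ) (j k : Fin 2) (hjk : ∀ i, i = j ∨ i = k)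
    (vals : Fin 2 → (IsLocalRing.ResidueField V)[X]) (hvj : vals j = 0) (hvk : vals k = X)
    (hprod : (MvPolynomial.X 0 * MvPolynomial.X 1 : MvPolynomial (Fin 2) V) =
      MvPolynomial.X j * MvPolynomial.X k)
    (DQ : Derivation V (MvPolynomial (Fin 2) V ⧸ 𝔯) (MvPolynomial (Fin 2) V ⧸ 𝔯))
    (hDQ : ∀ p, DQ (Ideal.Quotient.mk 𝔯 p) = Ideal.Quotient.mk 𝔯 (DP V p))
    (e : (IsLocalRing.ResidueField V)[X])
    (hX : ∀ i, phiP V vals (DP V (MvPolynomial.X i)) = e * (X * derivative (vals i))) :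
    ∃ ψ : (MvPolynomial (Fin 2) V ⧸ 𝔯) →+* (IsLocalRing.ResidueField V)[X],
      RingHom.ker ψ = Ideal.span {Ideal.Quotient.mk 𝔯 (MvPolynomial.X j)} ∧
      ψ (Ideal.Quotient.mk 𝔯 (MvPolynomial.X k)) = X ∧
      (∀ v, ψ (algebraMap V (MvPolynomial (Fin 2) V ⧸ 𝔯) v) = C (IsLocalRing.residue V v)) ∧
      (∀ q, ψ (DQ q) = e * (X * derivative (ψ q))) := by
  have hr : (MvPolynomial.X 0 * MvPolynomial.X 1 - MvPolynomial.C ϖ : MvPolynomial (Fin 2) V) ∈ 𝔯 :=
    h𝔯 ▸ Ideal.mem_span_singleton_self _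
  have hres : IsLocalRing.residue V ϖ = 0 := by
    rw [IsLocalRing.residue_eq_zero_iff, hϖ.maximalIdeal_eq]
    exact Ideal.mem_span_singleton_self _
  have hφr : phiP V vals (MvPolynomial.X 0 * MvPolynomial.X 1 - MvPolynomial.C ϖ) = 0 := by
    rw [hprod, map_sub, map_mul, phiP_X, phiP_X, phiP_C, hvj, zero_mul, hres, map_zero, sub_zero]
  have hφI : ∀ a ∈ 𝔯, phiP V vals a = 0 := by
    intro a ha
    rw [h𝔯] at ha
    obtain ⟨c, rfl⟩ := Ideal.mem_span_singleton'.mp ha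
    rw [map_mul, hφr, mul_zero]
  have hϖQ : Ideal.Quotient.mk 𝔯 (MvPolynomial.C ϖ) =
      Ideal.Quotient.mk 𝔯 (MvPolynomial.X j) * Ideal.Quotient.mk 𝔯 (MvPolynomial.X k) := by
    rw [← map_mul, ← hprod, eq_comm, Ideal.Quotient.eq]
    exact hr
  refine ⟨Ideal.Quotient.lift 𝔯 (phiP V vals) hφI, ?_, ?_, ?_, ?_⟩
  · apply le_antisymm
    · intro q hq
      obtain ⟨p, rfl⟩ := Ideal.Quotient.mk_surjective q
      rw [RingHom.mem_ker, Ideal.Quotient.lift_mk] at hq
      -- the inverse map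
      obtain ⟨I₁, hI₁⟩ : ∃ I₁ : Ideal (MvPolynomial (Fin 2) V ⧸ 𝔯),
        I₁ = Ideal.span {Ideal.Quotient.mk 𝔯 (MvPolynomial.X j)} := ⟨_, rfl⟩
      rw [← hI₁]
      have hxI : Ideal.Quotient.mk 𝔯 (MvPolynomial.X j) ∈ I₁ :=
        hI₁ ▸ Ideal.mem_span_singleton_self _
      have hγ₀ : ∀ v ∈ IsLocalRing.maximalIdeal V,
          ((Ideal.Quotient.mk I₁).comp
            (algebraMap V (MvPolynomial (Fin 2) V ⧸ 𝔯))) v = 0 := by
        intro v hv
        rw [hϖ.maximalIdeal_eq] at hv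
        obtain ⟨c, rfl⟩ := Ideal.mem_span_singleton'.mp hv
        rw [RingHom.comp_apply, Ideal.Quotient.eq_zero_iff_mem, map_mul]
        have : algebraMap V (MvPolynomial (Fin 2) V ⧸ 𝔯) ϖ =
            Ideal.Quotient.mk 𝔯 (MvPolynomial.C ϖ) := rfl
        rw [this, hϖQ]
        exact Ideal.mul_mem_left _ _ (Ideal.mul_mem_right _ _ hxI)
      obtain ⟨γ, hγ⟩ : ∃ γ : IsLocalRing.ResidueField V →+* (MvPolynomial (Fin 2) V ⧸ 𝔯) ⧸ I₁,
          ∀ v, γ (IsLocalRing.residue V v) =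
            Ideal.Quotient.mk I₁ (algebraMap V (MvPolynomial (Fin 2) V ⧸ 𝔯) v) :=
        ⟨Ideal.Quotient.lift (IsLocalRing.maximalIdeal V) _ hγ₀, fun v => rfl⟩
      have hβ : ∀ p : MvPolynomial (Fin 2) V,
          Polynomial.eval₂RingHom γ (Ideal.Quotient.mk I₁
            (Ideal.Quotient.mk 𝔯 (MvPolynomial.X k))) (phiP V vals p) =
            Ideal.Quotient.mk I₁ (Ideal.Quotient.mk 𝔯 p) := by
        have : (Polynomial.eval₂RingHom γ (Ideal.Quotient.mk I₁
            (Ideal.Quotient.mk 𝔯 (MvPolynomial.X k)))).comp (phiP V vals) =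
            (Ideal.Quotient.mk I₁).comp (Ideal.Quotient.mk 𝔯) := by
          apply MvPolynomial.ringHom_ext
          · intro v
            rw [RingHom.comp_apply, RingHom.comp_apply, phiP_C, Polynomial.coe_eval₂RingHom,
              Polynomial.eval₂_C, hγ]
            rfl
          · intro i
            rw [RingHom.comp_apply, RingHom.comp_apply, phiP_X, Polynomial.coe_eval₂RingHom]
            rcases hjk i with rfl | rfl
            · rw [hvj, Polynomial.eval₂_zero, eq_comm, Ideal.Quotient.eq_zero_iff_mem]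
              exact hxI
            · rw [hvk, Polynomial.eval₂_X]
        intro p
        exact RingHom.congr_fun this p
      have h3 := hβ p
      rw [hq, map_zero, eq_comm, Ideal.Quotient.eq_zero_iff_mem] at h3
      exact h3
    · rw [Ideal.span_singleton_le_iff_mem, RingHom.mem_ker, Ideal.Quotient.lift_mk, phiP_X, hvj]
  · rw [Ideal.Quotient.lift_mk, phiP_X, hvk]
  · intro v
    have : algebraMap V (MvPolynomial (Fin 2) V ⧸ 𝔯) v =
        Ideal.Quotient.mk 𝔯 (MvPolynomial.C v) := rfl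
    rw [this, Ideal.Quotient.lift_mk, phiP_C]
  · intro q
    obtain ⟨p, rfl⟩ := Ideal.Quotient.mk_surjective q
    rw [hDQ, Ideal.Quotient.lift_mk, Ideal.Quotient.lift_mk]
    exact phi_DP (phiP V vals) (fun a => by rw [phiP_C, derivative_C]) (DP V) e
      (by intro i; rw [hX i, phiP_X]) p

include h𝔯 in
/-- The concrete main theorem. -/
theorem main (hϖ : Irreducible ϖ) (h : MvPolynomial (Fin 2) V ⧸ 𝔯)
    (hh : h ∉ Ideal.span ({Ideal.Quotient.mk 𝔯 (MvPolynomial.X 0),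
      Ideal.Quotient.mk 𝔯 (MvPolynomial.X 1)} : Set (MvPolynomial (Fin 2) V ⧸ 𝔯)))
    (f : Localization.Away h)
    (hf : ((algebraMap (Localization.Away h)
        (Localization.Away (algebraMap V (Localization.Away h) ϖ))).comp
          (Polynomial.aeval f : Polynomial V →ₐ[V] Localization.Away h).toRingHom).Etale) :
    (KaehlerDifferential.D V (Localization.Away h ⧸ Ideal.span
        ({algebraMap (MvPolynomial (Fin 2) V ⧸ 𝔯) (Localization.Away h)
          (Ideal.Quotient.mk 𝔯 (MvPolynomial.X 0))} : Set (Localization.Away h)))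
        (Ideal.Quotient.mk _ f) = 0 ∨
     KaehlerDifferential.D V (Localization.Away h ⧸ Ideal.span
        ({algebraMap (MvPolynomial (Fin 2) V ⧸ 𝔯) (Localization.Away h)
          (Ideal.Quotient.mk 𝔯 (MvPolynomial.X 1))} : Set (Localization.Away h)))
        (Ideal.Quotient.mk _ f) = 0) ∧
    (CharZero (IsLocalRing.ResidueField V) →
      ¬ (Polynomial.aeval f : Polynomial V →ₐ[V] Localization.Away h).toRingHom.QuasiFinite) := by
  obtain ⟨DQ, hDQ⟩ := exists_DQ ϖ 𝔯 h𝔯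
  obtain ⟨ψx, hkx, hψxy, hψxV, hψxD⟩ := exists_psi ϖ 𝔯 h𝔯 hϖ 0 1 (by decide) ![0, X] rfl rfl rfl
    DQ hDQ (-1) (by
      rw [Fin.forall_fin_two]
      constructor
      · rw [DP_X0, phiP_X]; simp
      · rw [DP_X1, map_neg, phiP_X]; simp)
  obtain ⟨ψy, hky, hψyx, hψyV, hψyD⟩ := exists_psi ϖ 𝔯 h𝔯 hϖ 1 0 (by decide) ![X, 0] rfl rfl
    (mul_comm _ _) DQ hDQ 1 (by
      rw [Fin.forall_fin_two]
      constructor
      · rw [DP_X0, phiP_X]; simp
      · rw [DP_X1, map_neg, phiP_X]; simp)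
  have hxy : Ideal.Quotient.mk 𝔯 (MvPolynomial.X 0) * Ideal.Quotient.mk 𝔯 (MvPolynomial.X 1) =
      algebraMap V (MvPolynomial (Fin 2) V ⧸ 𝔯) ϖ := by
    have : algebraMap V (MvPolynomial (Fin 2) V ⧸ 𝔯) ϖ =
        Ideal.Quotient.mk 𝔯 (MvPolynomial.C ϖ) := rfl
    rw [this, ← map_mul, Ideal.Quotient.eq, h𝔯]
    exact Ideal.mem_span_singleton_self _
  have hDx : DQ (Ideal.Quotient.mk 𝔯 (MvPolynomial.X 0)) =
      Ideal.Quotient.mk 𝔯 (MvPolynomial.X 0) := by rw [hDQ, DP_X0]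
  have hDy : DQ (Ideal.Quotient.mk 𝔯 (MvPolynomial.X 1)) =
      -Ideal.Quotient.mk 𝔯 (MvPolynomial.X 1) := by rw [hDQ, DP_X1, map_neg]
  exact main_abstract ϖ hϖ.maximalIdeal_eq _ _ hxy (hspan_concrete 𝔯) DQ hDx hDy
    (hnzd_concrete ϖ 𝔯 h𝔯 hϖ) ψx ψy hkx hky hψxy hψyx hψxV hψyV hψxD hψyD h hh f hf

end Concrete

end Groth.Agent.Lib.Helper4.SSNode
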