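import Mathlib
import Groth.Prelude

/-!
# Three small lemmas for sections descending along proper surjective maps onto a seminormal scheme

Sub-lemmas (H1, H2, H6) requested by helper9 for S13113.
-/

set_option autoImplicit false
set_option linter.unusedSectionVars false
set_option linter.unusedVariables false
set_option linter.style.haveILetI false

universe u

open CategoryTheory CategoryTheory.Limits AlgebraicGeometry TopologicalSpace
open scoped TensorProduct

namespace Groth.Agent.Lib.Helper4.SemiNormA

/-- (H6) an element `b` of a field extension `L/K` with `b ⊗ 1 = 1 ⊗ b` lies in `K`. -/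
theorem mem_range_of_tmul_one_eq_one_tmul {K L : Type u} [Field K] [Field L] [Algebra K L] (b : L)
    (hb : b ⊗ₜ[K] (1 : L) = (1 : L) ⊗ₜ[K] b) : b ∈ Set.range (algebraMap K L) := by
  obtain ⟨φ, hφ⟩ := LinearMap.exists_leftInverse_of_injective (Algebra.linearMap K L)
    (LinearMap.ker_eq_bot.mpr (algebraMap K L).injective)
  have hφ1 : φ 1 = 1 := by
    have := LinearMap.congr_fun hφ (1 : K)
    simpa using this
  let ψ : L ⊗[K] L →ₗ[K] L := (TensorProduct.lid K L).toLinearMap ∘ₗ (φ.rTensor L)
  have h1 : ψ (b ⊗ₜ[K] (1 : L)) = algebraMap K L (φ b) := by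
    simp [ψ, Algebra.algebraMap_eq_smul_one]
  have h2 : ψ ((1 : L) ⊗ₜ[K] b) = b := by
    simp [ψ, hφ1]
  refine ⟨φ b, ?_⟩
  rw [← h1, hb, h2]

/-- (H1) pulling back global functions along a surjective morphism onto a reduced scheme is
injective. -/
theorem appTop_injective_of_surjective {X Y : Scheme.{u}} (π : Y ⟶ X) [Surjective π] [IsReduced X] :
    Function.Injective π.appTop := by
  have key : ∀ t : Γ(X, ⊤), π.appTop.hom t = 0 → t = 0 := by
    intro t ht
    rw [← basicOpen_eq_bot_iff]
    have h1 : π ⁻¹ᵁ X.basicOpen t = ⊥ := by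
      rw [Scheme.preimage_basicOpen_top]
      have : (π.appTop) t = 0 := ht
      rw [this, Scheme.basicOpen_zero]
    ext x
    simp only [Opens.coe_bot, Set.mem_empty_iff_false, iff_false]
    intro hx
    obtain ⟨y, rfl⟩ := π.surjective x
    have hy : y ∈ π ⁻¹ᵁ X.basicOpen t := hx
    rw [h1] at hy
    exact hy
  exact (injective_iff_map_eq_zero π.appTop.hom).2 key

/-- a seminormal ring is reduced. -/
theorem isReduced_of_isSeminormalRing {A : Type u} [CommRing A] (hA : HTop.IsSeminormalRing A) :
    IsReduced A := by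
  rw [isReduced_iff_pow_one_lt 2 (by norm_num)]
  intro n hn
  obtain ⟨a, -, huniq⟩ := hA 0 0 (by ring)
  have h0 : (0 : A) = a := huniq 0 ⟨by ring, by ring⟩
  have hn' : n = a := huniq n ⟨by rw [hn], by rw [pow_succ, hn, zero_mul]⟩
  rw [hn', ← h0]

/-- (H2) a seminormal scheme is reduced. -/
theorem isReduced_of_isSeminormal {X : Scheme.{u}} (hX : HTop.IsSeminormal X) : IsReduced X := by
  haveI : ∀ x : X, _root_.IsReduced (X.presheaf.stalk x) := by
    intro x
    obtain ⟨U, hxU, hU⟩ := hX x
    haveI : _root_.IsReduced Γ(X, U) := isReduced_of_isSeminormalRing hU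
    letI : Algebra Γ(X, U) (X.presheaf.stalk x) :=
      TopCat.Presheaf.algebra_section_stalk X.presheaf (⟨x, hxU⟩ : (U : X.Opens))
    haveI : IsLocalization.AtPrime (X.presheaf.stalk x) (U.2.primeIdealOf ⟨x, hxU⟩).asIdeal :=
      U.2.isLocalization_stalk ⟨x, hxU⟩
    exact isReduced_localizationPreserves (U.2.primeIdealOf ⟨x, hxU⟩).asIdeal.primeCompl
      (X.presheaf.stalk x) inferInstance
  exact isReduced_of_isReduced_stalk X

end Groth.Agent.Lib.Helper4.SemiNormA
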