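import Mathlib
import Groth.Prelude

/-!
# Pointwise functions: injectivity of `ofSection` on reduced schemes; `Spec` of a seminormal ring;
field points lift when residue-field points do

Sub-lemmas (G11, G13, G9) requested by helper9 for S13109.
-/

set_option autoImplicit false
set_option linter.unusedSectionVars false
set_option linter.unusedVariables false
set_option linter.style.haveILetI false

universe u

open CategoryTheory CategoryTheory.Limits AlgebraicGeometry TopologicalSpace W4c1hilbchowinc

namespace Groth.Agent.Lib.Helper4.SemiNormB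

/-- (G11) on a reduced scheme a global section is determined by its values. -/
theorem ofSection_injective {X : Scheme.{u}} [IsReduced X] :
    Function.Injective (PtFun.ofSection X) := by
  intro t t' h
  rw [← sub_eq_zero, ← basicOpen_eq_bot_iff]
  ext x
  simp only [Opens.coe_bot, Set.mem_empty_iff_false, iff_false]
  intro hx
  have h1 : X.Γevaluation x (t - t') ≠ 0 :=
    (X.evaluation_ne_zero_iff_mem_basicOpen (U := ⊤) x (Set.mem_univ x) (t - t')).2 hx
  apply h1
  have h2 : X.Γevaluation x t = X.Γevaluation x t' := congrFun h x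
  rw [map_sub, h2, sub_self]

/-- transport of seminormality of rings along a ring isomorphism. -/
theorem isSeminormalRing_of_ringEquiv {A B : Type u} [CommRing A] [CommRing B] (e : A ≃+* B)
    (hA : HTop.IsSeminormalRing A) : HTop.IsSeminormalRing B := by
  intro x y hxy
  have h' : (e.symm x) ^ 3 = (e.symm y) ^ 2 := by
    rw [← map_pow, ← map_pow, hxy]
  obtain ⟨a, ⟨ha1, ha2⟩, huniq⟩ := hA (e.symm x) (e.symm y) h'
  refine ⟨e a, ⟨?_, ?_⟩, ?_⟩
  · rw [← map_pow, ← ha1, e.apply_symm_apply]
  · rw [← map_pow, ← ha2, e.apply_symm_apply]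
  · rintro b ⟨hb1, hb2⟩
    have := huniq (e.symm b) ⟨by rw [hb1, map_pow], by rw [hb2, map_pow]⟩
    rw [← this, e.apply_symm_apply]

/-- (G13) the spectrum of a seminormal ring is a seminormal scheme. -/
theorem isSeminormal_Spec (A : Type u) [CommRing A] (hA : HTop.IsSeminormalRing A) :
    HTop.IsSeminormal (Spec (CommRingCat.of A)) := by
  intro x
  refine ⟨⟨⊤, isAffineOpen_top _⟩, trivial, ?_⟩
  exact isSeminormalRing_of_ringEquiv
    (Scheme.ΓSpecIso (CommRingCat.of A)).commRingCatIsoToRingEquiv.symm hA

/-- (G9), unfolded form: if every residue-field point of `X` lifts along `π`, then every field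
point lifts. -/
theorem forall_field_lift_of_forall_residueField_lift {Y X : Scheme.{u}} (π : Y ⟶ X)
    (h : ∀ x : X, ∃ l : Spec (X.residueField x) ⟶ Y, l ≫ π = X.fromSpecResidueField x) :
    ∀ (K : Type u) [Field K] (g : Spec (.of K) ⟶ X), ∃ g' : Spec (.of K) ⟶ Y, g' ≫ π = g := by
  intro K _ g
  set x₀ := g (IsLocalRing.closedPoint K) with hx₀
  let φ : X.residueField x₀ ⟶ .of K := X.descResidueField (Scheme.stalkClosedPointTo g)
  have hg : Spec.map φ ≫ X.fromSpecResidueField x₀ = g :=
    Scheme.descResidueField_stalkClosedPointTo_fromSpecResidueField K X g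
  obtain ⟨l, hl⟩ := h x₀
  exact ⟨Spec.map φ ≫ l, by rw [Category.assoc, hl, hg]⟩

end Groth.Agent.Lib.Helper4.SemiNormB
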