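import Mathlib
import Groth.Prelude
import Groth.Agent.Lib.Helper11.SNScheme
import Groth.Agent.Lib.Helper4.SemiNormB

/-!
# (G9) field points lift when residue-field points do, in the `LiftsFieldPoints` form

Sub-lemma (G9) requested by helper9 for S13109.
-/

set_option autoImplicit false

universe u

open CategoryTheory CategoryTheory.Limits AlgebraicGeometry TopologicalSpace W4c1hilbchowinc

namespace Groth.Agent.Lib.Helper4.SemiNormC

theorem liftsFieldPoints_of_forall_residueField_lift {Y X : Scheme.{u}} (π : Y ⟶ X)
    (h : ∀ x : X, ∃ l : Spec (X.residueField x) ⟶ Y, l ≫ π = X.fromSpecResidueField x) :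
    Groth.Agent.Lib.Helper11.SNScheme.LiftsFieldPoints π :=
  Groth.Agent.Lib.Helper4.SemiNormB.forall_field_lift_of_forall_residueField_lift π h

end Groth.Agent.Lib.Helper4.SemiNormC
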