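import Mathlib
import Groth.Agent.Lib.Helper4.LenQuot
import Groth.Agent.Lib.Helper4.CommonFactor
import Groth.Agent.Lib.Helper4.SemilocalPrincipal
import Groth.Agent.Lib.Helper4.OneDimRel

set_option autoImplicit false
set_option linter.style.haveILetI false
set_option linter.unusedSectionVars false
set_option linter.unusedVariables false
set_option linter.unusedSimpArgs false
set_option maxHeartbeats 1600000
set_option maxSynthPendingDepth 3

universe u

/-!
# Common factor over a finite extension (semilocal version)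

`A` one-dimensional Noetherian local, `K` its total ring of fractions, `B ⊆ K` a finite
`A`-subalgebra, `x y ∈ B` with `x` a unit of `K`. Then there is a finite `A`-subalgebra
`B'' ⊇ B` in which the ideal `(x, y)` is principal.
-/

namespace Groth.Agent.Lib.Helper4.SemilocalCF

open IsLocalRing CommonFactor

section general

variable (R : Type u) [CommRing R] {K : Type u} [CommRing K] [Algebra R K]

theorem relK (a b : R) (α' : K) (hα' : algebraMap R K a * α' = 1) (c : ℕ → R) (n : ℕ)
    (hrel : ∑ j ∈ Finset.range (n + 1), c j * (a ^ (n - j) * b ^ j) = 0) :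
    ∑ j ∈ Finset.range (n + 1), algebraMap R K (c j) * (algebraMap R K b * α') ^ j = 0 := by
  set φ := algebraMap R K with hφ
  have h1 : φ (∑ j ∈ Finset.range (n + 1), c j * (a ^ (n - j) * b ^ j)) * α' ^ n = 0 := by
    rw [hrel, map_zero, zero_mul]
  rw [map_sum, Finset.sum_mul] at h1
  rw [← h1]
  refine Finset.sum_congr rfl (fun j hj => ?_)
  have hj' : j ≤ n := Nat.lt_succ_iff.mp (Finset.mem_range.mp hj)
  have hp : α' ^ n = α' ^ (n - j) * α' ^ j := by rw [← pow_add, Nat.sub_add_cancel hj']
  rw [map_mul, map_mul, map_pow, map_pow, hp]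
  calc φ (c j) * (φ b * α') ^ j = φ (c j) * ((φ a * α') ^ (n - j) * (φ b * α') ^ j) := by
        rw [hα', one_pow, one_mul]
    _ = _ := by rw [mul_pow, mul_pow]; ring

theorem loc_principal (u : K) (c : ℕ → R) (n : ℕ) (a b : R)
    (hαu : algebraMap R K a * u = algebraMap R K b)
    (hrelK : ∑ j ∈ Finset.range (n + 1), algebraMap R K (c j) * u ^ j = 0)
    (i0 : ℕ) (hi0 : i0 ≤ n) (N : Ideal (T R u n)) (hN : N.IsMaximal)
    (hcN : algebraMap R (T R u n) (c i0) ∉ N) :
    ∃ g ∈ Ideal.span ({algebraMap R (T R u n) a, algebraMap R (T R u n) b} : Set (T R u n)),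
      ∃ s, s ∉ N ∧ ∀ x ∈ Ideal.span
        ({algebraMap R (T R u n) a, algebraMap R (T R u n) b} : Set (T R u n)),
        s * x ∈ Ideal.span {g} := by
  set φ := algebraMap R K with hφ
  set A : T R u n := algebraMap R (T R u n) a with hA
  set B : T R u n := algebraMap R (T R u n) b with hB
  let Hk : ∀ k, k ≤ n + 1 → T R u n := fun k hk => ⟨H R u c n k, H_mem_T R u c n hrelK k hk⟩
  let Gk : ∀ k, k ≤ n → T R u n := fun k hk =>
    ⟨u * H R u c n (k + 1), uH_mem_T R u c n hrelK k hk⟩
  have hAG : ∀ k (hk : k ≤ n), Gk k hk * A = Hk (k + 1) (by omega) * B := by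
    intro k hk
    apply Subtype.ext
    show u * H R u c n (k + 1) * φ a = H R u c n (k + 1) * φ b
    rw [← hαu]; ring
  have hcHG : algebraMap R (T R u n) (c i0) = Hk i0 (by omega) - Gk i0 hi0 := by
    apply Subtype.ext
    show φ (c i0) = H R u c n i0 - u * H R u c n (i0 + 1)
    rw [H_succ R u c n i0 hi0]; ring
  by_cases hG : Gk i0 hi0 ∈ N
  · have hHN : Hk i0 (by omega) ∉ N := by
      intro hH
      apply hcN
      rw [hcHG]
      exact N.sub_mem hH hG
    have hi1 : 1 ≤ i0 := by
      by_contra h0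
      have h00 : i0 = 0 := by omega
      apply hHN
      have : Hk i0 (by omega) = 0 := by
        apply Subtype.ext
        show H R u c n i0 = 0
        rw [h00]; exact H_zero R u c n hrelK
      rw [this]; exact N.zero_mem
    refine ⟨A, Ideal.subset_span (Set.mem_insert _ _), Hk i0 (by omega), hHN, ?_⟩
    have h1 : Hk i0 (by omega) * B = Gk (i0 - 1) (by omega) * A := by
      apply Subtype.ext
      show H R u c n i0 * φ b = u * H R u c n (i0 - 1 + 1) * φ a
      rw [Nat.sub_add_cancel hi1, ← hαu]; ring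
    have h2 := mul_mem_span_of_eq (X := B) (Y := A) h1
    intro x hx
    exact h2 x (by rw [Ideal.span_pair_comm]; exact hx)
  · refine ⟨B, Ideal.subset_span (Set.mem_insert_of_mem _ (Set.mem_singleton _)), Gk i0 hi0, hG, ?_⟩
    exact mul_mem_span_of_eq (hAG i0 hi0)

end general

variable {A : Type u} [CommRing A] [IsNoetherianRing A] [IsLocalRing A]
variable {K : Type u} [CommRing K] [Algebra A K] [IsFractionRing A K]

theorem den_unit {x : K} (hx : IsUnit x) :
    ∃ s ∈ nonZeroDivisors A, ∃ r : A, algebraMap A K s = x * algebraMap A K r := by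
  obtain ⟨xi, hxi⟩ := hx.exists_right_inv
  obtain ⟨⟨r, s⟩, h⟩ := IsLocalization.surj (nonZeroDivisors A) xi
  refine ⟨s, s.2, r, ?_⟩
  have h' : xi * algebraMap A K s = algebraMap A K r := h
  calc algebraMap A K s = x * xi * algebraMap A K s := by rw [hxi, one_mul]
    _ = x * algebraMap A K r := by rw [mul_assoc, h']

theorem den_fin (B : Subalgebra A K) (hB : (Subalgebra.toSubmodule B).FG) :
    ∃ s ∈ nonZeroDivisors A, ∀ z ∈ B, ∃ r : A, algebraMap A K r = algebraMap A K s * z := by
  classical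
  obtain ⟨G, hG⟩ := hB
  obtain ⟨s, hs⟩ := IsLocalization.exist_integer_multiples_of_finset (nonZeroDivisors A) G
  refine ⟨s, s.2, ?_⟩
  let D : Submodule A K := Submodule.comap (LinearMap.lsmul A K (s : A))
    (LinearMap.range (Algebra.linearMap A K))
  have hGD : (G : Set K) ⊆ D := by
    intro g hg
    obtain ⟨r, hr⟩ := hs g hg
    exact ⟨r, by
      show algebraMap A K r = (s : A) • g
      rw [hr]⟩
  have hle : Subalgebra.toSubmodule B ≤ D := by
    rw [← hG]; exact Submodule.span_le.mpr hGD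
  intro z hz
  obtain ⟨r, hr⟩ := hle hz
  refine ⟨r, ?_⟩
  have : algebraMap A K r = (s : A) • z := hr
  rw [this, Algebra.smul_def]

/-- The semilocal common factor lemma. -/
theorem exists_common_factor (hdim : ringKrullDim A = 1) (B : Subalgebra A K)
    (hB : (Subalgebra.toSubmodule B).FG) (x y : K) (hx : x ∈ B) (hy : y ∈ B) (hxu : IsUnit x) :
    ∃ B'' : Subalgebra A K, B ≤ B'' ∧ (Subalgebra.toSubmodule B'').FG ∧
      ∃ t x' y' p q : K, t ∈ B'' ∧ x' ∈ B'' ∧ y' ∈ B'' ∧ p ∈ B'' ∧ q ∈ B'' ∧
        x = t * x' ∧ y = t * y' ∧ t = p * x + q * y := by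
  classical
  haveI := OneDimRel.krullDimLE_one hdim
  haveI hBfin0 : Module.Finite A (Subalgebra.toSubmodule B) := Module.Finite.iff_fg.mpr hB
  haveI hBfin : Module.Finite A B := Module.Finite.equiv (Subalgebra.toSubmoduleEquiv B)
  haveI : IsNoetherianRing B :=
    isNoetherian_of_tower A (isNoetherian_of_isNoetherianRing_of_finite A B)
  set φ := algebraMap A K with hφ
  let X : B := ⟨x, hx⟩
  let Y : B := ⟨y, hy⟩
  let μ : B →ₗ[A] B := LinearMap.mulLeft A X
  have hμ : Function.Injective μ := by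
    intro w w' h
    apply Subtype.ext
    have h1 : x * (w : K) = x * (w' : K) := congrArg Subtype.val h
    exact hxu.mul_right_injective h1
  obtain ⟨s, hs, r, hsr⟩ := den_unit (A := A) hxu
  let R0 : B := algebraMap A B r
  have hsX : algebraMap A B s = X * R0 := by
    apply Subtype.ext
    show φ s = x * φ r
    exact hsr
  have hsw : ∀ (m : ℕ) (w : B), (s ^ m) • w = X ^ m * (R0 ^ m * w) := by
    intro m w
    rw [Algebra.smul_def, map_pow, hsX, mul_pow, mul_assoc]
  have hfl : ∀ m : ℕ, IsFiniteLength A (A ⧸ Ideal.span {s ^ m}) := fun m =>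
    isFiniteLength_quotient_span_singleton A (pow_mem hs m)
  have he0 : Module.length A (B ⧸ LinearMap.range μ) ≠ ⊤ := by
    refine LenQuot.length_quot_ne_top_of_smul_mem (hfl 1) _ (fun w => ⟨R0 ^ 1 * w, ?_⟩)
    have h1 := hsw 1 w
    rw [h1]
    show X * (R0 ^ 1 * w) = X ^ 1 * (R0 ^ 1 * w)
    rw [pow_one X]
  set e : ℕ := (Module.length A (B ⧸ LinearMap.range μ)).toNat with he
  have hee : Module.length A (B ⧸ LinearMap.range μ) = (e : ℕ∞) := (ENat.coe_toNat he0).symm
  set n : ℕ := e + 1 with hn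
  let ξ : ℕ → B := fun j => X ^ (n - j) * Y ^ j
  let J : Ideal B := Ideal.span (ξ '' Set.Iio (n + 1))
  let JA : Submodule A B := J.restrictScalars A
  have hξJ : ∀ i, i < n + 1 → ξ i ∈ J := fun i hi => Ideal.subset_span ⟨i, hi, rfl⟩
  have hJfin : Module.length A (B ⧸ JA) ≠ ⊤ := by
    refine LenQuot.length_quot_ne_top_of_smul_mem (hfl n) _ (fun w => ?_)
    rw [hsw n w]
    have h0 : ξ 0 = X ^ n := by simp [ξ]
    show X ^ n * (R0 ^ n * w) ∈ J
    rw [← h0]
    exact J.mul_mem_right _ (hξJ 0 (by omega))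
  have hμJ : JA.map μ ≤ JA := by
    rintro _ ⟨w, hw, rfl⟩
    show X * w ∈ J
    exact J.mul_mem_left _ hw
  obtain ⟨i, hie, hmem⟩ := LenQuot.exists_mem_of_length μ hμ JA hJfin hμJ e hee ξ
    (fun i hi => hξJ i (by omega))
  obtain ⟨y1, hy1, z, hz, hyz⟩ := Submodule.mem_sup.mp hmem
  obtain ⟨w, hw, rfl⟩ := hy1
  have hw' : w ∈ Submodule.span B (ξ '' Set.Iio (n + 1)) := hw
  obtain ⟨d, hd, hdw⟩ := (Finsupp.mem_span_image_iff_linearCombination B).mp hw'
  obtain ⟨l, hl, hlz⟩ := (Finsupp.mem_span_image_iff_linearCombination A).mp hz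
  have hdsupp : d.support ⊆ Finset.range (n + 1) := by
    intro j hj
    have := (Finsupp.mem_supported B d).mp hd (Finset.mem_coe.mpr hj)
    exact Finset.mem_range.mpr this
  have hlsupp : l.support ⊆ Finset.range (n + 1) := by
    intro j hj
    have h1 : j < i := (Finsupp.mem_supported A l).mp hl (Finset.mem_coe.mpr hj)
    exact Finset.mem_range.mpr (by omega)
  have hli : l i = 0 := by
    by_contra h0
    have h1 : i < i := (Finsupp.mem_supported A l).mp hl
      (Finset.mem_coe.mpr (Finsupp.mem_support_iff.mpr h0))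
    exact lt_irrefl i h1
  have hsumd : ∑ j ∈ Finset.range (n + 1), d j * ξ j = w := by
    rw [← hdw, Finsupp.linearCombination_apply,
      Finsupp.sum_of_support_subset d hdsupp (fun j r => r • ξ j) (fun j _ => zero_smul _ _)]
    rfl
  have hsuml : ∑ j ∈ Finset.range (n + 1), algebraMap A B (l j) * ξ j = z := by
    rw [← hlz, Finsupp.linearCombination_apply,
      Finsupp.sum_of_support_subset l hlsupp (fun j r => r • ξ j) (fun j _ => zero_smul _ _)]
    refine Finset.sum_congr rfl (fun j _ => ?_)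
    rw [Algebra.smul_def]
  let c : ℕ → B := fun j => (if j = i then 1 else 0) - X * d j - algebraMap A B (l j)
  have hci : c i = 1 - X * d i := by
    show (if i = i then (1 : B) else 0) - X * d i - algebraMap A B (l i) = 1 - X * d i
    rw [if_pos rfl, hli, map_zero, sub_zero]
  have hrel : ∑ j ∈ Finset.range (n + 1), c j * (X ^ (n - j) * Y ^ j) = 0 := by
    have hi_mem : i ∈ Finset.range (n + 1) := Finset.mem_range.mpr (by omega)
    have h1 : ∀ j, c j * ξ j =
        (if j = i then ξ j else 0) - X * (d j * ξ j) - algebraMap A B (l j) * ξ j := by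
      intro j
      show ((if j = i then (1 : B) else 0) - X * d j - algebraMap A B (l j)) * ξ j = _
      split_ifs <;> ring
    show ∑ j ∈ Finset.range (n + 1), c j * ξ j = 0
    simp only [h1, Finset.sum_sub_distrib, ← Finset.mul_sum, hsumd, hsuml,
      Finset.sum_ite_eq', hi_mem, if_true]
    rw [← hyz]
    have hμw : μ w = X * w := rfl
    rw [hμw]; ring
  -- the ambient side
  obtain ⟨xi, hxi⟩ := hxu.exists_right_inv
  set u : K := y * xi with hu
  have hXval : algebraMap B K X = x := rfl
  have hYval : algebraMap B K Y = y := rfl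
  have hαu : algebraMap B K X * u = algebraMap B K Y := by
    rw [hXval, hYval, hu, mul_comm y, ← mul_assoc, hxi, one_mul]
  have hrelK : ∑ j ∈ Finset.range (n + 1), algebraMap B K (c j) * u ^ j = 0 := by
    have := relK B X Y xi (by rw [hXval]; exact hxi) c n hrel
    rw [hYval] at this
    exact this
  have hn0 : 0 < n := by omega
  let T₁ : Subalgebra B K := T B u n
  haveI hT₁fin : Module.Finite B T₁ := T_finite B u n hn0
  haveI hT₁finA : Module.Finite A T₁ := Module.Finite.trans B T₁
  haveI : Finite (MaximalSpectrum T₁) := SemilocalPrincipal.finite_maximalSpectrum A T₁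
  let A₁ : T₁ := algebraMap B T₁ X
  let B₁ : T₁ := algebraMap B T₁ Y
  have hloc : ∀ N : Ideal T₁, N.IsMaximal →
      ∃ g ∈ Ideal.span ({A₁, B₁} : Set T₁), ∃ s, s ∉ N ∧
        ∀ z ∈ Ideal.span ({A₁, B₁} : Set T₁), s * z ∈ Ideal.span {g} := by
    intro N hN
    by_cases hAN : A₁ ∈ N
    · have hcN : algebraMap B T₁ (c i) ∉ N := by
        intro hmem
        apply hN.ne_top
        rw [Ideal.eq_top_iff_one]
        have h1 : (1 : T₁) = algebraMap B T₁ (c i) + A₁ * algebraMap B T₁ (d i) := by
          rw [hci, map_sub, map_one, map_mul]; ring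
        rw [h1]
        exact N.add_mem hmem (N.mul_mem_right _ hAN)
      exact loc_principal B u c n X Y hαu hrelK i (by omega) N hN hcN
    · refine ⟨A₁, Ideal.subset_span (Set.mem_insert _ _), A₁, hAN, ?_⟩
      intro z _
      rw [mul_comm]
      exact Ideal.mul_mem_left _ _ (Ideal.mem_span_singleton_self _)
  obtain ⟨t, htI, hIt⟩ := SemilocalPrincipal.exists_principal _ hloc
  obtain ⟨a', ha'⟩ := Ideal.mem_span_singleton'.mp
    (hIt (Ideal.subset_span (Set.mem_insert A₁ {B₁})))
  obtain ⟨b', hb'⟩ := Ideal.mem_span_singleton'.mp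
    (hIt (Ideal.subset_span (Set.mem_insert_of_mem A₁ (Set.mem_singleton B₁))))
  obtain ⟨p, q, hpq⟩ := Ideal.mem_span_pair.mp htI
  refine ⟨T₁.restrictScalars A, ?_, ?_, (t : K), (a' : K), (b' : K), (p : K), (q : K),
    t.2, a'.2, b'.2, p.2, q.2, ?_, ?_, ?_⟩
  · intro z hz
    exact (T₁.algebraMap_mem ⟨z, hz⟩ : algebraMap B K ⟨z, hz⟩ ∈ T₁)
  · let eqv : T₁ ≃ₗ[A] Subalgebra.toSubmodule (T₁.restrictScalars A) :=
      { toFun := fun z => ⟨z.1, z.2⟩
        invFun := fun z => ⟨z.1, z.2⟩
        map_add' := fun _ _ => rfl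
        map_smul' := fun _ _ => rfl
        left_inv := fun _ => rfl
        right_inv := fun _ => rfl }
    haveI : Module.Finite A (Subalgebra.toSubmodule (T₁.restrictScalars A)) :=
      Module.Finite.equiv eqv
    exact Module.Finite.iff_fg.mp inferInstance
  · have h1 : ((a' * t : T₁) : K) = ((A₁ : T₁) : K) := congrArg Subtype.val ha'
    have h2 : ((A₁ : T₁) : K) = x := rfl
    rw [← h2, ← h1]
    show (a' : K) * (t : K) = (t : K) * (a' : K)
    ring
  · have h1 : ((b' * t : T₁) : K) = ((B₁ : T₁) : K) := congrArg Subtype.val hb'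
    have h2 : ((B₁ : T₁) : K) = y := rfl
    rw [← h2, ← h1]
    show (b' : K) * (t : K) = (t : K) * (b' : K)
    ring
  · have h1 : ((p * A₁ + q * B₁ : T₁) : K) = (t : K) := congrArg Subtype.val hpq
    rw [← h1]
    rfl

end Groth.Agent.Lib.Helper4.SemilocalCF
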