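import Mathlib

/-!
# `V(σ₂, σ₄) ⊂ A⁵`: explicit formulas, symmetry, special points (helper4)
-/

set_option autoImplicit false
set_option linter.style.haveILetI false
set_option linter.unusedSectionVars false
set_option linter.unusedVariables false
set_option linter.unusedSimpArgs false
set_option linter.unusedTactic false
set_option linter.unreachableTactic false
set_option linter.deprecated false
set_option maxHeartbeats 1600000
set_option maxSynthPendingDepth 3

universe u

namespace Groth.Agent.Lib.Helper4.Sig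

section Defs
variable (k : Type u) [Field k]

/-- explicit `σ₂` in five variables -/
noncomputable def s2 : MvPolynomial (Fin 5) k :=
  MvPolynomial.X 0 * MvPolynomial.X 1 + MvPolynomial.X 0 * MvPolynomial.X 2 +
  MvPolynomial.X 0 * MvPolynomial.X 3 + MvPolynomial.X 0 * MvPolynomial.X 4 +
  MvPolynomial.X 1 * MvPolynomial.X 2 + MvPolynomial.X 1 * MvPolynomial.X 3 +
  MvPolynomial.X 1 * MvPolynomial.X 4 + MvPolynomial.X 2 * MvPolynomial.X 3 +
  MvPolynomial.X 2 * MvPolynomial.X 4 + MvPolynomial.X 3 * MvPolynomial.X 4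

/-- explicit `σ₄` in five variables -/
noncomputable def s4 : MvPolynomial (Fin 5) k :=
  MvPolynomial.X 0 * MvPolynomial.X 1 * MvPolynomial.X 2 * MvPolynomial.X 3 +
  MvPolynomial.X 0 * MvPolynomial.X 1 * MvPolynomial.X 2 * MvPolynomial.X 4 +
  MvPolynomial.X 0 * MvPolynomial.X 1 * MvPolynomial.X 3 * MvPolynomial.X 4 +
  MvPolynomial.X 0 * MvPolynomial.X 2 * MvPolynomial.X 3 * MvPolynomial.X 4 +
  MvPolynomial.X 1 * MvPolynomial.X 2 * MvPolynomial.X 3 * MvPolynomial.X 4

theorem esymm_two : MvPolynomial.esymm (Fin 5) k 2 = s2 k := by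
  have h : Finset.powersetCard 2 (Finset.univ : Finset (Fin 5)) =
      {{0,1},{0,2},{0,3},{0,4},{1,2},{1,3},{1,4},{2,3},{2,4},{3,4}} := by decide
  unfold MvPolynomial.esymm
  rw [h]
  simp (config := {decide := true}) [Finset.sum_insert, Finset.prod_insert, s2]
  try ring

theorem esymm_four : MvPolynomial.esymm (Fin 5) k 4 = s4 k := by
  have h : Finset.powersetCard 4 (Finset.univ : Finset (Fin 5)) =
      {{0,1,2,3},{0,1,2,4},{0,1,3,4},{0,2,3,4},{1,2,3,4}} := by decide
  unfold MvPolynomial.esymm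
  rw [h]
  simp (config := {decide := true}) [Finset.sum_insert, Finset.prod_insert, s4]
  try ring

end Defs

section Points
variable {k : Type u} [Field k]

/-- membership in `V(σ₂, σ₄)` -/
def InV (p : Fin 5 → k) : Prop :=
  MvPolynomial.eval p (MvPolynomial.esymm (Fin 5) k 2) = 0 ∧
  MvPolynomial.eval p (MvPolynomial.esymm (Fin 5) k 4) = 0

theorem inV_iff (p : Fin 5 → k) : InV p ↔
    (p 0 * p 1 + p 0 * p 2 + p 0 * p 3 + p 0 * p 4 + p 1 * p 2 + p 1 * p 3 + p 1 * p 4 +
      p 2 * p 3 + p 2 * p 4 + p 3 * p 4 = 0 ∧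
     p 0 * p 1 * p 2 * p 3 + p 0 * p 1 * p 2 * p 4 + p 0 * p 1 * p 3 * p 4 +
      p 0 * p 2 * p 3 * p 4 + p 1 * p 2 * p 3 * p 4 = 0) := by
  unfold InV
  rw [esymm_two, esymm_four]
  simp [s2, s4]

theorem InV.perm {p : Fin 5 → k} (hp : InV p) (π : Equiv.Perm (Fin 5)) : InV (p ∘ π) := by
  unfold InV at hp ⊢
  rw [← MvPolynomial.eval_rename, ← MvPolynomial.eval_rename, MvPolynomial.rename_esymm,
    MvPolynomial.rename_esymm]
  exact hp

theorem InV.smul {p : Fin 5 → k} (hp : InV p) (e : k) : InV (fun i => e * p i) := by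
  rw [inV_iff] at hp ⊢
  obtain ⟨h2, h4⟩ := hp
  constructor
  · linear_combination e ^ 2 * h2
  · linear_combination e ^ 4 * h4

theorem exists_perm3 {α : Type*} [DecidableEq α] (a b c i j l : α) (hab : a ≠ b) (hac : a ≠ c)
    (hbc : b ≠ c) (hij : i ≠ j) (hil : i ≠ l) (hjl : j ≠ l) :
    ∃ π : Equiv.Perm α, π a = i ∧ π b = j ∧ π c = l := by
  let π₁ : Equiv.Perm α := Equiv.swap a i
  have h1 : π₁ a = i := Equiv.swap_apply_left a i
  let π₂ : Equiv.Perm α := Equiv.swap b (π₁.symm j)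
  have ha2 : π₂ a = a := by
    apply Equiv.swap_apply_of_ne_of_ne hab
    intro h; apply hij; rw [← h1, h, Equiv.apply_symm_apply]
  have hb2 : π₂ b = π₁.symm j := Equiv.swap_apply_left _ _
  let ρ : Equiv.Perm α := π₂.trans π₁
  have hρa : ρ a = i := by
    show π₁ (π₂ a) = i
    rw [ha2, h1]
  have hρb : ρ b = j := by
    show π₁ (π₂ b) = j
    rw [hb2, Equiv.apply_symm_apply]
  let π₃ : Equiv.Perm α := Equiv.swap c (ρ.symm l)
  have ha3 : π₃ a = a := by
    apply Equiv.swap_apply_of_ne_of_ne hac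
    intro h; apply hil; rw [← hρa, h, Equiv.apply_symm_apply]
  have hb3 : π₃ b = b := by
    apply Equiv.swap_apply_of_ne_of_ne hbc
    intro h; apply hjl; rw [← hρb, h, Equiv.apply_symm_apply]
  have hc3 : π₃ c = ρ.symm l := Equiv.swap_apply_left _ _
  refine ⟨π₃.trans ρ, ?_, ?_, ?_⟩
  · show ρ (π₃ a) = i
    rw [ha3, hρa]
  · show ρ (π₃ b) = j
    rw [hb3, hρb]
  · show ρ (π₃ c) = l
    rw [hc3, Equiv.apply_symm_apply]

theorem exists_third (i j : Fin 5) : ∃ l : Fin 5, i ≠ l ∧ j ≠ l := by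
  revert i j; decide

/-- standard position: `p₂ + p₃ = 0` on `V` forces `p₂ = 0`. -/
theorem InV.zero_of_add_std {p : Fin 5 → k} (hp : InV p) (h : p 2 + p 3 = 0) : p 2 = 0 := by
  rw [inV_iff] at hp
  obtain ⟨h2, h4⟩ := hp
  have h3 : p 3 = - p 2 := by linear_combination h
  rw [h3] at h2 h4
  have : p 2 ^ 4 = 0 := by linear_combination (-1 : k) * h4 - (p 2) ^ 2 * h2
  exact pow_eq_zero_iff (by norm_num) |>.mp this

theorem InV.zero_of_add {p : Fin 5 → k} (hp : InV p) {i j : Fin 5} (hij : i ≠ j)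
    (h : p i + p j = 0) : p i = 0 := by
  obtain ⟨l, hil, hjl⟩ := exists_third i j
  obtain ⟨π, h2, h3, _⟩ := exists_perm3 (2 : Fin 5) 3 4 i j l (by decide) (by decide) (by decide)
    hij hil hjl
  have := (hp.perm π).zero_of_add_std (by simp only [Function.comp_apply, h2, h3]; exact h)
  simpa only [Function.comp_apply, h2] using this

/-- the value-level `α = f₃ - f₁ f₂` -/
def alv (a b c : k) : k := a * b * c - (a + b + c) * (a * b + a * c + b * c)

theorem alv_eq (a b c : k) : alv a b c = -((a + b) * (a + c) * (b + c)) := by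
  unfold alv; ring

theorem alv_ne_zero_of_inV {p : Fin 5 → k} (hp : InV p) {i j l : Fin 5} (hij : i ≠ j)
    (hil : i ≠ l) (hjl : j ≠ l) (hi : p i ≠ 0) (hj : p j ≠ 0) : alv (p i) (p j) (p l) ≠ 0 := by
  rw [alv_eq, neg_ne_zero]
  refine mul_ne_zero (mul_ne_zero ?_ ?_) ?_
  · intro h; exact hi (hp.zero_of_add hij h)
  · intro h; exact hi (hp.zero_of_add hil h)
  · intro h; exact hj (hp.zero_of_add hjl h)

theorem alv_ne_zero_of_pow5 [CharZero k] {a b c : k} (ha : a ^ 5 = 1) (hb : b ^ 5 = 1)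
    (hc : c ^ 5 = 1) : alv a b c ≠ 0 := by
  have key : ∀ u v : k, u ^ 5 = 1 → v ^ 5 = 1 → u + v ≠ 0 := by
    intro u v hu hv h
    have huv : u = -v := by linear_combination h
    rw [huv] at hu
    have : (2 : k) = 0 := by linear_combination (-1 : k) * hv - hu
    exact two_ne_zero this
  rw [alv_eq, neg_ne_zero]
  exact mul_ne_zero (mul_ne_zero (key a b ha hb) (key a c ha hc)) (key b c hb hc)

/-- the fifth-roots-of-unity point of `V`. -/
theorem exists_p0 [IsAlgClosed k] [CharZero k] :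
    ∃ p₀ : Fin 5 → k, InV p₀ ∧ ∀ i, p₀ i ^ 5 = 1 := by
  have hdeg : (Polynomial.X ^ 4 + Polynomial.X ^ 3 + Polynomial.X ^ 2 + Polynomial.X + 1 :
      Polynomial k).natDegree = 4 := by compute_degree!
  obtain ⟨ζ, hζ⟩ := IsAlgClosed.exists_root
    (Polynomial.X ^ 4 + Polynomial.X ^ 3 + Polynomial.X ^ 2 + Polynomial.X + 1 : Polynomial k)
    (by
      intro h0
      have := Polynomial.natDegree_eq_of_degree_eq_some (n := 0) (by simpa using h0)
      rw [hdeg] at this; norm_num at this)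
  have hΦ : ζ ^ 4 + ζ ^ 3 + ζ ^ 2 + ζ + 1 = 0 := by simpa [Polynomial.IsRoot] using hζ
  have h5 : ζ ^ 5 = 1 := by linear_combination (ζ - 1) * hΦ
  refine ⟨![1, ζ, ζ ^ 2, ζ ^ 3, ζ ^ 4], ?_, ?_⟩
  · rw [inV_iff]
    simp only [Matrix.cons_val_zero, Matrix.cons_val_one, Matrix.cons_val]
    constructor
    · linear_combination (ζ + ζ ^ 3) * hΦ
    · linear_combination (ζ ^ 6) * hΦ
  · intro i
    fin_cases i
    · simp
    · simpa using h5
    · simp only [Fin.reduceFinMk, Matrix.cons_val]; rw [← pow_mul, mul_comm, pow_mul, h5, one_pow]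
    · simp only [Fin.reduceFinMk, Matrix.cons_val]; rw [← pow_mul, mul_comm, pow_mul, h5, one_pow]
    · simp only [Fin.reduceFinMk, Matrix.cons_val]; rw [← pow_mul, mul_comm, pow_mul, h5, one_pow]

end Points

end Groth.Agent.Lib.Helper4.Sig
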