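import Groth.Agent.Lib.Helper4.SigA

/-!
# `V(σ₂, σ₄) ⊂ A⁵`: the function field of the main component as a double cover of `A³` (helper4)
-/

set_option autoImplicit false
set_option linter.style.haveILetI false
set_option linter.unusedSectionVars false
set_option linter.unusedVariables false
set_option linter.unusedSimpArgs false
set_option linter.unusedTactic false
set_option linter.unreachableTactic false
set_option linter.deprecated false
set_option maxHeartbeats 1600000
set_option maxSynthPendingDepth 3

universe u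

namespace Groth.Agent.Lib.Helper4.Sig

section Constr
variable (k : Type u) [Field k] [CharZero k]

noncomputable def f1 : MvPolynomial (Fin 3) k :=
  MvPolynomial.X 0 + MvPolynomial.X 1 + MvPolynomial.X 2
noncomputable def f2 : MvPolynomial (Fin 3) k :=
  MvPolynomial.X 0 * MvPolynomial.X 1 + MvPolynomial.X 0 * MvPolynomial.X 2 +
    MvPolynomial.X 1 * MvPolynomial.X 2
noncomputable def f3 : MvPolynomial (Fin 3) k :=
  MvPolynomial.X 0 * MvPolynomial.X 1 * MvPolynomial.X 2
noncomputable def al : MvPolynomial (Fin 3) k := f3 k - f1 k * f2 k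
noncomputable def disc : MvPolynomial (Fin 3) k := (f2 k) ^ 4 + 4 * al k * f2 k * f3 k

theorem eval_al (a b c : k) : MvPolynomial.eval ![a, b, c] (al k) = alv a b c := by
  simp [al, f1, f2, f3, alv]

theorem al_ne_zero : al k ≠ 0 := by
  intro h
  have := eval_al k 0 1 1
  rw [h, map_zero] at this
  unfold alv at this
  norm_num at this

/-- specialisation `(y₁,y₂,y₃) ↦ (t,1,1)` -/
noncomputable def sp : MvPolynomial (Fin 3) k →+* Polynomial k :=
  MvPolynomial.eval₂Hom Polynomial.C ![Polynomial.X, 1, 1]

theorem sp_disc : sp k (disc k) = -8 * Polynomial.X ^ 3 - 8 * Polynomial.X ^ 2 + 1 := by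
  simp [sp, disc, al, f1, f2, f3]
  ring

theorem disc_not_sq (y : MvPolynomial (Fin 3) k) : y ^ 2 ≠ disc k := by
  intro h
  have h1 := congrArg (sp k) h
  rw [map_pow, sp_disc] at h1
  have h2 := congrArg Polynomial.natDegree h1
  rw [Polynomial.natDegree_pow] at h2
  have h3 : (-8 * Polynomial.X ^ 3 - 8 * Polynomial.X ^ 2 + 1 : Polynomial k).natDegree = 3 := by
    compute_degree!
  omega

abbrev Aal := Localization.Away (al k)
abbrev KK := FractionRing (MvPolynomial (Fin 3) k)

noncomputable def jj : Aal k := IsLocalization.Away.invSelf (al k)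

theorem al_mul_jj : algebraMap (MvPolynomial (Fin 3) k) (Aal k) (al k) * jj k = 1 :=
  IsLocalization.Away.mul_invSelf (al k)

theorem algebraMap_Aal_injective :
    Function.Injective (algebraMap (MvPolynomial (Fin 3) k) (Aal k)) :=
  IsLocalization.injective (Aal k)
    (powers_le_nonZeroDivisors_of_noZeroDivisors (al_ne_zero k))

instance : Nontrivial (Aal k) := (algebraMap_Aal_injective k).nontrivial

theorem algebraMap_KK_injective :
    Function.Injective (algebraMap (MvPolynomial (Fin 3) k) (KK k)) :=
  IsFractionRing.injective _ _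

noncomputable def iota : Aal k →+* KK k :=
  IsLocalization.Away.lift (al k) (g := algebraMap (MvPolynomial (Fin 3) k) (KK k))
    (IsUnit.mk0 _ ((map_ne_zero_iff _ (algebraMap_KK_injective k)).mpr (al_ne_zero k)))

theorem iota_algebraMap (a : MvPolynomial (Fin 3) k) :
    iota k (algebraMap _ (Aal k) a) = algebraMap _ (KK k) a := by
  unfold iota
  exact IsLocalization.Away.lift_eq _ _ _

theorem iota_injective : Function.Injective (iota k) := by
  rw [injective_iff_map_eq_zero]
  intro x hx
  obtain ⟨⟨a, s⟩, h⟩ := IsLocalization.surj (Submonoid.powers (al k)) x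
  have h' := congrArg (iota k) h
  rw [map_mul, hx, zero_mul, iota_algebraMap] at h'
  have ha : a = 0 := algebraMap_KK_injective k (by rw [← h', map_zero])
  simp only [ha, map_zero] at h
  exact (IsUnit.mul_left_eq_zero (IsLocalization.map_units (Aal k) s)).mp h

noncomputable def Y (i : Fin 3) : Aal k :=
  algebraMap (MvPolynomial (Fin 3) k) (Aal k) (MvPolynomial.X i)
noncomputable def F1 : Aal k := Y k 0 + Y k 1 + Y k 2
noncomputable def F2 : Aal k := Y k 0 * Y k 1 + Y k 0 * Y k 2 + Y k 1 * Y k 2
noncomputable def F3 : Aal k := Y k 0 * Y k 1 * Y k 2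

theorem al_Y : algebraMap _ (Aal k) (al k) = F3 k - F1 k * F2 k := by
  simp [al, f1, f2, f3, F1, F2, F3, Y]

theorem al_Y_jj : (F3 k - F1 k * F2 k) * jj k = 1 := by
  rw [← al_Y]; exact al_mul_jj k

noncomputable def SS : Aal k := (F2 k) ^ 2 * jj k
noncomputable def PP : Aal k := F2 k * F3 k * jj k

noncomputable def Qm : Polynomial (Aal k) :=
  Polynomial.X ^ 2 - Polynomial.C (SS k) * Polynomial.X - Polynomial.C (PP k)

theorem Qm_monic : (Qm k).Monic := by
  have : Qm k = Polynomial.X ^ 2 - (Polynomial.C (SS k) * Polynomial.X + Polynomial.C (PP k)) := by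
    unfold Qm; ring
  rw [this]
  apply Polynomial.monic_X_pow_sub
  exact_mod_cast Polynomial.degree_linear_lt

noncomputable def cc : k →+* Polynomial (Aal k) :=
  (Polynomial.C).comp ((algebraMap (MvPolynomial (Fin 3) k) (Aal k)).comp MvPolynomial.C)

noncomputable def vals : Fin 5 → Polynomial (Aal k) :=
  ![Polynomial.C (SS k) - Polynomial.X, Polynomial.X, Polynomial.C (Y k 0), Polynomial.C (Y k 1),
    Polynomial.C (Y k 2)]

noncomputable def theta : MvPolynomial (Fin 5) k →+* Polynomial (Aal k) :=
  MvPolynomial.eval₂Hom (cc k) (vals k)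

theorem theta_s2 : theta k (s2 k) = - Qm k := by
  have hj := congrArg Polynomial.C (al_Y_jj k)
  simp only [F1, F2, F3, map_sub, map_mul, map_add, map_one] at hj
  simp only [theta, s2, vals, map_add, map_mul, MvPolynomial.eval₂Hom_X', Matrix.cons_val_zero,
    Matrix.cons_val_one, Matrix.cons_val, Qm, SS, PP, F2, F3, map_pow]
  linear_combination (-(Polynomial.C (Y k 0) * Polynomial.C (Y k 1) +
    Polynomial.C (Y k 0) * Polynomial.C (Y k 2) + Polynomial.C (Y k 1) * Polynomial.C (Y k 2))) * hj

theorem theta_s4 : theta k (s4 k) = - Polynomial.C (F2 k) * Qm k := by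
  simp only [theta, s4, vals, map_add, map_mul, MvPolynomial.eval₂Hom_X', Matrix.cons_val_zero,
    Matrix.cons_val_one, Matrix.cons_val, Qm, SS, PP, F2, F3, map_pow]
  ring

/-- evaluation of the localisation at a point where `α ≠ 0` -/
noncomputable def evA (a b c : k) (h : alv a b c ≠ 0) : Aal k →+* k :=
  IsLocalization.Away.lift (al k) (g := MvPolynomial.eval ![a, b, c])
    (by rw [eval_al]; exact IsUnit.mk0 _ h)

theorem evA_algebraMap (a b c : k) (h : alv a b c ≠ 0) (q : MvPolynomial (Fin 3) k) :
    evA k a b c h (algebraMap _ (Aal k) q) = MvPolynomial.eval ![a, b, c] q := by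
  unfold evA
  exact IsLocalization.Away.lift_eq _ _ _

theorem evA_Y0 (a b c : k) (h : alv a b c ≠ 0) : evA k a b c h (Y k 0) = a := by
  unfold Y; rw [evA_algebraMap]; simp
theorem evA_Y1 (a b c : k) (h : alv a b c ≠ 0) : evA k a b c h (Y k 1) = b := by
  unfold Y; rw [evA_algebraMap]; simp
theorem evA_Y2 (a b c : k) (h : alv a b c ≠ 0) : evA k a b c h (Y k 2) = c := by
  unfold Y; rw [evA_algebraMap]; simp

theorem evA_jj (a b c : k) (h : alv a b c ≠ 0) : alv a b c * evA k a b c h (jj k) = 1 := by
  have := congrArg (evA k a b c h) (al_mul_jj k)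
  rwa [map_mul, evA_algebraMap, eval_al, map_one] at this

noncomputable def evP (a b c w : k) (h : alv a b c ≠ 0) : Polynomial (Aal k) →+* k :=
  Polynomial.eval₂RingHom (evA k a b c h) w

theorem evP_C (a b c w : k) (h : alv a b c ≠ 0) (x : Aal k) :
    evP k a b c w h (Polynomial.C x) = evA k a b c h x := by simp [evP]

theorem evP_X (a b c w : k) (h : alv a b c ≠ 0) :
    evP k a b c w h Polynomial.X = w := by simp [evP]

theorem evP_theta (a b c w : k) (h : alv a b c ≠ 0) :
    (evP k a b c w h).comp (theta k) =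
      MvPolynomial.eval ![(a * b + a * c + b * c) ^ 2 * evA k a b c h (jj k) - w, w, a, b, c] := by
  apply MvPolynomial.ringHom_ext
  · intro r
    simp [theta, cc, evP_C, evA_algebraMap]
  · intro i
    fin_cases i <;>
      simp [theta, vals, SS, F2, evP_C, evP_X, evA_Y0, evA_Y1, evA_Y2]

theorem evP_Qm (a b c w : k) (h : alv a b c ≠ 0) :
    evP k a b c w h (Qm k) = w ^ 2 - (a * b + a * c + b * c) ^ 2 * evA k a b c h (jj k) * w -
      (a * b + a * c + b * c) * (a * b * c) * evA k a b c h (jj k) := by
  simp [Qm, SS, PP, F2, F3, evP_C, evP_X, evA_Y0, evA_Y1, evA_Y2]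

/-- Claim A': an element whose `θ`-image is divisible by `Q` vanishes at the points of `V`
where `α ≠ 0`. -/
theorem eval_eq_zero_of_dvd (g : MvPolynomial (Fin 5) k) (hg : Qm k ∣ theta k g)
    (p : Fin 5 → k) (hp : InV p) (hα : alv (p 2) (p 3) (p 4) ≠ 0) :
    MvPolynomial.eval p g = 0 := by
  obtain ⟨h2, h4⟩ := (inV_iff p).mp hp
  set a := p 2 with ha
  set b := p 3 with hb
  set c := p 4 with hc
  set w := p 1 with hw
  set u := evA k a b c hα (jj k) with hu
  have hu1 : alv a b c * u = 1 := evA_jj k a b c hα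
  unfold alv at hu1
  have hlam : (a * b * c - (a + b + c) * (a * b + a * c + b * c)) * (p 0 + w) -
      (a * b + a * c + b * c) ^ 2 = 0 := by
    linear_combination h4 - (a * b + a * c + b * c) * h2
  have hp0 : p 0 = (a * b + a * c + b * c) ^ 2 * u - w := by
    linear_combination (-(p 0 + w)) * hu1 + u * hlam
  have hQ : (a * b * c - (a + b + c) * (a * b + a * c + b * c)) * w ^ 2 -
      (a * b + a * c + b * c) ^ 2 * w - (a * b + a * c + b * c) * (a * b * c) = 0 := by
    linear_combination (-(a * b * c - (a + b + c) * (a * b + a * c + b * c))) * h2 +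
      (w + (a + b + c)) * hlam
  have hpe : p = ![(a * b + a * c + b * c) ^ 2 * u - w, w, a, b, c] := by
    funext i
    fin_cases i
    · simpa using hp0
    · simp [hw]
    · simp [ha]
    · simp [hb]
    · simp [hc]
  obtain ⟨q, hq⟩ := hg
  have h1 : MvPolynomial.eval p g = evP k a b c w hα (theta k g) := by
    have := congrArg (fun φ : MvPolynomial (Fin 5) k →+* k => φ g) (evP_theta k a b c w hα)
    simp only [RingHom.comp_apply] at this
    rw [this, ← hpe]
  rw [h1, hq, map_mul, evP_Qm]
  have : w ^ 2 - (a * b + a * c + b * c) ^ 2 * u * w - (a * b + a * c + b * c) * (a * b * c) * u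
      = 0 := by
    linear_combination (-(w ^ 2)) * hu1 + u * hQ
  rw [this, zero_mul]

end Constr

end Groth.Agent.Lib.Helper4.Sig
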