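import Groth.Agent.Lib.Helper4.SigB

/-!
# `V(σ₂, σ₄) ⊂ A⁵` is irreducible: `rad (σ₂, σ₄)` is prime (helper4)
-/

set_option autoImplicit false
set_option linter.style.haveILetI false
set_option linter.unusedSectionVars false
set_option linter.unusedVariables false
set_option linter.unusedSimpArgs false
set_option linter.unusedTactic false
set_option linter.unreachableTactic false
set_option linter.deprecated false
set_option maxHeartbeats 1600000
set_option maxSynthPendingDepth 3

universe u

namespace Groth.Agent.Lib.Helper4.Sig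

section Irred
variable (k : Type u) [Field k] [CharZero k]

theorem QK_irreducible : Irreducible ((Qm k).map (iota k)) := by
  have hιY : ∀ i, iota k (Y k i) =
      algebraMap (MvPolynomial (Fin 3) k) (KK k) (MvPolynomial.X i) :=
    fun i => iota_algebraMap k _
  set z0 := algebraMap (MvPolynomial (Fin 3) k) (KK k) (MvPolynomial.X 0) with hz0
  set z1 := algebraMap (MvPolynomial (Fin 3) k) (KK k) (MvPolynomial.X 1) with hz1
  set z2 := algebraMap (MvPolynomial (Fin 3) k) (KK k) (MvPolynomial.X 2) with hz2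
  set j := iota k (jj k) with hj
  have hSS : iota k (SS k) = (z0 * z1 + z0 * z2 + z1 * z2) ^ 2 * j := by
    simp only [SS, F2, map_mul, map_pow, map_add, hιY]
    rfl
  have hPP : iota k (PP k) = (z0 * z1 + z0 * z2 + z1 * z2) * (z0 * z1 * z2) * j := by
    simp only [PP, F2, F3, map_mul, map_add, hιY]
    rfl
  have ha : algebraMap (MvPolynomial (Fin 3) k) (KK k) (al k) =
      z0 * z1 * z2 - (z0 + z1 + z2) * (z0 * z1 + z0 * z2 + z1 * z2) := by
    simp only [al, f1, f2, f3, map_sub, map_mul, map_add]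
    rfl
  have haj : (z0 * z1 * z2 - (z0 + z1 + z2) * (z0 * z1 + z0 * z2 + z1 * z2)) * j = 1 := by
    have := congrArg (iota k) (al_mul_jj k)
    rw [map_mul, iota_algebraMap, map_one, ha] at this
    exact this
  have hd : algebraMap (MvPolynomial (Fin 3) k) (KK k) (disc k) =
      (z0 * z1 + z0 * z2 + z1 * z2) ^ 4 +
        4 * (z0 * z1 * z2 - (z0 + z1 + z2) * (z0 * z1 + z0 * z2 + z1 * z2)) *
          (z0 * z1 + z0 * z2 + z1 * z2) * (z0 * z1 * z2) := by
    simp only [disc, al, f1, f2, f3, map_sub, map_mul, map_add, map_pow, map_ofNat]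
    rfl
  have hQK : (Qm k).map (iota k) = Polynomial.X ^ 2 - Polynomial.C (iota k (SS k)) * Polynomial.X -
      Polynomial.C (iota k (PP k)) := by
    simp [Qm]
  rw [hQK]
  have hdeg : (Polynomial.X ^ 2 - Polynomial.C (iota k (SS k)) * Polynomial.X -
      Polynomial.C (iota k (PP k)) : Polynomial (KK k)).natDegree = 2 := by compute_degree!
  rw [Polynomial.irreducible_iff_roots_eq_zero_of_degree_le_three (by rw [hdeg])
    (by rw [hdeg]; norm_num)]
  apply Multiset.eq_zero_of_forall_notMem
  intro r hr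
  have hr0 : r ^ 2 - iota k (SS k) * r - iota k (PP k) = 0 := by
    have := (Polynomial.mem_roots'.mp hr).2
    simpa [Polynomial.IsRoot] using this
  rw [hSS, hPP] at hr0
  have hs : ((z0 * z1 * z2 - (z0 + z1 + z2) * (z0 * z1 + z0 * z2 + z1 * z2)) * (2 * r) -
      (z0 * z1 + z0 * z2 + z1 * z2) ^ 2) ^ 2 =
      algebraMap (MvPolynomial (Fin 3) k) (KK k) (disc k) := by
    rw [hd]
    linear_combination
      (4 * (z0 * z1 * z2 - (z0 + z1 + z2) * (z0 * z1 + z0 * z2 + z1 * z2)) ^ 2) * hr0 +
      (4 * (z0 * z1 * z2 - (z0 + z1 + z2) * (z0 * z1 + z0 * z2 + z1 * z2)) *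
        ((z0 * z1 + z0 * z2 + z1 * z2) ^ 2 * r +
          (z0 * z1 + z0 * z2 + z1 * z2) * (z0 * z1 * z2))) * haj
  obtain ⟨y, hy⟩ := IsIntegrallyClosed.exists_algebraMap_eq_of_isIntegral_pow
    (R := MvPolynomial (Fin 3) k) (K := KK k) (n := 2) (by norm_num)
    (by rw [hs]; exact isIntegral_algebraMap)
  apply disc_not_sq k y
  apply algebraMap_KK_injective k
  rw [map_pow, hy, hs]

noncomputable def psi : MvPolynomial (Fin 5) k →+* AdjoinRoot ((Qm k).map (iota k)) :=
  (AdjoinRoot.mk _).comp ((Polynomial.mapRingHom (iota k)).comp (theta k))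

/-- the prime ideal of the main component -/
noncomputable def PI : Ideal (MvPolynomial (Fin 5) k) := RingHom.ker (psi k)

theorem PI_isPrime : (PI k).IsPrime := by
  haveI : IsDomain (AdjoinRoot ((Qm k).map (iota k))) :=
    AdjoinRoot.isDomain_of_prime (QK_irreducible k).prime
  exact RingHom.ker_isPrime (psi k)

theorem mem_PI_iff (g : MvPolynomial (Fin 5) k) : g ∈ PI k ↔ Qm k ∣ theta k g := by
  have hm := Qm_monic k
  unfold PI psi
  rw [RingHom.mem_ker, RingHom.comp_apply, RingHom.comp_apply, AdjoinRoot.mk_eq_zero,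
    Polynomial.coe_mapRingHom]
  constructor
  · intro h
    rw [← Polynomial.modByMonic_eq_zero_iff_dvd hm]
    have h1 : ((theta k g) %ₘ (Qm k)).map (iota k) = 0 := by
      rw [Polynomial.map_modByMonic _ hm, Polynomial.modByMonic_eq_zero_iff_dvd (hm.map _)]
      exact h
    exact (Polynomial.map_eq_zero_iff (iota_injective k)).mp h1
  · intro h
    exact Polynomial.map_dvd _ h

/-- the ideal `(σ₂, σ₄)` -/
noncomputable def II : Ideal (MvPolynomial (Fin 5) k) :=
  Ideal.span ({MvPolynomial.esymm (Fin 5) k 2, MvPolynomial.esymm (Fin 5) k 4} :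
    Set (MvPolynomial (Fin 5) k))

theorem II_le_PI : II k ≤ PI k := by
  unfold II
  rw [Ideal.span_le]
  rintro x (rfl | rfl)
  · rw [SetLike.mem_coe, mem_PI_iff, esymm_two, theta_s2]
    exact dvd_neg.mpr (dvd_refl _)
  · rw [SetLike.mem_coe, mem_PI_iff, esymm_four, theta_s4]
    exact dvd_mul_left _ _

end Irred

section Geom
variable (k : Type u) [Field k] [CharZero k] [IsAlgClosed k]

theorem mem_PI_of_vanish (h : MvPolynomial (Fin 5) k)
    (hh : ∀ p, InV p → MvPolynomial.eval p h = 0) : h ∈ PI k := by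
  have h1 : (II k).radical ≤ PI k := (PI_isPrime k).radical_le_iff.mpr (II_le_PI k)
  apply h1
  rw [← MvPolynomial.vanishingIdeal_zeroLocus_eq_radical (K := k),
    MvPolynomial.mem_vanishingIdeal_iff]
  intro x hx
  rw [MvPolynomial.mem_zeroLocus_iff] at hx
  exact hh x ⟨hx _ (Ideal.subset_span (Set.mem_insert _ _)),
    hx _ (Ideal.subset_span (Set.mem_insert_of_mem _ (Set.mem_singleton _)))⟩

noncomputable def alh : MvPolynomial (Fin 5) k :=
  MvPolynomial.X 2 * MvPolynomial.X 3 * MvPolynomial.X 4 -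
    (MvPolynomial.X 2 + MvPolynomial.X 3 + MvPolynomial.X 4) *
      (MvPolynomial.X 2 * MvPolynomial.X 3 + MvPolynomial.X 2 * MvPolynomial.X 4 +
        MvPolynomial.X 3 * MvPolynomial.X 4)

theorem eval_alh (p : Fin 5 → k) : MvPolynomial.eval p (alh k) = alv (p 2) (p 3) (p 4) := by
  simp [alh, alv]

theorem PI_rename (g : MvPolynomial (Fin 5) k) (hg : g ∈ PI k) (π : Equiv.Perm (Fin 5)) :
    MvPolynomial.rename π g ∈ PI k := by
  obtain ⟨p₀, hp₀V, hp₀5⟩ := exists_p0 (k := k)
  have hgd := (mem_PI_iff k g).mp hg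
  have h1 : MvPolynomial.rename π (alh k * g) ∈ PI k := by
    apply mem_PI_of_vanish
    intro p hp
    rw [MvPolynomial.eval_rename, map_mul, eval_alh]
    by_cases hα : alv ((p ∘ π) 2) ((p ∘ π) 3) ((p ∘ π) 4) = 0
    · rw [hα, zero_mul]
    · rw [eval_eq_zero_of_dvd k g hgd (p ∘ π) (hp.perm π) hα, mul_zero]
  rw [map_mul] at h1
  rcases (PI_isPrime k).mem_or_mem h1 with h | h
  · exfalso
    have hd := (mem_PI_iff k _).mp h
    have h0 := eval_eq_zero_of_dvd k _ hd p₀ hp₀V
      (alv_ne_zero_of_pow5 (hp₀5 2) (hp₀5 3) (hp₀5 4))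
    rw [MvPolynomial.eval_rename, eval_alh] at h0
    exact alv_ne_zero_of_pow5 (hp₀5 _) (hp₀5 _) (hp₀5 _) h0
  · exact h

theorem eval_eq_zero_of_two_ne (g : MvPolynomial (Fin 5) k) (hg : g ∈ PI k) (p : Fin 5 → k)
    (hp : InV p) (i j : Fin 5) (hij : i ≠ j) (hi : p i ≠ 0) (hj : p j ≠ 0) :
    MvPolynomial.eval p g = 0 := by
  obtain ⟨l, hil, hjl⟩ := exists_third i j
  obtain ⟨π, h2, h3, h4⟩ := exists_perm3 (2 : Fin 5) 3 4 i j l (by decide) (by decide) (by decide)
    hij hil hjl
  have hg' := PI_rename k g hg π.symm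
  have hα : alv ((p ∘ π) 2) ((p ∘ π) 3) ((p ∘ π) 4) ≠ 0 := by
    simp only [Function.comp_apply, h2, h3, h4]
    exact alv_ne_zero_of_inV hp hij hil hjl hi hj
  have h0 := eval_eq_zero_of_dvd k _ ((mem_PI_iff k _).mp hg') (p ∘ π) (hp.perm π) hα
  rw [MvPolynomial.eval_rename] at h0
  have : (p ∘ ⇑π) ∘ ⇑π.symm = p := by
    funext m; simp
  rwa [this] at h0

theorem eval_curve (Γ : Fin 5 → Polynomial k) (g : MvPolynomial (Fin 5) k) (e : k) :
    (MvPolynomial.eval₂Hom Polynomial.C Γ g).eval e =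
      MvPolynomial.eval (fun i => (Γ i).eval e) g := by
  induction g using MvPolynomial.induction_on with
  | C a => simp
  | add p q hp hq => rw [map_add, map_add, Polynomial.eval_add, hp, hq]
  | mul_X p i hp =>
    rw [map_mul, map_mul, Polynomial.eval_mul, hp, MvPolynomial.eval₂Hom_X', MvPolynomial.eval_X]

theorem curve_lemma (Γ : Fin 5 → Polynomial k) (g : MvPolynomial (Fin 5) k) (S : Set k)
    (hS : S.Finite) (h : ∀ e, e ∉ S → MvPolynomial.eval (fun i => (Γ i).eval e) g = 0) (e : k) :
    MvPolynomial.eval (fun i => (Γ i).eval e) g = 0 := by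
  haveI : Infinite k := Infinite.of_injective (Nat.cast : ℕ → k) Nat.cast_injective
  have h0 : MvPolynomial.eval₂Hom Polynomial.C Γ g = 0 := by
    apply Polynomial.eq_zero_of_infinite_isRoot
    refine (hS.infinite_compl).mono ?_
    intro e he
    show Polynomial.IsRoot _ e
    rw [Polynomial.IsRoot, eval_curve]
    exact h e he
  rw [← eval_curve, h0, Polynomial.eval_zero]

theorem axis_case (g : MvPolynomial (Fin 5) k) (hg : g ∈ PI k) (q : Fin 5 → k)
    (hq : ∀ m : Fin 5, m ≠ 0 → q m = 0) : MvPolynomial.eval q g = 0 := by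
  by_cases hu0 : q 0 = 0
  · obtain ⟨p₀, hp₀V, hp₀5⟩ := exists_p0 (k := k)
    have hne : ∀ i, p₀ i ≠ 0 := by
      intro i h0
      have := hp₀5 i
      rw [h0] at this
      norm_num at this
    let Γ : Fin 5 → Polynomial k := fun i => Polynomial.C (p₀ i) * Polynomial.X
    have hΓ : ∀ e : k, (fun i => (Γ i).eval e) = fun i => e * p₀ i := by
      intro e; funext i
      show (Polynomial.C (p₀ i) * Polynomial.X).eval e = e * p₀ i
      rw [Polynomial.eval_mul, Polynomial.eval_C, Polynomial.eval_X, mul_comm]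
    have := curve_lemma k Γ g {0} (Set.finite_singleton 0) (by
      intro e he
      rw [hΓ]
      have he0 : e ≠ 0 := he
      exact eval_eq_zero_of_two_ne k g hg _ (hp₀V.smul e) 0 1 (by decide)
        (mul_ne_zero he0 (hne 0)) (mul_ne_zero he0 (hne 1))) 0
    rw [hΓ] at this
    have hq0 : q = fun i => 0 * p₀ i := by
      funext m
      by_cases hm : m = 0
      · subst hm; simp [hu0]
      · simp [hq m hm]
    rw [hq0]; exact this
  · set u := q 0 with hu
    let Γ : Fin 5 → Polynomial k :=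
      ![Polynomial.C u * (1 - Polynomial.X), Polynomial.C u * Polynomial.X,
        Polynomial.C u * Polynomial.X * (Polynomial.X - 1), 0, 0]
    have hΓ : ∀ e : k, (fun i => (Γ i).eval e) = ![u * (1 - e), u * e, u * e * (e - 1), 0, 0] := by
      intro e; funext i; fin_cases i <;> simp [Γ]
    have hV : ∀ e : k, InV ![u * (1 - e), u * e, u * e * (e - 1), 0, 0] := by
      intro e
      rw [inV_iff]
      simp only [Matrix.cons_val_zero, Matrix.cons_val_one, Matrix.cons_val]
      constructor <;> ring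
    have := curve_lemma k Γ g {0, 1} (Set.toFinite _) (by
      intro e he
      rw [hΓ]
      have he0 : e ≠ 0 := fun h => he (by simp [h])
      have he1 : e ≠ 1 := fun h => he (by simp [h])
      refine eval_eq_zero_of_two_ne k g hg _ (hV e) 0 1 (by decide) ?_ ?_
      · simp only [Matrix.cons_val_zero]
        exact mul_ne_zero hu0 (sub_ne_zero.mpr (Ne.symm he1))
      · simp only [Matrix.cons_val_one, Matrix.cons_val_zero]
        exact mul_ne_zero hu0 he0) 0
    rw [hΓ] at this
    have hq0 : q = ![u * (1 - 0), u * 0, u * 0 * (0 - 1), 0, 0] := by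
      funext m
      fin_cases m
      · simp [hu]
      · simpa using hq 1 (by decide)
      · simpa using hq 2 (by decide)
      · simpa using hq 3 (by decide)
      · simpa using hq 4 (by decide)
    rw [hq0]; exact this

theorem eval_eq_zero_of_mem_PI (g : MvPolynomial (Fin 5) k) (hg : g ∈ PI k) (p : Fin 5 → k)
    (hp : InV p) : MvPolynomial.eval p g = 0 := by
  by_cases h : ∃ i j, i ≠ j ∧ p i ≠ 0 ∧ p j ≠ 0
  · obtain ⟨i, j, hij, hi, hj⟩ := h
    exact eval_eq_zero_of_two_ne k g hg p hp i j hij hi hj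
  · push Not at h
    obtain ⟨i, hi⟩ : ∃ i, ∀ m, m ≠ i → p m = 0 := by
      by_cases h0 : ∃ i, p i ≠ 0
      · obtain ⟨i, hi⟩ := h0
        exact ⟨i, fun m hm => h i m (Ne.symm hm) hi⟩
      · push Not at h0
        exact ⟨0, fun m _ => h0 m⟩
    set π : Equiv.Perm (Fin 5) := Equiv.swap 0 i with hπ
    have hg' := PI_rename k g hg π.symm
    have hq : ∀ m : Fin 5, m ≠ 0 → (p ∘ π) m = 0 := by
      intro m hm
      apply hi
      intro hmi
      apply hm
      have : π m = π 0 := by rw [hmi, hπ, Equiv.swap_apply_left]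
      exact π.injective this
    have hred : MvPolynomial.eval p g =
        MvPolynomial.eval (p ∘ π) (MvPolynomial.rename π.symm g) := by
      rw [MvPolynomial.eval_rename]
      have : (p ∘ ⇑π) ∘ ⇑π.symm = p := by
        funext m; simp
      rw [this]
    rw [hred]
    exact axis_case k _ hg' (p ∘ π) hq

theorem main : (Ideal.span ({MvPolynomial.esymm (Fin 5) k 2, MvPolynomial.esymm (Fin 5) k 4} :
    Set (MvPolynomial (Fin 5) k))).radical.IsPrime := by
  have h1 : (II k).radical ≤ PI k := (PI_isPrime k).radical_le_iff.mpr (II_le_PI k)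
  have h2 : PI k ≤ (II k).radical := by
    intro g hg
    rw [← MvPolynomial.vanishingIdeal_zeroLocus_eq_radical (K := k),
      MvPolynomial.mem_vanishingIdeal_iff]
    intro x hx
    rw [MvPolynomial.mem_zeroLocus_iff] at hx
    exact eval_eq_zero_of_mem_PI k g hg x ⟨hx _ (Ideal.subset_span (Set.mem_insert _ _)),
      hx _ (Ideal.subset_span (Set.mem_insert_of_mem _ (Set.mem_singleton _)))⟩
  have h3 : (II k).radical = PI k := le_antisymm h1 h2
  show (II k).radical.IsPrime
  rw [h3]
  exact PI_isPrime k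

end Geom

end Groth.Agent.Lib.Helper4.Sig
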