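import Mathlib
import Groth.Prelude

/-!
# Points of a coproduct of schemes; dominance from hitting the generic point

Sub-lemmas (P4, P5, P6c) requested by helper9 for S13736.
-/

set_option autoImplicit false
set_option linter.unusedSectionVars false
set_option linter.unusedVariables false

universe u

open CategoryTheory CategoryTheory.Limits AlgebraicGeometry TopologicalSpace

namespace Groth.Agent.Lib.Helper4.SigmaPts

/-- (P5) every point of a coproduct of schemes lies in a summand. -/
theorem exists_sigmaι_eq {ι : Type u} (U : ι → Scheme.{u}) (z : ↥(∐ U)) :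
    ∃ (i : ι) (u : U i), Sigma.ι U i u = z := by
  obtain ⟨⟨i, u⟩, hu⟩ := (sigmaMk U).surjective z
  exact ⟨i, u, (sigmaMk_mk U i u).symm.trans hu⟩

/-- (P4) a jointly surjective family gives a surjective `Sigma.desc`. -/
theorem surjective_sigmaDesc {X : Scheme.{u}} {ι : Type u} (U : ι → Scheme.{u})
    (f : ∀ i, U i ⟶ X) (h : ∀ x : X, ∃ (i : ι) (u : U i), f i u = x) :
    Surjective (Sigma.desc f) := by
  refine ⟨fun x => ?_⟩
  obtain ⟨i, u, rfl⟩ := h x
  refine ⟨Sigma.ι U i u, ?_⟩
  rw [← Scheme.Hom.comp_apply, Sigma.ι_desc]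

/-- (P6c) a morphism hitting the generic point of an irreducible scheme is dominant. -/
theorem isDominant_of_apply_eq_genericPoint {U X : Scheme.{u}} [IrreducibleSpace ↥X]
    (f : U ⟶ X) (u : U) (hu : f u = genericPoint ↥X) : IsDominant f := by
  refine ⟨?_⟩
  rw [DenseRange, dense_iff_closure_eq, ← Set.univ_subset_iff]
  have h1 : closure ({genericPoint ↥X} : Set ↥X) = Set.univ := (genericPoint_spec ↥X).def
  rw [← h1]
  apply closure_mono
  rintro _ rfl
  exact ⟨u, hu⟩

end Groth.Agent.Lib.Helper4.SigmaPts
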