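import Groth.Agent.Lib.Helper4.NodCubA

/-!
# Smooth cubic surfaces, part A: symmetric trilinear forms, small algebra lemmas
-/

set_option autoImplicit false
set_option linter.style.haveILetI false
set_option linter.unusedSectionVars false
set_option linter.unusedVariables false
set_option linter.unusedSimpArgs false
set_option linter.unusedTactic false
set_option linter.deprecated false
set_option maxHeartbeats 1600000
set_option maxSynthPendingDepth 3

universe u

open Module Submodule NodCub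

namespace SmCub

/-- A symmetric trilinear form (the polarisation of a cubic form). -/
structure SymTri (k : Type u) (V : Type u) [Field k] [AddCommGroup V] [Module k V] where
  T : V → V → V → k
  add1 : ∀ u u' v w, T (u + u') v w = T u v w + T u' v w
  smul1 : ∀ (c : k) u v w, T (c • u) v w = c * T u v w
  s12 : ∀ u v w, T u v w = T v u w
  s23 : ∀ u v w, T u v w = T u w v

variable {k : Type u} {V : Type u} [Field k] [AddCommGroup V] [Module k V] (S : SymTri k V)

namespace SymTri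

lemma add2 (u v v' w : V) : S.T u (v + v') w = S.T u v w + S.T u v' w := by
  rw [S.s12, S.add1, S.s12 v, S.s12 v']

lemma add3 (u v w w' : V) : S.T u v (w + w') = S.T u v w + S.T u v w' := by
  rw [S.s23, S.add2, S.s23 u w, S.s23 u w']

lemma smul2 (c : k) (u v w : V) : S.T u (c • v) w = c * S.T u v w := by
  rw [S.s12, S.smul1, S.s12 v]

lemma smul3 (c : k) (u v w : V) : S.T u v (c • w) = c * S.T u v w := by
  rw [S.s23, S.smul2, S.s23 u w]

lemma zero1 (v w : V) : S.T 0 v w = 0 := by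
  have := S.smul1 0 0 v w
  rwa [zero_smul, zero_mul] at this

lemma zero2 (u w : V) : S.T u 0 w = 0 := by rw [S.s12, S.zero1]

lemma zero3 (u v : V) : S.T u v 0 = 0 := by rw [S.s23, S.zero2]

lemma neg1 (u v w : V) : S.T (-u) v w = -S.T u v w := by
  have := S.smul1 (-1) u v w
  rwa [neg_one_smul, neg_one_mul] at this

lemma neg2 (u v w : V) : S.T u (-v) w = -S.T u v w := by
  rw [S.s12, S.neg1, S.s12 v]

lemma neg3 (u v w : V) : S.T u v (-w) = -S.T u v w := by
  rw [S.s23, S.neg2, S.s23 u w]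

lemma sub1 (u u' v w : V) : S.T (u - u') v w = S.T u v w - S.T u' v w := by
  rw [sub_eq_add_neg, S.add1, S.neg1, ← sub_eq_add_neg]

lemma sub2 (u v v' w : V) : S.T u (v - v') w = S.T u v w - S.T u v' w := by
  rw [sub_eq_add_neg, S.add2, S.neg2, ← sub_eq_add_neg]

lemma sub3 (u v w w' : V) : S.T u v (w - w') = S.T u v w - S.T u v w' := by
  rw [sub_eq_add_neg, S.add3, S.neg3, ← sub_eq_add_neg]

end SymTri

/-- Expand `T` multilinearly. -/
macro "st_expand" loc:(Lean.Parser.Tactic.location)? : tactic =>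
  `(tactic| try simp only [SymTri.add1, SymTri.add2, SymTri.add3, SymTri.smul1, SymTri.smul2,
    SymTri.smul3, SymTri.zero1, SymTri.zero2, SymTri.zero3, SymTri.neg1, SymTri.neg2,
    SymTri.neg3, SymTri.sub1, SymTri.sub2, SymTri.sub3] $[$loc]?)

/-- Sort the arguments of `T` using its symmetry. -/
macro "st_sort" loc:(Lean.Parser.Tactic.location)? : tactic =>
  `(tactic| try simp only [SymTri.s12, SymTri.s23] $[$loc]?)

/-- Expand and sort. -/
macro "st_norm" loc:(Lean.Parser.Tactic.location)? : tactic =>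
  `(tactic| (st_expand $[$loc]?; st_sort $[$loc]?))

namespace SymTri

lemma cross_zero [CharZero k] (x y : V) (hx : S.T x x x = 0) (hy : S.T y y y = 0)
    (h1 : S.T (x + y) (x + y) (x + y) = 0)
    (h2 : S.T (x + (-1 : k) • y) (x + (-1 : k) • y) (x + (-1 : k) • y) = 0) :
    S.T x x y = 0 ∧ S.T x y y = 0 := by
  st_norm at h1 h2
  st_sort at hx hy
  constructor
  · st_sort; linear_combination (1 / 6 : k) * h1 - (1 / 6 : k) * h2 - (1 / 3 : k) * hy
  · st_sort; linear_combination (1 / 6 : k) * h1 + (1 / 6 : k) * h2 - (1 / 3 : k) * hx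

/-- If the cubic vanishes on a subspace containing `z, w` then the mixed terms vanish. -/
lemma cross_of_mem [CharZero k] (U : Submodule k V) (hU : ∀ u ∈ U, S.T u u u = 0) (z w : V)
    (hz : z ∈ U) (hw : w ∈ U) :
    S.T z z z = 0 ∧ S.T w w w = 0 ∧ S.T z z w = 0 ∧ S.T z w w = 0 := by
  have h := S.cross_zero z w (hU z hz) (hU w hw) (hU _ (add_mem hz hw))
    (hU _ (add_mem hz (smul_mem _ _ hw)))
  exact ⟨hU z hz, hU w hw, h.1, h.2⟩

/-- A line spanned by `z, w` lies on the cubic as soon as the four coefficients vanish. -/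
lemma line_of (z w : V) (hz : S.T z z z = 0) (h1 : S.T z z w = 0) (h2 : S.T z w w = 0)
    (hw : S.T w w w = 0) : ∀ u ∈ span k {z, w}, S.T u u u = 0 := by
  intro u hu
  obtain ⟨s, r, rfl⟩ := mem_span_pair.mp hu
  st_norm
  st_sort at hz h1 h2 hw
  linear_combination s ^ 3 * hz + 3 * s ^ 2 * r * h1 + 3 * s * r ^ 2 * h2 + r ^ 3 * hw

end SymTri

/-! ### Small algebra lemmas -/

section algebra

variable {K : Type u} [Field K]

lemma bq0 [IsAlgClosed K] [CharZero K] (α β γ : K) :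
    ∃ s r : K, (s ≠ 0 ∨ r ≠ 0) ∧ α * s ^ 2 + 2 * β * s * r + γ * r ^ 2 = 0 := by
  by_cases hα : α = 0
  · exact ⟨1, 0, Or.inl one_ne_zero, by rw [hα]; ring⟩
  · obtain ⟨z, hz⟩ := IsAlgClosed.exists_eq_mul_self (discrim α (2 * β) γ)
    obtain ⟨x, hx⟩ := exists_quadratic_eq_zero hα ⟨z, hz⟩
    exact ⟨x, 1, Or.inr one_ne_zero, by linear_combination hx⟩

lemma bq1 (a b c : K) (h : a * c - b * b = 0) :
    ∃ x y : K, (x ≠ 0 ∨ y ≠ 0) ∧ a * x + b * y = 0 ∧ b * x + c * y = 0 := by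
  by_cases h0 : a = 0 ∧ b = 0
  · exact ⟨1, 0, Or.inl one_ne_zero, by rw [h0.1]; ring, by rw [h0.2]; ring⟩
  · refine ⟨b, -a, ?_, by ring, by linear_combination -h⟩
    by_contra hc
    push Not at hc
    exact h0 ⟨neg_eq_zero.mp hc.2, hc.1⟩

lemma bq2 [IsAlgClosed K] [CharZero K] (a b c : K) (h : a * c - b * b ≠ 0) :
    ∃ x₁ y₁ x₂ y₂ : K, a * x₁ ^ 2 + 2 * b * x₁ * y₁ + c * y₁ ^ 2 = 0 ∧
      a * x₂ ^ 2 + 2 * b * x₂ * y₂ + c * y₂ ^ 2 = 0 ∧ x₁ * y₂ - x₂ * y₁ ≠ 0 := by
  obtain ⟨z, hz⟩ := IsAlgClosed.exists_eq_mul_self (b * b - a * c)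
  have hz0 : z ≠ 0 := by
    intro h0
    rw [h0, mul_zero] at hz
    apply h
    linear_combination -hz
  by_cases ha : a = 0
  · have hb : b ≠ 0 := by
      intro hb
      apply h
      rw [ha, hb]; ring
    refine ⟨1, 0, c, -2 * b, by rw [ha]; ring, by rw [ha]; ring, ?_⟩
    have : (1 : K) * (-2 * b) - c * 0 = -2 * b := by ring
    rw [this]
    exact mul_ne_zero (by norm_num) hb
  · refine ⟨-b + z, a, -b - z, a, by linear_combination (-a) * hz,
      by linear_combination (-a) * hz, ?_⟩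
    have : (-b + z) * a - (-b - z) * a = 2 * z * a := by ring
    rw [this]
    exact mul_ne_zero (mul_ne_zero two_ne_zero hz0) ha

lemma perp2 (α β g₁ g₂ : K) (h : α ≠ 0 ∨ β ≠ 0) (e : α * g₁ + β * g₂ = 0) :
    ∃ κ : K, g₁ = -κ * β ∧ g₂ = κ * α := by
  rcases h with h | h
  · refine ⟨g₂ / α, ?_, ?_⟩
    · field_simp
      linear_combination e
    · field_simp
  · refine ⟨-g₁ / β, ?_, ?_⟩
    · field_simp
    · field_simp
      linear_combination e

lemma det3_cramer (a b c d e f x y t : K) (r₁ : a * x + b * y + d * t = 0)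
    (r₂ : b * x + c * y + e * t = 0) (r₃ : d * x + e * y + f * t = 0)
    (hne : x ≠ 0 ∨ y ≠ 0 ∨ t ≠ 0) :
    a * (c * f - e * e) - b * (b * f - e * d) + d * (b * e - c * d) = 0 := by
  have hx : (a * (c * f - e * e) - b * (b * f - e * d) + d * (b * e - c * d)) * x = 0 := by
    linear_combination (c * f - e * e) * r₁ + (d * e - b * f) * r₂ + (b * e - c * d) * r₃
  have hy : (a * (c * f - e * e) - b * (b * f - e * d) + d * (b * e - c * d)) * y = 0 := by
    linear_combination (d * e - b * f) * r₁ + (a * f - d * d) * r₂ + (b * d - a * e) * r₃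
  have ht : (a * (c * f - e * e) - b * (b * f - e * d) + d * (b * e - c * d)) * t = 0 := by
    linear_combination (b * e - c * d) * r₁ + (b * d - a * e) * r₂ + (a * c - b * b) * r₃
  rcases hne with h | h | h
  · exact (mul_eq_zero.mp hx).resolve_right h
  · exact (mul_eq_zero.mp hy).resolve_right h
  · exact (mul_eq_zero.mp ht).resolve_right h

lemma det3_kernel (a b c d e f : K)
    (h : a * (c * f - e * e) - b * (b * f - e * d) + d * (b * e - c * d) = 0) :
    ∃ x y t : K, (x ≠ 0 ∨ y ≠ 0 ∨ t ≠ 0) ∧ a * x + b * y + d * t = 0 ∧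
      b * x + c * y + e * t = 0 ∧ d * x + e * y + f * t = 0 := by
  have hdet : (!![a, b, d; b, c, e; d, e, f] : Matrix (Fin 3) (Fin 3) K).det = 0 := by
    rw [Matrix.det_fin_three]
    simp
    linear_combination h
  obtain ⟨v, hv0, hv⟩ := Matrix.exists_mulVec_eq_zero_iff.mpr hdet
  refine ⟨v 0, v 1, v 2, ?_, ?_, ?_, ?_⟩
  · by_contra hc
    push Not at hc
    apply hv0
    ext i
    fin_cases i
    · exact hc.1
    · exact hc.2.1
    · exact hc.2.2
  · have := congrFun hv 0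
    simpa [Matrix.mulVec, dotProduct, Fin.sum_univ_three] using this
  · have := congrFun hv 1
    simpa [Matrix.mulVec, dotProduct, Fin.sum_univ_three] using this
  · have := congrFun hv 2
    simpa [Matrix.mulVec, dotProduct, Fin.sum_univ_three] using this

end algebra

/-- Smoothness forbids a 2-dimensional family of points whose tangent plane contains a fixed
hyperplane. -/
lemma SymTri.sing2 [IsAlgClosed k] [CharZero k] [FiniteDimensional k V]
    (hsm : ∀ v : V, v ≠ 0 → S.T v v v = 0 → ∃ u, S.T v v u ≠ 0)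
    (h4 : finrank k V = 4) (h₁ h₂ h₃ : V) (hli : LI3 k h₁ h₂ h₃) (z₁ z₂ : V)
    (hz : ∀ s r : k, s • z₁ + r • z₂ = 0 → s = 0 ∧ r = 0)
    (a1 : S.T z₁ z₁ h₁ = 0) (a2 : S.T z₁ z₁ h₂ = 0) (a3 : S.T z₁ z₁ h₃ = 0)
    (b1 : S.T z₁ z₂ h₁ = 0) (b2 : S.T z₁ z₂ h₂ = 0) (b3 : S.T z₁ z₂ h₃ = 0)
    (c1 : S.T z₂ z₂ h₁ = 0) (c2 : S.T z₂ z₂ h₂ = 0) (c3 : S.T z₂ z₂ h₃ = 0) : False := by
  obtain ⟨m, hm⟩ := hli.ext h4
  obtain ⟨s, r, hsr, hq⟩ := bq0 (S.T z₁ z₁ m) (S.T z₁ z₂ m) (S.T z₂ z₂ m)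
  have hz0 : s • z₁ + r • z₂ ≠ 0 := by
    intro h0
    obtain ⟨h1, h2⟩ := hz s r h0
    rcases hsr with h | h
    · exact h h1
    · exact h h2
  have b1' : S.T z₂ z₁ h₁ = 0 := by rw [S.s12]; exact b1
  have b2' : S.T z₂ z₁ h₂ = 0 := by rw [S.s12]; exact b2
  have b3' : S.T z₂ z₁ h₃ = 0 := by rw [S.s12]; exact b3
  have hall : ∀ u, S.T (s • z₁ + r • z₂) (s • z₁ + r • z₂) u = 0 := by
    intro u
    obtain ⟨x₁, x₂, x₃, x₄, rfl⟩ := hm.span h4 u
    st_expand
    rw [a1, a2, a3, b1, b2, b3, b1', b2', b3', c1, c2, c3, S.s12 z₂ z₁ m]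
    linear_combination x₄ * hq
  obtain ⟨u, hu⟩ := hsm _ hz0 (hall _)
  exact hu (hall u)

/-- A line on the cubic with a chosen basis. -/
structure LineData (S : SymTri k V) where
  e₀ : V
  e₁ : V
  hli : ∀ s r : k, s • e₀ + r • e₁ = 0 → s = 0 ∧ r = 0
  h000 : S.T e₀ e₀ e₀ = 0
  h001 : S.T e₀ e₀ e₁ = 0
  h011 : S.T e₀ e₁ e₁ = 0
  h111 : S.T e₁ e₁ e₁ = 0

namespace LineData

variable {S} (Ld : LineData S)

lemma k010 : S.T Ld.e₀ Ld.e₁ Ld.e₀ = 0 := by rw [S.s23]; exact Ld.h001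
lemma k100 : S.T Ld.e₁ Ld.e₀ Ld.e₀ = 0 := by rw [S.s12]; exact Ld.k010
lemma k101 : S.T Ld.e₁ Ld.e₀ Ld.e₁ = 0 := by rw [S.s12]; exact Ld.h011
lemma k110 : S.T Ld.e₁ Ld.e₁ Ld.e₀ = 0 := by rw [S.s23]; exact Ld.k101

/-- The same line with the basis swapped. -/
def swap : LineData S where
  e₀ := Ld.e₁
  e₁ := Ld.e₀
  hli := fun s r h => (Ld.hli r s (by rw [add_comm]; exact h)).symm
  h000 := Ld.h111
  h001 := Ld.k110
  h011 := Ld.k100
  h111 := Ld.h000

/-- The line as a subspace. -/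
def L : Submodule k V := span k {Ld.e₀, Ld.e₁}

lemma swap_L : Ld.swap.L = Ld.L := by
  unfold L swap
  simp only
  rw [Set.pair_comm]

end LineData

/-- Kill all values of `T` on the line. -/
macro "ld_kill" loc:(Lean.Parser.Tactic.location)? : tactic =>
  `(tactic| try simp only [LineData.h000, LineData.h001, LineData.k010, LineData.k100,
    LineData.h011, LineData.k101, LineData.k110, LineData.h111] $[$loc]?)

end SmCub
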