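import Groth.Agent.Lib.Helper4.SmCubA

/-!
# Smooth cubic surfaces, part B: the residual conic of a plane through a line
-/

set_option autoImplicit false
set_option linter.style.haveILetI false
set_option linter.unusedSectionVars false
set_option linter.unusedVariables false
set_option linter.unusedSimpArgs false
set_option linter.unusedTactic false
set_option linter.deprecated false
set_option maxHeartbeats 1600000
set_option maxSynthPendingDepth 3

universe u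

open Module Submodule NodCub

namespace SmCub

variable {k : Type u} {V : Type u} [Field k] [AddCommGroup V] [Module k V] {S : SymTri k V}

/-- `H` is a plane through `L` containing two further distinct lines of the cubic. -/
def Tritangent (S : SymTri k V) (L H : Submodule k V) : Prop :=
  finrank k H = 3 ∧ L ≤ H ∧ ∃ L' L'' : Submodule k V, finrank k L' = 2 ∧ finrank k L'' = 2 ∧
    L' ≠ L ∧ L'' ≠ L ∧ L' ≠ L'' ∧ L' ≤ H ∧ L'' ≤ H ∧
    (∀ u ∈ L', S.T u u u = 0) ∧ (∀ u ∈ L'', S.T u u u = 0)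

namespace LineData

variable (Ld : LineData S)

/-- Entries of the Gram matrix of (twice) the residual conic in the plane `L + k n`. -/
def ga (n : V) : k := 6 * S.T Ld.e₀ Ld.e₀ n
def gb (n : V) : k := 6 * S.T Ld.e₀ Ld.e₁ n
def gc (n : V) : k := 6 * S.T Ld.e₁ Ld.e₁ n
def gd (n : V) : k := 3 * S.T Ld.e₀ n n
def ge (n : V) : k := 3 * S.T Ld.e₁ n n
def gf (_Ld : LineData S) (n : V) : k := 2 * S.T n n n

/-- The point with coordinates `(x, y, t)` in the plane `L + k n`. -/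
def pt (n : V) (x y t : k) : V := x • Ld.e₀ + y • Ld.e₁ + t • n

/-- The discriminant of the residual conic. -/
def Disc (n : V) : k :=
  Ld.ga n * (Ld.gc n * Ld.gf n - Ld.ge n * Ld.ge n)
    - Ld.gb n * (Ld.gb n * Ld.gf n - Ld.ge n * Ld.gd n)
    + Ld.gd n * (Ld.gb n * Ld.ge n - Ld.gc n * Ld.gd n)

/-- `(x, y, t)` is in the radical of the residual conic. -/
def Rad (n : V) (x y t : k) : Prop :=
  Ld.ga n * x + Ld.gb n * y + Ld.gd n * t = 0 ∧ Ld.gb n * x + Ld.gc n * y + Ld.ge n * t = 0 ∧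
    Ld.gd n * x + Ld.ge n * y + Ld.gf n * t = 0

/-- The plane `L + k n`. -/
def Hn (n : V) : Submodule k V := Ld.L ⊔ span k {n}

end LineData

/-- Unfold the entries. -/
macro "ld_unfold" loc:(Lean.Parser.Tactic.location)? : tactic =>
  `(tactic| try simp only [LineData.ga, LineData.gb, LineData.gc, LineData.gd, LineData.ge,
    LineData.gf, LineData.pt] $[$loc]?)

/-- Normalise. -/
macro "ld_norm" loc:(Lean.Parser.Tactic.location)? : tactic =>
  `(tactic| (ld_unfold $[$loc]?; st_expand $[$loc]?; ld_kill $[$loc]?;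
             st_sort $[$loc]?; ld_kill $[$loc]?))

namespace LineData

variable (Ld : LineData S)

lemma disc_iff (n : V) :
    Ld.Disc n = 0 ↔ ∃ x y t : k, (x ≠ 0 ∨ y ≠ 0 ∨ t ≠ 0) ∧ Ld.Rad n x y t :=
  ⟨fun h => det3_kernel _ _ _ _ _ _ h,
    fun ⟨x, y, t, hne, r₁, r₂, r₃⟩ => det3_cramer _ _ _ _ _ _ x y t r₁ r₂ r₃ hne⟩

lemma e₀_ne : Ld.e₀ ≠ 0 := by
  intro h
  have := Ld.hli 1 0 (by rw [h]; simp)
  exact one_ne_zero this.1

lemma ind (a : k) : a • Ld.e₀ ≠ Ld.e₁ := by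
  intro h
  have := Ld.hli a (-1) (by rw [h]; module)
  exact one_ne_zero (neg_eq_zero.mp this.2)

lemma finrank_L : finrank k Ld.L = 2 := finrank_pair Ld.e₀_ne Ld.ind

lemma mem_L (v : V) : v ∈ Ld.L ↔ ∃ x y : k, x • Ld.e₀ + y • Ld.e₁ = v := mem_span_pair

lemma mem_Hn (n v : V) : v ∈ Ld.Hn n ↔ ∃ x y t : k, v = Ld.pt n x y t := by
  constructor
  · intro h
    obtain ⟨l, hl, m, hm, rfl⟩ := mem_sup.mp h
    obtain ⟨x, y, rfl⟩ := (Ld.mem_L l).mp hl
    obtain ⟨t, rfl⟩ := mem_span_singleton.mp hm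
    exact ⟨x, y, t, rfl⟩
  · rintro ⟨x, y, t, rfl⟩
    exact mem_sup.mpr ⟨x • Ld.e₀ + y • Ld.e₁, (Ld.mem_L _).mpr ⟨x, y, rfl⟩, t • n,
      mem_span_singleton.mpr ⟨t, rfl⟩, rfl⟩

lemma pt_mem_Hn (n : V) (x y t : k) : Ld.pt n x y t ∈ Ld.Hn n :=
  (Ld.mem_Hn n _).mpr ⟨x, y, t, rfl⟩

lemma L_le_Hn (n : V) : Ld.L ≤ Ld.Hn n := le_sup_left

lemma finrank_Hn [FiniteDimensional k V] {n : V} (hli : LI3 k Ld.e₀ Ld.e₁ n) :
    finrank k (Ld.Hn n) = 3 := by
  have h3 := (li3_iff Ld.e₀ Ld.e₁ n).mp hli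
  have hcard := finrank_span_eq_card h3
  rw [Fintype.card_fin] at hcard
  have hspan : span k (Set.range ![Ld.e₀, Ld.e₁, n]) = Ld.Hn n := by
    apply le_antisymm
    · rw [span_le]
      rintro _ ⟨i, rfl⟩
      fin_cases i
      · exact Ld.L_le_Hn n (subset_span (by simp))
      · exact Ld.L_le_Hn n (subset_span (by simp))
      · exact mem_sup_right (mem_span_singleton_self n)
    · apply sup_le
      · unfold L
        rw [span_le]
        intro y hy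
        rcases hy with rfl | hy
        · exact subset_span ⟨0, rfl⟩
        · rw [Set.mem_singleton_iff] at hy; rw [hy]
          exact subset_span ⟨1, rfl⟩
      · rw [span_le]
        intro y hy
        rw [Set.mem_singleton_iff] at hy; rw [hy]
        exact subset_span ⟨2, rfl⟩
  rw [← hspan]; exact hcard

lemma pt_notmem_L {n : V} (hli : LI3 k Ld.e₀ Ld.e₁ n) (x y t : k) (ht : t ≠ 0) :
    Ld.pt n x y t ∉ Ld.L := by
  intro h
  obtain ⟨a, b, hab⟩ := (Ld.mem_L _).mp h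
  have := hli (x - a) (y - b) t (by
    have e : (x - a) • Ld.e₀ + (y - b) • Ld.e₁ + t • n
        = Ld.pt n x y t - (a • Ld.e₀ + b • Ld.e₁) := by unfold pt; module
    rw [e, hab, sub_self])
  exact ht this.2.2

/-! ### A further line in the plane forces a degenerate conic -/

lemma rad_of_line [CharZero k] [FiniteDimensional k V] {n : V} (hli : LI3 k Ld.e₀ Ld.e₁ n)
    (L' : Submodule k V) (h2 : finrank k L' = 2) (hle : L' ≤ Ld.Hn n) (hne : L' ≠ Ld.L)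
    (hF : ∀ u ∈ L', S.T u u u = 0) :
    ∃ x y t : k, (x ≠ 0 ∨ y ≠ 0 ∨ t ≠ 0) ∧ Ld.Rad n x y t := by
  obtain ⟨u₁, hu₁L', hu₁L⟩ : ∃ u₁ ∈ L', u₁ ∉ Ld.L := by
    by_contra hc
    push Not at hc
    exact hne (Submodule.eq_of_le_of_finrank_eq (fun u hu => hc u hu)
      (by rw [h2, Ld.finrank_L]))
  obtain ⟨x₁, y₁, t₁, rfl⟩ := (Ld.mem_Hn n u₁).mp (hle hu₁L')
  have ht₁ : t₁ ≠ 0 := by
    intro h0
    apply hu₁L
    rw [h0]
    unfold pt
    rw [zero_smul, add_zero]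
    exact (Ld.mem_L _).mpr ⟨x₁, y₁, rfl⟩
  obtain ⟨α₁, β₁, hv₁⟩ : ∃ α₁ β₁ : k, Ld.pt n α₁ β₁ 1 ∈ L' := by
    refine ⟨t₁⁻¹ * x₁, t₁⁻¹ * y₁, ?_⟩
    have e : Ld.pt n (t₁⁻¹ * x₁) (t₁⁻¹ * y₁) 1 = t₁⁻¹ • Ld.pt n x₁ y₁ t₁ := by
      unfold pt
      rw [smul_add, smul_add, smul_smul, smul_smul, smul_smul, inv_mul_cancel₀ ht₁]
    rw [e]
    exact smul_mem _ _ hu₁L'
  have hv₁0 : Ld.pt n α₁ β₁ 1 ≠ 0 := by
    intro h0
    exact one_ne_zero (hli α₁ β₁ 1 h0).2.2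
  obtain ⟨u₂, hu₂L', hind2, -⟩ := exists_pair_of_finrank_two L' h2 _ hv₁ hv₁0
  obtain ⟨x₂, y₂, t₂, rfl⟩ := (Ld.mem_Hn n u₂).mp (hle hu₂L')
  obtain ⟨α₂, β₂, hne₂, hv₂⟩ : ∃ α₂ β₂ : k, (α₂ ≠ 0 ∨ β₂ ≠ 0) ∧ Ld.pt n α₂ β₂ 0 ∈ L' := by
    refine ⟨x₂ - t₂ * α₁, y₂ - t₂ * β₁, ?_, ?_⟩
    · by_contra hc
      push Not at hc
      apply hind2 t₂
      have e1 : x₂ = t₂ * α₁ := by linear_combination hc.1
      have e2 : y₂ = t₂ * β₁ := by linear_combination hc.2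
      unfold pt
      rw [e1, e2]
      module
    · have e : Ld.pt n (x₂ - t₂ * α₁) (y₂ - t₂ * β₁) 0
          = Ld.pt n x₂ y₂ t₂ - t₂ • Ld.pt n α₁ β₁ 1 := by
        unfold pt; module
      rw [e]
      exact sub_mem hu₂L' (smul_mem _ _ hv₁)
  obtain ⟨hF1, hF2, h112, h122⟩ := S.cross_of_mem L' hF _ _ hv₁ hv₂
  -- isotropy relations
  have I22 : α₂ * (Ld.ga n * α₂ + Ld.gb n * β₂) + β₂ * (Ld.gb n * α₂ + Ld.gc n * β₂) = 0 := by
    ld_norm at h122 ⊢
    linear_combination 6 * h122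
  have I12 : α₂ * (Ld.ga n * α₁ + Ld.gb n * β₁ + Ld.gd n)
      + β₂ * (Ld.gb n * α₁ + Ld.gc n * β₁ + Ld.ge n) = 0 := by
    ld_norm at h112 ⊢
    linear_combination 3 * h112
  have J2 : α₁ * (Ld.ga n * α₂ + Ld.gb n * β₂) + β₁ * (Ld.gb n * α₂ + Ld.gc n * β₂)
      + (Ld.gd n * α₂ + Ld.ge n * β₂) = 0 := by
    ld_norm at h112 ⊢
    linear_combination 3 * h112
  have J1 : α₁ * (Ld.ga n * α₁ + Ld.gb n * β₁ + Ld.gd n)
      + β₁ * (Ld.gb n * α₁ + Ld.gc n * β₁ + Ld.ge n)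
      + (Ld.gd n * α₁ + Ld.ge n * β₁ + Ld.gf n) = 0 := by
    ld_norm at hF1 ⊢
    linear_combination 2 * hF1
  obtain ⟨κ₂, hκ₂a, hκ₂b⟩ := perp2 α₂ β₂ _ _ hne₂ I22
  obtain ⟨κ₁, hκ₁a, hκ₁b⟩ := perp2 α₂ β₂ _ _ hne₂ I12
  by_cases hκ : κ₁ = 0 ∧ κ₂ = 0
  · obtain ⟨hk1, hk2⟩ := hκ
    rw [hk2] at hκ₂a hκ₂b
    refine ⟨α₂, β₂, 0, ?_, ?_, ?_, ?_⟩
    · rcases hne₂ with h | h
      · exact Or.inl h
      · exact Or.inr (Or.inl h)
    · linear_combination hκ₂a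
    · linear_combination hκ₂b
    · linear_combination J2 - α₁ * hκ₂a - β₁ * hκ₂b
  · refine ⟨κ₁ * α₂ - κ₂ * α₁, κ₁ * β₂ - κ₂ * β₁, -κ₂, ?_, ?_, ?_, ?_⟩
    · by_cases hk2 : κ₂ = 0
      · have hk1 : κ₁ ≠ 0 := fun h => hκ ⟨h, hk2⟩
        rw [hk2]
        rcases hne₂ with h | h
        · left
          simpa using mul_ne_zero hk1 h
        · right; left
          simpa using mul_ne_zero hk1 h
      · right; right
        exact neg_ne_zero.mpr hk2
    · linear_combination κ₁ * hκ₂a - κ₂ * hκ₁a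
    · linear_combination κ₁ * hκ₂b - κ₂ * hκ₁b
    · linear_combination κ₁ * J2 - κ₂ * J1 - α₁ * (κ₁ * hκ₂a - κ₂ * hκ₁a)
        - β₁ * (κ₁ * hκ₂b - κ₂ * hκ₁b)

/-! ### The singular point of the conic is off the line -/

section caseT

variable [IsAlgClosed k] [CharZero k] [FiniteDimensional k V]
  (hsm : ∀ v : V, v ≠ 0 → S.T v v v = 0 → ∃ u, S.T v v u ≠ 0) (h4 : finrank k V = 4)
  {n : V} (hli : LI3 k Ld.e₀ Ld.e₁ n)

include hsm h4 hli

lemma line_t (x y t : k) (hr : Ld.Rad n x y t) (ht : t ≠ 0) (x₁ y₁ : k)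
    (hroot : Ld.ga n * x₁ ^ 2 + 2 * Ld.gb n * x₁ * y₁ + Ld.gc n * y₁ ^ 2 = 0)
    (hne : x₁ ≠ 0 ∨ y₁ ≠ 0) :
    finrank k (span k {Ld.pt n x y t, Ld.pt n x₁ y₁ 0}) = 2 ∧
      span k {Ld.pt n x y t, Ld.pt n x₁ y₁ 0} ≠ Ld.L ∧
      span k {Ld.pt n x y t, Ld.pt n x₁ y₁ 0} ≤ Ld.Hn n ∧
      ∀ u ∈ span k {Ld.pt n x y t, Ld.pt n x₁ y₁ 0}, S.T u u u = 0 := by
  obtain ⟨r1, r2, r3⟩ := hr
  ld_norm at r1 r2 r3 hroot
  have hx₀ : Ld.pt n x y t ≠ 0 := fun h0 => ht (hli x y t h0).2.2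
  refine ⟨?_, ?_, ?_, ?_⟩
  · apply finrank_pair hx₀
    intro a ha
    have := hli (a * x - x₁) (a * y - y₁) (a * t) (by
      have e : (a * x - x₁) • Ld.e₀ + (a * y - y₁) • Ld.e₁ + (a * t) • n
          = a • Ld.pt n x y t - Ld.pt n x₁ y₁ 0 := by unfold pt; module
      rw [e, ha, sub_self])
    obtain ⟨h1, h2, h3⟩ := this
    have ha0 : a = 0 := (mul_eq_zero.mp h3).resolve_right ht
    rw [ha0] at h1 h2
    rcases hne with h | h
    · apply h; linear_combination -h1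
    · apply h; linear_combination -h2
  · intro he
    apply Ld.pt_notmem_L hli x y t ht
    rw [← he]
    exact subset_span (by simp)
  · rw [span_le]
    intro v hv
    rcases hv with rfl | hv
    · exact Ld.pt_mem_Hn n _ _ _
    · rw [Set.mem_singleton_iff] at hv; rw [hv]
      exact Ld.pt_mem_Hn n _ _ _
  · apply S.line_of
    · ld_norm
      linear_combination (x * t / 3) * r1 + (y * t / 3) * r2
        + t * ((x / 6) * r1 + (y / 6) * r2 + (t / 2) * r3)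
    · ld_norm
      linear_combination (x₁ * t / 3) * r1 + (y₁ * t / 3) * r2
    · ld_norm
      linear_combination (t / 6) * hroot
    · ld_norm
      ring

lemma tri_of_rad_t (x y t : k) (hr : Ld.Rad n x y t) (ht : t ≠ 0) :
    Ld.ga n * Ld.gc n - Ld.gb n * Ld.gb n ≠ 0 ∧ Tritangent S Ld.L (Ld.Hn n) := by
  have hd : Ld.ga n * Ld.gc n - Ld.gb n * Ld.gb n ≠ 0 := by
    intro h0
    obtain ⟨x₁, y₁, hne, hb1, hb2⟩ := bq1 _ _ _ h0
    obtain ⟨r1, r2, r3⟩ := hr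
    have hb3 : Ld.gd n * x₁ + Ld.ge n * y₁ = 0 := by
      have : t * (Ld.gd n * x₁ + Ld.ge n * y₁) = 0 := by
        linear_combination x₁ * r1 + y₁ * r2 - x * hb1 - y * hb2
      exact (mul_eq_zero.mp this).resolve_left ht
    ld_norm at r1 r2 r3 hb1 hb2 hb3
    refine S.sing2 hsm h4 Ld.e₀ Ld.e₁ n hli (Ld.pt n x y t) (Ld.pt n x₁ y₁ 0) ?_
      ?_ ?_ ?_ ?_ ?_ ?_ ?_ ?_ ?_
    · intro s r h
      have := hli (s * x + r * x₁) (s * y + r * y₁) (s * t) (by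
        rw [← h]; unfold pt; module)
      obtain ⟨h1, h2, h3⟩ := this
      have hs : s = 0 := (mul_eq_zero.mp h3).resolve_right ht
      rw [hs] at h1 h2
      refine ⟨hs, ?_⟩
      rcases hne with hx | hy
      · have : r * x₁ = 0 := by linear_combination h1
        exact (mul_eq_zero.mp this).resolve_right hx
      · have : r * y₁ = 0 := by linear_combination h2
        exact (mul_eq_zero.mp this).resolve_right hy
    · ld_norm; linear_combination (t / 3) * r1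
    · ld_norm; linear_combination (t / 3) * r2
    · ld_norm; linear_combination (x / 6) * r1 + (y / 6) * r2 + (t / 2) * r3
    · ld_norm; linear_combination (t / 6) * hb1
    · ld_norm; linear_combination (t / 6) * hb2
    · ld_norm; linear_combination (x / 6) * hb1 + (y / 6) * hb2 + (t / 3) * hb3
    · ld_norm; ring
    · ld_norm; ring
    · ld_norm; linear_combination (x₁ / 6) * hb1 + (y₁ / 6) * hb2
  refine ⟨hd, Ld.finrank_Hn hli, Ld.L_le_Hn n, ?_⟩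
  obtain ⟨x₁, y₁, x₂, y₂, hr1, hr2, hdet⟩ := bq2 _ _ _ hd
  have hne1 : x₁ ≠ 0 ∨ y₁ ≠ 0 := by
    by_contra hc
    push Not at hc
    apply hdet
    rw [hc.1, hc.2]; ring
  have hne2 : x₂ ≠ 0 ∨ y₂ ≠ 0 := by
    by_contra hc
    push Not at hc
    apply hdet
    rw [hc.1, hc.2]; ring
  obtain ⟨f1, n1, l1, F1⟩ := Ld.line_t hsm h4 hli x y t hr ht x₁ y₁ hr1 hne1
  obtain ⟨f2, n2, l2, F2⟩ := Ld.line_t hsm h4 hli x y t hr ht x₂ y₂ hr2 hne2
  refine ⟨_, _, f1, f2, n1, n2, ?_, l1, l2, F1, F2⟩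
  intro he
  have hm : Ld.pt n x₂ y₂ 0 ∈ span k {Ld.pt n x y t, Ld.pt n x₁ y₁ 0} := by
    rw [he]; exact subset_span (by simp)
  obtain ⟨s, r, hsr⟩ := mem_span_pair.mp hm
  have := hli (s * x + r * x₁ - x₂) (s * y + r * y₁ - y₂) (s * t) (by
    have e : (s * x + r * x₁ - x₂) • Ld.e₀ + (s * y + r * y₁ - y₂) • Ld.e₁ + (s * t) • n
        = (s • Ld.pt n x y t + r • Ld.pt n x₁ y₁ 0) - Ld.pt n x₂ y₂ 0 := by unfold pt; module
    rw [e, hsr, sub_self])
  obtain ⟨h1, h2, h3⟩ := this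
  have hs : s = 0 := (mul_eq_zero.mp h3).resolve_right ht
  rw [hs] at h1 h2
  apply hdet
  have e1 : x₂ = r * x₁ := by linear_combination -h1
  have e2 : y₂ = r * y₁ := by linear_combination -h2
  rw [e1, e2]; ring

end caseT

/-! ### The singular point of the conic is on the line -/

section caseX

variable [IsAlgClosed k] [CharZero k] [FiniteDimensional k V]
  (hsm : ∀ v : V, v ≠ 0 → S.T v v v = 0 → ∃ u, S.T v v u ≠ 0) (h4 : finrank k V = 4)
  {n : V} (hli : LI3 k Ld.e₀ Ld.e₁ n)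

include hsm h4 hli

omit hsm h4 [IsAlgClosed k] [CharZero k] [FiniteDimensional k V] in
lemma li_x (x y : k) (hx : x ≠ 0) : LI3 k (Ld.pt n x y 0) Ld.e₁ n := by
  intro a b c e
  have := hli (a * x) (a * y + b) c (by rw [← e]; unfold pt; module)
  obtain ⟨h1, h2, h3⟩ := this
  have ha : a = 0 := (mul_eq_zero.mp h1).resolve_right hx
  rw [ha] at h2
  exact ⟨ha, by linear_combination h2, h3⟩

lemma line_x (x y : k) (hr : Ld.Rad n x y 0) (hx : x ≠ 0) (y₁ t₁ : k)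
    (hroot : Ld.gc n * y₁ ^ 2 + 2 * Ld.ge n * y₁ * t₁ + Ld.gf n * t₁ ^ 2 = 0)
    (ht₁ : t₁ ≠ 0) :
    finrank k (span k {Ld.pt n x y 0, Ld.pt n 0 y₁ t₁}) = 2 ∧
      span k {Ld.pt n x y 0, Ld.pt n 0 y₁ t₁} ≠ Ld.L ∧
      span k {Ld.pt n x y 0, Ld.pt n 0 y₁ t₁} ≤ Ld.Hn n ∧
      ∀ u ∈ span k {Ld.pt n x y 0, Ld.pt n 0 y₁ t₁}, S.T u u u = 0 := by
  obtain ⟨r1, r2, r3⟩ := hr
  ld_norm at r1 r2 r3 hroot
  have hx₀ : Ld.pt n x y 0 ≠ 0 := fun h0 => hx (hli x y 0 h0).1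
  refine ⟨?_, ?_, ?_, ?_⟩
  · apply finrank_pair hx₀
    intro a ha
    have := hli (a * x) (a * y - y₁) (-t₁) (by
      have e : (a * x) • Ld.e₀ + (a * y - y₁) • Ld.e₁ + (-t₁) • n
          = a • Ld.pt n x y 0 - Ld.pt n 0 y₁ t₁ := by unfold pt; module
      rw [e, ha, sub_self])
    exact ht₁ (neg_eq_zero.mp this.2.2)
  · intro he
    apply Ld.pt_notmem_L hli 0 y₁ t₁ ht₁
    rw [← he]
    exact subset_span (by simp)
  · rw [span_le]
    intro v hv
    rcases hv with rfl | hv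
    · exact Ld.pt_mem_Hn n _ _ _
    · rw [Set.mem_singleton_iff] at hv; rw [hv]
      exact Ld.pt_mem_Hn n _ _ _
  · apply S.line_of
    · ld_norm
      ring
    · ld_norm
      linear_combination t₁ * ((x / 6) * r1 + (y / 6) * r2)
    · ld_norm
      linear_combination (y₁ * t₁ / 3) * r2 + (t₁ ^ 2 / 3) * r3
    · ld_norm
      linear_combination (t₁ / 2) * hroot

lemma tri_of_rad_x (x y : k) (hr : Ld.Rad n x y 0) (hx : x ≠ 0) :
    Ld.gc n * Ld.gf n - Ld.ge n * Ld.ge n ≠ 0 ∧ Tritangent S Ld.L (Ld.Hn n) := by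
  have hli' := Ld.li_x hli x y hx
  have hz1 : ∀ s r : k, s • Ld.pt n x y 0 + r • Ld.e₁ = 0 → s = 0 ∧ r = 0 := by
    intro s r h
    have := Ld.hli (s * x) (s * y + r) (by rw [← h]; unfold pt; module)
    have hs : s = 0 := (mul_eq_zero.mp this.1).resolve_right hx
    have h2 := this.2
    rw [hs] at h2
    exact ⟨hs, by linear_combination h2⟩
  have hc : Ld.gc n ≠ 0 := by
    intro h0
    obtain ⟨r1, r2, r3⟩ := hr
    ld_norm at r1 r2 r3 h0
    refine S.sing2 hsm h4 (Ld.pt n x y 0) Ld.e₁ n hli' (Ld.pt n x y 0) Ld.e₁ hz1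
      ?_ ?_ ?_ ?_ ?_ ?_ ?_ ?_ ?_
    · ld_norm; ring
    · ld_norm; ring
    · ld_norm; linear_combination (x / 6) * r1 + (y / 6) * r2
    · ld_norm; ring
    · ld_norm; ring
    · ld_norm; linear_combination (1 / 6 : k) * r2
    · ld_norm; ring
    · ld_norm <;> ring
    · ld_norm; linear_combination (1 / 6 : k) * h0
  have hd : Ld.gc n * Ld.gf n - Ld.ge n * Ld.ge n ≠ 0 := by
    intro h0
    obtain ⟨y₁, t₁, hne, hb1, hb2⟩ := bq1 _ _ _ h0
    obtain ⟨r1, r2, r3⟩ := hr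
    ld_norm at r1 r2 r3 hb1 hb2
    refine S.sing2 hsm h4 (Ld.pt n x y 0) Ld.e₁ n hli' (Ld.pt n x y 0) (Ld.pt n 0 y₁ t₁) ?_
      ?_ ?_ ?_ ?_ ?_ ?_ ?_ ?_ ?_
    · intro s r h
      have := hli (s * x) (s * y + r * y₁) (r * t₁) (by rw [← h]; unfold pt; module)
      obtain ⟨h1, h2, h3⟩ := this
      have hs : s = 0 := (mul_eq_zero.mp h1).resolve_right hx
      rw [hs] at h2
      refine ⟨hs, ?_⟩
      rcases hne with hy | ht
      · have : r * y₁ = 0 := by linear_combination h2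
        exact (mul_eq_zero.mp this).resolve_right hy
      · exact (mul_eq_zero.mp h3).resolve_right ht
    · ld_norm; ring
    · ld_norm; ring
    · ld_norm; linear_combination (x / 6) * r1 + (y / 6) * r2
    · ld_norm; linear_combination t₁ * ((x / 6) * r1 + (y / 6) * r2)
    · ld_norm; linear_combination (t₁ / 6) * r2
    · ld_norm; linear_combination (y₁ / 6) * r2 + (t₁ / 3) * r3
    · ld_norm; linear_combination (y₁ * t₁ / 3) * r2 + (t₁ ^ 2 / 3) * r3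
    · ld_norm; linear_combination (t₁ / 3) * hb1
    · ld_norm; linear_combination (y₁ / 6) * hb1 + (t₁ / 2) * hb2
  refine ⟨hd, Ld.finrank_Hn hli, Ld.L_le_Hn n, ?_⟩
  obtain ⟨y₁, t₁, y₂, t₂, hr1, hr2, hdet⟩ := bq2 _ _ _ hd
  have ht₁ : t₁ ≠ 0 := by
    intro h0
    rw [h0] at hr1
    have : Ld.gc n * y₁ ^ 2 = 0 := by linear_combination hr1
    have hy : y₁ = 0 := by
      rcases mul_eq_zero.mp this with h | h
      · exact absurd h hc
      · exact (pow_eq_zero_iff two_ne_zero).mp h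
    apply hdet
    rw [h0, hy]; ring
  have ht₂ : t₂ ≠ 0 := by
    intro h0
    rw [h0] at hr2
    have : Ld.gc n * y₂ ^ 2 = 0 := by linear_combination hr2
    have hy : y₂ = 0 := by
      rcases mul_eq_zero.mp this with h | h
      · exact absurd h hc
      · exact (pow_eq_zero_iff two_ne_zero).mp h
    apply hdet
    rw [h0, hy]; ring
  obtain ⟨f1, n1, l1, F1⟩ := Ld.line_x hsm h4 hli x y hr hx y₁ t₁ hr1 ht₁
  obtain ⟨f2, n2, l2, F2⟩ := Ld.line_x hsm h4 hli x y hr hx y₂ t₂ hr2 ht₂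
  refine ⟨_, _, f1, f2, n1, n2, ?_, l1, l2, F1, F2⟩
  intro he
  have hm : Ld.pt n 0 y₂ t₂ ∈ span k {Ld.pt n x y 0, Ld.pt n 0 y₁ t₁} := by
    rw [he]; exact subset_span (by simp)
  obtain ⟨s, r, hsr⟩ := mem_span_pair.mp hm
  have := hli (s * x) (s * y + r * y₁ - y₂) (r * t₁ - t₂) (by
    have e : (s * x) • Ld.e₀ + (s * y + r * y₁ - y₂) • Ld.e₁ + (r * t₁ - t₂) • n
        = (s • Ld.pt n x y 0 + r • Ld.pt n 0 y₁ t₁) - Ld.pt n 0 y₂ t₂ := by unfold pt; module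
    rw [e, hsr, sub_self])
  obtain ⟨h1, h2, h3⟩ := this
  have hs : s = 0 := (mul_eq_zero.mp h1).resolve_right hx
  rw [hs] at h2
  apply hdet
  have e1 : y₂ = r * y₁ := by linear_combination -h2
  have e2 : t₂ = r * t₁ := by linear_combination -h3
  rw [e1, e2]; ring

end caseX

/-! ### The symmetric case and the final criterion -/

lemma swap_ga (n : V) : Ld.swap.ga n = Ld.gc n := rfl
lemma swap_gc (n : V) : Ld.swap.gc n = Ld.ga n := rfl
lemma swap_gb (n : V) : Ld.swap.gb n = Ld.gb n := by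
  unfold gb swap
  simp only
  rw [S.s12]
lemma swap_gd (n : V) : Ld.swap.gd n = Ld.ge n := rfl
lemma swap_ge (n : V) : Ld.swap.ge n = Ld.gd n := rfl
lemma swap_gf (n : V) : Ld.swap.gf n = Ld.gf n := rfl

lemma swap_Hn (n : V) : Ld.swap.Hn n = Ld.Hn n := by
  unfold Hn
  rw [Ld.swap_L]

section final

variable [IsAlgClosed k] [CharZero k] [FiniteDimensional k V]
  (hsm : ∀ v : V, v ≠ 0 → S.T v v v = 0 → ∃ u, S.T v v u ≠ 0) (h4 : finrank k V = 4)
  {n : V} (hli : LI3 k Ld.e₀ Ld.e₁ n)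

include hsm h4 hli

lemma tri_of_rad_y (x y : k) (hr : Ld.Rad n x y 0) (hy : y ≠ 0) :
    Ld.ga n * Ld.gf n - Ld.gd n * Ld.gd n ≠ 0 ∧ Tritangent S Ld.L (Ld.Hn n) := by
  have hli' : LI3 k Ld.swap.e₀ Ld.swap.e₁ n := by
    intro a b c e
    have := hli b a c (by rw [← e]; show _ = a • Ld.e₁ + b • Ld.e₀ + c • n; abel)
    tauto
  obtain ⟨r1, r2, r3⟩ := hr
  have hr' : Ld.swap.Rad n y x 0 := by
    refine ⟨?_, ?_, ?_⟩
    · rw [swap_ga, swap_gb, swap_gd]; linear_combination r2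
    · rw [swap_gb, swap_gc, swap_ge]; linear_combination r1
    · rw [swap_gd, swap_ge, swap_gf]; linear_combination r3
  have := Ld.swap.tri_of_rad_x hsm h4 hli' y x hr' hy
  rw [swap_gc, swap_gf, swap_ge, swap_L, swap_Hn] at this
  exact this

lemma tritangent_iff : Tritangent S Ld.L (Ld.Hn n) ↔ Ld.Disc n = 0 := by
  constructor
  · rintro ⟨-, -, L', -, h2, -, hne, -, -, hle, -, hF, -⟩
    exact (Ld.disc_iff n).mpr (Ld.rad_of_line hli L' h2 hle hne hF)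
  · intro h
    obtain ⟨x, y, t, hne, hr⟩ := (Ld.disc_iff n).mp h
    by_cases ht : t = 0
    · subst ht
      by_cases hx : x = 0
      · have hy : y ≠ 0 := by
          rcases hne with h | h | h
          · exact absurd hx h
          · exact h
          · exact absurd rfl h
        exact (Ld.tri_of_rad_y hsm h4 hli x y hr hy).2
      · exact (Ld.tri_of_rad_x hsm h4 hli x y hr hx).2
    · exact (Ld.tri_of_rad_t hsm h4 hli x y t hr ht).2

end final

end LineData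

end SmCub
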