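import Groth.Agent.Lib.Helper4.SmCubB

/-!
# Smooth cubic surfaces, part C: the discriminant quintic and the five tritangent planes
-/

set_option autoImplicit false
set_option linter.style.haveILetI false
set_option linter.unusedSectionVars false
set_option linter.unusedVariables false
set_option linter.unusedSimpArgs false
set_option linter.unusedTactic false
set_option linter.unreachableTactic false
set_option linter.deprecated false
set_option maxHeartbeats 1600000
set_option maxSynthPendingDepth 3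

universe u

open Module Submodule NodCub Polynomial

namespace SmCub

section lemmaJ

variable {K : Type u} [Field K]

/-- Derivative of a symmetric `3 × 3` determinant at a point where `(x, y, z)` is in the kernel. -/
lemma Jz (a b c d e f : K[X]) (x y z σ : K)
    (r₁ : eval σ a * x + eval σ b * y + eval σ d * z = 0)
    (r₂ : eval σ b * x + eval σ c * y + eval σ e * z = 0)
    (r₃ : eval σ d * x + eval σ e * y + eval σ f * z = 0) :
    z ^ 2 * eval σ (derivative
        (a * (c * f - e * e) - b * (b * f - e * d) + d * (b * e - c * d)))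
      = (eval σ (derivative a) * x ^ 2 + eval σ (derivative c) * y ^ 2
          + eval σ (derivative f) * z ^ 2 + 2 * eval σ (derivative b) * x * y
          + 2 * eval σ (derivative d) * x * z + 2 * eval σ (derivative e) * y * z)
        * (eval σ a * eval σ c - eval σ b * eval σ b) := by
  obtain ⟨g₁, hg₁⟩ : ∃ g₁ : K[X], g₁ = C x * a + C y * b + C z * d := ⟨_, rfl⟩
  obtain ⟨g₂, hg₂⟩ : ∃ g₂ : K[X], g₂ = C x * b + C y * c + C z * e := ⟨_, rfl⟩
  obtain ⟨g₃, hg₃⟩ : ∃ g₃ : K[X],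
    g₃ = C x * g₁ + C y * g₂ + C z * (C x * d + C y * e + C z * f) := ⟨_, rfl⟩
  obtain ⟨δ, hδ⟩ : ∃ δ : K[X],
    δ = a * (c * f - e * e) - b * (b * f - e * d) + d * (b * e - c * d) := ⟨_, rfl⟩
  rw [← hδ]
  have hid : C z * C z * δ
      = g₃ * (a * c - b * b) - g₂ * (a * g₂ - b * g₁) + g₁ * (b * g₂ - c * g₁) := by
    rw [hδ, hg₃, hg₂, hg₁]; ring
  have e1 : eval σ g₁ = 0 := by
    rw [hg₁]; simp only [eval_add, eval_mul, eval_C]; linear_combination r₁
  have e2 : eval σ g₂ = 0 := by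
    rw [hg₂]; simp only [eval_add, eval_mul, eval_C]; linear_combination r₂
  have e3 : eval σ g₃ = 0 := by
    rw [hg₃]; simp only [eval_add, eval_mul, eval_C, e1, e2]; linear_combination z * r₃
  have d3 : eval σ (derivative g₃)
      = eval σ (derivative a) * x ^ 2 + eval σ (derivative c) * y ^ 2
          + eval σ (derivative f) * z ^ 2 + 2 * eval σ (derivative b) * x * y
          + 2 * eval σ (derivative d) * x * z + 2 * eval σ (derivative e) * y * z := by
    rw [hg₃, hg₂, hg₁]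
    simp only [derivative_add, derivative_mul, derivative_C, eval_add, eval_mul, eval_C,
      zero_mul, zero_add]
    ring
  have := congrArg (fun P => eval σ (derivative P)) hid
  simp only [derivative_mul, derivative_sub, derivative_add, derivative_C, eval_add, eval_sub,
    eval_mul, eval_C, zero_mul, zero_add, mul_zero, add_zero, e1, e2, e3] at this
  rw [← d3]
  linear_combination this

lemma Jx (a b c d e f : K[X]) (x y z σ : K)
    (r₁ : eval σ a * x + eval σ b * y + eval σ d * z = 0)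
    (r₂ : eval σ b * x + eval σ c * y + eval σ e * z = 0)
    (r₃ : eval σ d * x + eval σ e * y + eval σ f * z = 0) :
    x ^ 2 * eval σ (derivative
        (a * (c * f - e * e) - b * (b * f - e * d) + d * (b * e - c * d)))
      = (eval σ (derivative a) * x ^ 2 + eval σ (derivative c) * y ^ 2
          + eval σ (derivative f) * z ^ 2 + 2 * eval σ (derivative b) * x * y
          + 2 * eval σ (derivative d) * x * z + 2 * eval σ (derivative e) * y * z)
        * (eval σ c * eval σ f - eval σ e * eval σ e) := by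
  have h := Jz f e c d b a z y x σ (by linear_combination r₃) (by linear_combination r₂)
    (by linear_combination r₁)
  have hdet : f * (c * a - b * b) - e * (e * a - b * d) + d * (e * b - c * d)
      = a * (c * f - e * e) - b * (b * f - e * d) + d * (b * e - c * d) := by ring
  rw [hdet] at h
  linear_combination h

lemma Jy (a b c d e f : K[X]) (x y z σ : K)
    (r₁ : eval σ a * x + eval σ b * y + eval σ d * z = 0)
    (r₂ : eval σ b * x + eval σ c * y + eval σ e * z = 0)
    (r₃ : eval σ d * x + eval σ e * y + eval σ f * z = 0) :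
    y ^ 2 * eval σ (derivative
        (a * (c * f - e * e) - b * (b * f - e * d) + d * (b * e - c * d)))
      = (eval σ (derivative a) * x ^ 2 + eval σ (derivative c) * y ^ 2
          + eval σ (derivative f) * z ^ 2 + 2 * eval σ (derivative b) * x * y
          + 2 * eval σ (derivative d) * x * z + 2 * eval σ (derivative e) * y * z)
        * (eval σ a * eval σ f - eval σ d * eval σ d) := by
  have h := Jz a d f b e c x z y σ (by linear_combination r₁) (by linear_combination r₃)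
    (by linear_combination r₂)
  have hdet : a * (f * c - e * e) - d * (d * c - e * b) + b * (d * e - f * b)
      = a * (c * f - e * e) - b * (b * f - e * d) + d * (b * e - c * d) := by ring
  rw [hdet] at h
  linear_combination h

end lemmaJ

variable {k : Type u} {V : Type u} [Field k] [AddCommGroup V] [Module k V] {S : SymTri k V}

/-- A complement of the line with a chosen basis. -/
structure Frame4 (Ld : LineData S) where
  e₂ : V
  e₃ : V
  li : LI4 k Ld.e₀ Ld.e₁ e₂ e₃

namespace Frame4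

variable {Ld : LineData S} (fr : Frame4 Ld)

/-- The pencil of planes through the line. -/
def nσ (σ : k) : V := σ • fr.e₂ + fr.e₃

lemma li3 (σ : k) : LI3 k Ld.e₀ Ld.e₁ (fr.nσ σ) := by
  intro a b c e
  have := fr.li a b (c * σ) c (by rw [← e]; unfold nσ; module)
  exact ⟨this.1, this.2.1, this.2.2.2⟩

lemma li3_e₂ : LI3 k Ld.e₀ Ld.e₁ fr.e₂ := by
  intro a b c e
  have := fr.li a b c 0 (by rw [← e]; module)
  exact ⟨this.1, this.2.1, this.2.2.1⟩

lemma li4n (σ : k) : LI4 k Ld.e₀ Ld.e₁ (fr.nσ σ) fr.e₂ := by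
  intro a b c d e
  have := fr.li a b (c * σ + d) c (by rw [← e]; unfold nσ; module)
  obtain ⟨h1, h2, h3, h4'⟩ := this
  rw [h4', zero_mul, zero_add] at h3
  exact ⟨h1, h2, h4', h3⟩

noncomputable def pa : k[X] :=
  C 6 * (C (S.T Ld.e₀ Ld.e₀ fr.e₂) * X + C (S.T Ld.e₀ Ld.e₀ fr.e₃))
noncomputable def pb : k[X] :=
  C 6 * (C (S.T Ld.e₀ Ld.e₁ fr.e₂) * X + C (S.T Ld.e₀ Ld.e₁ fr.e₃))
noncomputable def pc : k[X] :=
  C 6 * (C (S.T Ld.e₁ Ld.e₁ fr.e₂) * X + C (S.T Ld.e₁ Ld.e₁ fr.e₃))
noncomputable def pd : k[X] :=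
  C 3 * (C (S.T Ld.e₀ fr.e₂ fr.e₂) * X ^ 2 + C (2 * S.T Ld.e₀ fr.e₂ fr.e₃) * X
    + C (S.T Ld.e₀ fr.e₃ fr.e₃))
noncomputable def pe : k[X] :=
  C 3 * (C (S.T Ld.e₁ fr.e₂ fr.e₂) * X ^ 2 + C (2 * S.T Ld.e₁ fr.e₂ fr.e₃) * X
    + C (S.T Ld.e₁ fr.e₃ fr.e₃))
noncomputable def pf : k[X] :=
  C 2 * (C (S.T fr.e₂ fr.e₂ fr.e₂) * X ^ 3 + C (3 * S.T fr.e₂ fr.e₂ fr.e₃) * X ^ 2
    + C (3 * S.T fr.e₂ fr.e₃ fr.e₃) * X + C (S.T fr.e₃ fr.e₃ fr.e₃))

/-- The discriminant quintic. -/
noncomputable def δ : k[X] :=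
  fr.pa * (fr.pc * fr.pf - fr.pe * fr.pe) - fr.pb * (fr.pb * fr.pf - fr.pe * fr.pd)
    + fr.pd * (fr.pb * fr.pe - fr.pc * fr.pd)

lemma eval_pa (σ : k) : eval σ fr.pa = Ld.ga (fr.nσ σ) := by
  unfold pa LineData.ga nσ
  simp only [eval_mul, eval_add, eval_C, eval_X, eval_pow]
  st_norm; ring
lemma eval_pb (σ : k) : eval σ fr.pb = Ld.gb (fr.nσ σ) := by
  unfold pb LineData.gb nσ
  simp only [eval_mul, eval_add, eval_C, eval_X, eval_pow]
  st_norm; ring
lemma eval_pc (σ : k) : eval σ fr.pc = Ld.gc (fr.nσ σ) := by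
  unfold pc LineData.gc nσ
  simp only [eval_mul, eval_add, eval_C, eval_X, eval_pow]
  st_norm; ring
lemma eval_pd (σ : k) : eval σ fr.pd = Ld.gd (fr.nσ σ) := by
  unfold pd LineData.gd nσ
  simp only [eval_mul, eval_add, eval_C, eval_X, eval_pow]
  st_norm; ring
lemma eval_pe (σ : k) : eval σ fr.pe = Ld.ge (fr.nσ σ) := by
  unfold pe LineData.ge nσ
  simp only [eval_mul, eval_add, eval_C, eval_X, eval_pow]
  st_norm; ring
lemma eval_pf (σ : k) : eval σ fr.pf = Ld.gf (fr.nσ σ) := by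
  unfold pf LineData.gf nσ
  simp only [eval_mul, eval_add, eval_C, eval_X, eval_pow]
  st_norm; ring

lemma eval_δ (σ : k) : eval σ fr.δ = Ld.Disc (fr.nσ σ) := by
  unfold δ LineData.Disc
  simp only [eval_add, eval_sub, eval_mul]
  rw [fr.eval_pa, fr.eval_pb, fr.eval_pc, fr.eval_pd, fr.eval_pe, fr.eval_pf]

lemma deriv_pa (σ : k) : eval σ (derivative fr.pa) = 6 * S.T Ld.e₀ Ld.e₀ fr.e₂ := by
  unfold pa
  simp only [derivative_add, derivative_mul, derivative_C, derivative_X_pow, derivative_X,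
    eval_add, eval_mul, eval_C, eval_pow, eval_X, eval_zero, eval_one, zero_mul, zero_add,
    mul_one, Nat.cast_ofNat, Nat.reduceSub, add_zero, mul_zero, pow_one]
lemma deriv_pb (σ : k) : eval σ (derivative fr.pb) = 6 * S.T Ld.e₀ Ld.e₁ fr.e₂ := by
  unfold pb
  simp only [derivative_add, derivative_mul, derivative_C, derivative_X_pow, derivative_X,
    eval_add, eval_mul, eval_C, eval_pow, eval_X, eval_zero, eval_one, zero_mul, zero_add,
    mul_one, Nat.cast_ofNat, Nat.reduceSub, add_zero, mul_zero, pow_one]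
lemma deriv_pc (σ : k) : eval σ (derivative fr.pc) = 6 * S.T Ld.e₁ Ld.e₁ fr.e₂ := by
  unfold pc
  simp only [derivative_add, derivative_mul, derivative_C, derivative_X_pow, derivative_X,
    eval_add, eval_mul, eval_C, eval_pow, eval_X, eval_zero, eval_one, zero_mul, zero_add,
    mul_one, Nat.cast_ofNat, Nat.reduceSub, add_zero, mul_zero, pow_one]
lemma deriv_pd (σ : k) :
    eval σ (derivative fr.pd) = 6 * S.T Ld.e₀ (fr.nσ σ) fr.e₂ := by
  unfold pd nσ
  simp only [derivative_add, derivative_mul, derivative_C, derivative_X_pow, derivative_X,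
    eval_add, eval_mul, eval_C, eval_pow, eval_X, eval_zero, eval_one, zero_mul, zero_add,
    mul_one, Nat.cast_ofNat, Nat.reduceSub, add_zero, mul_zero, pow_one]
  st_norm; ring
lemma deriv_pe (σ : k) :
    eval σ (derivative fr.pe) = 6 * S.T Ld.e₁ (fr.nσ σ) fr.e₂ := by
  unfold pe nσ
  simp only [derivative_add, derivative_mul, derivative_C, derivative_X_pow, derivative_X,
    eval_add, eval_mul, eval_C, eval_pow, eval_X, eval_zero, eval_one, zero_mul, zero_add,
    mul_one, Nat.cast_ofNat, Nat.reduceSub, add_zero, mul_zero, pow_one]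
  st_norm; ring
lemma deriv_pf (σ : k) :
    eval σ (derivative fr.pf) = 6 * S.T (fr.nσ σ) (fr.nσ σ) fr.e₂ := by
  unfold pf nσ
  simp only [derivative_add, derivative_mul, derivative_C, derivative_X_pow, derivative_X,
    eval_add, eval_mul, eval_C, eval_pow, eval_X, eval_zero, eval_one, zero_mul, zero_add,
    mul_one, Nat.cast_ofNat, Nat.reduceSub, add_zero, mul_zero, pow_one]
  st_norm; ring

lemma S_eq (σ x y t : k) :
    eval σ (derivative fr.pa) * x ^ 2 + eval σ (derivative fr.pc) * y ^ 2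
      + eval σ (derivative fr.pf) * t ^ 2 + 2 * eval σ (derivative fr.pb) * x * y
      + 2 * eval σ (derivative fr.pd) * x * t + 2 * eval σ (derivative fr.pe) * y * t
    = 6 * S.T (Ld.pt (fr.nσ σ) x y t) (Ld.pt (fr.nσ σ) x y t) fr.e₂ := by
  rw [fr.deriv_pa, fr.deriv_pb, fr.deriv_pc, fr.deriv_pd, fr.deriv_pe, fr.deriv_pf]
  unfold LineData.pt
  st_norm
  ring

section smooth

variable [IsAlgClosed k] [CharZero k] [FiniteDimensional k V]
  (hsm : ∀ v : V, v ≠ 0 → S.T v v v = 0 → ∃ u, S.T v v u ≠ 0) (h4 : finrank k V = 4)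

include hsm h4

lemma no_double (σ : k) (h1 : eval σ fr.δ = 0) (h2 : eval σ (derivative fr.δ) = 0) : False := by
  rw [fr.eval_δ] at h1
  obtain ⟨x, y, t, hne, hr⟩ := (Ld.disc_iff _).mp h1
  have hli := fr.li3 σ
  have hx₀ : Ld.pt (fr.nσ σ) x y t ≠ 0 := by
    intro h0
    obtain ⟨a1, a2, a3⟩ := hli x y t h0
    rcases hne with h | h | h
    · exact h a1
    · exact h a2
    · exact h a3
  have hr' := hr
  obtain ⟨r1, r2, r3⟩ := hr'
  have q1 : eval σ fr.pa * x + eval σ fr.pb * y + eval σ fr.pd * t = 0 := by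
    rw [fr.eval_pa, fr.eval_pb, fr.eval_pd]; exact r1
  have q2 : eval σ fr.pb * x + eval σ fr.pc * y + eval σ fr.pe * t = 0 := by
    rw [fr.eval_pb, fr.eval_pc, fr.eval_pe]; exact r2
  have q3 : eval σ fr.pd * x + eval σ fr.pe * y + eval σ fr.pf * t = 0 := by
    rw [fr.eval_pd, fr.eval_pe, fr.eval_pf]; exact r3
  ld_norm at r1 r2 r3
  have g0 : S.T (Ld.pt (fr.nσ σ) x y t) (Ld.pt (fr.nσ σ) x y t) Ld.e₀ = 0 := by
    ld_norm; linear_combination (t / 3) * r1
  have g1 : S.T (Ld.pt (fr.nσ σ) x y t) (Ld.pt (fr.nσ σ) x y t) Ld.e₁ = 0 := by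
    ld_norm; linear_combination (t / 3) * r2
  have gn : S.T (Ld.pt (fr.nσ σ) x y t) (Ld.pt (fr.nσ σ) x y t) (fr.nσ σ) = 0 := by
    ld_norm; linear_combination (x / 6) * r1 + (y / 6) * r2 + (t / 2) * r3
  have hF : S.T (Ld.pt (fr.nσ σ) x y t) (Ld.pt (fr.nσ σ) x y t) (Ld.pt (fr.nσ σ) x y t) = 0 := by
    show S.T _ _ (x • Ld.e₀ + y • Ld.e₁ + t • fr.nσ σ) = 0
    rw [S.add3, S.add3, S.smul3, S.smul3, S.smul3, g0, g1, gn]; ring
  obtain ⟨u, hu⟩ := hsm _ hx₀ hF
  have hS : S.T (Ld.pt (fr.nσ σ) x y t) (Ld.pt (fr.nσ σ) x y t) fr.e₂ ≠ 0 := by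
    intro h0
    apply hu
    obtain ⟨a, b, c, d, rfl⟩ := (fr.li4n σ).span h4 u
    rw [S.add3, S.add3, S.add3, S.smul3, S.smul3, S.smul3, S.smul3, g0, g1, gn, h0]; ring
  have hS6 : (6 : k) * S.T (Ld.pt (fr.nσ σ) x y t) (Ld.pt (fr.nσ σ) x y t) fr.e₂ ≠ 0 :=
    mul_ne_zero (by norm_num) hS
  have h2' : eval σ (derivative (fr.pa * (fr.pc * fr.pf - fr.pe * fr.pe)
      - fr.pb * (fr.pb * fr.pf - fr.pe * fr.pd) + fr.pd * (fr.pb * fr.pe - fr.pc * fr.pd))) = 0 :=
    h2
  by_cases ht : t = 0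
  · subst ht
    by_cases hx : x = 0
    · have hy : y ≠ 0 := by
        rcases hne with h | h | h
        · exact absurd hx h
        · exact h
        · exact absurd rfl h
      have hd := (Ld.tri_of_rad_y hsm h4 hli x y hr hy).1
      have hJ := Jy fr.pa fr.pb fr.pc fr.pd fr.pe fr.pf x y 0 σ q1 q2 q3
      rw [h2', mul_zero, fr.S_eq, fr.eval_pa, fr.eval_pf, fr.eval_pd] at hJ
      exact (mul_ne_zero hS6 hd) hJ.symm
    · have hd := (Ld.tri_of_rad_x hsm h4 hli x y hr hx).1
      have hJ := Jx fr.pa fr.pb fr.pc fr.pd fr.pe fr.pf x y 0 σ q1 q2 q3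
      rw [h2', mul_zero, fr.S_eq, fr.eval_pc, fr.eval_pf, fr.eval_pe] at hJ
      exact (mul_ne_zero hS6 hd) hJ.symm
  · have hd := (Ld.tri_of_rad_t hsm h4 hli x y t hr ht).1
    have hJ := Jz fr.pa fr.pb fr.pc fr.pd fr.pe fr.pf x y t σ q1 q2 q3
    rw [h2', mul_zero, fr.S_eq, fr.eval_pa, fr.eval_pc, fr.eval_pb] at hJ
    exact (mul_ne_zero hS6 hd) hJ.symm

lemma δ_ne_zero : fr.δ ≠ 0 := by
  intro h
  exact fr.no_double hsm h4 0 (by rw [h]; simp) (by rw [h]; simp)

lemma exists_eval_ne : ∃ σ, eval σ fr.δ ≠ 0 := by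
  by_contra h
  push Not at h
  exact fr.δ_ne_zero hsm h4 (Polynomial.funext (fun σ => by rw [h σ, eval_zero]))

end smooth

end Frame4

namespace LineData

variable (Ld : LineData S)

lemma exists_frame4 [FiniteDimensional k V] (h4 : finrank k V = 4) : Nonempty (Frame4 Ld) := by
  have h2 : LinearIndependent k ![Ld.e₀, Ld.e₁] := LinearIndependent.pair_iff.mpr Ld.hli
  obtain ⟨w₁, hw₁⟩ := exists_cons_li (k := k) ![Ld.e₀, Ld.e₁] h2 (by omega)
  have hw₁' : LinearIndependent k ![w₁, Ld.e₀, Ld.e₁] := hw₁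
  obtain ⟨w₂, hw₂⟩ := exists_cons_li (k := k) ![w₁, Ld.e₀, Ld.e₁] hw₁' (by omega)
  have hw₂' : LinearIndependent k ![w₂, w₁, Ld.e₀, Ld.e₁] := hw₂
  have h := (li4_iff w₂ w₁ Ld.e₀ Ld.e₁).mpr hw₂'
  refine ⟨⟨w₁, w₂, fun a b c d e => ?_⟩⟩
  have := h d c a b (by rw [← e]; abel)
  tauto

lemma exists_good_frame4 [IsAlgClosed k] [CharZero k] [FiniteDimensional k V]
    (hsm : ∀ v : V, v ≠ 0 → S.T v v v = 0 → ∃ u, S.T v v u ≠ 0) (h4 : finrank k V = 4) :
    ∃ fr : Frame4 Ld, Ld.Disc fr.e₂ ≠ 0 := by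
  obtain ⟨fr₀⟩ := Ld.exists_frame4 h4
  obtain ⟨σ₀, hσ₀⟩ := fr₀.exists_eval_ne hsm h4
  refine ⟨⟨fr₀.nσ σ₀, fr₀.e₂, ?_⟩, ?_⟩
  · intro a b c d e
    have := fr₀.li a b (c * σ₀ + d) c (by rw [← e]; unfold Frame4.nσ; module)
    obtain ⟨h1, h2, h3, h4'⟩ := this
    rw [h4', zero_mul, zero_add] at h3
    exact ⟨h1, h2, h4', h3⟩
  · show Ld.Disc (fr₀.nσ σ₀) ≠ 0
    rw [← fr₀.eval_δ]; exact hσ₀

end LineData

namespace Frame4

variable {Ld : LineData S} (fr : Frame4 Ld)

lemma natDegree_δ (hD : Ld.Disc fr.e₂ ≠ 0) : fr.δ.natDegree = 5 := by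
  unfold δ pa pb pc pd pe pf
  compute_degree!
  all_goals
    intro h
    apply hD
    unfold LineData.Disc
    ld_unfold
    linear_combination h

section count

variable [IsAlgClosed k] [CharZero k] [FiniteDimensional k V]
  (hsm : ∀ v : V, v ≠ 0 → S.T v v v = 0 → ∃ u, S.T v v u ≠ 0) (h4 : finrank k V = 4)

include hsm h4

lemma ncard_tritangent (hD : Ld.Disc fr.e₂ ≠ 0) :
    {H : Submodule k V | Tritangent S Ld.L H}.ncard = 5 := by
  classical
  have hg0 : fr.δ ≠ 0 := fr.δ_ne_zero hsm h4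
  have hdeg := fr.natDegree_δ hD
  have hcard : fr.δ.roots.card = 5 := by
    rw [← hdeg]; exact splits_iff_card_roots.mp (IsAlgClosed.splits fr.δ)
  have hnd : fr.δ.roots.Nodup := by
    rw [Multiset.nodup_iff_count_le_one]
    intro σ
    rw [count_roots]
    by_contra h
    push Not at h
    obtain ⟨h1, h2⟩ := (one_lt_rootMultiplicity_iff_isRoot hg0).mp h
    exact fr.no_double hsm h4 σ h1 h2
  have hfc : fr.δ.roots.toFinset.card = 5 := by
    rw [Multiset.toFinset_card_of_nodup hnd, hcard]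
  have himg : {H : Submodule k V | Tritangent S Ld.L H}
      = (fun σ => Ld.Hn (fr.nσ σ)) '' (fr.δ.roots.toFinset : Set k) := by
    ext H
    constructor
    · intro hH
      have hH' : Tritangent S Ld.L H := hH
      obtain ⟨hH3, hLH, -⟩ := hH
      -- a vector of H outside L
      obtain ⟨h, hhH, hhL⟩ : ∃ h ∈ H, h ∉ Ld.L := by
        by_contra hc
        push Not at hc
        have := Submodule.finrank_mono (fun u hu => hc u hu : H ≤ Ld.L)
        rw [hH3, Ld.finrank_L] at this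
        omega
      obtain ⟨a, b, c, d, rfl⟩ := fr.li.span h4 h
      have hn'H : c • fr.e₂ + d • fr.e₃ ∈ H := by
        have e : c • fr.e₂ + d • fr.e₃
            = (a • Ld.e₀ + b • Ld.e₁ + c • fr.e₂ + d • fr.e₃) - (a • Ld.e₀ + b • Ld.e₁) := by
          module
        rw [e]
        exact sub_mem hhH (hLH ((Ld.mem_L _).mpr ⟨a, b, rfl⟩))
      have hcd : c ≠ 0 ∨ d ≠ 0 := by
        by_contra hc
        push Not at hc
        apply hhL
        rw [hc.1, hc.2]
        exact (Ld.mem_L _).mpr ⟨a, b, by simp⟩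
      have hli' : LI3 k Ld.e₀ Ld.e₁ (c • fr.e₂ + d • fr.e₃) := by
        intro a' b' c' e
        have := fr.li a' b' (c' * c) (c' * d) (by rw [← e]; module)
        obtain ⟨h1, h2, h3, h4'⟩ := this
        refine ⟨h1, h2, ?_⟩
        rcases hcd with hc | hd
        · exact (mul_eq_zero.mp h3).resolve_right hc
        · exact (mul_eq_zero.mp h4').resolve_right hd
      have hHeq : Ld.Hn (c • fr.e₂ + d • fr.e₃) = H := by
        apply Submodule.eq_of_le_of_finrank_eq
        · apply sup_le hLH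
          rw [span_le]
          intro v hv
          rw [Set.mem_singleton_iff] at hv; rw [hv]; exact hn'H
        · rw [Ld.finrank_Hn hli', hH3]
      by_cases hd : d = 0
      · exfalso
        have hc : c ≠ 0 := by
          rcases hcd with h | h
          · exact h
          · exact absurd hd h
        have hspan : Ld.Hn (c • fr.e₂ + d • fr.e₃) = Ld.Hn fr.e₂ := by
          unfold LineData.Hn
          rw [hd, zero_smul, add_zero, Submodule.span_singleton_smul_eq (IsUnit.mk0 c hc)]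
        rw [hspan] at hHeq
        rw [← hHeq] at hH'
        exact hD ((Ld.tritangent_iff hsm h4 fr.li3_e₂).mp hH')
      · have hspan : Ld.Hn (c • fr.e₂ + d • fr.e₃) = Ld.Hn (fr.nσ (c / d)) := by
          unfold LineData.Hn
          have e : c • fr.e₂ + d • fr.e₃ = d • fr.nσ (c / d) := by
            unfold nσ
            rw [smul_add, smul_smul, mul_div_cancel₀ c hd]
          rw [e, Submodule.span_singleton_smul_eq (IsUnit.mk0 d hd)]
        rw [hspan] at hHeq
        refine ⟨c / d, ?_, hHeq⟩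
        rw [Finset.mem_coe, Multiset.mem_toFinset, mem_roots hg0, IsRoot.def, fr.eval_δ]
        rw [← hHeq] at hH'
        exact (Ld.tritangent_iff hsm h4 (fr.li3 _)).mp hH'
    · rintro ⟨σ, hσ, rfl⟩
      rw [Finset.mem_coe, Multiset.mem_toFinset, mem_roots hg0, IsRoot.def, fr.eval_δ] at hσ
      exact (Ld.tritangent_iff hsm h4 (fr.li3 σ)).mpr hσ
  rw [himg, Set.InjOn.ncard_image, Set.ncard_coe_finset, hfc]
  intro σ hσ σ' hσ' h
  have h' : Ld.Hn (fr.nσ σ) = Ld.Hn (fr.nσ σ') := h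
  have hmem : fr.nσ σ' ∈ Ld.Hn (fr.nσ σ) := by
    rw [h']; exact mem_sup_right (mem_span_singleton_self _)
  obtain ⟨x, y, t, hxyt⟩ := (Ld.mem_Hn _ _).mp hmem
  have := fr.li x y (t * σ - σ') (t - 1) (by
    have e : x • Ld.e₀ + y • Ld.e₁ + (t * σ - σ') • fr.e₂ + (t - 1) • fr.e₃
        = Ld.pt (fr.nσ σ) x y t - fr.nσ σ' := by unfold LineData.pt nσ; module
    rw [e, ← hxyt, sub_self])
  obtain ⟨-, -, h3, h4'⟩ := this
  have ht : t = 1 := by linear_combination h4'
  rw [ht] at h3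
  linear_combination h3

end count

end Frame4

/-- **Five tritangent planes** through a line on a smooth cubic surface (abstract form). -/
theorem ncard_tritangent_eq_five [IsAlgClosed k] [CharZero k] [FiniteDimensional k V]
    (S : SymTri k V)
    (hsm : ∀ v : V, v ≠ 0 → S.T v v v = 0 → ∃ u, S.T v v u ≠ 0) (h4 : finrank k V = 4)
    (L : Submodule k V) (hL : finrank k L = 2) (hLS : ∀ u ∈ L, S.T u u u = 0) :
    {H : Submodule k V | Tritangent S L H}.ncard = 5 := by
  have hne : L ≠ ⊥ := by rintro rfl; simp at hL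
  obtain ⟨x, hxL, hx0⟩ := Submodule.exists_mem_ne_zero_of_ne_bot hne
  obtain ⟨w, hwL, hind, hLeq⟩ := exists_pair_of_finrank_two L hL x hxL hx0
  obtain ⟨c1, c2, c3, c4⟩ := S.cross_of_mem L hLS x w hxL hwL
  have hli2 : LinearIndependent k ![x, w] := (LinearIndependent.pair_iff' hx0).mpr hind
  let Ld : LineData S := ⟨x, w, LinearIndependent.pair_iff.mp hli2, c1, c3, c4, c2⟩
  have hLd : Ld.L = L := hLeq.symm
  obtain ⟨fr, hfr⟩ := Ld.exists_good_frame4 hsm h4
  rw [← hLd]
  exact fr.ncard_tritangent hsm h4 hfr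

end SmCub
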