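import Groth.Agent.Lib.Helper4.SmCubC
import Groth.Agent.Lib.Helper4.NodCubD

/-!
# Smooth cubic surfaces, part D: polynomial statements
-/

set_option autoImplicit false
set_option linter.style.haveILetI false
set_option linter.unusedSectionVars false
set_option linter.unusedVariables false
set_option linter.unusedSimpArgs false
set_option linter.unusedTactic false
set_option linter.deprecated false
set_option maxHeartbeats 1600000
set_option maxSynthPendingDepth 3

universe u

open Module Submodule NodCub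

namespace SmCub

section abstract

variable {k : Type u} {V : Type u} [Field k] [AddCommGroup V] [Module k V]

/-- A smooth cubic surface containing a line contains two disjoint lines (abstract form). -/
theorem exists_disjoint_lines [IsAlgClosed k] [CharZero k] [FiniteDimensional k V]
    (S : SymTri k V)
    (hsm : ∀ v : V, v ≠ 0 → S.T v v v = 0 → ∃ u, S.T v v u ≠ 0) (h4 : finrank k V = 4)
    (L : Submodule k V) (hL : finrank k L = 2) (hLS : ∀ u ∈ L, S.T u u u = 0) :
    ∃ U₁ U₂ : Submodule k V, (finrank k U₁ = 2 ∧ ∀ u ∈ U₁, S.T u u u = 0) ∧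
      (finrank k U₂ = 2 ∧ ∀ u ∈ U₂, S.T u u u = 0) ∧ U₁ ⊓ U₂ = ⊥ := by
  have h5 := ncard_tritangent_eq_five S hsm h4 L hL hLS
  have hfin : {H : Submodule k V | Tritangent S L H}.Finite :=
    Set.finite_of_ncard_ne_zero (by rw [h5]; norm_num)
  obtain ⟨H₁, H₂, hH₁, hH₂, hne⟩ := (Set.one_lt_ncard_iff hfin).mp (by rw [h5]; norm_num)
  obtain ⟨h13, hL1, L₁, -, f1, -, n1, -, -, le1, -, F1, -⟩ := hH₁
  obtain ⟨h23, hL2, L₂, -, f2, -, n2, -, -, le2, -, F2, -⟩ := hH₂
  refine ⟨L₁, L₂, ⟨f1, F1⟩, ⟨f2, F2⟩, ?_⟩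
  rw [Submodule.eq_bot_iff]
  intro x hx
  by_contra hx0
  obtain ⟨hx1, hx2⟩ := Submodule.mem_inf.mp hx
  have hinf : L = H₁ ⊓ H₂ := by
    apply Submodule.eq_of_le_of_finrank_le (le_inf hL1 hL2)
    have hlt : H₁ ⊓ H₂ < H₁ := by
      refine lt_of_le_of_ne inf_le_left ?_
      intro he
      apply hne
      have hle : H₁ ≤ H₂ := by rw [← he]; exact inf_le_right
      exact Submodule.eq_of_le_of_finrank_eq hle (by rw [h13, h23])
    have := Submodule.finrank_lt_finrank_of_lt hlt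
    rw [h13] at this
    rw [hL]; omega
  have hxL : x ∈ L := by rw [hinf]; exact Submodule.mem_inf.mpr ⟨le1 hx1, le2 hx2⟩
  let K : Submodule k V :=
    { carrier := {u | S.T x x u = 0}
      add_mem' := by
        intro a b ha hb
        simp only [Set.mem_setOf_eq] at *
        rw [S.add3, ha, hb, add_zero]
      zero_mem' := S.zero3 x x
      smul_mem' := by
        intro c a ha
        simp only [Set.mem_setOf_eq] at *
        rw [S.smul3, ha, mul_zero] }
  have hK : ∀ (U : Submodule k V), (∀ u ∈ U, S.T u u u = 0) → x ∈ U → U ≤ K := by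
    intro U hU hxU u hu
    exact (S.cross_of_mem U hU x u hxU hu).2.2.1
  have hKL := hK L hLS hxL
  have hK1 := hK L₁ F1 hx1
  have hK2 := hK L₂ F2 hx2
  have hsup1 : L ⊔ L₁ = H₁ := by
    apply Submodule.eq_of_le_of_finrank_le (sup_le hL1 le1)
    have hlt : L < L ⊔ L₁ := by
      refine lt_of_le_of_ne le_sup_left ?_
      intro he
      apply n1
      have hle : L₁ ≤ L := by rw [he]; exact le_sup_right
      exact Submodule.eq_of_le_of_finrank_eq hle (by rw [f1, hL])
    have := Submodule.finrank_lt_finrank_of_lt hlt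
    rw [hL] at this
    rw [h13]; omega
  have htop : H₁ ⊔ L₂ = ⊤ := by
    apply Submodule.eq_top_of_finrank_eq
    have hlt : H₁ < H₁ ⊔ L₂ := by
      refine lt_of_le_of_ne le_sup_left ?_
      intro he
      apply n2
      have hle : L₂ ≤ H₁ := by rw [he]; exact le_sup_right
      have hle' : L₂ ≤ L := by rw [hinf]; exact le_inf hle le2
      exact Submodule.eq_of_le_of_finrank_eq hle' (by rw [f2, hL])
    have h1 := Submodule.finrank_lt_finrank_of_lt hlt
    have h2 := Submodule.finrank_le (H₁ ⊔ L₂)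
    rw [h13] at h1
    rw [h4] at h2 ⊢
    omega
  have hKtop : K = ⊤ := by
    rw [eq_top_iff, ← htop, ← hsup1]
    exact sup_le (sup_le hKL hK1) hK2
  have hF : S.T x x x = 0 := hLS x hxL
  obtain ⟨u, hu⟩ := hsm x hx0 hF
  apply hu
  have hmem : u ∈ K := by rw [hKtop]; exact Submodule.mem_top
  exact hmem

end abstract

open MvPolynomial

variable {k : Type u} [Field k]

/-- The polarisation of a quaternary cubic as a `SymTri`. -/
noncomputable def triOf (f : MvPolynomial (Fin 4) k) : SymTri k (Fin 4 → k) :=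
  ⟨Tri f, Tri_add1 f, Tri_smul1 f, Tri_s12 f, Tri_s23 f⟩

lemma triOf_hsm [CharZero k] {f : MvPolynomial (Fin 4) k} (hf : f.IsHomogeneous 3)
    (hsm : ∀ v : Fin 4 → k, v ≠ 0 → eval v f = 0 → ∃ i : Fin 4, eval v (pderiv i f) ≠ 0) :
    ∀ v : Fin 4 → k, v ≠ 0 → (triOf f).T v v v = 0 → ∃ u, (triOf f).T v v u ≠ 0 := by
  intro v hv hF
  have hF' : Tri f v v v = 0 := hF
  obtain ⟨i, hi⟩ := hsm v hv (by rw [Tri_self hf]; exact hF')
  refine ⟨Pi.single i 1, ?_⟩
  intro h0
  apply hi
  have := Tri_deriv hf v (Pi.single i 1)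
  have h0' : Tri f v v (Pi.single i 1) = 0 := h0
  rw [h0', mul_zero] at this
  simpa [Pi.single_apply] using this

theorem tritangent_main (k : Type u) [Field k] [IsAlgClosed k] [CharZero k]
    (f : MvPolynomial (Fin 4) k) (hf : f.IsHomogeneous 3) (hf0 : f ≠ 0)
    (hsm : ∀ v : Fin 4 → k, v ≠ 0 → MvPolynomial.eval v f = 0 →
      ∃ i : Fin 4, MvPolynomial.eval v (MvPolynomial.pderiv i f) ≠ 0)
    (L : Submodule k (Fin 4 → k)) (hL : Module.finrank k ↥L = 2)
    (hLS : ∀ u ∈ L, MvPolynomial.eval u f = 0) :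
    {H : Submodule k (Fin 4 → k) | Module.finrank k ↥H = 3 ∧ L ≤ H ∧
      ∃ L' L'' : Submodule k (Fin 4 → k), Module.finrank k ↥L' = 2 ∧ Module.finrank k ↥L'' = 2 ∧
        L' ≠ L ∧ L'' ≠ L ∧ L' ≠ L'' ∧ L' ≤ H ∧ L'' ≤ H ∧
        (∀ u ∈ L', MvPolynomial.eval u f = 0) ∧
        (∀ u ∈ L'', MvPolynomial.eval u f = 0)}.ncard = 5 := by
  have h4 : finrank k (Fin 4 → k) = 4 := by simp
  have e : ∀ u, MvPolynomial.eval u f = (triOf f).T u u u := fun u => Tri_self hf u
  have hmain := ncard_tritangent_eq_five (triOf f) (triOf_hsm hf hsm) h4 L hL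
    (fun u hu => by rw [← e]; exact hLS u hu)
  simp only [e]
  exact hmain

theorem disjoint_main (k : Type u) [Field k] [IsAlgClosed k] [CharZero k]
    (f : MvPolynomial (Fin 4) k) (hf : f.IsHomogeneous 3) (hf0 : f ≠ 0)
    (hsm : ∀ v : Fin 4 → k, v ≠ 0 → MvPolynomial.eval v f = 0 →
      ∃ i : Fin 4, MvPolynomial.eval v (MvPolynomial.pderiv i f) ≠ 0)
    (hL : ∃ U : Submodule k (Fin 4 → k),
      (Module.finrank k ↥U = 2 ∧ ∀ u ∈ U, MvPolynomial.eval u f = 0)) :
    ∃ U₁ U₂ : Submodule k (Fin 4 → k),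
      (Module.finrank k ↥U₁ = 2 ∧ ∀ u ∈ U₁, MvPolynomial.eval u f = 0) ∧
      (Module.finrank k ↥U₂ = 2 ∧ ∀ u ∈ U₂, MvPolynomial.eval u f = 0) ∧ U₁ ⊓ U₂ = ⊥ := by
  have h4 : finrank k (Fin 4 → k) = 4 := by simp
  have e : ∀ u, MvPolynomial.eval u f = (triOf f).T u u u := fun u => Tri_self hf u
  obtain ⟨L, hL2, hLS⟩ := hL
  have hmain := exists_disjoint_lines (triOf f) (triOf_hsm hf hsm) h4 L hL2
    (fun u hu => by rw [← e]; exact hLS u hu)
  simp only [e]
  exact hmain

end SmCub
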