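import Mathlib

/-!
# Connecting systems of parameters by one-coordinate moves (helper4)
-/

set_option autoImplicit false
set_option linter.style.haveILetI false
set_option linter.unusedSectionVars false
set_option linter.unusedVariables false
set_option maxHeartbeats 800000

open IsLocalRing

universe u

namespace Groth.Agent.Lib.Helper4.SopChain

variable {A : Type u} [CommRing A] [IsLocalRing A] [IsNoetherianRing A]

/-- if `I + (x)` is `m`-primary and `w ∈ m` avoids the non-maximal minimal primes of `I`, then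
`I + (w)` is `m`-primary. -/
lemma le_radical_sup_span_of_avoid (I : Ideal A) (x : A) (hx : x ∈ maximalIdeal A)
    (hIx : maximalIdeal A ≤ (I ⊔ Ideal.span {x}).radical) (w : A) (hw : w ∈ maximalIdeal A)
    (havoid : ∀ Q ∈ I.minimalPrimes, Q ≠ maximalIdeal A → w ∉ Q) :
    maximalIdeal A ≤ (I ⊔ Ideal.span {w}).radical := by
  rw [Ideal.radical_eq_sInf]
  refine le_sInf (fun P hP => ?_)
  obtain ⟨hPle, hPprime⟩ := hP
  haveI := hPprime
  by_contra hmP
  have hIP : I ≤ P := le_sup_left.trans hPle
  have hwP : w ∈ P := hPle (Ideal.mem_sup_right (Ideal.mem_span_singleton_self w))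
  have hPm : P ≤ maximalIdeal A := le_maximalIdeal hPprime.ne_top
  have hPne : P ≠ maximalIdeal A := fun h => hmP (h ▸ le_rfl)
  obtain ⟨Q, hQ, hQP⟩ := Ideal.exists_minimalPrimes_le hIP
  haveI hQprime : Q.IsPrime := hQ.1.1
  have hIQ : I ≤ Q := hQ.1.2
  have hQne : Q ≠ maximalIdeal A := by
    rintro rfl
    exact hPne (le_antisymm hPm hQP)
  have hQP' : Q < P := lt_of_le_of_ne hQP (by
    rintro rfl
    exact havoid Q hQ hQne hwP)
  have hπ : Function.Surjective (Ideal.Quotient.mk I) := Ideal.Quotient.mk_surjective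
  have hker : RingHom.ker (Ideal.Quotient.mk I) = I := Ideal.mk_ker
  have hmapprime : ∀ (J : Ideal A) [J.IsPrime], I ≤ J → (J.map (Ideal.Quotient.mk I)).IsPrime :=
    fun J _ hJ => Ideal.map_isPrime_of_surjective hπ (by rw [hker]; exact hJ)
  have hcomap : ∀ (J : Ideal A), I ≤ J →
      (J.map (Ideal.Quotient.mk I)).comap (Ideal.Quotient.mk I) = J := fun J hJ => by
    rw [Ideal.comap_map_of_surjective _ hπ, ← RingHom.ker_eq_comap_bot, hker]
    exact sup_eq_left.mpr hJ
  have hIm : I ≤ maximalIdeal A := hIP.trans hPm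
  haveI hm₁ := hmapprime (maximalIdeal A) hIm
  haveI hP₁ := hmapprime P hIP
  haveI hQ₁ := hmapprime Q hIQ
  have hlt : ∀ (J J' : Ideal A), I ≤ J → I ≤ J' → J < J' →
      J.map (Ideal.Quotient.mk I) < J'.map (Ideal.Quotient.mk I) := by
    intro J J' hJ hJ' hJJ'
    refine lt_of_le_of_ne (Ideal.map_mono hJJ'.le) (fun heq => ?_)
    have := congrArg (Ideal.comap (Ideal.Quotient.mk I)) heq
    rw [hcomap J hJ, hcomap J' hJ'] at this
    exact hJJ'.ne this
  have hmin : (maximalIdeal A).map (Ideal.Quotient.mk I) ∈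
      (Ideal.span {Ideal.Quotient.mk I x}).minimalPrimes := by
    refine ⟨⟨hm₁, ?_⟩, ?_⟩
    · rw [Ideal.span_singleton_le_iff_mem]
      exact Ideal.mem_map_of_mem _ hx
    · intro P' hP' hP'le
      obtain ⟨hP'prime, hxP'⟩ := hP'
      haveI := hP'prime
      have h1 : I ⊔ Ideal.span {x} ≤ P'.comap (Ideal.Quotient.mk I) := by
        refine sup_le ?_ ?_
        · intro y hy
          rw [Ideal.mem_comap]
          have : Ideal.Quotient.mk I y = 0 := Ideal.Quotient.eq_zero_iff_mem.2 hy
          rw [this]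
          exact P'.zero_mem
        · rw [Ideal.span_singleton_le_iff_mem, Ideal.mem_comap]
          exact hxP' (Ideal.mem_span_singleton_self _)
      have h2 : maximalIdeal A ≤ P'.comap (Ideal.Quotient.mk I) :=
        hIx.trans ((Ideal.IsPrime.radical_le_iff
          (inferInstance : (P'.comap (Ideal.Quotient.mk I)).IsPrime)).2 h1)
      calc (maximalIdeal A).map (Ideal.Quotient.mk I)
          ≤ (P'.comap (Ideal.Quotient.mk I)).map (Ideal.Quotient.mk I) := Ideal.map_mono h2
        _ = P' := Ideal.map_comap_of_surjective _ hπ P'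
  have hht : ((maximalIdeal A).map (Ideal.Quotient.mk I)).height ≤ 1 :=
    Ideal.height_le_one_of_isPrincipal_of_mem_minimalPrimes _ _ hmin
  have hht' : ((maximalIdeal A).map (Ideal.Quotient.mk I)).height ≤ ((1 : ℕ) : ℕ∞) := by
    exact_mod_cast hht
  have hPm' : P < maximalIdeal A := lt_of_le_of_ne hPm hPne
  have h3 := (Ideal.height_le_iff.1 hht') (P.map (Ideal.Quotient.mk I)) hP₁
    (hlt P _ hIP hIm hPm')
  have h4 : (P.map (Ideal.Quotient.mk I)).height = 0 := by
    have : (P.map (Ideal.Quotient.mk I)).height < (1 : ℕ∞) := by exact_mod_cast h3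
    exact ENat.lt_one_iff_eq_zero.1 this
  have h5 := (Ideal.height_eq_zero_iff).1 h4
  have h6 := h5.2 ⟨hQ₁, bot_le⟩ (hlt Q P hIQ hIP hQP').le
  exact absurd (hlt Q P hIQ hIP hQP') (not_lt_of_ge h6)

/-- prime avoidance: an element of `m` outside all non-maximal minimal primes of `I` and `J`. -/
lemma exists_avoid (I J : Ideal A) : ∃ w ∈ maximalIdeal A,
    (∀ Q ∈ I.minimalPrimes, Q ≠ maximalIdeal A → w ∉ Q) ∧
    (∀ Q ∈ J.minimalPrimes, Q ≠ maximalIdeal A → w ∉ Q) := by
  classical
  have hfin : ((I.minimalPrimes ∪ J.minimalPrimes) \ {maximalIdeal A}).Finite :=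
    ((Ideal.finite_minimalPrimes_of_isNoetherianRing A I).union
      (Ideal.finite_minimalPrimes_of_isNoetherianRing A J)).subset Set.diff_subset
  have hprime : ∀ i ∈ hfin.toFinset, i.IsPrime := by
    intro i hi
    have hP := hfin.mem_toFinset.1 hi
    rcases hP.1 with h | h <;> exact h.1.1
  have key := Ideal.subset_union_prime (R := A) (s := hfin.toFinset) (f := fun i : Ideal A => i)
    (I := maximalIdeal A) ⊤ ⊤ (fun i hi _ _ => hprime i hi)
  have hnot : ¬ (∃ i ∈ hfin.toFinset, maximalIdeal A ≤ (fun i : Ideal A => i) i) := by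
    rintro ⟨P, hPs, hmP⟩
    have hP := hfin.mem_toFinset.1 hPs
    have hPprime := hprime P hPs
    exact hP.2 (Set.mem_singleton_iff.2 (le_antisymm (le_maximalIdeal hPprime.ne_top) hmP))
  rw [← key] at hnot
  obtain ⟨w, hwm, hw⟩ := Set.not_subset.1 hnot
  refine ⟨w, hwm, ?_, ?_⟩
  · intro Q hQ hQne hwQ
    apply hw
    exact Set.mem_iUnion₂.2 ⟨Q, Finset.mem_coe.2 (hfin.mem_toFinset.2 ⟨Or.inl hQ, hQne⟩), hwQ⟩
  · intro Q hQ hQne hwQ
    apply hw
    exact Set.mem_iUnion₂.2 ⟨Q, Finset.mem_coe.2 (hfin.mem_toFinset.2 ⟨Or.inr hQ, hQne⟩), hwQ⟩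

/-- a system of parameters (of length `d`, no condition on `d`). -/
def Sop {d : ℕ} (u : Fin d → A) : Prop :=
  (∀ i, u i ∈ maximalIdeal A) ∧ maximalIdeal A ≤ (Ideal.span (Set.range u)).radical

/-- two tuples differ in at most one coordinate. -/
def Adj {d : ℕ} (u v : Fin d → A) : Prop :=
  ∃ i : Fin d, ∀ i' : Fin d, i' ≠ i → u i' = v i'

def Step {d : ℕ} (u v : Fin d → A) : Prop := Sop u ∧ Sop v ∧ Adj u v

omit [IsLocalRing A] [IsNoetherianRing A] in
lemma span_range_update {d : ℕ} (a : Fin d → A) (j : Fin d) (w : A) :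
    Ideal.span (Set.range (Function.update a j w)) =
      Ideal.span (a '' {i | i ≠ j}) ⊔ Ideal.span {w} := by
  rw [← Ideal.span_union]
  congr 1
  ext x
  constructor
  · rintro ⟨i, rfl⟩
    by_cases hij : i = j
    · subst hij
      right
      rw [Function.update_self]
      exact Set.mem_singleton _
    · left
      exact ⟨i, hij, by rw [Function.update_of_ne hij]⟩
  · rintro (⟨i, hij, rfl⟩ | hx)
    · exact ⟨i, Function.update_of_ne hij _ _⟩
    · rw [Set.mem_singleton_iff] at hx
      subst hx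
      exact ⟨j, Function.update_self _ _ _⟩

lemma exists_update {d : ℕ} (a b : Fin d → A) (ha : Sop a) (hb : Sop b) (j : Fin d) :
    ∃ w : A, Sop (Function.update a j w) ∧ Sop (Function.update b j w) := by
  obtain ⟨w, hwm, hwa, hwb⟩ := exists_avoid (Ideal.span (a '' {i | i ≠ j}))
    (Ideal.span (b '' {i | i ≠ j}))
  have hIa : maximalIdeal A ≤ (Ideal.span (a '' {i | i ≠ j}) ⊔ Ideal.span {a j}).radical := by
    have := span_range_update a j (a j)
    rw [Function.update_eq_self] at this
    rw [← this]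
    exact ha.2
  have hIb : maximalIdeal A ≤ (Ideal.span (b '' {i | i ≠ j}) ⊔ Ideal.span {b j}).radical := by
    have := span_range_update b j (b j)
    rw [Function.update_eq_self] at this
    rw [← this]
    exact hb.2
  refine ⟨w, ⟨?_, ?_⟩, ⟨?_, ?_⟩⟩
  · intro i
    by_cases hij : i = j
    · subst hij
      rw [Function.update_self]
      exact hwm
    · rw [Function.update_of_ne hij]
      exact ha.1 i
  · rw [span_range_update]
    exact le_radical_sup_span_of_avoid _ (a j) (ha.1 j) hIa w hwm hwa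
  · intro i
    by_cases hij : i = j
    · subst hij
      rw [Function.update_self]
      exact hwm
    · rw [Function.update_of_ne hij]
      exact hb.1 i
  · rw [span_range_update]
    exact le_radical_sup_span_of_avoid _ (b j) (hb.1 j) hIb w hwm hwb

theorem reflTransGen_step {d : ℕ} (u v : Fin d → A) (hu : Sop u) (hv : Sop v) :
    Relation.ReflTransGen Step u v := by
  have key : ∀ j : ℕ, j ≤ d → ∃ a b : Fin d → A, Sop a ∧ Sop b ∧
      (∀ i : Fin d, i.val < j → a i = b i) ∧
      Relation.ReflTransGen Step u a ∧ Relation.ReflTransGen Step v b := by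
    intro j
    induction j with
    | zero =>
      intro _
      exact ⟨u, v, hu, hv, fun i hi => absurd hi (Nat.not_lt_zero _), .refl, .refl⟩
    | succ j ih =>
      intro hj
      obtain ⟨a, b, ha, hb, hab, hua, hvb⟩ := ih (Nat.le_of_succ_le hj)
      obtain ⟨w, hwa, hwb⟩ := exists_update a b ha hb ⟨j, hj⟩
      refine ⟨Function.update a ⟨j, hj⟩ w, Function.update b ⟨j, hj⟩ w, hwa, hwb, ?_,
        hua.tail ⟨ha, hwa, ⟨j, hj⟩, fun i' hi' => (Function.update_of_ne hi' _ _).symm⟩,
        hvb.tail ⟨hb, hwb, ⟨j, hj⟩, fun i' hi' => (Function.update_of_ne hi' _ _).symm⟩⟩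
      intro i hi
      by_cases hij : i = ⟨j, hj⟩
      · subst hij
        rw [Function.update_self, Function.update_self]
      · rw [Function.update_of_ne hij, Function.update_of_ne hij]
        apply hab
        have : i.val ≠ j := fun h => hij (Fin.ext h)
        omega
  obtain ⟨a, b, ha, hb, hab, hua, hvb⟩ := key d le_rfl
  have hab' : a = b := funext (fun i => hab i i.2)
  subst hab'
  have hsymm : ∀ x y : Fin d → A, Step x y → Step y x := by
    rintro x y ⟨hx, hy, i, hi⟩
    exact ⟨hy, hx, i, fun i' hi' => (hi i' hi').symm⟩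
  have hsymmRTG : ∀ x y : Fin d → A, Relation.ReflTransGen Step x y →
      Relation.ReflTransGen Step y x := by
    intro x y h
    induction h with
    | refl => exact .refl
    | tail _ hbc ih => exact Relation.ReflTransGen.head (hsymm _ _ hbc) ih
  exact hua.trans (hsymmRTG _ _ hvb)

theorem exists_seq_of_reflTransGen {d : ℕ} (u v : Fin d → A) (hu : Sop u)
    (h : Relation.ReflTransGen Step u v) :
    ∃ (m : ℕ) (w : Fin (m + 1) → Fin d → A), w 0 = u ∧ w (Fin.last m) = v ∧
      (∀ k, Sop (w k)) ∧ ∀ k : Fin m, Adj (w k.castSucc) (w k.succ) := by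
  induction h with
  | refl => exact ⟨0, fun _ => u, rfl, rfl, fun _ => hu, fun k => k.elim0⟩
  | @tail b c hab hstep ih =>
    obtain ⟨m, w, h0, hl, hs, hadj⟩ := ih
    refine ⟨m + 1, Fin.snoc (α := fun _ => Fin d → A) w c, ?_, ?_, ?_, ?_⟩
    · have h00 : (0 : Fin (m + 1 + 1)) = Fin.castSucc (0 : Fin (m + 1)) := rfl
      rw [h00, Fin.snoc_castSucc]
      exact h0
    · exact Fin.snoc_last (α := fun _ => Fin d → A) _ _
    · intro k
      induction k using Fin.lastCases with
      | last =>
        rw [Fin.snoc_last]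
        exact hstep.2.1
      | cast k =>
        rw [Fin.snoc_castSucc]
        exact hs k
    · intro k
      induction k using Fin.lastCases with
      | last =>
        rw [Fin.snoc_castSucc, Fin.succ_last, Fin.snoc_last, hl]
        exact hstep.2.2
      | cast k =>
        rw [Fin.snoc_castSucc, Fin.succ_castSucc, Fin.snoc_castSucc]
        exact hadj k

end Groth.Agent.Lib.Helper4.SopChain
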