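import Mathlib
import Groth.Prelude.Def_W4c2azumayainvolQEt

set_option autoImplicit false
set_option linter.style.haveILetI false
set_option linter.unusedSectionVars false
set_option linter.unusedVariables false
set_option linter.unusedSimpArgs false
set_option maxHeartbeats 1600000
set_option maxSynthPendingDepth 3

universe u v

open scoped TensorProduct

namespace Groth.Agent.Lib.Helper4.SqrtCover

/-- entry formula for the Gram matrix `(L v)ᵀ h v` of `2 × 2` matrices -/
theorem gram_entry {R F : Type*} [CommRing R] [FunLike F R R] (L : F)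
    (v h' : Matrix (Fin 2) (Fin 2) R) (i j : Fin 2) :
    ((v.map L).transpose * h' * v) i j =
      (L (v 0 i) * h' 0 0 + L (v 1 i) * h' 1 0) * v 0 j +
        (L (v 0 i) * h' 0 1 + L (v 1 i) * h' 1 1) * v 1 j := by
  simp only [Matrix.mul_apply, Fin.sum_univ_two, Matrix.transpose_apply, Matrix.map_apply]

/-- explicit hyperbolic basis for a skew-hermitian `2 × 2` form, given a square root `ξ` of
`1 + a d / N(b)` with `1 + ξ` invertible -/
theorem gram_aux {R F : Type*} [CommRing R] [FunLike F R R] [RingHomClass F R R] (L : F)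
    (h' J' : Matrix (Fin 2) (Fin 2) R)
    (a b c d lb bi lbi ξ ξi e two : R)
    (h00 : h' 0 0 = a) (h01 : h' 0 1 = b) (h10 : h' 1 0 = c) (h11 : h' 1 1 = d)
    (J00 : J' 0 0 = 0) (J01 : J' 0 1 = 1) (J10 : J' 1 0 = -1) (J11 : J' 1 1 = 0)
    (hLa : L a = -a) (hLd : L d = -d) (hc : c = -lb)
    (hLbi : L bi = lbi) (hLlbi : L lbi = bi)
    (hLξi : L ξi = ξi) (hLe : L e = e) (hLtwo : L two = two)
    (hb : b * bi = 1) (hlb : lb * lbi = 1) (hξ : ξ * ξi = 1) (he : e * (1 + ξ) = 1)
    (htwo : 2 * two = 1) (had : b * lb * (ξ ^ 2 - 1) = a * d) :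
    ∃ v : Matrix (Fin 2) (Fin 2) R, IsUnit v ∧ (v.map L).transpose * h' * v = J' := by
  have k1 : e * (ξ ^ 2 - 1) = ξ - 1 := by linear_combination (ξ - 1) * he
  have k2' : bi * (a * d) = lb * (ξ ^ 2 - 1) := by
    linear_combination (-bi) * had + (lb * (ξ ^ 2 - 1)) * hb
  have k3' : bi * a * e * d = lb * (ξ - 1) := by linear_combination e * k2' + lb * k1
  have k2 : lbi * (a * d) = b * (ξ ^ 2 - 1) := by
    linear_combination (-lbi) * had + (b * (ξ ^ 2 - 1)) * hlb
  have k3 : lbi * a * e * d = b * (ξ - 1) := by linear_combination e * k2 + b * k1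
  obtain ⟨z, hz⟩ : ∃ z : R, z = -(bi * a * e) := ⟨_, rfl⟩
  obtain ⟨zc, hzc⟩ : ∃ zc : R, zc = lbi * a * e := ⟨_, rfl⟩
  obtain ⟨q, hq⟩ : ∃ q : R, q = bi * ξi := ⟨_, rfl⟩
  obtain ⟨qc, hqc⟩ : ∃ qc : R, qc = lbi * ξi := ⟨_, rfl⟩
  obtain ⟨p, hp⟩ : ∃ p : R, p = two * lbi * bi * ξi ^ 2 * d := ⟨_, rfl⟩
  obtain ⟨y, hy⟩ : ∃ y : R, y = q + p * z := ⟨_, rfl⟩
  have I1 : a + b * z + zc * (c + d * z) = 0 := by
    rw [hz, hzc, hc]
    linear_combination (-(lbi * a * e)) * k3' - a * he - (a * e) * hb - (a * e * ξ) * hlb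
  have I2 : b * q + zc * (d * q) = 1 := by
    rw [hq, hzc]
    linear_combination (bi * ξi) * k3 + (ξ * ξi) * hb + hξ
  have I3 : qc * (c + d * z) = -1 := by
    rw [hqc, hc, hz]
    linear_combination (-(lbi * ξi)) * k3' - (ξ * ξi) * hlb - hξ
  have I4 : qc * (d * q) = 2 * p := by
    rw [hqc, hq, hp]
    linear_combination (-(lbi * bi * ξi ^ 2 * d)) * htwo
  have hLz : L z = zc := by
    rw [hz, hzc, map_neg, map_mul, map_mul, hLbi, hLa, hLe]; ring
  have hLq : L q = qc := by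
    rw [hq, hqc, map_mul, hLbi, hLξi]
  have hLp : L p = -p := by
    rw [hp, map_mul, map_mul, map_mul, map_mul, map_pow, hLtwo, hLlbi, hLbi, hLξi, hLd]; ring
  have hLy : L y = qc + (-p) * zc := by
    rw [hy, map_add, map_mul, hLq, hLp, hLz]
  obtain ⟨v, v00, v01, v10, v11⟩ : ∃ v : Matrix (Fin 2) (Fin 2) R,
      v 0 0 = 1 ∧ v 0 1 = p ∧ v 1 0 = z ∧ v 1 1 = y :=
    ⟨Matrix.of ![![1, p], ![z, y]], rfl, rfl, rfl, rfl⟩
  refine ⟨v, ?_, ?_⟩
  · rw [Matrix.isUnit_iff_isUnit_det, Matrix.det_fin_two, v00, v01, v10, v11]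
    refine isUnit_iff_exists_inv.mpr ⟨b * ξ, ?_⟩
    rw [hy, hq]; linear_combination (ξ * ξi) * hb + hξ
  · ext i j
    fin_cases i <;> fin_cases j
    · show ((v.map L).transpose * h' * v) 0 0 = J' 0 0
      simp only [gram_entry, v00, v01, v10, v11, h00, h01, h10, h11, J00, map_one, hLz, hLp, hLy]
      linear_combination I1
    · show ((v.map L).transpose * h' * v) 0 1 = J' 0 1
      simp only [gram_entry, v00, v01, v10, v11, h00, h01, h10, h11, J01, map_one, hLz, hLp, hLy]
      rw [hy]; linear_combination p * I1 + I2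
    · show ((v.map L).transpose * h' * v) 1 0 = J' 1 0
      simp only [gram_entry, v00, v01, v10, v11, h00, h01, h10, h11, J10, map_one, hLz, hLp, hLy]
      linear_combination (-p) * I1 + I3
    · show ((v.map L).transpose * h' * v) 1 1 = J' 1 1
      simp only [gram_entry, v00, v01, v10, v11, h00, h01, h10, h11, J11, map_one, hLz, hLp, hLy]
      rw [hy]; linear_combination (-p * p) * I1 + (-p) * I2 + p * I3 + I4

/-- units descend to the fixed ring -/
theorem isUnit_of_fixed {B : Type u} {A : Type v} [CommRing B] [CommRing A] [Algebra B A]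
    (lam : A ≃ₐ[B] A) (hB : RInv.IsFixedRing B A lam.toRingEquiv) (x : B)
    (hx : IsUnit (algebraMap B A x)) : IsUnit x := by
  obtain ⟨y, hy⟩ := isUnit_iff_exists_inv.mp hx
  have h0 : algebraMap B A x * lam y = 1 := by
    have := congrArg lam hy
    rwa [map_mul, AlgEquiv.commutes, map_one] at this
  have h1 : lam y = y := by
    calc lam y = (algebraMap B A x * y) * lam y := by rw [hy, one_mul]
      _ = y * (algebraMap B A x * lam y) := by ring
      _ = y := by rw [h0, mul_one]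
  obtain ⟨x', hx'⟩ := (hB.2 y).mp h1
  refine isUnit_iff_exists_inv.mpr ⟨x', hB.1 ?_⟩
  rw [map_mul, hx', hy, map_one]

end Groth.Agent.Lib.Helper4.SqrtCover
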