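import Mathlib
import Groth.Prelude.Def_W4c2azumayainvolQEt
import Groth.Agent.Lib.Helper4.SqrtCover

set_option autoImplicit false
set_option linter.style.haveILetI false
set_option linter.unusedSectionVars false
set_option linter.unusedVariables false
set_option linter.unusedSimpArgs false
set_option maxHeartbeats 1600000
set_option maxSynthPendingDepth 3

universe u v

open scoped TensorProduct

namespace Groth.Agent.Lib.Helper4.SqrtCover

theorem local_step {B : Type u} {A : Type v} [CommRing B] [CommRing A] [Algebra B A]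
    (lam : A ≃ₐ[B] A) (hlam : ∀ a, lam (lam a) = a)
    (h : Matrix (Fin 2) (Fin 2) A) (bi : A) (s₀ s₁ twoB : B)
    (hLa : lam (h 0 0) = -(h 0 0)) (hLd : lam (h 1 1) = -(h 1 1)) (hc : h 1 0 = -lam (h 0 1))
    (hbi : h 0 1 * bi = 1) (htwo : 2 * twoB = 1) (hs1 : s₀ * s₁ = 1)
    (had : h 0 1 * lam (h 0 1) * (algebraMap B A s₀ - 1) = h 0 0 * h 1 1)
    {B' : Type u} [CommRing B'] [Algebra B B'] (f x : B') (hf : f = 1 + x)
    (hx : x ^ 2 = algebraMap B B' s₀) :
    ∃ v : Matrix (Fin 2) (Fin 2) (Localization.Away f ⊗[B] A), IsUnit v ∧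
      (v.map (Algebra.TensorProduct.congr (AlgEquiv.refl : Localization.Away f ≃ₐ[Localization.Away f] Localization.Away f) lam)).transpose *
        h.map (Algebra.TensorProduct.includeRight : A →ₐ[B] Localization.Away f ⊗[B] A) * v =
      (Matrix.of ![![(0 : A), 1], ![-1, 0]]).map (Algebra.TensorProduct.includeRight : A →ₐ[B] Localization.Away f ⊗[B] A) := by
  let ι : A →ₐ[B] Localization.Away f ⊗[B] A := Algebra.TensorProduct.includeRight
  let j : Localization.Away f →+* Localization.Away f ⊗[B] A :=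
    Algebra.TensorProduct.includeLeftRingHom
  let L : (Localization.Away f ⊗[B] A) ≃ₐ[Localization.Away f] (Localization.Away f ⊗[B] A) :=
    Algebra.TensorProduct.congr AlgEquiv.refl lam
  have hLι : ∀ y : A, L (ι y) = ι (lam y) := by
    intro y; simp [L, ι]
  have hLj : ∀ y : Localization.Away f, L (j y) = j y := by
    intro y; simp [L, j]
  -- inverse of x in B'
  have hxi : x * (x * algebraMap B B' s₁) = 1 := by
    calc x * (x * algebraMap B B' s₁) = x ^ 2 * algebraMap B B' s₁ := by ring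
      _ = algebraMap B B' s₀ * algebraMap B B' s₁ := by rw [hx]
      _ = 1 := by rw [← map_mul, hs1, map_one]
  have hξ : j (algebraMap B' (Localization.Away f) x) *
      j (algebraMap B' (Localization.Away f) (x * algebraMap B B' s₁)) = 1 := by
    rw [← map_mul, ← map_mul, hxi, map_one, map_one]
  have he : j (IsLocalization.Away.invSelf f) * (1 + j (algebraMap B' (Localization.Away f) x)) = 1 := by
    have h1 : (1 : Localization.Away f ⊗[B] A) + j (algebraMap B' (Localization.Away f) x) =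
        j (algebraMap B' (Localization.Away f) f) := by
      have h0 : algebraMap B' (Localization.Away f) f =
          algebraMap B' (Localization.Away f) (1 + x) := congrArg _ hf
      rw [h0, map_add, map_one, map_add, map_one]
    rw [h1, ← map_mul, mul_comm, IsLocalization.Away.mul_invSelf, map_one]
  have htwo' : (2 : Localization.Away f ⊗[B] A) * j (algebraMap B (Localization.Away f) twoB) = 1 := by
    have h1 : j (algebraMap B (Localization.Away f) (2 * twoB)) = 1 := by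
      rw [htwo, map_one, map_one]
    rw [map_mul, map_mul, map_ofNat, map_ofNat] at h1
    exact h1
  have hξ2 : (j (algebraMap B' (Localization.Away f) x)) ^ 2 = ι (algebraMap B A s₀) := by
    rw [← map_pow, ← map_pow, hx, ← IsScalarTower.algebraMap_apply B B' (Localization.Away f),
      AlgHom.commutes]
    simp [j, Algebra.TensorProduct.algebraMap_apply]
  have had' : ι (h 0 1) * ι (lam (h 0 1)) * ((j (algebraMap B' (Localization.Away f) x)) ^ 2 - 1) =
      ι (h 0 0) * ι (h 1 1) := by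
    have h1 := congrArg ι had
    rw [map_mul, map_mul, map_sub, map_one, map_mul] at h1
    rw [hξ2]; exact h1
  have hlb : ι (lam (h 0 1)) * ι (lam bi) = 1 := by
    rw [← map_mul, ← map_mul, hbi, map_one, map_one]
  have hb' : ι (h 0 1) * ι bi = 1 := by
    rw [← map_mul, hbi, map_one]
  exact gram_aux L (h.map ι) ((Matrix.of ![![(0 : A), 1], ![-1, 0]]).map ι)
    (ι (h 0 0)) (ι (h 0 1)) (ι (h 1 0)) (ι (h 1 1)) (ι (lam (h 0 1))) (ι bi) (ι (lam bi))
    (j (algebraMap B' (Localization.Away f) x))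
    (j (algebraMap B' (Localization.Away f) (x * algebraMap B B' s₁)))
    (j (IsLocalization.Away.invSelf f)) (j (algebraMap B (Localization.Away f) twoB))
    rfl rfl rfl rfl (by simp) (by simp) (by simp) (by simp)
    (by rw [hLι, hLa, map_neg]) (by rw [hLι, hLd, map_neg]) (by rw [hc, map_neg])
    (hLι bi) (by rw [hLι, hlam]) (hLj _) (hLj _) (hLj _)
    hb' hlb hξ he htwo' had'

theorem main (B : Type u) (A : Type v) [CommRing B] [CommRing A]
    [Algebra B A] (lam : A ≃ₐ[B] A) (hlam : ∀ a, lam (lam a) = a)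
    (hB : RInv.IsFixedRing B A lam.toRingEquiv)
    (h2 : IsUnit (2 : A))
    (h : Matrix (Fin 2) (Fin 2) A) (herm : -(h.map lam).transpose = h)
    (hJ : ∀ i j : Fin 2, h i j - Matrix.of ![![(0 : A), 1], ![-1, 0]] i j ∈ Ring.jacobson A) :
    ∃ (s t : Bˣ) (r : ℕ) (f : Fin r → (MvPolynomial (Fin 2) B ⧸ Ideal.span ({MvPolynomial.X 0 ^ 2 - MvPolynomial.C (s : B), MvPolynomial.X 1 ^ 2 - MvPolynomial.C (t : B)} : Set (MvPolynomial (Fin 2) B)))),
      Ideal.span (Set.range f) = ⊤ ∧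
      ∀ i : Fin r, ∃ v : Matrix (Fin 2) (Fin 2) (Localization.Away (f i) ⊗[B] A), IsUnit v ∧
        (v.map (Algebra.TensorProduct.congr (AlgEquiv.refl : Localization.Away (f i) ≃ₐ[Localization.Away (f i)] Localization.Away (f i)) lam)).transpose * h.map (Algebra.TensorProduct.includeRight : A →ₐ[B] Localization.Away (f i) ⊗[B] A) * v
          = (Matrix.of ![![(0 : A), 1], ![-1, 0]]).map (Algebra.TensorProduct.includeRight : A →ₐ[B] Localization.Away (f i) ⊗[B] A) := by
  have hLa : lam (h 0 0) = -(h 0 0) := by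
    have := congrFun (congrFun herm 0) 0
    simp only [Matrix.neg_apply, Matrix.transpose_apply, Matrix.map_apply] at this
    exact neg_eq_iff_eq_neg.mp this
  have hLd : lam (h 1 1) = -(h 1 1) := by
    have := congrFun (congrFun herm 1) 1
    simp only [Matrix.neg_apply, Matrix.transpose_apply, Matrix.map_apply] at this
    exact neg_eq_iff_eq_neg.mp this
  have hc : h 1 0 = -lam (h 0 1) := by
    have := congrFun (congrFun herm 1) 0
    simp only [Matrix.neg_apply, Matrix.transpose_apply, Matrix.map_apply] at this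
    exact this.symm
  have hb1 : h 0 1 - 1 ∈ Ring.jacobson A := by simpa using hJ 0 1
  have ha0 : h 0 0 ∈ Ring.jacobson A := by simpa using hJ 0 0
  rw [← Ideal.jacobson_bot] at hb1 ha0
  have bunit : IsUnit (h 0 1) := by
    have := Ideal.mem_jacobson_bot.mp hb1 1
    have e : (h 0 1 - 1) * 1 + 1 = h 0 1 := by ring
    rwa [e] at this
  obtain ⟨bi, hbi⟩ := isUnit_iff_exists_inv.mp bunit
  have hlb : lam (h 0 1) * lam bi = 1 := by rw [← map_mul, hbi, map_one]
  -- the unit whose square root is adjoined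
  have hσfix : lam (1 + h 0 0 * h 1 1 * bi * lam bi) = 1 + h 0 0 * h 1 1 * bi * lam bi := by
    simp only [map_add, map_one, map_mul, hLa, hLd, hlam]
    ring
  obtain ⟨s₀, hs₀⟩ := (hB.2 _).mp hσfix
  have hσunit : IsUnit (algebraMap B A s₀) := by
    rw [hs₀]
    have := Ideal.mem_jacobson_bot.mp ha0 (h 1 1 * bi * lam bi)
    have e : h 0 0 * (h 1 1 * bi * lam bi) + 1 = 1 + h 0 0 * h 1 1 * bi * lam bi := by ring
    rwa [e] at this
  have hsunit : IsUnit s₀ := isUnit_of_fixed lam hB s₀ hσunit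
  obtain ⟨s₁, hs1⟩ := isUnit_iff_exists_inv.mp hsunit
  have h2B : IsUnit (2 : B) := isUnit_of_fixed lam hB 2 (by rwa [map_ofNat])
  obtain ⟨twoB, htwoB⟩ := isUnit_iff_exists_inv.mp h2B
  have had : h 0 1 * lam (h 0 1) * (algebraMap B A s₀ - 1) = h 0 0 * h 1 1 := by
    rw [hs₀]
    linear_combination (h 0 0 * h 1 1 * lam (h 0 1) * lam bi) * hbi + (h 0 0 * h 1 1) * hlb
  refine ⟨⟨s₀, s₁, hs1, by rw [mul_comm]; exact hs1⟩, 1, 2,
    ![1 + Ideal.Quotient.mk _ (MvPolynomial.X 0), 1 - Ideal.Quotient.mk _ (MvPolynomial.X 0)],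
    ?_, ?_⟩
  · rw [Ideal.eq_top_iff_one]
    have e1 : (1 : MvPolynomial (Fin 2) B ⧸ Ideal.span ({MvPolynomial.X 0 ^ 2 - MvPolynomial.C s₀, MvPolynomial.X 1 ^ 2 - MvPolynomial.C ((1 : Bˣ) : B)} : Set (MvPolynomial (Fin 2) B))) =
        algebraMap B _ twoB * ((1 + Ideal.Quotient.mk _ (MvPolynomial.X 0)) +
          (1 - Ideal.Quotient.mk _ (MvPolynomial.X 0))) := by
      have e2 : ∀ t : (MvPolynomial (Fin 2) B ⧸ Ideal.span ({MvPolynomial.X 0 ^ 2 - MvPolynomial.C s₀, MvPolynomial.X 1 ^ 2 - MvPolynomial.C ((1 : Bˣ) : B)} : Set (MvPolynomial (Fin 2) B))),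
          (1 + t) + (1 - t) = 2 := by intro t; ring
      have e3 : algebraMap B (MvPolynomial (Fin 2) B ⧸ Ideal.span ({MvPolynomial.X 0 ^ 2 - MvPolynomial.C s₀, MvPolynomial.X 1 ^ 2 - MvPolynomial.C ((1 : Bˣ) : B)} : Set (MvPolynomial (Fin 2) B))) twoB * 2 = 1 := by
        have e4 : algebraMap B (MvPolynomial (Fin 2) B ⧸ Ideal.span ({MvPolynomial.X 0 ^ 2 - MvPolynomial.C s₀, MvPolynomial.X 1 ^ 2 - MvPolynomial.C ((1 : Bˣ) : B)} : Set (MvPolynomial (Fin 2) B))) (2 * twoB) = 1 := by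
          rw [htwoB, map_one]
        rw [map_mul, map_ofNat] at e4
        rw [mul_comm]; exact e4
      rw [e2, e3]
    have hmem := Ideal.mul_mem_left (Ideal.span (Set.range (![1 + Ideal.Quotient.mk _ (MvPolynomial.X 0), 1 - Ideal.Quotient.mk _ (MvPolynomial.X 0)] : Fin 2 → (MvPolynomial (Fin 2) B ⧸ Ideal.span ({MvPolynomial.X 0 ^ 2 - MvPolynomial.C s₀, MvPolynomial.X 1 ^ 2 - MvPolynomial.C ((1 : Bˣ) : B)} : Set (MvPolynomial (Fin 2) B))))))
      (algebraMap B _ twoB) (Ideal.add_mem _ (Ideal.subset_span ⟨0, rfl⟩)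
      (Ideal.subset_span ⟨1, rfl⟩))
    have key : ∀ (S : Ideal (MvPolynomial (Fin 2) B ⧸ Ideal.span ({MvPolynomial.X 0 ^ 2 - MvPolynomial.C s₀, MvPolynomial.X 1 ^ 2 - MvPolynomial.C ((1 : Bˣ) : B)} : Set (MvPolynomial (Fin 2) B))))
        (t : (MvPolynomial (Fin 2) B ⧸ Ideal.span ({MvPolynomial.X 0 ^ 2 - MvPolynomial.C s₀, MvPolynomial.X 1 ^ 2 - MvPolynomial.C ((1 : Bˣ) : B)} : Set (MvPolynomial (Fin 2) B)))),
        t = 1 → t ∈ S → (1 : (MvPolynomial (Fin 2) B ⧸ Ideal.span ({MvPolynomial.X 0 ^ 2 - MvPolynomial.C s₀, MvPolynomial.X 1 ^ 2 - MvPolynomial.C ((1 : Bˣ) : B)} : Set (MvPolynomial (Fin 2) B)))) ∈ S :=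
      fun S t ht hm => ht ▸ hm
    exact key _ _ e1.symm hmem
  · intro i
    have hX2 : (Ideal.Quotient.mk (Ideal.span ({MvPolynomial.X 0 ^ 2 - MvPolynomial.C s₀, MvPolynomial.X 1 ^ 2 - MvPolynomial.C ((1 : Bˣ) : B)} : Set (MvPolynomial (Fin 2) B))) (MvPolynomial.X 0)) ^ 2 =
        algebraMap B _ s₀ := by
      show _ = Ideal.Quotient.mk _ (MvPolynomial.C s₀)
      rw [← map_pow, Ideal.Quotient.eq]
      exact Ideal.subset_span (Set.mem_insert _ _)
    obtain ⟨x, hfx, hx2⟩ : ∃ x : (MvPolynomial (Fin 2) B ⧸ Ideal.span ({MvPolynomial.X 0 ^ 2 - MvPolynomial.C s₀, MvPolynomial.X 1 ^ 2 - MvPolynomial.C ((1 : Bˣ) : B)} : Set (MvPolynomial (Fin 2) B))),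
        (![1 + Ideal.Quotient.mk _ (MvPolynomial.X 0), 1 - Ideal.Quotient.mk _ (MvPolynomial.X 0)] : Fin 2 → _) i = 1 + x ∧
          x ^ 2 = algebraMap B _ s₀ := by
      fin_cases i
      · exact ⟨_, rfl, hX2⟩
      · exact ⟨-(Ideal.Quotient.mk _ (MvPolynomial.X 0)), sub_eq_add_neg _ _, by rw [neg_sq]; exact hX2⟩
    exact local_step lam hlam h bi s₀ s₁ twoB hLa hLd hc hbi htwoB hs1 had _ x hfx hx2

end Groth.Agent.Lib.Helper4.SqrtCover
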