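import Mathlib

/-!
# T-points on cubic surfaces, part A: elementary algebra
(coefficient extraction, rank conditions for a 3×4 "Sylvester type" matrix, factorisation of
binary forms over an algebraically closed field)
-/

set_option autoImplicit false
set_option linter.style.haveILetI false
set_option linter.unusedSectionVars false
set_option linter.unusedVariables false
set_option linter.unusedSimpArgs false
set_option linter.unusedTactic false
set_option linter.unreachableTactic false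
set_option linter.deprecated false
set_option maxHeartbeats 1600000
set_option maxSynthPendingDepth 3

universe u

open Polynomial

namespace TPt

variable {K : Type u} [Field K]

lemma cubic_coeffs_zero [CharZero K] (A B C D : K)
    (h : ∀ r : K, A + B * r + C * r ^ 2 + D * r ^ 3 = 0) : A = 0 ∧ B = 0 ∧ C = 0 ∧ D = 0 := by
  have h0 := h 0
  have h1 := h 1
  have h2 := h (-1)
  have h3 := h 2
  have hA : A = 0 := by linear_combination h0
  have hC : C = 0 := by linear_combination (1 / 2 : K) * h1 + (1 / 2 : K) * h2 - h0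
  have hD : D = 0 := by
    linear_combination (1 / 6 : K) * h3 - (1 / 2 : K) * h1 - (1 / 6 : K) * h2 + (1 / 2 : K) * h0
  have hB : B = 0 := by linear_combination h1 - hA - hC - hD
  exact ⟨hA, hB, hC, hD⟩

lemma bq_zero (u0 u1 u2 : K) (h : ∀ s t : K, u0 * s ^ 2 + u1 * s * t + u2 * t ^ 2 = 0) :
    u0 = 0 ∧ u1 = 0 ∧ u2 = 0 := by
  have h0 := h 1 0
  have h2 := h 0 1
  have h1 := h 1 1
  have e0 : u0 = 0 := by linear_combination h0
  have e2 : u2 = 0 := by linear_combination h2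
  exact ⟨e0, by linear_combination h1 - e0 - e2, e2⟩

lemma bc_zero [CharZero K] (u0 u1 u2 u3 : K)
    (h : ∀ s t : K, u0 * s ^ 3 + u1 * s ^ 2 * t + u2 * s * t ^ 2 + u3 * t ^ 3 = 0) :
    u0 = 0 ∧ u1 = 0 ∧ u2 = 0 ∧ u3 = 0 := by
  have h0 := h 1 0
  have h3 := h 0 1
  have h1 := h 1 1
  have h2 := h 1 (-1)
  have e0 : u0 = 0 := by linear_combination h0
  have e3 : u3 = 0 := by linear_combination h3
  have e2 : u2 = 0 := by linear_combination (1 / 2 : K) * h1 + (1 / 2 : K) * h2 - e0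
  have e1 : u1 = 0 := by linear_combination h1 - e0 - e2 - e3
  exact ⟨e0, e1, e2, e3⟩

/-- The four maximal minors of `[[a0,a1,a2,0],[0,a0,a1,a2],[b0,b1,b2,b3]]`. -/
def m1 (a0 a1 a2 b0 b1 b2 b3 : K) : K := a0 ^ 2 * b2 - a0 * a1 * b1 + a1 ^ 2 * b0 - a0 * a2 * b0
def m2 (a0 a1 a2 b0 b1 b2 b3 : K) : K := a0 ^ 2 * b3 - a0 * a2 * b1 + a1 * a2 * b0
def m3 (a0 a1 a2 b0 b1 b2 b3 : K) : K := a0 * a1 * b3 - a0 * a2 * b2 + a2 ^ 2 * b0
def m4 (a0 a1 a2 b0 b1 b2 b3 : K) : K :=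
  a1 ^ 2 * b3 - a1 * a2 * b2 - a0 * a2 * b3 + a2 ^ 2 * b1

/-- The matrix `[[a0,a1,a2,0],[0,a0,a1,a2],[b0,b1,b2,b3]]` has rank at most two. -/
def Rk (a0 a1 a2 b0 b1 b2 b3 : K) : Prop :=
  m1 a0 a1 a2 b0 b1 b2 b3 = 0 ∧ m2 a0 a1 a2 b0 b1 b2 b3 = 0 ∧ m3 a0 a1 a2 b0 b1 b2 b3 = 0 ∧
    m4 a0 a1 a2 b0 b1 b2 b3 = 0

macro "rk_close" : tactic =>
  `(tactic| (refine ⟨?_, ?_, ?_, ?_⟩ <;> simp only [m1, m2, m3, m4] <;> ring))

lemma Rk_of_mult (a0 a1 a2 μ0 μ1 : K) :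
    Rk a0 a1 a2 (μ0 * a0) (μ0 * a1 + μ1 * a0) (μ0 * a2 + μ1 * a1) (μ1 * a2) := by
  rk_close

lemma Rk_of_zero (b0 b1 b2 b3 : K) : Rk 0 0 0 b0 b1 b2 b3 := by
  rk_close

lemma Rk_special1 (a1 b1 b2 : K) : Rk 0 a1 0 0 b1 b2 0 := by
  rk_close

lemma Rk_special2 (a2 b2 b3 : K) : Rk 0 0 a2 0 0 b2 b3 := by
  rk_close

lemma mult_of_Rk {a0 a1 a2 b0 b1 b2 b3 : K} (h : Rk a0 a1 a2 b0 b1 b2 b3) :
    (a0 = 0 ∧ a1 = 0 ∧ a2 = 0) ∨ ∃ μ0 μ1 : K, b0 = μ0 * a0 ∧ b1 = μ0 * a1 + μ1 * a0 ∧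
      b2 = μ0 * a2 + μ1 * a1 ∧ b3 = μ1 * a2 := by
  obtain ⟨h1, h2, h3, h4⟩ := h
  simp only [m1, m2, m3, m4] at h1 h2 h3 h4
  by_cases ha0 : a0 = 0
  · subst ha0
    by_cases ha1 : a1 = 0
    · subst ha1
      by_cases ha2 : a2 = 0
      · exact Or.inl ⟨rfl, rfl, ha2⟩
      · right
        have hb0 : b0 = 0 := by
          have : a2 ^ 2 * b0 = 0 := by linear_combination h3
          exact (mul_eq_zero.mp this).resolve_left (pow_ne_zero 2 ha2)
        have hb1 : b1 = 0 := by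
          have : a2 ^ 2 * b1 = 0 := by linear_combination h4
          exact (mul_eq_zero.mp this).resolve_left (pow_ne_zero 2 ha2)
        refine ⟨b2 / a2, b3 / a2, ?_, ?_, ?_, ?_⟩
        · rw [hb0]; ring
        · rw [hb1]; ring
        · rw [mul_zero, add_zero, div_mul_cancel₀ _ ha2]
        · rw [div_mul_cancel₀ _ ha2]
    · right
      have hb0 : b0 = 0 := by
        have : a1 ^ 2 * b0 = 0 := by linear_combination h1
        exact (mul_eq_zero.mp this).resolve_left (pow_ne_zero 2 ha1)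
      refine ⟨b1 / a1, (b2 * a1 - b1 * a2) / a1 ^ 2, ?_, ?_, ?_, ?_⟩
      · rw [hb0]; ring
      · rw [mul_zero, add_zero, div_mul_cancel₀ _ ha1]
      · field_simp; ring
      · field_simp; linear_combination h4
  · right
    refine ⟨b0 / a0, (b1 * a0 - b0 * a1) / a0 ^ 2, ?_, ?_, ?_, ?_⟩
    · rw [div_mul_cancel₀ _ ha0]
    · field_simp; ring
    · field_simp; linear_combination h1
    · field_simp; linear_combination h2

lemma exists_quad_root [IsAlgClosed K] (a0 a1 a2 : K) (h0 : a0 ≠ 0) :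
    ∃ z : K, a0 * z ^ 2 + a1 * z + a2 = 0 := by
  obtain ⟨z, hz⟩ := IsAlgClosed.exists_root (C a0 * X ^ 2 + C a1 * X + C a2 : K[X])
    (by rw [Polynomial.degree_quadratic h0]; norm_num)
  exact ⟨z, by simpa [Polynomial.IsRoot] using hz⟩

lemma exists_cubic_root [IsAlgClosed K] (b0 b1 b2 b3 : K) (h0 : b0 ≠ 0) :
    ∃ z : K, b0 * z ^ 3 + b1 * z ^ 2 + b2 * z + b3 = 0 := by
  obtain ⟨z, hz⟩ := IsAlgClosed.exists_root (C b0 * X ^ 3 + C b1 * X ^ 2 + C b2 * X + C b3 : K[X])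
    (by rw [Polynomial.degree_cubic h0]; norm_num)
  exact ⟨z, by simpa [Polynomial.IsRoot] using hz⟩

lemma factor2 [IsAlgClosed K] (a0 a1 a2 : K) : ∃ p1 r1 p2 r2 : K, ∀ s t : K,
    a0 * s ^ 2 + a1 * s * t + a2 * t ^ 2 = (p1 * s + r1 * t) * (p2 * s + r2 * t) := by
  by_cases h0 : a0 = 0
  · exact ⟨0, 1, a1, a2, fun s t => by rw [h0]; ring⟩
  · obtain ⟨z, hz⟩ := exists_quad_root a0 a1 a2 h0
    exact ⟨1, -z, a0, a1 + a0 * z, fun s t => by linear_combination (t ^ 2) * hz⟩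

lemma factor3 [IsAlgClosed K] (b0 b1 b2 b3 : K) : ∃ p1 r1 p2 r2 p3 r3 : K, ∀ s t : K,
    b0 * s ^ 3 + b1 * s ^ 2 * t + b2 * s * t ^ 2 + b3 * t ^ 3 =
      (p1 * s + r1 * t) * (p2 * s + r2 * t) * (p3 * s + r3 * t) := by
  by_cases h0 : b0 = 0
  · obtain ⟨p1, r1, p2, r2, h⟩ := factor2 b1 b2 b3
    exact ⟨0, 1, p1, r1, p2, r2, fun s t => by linear_combination (s ^ 3) * h0 + t * h s t⟩
  · obtain ⟨z, hz⟩ := exists_cubic_root b0 b1 b2 b3 h0
    obtain ⟨p1, r1, p2, r2, h⟩ := factor2 b0 (b1 + b0 * z) (b2 + b1 * z + b0 * z ^ 2)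
    exact ⟨1, -z, p1, r1, p2, r2, fun s t => by
      linear_combination (s - z * t) * h s t + (t ^ 3) * hz⟩

lemma exists_q_root [IsAlgClosed K] (q0 q1 q2 : K) :
    ∃ s t : K, (s ≠ 0 ∨ t ≠ 0) ∧ q0 * s ^ 2 + 2 * q1 * s * t + q2 * t ^ 2 = 0 := by
  by_cases h0 : q0 = 0
  · exact ⟨1, 0, Or.inl one_ne_zero, by rw [h0]; ring⟩
  · obtain ⟨z, hz⟩ := exists_quad_root q0 (2 * q1) q2 h0
    exact ⟨z, 1, Or.inr one_ne_zero, by linear_combination hz⟩

/-- If a ternary cubic `r·A(s,t) + B(s,t)` is a product of three linear forms, then the rank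
condition holds. -/
lemma rk_of_prod [CharZero K] (a0 a1 a2 b0 b1 b2 b3 α1 α2 α3 β1 β2 β3 γ1 γ2 γ3 : K)
    (h : ∀ r s t : K, r * (a0 * s ^ 2 + a1 * s * t + a2 * t ^ 2) +
        (b0 * s ^ 3 + b1 * s ^ 2 * t + b2 * s * t ^ 2 + b3 * t ^ 3) =
      (α1 * r + β1 * s + γ1 * t) * (α2 * r + β2 * s + γ2 * t) * (α3 * r + β3 * s + γ3 * t)) :
    Rk a0 a1 a2 b0 b1 b2 b3 := by
  have key : ∀ s t : K,
      ((b0 * s ^ 3 + b1 * s ^ 2 * t + b2 * s * t ^ 2 + b3 * t ^ 3) -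
        (β1 * s + γ1 * t) * (β2 * s + γ2 * t) * (β3 * s + γ3 * t) = 0) ∧
      ((a0 * s ^ 2 + a1 * s * t + a2 * t ^ 2) -
        (α1 * ((β2 * s + γ2 * t) * (β3 * s + γ3 * t)) +
          α2 * ((β1 * s + γ1 * t) * (β3 * s + γ3 * t)) +
          α3 * ((β1 * s + γ1 * t) * (β2 * s + γ2 * t))) = 0) ∧
      (-(α1 * α2 * (β3 * s + γ3 * t) + α1 * α3 * (β2 * s + γ2 * t) +
          α2 * α3 * (β1 * s + γ1 * t)) = 0) ∧
      (-(α1 * α2 * α3) = 0) :=
    fun s t => cubic_coeffs_zero _ _ _ _ (fun r => by linear_combination h r s t)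
  have hD : α1 * α2 * α3 = 0 := by linear_combination -(key 0 0).2.2.2
  have hC1 : α1 * α2 * β3 + α1 * α3 * β2 + α2 * α3 * β1 = 0 := by
    linear_combination -(key 1 0).2.2.1
  have hC2 : α1 * α2 * γ3 + α1 * α3 * γ2 + α2 * α3 * γ1 = 0 := by
    linear_combination -(key 0 1).2.2.1
  obtain ⟨ea0, ea1, ea2⟩ := bq_zero
    (a0 - (α1 * β2 * β3 + α2 * β1 * β3 + α3 * β1 * β2))
    (a1 - (α1 * (β2 * γ3 + γ2 * β3) + α2 * (β1 * γ3 + γ1 * β3) + α3 * (β1 * γ2 + γ1 * β2)))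
    (a2 - (α1 * γ2 * γ3 + α2 * γ1 * γ3 + α3 * γ1 * γ2))
    (fun s t => by linear_combination (key s t).2.1)
  obtain ⟨eb0, eb1, eb2, eb3⟩ := bc_zero
    (b0 - β1 * β2 * β3)
    (b1 - (β1 * β2 * γ3 + β1 * γ2 * β3 + γ1 * β2 * β3))
    (b2 - (β1 * γ2 * γ3 + γ1 * β2 * γ3 + γ1 * γ2 * β3))
    (b3 - γ1 * γ2 * γ3)
    (fun s t => by linear_combination (key s t).1)
  rw [sub_eq_zero] at ea0 ea1 ea2 eb0 eb1 eb2 eb3
  subst ea0 ea1 ea2 eb0 eb1 eb2 eb3
  clear key h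
  rcases mul_eq_zero.mp hD with h12 | h3
  · rcases mul_eq_zero.mp h12 with h1 | h2
    · subst h1
      have e1 : α2 * α3 * β1 = 0 := by linear_combination hC1
      have e2 : α2 * α3 * γ1 = 0 := by linear_combination hC2
      by_cases h23 : α2 * α3 = 0
      · rcases mul_eq_zero.mp h23 with h2 | h3
        · subst h2; rk_close
        · subst h3; rk_close
      · have hb : β1 = 0 := (mul_eq_zero.mp e1).resolve_left h23
        have hg : γ1 = 0 := (mul_eq_zero.mp e2).resolve_left h23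
        subst hb hg; rk_close
    · subst h2
      have e1 : α1 * α3 * β2 = 0 := by linear_combination hC1
      have e2 : α1 * α3 * γ2 = 0 := by linear_combination hC2
      by_cases h13 : α1 * α3 = 0
      · rcases mul_eq_zero.mp h13 with h1 | h3
        · subst h1; rk_close
        · subst h3; rk_close
      · have hb : β2 = 0 := (mul_eq_zero.mp e1).resolve_left h13
        have hg : γ2 = 0 := (mul_eq_zero.mp e2).resolve_left h13
        subst hb hg; rk_close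
  · subst h3
    have e1 : α1 * α2 * β3 = 0 := by linear_combination hC1
    have e2 : α1 * α2 * γ3 = 0 := by linear_combination hC2
    by_cases h12 : α1 * α2 = 0
    · rcases mul_eq_zero.mp h12 with h1 | h2
      · subst h1; rk_close
      · subst h2; rk_close
    · have hb : β3 = 0 := (mul_eq_zero.mp e1).resolve_left h12
      have hg : γ3 = 0 := (mul_eq_zero.mp e2).resolve_left h12
      subst hb hg; rk_close

end TPt
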