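import Groth.Agent.Lib.Helper4.SmCubD
import Groth.Agent.Lib.Helper4.TPtA

/-!
# T-points on cubic surfaces, part B: polynomial functions, polynomial curves,
divisibility by a linear form
-/

set_option autoImplicit false
set_option linter.style.haveILetI false
set_option linter.unusedSectionVars false
set_option linter.unusedVariables false
set_option linter.unusedSimpArgs false
set_option linter.unusedTactic false
set_option linter.unreachableTactic false
set_option linter.deprecated false
set_option maxHeartbeats 1600000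
set_option maxSynthPendingDepth 3

universe u

namespace TPt

variable {K : Type u} [Field K]

/-- Functions on `K⁴` given by a polynomial. -/
def IsPolyFun (g : (Fin 4 → K) → K) : Prop :=
  ∃ P : MvPolynomial (Fin 4) K, ∀ b, g b = MvPolynomial.eval b P

namespace IsPolyFun

lemma const (c : K) : IsPolyFun (fun _ : Fin 4 → K => c) :=
  ⟨MvPolynomial.C c, fun b => by simp⟩

lemma coord (i : Fin 4) : IsPolyFun (fun b : Fin 4 → K => b i) :=
  ⟨MvPolynomial.X i, fun b => by simp⟩

lemma add {g h : (Fin 4 → K) → K} (hg : IsPolyFun g) (hh : IsPolyFun h) :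
    IsPolyFun (fun b => g b + h b) := by
  obtain ⟨P, hP⟩ := hg; obtain ⟨Q, hQ⟩ := hh
  exact ⟨P + Q, fun b => by simp only [map_add, hP, hQ]⟩

lemma sub {g h : (Fin 4 → K) → K} (hg : IsPolyFun g) (hh : IsPolyFun h) :
    IsPolyFun (fun b => g b - h b) := by
  obtain ⟨P, hP⟩ := hg; obtain ⟨Q, hQ⟩ := hh
  exact ⟨P - Q, fun b => by simp only [map_sub, hP, hQ]⟩

lemma mul {g h : (Fin 4 → K) → K} (hg : IsPolyFun g) (hh : IsPolyFun h) :
    IsPolyFun (fun b => g b * h b) := by
  obtain ⟨P, hP⟩ := hg; obtain ⟨Q, hQ⟩ := hh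
  exact ⟨P * Q, fun b => by simp only [map_mul, hP, hQ]⟩

lemma neg {g : (Fin 4 → K) → K} (hg : IsPolyFun g) : IsPolyFun (fun b => -g b) := by
  obtain ⟨P, hP⟩ := hg
  exact ⟨-P, fun b => by simp only [map_neg, hP]⟩

lemma pow {g : (Fin 4 → K) → K} (hg : IsPolyFun g) (n : ℕ) : IsPolyFun (fun b => g b ^ n) := by
  obtain ⟨P, hP⟩ := hg
  exact ⟨P ^ n, fun b => by simp only [map_pow, hP]⟩

lemma sum {ι : Type} (s : Finset ι) (g : ι → (Fin 4 → K) → K) (h : ∀ i, IsPolyFun (g i)) :
    IsPolyFun (fun b => ∑ i ∈ s, g i b) := by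
  choose P hP using h
  exact ⟨∑ i ∈ s, P i, fun b => by rw [map_sum]; exact Finset.sum_congr rfl fun i _ => hP i b⟩

end IsPolyFun

/-- Vector valued polynomial functions. -/
def IsPolyVec (u : (Fin 4 → K) → (Fin 4 → K)) : Prop := ∀ i, IsPolyFun (fun b => u b i)

namespace IsPolyVec

lemma id : IsPolyVec (fun b : Fin 4 → K => b) := fun i => IsPolyFun.coord i

lemma const (c : Fin 4 → K) : IsPolyVec (fun _ : Fin 4 → K => c) := fun i => IsPolyFun.const (c i)

lemma add {u v : (Fin 4 → K) → (Fin 4 → K)} (hu : IsPolyVec u) (hv : IsPolyVec v) :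
    IsPolyVec (fun b => u b + v b) := fun i => (hu i).add (hv i)

lemma sub {u v : (Fin 4 → K) → (Fin 4 → K)} (hu : IsPolyVec u) (hv : IsPolyVec v) :
    IsPolyVec (fun b => u b - v b) := fun i => (hu i).sub (hv i)

lemma smul {g : (Fin 4 → K) → K} {u : (Fin 4 → K) → (Fin 4 → K)} (hg : IsPolyFun g)
    (hu : IsPolyVec u) : IsPolyVec (fun b => g b • u b) := fun i => hg.mul (hu i)

end IsPolyVec

lemma IsPolyFun.tri (f : MvPolynomial (Fin 4) K) {u v w : (Fin 4 → K) → (Fin 4 → K)}
    (hu : IsPolyVec u) (hv : IsPolyVec v) (hw : IsPolyVec w) :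
    IsPolyFun (fun b => NodCub.Tri f (u b) (v b) (w b)) := by
  show IsPolyFun (fun b => (1 / 6 : K) * ∑ l, w b l * ∑ j, v b j * ∑ i, u b i * NodCub.c3 f i j l)
  exact (IsPolyFun.const _).mul (IsPolyFun.sum _ _ fun l => (hw l).mul
    (IsPolyFun.sum _ _ fun j => (hv j).mul
      (IsPolyFun.sum _ _ fun i => (hu i).mul (IsPolyFun.const _))))

/-- Polynomial functions of one variable. -/
def IsPolyK (c : K → K) : Prop := ∃ p : Polynomial K, ∀ e, c e = p.eval e

namespace IsPolyK

lemma const (c : K) : IsPolyK (fun _ : K => c) := ⟨Polynomial.C c, fun e => by simp⟩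

lemma id : IsPolyK (fun e : K => e) := ⟨Polynomial.X, fun e => by simp⟩

lemma add {c d : K → K} (hc : IsPolyK c) (hd : IsPolyK d) : IsPolyK (fun e => c e + d e) := by
  obtain ⟨p, hp⟩ := hc; obtain ⟨q, hq⟩ := hd
  exact ⟨p + q, fun e => by simp only [Polynomial.eval_add, hp, hq]⟩

lemma mul {c d : K → K} (hc : IsPolyK c) (hd : IsPolyK d) : IsPolyK (fun e => c e * d e) := by
  obtain ⟨p, hp⟩ := hc; obtain ⟨q, hq⟩ := hd
  exact ⟨p * q, fun e => by simp only [Polynomial.eval_mul, hp, hq]⟩

lemma neg {c : K → K} (hc : IsPolyK c) : IsPolyK (fun e => -c e) := by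
  obtain ⟨p, hp⟩ := hc
  exact ⟨-p, fun e => by simp only [Polynomial.eval_neg, hp]⟩

lemma pow {c : K → K} (hc : IsPolyK c) (n : ℕ) : IsPolyK (fun e => c e ^ n) := by
  obtain ⟨p, hp⟩ := hc
  exact ⟨p ^ n, fun e => by simp only [Polynomial.eval_pow, hp]⟩

end IsPolyK

/-- Polynomial curves in `K⁴`. -/
def IsPolyCurve (γ : K → Fin 4 → K) : Prop := ∀ i, IsPolyK (fun e => γ e i)

namespace IsPolyCurve

lemma const (c : Fin 4 → K) : IsPolyCurve (fun _ : K => c) := fun i => IsPolyK.const (c i)

lemma add {γ δ : K → Fin 4 → K} (hγ : IsPolyCurve γ) (hδ : IsPolyCurve δ) :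
    IsPolyCurve (fun e => γ e + δ e) := fun i => (hγ i).add (hδ i)

lemma smul {c : K → K} {γ : K → Fin 4 → K} (hc : IsPolyK c) (hγ : IsPolyCurve γ) :
    IsPolyCurve (fun e => c e • γ e) := fun i => hc.mul (hγ i)

end IsPolyCurve

lemma eval_curve4 (Γ : Fin 4 → Polynomial K) (g : MvPolynomial (Fin 4) K) (e : K) :
    (MvPolynomial.eval₂Hom Polynomial.C Γ g).eval e =
      MvPolynomial.eval (fun i => (Γ i).eval e) g := by
  induction g using MvPolynomial.induction_on with
  | C a => simp
  | add p q hp hq => rw [map_add, map_add, Polynomial.eval_add, hp, hq]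
  | mul_X p i hp =>
    rw [map_mul, map_mul, Polynomial.eval_mul, hp, MvPolynomial.eval₂Hom_X', MvPolynomial.eval_X]

/-- A polynomial function which does not vanish at the origin of a polynomial curve vanishes
at finitely many parameter values only. -/
lemma finite_zero_on_curve (g : (Fin 4 → K) → K) (hg : IsPolyFun g) (γ : K → Fin 4 → K)
    (hγ : IsPolyCurve γ) (h0 : g (γ 0) ≠ 0) : {e : K | g (γ e) = 0}.Finite := by
  classical
  obtain ⟨P, hP⟩ := hg
  choose Γ hΓ using hγ
  have hev : ∀ e, (MvPolynomial.eval₂Hom Polynomial.C Γ P).eval e = g (γ e) := by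
    intro e
    have hfun : (fun i => (Γ i).eval e) = γ e := by funext i; exact (hΓ i e).symm
    rw [eval_curve4, hfun, hP]
  have hp0 : MvPolynomial.eval₂Hom Polynomial.C Γ P ≠ 0 := by
    intro h; apply h0; rw [← hev, h, Polynomial.eval_zero]
  refine ((MvPolynomial.eval₂Hom Polynomial.C Γ P).roots.toFinset.finite_toSet).subset
    fun e he => ?_
  have he' : g (γ e) = 0 := he
  simp only [Finset.mem_coe, Multiset.mem_toFinset]
  rw [Polynomial.mem_roots hp0, Polynomial.IsRoot, hev]; exact he'

/-! ### Divisibility by a linear form -/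

open MvPolynomial

lemma eval_aeval_mv (g : Fin 4 → MvPolynomial (Fin 4) K) (Q : MvPolynomial (Fin 4) K)
    (x : Fin 4 → K) : eval x (aeval g Q) = eval (fun i => eval x (g i)) Q := by
  induction Q using MvPolynomial.induction_on with
  | C a => simp
  | add p q hp hq => rw [map_add, map_add, map_add, hp, hq]
  | mul_X p i hp => rw [map_mul, map_mul, map_mul, hp, aeval_X, eval_X]

lemma X_dvd_sub_subst (j : Fin 4) (Q : MvPolynomial (Fin 4) K) :
    (X j : MvPolynomial (Fin 4) K) ∣
      Q - aeval (fun i => if i = j then (0 : MvPolynomial (Fin 4) K) else X i) Q := by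
  induction Q using MvPolynomial.induction_on with
  | C a => simp
  | add p q hp hq =>
    rw [map_add]
    have := dvd_add hp hq
    convert this using 1; ring
  | mul_X p i hp =>
    rw [map_mul, aeval_X]
    by_cases hi : i = j
    · rw [if_pos hi, mul_zero, sub_zero, hi]; exact Dvd.intro_left p rfl
    · rw [if_neg hi, ← sub_mul]; exact Dvd.dvd.mul_right hp _

lemma X_dvd_of_vanish [Infinite K] (j : Fin 4) (Q : MvPolynomial (Fin 4) K)
    (h : ∀ x : Fin 4 → K, x j = 0 → eval x Q = 0) : (X j : MvPolynomial (Fin 4) K) ∣ Q := by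
  have h0 : aeval (fun i => if i = j then (0 : MvPolynomial (Fin 4) K) else X i) Q = 0 := by
    apply MvPolynomial.funext
    intro x
    rw [map_zero, eval_aeval_mv]
    have hfun : (fun i => eval x (if i = j then (0 : MvPolynomial (Fin 4) K) else X i)) =
        fun i => if i = j then 0 else x i := by
      funext i; split_ifs <;> simp
    rw [hfun]
    exact h _ (by simp)
  have := X_dvd_sub_subst j Q
  rwa [h0, sub_zero] at this

/-- A polynomial vanishing on a hyperplane is divisible by its equation. -/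
lemma lin_dvd_of_vanish [Infinite K] (c : Fin 4 → K) (hc : c ≠ 0) (P : MvPolynomial (Fin 4) K)
    (h : ∀ x : Fin 4 → K, ∑ i, c i * x i = 0 → eval x P = 0) :
    (∑ i, C (c i) * X i : MvPolynomial (Fin 4) K) ∣ P := by
  obtain ⟨j, hj⟩ : ∃ j, c j ≠ 0 := by
    by_contra hn; push Not at hn; exact hc (funext hn)
  set ℓ : MvPolynomial (Fin 4) K := ∑ i, C (c i) * X i with hℓ
  set m : MvPolynomial (Fin 4) K := ∑ i ∈ Finset.univ.erase j, C (c i) * X i with hm
  have hℓm : ℓ = C (c j) * X j + m := by
    rw [hℓ, hm]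
    exact (Finset.add_sum_erase Finset.univ (fun i => C (c i) * X i) (Finset.mem_univ j)).symm
  let σ : Fin 4 → MvPolynomial (Fin 4) K := fun i => if i = j then ℓ else X i
  let τ : Fin 4 → MvPolynomial (Fin 4) K := fun i => if i = j then C (c j)⁻¹ * (X j - m) else X i
  have hσm : aeval σ m = m := by
    rw [hm, map_sum]
    refine Finset.sum_congr rfl fun i hi => ?_
    have hij : i ≠ j := Finset.ne_of_mem_erase hi
    rw [map_mul, aeval_C, aeval_X]
    show _ * (if i = j then ℓ else X i) = _
    rw [if_neg hij]; rfl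
  have hστ : ∀ i, aeval σ (τ i) = X i := by
    intro i
    by_cases hij : i = j
    · subst hij
      show aeval σ (if i = i then C (c i)⁻¹ * (X i - m) else X i) = X i
      rw [if_pos rfl, map_mul, map_sub, aeval_C, aeval_X, hσm]
      show _ * ((if i = i then ℓ else X i) - m) = X i
      rw [if_pos rfl, hℓm, add_sub_cancel_right, ← mul_assoc]
      show C (c i)⁻¹ * C (c i) * X i = X i
      rw [← C_mul, inv_mul_cancel₀ hj, C_1, one_mul]
    · show aeval σ (if i = j then C (c j)⁻¹ * (X j - m) else X i) = X i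
      rw [if_neg hij, aeval_X]
      show (if i = j then ℓ else X i) = X i
      rw [if_neg hij]
  have hcomp : ∀ Q : MvPolynomial (Fin 4) K, aeval σ (aeval τ Q) = Q := by
    intro Q
    induction Q using MvPolynomial.induction_on with
    | C a => simp
    | add p q hp hq => rw [map_add, map_add, hp, hq]
    | mul_X p i hp => rw [map_mul, map_mul, hp, aeval_X, hστ]
  have hdvd : (X j : MvPolynomial (Fin 4) K) ∣ aeval τ P := by
    apply X_dvd_of_vanish
    intro x hx
    rw [eval_aeval_mv]
    apply h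
    show ∑ i, c i * eval x (τ i) = 0
    have hsplit : ∑ i, c i * eval x (τ i) =
        c j * eval x (τ j) + ∑ i ∈ Finset.univ.erase j, c i * eval x (τ i) :=
      (Finset.add_sum_erase Finset.univ (fun i => c i * eval x (τ i)) (Finset.mem_univ j)).symm
    have hμ : ∑ i ∈ Finset.univ.erase j, c i * eval x (τ i) =
        ∑ i ∈ Finset.univ.erase j, c i * x i := by
      refine Finset.sum_congr rfl fun i hi => ?_
      have hij : i ≠ j := Finset.ne_of_mem_erase hi
      show c i * eval x (if i = j then C (c j)⁻¹ * (X j - m) else X i) = _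
      rw [if_neg hij, eval_X]
    have hτj : eval x (τ j) = (c j)⁻¹ * (x j - ∑ i ∈ Finset.univ.erase j, c i * x i) := by
      show eval x (if j = j then C (c j)⁻¹ * (X j - m) else X j) = _
      rw [if_pos rfl, map_mul, map_sub, eval_C, eval_X, hm, map_sum]
      congr 2
      refine Finset.sum_congr rfl fun i _ => ?_
      rw [map_mul, eval_C, eval_X]
    rw [hsplit, hμ, hτj, hx, zero_sub, ← mul_assoc,
      mul_inv_cancel₀ hj, one_mul, neg_add_cancel]
  obtain ⟨G, hG⟩ := hdvd
  refine ⟨aeval σ G, ?_⟩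
  have := congrArg (aeval σ) hG
  rw [hcomp, map_mul, aeval_X] at this
  rw [this]
  show (if j = j then ℓ else X j) * _ = _
  rw [if_pos rfl]

end TPt
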