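import Groth.Agent.Lib.Helper4.TPtB

/-!
# T-points on cubic surfaces, part C: the closed condition and the generic finiteness argument
-/

set_option autoImplicit false
set_option linter.style.haveILetI false
set_option linter.unusedSectionVars false
set_option linter.unusedVariables false
set_option linter.unusedSimpArgs false
set_option linter.unusedTactic false
set_option linter.unreachableTactic false
set_option linter.deprecated false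
set_option maxHeartbeats 1600000
set_option maxSynthPendingDepth 3

universe u

open Module Submodule NodCub SmCub

namespace TPt

variable {K : Type u} [Field K] (S : SymTri K (Fin 4 → K))

/-- `b` is a "T-point" of the cubic `S`: on the polar hyperplane of `b` the cubic is a product
of three linear forms. -/
def TP (b : Fin 4 → K) : Prop :=
  ∃ φ₁ φ₂ φ₃ : (Fin 4 → K) →ₗ[K] K, ∀ x, S.T b b x = 0 → S.T x x x = φ₁ x * φ₂ x * φ₃ x

lemma TP.smul {b : Fin 4 → K} (h : TP S b) (κ : K) (hκ : κ ≠ 0) : TP S (κ • b) := by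
  obtain ⟨φ₁, φ₂, φ₃, hφ⟩ := h
  refine ⟨φ₁, φ₂, φ₃, fun x hx => hφ x ?_⟩
  rw [S.smul1, S.smul2] at hx
  rcases mul_eq_zero.mp hx with h | h
  · exact absurd h hκ
  · rcases mul_eq_zero.mp h with h | h
    · exact absurd h hκ
    · exact h

lemma rk_of_TP [CharZero K] (b E1 E2 : Fin 4 → K) (hb : S.T b b b = 0) (h1 : S.T b b E1 = 0)
    (h2 : S.T b b E2 = 0) (hTP : TP S b) :
    Rk (3 * S.T b E1 E1) (6 * S.T b E1 E2) (3 * S.T b E2 E2) (S.T E1 E1 E1) (3 * S.T E1 E1 E2)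
      (3 * S.T E1 E2 E2) (S.T E2 E2 E2) := by
  obtain ⟨φ₁, φ₂, φ₃, hφ⟩ := hTP
  apply rk_of_prod _ _ _ _ _ _ _ (φ₁ b) (φ₂ b) (φ₃ b) (φ₁ E1) (φ₂ E1) (φ₃ E1) (φ₁ E2) (φ₂ E2)
    (φ₃ E2)
  intro r s t
  have hx0 : S.T b b (r • b + s • E1 + t • E2) = 0 := by
    rw [S.add3, S.add3, S.smul3, S.smul3, S.smul3, hb, h1, h2]; ring
  have hx := hφ _ hx0
  simp only [map_add, map_smul, smul_eq_mul] at hx
  st_norm at hx
  st_sort at hb h1 h2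
  st_sort
  linear_combination hx - r ^ 3 * hb - 3 * r ^ 2 * s * h1 - 3 * r ^ 2 * t * h2

/-- A vector of the polar hyperplane of `b` depending polynomially on `b`. -/
def Ev (e n b : Fin 4 → K) : Fin 4 → K := S.T b b n • e - S.T b b e • n

lemma Ev_mem (e n b : Fin 4 → K) : S.T b b (Ev S e n b) = 0 := by
  unfold Ev; rw [S.sub3, S.smul3, S.smul3]; ring

lemma Ev_at (e n a : Fin 4 → K) (he : S.T a a e = 0) : Ev S e n a = S.T a a n • e := by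
  unfold Ev; rw [he, zero_smul, sub_zero]

/-- The closed condition. -/
def RR (e₁ e₂ n b : Fin 4 → K) : Prop :=
  Rk (3 * S.T b (Ev S e₁ n b) (Ev S e₁ n b)) (6 * S.T b (Ev S e₁ n b) (Ev S e₂ n b))
    (3 * S.T b (Ev S e₂ n b) (Ev S e₂ n b))
    (S.T (Ev S e₁ n b) (Ev S e₁ n b) (Ev S e₁ n b))
    (3 * S.T (Ev S e₁ n b) (Ev S e₁ n b) (Ev S e₂ n b))
    (3 * S.T (Ev S e₁ n b) (Ev S e₂ n b) (Ev S e₂ n b))
    (S.T (Ev S e₂ n b) (Ev S e₂ n b) (Ev S e₂ n b))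

lemma RR_of_TP [CharZero K] (e₁ e₂ n b : Fin 4 → K) (hb : S.T b b b = 0) (h : TP S b) :
    RR S e₁ e₂ n b :=
  rk_of_TP S b _ _ hb (Ev_mem S e₁ n b) (Ev_mem S e₂ n b) h

lemma LI4.coords {a E1 E2 n : Fin 4 → K} (h : LI4 K a E1 E2 n) :
    ∃ f0 f1 f2 f3 : (Fin 4 → K) →ₗ[K] K,
      ∀ x, x = f0 x • a + f1 x • E1 + f2 x • E2 + f3 x • n := by
  have hli := (li4_iff a E1 E2 n).mp h
  let B := basisOfLinearIndependentOfCardEqFinrank hli (by simp)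
  refine ⟨B.coord 0, B.coord 1, B.coord 2, B.coord 3, fun x => ?_⟩
  have := (B.sum_repr x).symm
  rw [Fin.sum_univ_four] at this
  simpa [B, coe_basisOfLinearIndependentOfCardEqFinrank] using this

lemma LI4.scale {a e₁ e₂ n : Fin 4 → K} (h : LI4 K a e₁ e₂ n) (τ : K) (hτ : τ ≠ 0) :
    LI4 K a (τ • e₁) (τ • e₂) n := by
  intro x y z w hxyzw
  have := h x (y * τ) (z * τ) w (by rw [← hxyzw]; simp only [mul_smul])
  obtain ⟨hx, hy, hz, hw⟩ := this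
  exact ⟨hx, (mul_eq_zero.mp hy).resolve_right hτ, (mul_eq_zero.mp hz).resolve_right hτ, hw⟩

lemma TP_of_rk [IsAlgClosed K] [CharZero K] (a E1 E2 n : Fin 4 → K) (hli : LI4 K a E1 E2 n)
    (ha : S.T a a a = 0) (h1 : S.T a a E1 = 0) (h2 : S.T a a E2 = 0) (hn : S.T a a n ≠ 0)
    (hR : Rk (3 * S.T a E1 E1) (6 * S.T a E1 E2) (3 * S.T a E2 E2) (S.T E1 E1 E1)
      (3 * S.T E1 E1 E2) (3 * S.T E1 E2 E2) (S.T E2 E2 E2)) : TP S a := by
  obtain ⟨f0, f1, f2, f3, hf⟩ := LI4.coords hli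
  have hexp : ∀ x, S.T a a x = 0 → S.T x x x =
      f0 x * (3 * S.T a E1 E1 * f1 x ^ 2 + 6 * S.T a E1 E2 * f1 x * f2 x +
        3 * S.T a E2 E2 * f2 x ^ 2) +
      (S.T E1 E1 E1 * f1 x ^ 3 + 3 * S.T E1 E1 E2 * f1 x ^ 2 * f2 x +
        3 * S.T E1 E2 E2 * f1 x * f2 x ^ 2 + S.T E2 E2 E2 * f2 x ^ 3) := by
    intro x hx
    have hx' := hf x
    generalize f0 x = r at hx' ⊢
    generalize f1 x = s at hx' ⊢
    generalize f2 x = t at hx' ⊢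
    generalize f3 x = u at hx' ⊢
    subst hx'
    have hu : u = 0 := by
      rw [S.add3, S.add3, S.add3, S.smul3, S.smul3, S.smul3, S.smul3, ha, h1, h2] at hx
      have h' : u * S.T a a n = 0 := by linear_combination hx
      exact (mul_eq_zero.mp h').resolve_right hn
    subst hu
    rw [zero_smul, add_zero]
    st_norm
    st_sort at ha h1 h2
    linear_combination (r ^ 3) * ha + 3 * r ^ 2 * s * h1 + 3 * r ^ 2 * t * h2
  rcases mult_of_Rk hR with ⟨z0, z1, z2⟩ | ⟨μ0, μ1, e0, e1, e2, e3⟩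
  · obtain ⟨p1, r1, p2, r2, p3, r3, hfac⟩ :=
      factor3 (S.T E1 E1 E1) (3 * S.T E1 E1 E2) (3 * S.T E1 E2 E2) (S.T E2 E2 E2)
    refine ⟨p1 • f1 + r1 • f2, p2 • f1 + r2 • f2, p3 • f1 + r3 • f2, fun x hx => ?_⟩
    rw [hexp x hx]
    simp only [LinearMap.add_apply, LinearMap.smul_apply, smul_eq_mul]
    linear_combination hfac (f1 x) (f2 x) + f0 x * (f1 x) ^ 2 * z0 + f0 x * f1 x * f2 x * z1 +
      f0 x * (f2 x) ^ 2 * z2
  · obtain ⟨p1, r1, p2, r2, hfac⟩ :=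
      factor2 (3 * S.T a E1 E1) (6 * S.T a E1 E2) (3 * S.T a E2 E2)
    refine ⟨p1 • f1 + r1 • f2, p2 • f1 + r2 • f2, f0 + μ0 • f1 + μ1 • f2, fun x hx => ?_⟩
    rw [hexp x hx]
    simp only [LinearMap.add_apply, LinearMap.smul_apply, smul_eq_mul]
    linear_combination (f0 x + μ0 * f1 x + μ1 * f2 x) * hfac (f1 x) (f2 x) + (f1 x) ^ 3 * e0 +
      (f1 x) ^ 2 * f2 x * e1 + f1 x * (f2 x) ^ 2 * e2 + (f2 x) ^ 3 * e3

lemma notRk_basis [IsAlgClosed K] [CharZero K] (a n : Fin 4 → K) (ha : S.T a a a = 0)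
    (hn : S.T a a n ≠ 0) (hTP : ¬ TP S a) (e₁ e₂ : Fin 4 → K) (hli : LI4 K a e₁ e₂ n)
    (h1 : S.T a a e₁ = 0) (h2 : S.T a a e₂ = 0) :
    ¬ Rk (3 * S.T a e₁ e₁) (6 * S.T a e₁ e₂) (3 * S.T a e₂ e₂) (S.T e₁ e₁ e₁)
      (3 * S.T e₁ e₁ e₂) (3 * S.T e₁ e₂ e₂) (S.T e₂ e₂ e₂) :=
  fun hR => hTP (TP_of_rk S a e₁ e₂ n hli ha h1 h2 hn hR)

lemma notRR_of_notTP [IsAlgClosed K] [CharZero K] (a e₁ e₂ n : Fin 4 → K)
    (hli : LI4 K a e₁ e₂ n) (ha : S.T a a a = 0) (h1 : S.T a a e₁ = 0) (h2 : S.T a a e₂ = 0)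
    (hn : S.T a a n ≠ 0) (hTP : ¬ TP S a) : ¬ RR S e₁ e₂ n a := by
  intro hR
  apply hTP
  unfold RR at hR
  rw [Ev_at S e₁ n a h1, Ev_at S e₂ n a h2] at hR
  refine TP_of_rk S a _ _ n (LI4.scale hli _ hn) ha ?_ ?_ hn hR
  · rw [S.smul3, h1, mul_zero]
  · rw [S.smul3, h2, mul_zero]

/-- Compositions of the trilinear form with polynomial vector functions are polynomial. -/
def PolyT : Prop :=
  ∀ u v w : (Fin 4 → K) → (Fin 4 → K), IsPolyVec u → IsPolyVec v → IsPolyVec w →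
    IsPolyFun (fun b => S.T (u b) (v b) (w b))

lemma Ev_poly (hP : PolyT S) (e n : Fin 4 → K) : IsPolyVec (fun b => Ev S e n b) := by
  unfold Ev
  exact IsPolyVec.sub
    (IsPolyVec.smul (hP _ _ _ IsPolyVec.id IsPolyVec.id (IsPolyVec.const n)) (IsPolyVec.const e))
    (IsPolyVec.smul (hP _ _ _ IsPolyVec.id IsPolyVec.id (IsPolyVec.const e)) (IsPolyVec.const n))

section minors

variable {A0 A1 A2 B0 B1 B2 B3 : (Fin 4 → K) → K}

lemma m1_poly (hA0 : IsPolyFun A0) (hA1 : IsPolyFun A1) (hA2 : IsPolyFun A2) (hB0 : IsPolyFun B0)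
    (hB1 : IsPolyFun B1) (hB2 : IsPolyFun B2) (hB3 : IsPolyFun B3) :
    IsPolyFun (fun b => m1 (A0 b) (A1 b) (A2 b) (B0 b) (B1 b) (B2 b) (B3 b)) := by
  unfold m1
  exact ((((hA0.pow 2).mul hB2).sub ((hA0.mul hA1).mul hB1)).add ((hA1.pow 2).mul hB0)).sub
    ((hA0.mul hA2).mul hB0)

lemma m2_poly (hA0 : IsPolyFun A0) (hA1 : IsPolyFun A1) (hA2 : IsPolyFun A2) (hB0 : IsPolyFun B0)
    (hB1 : IsPolyFun B1) (hB2 : IsPolyFun B2) (hB3 : IsPolyFun B3) :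
    IsPolyFun (fun b => m2 (A0 b) (A1 b) (A2 b) (B0 b) (B1 b) (B2 b) (B3 b)) := by
  unfold m2
  exact (((hA0.pow 2).mul hB3).sub ((hA0.mul hA2).mul hB1)).add ((hA1.mul hA2).mul hB0)

lemma m3_poly (hA0 : IsPolyFun A0) (hA1 : IsPolyFun A1) (hA2 : IsPolyFun A2) (hB0 : IsPolyFun B0)
    (hB1 : IsPolyFun B1) (hB2 : IsPolyFun B2) (hB3 : IsPolyFun B3) :
    IsPolyFun (fun b => m3 (A0 b) (A1 b) (A2 b) (B0 b) (B1 b) (B2 b) (B3 b)) := by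
  unfold m3
  exact (((hA0.mul hA1).mul hB3).sub ((hA0.mul hA2).mul hB2)).add ((hA2.pow 2).mul hB0)

lemma m4_poly (hA0 : IsPolyFun A0) (hA1 : IsPolyFun A1) (hA2 : IsPolyFun A2) (hB0 : IsPolyFun B0)
    (hB1 : IsPolyFun B1) (hB2 : IsPolyFun B2) (hB3 : IsPolyFun B3) :
    IsPolyFun (fun b => m4 (A0 b) (A1 b) (A2 b) (B0 b) (B1 b) (B2 b) (B3 b)) := by
  unfold m4
  exact ((((hA1.pow 2).mul hB3).sub ((hA1.mul hA2).mul hB2)).sub ((hA0.mul hA2).mul hB3)).add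
    ((hA2.pow 2).mul hB1)

end minors

lemma RR_finite_on_curve (hP : PolyT S) (e₁ e₂ n a : Fin 4 → K) (hnR : ¬ RR S e₁ e₂ n a)
    (γ : K → Fin 4 → K) (hγ : IsPolyCurve γ) (hγ0 : γ 0 = a) :
    {l : K | RR S e₁ e₂ n (γ l)}.Finite := by
  have hE1 := Ev_poly S hP e₁ n
  have hE2 := Ev_poly S hP e₂ n
  have hA0 : IsPolyFun (fun b => 3 * S.T b (Ev S e₁ n b) (Ev S e₁ n b)) :=
    (IsPolyFun.const 3).mul (hP _ _ _ IsPolyVec.id hE1 hE1)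
  have hA1 : IsPolyFun (fun b => 6 * S.T b (Ev S e₁ n b) (Ev S e₂ n b)) :=
    (IsPolyFun.const 6).mul (hP _ _ _ IsPolyVec.id hE1 hE2)
  have hA2 : IsPolyFun (fun b => 3 * S.T b (Ev S e₂ n b) (Ev S e₂ n b)) :=
    (IsPolyFun.const 3).mul (hP _ _ _ IsPolyVec.id hE2 hE2)
  have hB0 : IsPolyFun (fun b => S.T (Ev S e₁ n b) (Ev S e₁ n b) (Ev S e₁ n b)) :=
    hP _ _ _ hE1 hE1 hE1
  have hB1 : IsPolyFun (fun b => 3 * S.T (Ev S e₁ n b) (Ev S e₁ n b) (Ev S e₂ n b)) :=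
    (IsPolyFun.const 3).mul (hP _ _ _ hE1 hE1 hE2)
  have hB2 : IsPolyFun (fun b => 3 * S.T (Ev S e₁ n b) (Ev S e₂ n b) (Ev S e₂ n b)) :=
    (IsPolyFun.const 3).mul (hP _ _ _ hE1 hE2 hE2)
  have hB3 : IsPolyFun (fun b => S.T (Ev S e₂ n b) (Ev S e₂ n b) (Ev S e₂ n b)) :=
    hP _ _ _ hE2 hE2 hE2
  have hm1 := m1_poly hA0 hA1 hA2 hB0 hB1 hB2 hB3
  have hm2 := m2_poly hA0 hA1 hA2 hB0 hB1 hB2 hB3
  have hm3 := m3_poly hA0 hA1 hA2 hB0 hB1 hB2 hB3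
  have hm4 := m4_poly hA0 hA1 hA2 hB0 hB1 hB2 hB3
  by_cases c1 : m1 (3 * S.T a (Ev S e₁ n a) (Ev S e₁ n a)) (6 * S.T a (Ev S e₁ n a) (Ev S e₂ n a))
      (3 * S.T a (Ev S e₂ n a) (Ev S e₂ n a))
      (S.T (Ev S e₁ n a) (Ev S e₁ n a) (Ev S e₁ n a))
      (3 * S.T (Ev S e₁ n a) (Ev S e₁ n a) (Ev S e₂ n a))
      (3 * S.T (Ev S e₁ n a) (Ev S e₂ n a) (Ev S e₂ n a))
      (S.T (Ev S e₂ n a) (Ev S e₂ n a) (Ev S e₂ n a)) = 0
  swap
  · exact (finite_zero_on_curve _ hm1 γ hγ (by rw [hγ0]; exact c1)).subset (fun l hl => hl.1)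
  by_cases c2 : m2 (3 * S.T a (Ev S e₁ n a) (Ev S e₁ n a)) (6 * S.T a (Ev S e₁ n a) (Ev S e₂ n a))
      (3 * S.T a (Ev S e₂ n a) (Ev S e₂ n a))
      (S.T (Ev S e₁ n a) (Ev S e₁ n a) (Ev S e₁ n a))
      (3 * S.T (Ev S e₁ n a) (Ev S e₁ n a) (Ev S e₂ n a))
      (3 * S.T (Ev S e₁ n a) (Ev S e₂ n a) (Ev S e₂ n a))
      (S.T (Ev S e₂ n a) (Ev S e₂ n a) (Ev S e₂ n a)) = 0
  swap
  · exact (finite_zero_on_curve _ hm2 γ hγ (by rw [hγ0]; exact c2)).subset (fun l hl => hl.2.1)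
  by_cases c3 : m3 (3 * S.T a (Ev S e₁ n a) (Ev S e₁ n a)) (6 * S.T a (Ev S e₁ n a) (Ev S e₂ n a))
      (3 * S.T a (Ev S e₂ n a) (Ev S e₂ n a))
      (S.T (Ev S e₁ n a) (Ev S e₁ n a) (Ev S e₁ n a))
      (3 * S.T (Ev S e₁ n a) (Ev S e₁ n a) (Ev S e₂ n a))
      (3 * S.T (Ev S e₁ n a) (Ev S e₂ n a) (Ev S e₂ n a))
      (S.T (Ev S e₂ n a) (Ev S e₂ n a) (Ev S e₂ n a)) = 0
  swap
  · exact (finite_zero_on_curve _ hm3 γ hγ (by rw [hγ0]; exact c3)).subset (fun l hl => hl.2.2.1)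
  by_cases c4 : m4 (3 * S.T a (Ev S e₁ n a) (Ev S e₁ n a)) (6 * S.T a (Ev S e₁ n a) (Ev S e₂ n a))
      (3 * S.T a (Ev S e₂ n a) (Ev S e₂ n a))
      (S.T (Ev S e₁ n a) (Ev S e₁ n a) (Ev S e₁ n a))
      (3 * S.T (Ev S e₁ n a) (Ev S e₁ n a) (Ev S e₂ n a))
      (3 * S.T (Ev S e₁ n a) (Ev S e₂ n a) (Ev S e₂ n a))
      (S.T (Ev S e₂ n a) (Ev S e₂ n a) (Ev S e₂ n a)) = 0
  swap
  · exact (finite_zero_on_curve _ hm4 γ hγ (by rw [hγ0]; exact c4)).subset (fun l hl => hl.2.2.2)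
  exact absurd ⟨c1, c2, c3, c4⟩ hnR

lemma line_finite [CharZero K] (hP : PolyT S) (tp : (Fin 4 → K) → Prop)
    (htpA : ∀ b, tp b → S.T b b b = 0 ∧ TP S b) (e₁ e₂ n a : Fin 4 → K)
    (hnR : ¬ RR S e₁ e₂ n a) (w : Fin 4 → K) : {r : K | tp (r • a + w)}.Finite := by
  have hY : {ρ : K | RR S e₁ e₂ n (a + ρ • w)}.Finite :=
    RR_finite_on_curve S hP e₁ e₂ n a hnR (fun ρ => a + ρ • w)
      (IsPolyCurve.add (IsPolyCurve.const a) (IsPolyCurve.smul IsPolyK.id (IsPolyCurve.const w)))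
      (by simp)
  refine ((Set.finite_singleton (0 : K)).union (hY.image (fun ρ => ρ⁻¹))).subset ?_
  intro r hr
  by_cases hr0 : r = 0
  · left; exact hr0
  · right
    refine ⟨r⁻¹, ?_, inv_inv r⟩
    obtain ⟨hF, hT⟩ := htpA _ hr
    have hvec : a + r⁻¹ • w = r⁻¹ • (r • a + w) := by
      rw [smul_add, smul_smul, inv_mul_cancel₀ hr0, one_smul]
    show RR S e₁ e₂ n (a + r⁻¹ • w)
    rw [hvec]
    apply RR_of_TP
    · rw [S.smul1, S.smul2, S.smul3, hF]; ring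
    · exact TP.smul S hT _ (inv_ne_zero hr0)

lemma param_finite [CharZero K] (hP : PolyT S) (tp : (Fin 4 → K) → Prop)
    (htpA : ∀ b, tp b → S.T b b b = 0 ∧ TP S b) (e₁ e₂ n a : Fin 4 → K)
    (hnR : ¬ RR S e₁ e₂ n a) (γ : K → Fin 4 → K) (hγ : IsPolyCurve γ) (hγ0 : γ 0 = a)
    (Ex : Set K) (hEx : Ex.Finite)
    (PH : ∀ l, l ∉ Ex → ∀ r : K,
      S.T (r • a + (e₁ + l • e₂)) (r • a + (e₁ + l • e₂)) (r • a + (e₁ + l • e₂)) = 0 →
      ∃ κ : K, κ ≠ 0 ∧ γ l = κ • (r • a + (e₁ + l • e₂))) :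
    {l : K | ∃ r : K, tp (r • a + (e₁ + l • e₂))}.Finite := by
  have hZ := RR_finite_on_curve S hP e₁ e₂ n a hnR γ hγ hγ0
  refine (hEx.union hZ).subset ?_
  rintro l ⟨r, hr⟩
  by_cases hl : l ∈ Ex
  · left; exact hl
  · right
    obtain ⟨hF, hT⟩ := htpA _ hr
    obtain ⟨κ, hκ, hγl⟩ := PH l hl r hF
    show RR S e₁ e₂ n (γ l)
    rw [hγl]
    apply RR_of_TP
    · rw [S.smul1, S.smul2, S.smul3, hF]; ring
    · exact TP.smul S hT κ hκ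

theorem finite_main [CharZero K] (hP : PolyT S) (tp : (Fin 4 → K) → Prop)
    (htpA : ∀ b, tp b → S.T b b b = 0 ∧ TP S b) (a e₁ e₂ n : Fin 4 → K)
    (hli : LI4 K a e₁ e₂ n) (haa : S.T a a a = 0) (h1 : S.T a a e₁ = 0) (h2 : S.T a a e₂ = 0)
    (hn : S.T a a n ≠ 0) (hnR : ¬ RR S e₁ e₂ n a) (hatp : ¬ tp a)
    (hΛ : {l : K | ∃ r : K, tp (r • a + (e₁ + l • e₂))}.Finite)
    (H : Submodule K (Fin 4 → K)) (hH : ∀ x, x ∈ H → S.T a a x = 0) :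
    {U : Submodule K (Fin 4 → K) | finrank K U = 1 ∧ U ≤ H ∧ ∀ b ∈ U, b ≠ 0 → tp b}.Finite := by
  have hline := line_finite S hP tp htpA e₁ e₂ n a hnR
  have hN1 : (⋃ l ∈ {l : K | ∃ r : K, tp (r • a + (e₁ + l • e₂))},
      (fun r : K => r • a + (e₁ + l • e₂)) '' {r | tp (r • a + (e₁ + l • e₂))}).Finite :=
    Set.Finite.biUnion hΛ (fun l _ => (hline _).image _)
  have hN2 : ((fun r : K => r • a + e₂) '' {r | tp (r • a + e₂)}).Finite := (hline _).image _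
  refine ((hN1.union hN2).image (fun b => K ∙ b)).subset ?_
  rintro U ⟨hU1, hUH, hUtp⟩
  obtain ⟨⟨b, hbU⟩, hb0, hbsp⟩ := finrank_eq_one_iff'.mp hU1
  have hb0' : b ≠ 0 := fun h => hb0 (Subtype.ext h)
  obtain ⟨r, s, t, u, hb⟩ := hli.span (by simp) b
  have hu : u = 0 := by
    have := hH b (hUH hbU)
    rw [hb, S.add3, S.add3, S.add3, S.smul3, S.smul3, S.smul3, S.smul3, haa, h1, h2] at this
    have h' : u * S.T a a n = 0 := by linear_combination this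
    exact (mul_eq_zero.mp h').resolve_right hn
  subst hu
  rw [zero_smul, add_zero] at hb
  have hkey : ∀ κ : K, κ ≠ 0 → tp (κ • b) ∧ U = K ∙ (κ • b) := by
    intro κ hκ
    have hmem : κ • b ∈ U := U.smul_mem κ hbU
    refine ⟨hUtp _ hmem (smul_ne_zero hκ hb0'), le_antisymm ?_ ?_⟩
    · intro w hw
      obtain ⟨c, hc⟩ := hbsp ⟨w, hw⟩
      have hc' : c • b = w := congrArg Subtype.val hc
      rw [Submodule.mem_span_singleton]
      exact ⟨c * κ⁻¹, by rw [smul_smul, mul_assoc, inv_mul_cancel₀ hκ, mul_one, hc']⟩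
    · rw [Submodule.span_singleton_le_iff_mem]; exact hmem
  by_cases hs : s = 0
  · by_cases ht : t = 0
    · exfalso
      rw [hs, ht, zero_smul, zero_smul, add_zero, add_zero] at hb
      have hr : r ≠ 0 := by
        intro h0; rw [h0, zero_smul] at hb; exact hb0' hb
      have := (hkey r⁻¹ (inv_ne_zero hr)).1
      rw [hb, smul_smul, inv_mul_cancel₀ hr, one_smul] at this
      exact hatp this
    · obtain ⟨htp', hU'⟩ := hkey t⁻¹ (inv_ne_zero ht)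
      have hvec : t⁻¹ • b = (t⁻¹ * r) • a + e₂ := by
        rw [hb, hs]
        simp only [zero_smul, add_zero, smul_add, smul_smul, inv_mul_cancel₀ ht, one_smul]
      rw [hvec] at htp' hU'
      exact ⟨(t⁻¹ * r) • a + e₂, Or.inr ⟨t⁻¹ * r, htp', rfl⟩, hU'.symm⟩
  · obtain ⟨htp', hU'⟩ := hkey s⁻¹ (inv_ne_zero hs)
    have hvec : s⁻¹ • b = (s⁻¹ * r) • a + (e₁ + (s⁻¹ * t) • e₂) := by
      rw [hb]
      simp only [smul_add, smul_smul, inv_mul_cancel₀ hs, one_smul, add_assoc]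
    rw [hvec] at htp' hU'
    refine ⟨_, Or.inl ?_, hU'.symm⟩
    rw [Set.mem_iUnion₂]
    exact ⟨s⁻¹ * t, ⟨s⁻¹ * r, htp'⟩, ⟨s⁻¹ * r, htp', rfl⟩⟩

end TPt
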