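import Groth.Agent.Lib.Helper4.TPtC

/-!
# T-points on cubic surfaces, part D: adapted bases, the parametrisations, and the main theorem
-/

set_option autoImplicit false
set_option linter.style.haveILetI false
set_option linter.unusedSectionVars false
set_option linter.unusedVariables false
set_option linter.unusedSimpArgs false
set_option linter.unusedTactic false
set_option linter.unreachableTactic false
set_option linter.deprecated false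
set_option maxHeartbeats 1600000
set_option maxSynthPendingDepth 3

universe u

open Module Submodule NodCub SmCub

namespace TPt

variable {K : Type u} [Field K] (S : SymTri K (Fin 4 → K))

lemma LI4.change {a e₁ e₂ n : Fin 4 → K} (h : LI4 K a e₁ e₂ n) (x₁ y₁ x₂ y₂ : K)
    (hdet : x₁ * y₂ - x₂ * y₁ ≠ 0) :
    LI4 K a (x₁ • e₁ + y₁ • e₂) (x₂ • e₁ + y₂ • e₂) n := by
  intro α β γ δ hsum
  have := h α (β * x₁ + γ * x₂) (β * y₁ + γ * y₂) δ (by rw [← hsum]; module)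
  obtain ⟨hα, h1, h2, hδ⟩ := this
  have hβ : β * (x₁ * y₂ - x₂ * y₁) = 0 := by linear_combination y₂ * h1 - x₂ * h2
  have hγ : γ * (x₁ * y₂ - x₂ * y₁) = 0 := by linear_combination x₁ * h2 - y₁ * h1
  exact ⟨hα, (mul_eq_zero.mp hβ).resolve_right hdet, (mul_eq_zero.mp hγ).resolve_right hdet, hδ⟩

lemma exists_initial_basis (a n : Fin 4 → K) (ha0 : a ≠ 0) (haa : S.T a a a = 0)
    (hn : S.T a a n ≠ 0) :
    ∃ e₁ e₂ : Fin 4 → K, LI4 K a e₁ e₂ n ∧ S.T a a e₁ = 0 ∧ S.T a a e₂ = 0 := by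
  have h2 : LinearIndependent K ![a, n] := by
    rw [LinearIndependent.pair_iff' ha0]
    intro c hc
    apply hn; rw [← hc, S.smul3, haa, mul_zero]
  obtain ⟨u₁, hu₁⟩ := exists_cons_li (k := K) ![a, n] h2 (by simp)
  have hu₁' : LinearIndependent K ![u₁, a, n] := hu₁
  obtain ⟨u₂, hu₂⟩ := exists_cons_li (k := K) ![u₁, a, n] hu₁' (by simp)
  have hu₂' : LinearIndependent K ![u₂, u₁, a, n] := hu₂
  have h4 := (li4_iff u₂ u₁ a n).mpr hu₂'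
  refine ⟨u₁ - (S.T a a u₁ / S.T a a n) • n, u₂ - (S.T a a u₂ / S.T a a n) • n, ?_, ?_, ?_⟩
  · intro x y z w hsum
    have := h4 z y x (w - y * (S.T a a u₁ / S.T a a n) - z * (S.T a a u₂ / S.T a a n))
      (by rw [← hsum]; module)
    obtain ⟨hz, hy, hx, hw⟩ := this
    refine ⟨hx, hy, hz, ?_⟩
    rw [hy, hz] at hw; simpa using hw
  · rw [S.sub3, S.smul3, div_mul_cancel₀ _ hn, sub_self]
  · rw [S.sub3, S.smul3, div_mul_cancel₀ _ hn, sub_self]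

lemma exists_basis_q0 [IsAlgClosed K] (a e₁ e₂ n : Fin 4 → K) (hli : LI4 K a e₁ e₂ n)
    (h1 : S.T a a e₁ = 0) (h2 : S.T a a e₂ = 0) :
    ∃ e₁' e₂' : Fin 4 → K, LI4 K a e₁' e₂' n ∧ S.T a a e₁' = 0 ∧ S.T a a e₂' = 0 ∧
      S.T a e₁' e₁' = 0 := by
  obtain ⟨s, t, hst, hq⟩ := exists_q_root (S.T a e₁ e₁) (S.T a e₁ e₂) (S.T a e₂ e₂)
  have hq' : S.T a (s • e₁ + t • e₂) (s • e₁ + t • e₂) = 0 := by
    st_norm; st_sort at hq; linear_combination hq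
  have hm : S.T a a (s • e₁ + t • e₂) = 0 := by
    rw [S.add3, S.smul3, S.smul3, h1, h2]; ring
  by_cases hs : s = 0
  · have ht : t ≠ 0 := hst.resolve_left (not_not.mpr hs)
    have := LI4.change hli s t 1 0 (by rw [hs]; simpa using ht)
    rw [one_smul, zero_smul, add_zero] at this
    exact ⟨_, _, this, hm, h1, hq'⟩
  · have := LI4.change hli s t 0 1 (by simpa using hs)
    rw [zero_smul, one_smul, zero_add] at this
    exact ⟨_, _, this, hm, h2, hq'⟩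

lemma second_root (a v₁ v₂ : Fin 4 → K) (q1 q2 : K) (hq0 : S.T a v₁ v₁ = 0)
    (hq1 : S.T a v₁ v₂ = q1) (hq2 : S.T a v₂ v₂ = q2) :
    S.T a (q2 • v₁ + (-(2 * q1)) • v₂) (q2 • v₁ + (-(2 * q1)) • v₂) = 0 := by
  st_norm
  st_sort at hq0 hq1 hq2
  linear_combination (q2 ^ 2) * hq0 + (-(4 * q1 * q2)) * hq1 + (4 * q1 ^ 2) * hq2

lemma exists_adapted_basis [IsAlgClosed K] [CharZero K] (a n : Fin 4 → K) (haa : S.T a a a = 0)
    (hn : S.T a a n ≠ 0) (hTP : ¬ TP S a) (e₁ e₂ : Fin 4 → K) (hli : LI4 K a e₁ e₂ n)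
    (h1 : S.T a a e₁ = 0) (h2 : S.T a a e₂ = 0) :
    ∃ e₁' e₂' : Fin 4 → K, LI4 K a e₁' e₂' n ∧ S.T a a e₁' = 0 ∧ S.T a a e₂' = 0 ∧
      S.T a e₁' e₁' = 0 ∧
      (S.T e₁' e₁' e₁' ≠ 0 ∨
        (S.T a e₁' e₂' = 0 ∧ S.T e₁' e₁' e₁' = 0 ∧ S.T e₁' e₁' e₂' ≠ 0)) := by
  obtain ⟨v₁, v₂, hli', hv1, hv2, hq0⟩ := exists_basis_q0 S a e₁ e₂ n hli h1 h2
  by_cases hc0 : S.T v₁ v₁ v₁ = 0
  swap
  · exact ⟨v₁, v₂, hli', hv1, hv2, hq0, Or.inl hc0⟩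
  by_cases hq1 : S.T a v₁ v₂ = 0
  · by_cases hc1 : S.T v₁ v₁ v₂ = 0
    · exfalso
      apply notRk_basis S a n haa hn hTP v₁ v₂ hli' hv1 hv2
      rw [hq0, hq1, hc0, hc1]
      simp only [mul_zero]
      exact Rk_special2 _ _ _
    · exact ⟨v₁, v₂, hli', hv1, hv2, hq0, Or.inr ⟨hq1, hc0, hc1⟩⟩
  · have h2q : (2 : K) * S.T a v₁ v₂ ≠ 0 := mul_ne_zero two_ne_zero hq1
    have hqw := second_root S a v₁ v₂ _ _ hq0 rfl rfl
    have hw1 : S.T a a (S.T a v₂ v₂ • v₁ + (-(2 * S.T a v₁ v₂)) • v₂) = 0 := by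
      rw [S.add3, S.smul3, S.smul3, hv1, hv2]; ring
    by_cases hcw : S.T (S.T a v₂ v₂ • v₁ + (-(2 * S.T a v₁ v₂)) • v₂)
        (S.T a v₂ v₂ • v₁ + (-(2 * S.T a v₁ v₂)) • v₂)
        (S.T a v₂ v₂ • v₁ + (-(2 * S.T a v₁ v₂)) • v₂) = 0
    · exfalso
      have hli2 := LI4.change hli' 1 0 (S.T a v₂ v₂) (-(2 * S.T a v₁ v₂)) (by
        intro h; apply h2q; linear_combination -h)
      rw [one_smul, zero_smul, add_zero] at hli2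
      apply notRk_basis S a n haa hn hTP v₁ _ hli2 hv1 hw1
      rw [hq0, hqw, hc0, hcw]
      simp only [mul_zero]
      exact Rk_special1 _ _ _
    · have hliw := LI4.change hli' (S.T a v₂ v₂) (-(2 * S.T a v₁ v₂)) 1 0 (by
        intro h; apply h2q; linear_combination h)
      rw [one_smul, zero_smul, add_zero] at hliw
      exact ⟨_, v₁, hliw, hw1, hv1, hqw, Or.inl hcw⟩

lemma curve_eq (a w : Fin 4 → K) (d cc qq r : K) (h : 3 * r * qq + cc = 0) :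
    d • ((-cc) • a + (3 * qq) • w) = (d * (3 * qq)) • (r • a + w) := by
  have : -cc = 3 * qq * r := by linear_combination -h
  rw [this]; module

lemma curve_zero (a w : Fin 4 → K) (d : K) (hd : d ≠ 0) :
    (-d)⁻¹ • ((-d) • a + (0 : K) • w) = a := by
  rw [zero_smul, add_zero, smul_smul, inv_mul_cancel₀ (neg_ne_zero.mpr hd), one_smul]

lemma caseA [CharZero K] (a e₁ e₂ : Fin 4 → K) (haa : S.T a a a = 0) (h1 : S.T a a e₁ = 0)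
    (h2 : S.T a a e₂ = 0) (hq0 : S.T a e₁ e₁ = 0) (hc0 : S.T e₁ e₁ e₁ ≠ 0)
    (hq : ¬ (S.T a e₁ e₂ = 0 ∧ S.T a e₂ e₂ = 0)) :
    ∃ γ : K → Fin 4 → K, IsPolyCurve γ ∧ γ 0 = a ∧ ∃ Ex : Set K, Ex.Finite ∧
      ∀ l, l ∉ Ex → ∀ r : K,
        S.T (r • a + (e₁ + l • e₂)) (r • a + (e₁ + l • e₂)) (r • a + (e₁ + l • e₂)) = 0 →
        ∃ κ : K, κ ≠ 0 ∧ γ l = κ • (r • a + (e₁ + l • e₂)) := by
  refine ⟨fun l => (-(S.T e₁ e₁ e₁))⁻¹ •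
      ((-(S.T e₁ e₁ e₁ + 3 * S.T e₁ e₁ e₂ * l + 3 * S.T e₁ e₂ e₂ * l ^ 2 + S.T e₂ e₂ e₂ * l ^ 3)) • a +
        (3 * (2 * S.T a e₁ e₂ * l + S.T a e₂ e₂ * l ^ 2)) • (e₁ + l • e₂)), ?_, ?_,
    {l : K | 2 * S.T a e₁ e₂ * l + S.T a e₂ e₂ * l ^ 2 = 0}, ?_, ?_⟩
  · refine IsPolyCurve.smul (IsPolyK.const _) (IsPolyCurve.add
      (IsPolyCurve.smul (IsPolyK.neg ?_) (IsPolyCurve.const a))
      (IsPolyCurve.smul ?_ (IsPolyCurve.add (IsPolyCurve.const e₁)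
        (IsPolyCurve.smul IsPolyK.id (IsPolyCurve.const e₂)))))
    · exact (((IsPolyK.const _).add ((IsPolyK.const _).mul IsPolyK.id)).add
        ((IsPolyK.const _).mul (IsPolyK.id.pow 2))).add ((IsPolyK.const _).mul (IsPolyK.id.pow 3))
    · exact (IsPolyK.const 3).mul (((IsPolyK.const _).mul IsPolyK.id).add
        ((IsPolyK.const _).mul (IsPolyK.id.pow 2)))
  · show (-(S.T e₁ e₁ e₁))⁻¹ • ((-(S.T e₁ e₁ e₁ + 3 * S.T e₁ e₁ e₂ * 0 + 3 * S.T e₁ e₂ e₂ * 0 ^ 2 +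
        S.T e₂ e₂ e₂ * 0 ^ 3)) • a +
        (3 * (2 * S.T a e₁ e₂ * 0 + S.T a e₂ e₂ * 0 ^ 2)) • (e₁ + (0 : K) • e₂)) = a
    have e1 : S.T e₁ e₁ e₁ + 3 * S.T e₁ e₁ e₂ * 0 + 3 * S.T e₁ e₂ e₂ * 0 ^ 2 +
        S.T e₂ e₂ e₂ * 0 ^ 3 = S.T e₁ e₁ e₁ := by ring
    have e2 : 3 * (2 * S.T a e₁ e₂ * 0 + S.T a e₂ e₂ * 0 ^ 2) = 0 := by ring
    rw [e1, e2]
    exact curve_zero a _ _ hc0
  · refine (Set.toFinite {0, -(2 * S.T a e₁ e₂) / S.T a e₂ e₂}).subset ?_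
    intro l hl
    have hl0 : 2 * S.T a e₁ e₂ * l + S.T a e₂ e₂ * l ^ 2 = 0 := hl
    have hl' : l * (2 * S.T a e₁ e₂ + S.T a e₂ e₂ * l) = 0 := by linear_combination hl0
    rcases mul_eq_zero.mp hl' with h | h
    · left; exact h
    · right
      have hq2 : S.T a e₂ e₂ ≠ 0 := by
        intro h0
        rw [h0, zero_mul, add_zero] at h
        exact hq ⟨(mul_eq_zero.mp h).resolve_left two_ne_zero, h0⟩
      show l = -(2 * S.T a e₁ e₂) / S.T a e₂ e₂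
      rw [eq_div_iff hq2]
      linear_combination h
  · intro l hl r hx
    have hqq : 2 * S.T a e₁ e₂ * l + S.T a e₂ e₂ * l ^ 2 ≠ 0 := hl
    have hexp : 3 * r * (2 * S.T a e₁ e₂ * l + S.T a e₂ e₂ * l ^ 2) +
        (S.T e₁ e₁ e₁ + 3 * S.T e₁ e₁ e₂ * l + 3 * S.T e₁ e₂ e₂ * l ^ 2 + S.T e₂ e₂ e₂ * l ^ 3) = 0 := by
      st_norm at hx
      st_sort at haa h1 h2 hq0
      st_sort
      linear_combination hx - r ^ 3 * haa - 3 * r ^ 2 * h1 - 3 * r ^ 2 * l * h2 - 3 * r * hq0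
    refine ⟨(-(S.T e₁ e₁ e₁))⁻¹ * (3 * (2 * S.T a e₁ e₂ * l + S.T a e₂ e₂ * l ^ 2)),
      mul_ne_zero (inv_ne_zero (neg_ne_zero.mpr hc0)) (mul_ne_zero three_ne_zero hqq), ?_⟩
    exact curve_eq a (e₁ + l • e₂) _ _ _ r hexp

lemma caseB [CharZero K] (a e₁ e₂ : Fin 4 → K) (haa : S.T a a a = 0) (h1 : S.T a a e₁ = 0)
    (h2 : S.T a a e₂ = 0) (hq0 : S.T a e₁ e₁ = 0) (hq1 : S.T a e₁ e₂ = 0)
    (hc0 : S.T e₁ e₁ e₁ = 0) (hc1 : S.T e₁ e₁ e₂ ≠ 0) (hq2 : S.T a e₂ e₂ ≠ 0) :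
    ∃ γ : K → Fin 4 → K, IsPolyCurve γ ∧ γ 0 = a ∧ ∃ Ex : Set K, Ex.Finite ∧
      ∀ l, l ∉ Ex → ∀ r : K,
        S.T (r • a + (e₁ + l • e₂)) (r • a + (e₁ + l • e₂)) (r • a + (e₁ + l • e₂)) = 0 →
        ∃ κ : K, κ ≠ 0 ∧ γ l = κ • (r • a + (e₁ + l • e₂)) := by
  refine ⟨fun l => (-(3 * S.T e₁ e₁ e₂))⁻¹ •
      ((-(3 * S.T e₁ e₁ e₂ + 3 * S.T e₁ e₂ e₂ * l + S.T e₂ e₂ e₂ * l ^ 2)) • a +
        (3 * (S.T a e₂ e₂ * l)) • (e₁ + l • e₂)), ?_, ?_, {0}, Set.finite_singleton 0, ?_⟩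
  · refine IsPolyCurve.smul (IsPolyK.const _) (IsPolyCurve.add
      (IsPolyCurve.smul (IsPolyK.neg ?_) (IsPolyCurve.const a))
      (IsPolyCurve.smul ?_ (IsPolyCurve.add (IsPolyCurve.const e₁)
        (IsPolyCurve.smul IsPolyK.id (IsPolyCurve.const e₂)))))
    · exact ((IsPolyK.const _).add ((IsPolyK.const _).mul IsPolyK.id)).add
        ((IsPolyK.const _).mul (IsPolyK.id.pow 2))
    · exact (IsPolyK.const 3).mul ((IsPolyK.const _).mul IsPolyK.id)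
  · show (-(3 * S.T e₁ e₁ e₂))⁻¹ •
      ((-(3 * S.T e₁ e₁ e₂ + 3 * S.T e₁ e₂ e₂ * 0 + S.T e₂ e₂ e₂ * 0 ^ 2)) • a +
        (3 * (S.T a e₂ e₂ * 0)) • (e₁ + (0 : K) • e₂)) = a
    have e1 : 3 * S.T e₁ e₁ e₂ + 3 * S.T e₁ e₂ e₂ * 0 + S.T e₂ e₂ e₂ * 0 ^ 2 =
        3 * S.T e₁ e₁ e₂ := by ring
    have e2 : 3 * (S.T a e₂ e₂ * 0) = 0 := by ring
    rw [e1, e2]
    exact curve_zero a _ _ (mul_ne_zero three_ne_zero hc1)
  · intro l hl r hx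
    have hl0 : l ≠ 0 := hl
    have hexp' : l * (3 * r * (S.T a e₂ e₂ * l) +
        (3 * S.T e₁ e₁ e₂ + 3 * S.T e₁ e₂ e₂ * l + S.T e₂ e₂ e₂ * l ^ 2)) = 0 := by
      st_norm at hx
      st_sort at haa h1 h2 hq0 hq1 hc0
      st_sort
      linear_combination hx - r ^ 3 * haa - 3 * r ^ 2 * h1 - 3 * r ^ 2 * l * h2 - 3 * r * hq0 -
        6 * r * l * hq1 - hc0
    have hexp := (mul_eq_zero.mp hexp').resolve_left hl0
    refine ⟨(-(3 * S.T e₁ e₁ e₂))⁻¹ * (3 * (S.T a e₂ e₂ * l)),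
      mul_ne_zero (inv_ne_zero (neg_ne_zero.mpr (mul_ne_zero three_ne_zero hc1)))
        (mul_ne_zero three_ne_zero (mul_ne_zero hq2 hl0)), ?_⟩
    exact curve_eq a (e₁ + l • e₂) _ _ _ r hexp

/-- Abstract form of the main theorem. -/
theorem finite_of_notTP [IsAlgClosed K] [CharZero K] (hP : PolyT S) (tp : (Fin 4 → K) → Prop)
    (htpA : ∀ b, tp b → S.T b b b = 0 ∧ TP S b) (a : Fin 4 → K) (ha0 : a ≠ 0)
    (haa : S.T a a a = 0) (hsm : ∃ n, S.T a a n ≠ 0) (hTP : ¬ TP S a) (hatp : ¬ tp a)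
    (H : Submodule K (Fin 4 → K)) (hH : ∀ x, x ∈ H → S.T a a x = 0) :
    {U : Submodule K (Fin 4 → K) | finrank K U = 1 ∧ U ≤ H ∧ ∀ b ∈ U, b ≠ 0 → tp b}.Finite := by
  obtain ⟨n, hn⟩ := hsm
  obtain ⟨e₁', e₂', hli0, h10, h20⟩ := exists_initial_basis S a n ha0 haa hn
  obtain ⟨e₁, e₂, hli, h1, h2, hq0, hcase⟩ :=
    exists_adapted_basis S a n haa hn hTP e₁' e₂' hli0 h10 h20
  have hnRk := notRk_basis S a n haa hn hTP e₁ e₂ hli h1 h2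
  have hnR : ¬ RR S e₁ e₂ n a := notRR_of_notTP S a e₁ e₂ n hli haa h1 h2 hn hTP
  have hΛ : {l : K | ∃ r : K, tp (r • a + (e₁ + l • e₂))}.Finite := by
    rcases hcase with hc0 | ⟨hq1, hc0, hc1⟩
    · have hq : ¬ (S.T a e₁ e₂ = 0 ∧ S.T a e₂ e₂ = 0) := by
        rintro ⟨z1, z2⟩
        apply hnRk
        rw [hq0, z1, z2]
        simp only [mul_zero]
        exact Rk_of_zero _ _ _ _
      obtain ⟨γ, hγ, hγ0, Ex, hEx, PH⟩ := caseA S a e₁ e₂ haa h1 h2 hq0 hc0 hq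
      exact param_finite S hP tp htpA e₁ e₂ n a hnR γ hγ hγ0 Ex hEx PH
    · have hq2 : S.T a e₂ e₂ ≠ 0 := by
        intro z2
        apply hnRk
        rw [hq0, hq1, z2]
        simp only [mul_zero]
        exact Rk_of_zero _ _ _ _
      obtain ⟨γ, hγ, hγ0, Ex, hEx, PH⟩ := caseB S a e₁ e₂ haa h1 h2 hq0 hq1 hc0 hc1 hq2
      exact param_finite S hP tp htpA e₁ e₂ n a hnR γ hγ hγ0 Ex hEx PH
  exact finite_main S hP tp htpA a e₁ e₂ n hli haa h1 h2 hn hnR hatp hΛ H hH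

end TPt
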