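import Groth.Agent.Lib.Helper4.TPtD

/-!
# T-points on cubic surfaces, part E: translation to polynomials
-/

set_option autoImplicit false
set_option linter.style.haveILetI false
set_option linter.unusedSectionVars false
set_option linter.unusedVariables false
set_option linter.unusedSimpArgs false
set_option linter.unusedTactic false
set_option linter.unreachableTactic false
set_option linter.deprecated false
set_option maxHeartbeats 1600000
set_option maxSynthPendingDepth 3

universe u

open Module Submodule NodCub SmCub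

namespace TPt

variable {K : Type u} [Field K]

lemma eval_lin_of_homog {L : MvPolynomial (Fin 4) K} (hL : L.IsHomogeneous 1) (x : Fin 4 → K) :
    MvPolynomial.eval x L = ∑ j, MvPolynomial.eval 0 (MvPolynomial.pderiv j L) * x j := by
  have := NodCub.euler_eval hL x
  rw [Nat.cast_one, one_mul] at this
  rw [← this]
  refine Finset.sum_congr rfl fun j _ => ?_
  have h0 : (MvPolynomial.pderiv j L).IsHomogeneous 0 := hL.pderiv
  rw [NodCub.eval_const_of_homog_zero h0 x, mul_comm]

/-- The linear functional defined by a linear form. -/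
noncomputable def linOf (L : MvPolynomial (Fin 4) K) : (Fin 4 → K) →ₗ[K] K :=
  ∑ j, (MvPolynomial.eval 0 (MvPolynomial.pderiv j L)) •
    (LinearMap.proj j : (Fin 4 → K) →ₗ[K] K)

lemma linOf_apply {L : MvPolynomial (Fin 4) K} (hL : L.IsHomogeneous 1) (x : Fin 4 → K) :
    linOf L x = MvPolynomial.eval x L := by
  rw [eval_lin_of_homog hL x]
  simp [linOf, LinearMap.sum_apply]

/-- The linear form defined by a linear functional. -/
noncomputable def polyOf (φ : (Fin 4 → K) →ₗ[K] K) : MvPolynomial (Fin 4) K :=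
  ∑ j : Fin 4, MvPolynomial.C (φ (fun k => if j = k then 1 else 0)) * MvPolynomial.X j

lemma polyOf_eval (φ : (Fin 4 → K) →ₗ[K] K) (x : Fin 4 → K) :
    MvPolynomial.eval x (polyOf φ) = φ x := by
  rw [LinearMap.pi_apply_eq_sum_univ φ x, polyOf, map_sum]
  refine Finset.sum_congr rfl fun j _ => ?_
  rw [map_mul, MvPolynomial.eval_C, MvPolynomial.eval_X, smul_eq_mul, mul_comm]

lemma polyOf_homog (φ : (Fin 4 → K) →ₗ[K] K) : (polyOf φ).IsHomogeneous 1 := by
  unfold polyOf
  apply MvPolynomial.IsHomogeneous.sum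
  intro j _
  have := (MvPolynomial.isHomogeneous_C (Fin 4) (φ (fun k => if j = k then 1 else 0))).mul
    (MvPolynomial.isHomogeneous_X K j)
  simpa using this

theorem main (K : Type u) [Field K] [IsAlgClosed K]
    [CharZero K] (F : MvPolynomial (Fin 4) K) (hF : F.IsHomogeneous 3)
    (tp : (Fin 4 → K) → Prop)
    (htp : ∀ b : Fin 4 → K, tp b ↔ (b ≠ 0 ∧ MvPolynomial.eval b F = 0 ∧
      (∃ i : Fin 4, MvPolynomial.eval b (MvPolynomial.pderiv i F) ≠ 0) ∧
      ∃ L₁ L₂ L₃ : MvPolynomial (Fin 4) K, L₁.IsHomogeneous 1 ∧ L₂.IsHomogeneous 1 ∧ L₃.IsHomogeneous 1 ∧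
        F - L₁ * L₂ * L₃ ∈ Ideal.span {∑ i : Fin 4,
          MvPolynomial.C (MvPolynomial.eval b (MvPolynomial.pderiv i F)) * MvPolynomial.X i}))
    (a : Fin 4 → K) (haF : MvPolynomial.eval a F = 0)
    (hsm : ∃ i : Fin 4, MvPolynomial.eval a (MvPolynomial.pderiv i F) ≠ 0) (ha : ¬ tp a)
    (H : Submodule K (Fin 4 → K))
    (hH : ∀ x : Fin 4 → K, x ∈ H ↔ MvPolynomial.eval x (∑ i : Fin 4,
      MvPolynomial.C (MvPolynomial.eval a (MvPolynomial.pderiv i F)) * MvPolynomial.X i) = 0) :
    Set.Finite {U : Submodule K (Fin 4 → K) | Module.finrank K ↥U = 1 ∧ U ≤ H ∧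
      ∀ b ∈ U, b ≠ 0 → tp b} := by
  classical
  haveI : Infinite K := Infinite.of_injective (Nat.cast : ℕ → K) Nat.cast_injective
  have h3 : (3 : K) ≠ 0 := three_ne_zero
  set S := SmCub.triOf F with hS
  have e : ∀ u, MvPolynomial.eval u F = S.T u u u := fun u => NodCub.Tri_self hF u
  have hlin : ∀ b x : Fin 4 → K, MvPolynomial.eval x (∑ i : Fin 4,
      MvPolynomial.C (MvPolynomial.eval b (MvPolynomial.pderiv i F)) * MvPolynomial.X i) =
        3 * S.T b b x := by
    intro b x
    rw [map_sum]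
    simp only [map_mul, MvPolynomial.eval_C, MvPolynomial.eval_X]
    have := NodCub.Tri_deriv hF b x
    show _ = 3 * NodCub.Tri F b b x
    rw [← this]
    exact Finset.sum_congr rfl (fun i _ => mul_comm _ _)
  have hsmT : ∀ b : Fin 4 → K,
      (∃ i : Fin 4, MvPolynomial.eval b (MvPolynomial.pderiv i F) ≠ 0) → ∃ n, S.T b b n ≠ 0 := by
    rintro b ⟨i, hi⟩
    refine ⟨Pi.single i 1, fun h0 => hi ?_⟩
    have := NodCub.Tri_deriv hF b (Pi.single i 1)
    have h0' : NodCub.Tri F b b (Pi.single i 1) = 0 := h0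
    rw [h0', mul_zero] at this
    simpa [Pi.single_apply] using this
  have ha0 : a ≠ 0 := by
    rintro rfl
    obtain ⟨n, hn⟩ := hsmT 0 hsm
    exact hn (S.zero1 _ _)
  have htpA : ∀ b, tp b → S.T b b b = 0 ∧ TP S b := by
    intro b hb
    obtain ⟨hb0, hbF, hbsm, L₁, L₂, L₃, hL₁, hL₂, hL₃, hmem⟩ := (htp b).mp hb
    refine ⟨by rw [← e]; exact hbF, ?_⟩
    obtain ⟨G, hG⟩ := Ideal.mem_span_singleton.mp hmem
    refine ⟨linOf L₁, linOf L₂, linOf L₃, fun x hx => ?_⟩
    have := congrArg (MvPolynomial.eval x) hG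
    simp only [map_sub, map_mul] at this
    rw [hlin, hx, mul_zero, zero_mul] at this
    rw [linOf_apply hL₁, linOf_apply hL₂, linOf_apply hL₃, ← e]
    linear_combination this
  have hTPa : ¬ TP S a := by
    intro hT
    apply ha
    rw [htp]
    obtain ⟨φ₁, φ₂, φ₃, hφ⟩ := hT
    refine ⟨ha0, haF, hsm, polyOf φ₁, polyOf φ₂, polyOf φ₃, polyOf_homog _, polyOf_homog _,
      polyOf_homog _, ?_⟩
    rw [Ideal.mem_span_singleton]
    apply lin_dvd_of_vanish (fun i => MvPolynomial.eval a (MvPolynomial.pderiv i F))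
    · intro h0
      obtain ⟨i, hi⟩ := hsm
      exact hi (congrFun h0 i)
    · intro x hx
      have hT0 : S.T a a x = 0 := by
        have := NodCub.Tri_deriv hF a x
        have h' : (3 : K) * S.T a a x = 0 := by
          show (3 : K) * NodCub.Tri F a a x = 0
          rw [← this, ← hx]
          exact Finset.sum_congr rfl (fun i _ => mul_comm _ _)
        exact (mul_eq_zero.mp h').resolve_left h3
      rw [map_sub, map_mul, map_mul, polyOf_eval, polyOf_eval, polyOf_eval, e, hφ x hT0, sub_self]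
  have hH' : ∀ x, x ∈ H → S.T a a x = 0 := by
    intro x hx
    have := (hH x).mp hx
    rw [hlin] at this
    exact (mul_eq_zero.mp this).resolve_left h3
  have hP : PolyT S := fun u v w hu hv hw => IsPolyFun.tri F hu hv hw
  exact finite_of_notTP S hP tp htpA a ha0 (by rw [← e]; exact haF) (hsmT a hsm) hTPa ha H hH'

end TPt
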