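import Mathlib
import Groth.Prelude
import Groth.Agent.Lib.Helper4.LenQuot
import Groth.Agent.Lib.Helper4.SemilocalCF
import Groth.Agent.Lib.Helper4.OneDimRel

set_option autoImplicit false
set_option linter.style.haveILetI false
set_option linter.unusedSectionVars false
set_option linter.unusedVariables false
set_option linter.unusedSimpArgs false
set_option maxHeartbeats 1600000
set_option maxSynthPendingDepth 3

universe u

/-!
# Existence of local factorizations `a_i = unit * π^e` after a finite extension (dimension one)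

Induction on the `A`-length of `B/(∏ a_i)B`, using the semilocal common factor lemma.
-/

namespace Groth.Agent.Lib.Helper4.TameExist

open IsLocalRing

theorem fact_mul {L : Type*} [CommRing L] {π a b : L}
    (ha : ∃ (v : Lˣ) (e : ℕ), a = (v : L) * π ^ e) (hb : ∃ (v : Lˣ) (e : ℕ), b = (v : L) * π ^ e) :
    ∃ (v : Lˣ) (e : ℕ), a * b = (v : L) * π ^ e := by
  obtain ⟨v, e, rfl⟩ := ha
  obtain ⟨v', e', rfl⟩ := hb
  exact ⟨v * v', e + e', by rw [Units.val_mul, pow_add]; ring⟩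

variable {A : Type u} [CommRing A] [IsNoetherianRing A] [IsLocalRing A]
variable {K : Type u} [CommRing K] [Algebra A K] [IsFractionRing A K]

/-- All elements of `F` lying in `B'` are, at every maximal ideal, a unit times a power of one
nonzerodivisor. -/
def Good (B' : Subalgebra A K) (F : Multiset K) : Prop :=
  ∀ q : MaximalSpectrum B', ∃ π : Localization.AtPrime q.asIdeal,
    π ∈ nonZeroDivisors (Localization.AtPrime q.asIdeal) ∧
    ∀ z : B', (z : K) ∈ F → ∃ (v : (Localization.AtPrime q.asIdeal)ˣ) (e : ℕ),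
      algebraMap B' (Localization.AtPrime q.asIdeal) z =
        (v : Localization.AtPrime q.asIdeal) * π ^ e

theorem mulLeft_injective (B : Subalgebra A K) {P : K} (hP : P ∈ B) (hPu : IsUnit P) :
    Function.Injective (LinearMap.mulLeft A (⟨P, hP⟩ : B)) := by
  intro w w' h
  apply Subtype.ext
  have h1 : P * (w : K) = P * (w' : K) := congrArg Subtype.val h
  exact hPu.mul_right_injective h1

theorem finite_of_fg (B : Subalgebra A K) (hB : (Subalgebra.toSubmodule B).FG) :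
    Module.Finite A B := by
  haveI : Module.Finite A (Subalgebra.toSubmodule B) := Module.Finite.iff_fg.mpr hB
  exact Module.Finite.equiv (Subalgebra.toSubmoduleEquiv B)

theorem lam_ne_top (hdim : ringKrullDim A = 1) (B : Subalgebra A K)
    (hB : (Subalgebra.toSubmodule B).FG) {P : K} (hP : P ∈ B) (hPu : IsUnit P) :
    Module.length A (B ⧸ LinearMap.range (LinearMap.mulLeft A (⟨P, hP⟩ : B))) ≠ ⊤ := by
  haveI := OneDimRel.krullDimLE_one hdim
  haveI := finite_of_fg B hB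
  obtain ⟨s, hs, r, hsr⟩ := SemilocalCF.den_unit (A := A) hPu
  refine LenQuot.length_quot_ne_top_of_smul_mem
    (isFiniteLength_quotient_span_singleton A hs) _ (fun w => ⟨algebraMap A B r * w, ?_⟩)
  apply Subtype.ext
  show P * (algebraMap A K r * (w : K)) = s • (w : K)
  rw [Algebra.smul_def, hsr]; ring

/-- Invariance of the length under finite extension. -/
theorem lam_eq (hdim : ringKrullDim A = 1) {B B'' : Subalgebra A K} (h : B ≤ B'')
    (hB'' : (Subalgebra.toSubmodule B'').FG) {P : K} (hP : P ∈ B) (hPu : IsUnit P) :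
    Module.length A (B'' ⧸ LinearMap.range (LinearMap.mulLeft A (⟨P, h hP⟩ : B''))) =
      Module.length A (B ⧸ LinearMap.range (LinearMap.mulLeft A (⟨P, hP⟩ : B))) := by
  haveI := OneDimRel.krullDimLE_one hdim
  haveI := finite_of_fg B'' hB''
  let ι : B →ₗ[A] B'' := (Subalgebra.inclusion h).toLinearMap
  have hι : Function.Injective ι := Subalgebra.inclusion_injective h
  let μ : B →ₗ[A] B := LinearMap.mulLeft A (⟨P, hP⟩ : B)
  let μ'' : B'' →ₗ[A] B'' := LinearMap.mulLeft A (⟨P, h hP⟩ : B'')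
  have hμ'' : Function.Injective μ'' := mulLeft_injective B'' (h hP) hPu
  have E1 := LenQuot.length_quot_map μ'' hμ'' (LinearMap.range ι)
  have E2 := LenQuot.length_quot_map ι hι (LinearMap.range μ)
  have hcomm : μ'' ∘ₗ ι = ι ∘ₗ μ := by
    ext w
    rfl
  have heq : (LinearMap.range ι).map μ'' = (LinearMap.range μ).map ι := by
    rw [← LinearMap.range_comp, ← LinearMap.range_comp, hcomm]
  rw [heq, E2] at E1
  -- finiteness of B''/B
  obtain ⟨s, hs, hsz⟩ := SemilocalCF.den_fin B'' hB''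
  have hfin : Module.length A (B'' ⧸ LinearMap.range ι) ≠ ⊤ := by
    refine LenQuot.length_quot_ne_top_of_smul_mem
      (isFiniteLength_quotient_span_singleton A hs) _ (fun w => ?_)
    obtain ⟨r, hr⟩ := hsz (w : K) w.2
    refine ⟨algebraMap A B r, ?_⟩
    apply Subtype.ext
    show algebraMap A K r = s • (w : K)
    rw [hr, Algebra.smul_def]
  have E3 : Module.length A (B'' ⧸ LinearMap.range ι) +
      Module.length A (B ⧸ LinearMap.range μ) =
      Module.length A (B'' ⧸ LinearMap.range ι) +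
      Module.length A (B'' ⧸ LinearMap.range μ'') := by
    rw [add_comm, E1]
  exact (ENat.add_right_injective_of_ne_top hfin E3).symm

/-- Additivity of the length. -/
theorem lam_mul (B : Subalgebra A K) {P t P' : K} (hPeq : P = t * P') (hP : P ∈ B) (ht : t ∈ B)
    (hP' : P' ∈ B) (htu : IsUnit t) :
    Module.length A (B ⧸ LinearMap.range (LinearMap.mulLeft A (⟨P, hP⟩ : B))) =
      Module.length A (B ⧸ LinearMap.range (LinearMap.mulLeft A (⟨P', hP'⟩ : B))) +
      Module.length A (B ⧸ LinearMap.range (LinearMap.mulLeft A (⟨t, ht⟩ : B))) := by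
  subst hPeq
  have hcomp : LinearMap.mulLeft A (⟨t * P', hP⟩ : B) =
      (LinearMap.mulLeft A (⟨t, ht⟩ : B)) ∘ₗ (LinearMap.mulLeft A (⟨P', hP'⟩ : B)) := by
    ext w
    show t * P' * (w : K) = t * (P' * (w : K))
    ring
  rw [hcomp, LinearMap.range_comp]
  exact LenQuot.length_quot_map _ (mulLeft_injective B ht htu) _

/-- `t = p x + q y` with `x y` in a maximal ideal of `B` is not a unit of a finite extension. -/
theorem not_isUnit_of_mem {B B'' : Subalgebra A K} (h : B ≤ B'')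
    (hB'' : (Subalgebra.toSubmodule B'').FG) (Q : Ideal B) (hQ : Q.IsMaximal)
    {x y t p q : K} (hx : x ∈ B) (hy : y ∈ B) (hxQ : (⟨x, hx⟩ : B) ∈ Q) (hyQ : (⟨y, hy⟩ : B) ∈ Q)
    (ht : t ∈ B'') (hp : p ∈ B'') (hq : q ∈ B'') (hteq : t = p * x + q * y) :
    ¬ IsUnit (⟨t, ht⟩ : B'') := by
  haveI := finite_of_fg B'' hB''
  letI alg : Algebra B B'' := (Subalgebra.inclusion h).toRingHom.toAlgebra
  haveI : IsScalarTower A B B'' := IsScalarTower.of_algebraMap_eq (fun a => rfl)
  haveI : Algebra.IsIntegral A B'' := inferInstance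
  haveI : Algebra.IsIntegral B B'' := Algebra.IsIntegral.tower_top (R := A)
  have hker : RingHom.ker (algebraMap B B'') ≤ Q := by
    have hinj : Function.Injective (algebraMap B B'') := Subalgebra.inclusion_injective h
    rw [(RingHom.injective_iff_ker_eq_bot _).mp hinj]
    exact bot_le
  obtain ⟨Q', hQ', hQ'c⟩ := Ideal.exists_ideal_over_maximal_of_isIntegral (S := B'') Q hker
  have hxQ' : (⟨x, h hx⟩ : B'') ∈ Q' := by
    have : (⟨x, hx⟩ : B) ∈ Q'.comap (algebraMap B B'') := hQ'c ▸ hxQ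
    exact this
  have hyQ' : (⟨y, h hy⟩ : B'') ∈ Q' := by
    have : (⟨y, hy⟩ : B) ∈ Q'.comap (algebraMap B B'') := hQ'c ▸ hyQ
    exact this
  have htQ' : (⟨t, ht⟩ : B'') ∈ Q' := by
    have heq : (⟨t, ht⟩ : B'') = ⟨p, hp⟩ * ⟨x, h hx⟩ + ⟨q, hq⟩ * ⟨y, h hy⟩ := by
      apply Subtype.ext; exact hteq
    rw [heq]
    exact Q'.add_mem (Q'.mul_mem_left _ hxQ') (Q'.mul_mem_left _ hyQ')
  intro hu
  exact hQ'.ne_top (Ideal.eq_top_of_isUnit_mem _ htQ' hu)

theorem one_le_lam {B : Subalgebra A K} {t : K} (ht : t ∈ B) (hnu : ¬ IsUnit (⟨t, ht⟩ : B)) :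
    1 ≤ Module.length A (B ⧸ LinearMap.range (LinearMap.mulLeft A (⟨t, ht⟩ : B))) := by
  have hne : LinearMap.range (LinearMap.mulLeft A (⟨t, ht⟩ : B)) ≠ ⊤ := by
    intro htop
    have h1 : (1 : B) ∈ LinearMap.range (LinearMap.mulLeft A (⟨t, ht⟩ : B)) := htop ▸ Submodule.mem_top
    obtain ⟨w, hw⟩ := h1
    exact hnu (IsUnit.of_mul_eq_one w hw)
  haveI : Nontrivial (B ⧸ LinearMap.range (LinearMap.mulLeft A (⟨t, ht⟩ : B))) :=
    Submodule.Quotient.nontrivial_iff.mpr hne
  exact Order.one_le_iff_pos.mpr Module.length_pos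

/-- The sparse case: at most one element of `F` in each maximal ideal. -/
theorem good_of_sparse (B : Subalgebra A K) (F : Multiset K) (hF : ∀ z ∈ F, z ∈ B ∧ IsUnit z)
    (hsp : ∀ Q : MaximalSpectrum B, ¬ ∃ (x y : K) (F₀ : Multiset K), F = x ::ₘ y ::ₘ F₀ ∧
      (∃ hx : x ∈ B, (⟨x, hx⟩ : B) ∈ Q.asIdeal) ∧ (∃ hy : y ∈ B, (⟨y, hy⟩ : B) ∈ Q.asIdeal)) :
    Good B F := by
  classical
  intro Q
  let pr : K → Prop := fun z => ∃ hz : z ∈ B, (⟨z, hz⟩ : B) ∈ Q.asIdeal
  set Fq := F.filter pr with hFq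
  have hunit : ∀ z : B, z ∉ Q.asIdeal →
      ∃ v : (Localization.AtPrime Q.asIdeal)ˣ,
        algebraMap B (Localization.AtPrime Q.asIdeal) z = (v : Localization.AtPrime Q.asIdeal) := by
    intro z hz
    have hu : IsUnit (algebraMap B (Localization.AtPrime Q.asIdeal) z) :=
      IsLocalization.map_units (Localization.AtPrime Q.asIdeal)
        (⟨z, hz⟩ : Q.asIdeal.primeCompl)
    exact ⟨hu.unit, rfl⟩
  have hcard : Fq.card ≤ 1 := by
    by_contra hc
    push_neg at hc
    obtain ⟨x, hxF⟩ := Multiset.card_pos_iff_exists_mem.mp (by omega : 0 < Fq.card)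
    obtain ⟨s₁, hs₁⟩ := Multiset.exists_cons_of_mem hxF
    have hc1 : 0 < s₁.card := by
      rw [hs₁, Multiset.card_cons] at hc; omega
    obtain ⟨y, hyF⟩ := Multiset.card_pos_iff_exists_mem.mp hc1
    obtain ⟨s₂, hs₂⟩ := Multiset.exists_cons_of_mem hyF
    have hx' : pr x := (Multiset.mem_filter.mp hxF).2
    have hy' : pr y := by
      have : y ∈ Fq := by rw [hs₁]; exact Multiset.mem_cons_of_mem hyF
      exact (Multiset.mem_filter.mp this).2
    apply hsp Q
    refine ⟨x, y, s₂ + F.filter (fun a => ¬ pr a), ?_, hx', hy'⟩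
    rw [← Multiset.cons_add, ← Multiset.cons_add, ← hs₂, ← hs₁, hFq, Multiset.filter_add_not]
  rcases Nat.le_one_iff_eq_zero_or_eq_one.mp hcard with h0 | h1
  · have hFq0 : Fq = 0 := Multiset.card_eq_zero.mp h0
    refine ⟨1, one_mem _, ?_⟩
    intro z hzF
    have hzQ : z ∉ Q.asIdeal := by
      intro hzQ
      have : (z : K) ∈ Fq := Multiset.mem_filter.mpr ⟨hzF, z.2, hzQ⟩
      rw [hFq0] at this
      exact (Multiset.notMem_zero _) this
    obtain ⟨v, hv⟩ := hunit z hzQ
    exact ⟨v, 0, by rw [hv, pow_zero, mul_one]⟩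
  · obtain ⟨w, hw⟩ := Multiset.card_eq_one.mp h1
    have hwFq : w ∈ Fq := by rw [hw]; exact Multiset.mem_singleton_self w
    obtain ⟨hwF, hwB, hwQ⟩ := Multiset.mem_filter.mp hwFq
    have hwu : IsUnit w := (hF w hwF).2
    have hwnzd : (⟨w, hwB⟩ : B) ∈ nonZeroDivisors B := by
      rw [mem_nonZeroDivisors_iff_right]
      intro z hz
      apply Subtype.ext
      have h1 : (z : K) * w = 0 := congrArg Subtype.val hz
      exact (hwu.mul_left_eq_zero).mp h1
    refine ⟨algebraMap B (Localization.AtPrime Q.asIdeal) ⟨w, hwB⟩,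
      IsLocalization.map_nonZeroDivisors_le Q.asIdeal.primeCompl _
        (Submonoid.mem_map_of_mem _ hwnzd), ?_⟩
    intro z hzF
    by_cases hzQ : z ∈ Q.asIdeal
    · have : (z : K) ∈ Fq := Multiset.mem_filter.mpr ⟨hzF, z.2, hzQ⟩
      rw [hw, Multiset.mem_singleton] at this
      have hz : z = ⟨w, hwB⟩ := Subtype.ext this
      exact ⟨1, 1, by rw [hz, Units.val_one, one_mul, pow_one]⟩
    · obtain ⟨v, hv⟩ := hunit z hzQ
      exact ⟨v, 0, by rw [hv, pow_zero, mul_one]⟩

/-- One step of the induction. -/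
theorem step (hdim : ringKrullDim A = 1) (B : Subalgebra A K)
    (hB : (Subalgebra.toSubmodule B).FG) (F : Multiset K) (hF : ∀ z ∈ F, z ∈ B ∧ IsUnit z)
    (hP : F.prod ∈ B)
    (hnsp : ¬ ∀ Q : MaximalSpectrum B, ¬ ∃ (x y : K) (F₀ : Multiset K), F = x ::ₘ y ::ₘ F₀ ∧
      (∃ hx : x ∈ B, (⟨x, hx⟩ : B) ∈ Q.asIdeal) ∧ (∃ hy : y ∈ B, (⟨y, hy⟩ : B) ∈ Q.asIdeal)) :
    ∃ (B'' : Subalgebra A K) (_ : B ≤ B'') (_ : (Subalgebra.toSubmodule B'').FG)
      (F' : Multiset K) (_ : ∀ z ∈ F', z ∈ B'' ∧ IsUnit z) (hP' : F'.prod ∈ B''),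
      Module.length A (B'' ⧸ LinearMap.range (LinearMap.mulLeft A (⟨F'.prod, hP'⟩ : B''))) + 1 ≤
        Module.length A (B ⧸ LinearMap.range (LinearMap.mulLeft A (⟨F.prod, hP⟩ : B))) ∧
      ∀ B' : Subalgebra A K, B'' ≤ B' → Good B' F' → Good B' F := by
  push_neg at hnsp
  obtain ⟨Q, x, y, F₀, hFeq, ⟨hxB, hxQ⟩, ⟨hyB, hyQ⟩⟩ := hnsp
  have hxF : x ∈ F := by rw [hFeq]; exact Multiset.mem_cons_self x _
  have hyF : y ∈ F := by
    rw [hFeq]; exact Multiset.mem_cons_of_mem (Multiset.mem_cons_self y _)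
  have hxu : IsUnit x := (hF x hxF).2
  have hyu : IsUnit y := (hF y hyF).2
  obtain ⟨B'', hBB'', hB'', t, x', y', p, q, ht, hx', hy', hp, hq, hxt, hyt, htpq⟩ :=
    SemilocalCF.exists_common_factor hdim B hB x y hxB hyB hxu
  have htu : IsUnit t := by
    rw [hxt] at hxu; exact (IsUnit.mul_iff.mp hxu).1
  have hx'u : IsUnit x' := by
    rw [hxt] at hxu; exact (IsUnit.mul_iff.mp hxu).2
  have hy'u : IsUnit y' := by
    rw [hyt] at hyu; exact (IsUnit.mul_iff.mp hyu).2
  have hF₀ : ∀ z ∈ F₀, z ∈ F := fun z hz => by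
    rw [hFeq]; exact Multiset.mem_cons_of_mem (Multiset.mem_cons_of_mem hz)
  let F' : Multiset K := t ::ₘ x' ::ₘ y' ::ₘ F₀
  have hF' : ∀ z ∈ F', z ∈ B'' ∧ IsUnit z := by
    intro z hz
    rcases Multiset.mem_cons.mp hz with rfl | hz
    · exact ⟨ht, htu⟩
    rcases Multiset.mem_cons.mp hz with rfl | hz
    · exact ⟨hx', hx'u⟩
    rcases Multiset.mem_cons.mp hz with rfl | hz
    · exact ⟨hy', hy'u⟩
    · exact ⟨hBB'' (hF z (hF₀ z hz)).1, (hF z (hF₀ z hz)).2⟩
  have hP' : F'.prod ∈ B'' := Subalgebra.multiset_prod_mem _ (fun z hz => (hF' z hz).1)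
  have hprod : F.prod = t * F'.prod := by
    rw [hFeq]
    simp only [F', Multiset.prod_cons]
    rw [hxt, hyt]; ring
  refine ⟨B'', hBB'', hB'', F', hF', hP', ?_, ?_⟩
  · have hPu : IsUnit F.prod := by
      rw [hprod]
      refine htu.mul ?_
      simp only [F', Multiset.prod_cons]
      refine htu.mul (hx'u.mul (hy'u.mul ?_))
      -- product of units
      refine Multiset.prod_induction (fun z => IsUnit z) F₀ (fun a b ha hb => ha.mul hb)
        isUnit_one (fun z hz => (hF z (hF₀ z hz)).2)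
    have e1 := lam_eq hdim hBB'' hB'' hP hPu
    have e2 := lam_mul B'' hprod (hBB'' hP) ht hP' htu
    have hnu := not_isUnit_of_mem hBB'' hB'' Q.asIdeal Q.isMaximal hxB hyB hxQ hyQ ht hp hq htpq
    have e3 := one_le_lam ht hnu
    rw [← e1, e2]
    gcongr
  · intro B' hB''B' hgood q'
    obtain ⟨π, hπ, hfac⟩ := hgood q'
    refine ⟨π, hπ, ?_⟩
    intro z hzF
    have ht' : (t : K) ∈ F' := Multiset.mem_cons_self t _
    have hx'' : (x' : K) ∈ F' := Multiset.mem_cons_of_mem (Multiset.mem_cons_self x' _)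
    have hy'' : (y' : K) ∈ F' :=
      Multiset.mem_cons_of_mem (Multiset.mem_cons_of_mem (Multiset.mem_cons_self y' _))
    let Tt : B' := ⟨t, hB''B' ht⟩
    let Xx : B' := ⟨x', hB''B' hx'⟩
    let Yy : B' := ⟨y', hB''B' hy'⟩
    rw [hFeq] at hzF
    rcases Multiset.mem_cons.mp hzF with hzx | hzF
    · have hz : z = Tt * Xx := Subtype.ext (by rw [hzx, hxt]; rfl)
      rw [hz, map_mul]
      exact fact_mul (hfac Tt ht') (hfac Xx hx'')
    rcases Multiset.mem_cons.mp hzF with hzy | hzF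
    · have hz : z = Tt * Yy := Subtype.ext (by rw [hzy, hyt]; rfl)
      rw [hz, map_mul]
      exact fact_mul (hfac Tt ht') (hfac Yy hy'')
    · exact hfac z (Multiset.mem_cons_of_mem (Multiset.mem_cons_of_mem
        (Multiset.mem_cons_of_mem hzF)))

theorem exists_good (hdim : ringKrullDim A = 1) : ∀ (m : ℕ) (B : Subalgebra A K)
    (hB : (Subalgebra.toSubmodule B).FG) (F : Multiset K) (hF : ∀ z ∈ F, z ∈ B ∧ IsUnit z)
    (hP : F.prod ∈ B),
    Module.length A (B ⧸ LinearMap.range (LinearMap.mulLeft A (⟨F.prod, hP⟩ : B))) ≤ m →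
    ∃ B' : Subalgebra A K, B ≤ B' ∧ (Subalgebra.toSubmodule B').FG ∧ Good B' F := by
  intro m
  induction m with
  | zero =>
    intro B hB F hF hP hm
    by_cases hsp : ∀ Q : MaximalSpectrum B, ¬ ∃ (x y : K) (F₀ : Multiset K), F = x ::ₘ y ::ₘ F₀ ∧
      (∃ hx : x ∈ B, (⟨x, hx⟩ : B) ∈ Q.asIdeal) ∧ (∃ hy : y ∈ B, (⟨y, hy⟩ : B) ∈ Q.asIdeal)
    · exact ⟨B, le_rfl, hB, good_of_sparse B F hF hsp⟩
    · obtain ⟨B'', _, _, F', _, hP', hlen, _⟩ := step hdim B hB F hF hP hsp
      exfalso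
      have h1 := le_trans hlen hm
      have h2 : (1 : ℕ∞) ≤ 0 := le_trans le_add_self (by exact_mod_cast h1)
      exact absurd h2 (by norm_num)
  | succ m ih =>
    intro B hB F hF hP hm
    by_cases hsp : ∀ Q : MaximalSpectrum B, ¬ ∃ (x y : K) (F₀ : Multiset K), F = x ::ₘ y ::ₘ F₀ ∧
      (∃ hx : x ∈ B, (⟨x, hx⟩ : B) ∈ Q.asIdeal) ∧ (∃ hy : y ∈ B, (⟨y, hy⟩ : B) ∈ Q.asIdeal)
    · exact ⟨B, le_rfl, hB, good_of_sparse B F hF hsp⟩
    · obtain ⟨B'', hBB'', hB'', F', hF', hP', hlen, htrans⟩ := step hdim B hB F hF hP hsp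
      have h1 : Module.length A (B'' ⧸ LinearMap.range
          (LinearMap.mulLeft A (⟨F'.prod, hP'⟩ : B''))) + 1 ≤ ((m : ℕ∞) + 1) := by
        refine le_trans hlen (le_trans hm ?_)
        push_cast; exact le_rfl
      have h2 : Module.length A (B'' ⧸ LinearMap.range
          (LinearMap.mulLeft A (⟨F'.prod, hP'⟩ : B''))) ≤ m :=
        (ENat.add_le_add_iff_right (by simp : (1 : ℕ∞) ≠ ⊤)).mp h1
      obtain ⟨B', hB''B', hB', hgood⟩ := ih B'' hB'' F' hF' hP' h2
      exact ⟨B', le_trans hBB'' hB''B', hB', htrans B' hB''B' hgood⟩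

/-- Existence of local factorizations. -/
theorem main (A : Type u) [CommRing A] [IsNoetherianRing A] [IsLocalRing A]
    (hA : ringKrullDim A = 1) (r : ℕ) (a : Fin r → A) (ha : ∀ i, a i ∈ nonZeroDivisors A) :
    ∃ (B : Type u) (_ : CommRing B) (_ : Algebra A B),
      CycAlg.IsFinExt A B (IsLocalRing.maximalIdeal A) ∧
      ∀ q : MaximalSpectrum B, ∃ π : Localization.AtPrime q.asIdeal,
        π ∈ nonZeroDivisors (Localization.AtPrime q.asIdeal) ∧
        ∀ i, ∃ (v : (Localization.AtPrime q.asIdeal)ˣ) (e : ℕ),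
          algebraMap A (Localization.AtPrime q.asIdeal) (a i) =
            (v : Localization.AtPrime q.asIdeal) * π ^ e := by
  classical
  let K := FractionRing A
  set φ := algebraMap A K with hφ
  let B₀ : Subalgebra A K := ⊥
  have hB₀ : (Subalgebra.toSubmodule B₀).FG := by
    show (Subalgebra.toSubmodule (⊥ : Subalgebra A K)).FG
    rw [Algebra.toSubmodule_bot, Submodule.one_eq_span]
    exact Submodule.fg_span_singleton 1
  let F : Multiset K := (Finset.univ : Finset (Fin r)).val.map (fun i => φ (a i))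
  have hF : ∀ z ∈ F, z ∈ B₀ ∧ IsUnit z := by
    intro z hz
    obtain ⟨i, _, rfl⟩ := Multiset.mem_map.mp hz
    exact ⟨Subalgebra.algebraMap_mem _ _,
      IsLocalization.map_units K (⟨a i, ha i⟩ : nonZeroDivisors A)⟩
  have hP : F.prod ∈ B₀ := Subalgebra.multiset_prod_mem _ (fun z hz => (hF z hz).1)
  have hPu : IsUnit F.prod :=
    Multiset.prod_induction (fun z => IsUnit z) F (fun a b ha hb => ha.mul hb)
      isUnit_one (fun z hz => (hF z hz).2)
  have hfin := lam_ne_top hA B₀ hB₀ hP hPu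
  obtain ⟨B', _, hB', hgood⟩ := exists_good hA _ B₀ hB₀ F hF hP
    (le_of_eq (ENat.coe_toNat hfin).symm)
  haveI := finite_of_fg B' hB'
  obtain ⟨s, hs, hsz⟩ := SemilocalCF.den_fin B' hB'
  obtain ⟨M, hM⟩ := OneDimRel.exists_pow_le_span hA hs
  refine ⟨B', inferInstance, inferInstance, ⟨?_, inferInstance, M, ?_⟩, ?_⟩
  · intro x y hxy
    exact IsFractionRing.injective A K (congrArg Subtype.val hxy)
  · intro r' hr' z
    obtain ⟨c', hc'⟩ := Ideal.mem_span_singleton'.mp (hM hr')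
    obtain ⟨r1, hr1⟩ := hsz (z : K) z.2
    refine ⟨c' * r1, Subtype.ext ?_⟩
    show φ (c' * r1) = r' • (z : K)
    rw [Algebra.smul_def, ← hc', map_mul, map_mul, hr1]
    ring
  · intro q
    obtain ⟨π, hπ, hfac⟩ := hgood q
    refine ⟨π, hπ, fun i => ?_⟩
    have hmem : ((algebraMap A B' (a i) : B') : K) ∈ F :=
      Multiset.mem_map.mpr ⟨i, Finset.mem_univ_val i, rfl⟩
    obtain ⟨v, e, hv⟩ := hfac (algebraMap A B' (a i)) hmem
    refine ⟨v, e, ?_⟩
    rw [← hv]
    exact IsScalarTower.algebraMap_apply A B' (Localization.AtPrime q.asIdeal) (a i)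

end Groth.Agent.Lib.Helper4.TameExist
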