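import Mathlib
import Groth.Agent.Lib.Helper7.TorNat7
import Groth.Agent.Lib.Helper7.TorLin
import Groth.Agent.Lib.Helper7.TorBasic

/-!
# Dévissage: Tor against the `H_0` of a short complex of flat modules with torsion homology

`Good 𝔠 k W` says that `W` is the module of cycles `Z_j` of a complex of flat modules with `k` further
terms to the left, all of whose homology modules (from `Z_j` on) are killed by `𝔠`.
* `good_kills`: then `𝔠 ^ (k+1)` kills `Tor_i(M, W)` for all `i ≥ k`.
* `kills_of_presentation`: if `0 → W → F → Q → 0` with `F` flat and `Good 𝔠 k W`, then `𝔠 ^ (k+1)` kills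
  `Tor_i(M, Q)` for `i ≥ k + 1`.
-/

set_option autoImplicit false
set_option linter.style.haveILetI false
set_option linter.unusedSectionVars false
set_option linter.unusedVariables false
set_option maxHeartbeats 800000

universe u

open CategoryTheory CategoryTheory.Limits

namespace Groth.Agent.Lib.Helper4.TorChain

open Groth.Agent.Lib.Helper7

variable {A : Type u} [CommRing A]

/-- `Tor_i(M, W)` as an object. -/
noncomputable abbrev T (i : ℕ) (M W : ModuleCat.{u} A) : ModuleCat.{u} A :=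
  ((Tor (ModuleCat.{u} A) i).obj M).obj W

/-- see the file header. -/
def Good (𝔠 : Ideal A) : ℕ → ModuleCat.{u} A → Prop
  | 0, W => ∀ a ∈ 𝔠, ∀ w : W, a • w = 0
  | (k + 1), W => ∃ (F Z' : ModuleCat.{u} A) (ι : Z' ⟶ F) (π : F ⟶ W),
      Module.Flat A F ∧ Function.Injective ι.hom ∧ Function.Exact ι.hom π.hom ∧
      (∀ a ∈ 𝔠, ∀ w : W, a • w ∈ LinearMap.range π.hom) ∧ Good 𝔠 k Z'

lemma good_zero_iff (𝔠 : Ideal A) (W : ModuleCat.{u} A) :
    Good 𝔠 0 W ↔ ∀ a ∈ 𝔠, ∀ w : W, a • w = 0 := Iff.rfl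

lemma good_succ_iff (𝔠 : Ideal A) (k : ℕ) (W : ModuleCat.{u} A) :
    Good 𝔠 (k + 1) W ↔ ∃ (F Z' : ModuleCat.{u} A) (ι : Z' ⟶ F) (π : F ⟶ W),
      Module.Flat A F ∧ Function.Injective ι.hom ∧ Function.Exact ι.hom π.hom ∧
      (∀ a ∈ 𝔠, ∀ w : W, a • w ∈ LinearMap.range π.hom) ∧ Good 𝔠 k Z' := Iff.rfl

lemma exact₃_elem (M : ModuleCat.{u} A) (S : ShortComplex (ModuleCat.{u} A)) (hS : S.ShortExact)
    (i : ℕ) (y : T (i + 1) M S.X₃) (hy : (torδ M S hS i).hom y = 0) :
    ∃ x : T (i + 1) M S.X₂, (((Tor (ModuleCat.{u} A) (i + 1)).obj M).map S.g).hom x = y := by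
  obtain ⟨w, e⟩ := torδ_exact₃ M S hS i
  exact (ShortComplex.moduleCat_exact_iff _).mp e y hy

lemma exact₂_elem (M : ModuleCat.{u} A) (S : ShortComplex (ModuleCat.{u} A)) (hS : S.ShortExact)
    (i : ℕ) (y : T i M S.X₂) (hy : (((Tor (ModuleCat.{u} A) i).obj M).map S.g).hom y = 0) :
    ∃ x : T i M S.X₁, (((Tor (ModuleCat.{u} A) i).obj M).map S.f).hom x = y := by
  obtain ⟨w, e⟩ := tor_exact₂ M S hS i
  exact (ShortComplex.moduleCat_exact_iff _).mp e y hy

lemma exact₁_elem (M : ModuleCat.{u} A) (S : ShortComplex (ModuleCat.{u} A)) (hS : S.ShortExact)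
    (i : ℕ) (y : T i M S.X₁) (hy : (((Tor (ModuleCat.{u} A) i).obj M).map S.f).hom y = 0) :
    ∃ x : T (i + 1) M S.X₃, (torδ M S hS i).hom x = y := by
  obtain ⟨w, e⟩ := torδ_exact₁ M S hS i
  exact (ShortComplex.moduleCat_exact_iff _).mp e y hy

theorem good_kills (𝔠 : Ideal A) : ∀ (k : ℕ) (W : ModuleCat.{u} A), Good 𝔠 k W →
    ∀ (M : ModuleCat.{u} A) (i : ℕ), k ≤ i → ∀ a ∈ 𝔠 ^ (k + 1), ∀ y : T i M W, a • y = 0 := by
  intro k
  induction k with
  | zero =>
    intro W hW M i _ a ha y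
    rw [zero_add, pow_one] at ha
    exact tor_smul_eq_zero_of_smul_eq_zero i M W a ((good_zero_iff 𝔠 W).mp hW a ha) y
  | succ k ih =>
    intro W hW M i hi a ha y
    obtain ⟨F, Z', ι, π, hF, hι, hex, hc, hZ'⟩ := (good_succ_iff 𝔠 k W).mp hW
    obtain ⟨i', rfl⟩ : ∃ i', i = i' + 1 := ⟨i - 1, by omega⟩
    let B : Submodule A W := LinearMap.range π.hom
    let S1 : ShortComplex (ModuleCat.{u} A) :=
      ModuleCat.shortComplexOfCompEqZero ι.hom π.hom.rangeRestrict (by
        apply LinearMap.ext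
        intro z
        apply Subtype.ext
        exact hex.apply_apply_eq_zero z)
    have hS1 : S1.ShortExact := ModuleCat.shortComplex_shortExact S1 (by
        intro x
        constructor
        · intro hx
          have hx' : π.hom x = 0 := congrArg Subtype.val hx
          exact (hex x).mp hx'
        · rintro ⟨z, rfl⟩
          apply Subtype.ext
          exact hex.apply_apply_eq_zero z) hι π.hom.surjective_rangeRestrict
    let S2 : ShortComplex (ModuleCat.{u} A) :=
      ModuleCat.shortComplexOfCompEqZero B.subtype B.mkQ (by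
        apply LinearMap.ext
        intro z
        exact (Submodule.Quotient.mk_eq_zero B).mpr z.2)
    have hS2 : S2.ShortExact := ModuleCat.shortComplex_shortExact S2
      (LinearMap.exact_subtype_mkQ B) (Submodule.subtype_injective B) (Submodule.mkQ_surjective B)
    rw [pow_succ] at ha
    refine Submodule.smul_induction_on (p := fun a => a • y = 0) ha ?_ ?_
    · intro a2 ha2 a1 ha1
      rw [smul_eq_mul, mul_smul]
      have h1 : (((Tor (ModuleCat.{u} A) (i' + 1)).obj M).map S2.g).hom (a1 • y) = 0 := by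
        rw [map_smul]
        refine tor_smul_eq_zero_of_smul_eq_zero (i' + 1) M S2.X₃ a1 (fun x => ?_) _
        obtain ⟨w, rfl⟩ := Submodule.mkQ_surjective B x
        rw [← map_smul, Submodule.mkQ_apply, Submodule.Quotient.mk_eq_zero]
        exact hc a1 ha1 w
      obtain ⟨y', hy'⟩ := exact₂_elem M S2 hS2 (i' + 1) (a1 • y) h1
      have h2 : a2 • y' = 0 := by
        have hδ : (torδ M S1 hS1 i').hom (a2 • y') = 0 := by
          rw [map_smul]
          exact ih Z' hZ' M i' (by omega) a2 ha2 _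
        obtain ⟨x, hx⟩ := exact₃_elem M S1 hS1 i' (a2 • y') hδ
        haveI := Tor_subsingleton_of_flat_right M F hF (i' + 1) (Nat.succ_pos _)
        rw [← hx, Subsingleton.elim x 0, map_zero]
      rw [← hy', ← map_smul, h2, map_zero]
    · intro x y' hx hy'
      rw [add_smul, hx, hy', add_zero]

theorem kills_of_presentation (𝔠 : Ideal A) (k : ℕ) (F W Q : ModuleCat.{u} A) (ι : W ⟶ F)
    (π : F ⟶ Q) (hF : Module.Flat A F) (hι : Function.Injective ι.hom)
    (hex : Function.Exact ι.hom π.hom) (hπ : Function.Surjective π.hom) (hW : Good 𝔠 k W)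
    (M : ModuleCat.{u} A) (i : ℕ) (hi : k + 1 ≤ i) (a : A) (ha : a ∈ 𝔠 ^ (k + 1))
    (y : T i M Q) : a • y = 0 := by
  obtain ⟨i', rfl⟩ : ∃ i', i = i' + 1 := ⟨i - 1, by omega⟩
  let S : ShortComplex (ModuleCat.{u} A) := ShortComplex.mk ι π (by
    apply ModuleCat.hom_ext
    apply LinearMap.ext
    intro z
    exact hex.apply_apply_eq_zero z)
  have hS : S.ShortExact := ModuleCat.shortComplex_shortExact S hex hι hπ
  have hδ : (torδ M S hS i').hom (a • y) = 0 := by
    rw [map_smul]
    exact good_kills 𝔠 k W hW M i' (by omega) a ha _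
  obtain ⟨x, hx⟩ := exact₃_elem M S hS i' (a • y) hδ
  haveI := Tor_subsingleton_of_flat_right M F hF (i' + 1) (Nat.succ_pos _)
  rw [← hx, Subsingleton.elim x 0, map_zero]

end Groth.Agent.Lib.Helper4.TorChain
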