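import Groth.Agent.Lib.Helper4.PolyKos2
import Groth.Agent.Lib.Helper7.TorARU

/-!
# Uniform vanishing of `Tor_{t+1}(M, R/I^n) → Tor_{t+1}(M, R/I^{n-c})` (`I` generated by `≤ t` elements)

`main t' a t ht : ∃ N c, ∀ X n, N ≤ n → TorFacZero (t + 1) X (I^n ≤ I^(n-c))`, by descending induction on the
number of `a_j ^ c₁` killing `X` (`c₁` the constant of `PolyKos.main`), with base case helper7's
`exists_uniform_torFacZero_killed`.
-/

set_option autoImplicit false
set_option linter.style.haveILetI false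
set_option linter.unusedSectionVars false
set_option linter.unusedVariables false
set_option maxHeartbeats 1600000

universe u

open CategoryTheory CategoryTheory.Limits

namespace Groth.Agent.Lib.Helper4.TorUnif

open Groth.Agent.Lib.Helper7 Groth.Agent.Lib.Helper4.TorChain Groth.Agent.Lib.Helper4.PolyKos

variable {R : Type u} [CommRing R]

/-- `R/J` as an object. -/
noncomputable abbrev Q (J : Ideal R) : ModuleCat.{u} R := ModuleCat.of R (R ⧸ J)

/-- the transition map `Tor_j(R/J, Y) → Tor_j(R/J', Y)`. -/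
noncomputable abbrev tau (j : ℕ) {J J' : Ideal R} (h : J ≤ J') (Y : ModuleCat.{u} R) :
    T j (Q J) Y ⟶ T j (Q J') Y :=
  ((Tor (ModuleCat.{u} R) j).map (facM h)).app Y

lemma nat_tau {M M' : ModuleCat.{u} R} (f : M ⟶ M') (j : ℕ) {Y Y' : ModuleCat.{u} R}
    (g : Y ⟶ Y') (ξ : T j M Y) :
    (((Tor (ModuleCat.{u} R) j).map f).app Y').hom
        ((((Tor (ModuleCat.{u} R) j).obj M).map g).hom ξ) =
      (((Tor (ModuleCat.{u} R) j).obj M').map g).hom
        ((((Tor (ModuleCat.{u} R) j).map f).app Y).hom ξ) := by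
  have h := congrArg (fun F => F.hom ξ) (((Tor (ModuleCat.{u} R) j).map f).naturality g)
  exact h

lemma nat_delta {M M' : ModuleCat.{u} R} (f : M ⟶ M') (S : ShortComplex (ModuleCat.{u} R))
    (hS : S.ShortExact) (i : ℕ) (η : T (i + 1) M S.X₃) :
    (((Tor (ModuleCat.{u} R) i).map f).app S.X₁).hom ((torδ M S hS i).hom η) =
      (torδ M' S hS i).hom ((((Tor (ModuleCat.{u} R) (i + 1)).map f).app S.X₃).hom η) := by
  have h := congrArg (fun F => F.hom η) (torδ_naturality_left f S hS i)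
  exact h

theorem chase (X : Type u) [AddCommGroup X] [Module R X] (b : R) (j : ℕ) {J₀ J₁ J₂ : Ideal R}
    (h₀₁ : J₀ ≤ J₁) (h₁₂ : J₁ ≤ J₂)
    (hb : ∀ ξ : T j (Q J₀) (ModuleCat.of R X), b • ξ = 0)
    (H3 : TorFacZero (j + 1)
      (ModuleCat.of R (X ⧸ LinearMap.range (b • (LinearMap.id : X →ₗ[R] X)))) h₀₁)
    (H1 : TorFacZero j (ModuleCat.of R (LinearMap.ker (b • (LinearMap.id : X →ₗ[R] X)))) h₁₂) :
    TorFacZero j (ModuleCat.of R X) (h₀₁.trans h₁₂) := by
  let bl : X →ₗ[R] X := b • LinearMap.id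
  let Sα : ShortComplex (ModuleCat.{u} R) :=
    ModuleCat.shortComplexOfCompEqZero (LinearMap.ker bl).subtype bl.rangeRestrict (by
      apply LinearMap.ext
      intro z
      apply Subtype.ext
      exact z.2)
  have hSα : Sα.ShortExact := ModuleCat.shortComplex_shortExact Sα (by
      intro x
      constructor
      · intro hx
        have hx' : bl x = 0 := congrArg Subtype.val hx
        exact ⟨⟨x, hx'⟩, rfl⟩
      · rintro ⟨z, rfl⟩
        apply Subtype.ext
        exact z.2) (Submodule.subtype_injective _) bl.surjective_rangeRestrict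
  let Sβ : ShortComplex (ModuleCat.{u} R) :=
    ModuleCat.shortComplexOfCompEqZero (LinearMap.range bl).subtype (LinearMap.range bl).mkQ (by
      apply LinearMap.ext
      intro z
      exact (Submodule.Quotient.mk_eq_zero _).mpr z.2)
  have hSβ : Sβ.ShortExact := ModuleCat.shortComplex_shortExact Sβ
    (LinearMap.exact_subtype_mkQ _) (Submodule.subtype_injective _) (Submodule.mkQ_surjective _)
  unfold TorFacZero at H3 H1 ⊢
  rw [← facM_comp h₀₁ h₁₂, CategoryTheory.Functor.map_comp, NatTrans.comp_app]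
  apply ModuleCat.hom_ext
  apply LinearMap.ext
  intro ξ
  show (tau j h₁₂ (ModuleCat.of R X)).hom ((tau j h₀₁ (ModuleCat.of R X)).hom ξ) = 0
  -- (2) the image of `ξ` in `Tor(E)` dies in `Tor(X)`
  have hcomp : Sα.g ≫ Sβ.f = b • 𝟙 (ModuleCat.of R X) := by
    apply ModuleCat.hom_ext
    apply LinearMap.ext
    intro x
    rfl
  have hcomp' : ((Tor (ModuleCat.{u} R) j).obj (Q J₀)).map Sα.g ≫
      ((Tor (ModuleCat.{u} R) j).obj (Q J₀)).map Sβ.f = b • 𝟙 _ := by
    rw [← CategoryTheory.Functor.map_comp, hcomp, tor_obj_map_smul_id]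
  have h2 : (((Tor (ModuleCat.{u} R) j).obj (Q J₀)).map Sβ.f).hom
      ((((Tor (ModuleCat.{u} R) j).obj (Q J₀)).map Sα.g).hom ξ) = 0 :=
    (congrArg (fun F => F.hom ξ) hcomp').trans (hb ξ)
  obtain ⟨η, hη⟩ := exact₁_elem (Q J₀) Sβ hSβ j _ h2
  -- (3)
  have e3 : (tau (j + 1) h₀₁ Sβ.X₃).hom η = 0 := by
    have h0 : tau (j + 1) h₀₁ Sβ.X₃ = 0 := H3
    rw [h0]
    rfl
  have h3 : (tau j h₀₁ Sβ.X₁).hom ((((Tor (ModuleCat.{u} R) j).obj (Q J₀)).map Sα.g).hom ξ) = 0 := by
    have e := nat_delta (facM h₀₁) Sβ hSβ j η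
    have e' : (tau j h₀₁ Sβ.X₁).hom ((torδ (Q J₀) Sβ hSβ j).hom η) = 0 :=
      e.trans (by rw [e3, map_zero])
    rw [hη] at e'
    exact e'
  -- (4)
  have h4 : (((Tor (ModuleCat.{u} R) j).obj (Q J₁)).map Sα.g).hom
      ((tau j h₀₁ (ModuleCat.of R X)).hom ξ) = 0 :=
    (nat_tau (facM h₀₁) j Sα.g ξ).symm.trans h3
  obtain ⟨ζ, hζ⟩ := exact₂_elem (Q J₁) Sα hSα j _ h4
  -- (5)
  have e7 : (tau j h₁₂ Sα.X₁).hom ζ = 0 := by
    have h0 : tau j h₁₂ Sα.X₁ = 0 := H1
    rw [h0]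
    rfl
  have e5 : (tau j h₁₂ (ModuleCat.of R X)).hom ((tau j h₀₁ (ModuleCat.of R X)).hom ξ) =
      (tau j h₁₂ (ModuleCat.of R X)).hom
        ((((Tor (ModuleCat.{u} R) j).obj (Q J₁)).map Sα.f).hom ζ) := by
    rw [hζ]
  have e6 := nat_tau (facM h₁₂) j Sα.f ζ
  exact e5.trans (e6.trans (by rw [e7, map_zero]))

section unif

variable [IsNoetherianRing R] (t' : ℕ) (a : Fin t' → R)

/-- at least `s'` of the `a_j ^ c₁` kill `X`. -/
def LL (c₁ s' : ℕ) (X : Type u) [AddCommGroup X] [Module R X] : Prop :=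
  ∃ S : Finset (Fin t'), s' ≤ S.card ∧ ∀ j ∈ S, ∀ x : X, a j ^ c₁ • x = 0

/-- the inductive statement. -/
def HH (t c₁ s' : ℕ) : Prop :=
  ∃ N c : ℕ, ∀ (X : Type u) [AddCommGroup X] [Module R X], LL t' a c₁ s' X → ∀ i, i ≤ s' →
    ∀ n, N ≤ n → ∀ h : (II t' a) ^ n ≤ (II t' a) ^ (n - c),
      TorFacZero (t + i + 1) (ModuleCat.of R X) h

theorem HH_base (t c₁ : ℕ) : HH t' a t c₁ t' := by
  obtain ⟨m, hm⟩ : ∃ m, II t' a ^ m ≤ Ideal.span (Set.range fun j => a j ^ c₁) := by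
    apply Ideal.exists_pow_le_of_le_radical_of_fg
    · rw [Ideal.span_le]
      rintro _ ⟨j, rfl⟩
      exact ⟨c₁, Ideal.subset_span ⟨j, rfl⟩⟩
    · exact IsNoetherian.noetherian _
  have hc : ∀ i : ℕ, ∃ c, ∀ (M : Type u) [AddCommGroup M] [Module R M],
      (∀ r ∈ II t' a ^ m, ∀ x : M, r • x = 0) → ∀ n, c ≤ n →
      ∀ h : II t' a ^ n ≤ II t' a ^ (n - c), TorFacZero (t + i + 1) (ModuleCat.of R M) h :=
    fun i => exists_uniform_torFacZero_killed (II t' a) m (t + i)
  choose ci hci using hc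
  refine ⟨∑ i ∈ Finset.range (t' + 1), ci i, ∑ i ∈ Finset.range (t' + 1), ci i, ?_⟩
  intro X _ _ hX i hi n hn h
  obtain ⟨S, hS, hkS⟩ := hX
  have hSu : S = Finset.univ := by
    apply Finset.eq_univ_of_card
    rw [Fintype.card_fin]
    have := S.card_le_univ
    rw [Fintype.card_fin] at this
    omega
  have key : ∀ r ∈ Ideal.span (Set.range fun j => a j ^ c₁), ∀ x : X, r • x = 0 := by
    intro r hr x
    induction hr using Submodule.span_induction with
    | mem r hr =>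
      obtain ⟨j, rfl⟩ := hr
      exact hkS j (by rw [hSu]; exact Finset.mem_univ j) x
    | zero => exact zero_smul _ _
    | add u v _ _ hu hv => rw [add_smul, hu, hv, add_zero]
    | smul u v _ hv => rw [smul_eq_mul, mul_smul, hv, smul_zero]
  have hkill : ∀ r ∈ II t' a ^ m, ∀ x : X, r • x = 0 := fun r hr x => key r (hm hr) x
  have hle : ci i ≤ ∑ i ∈ Finset.range (t' + 1), ci i :=
    Finset.single_le_sum (f := ci) (fun _ _ => Nat.zero_le _) (Finset.mem_range.mpr (by omega))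
  have h1 : II t' a ^ n ≤ II t' a ^ (n - ci i) := Ideal.pow_le_pow_right (Nat.sub_le _ _)
  have h2 : II t' a ^ (n - ci i) ≤ II t' a ^ (n - ∑ i ∈ Finset.range (t' + 1), ci i) :=
    Ideal.pow_le_pow_right (by omega)
  have H := hci i X hkill n (le_trans hle hn) h1
  exact TorFacZero.trans_right H h2

theorem HH_step (t c₁ s' : ℕ) (hs' : s' < t') (ht : t' ≤ t)
    (hc₁ : ∀ (M : Type u) [AddCommGroup M] [Module R M] (i q : ℕ), t' < i →
      ∀ r ∈ II t' a ^ c₁, ∀ x : DRing.Tor R i M (R ⧸ II t' a ^ q), r • x = 0)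
    (H : HH t' a t c₁ (s' + 1)) : HH t' a t c₁ s' := by
  obtain ⟨N, c, hNc⟩ := H
  refine ⟨N + c, c + c, ?_⟩
  intro X _ _ hX i hi n hn
  rw [← Nat.sub_sub]
  intro h
  have h₀₁ : II t' a ^ n ≤ II t' a ^ (n - c) := Ideal.pow_le_pow_right (Nat.sub_le _ _)
  have h₁₂ : II t' a ^ (n - c) ≤ II t' a ^ (n - c - c) := Ideal.pow_le_pow_right (Nat.sub_le _ _)
  obtain ⟨S, hS, hkS⟩ := hX
  by_cases hcard : s' + 1 ≤ S.card
  · have H1 := hNc X ⟨S, hcard, hkS⟩ i (by omega) n (by omega) h₀₁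
    exact TorFacZero.trans_right H1 h₁₂
  · obtain ⟨j₀, hj₀⟩ : ∃ j₀, j₀ ∉ S := by
      by_contra hcon
      push_neg at hcon
      have hu : S = Finset.univ := Finset.eq_univ_of_forall hcon
      rw [hu, Finset.card_univ, Fintype.card_fin] at hcard
      omega
    have hbI : a j₀ ^ c₁ ∈ II t' a ^ c₁ := Ideal.pow_mem_pow (Ideal.subset_span (Set.mem_range_self j₀)) c₁
    have hcardins : s' + 1 ≤ (insert j₀ S).card := by
      rw [Finset.card_insert_of_notMem hj₀]
      omega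
    refine chase X (a j₀ ^ c₁) (t + i + 1) h₀₁ h₁₂ ?_ ?_ ?_
    · intro ξ
      have h1 := hc₁ X (t + i + 1) n (by omega) (a j₀ ^ c₁) hbI
        ((torFlipIso (t + i + 1) (Q (II t' a ^ n)) (ModuleCat.of R X)).hom.hom ξ)
      rw [← map_smul] at h1
      apply (torFlipIso (t + i + 1) (Q (II t' a ^ n)) (ModuleCat.of R X)).toLinearEquiv.injective
      show (torFlipIso (t + i + 1) (Q (II t' a ^ n)) (ModuleCat.of R X)).hom.hom (a j₀ ^ c₁ • ξ) =
        (torFlipIso (t + i + 1) (Q (II t' a ^ n)) (ModuleCat.of R X)).hom.hom 0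
      rw [h1, map_zero]
    · refine hNc _ ⟨insert j₀ S, hcardins, ?_⟩ (i + 1) (by omega) n (by omega) h₀₁
      intro j hj x
      obtain ⟨x', rfl⟩ := Submodule.Quotient.mk_surjective _ x
      rw [← Submodule.Quotient.mk_smul]
      rcases Finset.mem_insert.mp hj with hj | hj
      · rw [hj]
        exact (Submodule.Quotient.mk_eq_zero _).mpr ⟨x', rfl⟩
      · rw [hkS j hj x', Submodule.Quotient.mk_zero]
    · refine hNc _ ⟨insert j₀ S, hcardins, ?_⟩ i (by omega) (n - c) (by omega) h₁₂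
      intro j hj x
      apply Subtype.ext
      show a j ^ c₁ • x.1 = 0
      rcases Finset.mem_insert.mp hj with hj | hj
      · rw [hj]
        exact x.2
      · exact hkS j hj x.1

theorem main (t : ℕ) (ht : t' ≤ t) : ∃ N c : ℕ, ∀ (X : Type u) [AddCommGroup X] [Module R X],
    ∀ n, N ≤ n → ∀ h : II t' a ^ n ≤ II t' a ^ (n - c),
      TorFacZero (t + 1) (ModuleCat.of R X) h := by
  obtain ⟨c₁, hc₁⟩ := PolyKos.main t' a
  have hall : ∀ d, d ≤ t' → HH t' a t c₁ (t' - d) := by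
    intro d
    induction d with
    | zero =>
      intro _
      exact HH_base t' a t c₁
    | succ d ih =>
      intro hd
      have h1 := ih (by omega)
      have e : t' - d = (t' - (d + 1)) + 1 := by omega
      rw [e] at h1
      exact HH_step t' a t c₁ (t' - (d + 1)) (by omega) ht hc₁ h1
  have h0 := hall t' le_rfl
  rw [Nat.sub_self] at h0
  obtain ⟨N, c, h⟩ := h0
  refine ⟨N, c, fun X _ _ n hn hh => ?_⟩
  exact h X ⟨∅, Nat.zero_le _, fun j hj => absurd hj (Finset.notMem_empty j)⟩ 0 le_rfl n hn hh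

end unif

end Groth.Agent.Lib.Helper4.TorUnif
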