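import Mathlib
import Groth.Prelude.Def_RegImm
import Groth.Prelude.Def_Pi1
import Groth.Prelude.Def_EGA4b
import Groth.Agent.Lib.Helper4.FlatLocal
import Groth.Agent.Lib.Helper4.FlatLocal3
import Groth.Agent.Lib.Helper4.FlatRing
import Groth.Agent.Lib.Helper27.CILocusB
import Groth.Agent.Lib.Helper27.KosH1CI
import Groth.Agent.S2166

/-!
# Transversally regular sequences and complete intersection fibres (helper4)

EGA IV 19.3.7: for a flat local homomorphism `A → C` of Noetherian local rings with regular closed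
fibre and a quotient `B = C/J`: `J` is generated by a sequence transversally regular relative to
`A` iff `B` is `A`-flat and `B/𝔪_A B` is a complete intersection.
-/

set_option autoImplicit false
set_option linter.style.haveILetI false
set_option linter.unusedSectionVars false
set_option linter.unusedVariables false
set_option maxHeartbeats 800000

open IsLocalRing RingTheory.Sequence TensorProduct

universe u

namespace Groth.Agent.Lib.Helper4.TransReg

open Groth.Agent.Lib.Helper4

section swap

open Pointwise in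
/-- `(M/IM)/y(M/IM) ≃ (M/yM)/I(M/yM)`. -/
noncomputable def quotSwap {S : Type*} [CommRing S] (M : Type*) [AddCommGroup M] [Module S M]
    (I : Ideal S) (y : S) :
    QuotSMulTop y (M ⧸ (I • ⊤ : Submodule S M)) ≃ₗ[S]
      (QuotSMulTop y M) ⧸ (I • ⊤ : Submodule S (QuotSMulTop y M)) := by
  have h1 : (y • ⊤ : Submodule S (M ⧸ (I • ⊤ : Submodule S M))) =
      (y • ⊤ : Submodule S M).map (I • ⊤ : Submodule S M).mkQ := by
    rw [Submodule.map_pointwise_smul, Submodule.map_top, Submodule.range_mkQ]
  have h2 : (I • ⊤ : Submodule S (QuotSMulTop y M)) =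
      (I • ⊤ : Submodule S M).map (y • ⊤ : Submodule S M).mkQ := by
    rw [Submodule.map_smul'', Submodule.map_top, Submodule.range_mkQ]
  exact (Submodule.quotEquivOfEq _ _ h1) ≪≫ₗ
    Submodule.quotientQuotientEquivQuotientSup _ _ ≪≫ₗ
    Submodule.quotEquivOfEq _ _ (sup_comm _ _) ≪≫ₗ
    (Submodule.quotientQuotientEquivQuotientSup _ _).symm ≪≫ₗ
    (Submodule.quotEquivOfEq _ _ h2.symm)

end swap

section lemmaL

variable {R S : Type u} [CommRing R] [CommRing S] [IsLocalRing R] [IsLocalRing S]
  [IsNoetherianRing R] [IsNoetherianRing S] [Algebra R S] [IsLocalHom (algebraMap R S)]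

/-- A sequence which is regular on the closed fibre module of a finite `S`-module `N` flat over
`R` is regular on `N`, with all successive quotients flat over `R`. -/
theorem transReg_of_fibre (rs : List S) :
    ∀ (N : Type u) [AddCommGroup N] [Module S N] [Module R N] [IsScalarTower R S N]
      [Module.Finite S N] [Module.Flat R N],
      IsWeaklyRegular (N ⧸ ((maximalIdeal R).map (algebraMap R S) • (⊤ : Submodule S N))) rs →
      IsWeaklyRegular N rs ∧ ∀ j : ℕ, j ≤ rs.length →
        Module.Flat R (N ⧸ (Ideal.ofList (rs.take j) • (⊤ : Submodule S N))) := by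
  induction rs with
  | nil =>
    intro N _ _ _ _ _ _ _
    refine ⟨IsWeaklyRegular.nil S N, fun j hj => ?_⟩
    rw [List.take_nil]
    have e : (N ⧸ (Ideal.ofList ([] : List S) • (⊤ : Submodule S N))) ≃ₗ[S] N :=
      Submodule.quotEquivOfEqBot _ (by rw [Ideal.ofList_nil, Submodule.bot_smul])
    exact Module.Flat.of_linearEquiv (e.restrictScalars R)
  | cons y ys ih =>
    intro N _ _ _ _ _ _ h
    obtain ⟨hy, hys⟩ := (isWeaklyRegular_cons_iff _ y ys).mp h
    have hyN : IsSMulRegular N y := isSMulRegular_of_fibre y hy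
    haveI : Module.Flat R (QuotSMulTop y N) := flat_quotSMulTop_of_fibre y hy
    have hys' : IsWeaklyRegular (QuotSMulTop y N ⧸ ((maximalIdeal R).map (algebraMap R S) •
        (⊤ : Submodule S (QuotSMulTop y N)))) ys :=
      ((quotSwap N _ y).isWeaklyRegular_congr ys).mp hys
    obtain ⟨h1, h2⟩ := ih (QuotSMulTop y N) hys'
    refine ⟨(isWeaklyRegular_cons_iff N y ys).mpr ⟨hyN, h1⟩, fun j hj => ?_⟩
    cases j with
    | zero =>
      rw [List.take_zero]
      have e : (N ⧸ (Ideal.ofList ([] : List S) • (⊤ : Submodule S N))) ≃ₗ[S] N :=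
        Submodule.quotEquivOfEqBot _ (by rw [Ideal.ofList_nil, Submodule.bot_smul])
      exact Module.Flat.of_linearEquiv (e.restrictScalars R)
    | succ j =>
      rw [List.take_succ_cons]
      have e := Submodule.quotOfListConsSMulTopEquivQuotSMulTopInner N y (ys.take j)
      haveI := h2 j (by simpa using hj)
      exact Module.Flat.of_linearEquiv (e.restrictScalars R)

end lemmaL

section lemmaT

/-- `Tor₁(A/𝔪, C/J) = 0`: for `C/J` flat over `A`, `J ∩ 𝔪C ⊆ 𝔪J`. -/
theorem mem_mul_of_flat {A C : Type u} [CommRing A] [CommRing C] [Algebra A C] (J : Ideal C)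
    [Module.Flat A (C ⧸ J)] (m : Ideal A) {z : C} (hzJ : z ∈ J)
    (hzm : z ∈ m.map (algebraMap A C)) : z ∈ m.map (algebraMap A C) * J := by
  obtain ⟨J', hJ'⟩ : ∃ J' : Submodule A C, J' = J.restrictScalars A := ⟨_, rfl⟩
  have hmemJ' : ∀ x, x ∈ J' ↔ x ∈ J := fun x => by rw [hJ']; rfl
  let g : J' →ₗ[A] C := J'.subtype
  let f : C →ₗ[A] C ⧸ J := (Ideal.Quotient.mkₐ A J).toLinearMap
  have hf : Function.Surjective f := Ideal.Quotient.mkₐ_surjective A J
  have hg : Function.Injective g := Subtype.val_injective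
  have H : Function.Exact g f := by
    intro c
    constructor
    · intro hc
      have hc' : c ∈ J := Ideal.Quotient.eq_zero_iff_mem.mp hc
      exact ⟨⟨c, (hmemJ' c).mpr hc'⟩, rfl⟩
    · rintro ⟨⟨c', hc'⟩, rfl⟩
      exact Ideal.Quotient.eq_zero_iff_mem.mpr ((hmemJ' c').mp hc')
  have hinj := LinearMap.lTensor_injective_of_exact_of_flat f hf g hg H (A ⧸ m)
  have h1 : ((1 : A ⧸ m) ⊗ₜ[A] z : (A ⧸ m) ⊗[A] C) = 0 := by
    apply (TensorProduct.quotTensorEquivQuotSMul C m).injective
    rw [TensorProduct.quotTensorEquivQuotSMul_mk_one_tmul, map_zero,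
      Submodule.Quotient.mk_eq_zero, Ideal.smul_top_eq_map]
    exact hzm
  have h2 : ((1 : A ⧸ m) ⊗ₜ[A] (⟨z, (hmemJ' z).mpr hzJ⟩ : J') : (A ⧸ m) ⊗[A] J') = 0 := by
    apply hinj
    rw [map_zero, LinearMap.lTensor_tmul]
    exact h1
  have h3 : (⟨z, (hmemJ' z).mpr hzJ⟩ : J') ∈ (m • ⊤ : Submodule A J') := by
    have h := congrArg (TensorProduct.quotTensorEquivQuotSMul J' m) h2
    rw [TensorProduct.quotTensorEquivQuotSMul_mk_one_tmul, map_zero,
      Submodule.Quotient.mk_eq_zero] at h
    exact h
  have h4 : ∀ w : J', w ∈ (m • ⊤ : Submodule A J') →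
      (w : C) ∈ m.map (algebraMap A C) * J := by
    intro w hw
    refine Submodule.smul_induction_on hw ?_ ?_
    · intro a ha n _
      rw [Submodule.coe_smul, Algebra.smul_def]
      exact Ideal.mul_mem_mul (Ideal.mem_map_of_mem _ ha) ((hmemJ' _).mp n.2)
    · intro x y hx hy
      rw [Submodule.coe_add]
      exact Ideal.add_mem _ hx hy
  exact h4 _ h3

end lemmaT

section lists

lemma exists_list_lift {C D : Type*} [CommRing C] [CommRing D] (π : C →+* D)
    (hπ : Function.Surjective π) (J : Ideal C) (l : List D) (h : ∀ d ∈ l, d ∈ J.map π) :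
    ∃ rs : List C, rs.map π = l ∧ ∀ r ∈ rs, r ∈ J := by
  induction l with
  | nil => exact ⟨[], rfl, by simp⟩
  | cons d ds ih =>
    obtain ⟨rs, h1, h2⟩ := ih (fun x hx => h x (List.mem_cons_of_mem _ hx))
    obtain ⟨r, hrJ, hr⟩ := (Ideal.mem_map_iff_of_surjective π hπ).mp (h d List.mem_cons_self)
    refine ⟨r :: rs, by rw [List.map_cons, hr, h1], fun x hx => ?_⟩
    rcases List.mem_cons.mp hx with rfl | hx'
    · exact hrJ
    · exact h2 x hx'

lemma map_ofList {C D : Type*} [CommRing C] [CommRing D] (π : C →+* D) (rs : List C) :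
    (Ideal.ofList rs).map π = Ideal.ofList (rs.map π) := by
  change (Ideal.span {x | x ∈ rs}).map π = Ideal.span {x | x ∈ rs.map π}
  rw [Ideal.map_span]
  congr 1
  ext d
  simp only [Set.mem_image, Set.mem_setOf_eq, List.mem_map]

end lists

section main

variable (A C B : Type u) [CommRing A] [IsLocalRing A] [IsNoetherianRing A] [CommRing C]
  [IsLocalRing C] [IsNoetherianRing C] [Algebra A C] [IsLocalHom (algebraMap A C)]
  [Module.Flat A C] [CommRing B] [IsLocalRing B] [Algebra C B] [Algebra A B]
  [IsScalarTower A C B] [IsLocalHom (algebraMap A B)]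

/-- `B/𝔪_A B ≃ (C/𝔪_A C)/J̄`. -/
theorem nonempty_fibEquiv (hsurj : Function.Surjective (algebraMap C B)) :
    Nonempty (EGA4.FibRing A B ≃+* (EGA4.FibRing A C) ⧸
      (RingHom.ker (algebraMap C B)).map (Ideal.Quotient.mk (EGA4.mB A C))) := by
  let φ : C →+* EGA4.FibRing A B := (Ideal.Quotient.mk (EGA4.mB A B)).comp (algebraMap C B)
  have hφ : Function.Surjective φ := Ideal.Quotient.mk_surjective.comp hsurj
  have hker : RingHom.ker φ = EGA4.mB A C ⊔ RingHom.ker (algebraMap C B) := by
    have h1 : EGA4.mB A B = (EGA4.mB A C).map (algebraMap C B) := by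
      show (maximalIdeal A).map (algebraMap A B) =
        ((maximalIdeal A).map (algebraMap A C)).map (algebraMap C B)
      rw [Ideal.map_map, ← IsScalarTower.algebraMap_eq]
    rw [← RingHom.comap_ker, Ideal.mk_ker, h1, Ideal.comap_map_of_surjective _ hsurj,
      ← RingHom.ker_eq_comap_bot]
  exact ⟨(RingHom.quotientKerEquivOfSurjective hφ).symm.trans
    ((Ideal.quotEquivOfEq hker).trans (DoubleQuot.quotQuotEquivQuotSup _ _).symm)⟩

theorem flat_quot_ker_iff (hsurj : Function.Surjective (algebraMap C B)) :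
    Module.Flat A (C ⧸ RingHom.ker (algebraMap C B)) ↔ Module.Flat A B := by
  have hker : RingHom.ker (algebraMap C B) = RingHom.ker (IsScalarTower.toAlgHom A C B) := by
    ext x
    rw [RingHom.mem_ker, RingHom.mem_ker]
    rfl
  have hs : Function.Surjective (IsScalarTower.toAlgHom A C B) := hsurj
  let e : (C ⧸ RingHom.ker (algebraMap C B)) ≃ₐ[A] B :=
    (Ideal.quotientEquivAlgOfEq A hker).trans (Ideal.quotientKerAlgEquivOfSurjective hs)
  constructor
  · intro h
    exact Module.Flat.of_linearEquiv e.symm.toLinearEquiv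
  · intro h
    exact Module.Flat.of_linearEquiv e.toLinearEquiv

end main

end Groth.Agent.Lib.Helper4.TransReg
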