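import Mathlib

/-!
# Quotients of a free module of rank two by one vector (helper4, for S15100)

`M = E / A w` with `E` free of rank two over a Noetherian local domain `A`.  If `M` is free at every
non-maximal prime but not free, then `dim A ≤ 2` (Krull's height theorem applied to the ideal of
coordinates of `w`).
-/

set_option autoImplicit false
set_option linter.style.haveILetI false
set_option linter.unusedSectionVars false
set_option linter.unusedVariables false
set_option maxHeartbeats 800000
universe u

namespace Groth.Agent.Lib.Helper4.TwoGen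

open IsLocalRing

variable (A : Type u) [CommRing A] [IsDomain A]
  {E M : Type u} [AddCommGroup E] [Module A E] [AddCommGroup M] [Module A M]
  (b : Module.Basis (Fin 2) A E) (β : E →ₗ[A] M) (hβ : Function.Surjective β) (w : E)
  (hker : LinearMap.ker β = Submodule.span A {w})

include b hβ hker

theorem free_of_w_eq_zero (hw : w = 0) : Module.Free A M := by
  haveI : Module.Free A E := Module.Free.of_basis b
  have hinj : Function.Injective β := by
    rw [← LinearMap.ker_eq_bot, hker, hw]; simp
  exact Module.Free.of_equiv (LinearEquiv.ofBijective β ⟨hinj, hβ⟩)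

theorem free_of_unimodular (x y : A) (hxy : x * b.repr w 0 + y * b.repr w 1 = 1) :
    Module.Free A M := by
  obtain ⟨a, ha⟩ : ∃ a : A, a = b.repr w 0 := ⟨_, rfl⟩
  obtain ⟨c, hc⟩ : ∃ c : A, c = b.repr w 1 := ⟨_, rfl⟩
  rw [← ha, ← hc] at hxy
  let ψ : E →ₗ[A] A := c • b.coord 0 - a • b.coord 1
  have hψ_apply : ∀ v, ψ v = c * b.repr v 0 - a * b.repr v 1 := by
    intro v; simp [ψ, Module.Basis.coord_apply]
  have hψw : ψ w = 0 := by rw [hψ_apply, ← ha, ← hc]; ring
  have hψsurj : Function.Surjective ψ := by
    intro r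
    refine ⟨r • (y • b 0 - x • b 1), ?_⟩
    rw [map_smul, hψ_apply]
    simp only [map_sub, map_smul, Module.Basis.repr_self, Finsupp.coe_sub, Finsupp.coe_smul,
      Pi.sub_apply, Pi.smul_apply, Finsupp.single_apply, smul_eq_mul]
    simp only [Fin.isValue, if_true, one_ne_zero, zero_ne_one, if_false, mul_one, mul_zero,
      sub_zero, zero_sub]
    linear_combination r * hxy
  have hkerψ : LinearMap.ker ψ = Submodule.span A {w} := by
    apply le_antisymm
    · intro v hv
      rw [LinearMap.mem_ker, hψ_apply] at hv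
      rw [Submodule.mem_span_singleton]
      refine ⟨x * b.repr v 0 + y * b.repr v 1, ?_⟩
      apply b.ext_elem
      refine Fin.forall_fin_two.2 ⟨?_, ?_⟩
      · rw [map_smul, Finsupp.smul_apply, smul_eq_mul, ← ha]
        linear_combination (b.repr v 0) * hxy - y * hv
      · rw [map_smul, Finsupp.smul_apply, smul_eq_mul, ← hc]
        linear_combination (b.repr v 1) * hxy + x * hv
    · rw [Submodule.span_singleton_le_iff_mem, LinearMap.mem_ker]; exact hψw
  let e : M ≃ₗ[A] A := (β.quotKerEquivOfSurjective hβ).symm ≪≫ₗ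
      (Submodule.quotEquivOfEq _ _ (hker.trans hkerψ.symm)) ≪≫ₗ
        ψ.quotKerEquivOfSurjective hψsurj
  exact Module.Free.of_equiv e.symm

theorem not_free_localized (hw : w ≠ 0) (P : Ideal A) [P.IsPrime]
    (hI0 : b.repr w 0 ∈ P) (hI1 : b.repr w 1 ∈ P) :
    ¬ Module.Free (Localization.AtPrime P) (LocalizedModule P.primeCompl M) := by
  intro hfree
  haveI : IsDomain (Localization.AtPrime P) :=
    IsLocalization.isDomain_localization P.primeCompl_le_nonZeroDivisors
  have hinj : Function.Injective (algebraMap A (Localization.AtPrime P)) :=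
    IsLocalization.injective (Localization.AtPrime P) P.primeCompl_le_nonZeroDivisors
  obtain ⟨ι, hι⟩ : ∃ ι : M →ₗ[A] LocalizedModule P.primeCompl M,
      ι = LocalizedModule.mkLinearMap P.primeCompl M := ⟨_, rfl⟩
  haveI : IsLocalizedModule P.primeCompl ι := by rw [hι]; infer_instance
  obtain ⟨g, hg⟩ : ∃ g : Fin 2 → LocalizedModule P.primeCompl M, g = fun i => ι (β (b i)) :=
    ⟨_, rfl⟩
  obtain ⟨q', hq'_apply⟩ : ∃ q' : (Fin 2 → Localization.AtPrime P) →ₗ[Localization.AtPrime P]
      LocalizedModule P.primeCompl M, ∀ z, q' z = z 0 • g 0 + z 1 • g 1 :=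
    ⟨Fintype.linearCombination (Localization.AtPrime P) g, fun z => by
      simp [Fintype.linearCombination_apply, Fin.sum_univ_two]⟩
  have hιβ : ∀ v : E, ι (β v) =
      algebraMap A (Localization.AtPrime P) (b.repr v 0) • g 0 +
        algebraMap A (Localization.AtPrime P) (b.repr v 1) • g 1 := by
    intro v
    conv_lhs => rw [← b.sum_repr v]
    rw [Fin.sum_univ_two, map_add, map_add, map_smul, map_smul, map_smul, map_smul,
      algebraMap_smul, algebraMap_smul, hg]
  obtain ⟨w', hw'def⟩ : ∃ w' : Fin 2 → Localization.AtPrime P,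
      w' = fun i => algebraMap A (Localization.AtPrime P) (b.repr w i) := ⟨_, rfl⟩
  have hw'i : ∀ i, w' i = algebraMap A (Localization.AtPrime P) (b.repr w i) := fun i => by
    rw [hw'def]
  have hβw : β w = 0 := by
    rw [← LinearMap.mem_ker, hker]; exact Submodule.mem_span_singleton_self w
  have hq'w' : q' w' = 0 := by
    rw [hq'_apply, hw'i, hw'i, ← hιβ, hβw, map_zero]
  -- surjectivity
  have hq'surj : Function.Surjective q' := by
    intro n
    obtain ⟨⟨m, s⟩, hms⟩ := IsLocalizedModule.surj P.primeCompl ι n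
    obtain ⟨v, rfl⟩ := hβ m
    have hu : IsUnit (algebraMap A (Localization.AtPrime P) (s : A)) :=
      IsLocalization.map_units (Localization.AtPrime P) s
    have hms' : algebraMap A (Localization.AtPrime P) (s : A) • n = ι (β v) := by
      rw [algebraMap_smul]; exact hms
    obtain ⟨us, hus⟩ := hu
    refine ⟨fun i => ↑us⁻¹ * algebraMap A (Localization.AtPrime P) (b.repr v i), ?_⟩
    rw [hq'_apply]
    show (↑us⁻¹ * algebraMap A (Localization.AtPrime P) (b.repr v 0)) • g 0 +
      (↑us⁻¹ * algebraMap A (Localization.AtPrime P) (b.repr v 1)) • g 1 = n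
    rw [mul_smul, mul_smul, ← smul_add, ← hιβ, ← hms', ← hus, smul_smul,
      Units.inv_mul, one_smul]
  -- the kernel
  have hkerq : ∀ z : Fin 2 → Localization.AtPrime P, q' z = 0 →
      ∃ d : Localization.AtPrime P, z = d • w' := by
    intro z hz
    obtain ⟨t, ht⟩ := IsLocalization.exist_integer_multiples P.primeCompl
      (Finset.univ : Finset (Fin 2)) z
    choose x hx using fun i => ht i (Finset.mem_univ i)
    have hxz : ∀ i, algebraMap A (Localization.AtPrime P) (x i) =
        algebraMap A (Localization.AtPrime P) (t : A) * z i := by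
      intro i; rw [hx i, Algebra.smul_def]
    have h1 : ι (β (x 0 • b 0 + x 1 • b 1)) = 0 := by
      have h0 : q' (algebraMap A (Localization.AtPrime P) (t : A) • z) = 0 := by
        rw [map_smul, hz, smul_zero]
      rw [hq'_apply] at h0
      simp only [Pi.smul_apply, smul_eq_mul, ← hxz] at h0
      have hr0 : b.repr (x 0 • b 0 + x 1 • b 1) 0 = x 0 := by simp [Finsupp.single_apply]
      have hr1 : b.repr (x 0 • b 0 + x 1 • b 1) 1 = x 1 := by simp [Finsupp.single_apply]
      rw [hιβ, hr0, hr1]
      exact h0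
    obtain ⟨t', ht'⟩ := (IsLocalizedModule.eq_zero_iff P.primeCompl ι).mp h1
    have h2 : (t' : A) • (x 0 • b 0 + x 1 • b 1) ∈ LinearMap.ker β := by
      rw [LinearMap.mem_ker, map_smul]; exact ht'
    rw [hker, Submodule.mem_span_singleton] at h2
    obtain ⟨d, hd⟩ := h2
    have hcoord : ∀ i, d * b.repr w i = t' * x i := by
      intro i
      have h3 := congrArg (fun v => b.repr v i) hd
      simp only [map_smul, map_add, Finsupp.smul_apply, Finsupp.add_apply,
        Module.Basis.repr_self, smul_eq_mul, Finsupp.single_apply] at h3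
      revert i
      refine Fin.forall_fin_two.2 ⟨?_, ?_⟩
      · intro h3
        simpa using h3
      · intro h3
        simpa using h3
    have hu : IsUnit (algebraMap A (Localization.AtPrime P) ((t' : A) * (t : A))) :=
      IsLocalization.map_units (Localization.AtPrime P) (t' * t)
    obtain ⟨uu, huu⟩ := hu
    refine ⟨↑uu⁻¹ * algebraMap A (Localization.AtPrime P) d, ?_⟩
    funext i
    rw [Pi.smul_apply, smul_eq_mul, hw'i, mul_assoc, ← map_mul, hcoord i,
      Units.eq_inv_mul_iff_mul_eq, huu, map_mul, map_mul, hxz i]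
    ring
  haveI : Module.Projective (Localization.AtPrime P) (LocalizedModule P.primeCompl M) :=
    Module.Projective.of_free
  obtain ⟨σ, hσ⟩ := Module.projective_lifting_property q' LinearMap.id hq'surj
  have hσ' : ∀ n, q' (σ n) = n := fun n => by
    have h := LinearMap.congr_fun hσ n
    simpa using h
  obtain ⟨d0, hd0⟩ := hkerq (Pi.single 0 1 - σ (q' (Pi.single 0 1)))
    (by rw [map_sub, hσ', sub_self])
  obtain ⟨d1, hd1⟩ := hkerq (Pi.single 1 1 - σ (q' (Pi.single 1 1)))
    (by rw [map_sub, hσ', sub_self])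
  have hw'dec : w' = w' 0 • Pi.single 0 1 + w' 1 • Pi.single 1 1 := by
    funext i
    revert i
    refine Fin.forall_fin_two.2 ⟨?_, ?_⟩ <;> simp
  have e1 : w' - σ (q' w') = w' 0 • (Pi.single 0 1 - σ (q' (Pi.single 0 1))) +
      w' 1 • (Pi.single 1 1 - σ (q' (Pi.single 1 1))) := by
    nth_rewrite 1 2 [hw'dec]
    simp only [map_add, map_smul, smul_sub]
    abel
  have key : w' = (w' 0 * d0 + w' 1 * d1) • w' := by
    have h := e1
    rw [hq'w', map_zero, sub_zero, hd0, hd1, smul_smul, smul_smul, ← add_smul] at h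
    exact h
  have hne : ∃ i, w' i ≠ 0 := by
    by_contra hall
    push_neg at hall
    apply hw
    apply b.ext_elem
    intro i
    have h := hall i
    rw [hw'i] at h
    rw [map_zero, Finsupp.zero_apply]
    exact hinj (by rw [h, map_zero])
  obtain ⟨i, hi⟩ := hne
  have hz : (1 - (w' 0 * d0 + w' 1 * d1)) * w' i = 0 := by
    have h := congrFun key i
    rw [Pi.smul_apply, smul_eq_mul] at h
    linear_combination h
  have h10 : 1 - (w' 0 * d0 + w' 1 * d1) = 0 := (mul_eq_zero.mp hz).resolve_right hi
  have hm0 : w' 0 ∈ maximalIdeal (Localization.AtPrime P) := by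
    rw [hw'i]
    exact (IsLocalization.AtPrime.to_map_mem_maximal_iff (Localization.AtPrime P) P _).mpr hI0
  have hm1 : w' 1 ∈ maximalIdeal (Localization.AtPrime P) := by
    rw [hw'i]
    exact (IsLocalization.AtPrime.to_map_mem_maximal_iff (Localization.AtPrime P) P _).mpr hI1
  have h1mem : (1 : Localization.AtPrime P) ∈ maximalIdeal (Localization.AtPrime P) := by
    have h : (1 : Localization.AtPrime P) = w' 0 * d0 + w' 1 * d1 := by linear_combination h10
    rw [h]
    exact Ideal.add_mem _ (Ideal.mul_mem_right _ _ hm0) (Ideal.mul_mem_right _ _ hm1)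
  exact (Ideal.ne_top_iff_one _).mp
    (IsLocalRing.maximalIdeal.isMaximal (Localization.AtPrime P)).ne_top h1mem

theorem dim_le_two [IsNoetherianRing A] [IsLocalRing A]
    (hfree : ∀ P : PrimeSpectrum A, P.asIdeal ≠ maximalIdeal A →
      Module.Free (Localization.AtPrime P.asIdeal) (LocalizedModule P.asIdeal.primeCompl M))
    (hm : ¬ Module.Free A M) : ringKrullDim A ≤ 2 := by
  have hw : w ≠ 0 := fun h => hm (free_of_w_eq_zero A b β hβ w hker h)
  have hItop : Ideal.span ({b.repr w 0, b.repr w 1} : Set A) ≠ ⊤ := by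
    intro h
    have h1 : (1 : A) ∈ Ideal.span ({b.repr w 0, b.repr w 1} : Set A) := by rw [h]; trivial
    obtain ⟨x, y, hxy⟩ := Ideal.mem_span_pair.mp h1
    exact hm (free_of_unimodular A b β hβ w hker x y hxy)
  have hmin : maximalIdeal A ∈
      (Ideal.span ({b.repr w 0, b.repr w 1} : Set A)).minimalPrimes := by
    refine ⟨⟨inferInstance, IsLocalRing.le_maximalIdeal hItop⟩, ?_⟩
    rintro q ⟨hqp, hIq⟩ hqm
    by_contra hne
    haveI := hqp
    have hqne : q ≠ maximalIdeal A := fun h => hne h.ge
    exact not_free_localized A b β hβ w hker hw q (hIq (Ideal.subset_span (by simp)))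
      (hIq (Ideal.subset_span (by simp))) (hfree ⟨q, hqp⟩ hqne)
  have hht := Ideal.height_le_card_of_mem_minimalPrimes_span (Set.toFinite _) hmin
  have hcard : ({b.repr w 0, b.repr w 1} : Set A).ncard ≤ 2 :=
    (Set.ncard_insert_le _ _).trans (by rw [Set.ncard_singleton])
  have h2 : (maximalIdeal A).height ≤ 2 := hht.trans (by exact_mod_cast hcard)
  rw [← IsLocalRing.maximalIdeal_height_eq_ringKrullDim]
  show ((maximalIdeal A).height : WithBot ℕ∞) ≤ ((2 : ℕ∞) : WithBot ℕ∞)
  exact WithBot.coe_le_coe.mpr h2

end Groth.Agent.Lib.Helper4.TwoGen
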