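import Mathlib

/-!
# Universal injectivity of endomorphisms of projective modules over local rings (helper4)

If `N` is a projective module over a local ring `R` with residue field `k` and `u : N → N` is an
`R`-linear map such that `k ⊗ u` is injective, then `Q ⊗ u` is injective for every `R`-module `Q`.
-/

set_option autoImplicit false
set_option linter.style.haveILetI false
set_option linter.unusedSectionVars false
set_option linter.unusedVariables false
set_option maxHeartbeats 800000

universe u

open TensorProduct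

namespace Groth.Agent.Lib.Helper4.UnivInjProj

section free

open scoped Classical

variable {R : Type u} [CommRing R] {ι : Type u}

/-- restriction to a finset as an endomorphism of `ι →₀ R`. -/
noncomputable def P (s : Finset ι) : (ι →₀ R) →ₗ[R] (ι →₀ R) :=
  (Finsupp.supported R R (s : Set ι)).subtype ∘ₗ Finsupp.restrictDom R R (s : Set ι)

lemma P_mem (s : Finset ι) (f : ι →₀ R) : P s f ∈ Finsupp.supported R R (s : Set ι) :=
  (Finsupp.restrictDom R R (s : Set ι) f).2

lemma P_of_mem (s : Finset ι) {f : ι →₀ R} (hf : f ∈ Finsupp.supported R R (s : Set ι)) :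
    P s f = f := by
  have h := LinearMap.congr_fun
    (Finsupp.restrictDom_comp_subtype (M := R) (R := R) (s := (s : Set ι))) ⟨f, hf⟩
  have h' : Finsupp.restrictDom R R (s : Set ι) f = ⟨f, hf⟩ := h
  show ((Finsupp.supported R R (s : Set ι)).subtype (Finsupp.restrictDom R R (s : Set ι) f)) = f
  rw [h']
  rfl

lemma P_comp_of_subset {s t : Finset ι} (h : s ⊆ t) :
    (P t : (ι →₀ R) →ₗ[R] (ι →₀ R)) ∘ₗ P s = P s := by
  refine LinearMap.ext fun f => ?_
  rw [LinearMap.comp_apply]
  exact P_of_mem t (Finsupp.supported_mono (Finset.coe_subset.mpr h) (P_mem s f))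

lemma exists_P_fix (Q : Type u) [AddCommGroup Q] [Module R Q] (z : Q ⊗[R] (ι →₀ R)) :
    ∃ s : Finset ι, (P s).lTensor Q z = z := by
  induction z using TensorProduct.induction_on with
  | zero => exact ⟨∅, map_zero _⟩
  | tmul q f =>
    refine ⟨f.support, ?_⟩
    rw [LinearMap.lTensor_tmul, P_of_mem _ (Finsupp.mem_supported_support R f)]
  | add a b ha hb =>
    obtain ⟨s, hs⟩ := ha
    obtain ⟨t, ht⟩ := hb
    refine ⟨s ∪ t, ?_⟩
    have h1 : (P (s ∪ t)).lTensor Q a = a := by
      calc (P (s ∪ t)).lTensor Q a = (P (s ∪ t)).lTensor Q ((P s).lTensor Q a) := by rw [hs]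
        _ = ((P (s ∪ t)) ∘ₗ (P s)).lTensor Q a := by rw [LinearMap.lTensor_comp]; rfl
        _ = a := by rw [P_comp_of_subset Finset.subset_union_left, hs]
    have h2 : (P (s ∪ t)).lTensor Q b = b := by
      calc (P (s ∪ t)).lTensor Q b = (P (s ∪ t)).lTensor Q ((P t).lTensor Q b) := by rw [ht]
        _ = ((P (s ∪ t)) ∘ₗ (P t)).lTensor Q b := by rw [LinearMap.lTensor_comp]; rfl
        _ = b := by rw [P_comp_of_subset Finset.subset_union_right, ht]
    rw [map_add, h1, h2]

lemma exists_supported_image (U : (ι →₀ R) →ₗ[R] (ι →₀ R)) (s : Finset ι) :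
    ∃ t : Finset ι, ∀ x ∈ Finsupp.supported R R (s : Set ι),
      U x ∈ Finsupp.supported R R (t : Set ι) := by
  refine ⟨s.biUnion (fun i => (U (Finsupp.single i 1)).support), ?_⟩
  have hle : (Finsupp.supported R R (s : Set ι)).map U ≤
      Finsupp.supported R R ((s.biUnion (fun i => (U (Finsupp.single i 1)).support) : Finset ι) :
        Set ι) := by
    rw [Finsupp.supported_eq_span_single R (s : Set ι), Submodule.map_span, Submodule.span_le]
    rintro _ ⟨_, ⟨i, hi, rfl⟩, rfl⟩
    rw [SetLike.mem_coe, Finsupp.mem_supported]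
    intro j hj
    exact Finset.mem_coe.mpr (Finset.mem_biUnion.mpr ⟨i, Finset.mem_coe.mp hi, hj⟩)
  intro x hx
  exact hle (Submodule.mem_map_of_mem hx)

lemma subtype_lTensor_injective (s : Finset ι) (Q : Type u) [AddCommGroup Q] [Module R Q] :
    Function.Injective ((Finsupp.supported R R (s : Set ι)).subtype.lTensor Q) := by
  apply Function.LeftInverse.injective (g := (Finsupp.restrictDom R R (s : Set ι)).lTensor Q)
  intro x
  rw [← LinearMap.lTensor_comp_apply, Finsupp.restrictDom_comp_subtype, LinearMap.lTensor_id,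
    LinearMap.id_apply]

lemma split_of_residue_injective {R : Type u} [CommRing R] [IsLocalRing R] {M N : Type u}
    [AddCommGroup M] [AddCommGroup N] [Module R M] [Module R N] [Module.Finite R M]
    [Module.Finite R N] [Module.Free R N] (l : M →ₗ[R] N)
    (h : Function.Injective (l.lTensor (IsLocalRing.ResidueField R))) :
    ∃ l', l' ∘ₗ l = LinearMap.id :=
  (IsLocalRing.split_injective_iff_lTensor_residueField_injective l).mpr h

theorem injective_lTensor_of_free [IsLocalRing R] (U : (ι →₀ R) →ₗ[R] (ι →₀ R))
    (hU : Function.Injective (U.lTensor (IsLocalRing.ResidueField R)))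
    (Q : Type u) [AddCommGroup Q] [Module R Q] : Function.Injective (U.lTensor Q) := by
  rw [injective_iff_map_eq_zero]
  intro z hz
  obtain ⟨s, hs⟩ := exists_P_fix Q z
  obtain ⟨t, ht⟩ := exists_supported_image U s
  obtain ⟨V, hVdef⟩ : ∃ V : Finsupp.supported R R (s : Set ι) →ₗ[R]
      Finsupp.supported R R (t : Set ι), V =
      (Finsupp.restrictDom R R (t : Set ι)) ∘ₗ U ∘ₗ (Finsupp.supported R R (s : Set ι)).subtype :=
    ⟨_, rfl⟩
  have hV : (Finsupp.supported R R (t : Set ι)).subtype ∘ₗ V =
      U ∘ₗ (Finsupp.supported R R (s : Set ι)).subtype := by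
    refine LinearMap.ext fun x => ?_
    rw [hVdef]
    exact P_of_mem t (ht x.1 x.2)
  haveI : Module.Finite R (Finsupp.supported R R (s : Set ι)) :=
    Module.Finite.equiv (Finsupp.supportedEquivFinsupp (M := R) (R := R) (s : Set ι)).symm
  haveI : Module.Finite R (Finsupp.supported R R (t : Set ι)) :=
    Module.Finite.equiv (Finsupp.supportedEquivFinsupp (M := R) (R := R) (t : Set ι)).symm
  haveI : Module.Free R (Finsupp.supported R R (t : Set ι)) :=
    Module.Free.of_equiv (Finsupp.supportedEquivFinsupp (M := R) (R := R) (t : Set ι)).symm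
  have hVk : Function.Injective (V.lTensor (IsLocalRing.ResidueField R)) := by
    have h1 : ((Finsupp.supported R R (t : Set ι)).subtype.lTensor (IsLocalRing.ResidueField R)) ∘ₗ
        (V.lTensor (IsLocalRing.ResidueField R)) =
        (U.lTensor (IsLocalRing.ResidueField R)) ∘ₗ
          ((Finsupp.supported R R (s : Set ι)).subtype.lTensor (IsLocalRing.ResidueField R)) := by
      rw [← LinearMap.lTensor_comp, ← LinearMap.lTensor_comp, hV]
    have h3 : Function.Injective
        (((Finsupp.supported R R (t : Set ι)).subtype.lTensor (IsLocalRing.ResidueField R)) ∘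
        (V.lTensor (IsLocalRing.ResidueField R))) := by
      rw [← LinearMap.coe_comp, h1, LinearMap.coe_comp]
      exact hU.comp (subtype_lTensor_injective s _)
    exact Function.Injective.of_comp h3
  obtain ⟨W, hW⟩ := @split_of_residue_injective R _ _ (Finsupp.supported R R (s : Set ι))
    (Finsupp.supported R R (t : Set ι)) _ _ _ _ ‹_› ‹_› ‹_› V hVk
  obtain ⟨z0, hz0⟩ : ∃ z0, z0 = (Finsupp.restrictDom R R (s : Set ι)).lTensor Q z := ⟨_, rfl⟩
  have hzz0 : ((Finsupp.supported R R (s : Set ι)).subtype).lTensor Q z0 = z := by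
    rw [hz0, ← LinearMap.lTensor_comp_apply]; exact hs
  have h4 : ((Finsupp.supported R R (t : Set ι)).subtype).lTensor Q (V.lTensor Q z0) = 0 := by
    rw [← LinearMap.lTensor_comp_apply, hV, LinearMap.lTensor_comp_apply, hzz0, hz]
  have h5 : V.lTensor Q z0 = 0 := by
    apply subtype_lTensor_injective t Q
    rw [h4, map_zero]
  have h6 : z0 = 0 := by
    have := congrArg (W.lTensor Q) h5
    rw [← LinearMap.lTensor_comp_apply, hW, LinearMap.lTensor_id, LinearMap.id_apply,
      map_zero] at this
    exact this
  rw [← hzz0, h6, map_zero]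

end free

/-- **Key lemma.** An endomorphism of a projective module over a local ring which is injective
modulo the maximal ideal is universally injective. -/
theorem injective_lTensor_of_projective {R : Type u} [CommRing R] [IsLocalRing R] {N : Type u}
    [AddCommGroup N] [Module R N] [Module.Projective R N] (u : N →ₗ[R] N)
    (hu : Function.Injective (u.lTensor (IsLocalRing.ResidueField R)))
    (Q : Type u) [AddCommGroup Q] [Module R Q] : Function.Injective (u.lTensor Q) := by
  obtain ⟨i, hi⟩ := (Module.projective_def' (R := R) (P := N)).mp inferInstance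
  obtain ⟨r, hr⟩ : ∃ r : (N →₀ R) →ₗ[R] N, r = Finsupp.linearCombination R id := ⟨_, rfl⟩
  rw [← hr] at hi
  have hi' : ∀ n, r (i n) = n := fun n => LinearMap.congr_fun hi n
  let U : (N →₀ R) →ₗ[R] (N →₀ R) := i ∘ₗ u ∘ₗ r + (LinearMap.id - i ∘ₗ r)
  have hrU : r ∘ₗ U = u ∘ₗ r := by
    refine LinearMap.ext fun x => ?_
    show r (i (u (r x)) + (x - i (r x))) = u (r x)
    rw [map_add, map_sub, hi', hi', sub_self, add_zero]
  have hUi : U ∘ₗ i = i ∘ₗ u := by
    refine LinearMap.ext fun n => ?_
    show i (u (r (i n))) + (i n - i (r (i n))) = i (u n)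
    rw [hi', sub_self, add_zero]
  have hUk : Function.Injective (U.lTensor (IsLocalRing.ResidueField R)) := by
    rw [injective_iff_map_eq_zero]
    intro z hz
    have h1 : (u.lTensor _) ((r.lTensor _) z) = 0 := by
      rw [← LinearMap.lTensor_comp_apply, ← hrU, LinearMap.lTensor_comp_apply, hz, map_zero]
    have h2 : (r.lTensor (IsLocalRing.ResidueField R)) z = 0 :=
      (injective_iff_map_eq_zero _).mp hu _ h1
    have h3 : U.lTensor (IsLocalRing.ResidueField R) z =
        i.lTensor _ (u.lTensor _ (r.lTensor _ z)) + (z - i.lTensor _ (r.lTensor _ z)) := by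
      show (i ∘ₗ u ∘ₗ r + (LinearMap.id - i ∘ₗ r)).lTensor _ z = _
      simp only [LinearMap.lTensor_add, LinearMap.lTensor_sub, LinearMap.add_apply,
        LinearMap.sub_apply, LinearMap.lTensor_id, LinearMap.id_apply, LinearMap.lTensor_comp,
        LinearMap.comp_apply]
    rw [h3, h2, map_zero, map_zero, sub_zero, zero_add] at hz
    exact hz
  have hUQ := injective_lTensor_of_free U hUk Q
  have hiQ : Function.Injective (i.lTensor Q) := by
    apply Function.LeftInverse.injective (g := r.lTensor Q)
    intro x
    rw [← LinearMap.lTensor_comp_apply, hi, LinearMap.lTensor_id, LinearMap.id_apply]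
  rw [injective_iff_map_eq_zero]
  intro z hz
  apply hiQ
  rw [map_zero]
  apply hUQ
  rw [map_zero, ← LinearMap.lTensor_comp_apply, hUi, LinearMap.lTensor_comp_apply, hz, map_zero]

end Groth.Agent.Lib.Helper4.UnivInjProj
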