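import Mathlib
import Groth.Agent.Lib.Helper22.QFFlat
import Groth.Agent.Lib.Helper26.RegularRing
import Groth.Agent.Lib.Helper12.IntegralDim

/-!
# Wild quotients: if `A` is the coproduct of fixed subalgebras `B_i`, the `B_i` are free and regular
-/

set_option autoImplicit false
set_option linter.style.haveILetI false
set_option linter.unusedSectionVars false
set_option linter.unusedVariables false
set_option linter.unusedSimpArgs false
set_option maxHeartbeats 1600000
set_option maxSynthPendingDepth 3

universe u v w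

open TensorProduct

namespace Groth.Agent.Lib.Helper4.WQCoprod

section free

/-- A finite injective extension `R → A` of regular local rings is free. -/
theorem free_of_regular_finite (R : Type u) [CommRing R] [IsRegularLocalRing R] (A : Type v)
    [CommRing A] [IsRegularLocalRing A] [Algebra R A] [Module.Finite R A]
    (hinj : Function.Injective (algebraMap R A)) : Module.Free R A := by
  let R₀ : Subalgebra R A := ⊥
  let e : R₀ ≃ₐ[R] R := Algebra.botEquivOfInjective hinj
  haveI : IsRegularLocalRing R₀ := IsRegularLocalRing.of_ringEquiv e.symm.toRingEquiv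
  haveI : Module.Finite R₀ A := Module.Finite.of_restrictScalars_finite R R₀ A
  haveI : Algebra.IsIntegral R₀ A := inferInstance
  haveI : IsLocalHom (algebraMap R₀ A) := inferInstance
  haveI : LocCoh.IsCohenMacaulayLocalRing A :=
    Groth.Agent.Lib.Helper4.RegCM.isCohenMacaulayLocalRing A
  have hinj₀ : Function.Injective (algebraMap R₀ A) := Subtype.val_injective
  have hdim : ringKrullDim A = ringKrullDim R₀ :=
    le_antisymm (Groth.Agent.Lib.Helper12.ringKrullDim_le_of_isIntegral)
      (Groth.Agent.Lib.Helper12.ringKrullDim_le_of_isIntegral_of_injective hinj₀)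
  haveI : Module.Flat R₀ A :=
    Groth.Agent.Lib.Helper22.QFFlat.flat_of_isCohenMacaulayLocalRing R₀ A hdim
  haveI : Module.Free R₀ A := Module.free_of_flat_of_isLocalRing
  let b := Module.Free.chooseBasis R₀ A
  have hcompat : ∀ (c : R₀) (x : A), (e.toRingEquiv c) • x = c • x := by
    intro c x
    have h1 : algebraMap R R₀ (e c) = c := by
      have := e.symm.commutes (e c)
      simp only [Algebra.algebraMap_self, RingHom.id_apply, AlgEquiv.symm_apply_apply] at this
      exact this.symm
    show e c • x = c • x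
    conv_rhs => rw [← h1]
    rw [algebraMap_smul]
  exact Module.Free.of_basis (b.mapCoeffs e.toRingEquiv hcompat)

end free

section fixed

variable {R : Type u} [CommRing R] {A : Type v} [CommRing A] [Algebra R A] {H : Type w} [Group H]
  [MulSemiringAction H A] [SMulCommClass H R A] (G : Subgroup H)

theorem isUnit_of_isUnit_val (x : FixedPoints.subalgebra R A G) (hx : IsUnit (x : A)) :
    IsUnit x := by
  obtain ⟨y, hy⟩ := hx.exists_right_inv
  have hyfix : y ∈ FixedPoints.subalgebra R A G := by
    intro g
    have h1 : (x : A) * (g • y) = 1 := by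
      have := congrArg (fun z => g • z) hy
      simp only [smul_mul', smul_one] at this
      rwa [x.2 g] at this
    calc g • y = (y * (x : A)) * (g • y) := by rw [mul_comm y, hy, one_mul]
      _ = y * ((x : A) * (g • y)) := by ring
      _ = y := by rw [h1, mul_one]
  exact IsUnit.of_mul_eq_one ⟨y, hyfix⟩ (Subtype.ext hy)

theorem isLocalRing_fixed [IsLocalRing A] : IsLocalRing (FixedPoints.subalgebra R A G) := by
  haveI : Nontrivial (FixedPoints.subalgebra R A G) :=
    ⟨⟨0, 1, fun h => zero_ne_one (α := A) (congrArg Subtype.val h)⟩⟩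
  refine IsLocalRing.of_nonunits_add fun a b ha hb => ?_
  have ha' : (a : A) ∈ nonunits A := fun h => ha (isUnit_of_isUnit_val G a h)
  have hb' : (b : A) ∈ nonunits A := fun h => hb (isUnit_of_isUnit_val G b h)
  have hab := IsLocalRing.nonunits_add ha' hb'
  intro h
  exact hab (h.map (FixedPoints.subalgebra R A G).val)

theorem finite_fixed [IsNoetherianRing R] [Module.Finite R A] :
    Module.Finite R (FixedPoints.subalgebra R A G) :=
  Module.Finite.of_injective (FixedPoints.subalgebra R A G).val.toLinearMap Subtype.val_injective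

end fixed

section coprod

/-- If `A` (free over `R`) is the coproduct of the subalgebras `Bs j` then `A` is projective over
each `Bs i`: it is a retract of `Bs i ⊗ A`. -/
theorem projective_of_coprod {R : Type u} [CommRing R] {A : Type v} [CommRing A] [Algebra R A]
    [Module.Free R A] {ι : Type} (Bs : ι → Subalgebra R A)
    (hcoprod : ∀ (C : Type (max u v)) [CommRing C] [Algebra R C] (φ : ∀ j, Bs j →ₐ[R] C),
      ∃! ψ : A →ₐ[R] C, ∀ j (x : Bs j), ψ x = φ j x) (i : ι) :
    Module.Projective (Bs i) A := by
  classical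
  let up : (Bs i ⊗[R] A) ≃ₐ[R] ULift.{u} (Bs i ⊗[R] A) := ULift.algEquiv.symm
  let μ : ∀ j, Bs j →ₐ[R] (Bs i ⊗[R] A) := fun j =>
    if h : j = i then
      (Algebra.TensorProduct.includeLeft : Bs i →ₐ[R] (Bs i ⊗[R] A)).comp
        (Subalgebra.inclusion (le_of_eq (congrArg Bs h)))
    else (Algebra.TensorProduct.includeRight : A →ₐ[R] (Bs i ⊗[R] A)).comp (Bs j).val
  have hμi : ∀ x : Bs i, μ i x = x ⊗ₜ[R] (1 : A) := by
    intro x
    simp only [μ, dif_pos rfl, AlgHom.comp_apply, Algebra.TensorProduct.includeLeft_apply]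
    rfl
  have hμj : ∀ j, j ≠ i → ∀ x : Bs j, μ j x = (1 : Bs i) ⊗ₜ[R] (x : A) := by
    intro j h x
    simp only [μ, dif_neg h, AlgHom.comp_apply, Algebra.TensorProduct.includeRight_apply]
    rfl
  obtain ⟨Ψ, hΨ, -⟩ := hcoprod (ULift.{u} (Bs i ⊗[R] A)) (fun j => up.toAlgHom.comp (μ j))
  let Ψ' : A →ₐ[R] (Bs i ⊗[R] A) := up.symm.toAlgHom.comp Ψ
  have hΨ' : ∀ j (x : Bs j), Ψ' x = μ j x := by
    intro j x
    show up.symm (Ψ x) = μ j x
    rw [hΨ j x]
    exact up.symm_apply_apply _
  let Φ : (Bs i ⊗[R] A) →ₐ[Bs i] A :=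
    Algebra.TensorProduct.productLeftAlgHom (Algebra.ofId (Bs i) A) (AlgHom.id R A)
  have hΦl : ∀ b : Bs i, Φ (b ⊗ₜ[R] (1 : A)) = b := by
    intro b; simp [Φ, Algebra.ofId_apply]
  have hΦr : ∀ a : A, Φ ((1 : Bs i) ⊗ₜ[R] a) = a := by
    intro a; simp [Φ]
  have key : ∀ a : A, Φ (Ψ' a) = a := by
    let upA : A ≃ₐ[R] ULift.{u} A := ULift.algEquiv.symm
    obtain ⟨ψ₀, -, huniq⟩ := hcoprod (ULift.{u} A) (fun j => upA.toAlgHom.comp (Bs j).val)
    have h1 : upA.toAlgHom.comp ((Φ.restrictScalars R).comp Ψ') = ψ₀ := huniq _ (by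
      intro j x
      show upA (Φ (Ψ' x)) = upA (x : A)
      rw [hΨ' j x]
      congr 1
      rcases eq_or_ne j i with rfl | h
      · rw [hμi, hΦl]
      · rw [hμj j h, hΦr])
    have h2 : upA.toAlgHom = ψ₀ := huniq _ (fun j x => rfl)
    intro a
    have := DFunLike.congr_fun (h1.trans h2.symm) a
    exact upA.injective this
  let iL : A →ₗ[Bs i] (Bs i ⊗[R] A) :=
    { toFun := Ψ'
      map_add' := map_add Ψ'
      map_smul' := by
        intro b a
        simp only [RingHom.id_apply]
        have hb : Ψ' (algebraMap (Bs i) A b) = b ⊗ₜ[R] (1 : A) := by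
          have := hΨ' i b
          rw [hμi] at this
          exact this
        rw [Algebra.smul_def, map_mul, hb, Algebra.smul_def,
          Algebra.TensorProduct.algebraMap_apply]
        rfl }
  have hsplit : Φ.toLinearMap ∘ₗ iL = LinearMap.id := LinearMap.ext key
  exact Module.Projective.of_split iL Φ.toLinearMap hsplit

/-- A subalgebra `B` of a finite free `R`-algebra `A` over which `A` is projective is itself free
over the local ring `R`. -/
theorem free_of_projective_over {R : Type u} [CommRing R] [IsLocalRing R] {A : Type v}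
    [CommRing A] [Nontrivial A] [Algebra R A] [Module.Free R A] [Module.Finite R A]
    (B : Subalgebra R A) [IsLocalRing B] [Module.Projective B A] [Module.Finite R B] :
    Module.Free R B := by
  haveI : Module.Finite B A := Module.Finite.of_restrictScalars_finite R B A
  haveI : Module.Free B A := Module.free_of_flat_of_isLocalRing
  let b := Module.Free.chooseBasis B A
  obtain ⟨i₀⟩ := b.index_nonempty
  let ι₀ : B →ₗ[R] A := (LinearMap.toSpanSingleton B A (b i₀)).restrictScalars R
  let π₀ : A →ₗ[R] B := (b.coord i₀).restrictScalars R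
  have h : π₀ ∘ₗ ι₀ = LinearMap.id := by
    ext x
    show ((b.coord i₀ (x • b i₀) : B) : A) = x
    rw [map_smul, Module.Basis.coord_apply, Module.Basis.repr_self, Finsupp.single_eq_same,
      smul_eq_mul, mul_one]
  haveI : Module.Projective R B := Module.Projective.of_split ι₀ π₀ h
  exact Module.free_of_flat_of_isLocalRing

end coprod

section main

theorem wq_main (R : Type u) [CommRing R] [IsRegularLocalRing R] (A : Type v) [CommRing A]
    [IsRegularLocalRing A] [Algebra R A] [Module.Finite R A]
    (hinj : Function.Injective (algebraMap R A))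
    (H : Type w) [Group H] [MulSemiringAction H A] [SMulCommClass H R A] {ι : Type}
    (Gs : ι → Subgroup H)
    (hcoprod : ∀ (C : Type (max u v)) [CommRing C] [Algebra R C]
      (φ : ∀ j, FixedPoints.subalgebra R A ↥(Gs j) →ₐ[R] C),
      ∃! ψ : A →ₐ[R] C, ∀ j (x : FixedPoints.subalgebra R A ↥(Gs j)), ψ x = φ j x) (i : ι) :
    Module.Free R (FixedPoints.subalgebra R A ↥(Gs i)) ∧
      IsRegularLocalRing (FixedPoints.subalgebra R A ↥(Gs i)) := by
  haveI := free_of_regular_finite R A hinj
  haveI : IsLocalRing (FixedPoints.subalgebra R A ↥(Gs i)) := isLocalRing_fixed (Gs i)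
  haveI : Module.Finite R (FixedPoints.subalgebra R A ↥(Gs i)) := finite_fixed (Gs i)
  haveI : IsNoetherianRing (FixedPoints.subalgebra R A ↥(Gs i)) :=
    isNoetherian_of_tower R
      (isNoetherian_of_isNoetherianRing_of_finite R (FixedPoints.subalgebra R A ↥(Gs i)))
  haveI : Module.Projective (FixedPoints.subalgebra R A ↥(Gs i)) A :=
    projective_of_coprod (fun j => FixedPoints.subalgebra R A ↥(Gs j)) hcoprod i
  haveI : IsLocalHom (algebraMap (FixedPoints.subalgebra R A ↥(Gs i)) A) :=
    ⟨fun x hx => isUnit_of_isUnit_val (Gs i) x hx⟩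
  haveI : Module.Flat (FixedPoints.subalgebra R A ↥(Gs i)) A := inferInstance
  exact ⟨free_of_projective_over (FixedPoints.subalgebra R A ↥(Gs i)),
    Groth.Agent.Lib.Helper26.RegularRing.isRegularLocalRing_of_flat
      (FixedPoints.subalgebra R A ↥(Gs i)) A⟩

end main

end Groth.Agent.Lib.Helper4.WQCoprod
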