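import Mathlib

set_option autoImplicit false
set_option linter.style.haveILetI false
set_option linter.unusedSectionVars false
set_option linter.unusedVariables false
set_option linter.unusedSimpArgs false
set_option maxHeartbeats 1600000
set_option maxSynthPendingDepth 3

universe u

namespace Groth.Agent.Lib.Helper4.WeierChar2

open MvPowerSeries

section general
variable {A : Type*} [CommRing A]

theorem sup_pow_le (P I : Ideal A) (n : ℕ) : (P ⊔ I) ^ n ≤ P ^ n ⊔ I := by
  induction n with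
  | zero => simp
  | succ n ih =>
    rw [pow_succ, pow_succ]
    calc (P ⊔ I) ^ n * (P ⊔ I) ≤ (P ^ n ⊔ I) * (P ⊔ I) := Ideal.mul_mono_left ih
      _ ≤ P ^ n * P ⊔ I := by
        rw [Ideal.sup_mul, Ideal.mul_sup]
        exact sup_le (sup_le le_sup_left (le_sup_of_le_right Ideal.mul_le_right))
          (le_sup_of_le_right Ideal.mul_le_left)

theorem sup_mul_le (P I B : Ideal A) : (P ⊔ I) * B ≤ P * B ⊔ I := by
  rw [Ideal.sup_mul]
  exact sup_le le_sup_left (le_sup_of_le_right Ideal.mul_le_left)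

theorem pair_pow_le_sq (x y : A) (k : ℕ) :
    (Ideal.span {x, y}) ^ (k + 2) ≤
      Ideal.span {y ^ (k + 2), x * y ^ (k + 1)} ⊔
        Ideal.span {x ^ 2} * (Ideal.span {x, y}) ^ k := by
  induction k with
  | zero =>
    have e : (Ideal.span {x, y}) ^ (0 + 2) = Ideal.span {x, y} * Ideal.span {x, y} := by
      rw [zero_add, pow_two]
    rw [e, Ideal.span_pair_mul_span_pair, Ideal.span_le]
    intro z hz
    simp only [Set.mem_insert_iff, Set.mem_singleton_iff] at hz
    rcases hz with rfl | rfl | rfl | rfl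
    · refine Ideal.mem_sup_right ?_
      have : x * x = x ^ 2 * 1 := by ring
      rw [this]
      exact Ideal.mul_mem_mul (Ideal.subset_span rfl) (by simp)
    · refine Ideal.mem_sup_left (Ideal.subset_span ?_)
      simp
    · refine Ideal.mem_sup_left (Ideal.subset_span ?_)
      simp [mul_comm]
    · refine Ideal.mem_sup_left (Ideal.subset_span ?_)
      simp [pow_two]
  | succ k ih =>
    have e : (Ideal.span {x, y}) ^ (k + 1 + 2) =
        (Ideal.span {x, y}) ^ (k + 2) * Ideal.span {x, y} := by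
      rw [← pow_succ]
    rw [e]
    refine (Ideal.mul_mono_left ih).trans ?_
    rw [Ideal.sup_mul]
    refine sup_le ?_ ?_
    · rw [Ideal.span_pair_mul_span_pair, Ideal.span_le]
      intro z hz
      simp only [Set.mem_insert_iff, Set.mem_singleton_iff] at hz
      rcases hz with rfl | rfl | rfl | rfl
      · refine Ideal.mem_sup_left (Ideal.subset_span ?_)
        have : y ^ (k + 2) * x = x * y ^ (k + 1 + 1) := by ring
        rw [this]; simp
      · refine Ideal.mem_sup_left (Ideal.subset_span ?_)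
        have : y ^ (k + 2) * y = y ^ (k + 1 + 2) := by ring
        rw [this]; simp
      · refine Ideal.mem_sup_right ?_
        have : x * y ^ (k + 1) * x = x ^ 2 * y ^ (k + 1) := by ring
        rw [this]
        exact Ideal.mul_mem_mul (Ideal.subset_span rfl)
          (Ideal.pow_mem_pow (Ideal.subset_span (by simp)) _)
      · refine Ideal.mem_sup_left (Ideal.subset_span ?_)
        have : x * y ^ (k + 1) * y = x * y ^ (k + 1 + 1) := by ring
        rw [this]; simp
    · rw [mul_assoc, ← pow_succ]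
      exact le_sup_right

theorem pair_pow_le (e Y : A) (he : e * e = 0) (n : ℕ) :
    (Ideal.span {e, Y}) ^ (n + 1) ≤ Ideal.span {Y ^ (n + 1), e * Y ^ n} := by
  induction n with
  | zero =>
    rw [zero_add, pow_one, Ideal.span_le]
    intro z hz
    simp only [Set.mem_insert_iff, Set.mem_singleton_iff] at hz
    rcases hz with rfl | rfl
    · exact Ideal.subset_span (by simp)
    · exact Ideal.subset_span (by simp)
  | succ n ih =>
    rw [pow_succ]
    refine (Ideal.mul_mono_left ih).trans ?_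
    rw [Ideal.span_pair_mul_span_pair, Ideal.span_le]
    intro z hz
    simp only [Set.mem_insert_iff, Set.mem_singleton_iff] at hz
    rcases hz with rfl | rfl | rfl | rfl
    · rw [mul_comm]; exact Ideal.subset_span (by simp)
    · rw [← pow_succ]; exact Ideal.subset_span (by simp)
    · have : e * Y ^ n * e = 0 := by
        rw [mul_comm (e * Y ^ n), ← mul_assoc, he, zero_mul]
      rw [this]; exact zero_mem _
    · rw [mul_assoc, ← pow_succ]; exact Ideal.subset_span (by simp)

theorem nakayama_pair (M I : Ideal A) (x y : A) (hM : M ≤ Ideal.jacobson ⊥) (hMfg : M.FG)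
    (hIfg : I.FG) (hx : x ∈ M) (hy : y ∈ M) (hMP : M ≤ Ideal.span {x, y} ⊔ I)
    (hx2 : x ^ 2 ∈ M ^ 3 ⊔ I) (k : ℕ) :
    M ^ (k + 2) ⊔ I = Ideal.span {y ^ (k + 2), x * y ^ (k + 1)} ⊔ I := by
  have hPM : Ideal.span {x, y} ≤ M := by
    rw [Ideal.span_le]; intro z hz
    simp only [Set.mem_insert_iff, Set.mem_singleton_iff] at hz
    rcases hz with rfl | rfl <;> assumption
  apply le_antisymm
  · have hfg : (M ^ (k + 2) ⊔ I).FG := Submodule.FG.sup (Ideal.FG.pow hMfg) hIfg
    refine Submodule.le_of_le_smul_of_le_jacobson_bot hfg hM ?_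
    refine sup_le ?_ (le_sup_of_le_left le_sup_right)
    calc M ^ (k + 2) ≤ (Ideal.span {x, y} ⊔ I) ^ (k + 2) := Ideal.pow_right_mono hMP _
      _ ≤ (Ideal.span {x, y}) ^ (k + 2) ⊔ I := sup_pow_le _ _ _
      _ ≤ (Ideal.span {y ^ (k + 2), x * y ^ (k + 1)} ⊔
            Ideal.span {x ^ 2} * (Ideal.span {x, y}) ^ k) ⊔ I :=
          sup_le_sup_right (pair_pow_le_sq x y k) I
      _ ≤ _ := by
        refine sup_le (sup_le (le_sup_of_le_left le_sup_left) ?_)
          (le_sup_of_le_left le_sup_right)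
        calc Ideal.span {x ^ 2} * (Ideal.span {x, y}) ^ k ≤ (M ^ 3 ⊔ I) * M ^ k :=
              Ideal.mul_mono (Ideal.span_le.2 (Set.singleton_subset_iff.2 hx2))
                (Ideal.pow_right_mono hPM k)
          _ ≤ M ^ 3 * M ^ k ⊔ I := sup_mul_le _ _ _
          _ ≤ _ := by
            refine sup_le ?_ (le_sup_of_le_left le_sup_right)
            refine le_sup_of_le_right ?_
            show M ^ 3 * M ^ k ≤ M * (M ^ (k + 2) ⊔ I)
            rw [← pow_add]
            have e : 3 + k = 1 + (k + 2) := by ring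
            rw [e, pow_add, pow_one]
            exact Ideal.mul_mono_right le_sup_left
  · refine sup_le ?_ le_sup_right
    refine le_sup_of_le_left ?_
    rw [Ideal.span_le]; intro z hz
    simp only [Set.mem_insert_iff, Set.mem_singleton_iff] at hz
    rcases hz with rfl | rfl
    · exact Ideal.pow_mem_pow hy _
    · have e : M ^ (k + 2) = M * M ^ (k + 1) := by
        rw [← pow_succ']
      rw [SetLike.mem_coe, e]
      exact Ideal.mul_mem_mul hx (Ideal.pow_mem_pow hy _)

end general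

section concrete
variable (R : Type u) [CommRing R] [IsDomain R] [IsDiscreteValuationRing R]

local notation "K" => algebraMap R (MvPowerSeries (Fin 2) R)

theorem part1 (ϖ : R) (hϖ : Irreducible ϖ) (v' : ℕ) (u₁ u₆ : Rˣ) (c : R)
    (h2 : (2 : R) = c * ϖ ^ (v' + 1))
    (x y : MvPowerSeries (Fin 2) R) (hx0 : constantCoeff x = 0) (hy0 : constantCoeff y = 0)
    (I M : Ideal (MvPowerSeries (Fin 2) R))
    (hI : I = Ideal.span {y ^ 2 + ((u₁ : R) * ϖ ^ (v' + 1)) • (x * y) - x ^ 3
        - K ((u₆ : R) * ϖ),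
      2 * y + ((u₁ : R) * ϖ ^ (v' + 1)) • x, 3 * x ^ 2 - ((u₁ : R) * ϖ ^ (v' + 1)) • y})
    (hM : M = Ideal.span {K ϖ, x, y}) (k : ℕ) :
    M ^ (k + 2) ⊔ I = Ideal.span {y ^ (k + 2), x * y ^ (k + 1)} ⊔ I := by
  have hxM : x ∈ M := by rw [hM]; exact Ideal.subset_span (by simp)
  have hyM : y ∈ M := by rw [hM]; exact Ideal.subset_span (by simp)
  have hF : y ^ 2 + ((u₁ : R) * ϖ ^ (v' + 1)) • (x * y) - x ^ 3 - K ((u₆ : R) * ϖ) ∈ I := by
    rw [hI]; exact Ideal.subset_span (by simp)
  have hFx : 3 * x ^ 2 - ((u₁ : R) * ϖ ^ (v' + 1)) • y ∈ I := by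
    rw [hI]; exact Ideal.subset_span (by simp)
  have hMfg : M.FG := by
    rw [hM]; exact Submodule.fg_span (((Set.finite_singleton _).insert _).insert _)
  have hIfg : I.FG := by
    rw [hI]; exact Submodule.fg_span (((Set.finite_singleton _).insert _).insert _)
  have hjac : M ≤ Ideal.jacobson ⊥ := by
    rw [IsLocalRing.jacobson_eq_maximalIdeal ⊥ bot_ne_top, hM, Ideal.span_le]
    intro z hz
    simp only [Set.mem_insert_iff, Set.mem_singleton_iff] at hz
    rw [SetLike.mem_coe, IsLocalRing.mem_maximalIdeal, mem_nonunits_iff,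
      MvPowerSeries.isUnit_iff_constantCoeff]
    rcases hz with rfl | rfl | rfl
    · rw [MvPowerSeries.algebraMap_apply, MvPowerSeries.constantCoeff_C]
      exact hϖ.not_isUnit
    · rw [hx0]; exact not_isUnit_zero
    · rw [hy0]; exact not_isUnit_zero
  have hE : IsUnit (K (u₆ : R) - K ((u₁ : R) * ϖ ^ v') * (x * y)) := by
    rw [MvPowerSeries.isUnit_iff_constantCoeff]
    have : constantCoeff (K (u₆ : R) - K ((u₁ : R) * ϖ ^ v') * (x * y)) = (u₆ : R) := by
      simp [hx0, MvPowerSeries.algebraMap_apply]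
    rw [this]; exact u₆.isUnit
  have hF4 : K ϖ * (K (u₆ : R) - K ((u₁ : R) * ϖ ^ v') * (x * y)) =
      y ^ 2 - x ^ 3 - (y ^ 2 + ((u₁ : R) * ϖ ^ (v' + 1)) • (x * y) - x ^ 3 - K ((u₆ : R) * ϖ)) := by
    simp only [Algebra.smul_def, map_mul, map_pow]
    ring
  have hϖP : K ϖ ∈ (Ideal.span {x, y}) ^ 2 ⊔ I := by
    obtain ⟨Eu, hEu⟩ := hE
    have e : K ϖ = ↑Eu⁻¹ * (K ϖ * ↑Eu) := by
      rw [mul_comm (K ϖ), ← mul_assoc, Units.inv_mul, one_mul]
    rw [e, hEu, hF4]
    refine Ideal.mul_mem_left _ _ (sub_mem (sub_mem ?_ ?_) (Ideal.mem_sup_right hF))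
    · exact Ideal.mem_sup_left (Ideal.pow_mem_pow (Ideal.subset_span (by simp)) 2)
    · have : x ^ 3 = x * x ^ 2 := by ring
      rw [this]
      exact Ideal.mem_sup_left (Ideal.mul_mem_left _ _
        (Ideal.pow_mem_pow (Ideal.subset_span (by simp)) 2))
  have hPM : Ideal.span {x, y} ≤ M := by
    rw [Ideal.span_le]; intro z hz
    simp only [Set.mem_insert_iff, Set.mem_singleton_iff] at hz
    rcases hz with rfl | rfl <;> assumption
  have hMP : M ≤ Ideal.span {x, y} ⊔ I := by
    rw [hM, Ideal.span_le]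
    intro z hz
    simp only [Set.mem_insert_iff, Set.mem_singleton_iff] at hz
    rcases hz with rfl | rfl | rfl
    · exact (sup_le_sup_right (Ideal.pow_le_self two_ne_zero) I) hϖP
    · exact Ideal.mem_sup_left (Ideal.subset_span (by simp))
    · exact Ideal.mem_sup_left (Ideal.subset_span (by simp))
  have h3 : IsUnit (3 : R) := by
    by_contra h
    have h3m : (3 : R) ∈ IsLocalRing.maximalIdeal R := (IsLocalRing.mem_maximalIdeal _).2 h
    have h2m : (2 : R) ∈ IsLocalRing.maximalIdeal R := by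
      rw [hϖ.maximalIdeal_eq, h2]
      have hϖm : ϖ ∈ Ideal.span {ϖ} := Ideal.subset_span (Set.mem_singleton _)
      exact Ideal.mul_mem_left _ _ (Ideal.pow_mem_of_mem _ hϖm _ (Nat.succ_pos _))
    have h1 : (1 : R) ∈ IsLocalRing.maximalIdeal R := by
      have e : (1 : R) = 3 - 2 := by ring
      rw [e]; exact sub_mem h3m h2m
    exact (IsLocalRing.maximalIdeal.isMaximal R).ne_top ((Ideal.eq_top_iff_one _).2 h1)
  have hϖM2 : K ϖ ∈ M ^ 2 ⊔ I := (sup_le_sup_right (Ideal.pow_right_mono hPM 2) I) hϖP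
  have hx2 : x ^ 2 ∈ M ^ (2 * (v' + 1) + 1) ⊔ I := by
    obtain ⟨w₃, hw₃⟩ := h3
    have h3S : (3 : MvPowerSeries (Fin 2) R) = K (w₃ : R) := by rw [hw₃, map_ofNat]
    have e : x ^ 2 = K ((w₃⁻¹ : Rˣ) : R) * ((3 * x ^ 2 - ((u₁ : R) * ϖ ^ (v' + 1)) • y) +
        K (u₁ : R) * (K ϖ ^ (v' + 1) * y)) := by
      simp only [Algebra.smul_def, map_mul, map_pow]
      rw [h3S]
      have : K ((w₃⁻¹ : Rˣ) : R) * K (w₃ : R) = 1 := by
        rw [← map_mul, Units.inv_mul, map_one]
      linear_combination (-(x ^ 2)) * this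
    rw [e]
    refine Ideal.mul_mem_left _ _ (add_mem (Ideal.mem_sup_right hFx)
      (Ideal.mul_mem_left _ _ ?_))
    have h1 : K ϖ ^ (v' + 1) ∈ (M ^ 2 ⊔ I) ^ (v' + 1) := Ideal.pow_mem_pow hϖM2 _
    have h2' : K ϖ ^ (v' + 1) ∈ M ^ (2 * (v' + 1)) ⊔ I := by
      have := sup_pow_le (M ^ 2) I (v' + 1) h1
      rwa [← pow_mul] at this
    have h3' : K ϖ ^ (v' + 1) * y ∈ (M ^ (2 * (v' + 1)) ⊔ I) * M := Ideal.mul_mem_mul h2' hyM
    have := sup_mul_le _ _ _ h3'
    rwa [← pow_succ] at this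
  have hx2' : x ^ 2 ∈ M ^ 3 ⊔ I :=
    (sup_le_sup_right (Ideal.pow_le_pow_right (by omega)) I) hx2
  exact nakayama_pair M I x y hjac hMfg hIfg hxM hyM hMP hx2' k

end concrete

end Groth.Agent.Lib.Helper4.WeierChar2
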