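import Mathlib
import Groth.Agent.Lib.Helper4.WeierChar2

set_option autoImplicit false
set_option linter.style.haveILetI false
set_option linter.unusedSectionVars false
set_option linter.unusedVariables false
set_option linter.unusedSimpArgs false
set_option maxHeartbeats 1600000
set_option maxSynthPendingDepth 3

universe u

namespace Groth.Agent.Lib.Helper4.WeierChar2

open MvPowerSeries

section model
variable (R : Type u) [CommRing R] (α q : R)

abbrev T0 := QuadraticAlgebra (QuadraticAlgebra R α 0) 0 0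

def Yt : T0 R α := ⟨⟨0, 1⟩, 0⟩
def eps : T0 R α := ⟨0, 1⟩

local notation "K'" => algebraMap R (T0 R α)

theorem algebraMap_T0 (r : R) : K' r = ⟨⟨r, 0⟩, 0⟩ := rfl

theorem eps_mul_eps : eps R α * eps R α = 0 := by
  refine QuadraticAlgebra.ext (QuadraticAlgebra.ext ?_ ?_) (QuadraticAlgebra.ext ?_ ?_) <;>
    simp [eps]

theorem Yt_mul_Yt : Yt R α * Yt R α = K' α := by
  rw [algebraMap_T0]
  refine QuadraticAlgebra.ext (QuadraticAlgebra.ext ?_ ?_) (QuadraticAlgebra.ext ?_ ?_) <;>
    simp [Yt]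

theorem Yt_pow_even (n : ℕ) : Yt R α ^ (2 * n) = K' (α ^ n) := by
  rw [pow_mul, pow_two, Yt_mul_Yt, map_pow]

theorem Yt_pow_odd (n : ℕ) : Yt R α ^ (2 * n + 1) = K' (α ^ n) * Yt R α := by
  rw [pow_succ, Yt_pow_even]

abbrev nIdeal : Ideal (T0 R α) :=
  Ideal.span {K' q * Yt R α, K' q * eps R α}

abbrev TT := T0 R α ⧸ nIdeal R α q

local notation "π" => Ideal.Quotient.mk (nIdeal R α q)

noncomputable def aFam : Fin 2 → MvPowerSeries Unit (TT R α q) :=
  ![MvPowerSeries.C (π (eps R α)), MvPowerSeries.C (π (Yt R α))]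

theorem Yt_pow_mem (N : ℕ) (w : R) (hw : α ^ N = w * q) :
    Yt R α ^ (2 * N + 1) ∈ nIdeal R α q := by
  rw [Yt_pow_odd, hw, map_mul, mul_assoc]
  exact Ideal.mul_mem_left _ _ (Ideal.subset_span (by simp))

theorem eps_Yt_pow_mem (N : ℕ) (w : R) (hw : α ^ N = w * q) :
    eps R α * Yt R α ^ (2 * N) ∈ nIdeal R α q := by
  rw [Yt_pow_even, hw, map_mul]
  have : eps R α * (K' w * K' q) = K' w * (K' q * eps R α) := by ring
  rw [this]
  exact Ideal.mul_mem_left _ _ (Ideal.subset_span (by simp))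

theorem hasSubst_aFam (N : ℕ) (w : R) (hw : α ^ N = w * q) :
    MvPowerSeries.HasSubst (aFam R α q) := by
  apply MvPowerSeries.hasSubst_of_constantCoeff_nilpotent
  intro s
  fin_cases s
  · refine ⟨2, ?_⟩
    show MvPowerSeries.constantCoeff (MvPowerSeries.C (π (eps R α))) ^ 2 = 0
    rw [MvPowerSeries.constantCoeff_C, ← map_pow, pow_two, eps_mul_eps, map_zero]
  · refine ⟨2 * N + 1, ?_⟩
    show MvPowerSeries.constantCoeff (MvPowerSeries.C (π (Yt R α))) ^ (2 * N + 1) = 0
    rw [MvPowerSeries.constantCoeff_C, ← map_pow]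
    exact Ideal.Quotient.eq_zero_iff_mem.2 (Yt_pow_mem R α q N w hw)

noncomputable def ev (h : MvPowerSeries.HasSubst (aFam R α q)) :
    MvPowerSeries (Fin 2) R →+* TT R α q :=
  (MvPowerSeries.constantCoeff (σ := Unit) (R := TT R α q)).comp
    ((MvPowerSeries.substAlgHom (R := R) h :
      MvPowerSeries (Fin 2) R →ₐ[R] MvPowerSeries Unit (TT R α q)) :
        MvPowerSeries (Fin 2) R →+* MvPowerSeries Unit (TT R α q))

variable {R α q}

theorem ev_X0 (h : MvPowerSeries.HasSubst (aFam R α q)) :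
    ev R α q h (X 0) = π (eps R α) := by
  show MvPowerSeries.constantCoeff (MvPowerSeries.substAlgHom (R := R) h (X 0)) = _
  rw [MvPowerSeries.substAlgHom_X]
  rfl

theorem ev_X1 (h : MvPowerSeries.HasSubst (aFam R α q)) :
    ev R α q h (X 1) = π (Yt R α) := by
  show MvPowerSeries.constantCoeff (MvPowerSeries.substAlgHom (R := R) h (X 1)) = _
  rw [MvPowerSeries.substAlgHom_X]
  rfl

theorem ev_alg (h : MvPowerSeries.HasSubst (aFam R α q)) (r : R) :
    ev R α q h (algebraMap R (MvPowerSeries (Fin 2) R) r) = π (K' r) := by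
  show MvPowerSeries.constantCoeff (MvPowerSeries.substAlgHom (R := R) h
    (algebraMap R (MvPowerSeries (Fin 2) R) r)) = _
  rw [AlgHom.commutes, MvPowerSeries.algebraMap_apply, MvPowerSeries.constantCoeff_C]
  rfl

theorem ker_ev (h : MvPowerSeries.HasSubst (aFam R α q)) (ϖ u₁ c w' w : R) (N : ℕ)
    (h2 : (2 : R) = c * q) (hw' : ϖ = w' * α) (hw : α ^ N = w * q)
    (I M : Ideal (MvPowerSeries (Fin 2) R))
    (hI : I = Ideal.span {(X 1 : MvPowerSeries (Fin 2) R) ^ 2 + (u₁ * q) • (X 0 * X 1) - X 0 ^ 3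
        - algebraMap R (MvPowerSeries (Fin 2) R) α,
      2 * X 1 + (u₁ * q) • X 0, 3 * X 0 ^ 2 - (u₁ * q) • X 1})
    (hM : M = Ideal.span {algebraMap R (MvPowerSeries (Fin 2) R) ϖ, X 0, X 1}) :
    M ^ (2 * N + 1) ⊔ I ≤ RingHom.ker (ev R α q h) := by
  refine sup_le ?_ ?_
  · rw [RingHom.ker_eq_comap_bot, ← Ideal.map_le_iff_le_comap, Ideal.map_pow, hM, Ideal.map_span]
    have himg : (ev R α q h) '' {algebraMap R (MvPowerSeries (Fin 2) R) ϖ, X 0, X 1} =
        {π (K' ϖ), π (eps R α), π (Yt R α)} := by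
      simp only [Set.image_insert_eq, Set.image_singleton, ev_X0, ev_X1, ev_alg]
    rw [himg]
    have hle : Ideal.span {π (K' ϖ), π (eps R α), π (Yt R α)} ≤
        Ideal.span {π (eps R α), π (Yt R α)} := by
      rw [Ideal.span_le]; intro z hz
      simp only [Set.mem_insert_iff, Set.mem_singleton_iff] at hz
      rcases hz with rfl | rfl | rfl
      · have : π (K' ϖ) = π (K' w' * Yt R α) * π (Yt R α) := by
          rw [← map_mul, mul_assoc, Yt_mul_Yt, ← map_mul, ← hw']
        rw [this]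
        exact Ideal.mul_mem_left _ _ (Ideal.subset_span (by simp))
      · exact Ideal.subset_span (by simp)
      · exact Ideal.subset_span (by simp)
    refine (Ideal.pow_right_mono hle _).trans ?_
    refine (pair_pow_le (π (eps R α)) (π (Yt R α))
      (by rw [← map_mul, eps_mul_eps, map_zero]) (2 * N)).trans ?_
    rw [Ideal.span_le]; intro z hz
    simp only [Set.mem_insert_iff, Set.mem_singleton_iff] at hz
    simp only [SetLike.mem_coe, Ideal.mem_bot]
    rcases hz with rfl | rfl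
    · rw [← map_pow]
      exact Ideal.Quotient.eq_zero_iff_mem.2 (Yt_pow_mem R α q N w hw)
    · rw [← map_pow, ← map_mul]
      exact Ideal.Quotient.eq_zero_iff_mem.2 (eps_Yt_pow_mem R α q N w hw)
  · rw [hI, Ideal.span_le]
    intro z hz
    simp only [Set.mem_insert_iff, Set.mem_singleton_iff] at hz
    rw [SetLike.mem_coe, RingHom.mem_ker]
    rcases hz with rfl | rfl | rfl
    · have : ev R α q h ((X 1 : MvPowerSeries (Fin 2) R) ^ 2 + (u₁ * q) • (X 0 * X 1) - X 0 ^ 3
          - algebraMap R (MvPowerSeries (Fin 2) R) α) =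
          π (Yt R α ^ 2 + K' (u₁ * q) * (eps R α * Yt R α) - eps R α ^ 3 - K' α) := by
        simp only [Algebra.smul_def, map_add, map_sub, map_mul, map_pow, ev_X0, ev_X1, ev_alg]
      rw [this, Ideal.Quotient.eq_zero_iff_mem]
      have e : Yt R α ^ 2 + K' (u₁ * q) * (eps R α * Yt R α) - eps R α ^ 3 - K' α =
          (K' u₁ * Yt R α) * (K' q * eps R α) := by
        have h3 : eps R α ^ 3 = 0 := by rw [pow_succ, pow_two, eps_mul_eps, zero_mul]
        rw [pow_two, Yt_mul_Yt, h3, map_mul]; ring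
      rw [e]; exact Ideal.mul_mem_left _ _ (Ideal.subset_span (by simp))
    · have : ev R α q h (2 * X 1 + (u₁ * q) • X 0) =
          π (2 * Yt R α + K' (u₁ * q) * eps R α) := by
        simp only [Algebra.smul_def, map_add, map_sub, map_mul, map_pow, map_ofNat,
          ev_X0, ev_X1, ev_alg]
      rw [this, Ideal.Quotient.eq_zero_iff_mem]
      have h2T : (2 : T0 R α) = K' (c * q) := by rw [← h2, map_ofNat]
      have e : 2 * Yt R α + K' (u₁ * q) * eps R α =
          K' c * (K' q * Yt R α) + K' u₁ * (K' q * eps R α) := by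
        rw [h2T, map_mul, map_mul]; ring
      rw [e]
      exact add_mem (Ideal.mul_mem_left _ _ (Ideal.subset_span (by simp)))
        (Ideal.mul_mem_left _ _ (Ideal.subset_span (by simp)))
    · have : ev R α q h (3 * X 0 ^ 2 - (u₁ * q) • X 1) =
          π (3 * eps R α ^ 2 - K' (u₁ * q) * Yt R α) := by
        simp only [Algebra.smul_def, map_add, map_sub, map_mul, map_pow, map_ofNat,
          ev_X0, ev_X1, ev_alg]
      rw [this, Ideal.Quotient.eq_zero_iff_mem]
      have e : 3 * eps R α ^ 2 - K' (u₁ * q) * Yt R α = (-(K' u₁)) * (K' q * Yt R α) := by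
        rw [pow_two, eps_mul_eps, map_mul]; ring
      rw [e]; exact Ideal.mul_mem_left _ _ (Ideal.subset_span (by simp))

theorem coeff_extract (h : MvPowerSeries.HasSubst (aFam R α q)) (v' : ℕ) (a b : R)
    (hab : a • (X 1 : MvPowerSeries (Fin 2) R) ^ (2 * (v' + 1)) + b • (X 0 * X 1 ^ (2 * v' + 1)) ∈
      RingHom.ker (ev R α q h)) :
    ∃ p s : R, α * p * q = a * α ^ (v' + 1) ∧ s * q = b * α ^ v' := by
  rw [RingHom.mem_ker] at hab
  have : ev R α q h (a • (X 1 : MvPowerSeries (Fin 2) R) ^ (2 * (v' + 1)) +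
      b • (X 0 * X 1 ^ (2 * v' + 1))) =
      π (K' a * Yt R α ^ (2 * (v' + 1)) + K' b * (eps R α * Yt R α ^ (2 * v' + 1))) := by
    simp only [Algebra.smul_def, map_add, map_mul, map_pow, ev_X0, ev_X1, ev_alg]
  rw [this, Ideal.Quotient.eq_zero_iff_mem, Ideal.mem_span_pair] at hab
  obtain ⟨c₁, c₂, hc⟩ := hab
  rw [Yt_pow_even, Yt_pow_odd] at hc
  obtain ⟨⟨p₀, p₁⟩, ⟨p₂, p₃⟩⟩ := c₁
  obtain ⟨⟨r₀, r₁⟩, ⟨r₂, r₃⟩⟩ := c₂
  have h1 := congrArg (fun z => z.re.re) hc
  have h2 := congrArg (fun z => z.im.im) hc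
  simp [algebraMap_T0, Yt, eps] at h1 h2
  exact ⟨p₁, p₂ + r₁, by linear_combination h1, by linear_combination h2⟩

end model

end Groth.Agent.Lib.Helper4.WeierChar2
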