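import Mathlib
import Groth.Agent.Lib.Helper4.WeierChar2b

set_option autoImplicit false
set_option linter.style.haveILetI false
set_option linter.unusedSectionVars false
set_option linter.unusedVariables false
set_option linter.unusedSimpArgs false
set_option maxHeartbeats 1600000
set_option maxSynthPendingDepth 3

universe u

namespace Groth.Agent.Lib.Helper4.WeierChar2

open MvPowerSeries

theorem main (R : Type u) [CommRing R] [IsDomain R] [IsDiscreteValuationRing R]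
    (ϖ a₁ a₆ : R) (hϖ : Irreducible ϖ) (v : ℕ) (hv : 1 ≤ v) (u₁ u₆ : Rˣ)
    (ha₁ : a₁ = u₁ * ϖ ^ v) (ha₆ : a₆ = u₆ * ϖ)
    (h2 : (2 : R) ∈ IsLocalRing.maximalIdeal R ^ v)
    (x y : MvPowerSeries (Fin 2) R) (hx : x = MvPowerSeries.X 0) (hy : y = MvPowerSeries.X 1)
    (I M : Ideal (MvPowerSeries (Fin 2) R))
    (hI : I = Ideal.span {y ^ 2 + a₁ • (x * y) - x ^ 3 - algebraMap R (MvPowerSeries (Fin 2) R) a₆,
      2 * y + a₁ • x, 3 * x ^ 2 - a₁ • y})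
    (hM : M = Ideal.span {algebraMap R (MvPowerSeries (Fin 2) R) ϖ, x, y}) :
    M ^ (2 * v) ⊔ I = Ideal.span {y ^ (2 * v), x * y ^ (2 * v - 1)} ⊔ I ∧
      ∀ a b : R, a • y ^ (2 * v) + b • (x * y ^ (2 * v - 1)) ∈ M ^ (2 * v + 1) ⊔ I →
        a ∈ IsLocalRing.maximalIdeal R ∧ b ∈ IsLocalRing.maximalIdeal R := by
  obtain ⟨v', rfl⟩ : ∃ v', v = v' + 1 := ⟨v - 1, by omega⟩
  obtain ⟨c, hc⟩ : ∃ c, (2 : R) = c * ϖ ^ (v' + 1) := by
    rw [hϖ.maximalIdeal_eq, Ideal.span_singleton_pow, Ideal.mem_span_singleton'] at h2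
    obtain ⟨c, hc⟩ := h2
    exact ⟨c, hc.symm⟩
  subst ha₁ ha₆
  have e2 : 2 * (v' + 1) - 1 = 2 * v' + 1 := by omega
  rw [e2]
  refine ⟨?_, ?_⟩
  · have e1 : 2 * (v' + 1) = 2 * v' + 2 := by ring
    rw [e1]
    exact part1 R ϖ hϖ v' u₁ u₆ c hc x y (by rw [hx]; simp) (by rw [hy]; simp) I M hI hM (2 * v')
  · intro a b hab
    subst hx hy
    have hw : ((u₆ : R) * ϖ) ^ (v' + 1) = (u₆ : R) ^ (v' + 1) * ϖ ^ (v' + 1) := mul_pow _ _ _
    have hw' : ϖ = ((u₆⁻¹ : Rˣ) : R) * ((u₆ : R) * ϖ) := by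
      rw [← mul_assoc, Units.inv_mul, one_mul]
    have h := hasSubst_aFam R ((u₆ : R) * ϖ) (ϖ ^ (v' + 1)) (v' + 1) ((u₆ : R) ^ (v' + 1)) hw
    have hker := ker_ev h ϖ (u₁ : R) c ((u₆⁻¹ : Rˣ) : R) ((u₆ : R) ^ (v' + 1)) (v' + 1) hc hw' hw
      I M hI hM
    obtain ⟨p, s, hp, hs⟩ := coeff_extract h v' a b (hker hab)
    rw [hϖ.maximalIdeal_eq]
    have hϖ0 : ϖ ≠ 0 := hϖ.ne_zero
    constructor
    · have e : ϖ ^ (v' + 1) * (a * (u₆ : R) ^ (v' + 1)) = ϖ ^ (v' + 1) * (ϖ * ((u₆ : R) * p)) := by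
        rw [mul_pow] at hp
        linear_combination -hp
      have e' := mul_left_cancel₀ (pow_ne_zero _ hϖ0) e
      refine (Ideal.mul_unit_mem_iff_mem _ (u₆.isUnit.pow (v' + 1))).1 ?_
      rw [e']
      exact Ideal.mul_mem_right _ _ (Ideal.subset_span (Set.mem_singleton _))
    · have e : ϖ ^ v' * (b * (u₆ : R) ^ v') = ϖ ^ v' * (ϖ * s) := by
        rw [mul_pow] at hs
        linear_combination -hs
      have e' := mul_left_cancel₀ (pow_ne_zero _ hϖ0) e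
      refine (Ideal.mul_unit_mem_iff_mem _ (u₆.isUnit.pow v')).1 ?_
      rw [e']
      exact Ideal.mul_mem_right _ _ (Ideal.subset_span (Set.mem_singleton _))

end Groth.Agent.Lib.Helper4.WeierChar2
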