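import Mathlib
import Groth.Agent.Lib.Helper19.GalEtB
import Groth.Agent.Lib.Helper26.RegularRing
import Groth.Agent.Lib.Helper9.RegLocal

/-!
# Regularity of the invariant ring away from the ramified locus

Galois data at primes with trivial inertia (following `Helper19.GalEt`, which treats maximal ideals
with trivial stabilizer), flatness of the localisation over the invariants, and flat descent of
regularity.
-/

set_option autoImplicit false
set_option linter.style.haveILetI false
set_option linter.unusedSectionVars false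
set_option linter.unusedVariables false
set_option linter.unusedSimpArgs false
set_option maxHeartbeats 1600000
set_option maxSynthPendingDepth 3

open scoped TensorProduct Pointwise

namespace Groth.Agent.Lib.Helper4.WildReg

open Groth.Agent.Lib.Helper19.GalEt

universe u v w

section Datum

variable {B : Type u} {R : Type v} {G : Type w} [CommRing B] [CommRing R] [Algebra B R]
  [Group G] [MulSemiringAction G R] [SMulCommClass G B R]

theorem not_J_le_of_inertia (Q : Ideal R) (hin : Q.inertia G = ⊥) (g : G) (hg : g ≠ 1) (h : G) :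
    ¬ (J B g ≤ h • Q) := by
  intro hle
  have key : ∀ y : R, (h⁻¹ * g * h) • y - y ∈ Q := by
    intro y
    have h1 : h • y - g • h • y ∈ h • Q := hle (sub_smul_mem_J B g (h • y))
    rw [Ideal.mem_pointwise_smul_iff_inv_smul_mem] at h1
    have h2 : h⁻¹ • (h • y - g • h • y) = y - (h⁻¹ * g * h) • y := by
      rw [smul_sub, inv_smul_smul, mul_smul, mul_smul]
    rw [h2] at h1
    have h3 := Q.neg_mem h1
    rwa [neg_sub] at h3
  have hmem : (h⁻¹ * g * h) ∈ Q.inertia G :=
    AddSubgroup.mem_inertia.mpr (fun y => (Submodule.mem_toAddSubgroup _).mpr (key y))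
  rw [hin, Subgroup.mem_bot] at hmem
  apply hg
  calc g = h * (h⁻¹ * g * h) * h⁻¹ := by group
    _ = 1 := by rw [hmem]; group

variable [Finite G] [Algebra.IsInvariant B R G]

theorem exists_f_of_inertia (Q : Ideal R) [Q.IsPrime] (hin : Q.inertia G = ⊥) (g : G)
    (hg : g ≠ 1) :
    ∃ (f : B) (e : R ⊗[B] R), algebraMap B R f ∉ Q ∧ phi (1 : G) e = algebraMap B R f ∧
      phi g e = 0 := by
  haveI : Algebra.IsIntegral B R := Algebra.IsInvariant.isIntegral B R G
  have hnle : ¬ (Ideal.comap (algebraMap B R) (J B g) ≤ Ideal.comap (algebraMap B R) Q) := by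
    intro hle
    obtain ⟨Q', hQJ, hQp, hQm⟩ := Ideal.exists_ideal_over_prime_of_isIntegral
      (Ideal.comap (algebraMap B R) Q) (J B g) hle
    haveI := hQp
    obtain ⟨h, hh⟩ := Algebra.IsInvariant.exists_smul_of_under_eq B R G Q Q'
      (by rw [Ideal.under_def, Ideal.under_def, hQm])
    exact not_J_le_of_inertia Q hin g hg h (hh ▸ hQJ)
  obtain ⟨f, hfJ, hfm⟩ := SetLike.not_le_iff_exists.mp hnle
  obtain ⟨e, heg, he1⟩ := (mem_J B).mp (Ideal.mem_comap.mp hfJ)
  exact ⟨f, e, fun h => hfm (Ideal.mem_comap.mpr h), he1, heg⟩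

theorem exists_datum_of_inertia (Q : Ideal R) [Q.IsPrime] (hin : Q.inertia G = ⊥) :
    ∃ (f : B) (e : R ⊗[B] R), algebraMap B R f ∉ Q ∧ phi (1 : G) e = algebraMap B R f ∧
      ∀ g : G, g ≠ 1 → phi g e = 0 := by
  classical
  cases nonempty_fintype G
  have h : ∀ g : G, ∃ fe : B × (R ⊗[B] R), algebraMap B R fe.1 ∉ Q ∧
      phi (1 : G) fe.2 = algebraMap B R fe.1 ∧ (g ≠ 1 → phi g fe.2 = 0) := by
    intro g
    by_cases hg : g = 1
    · refine ⟨(1, 1), ?_, ?_, fun h => absurd hg h⟩
      · rw [map_one]
        exact (Ideal.ne_top_iff_one Q).mp (Ideal.IsPrime.ne_top inferInstance)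
      · rw [map_one, map_one]
    · obtain ⟨f, e, h1, h2, h3⟩ := exists_f_of_inertia (B := B) Q hin g hg
      exact ⟨(f, e), h1, h2, fun _ => h3⟩
  choose fe h1 h2 h3 using h
  refine ⟨∏ g, (fe g).1, ∏ g, (fe g).2, ?_, ?_, ?_⟩
  · rw [map_prod]
    intro hmem
    obtain ⟨g, -, hg⟩ := Ideal.IsPrime.prod_mem_iff.mp hmem
    exact h1 g hg
  · rw [map_prod, map_prod]
    exact Finset.prod_congr rfl fun g _ => h2 g
  · intro g hg
    rw [map_prod]
    exact Finset.prod_eq_zero (Finset.mem_univ g) (h3 g hg)

/-- Variant of `Helper19.GalEt.flat_of_datum` for an arbitrary localisation in which `f` becomes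
invertible. -/
theorem flat_of_datum' [Fintype G] [IsDomain R]
    (hinj : Function.Injective (algebraMap B R)) {f : B}
    {K : ℕ} {x y : Fin K → R}
    (he1 : ∑ i, x i * y i = algebraMap B R f)
    (heg : ∀ g : G, g ≠ 1 → ∑ i, x i * g • y i = 0)
    (M : Submonoid R) (hfM : algebraMap B R f ∈ M) (hM : M ≤ nonZeroDivisors R)
    (S : Type*) [CommRing S] [Algebra R S] [Algebra B S] [IsScalarTower B R S]
    [IsLocalization M S] : Module.Flat B S := by
  classical
  obtain ⟨tr, htr⟩ := exists_tr (B := B) (R := R) (G := G)
  have hI1 := fun r => key1 (G := G) he1 heg htr r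
  rw [Module.Flat.iff_forall_isTrivialRelation]
  intro l b m hbm
  obtain ⟨c, hc⟩ := IsLocalization.exist_integer_multiples_of_finset M (Finset.univ.image m)
  have hc' : ∀ j, ∃ r : R, algebraMap R S r = (c : R) • m j :=
    fun j => hc (m j) (Finset.mem_image_of_mem _ (Finset.mem_univ j))
  choose r hr using hc'
  have hρinj : Function.Injective (algebraMap R S) := IsLocalization.injective S hM
  have hsum : ∑ j, b j • r j = 0 := by
    apply hρinj
    rw [map_zero, map_sum]
    have : ∀ j, algebraMap R S (b j • r j) = (c : R) • (b j • m j) := by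
      intro j
      rw [Algebra.smul_def (b j) (r j), map_mul, ← IsScalarTower.algebraMap_apply, hr,
        Algebra.smul_def (b j) (m j), mul_smul_comm]
    simp_rw [this]
    rw [← Finset.smul_sum, hbm, smul_zero]
  have hunit : IsUnit (algebraMap R S (algebraMap B R f * (c : R))) := by
    rw [map_mul]
    exact (IsLocalization.map_units S (⟨algebraMap B R f, hfM⟩ : M)).mul
      (IsLocalization.map_units S c)
  obtain ⟨u, hu⟩ := hunit.exists_left_inv
  rw [map_mul] at hu
  refine ⟨K, fun j i => tr (y i * r j), fun i => u * algebraMap R S (x i), fun j => ?_,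
    fun i => ?_⟩
  · have h1 : ∑ i, tr (y i * r j) • (u * algebraMap R S (x i))
        = u * algebraMap R S (∑ i, tr (y i * r j) • x i) := by
      rw [map_sum, Finset.mul_sum]
      refine Finset.sum_congr rfl fun i _ => ?_
      rw [Algebra.smul_def, Algebra.smul_def, map_mul, ← IsScalarTower.algebraMap_apply]
      ring
    rw [h1, ← hI1, map_mul, hr, Algebra.smul_def]
    linear_combination (-(m j)) * hu
  · apply hinj
    rw [map_zero, map_sum]
    have h2 : ∀ j, algebraMap B R (b j * tr (y i * r j))
        = ∑ g : G, g • (y i * (b j • r j)) := by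
      intro j
      rw [map_mul, htr, Finset.mul_sum]
      refine Finset.sum_congr rfl fun g _ => ?_
      rw [mul_smul_comm (b j) (y i) (r j), smul_comm g (b j), Algebra.smul_def (b j)]
    simp_rw [h2]
    rw [Finset.sum_comm]
    simp_rw [← Finset.smul_sum, ← Finset.mul_sum, hsum, mul_zero, smul_zero]
    simp

end Datum

section Main

variable (A : Type u) [CommRing A] (G : Type w) [Group G] [MulSemiringAction G A]

instance isInvariant_fixedPoints : Algebra.IsInvariant (FixedPoints.subring A G) A G :=
  ⟨fun a ha => ⟨⟨a, ha⟩, rfl⟩⟩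

/-- If the localisation of `A` at a prime with trivial inertia is regular, so is the localisation of
the ring of invariants at the prime below. -/
theorem isRegularLocalRing_atPrime_fixedPoints [IsDomain A] [Finite G]
    (Q : Ideal A) [Q.IsPrime] (hin : Q.inertia G = ⊥)
    [IsRegularLocalRing (Localization.AtPrime Q)]
    (P : Ideal (FixedPoints.subring A G)) [P.IsPrime]
    (hQP : Q.comap (algebraMap (FixedPoints.subring A G) A) = P) :
    IsRegularLocalRing (Localization.AtPrime P) := by
  classical
  cases nonempty_fintype G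
  have hinj : Function.Injective (algebraMap (FixedPoints.subring A G) A) :=
    fun x y h => Subtype.ext h
  obtain ⟨f, e, hfQ, he1, heg⟩ := exists_datum_of_inertia (B := FixedPoints.subring A G) Q hin
  obtain ⟨K, x, y, rfl⟩ := exists_fin_sum e
  have he1' : ∑ i, x i * y i = algebraMap (FixedPoints.subring A G) A f := by
    rw [← he1, map_sum]
    refine Finset.sum_congr rfl fun i _ => ?_
    rw [phi_tmul, one_smul]
  have heg' : ∀ g : G, g ≠ 1 → ∑ i, x i * g • y i = 0 := by
    intro g hg
    rw [← heg g hg, map_sum]
    refine Finset.sum_congr rfl fun i _ => ?_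
    rw [phi_tmul]
  haveI hflat : Module.Flat (FixedPoints.subring A G) (Localization.AtPrime Q) :=
    flat_of_datum' (G := G) hinj he1' heg' Q.primeCompl hfQ
      (Ideal.primeCompl_le_nonZeroDivisors Q) (Localization.AtPrime Q)
  haveI : Q.LiesOver P := ⟨hQP.symm⟩
  letI := Localization.AtPrime.algebraOfLiesOver P Q
  haveI : IsLocalHom (algebraMap (Localization.AtPrime P) (Localization.AtPrime Q)) :=
    Localization.isLocalHom_localRingHom P Q (algebraMap (FixedPoints.subring A G) A)
      Ideal.LiesOver.over
  haveI : Module.Flat (Localization.AtPrime P) (Localization.AtPrime Q) :=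
    (Module.flat_iff_of_isLocalization (Localization.AtPrime P) P.primeCompl
      (Localization.AtPrime Q)).mpr hflat
  haveI : Module.FaithfullyFlat (Localization.AtPrime P) (Localization.AtPrime Q) :=
    Module.FaithfullyFlat.of_flat_of_isLocalHom
  haveI : IsNoetherianRing (Localization.AtPrime Q) := inferInstance
  haveI : IsNoetherianRing (Localization.AtPrime P) :=
    Groth.Agent.Lib.Helper26.RegularRing.isNoetherianRing_of_faithfullyFlat
      (Localization.AtPrime P) (Localization.AtPrime Q)
  exact Groth.Agent.Lib.Helper26.RegularRing.isRegularLocalRing_of_flat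
    (Localization.AtPrime P) (Localization.AtPrime Q)

/-- The invariant ring of a regular local ring under a finite group acting with trivial inertia off
the closed point is regular off the closed point. -/
theorem main [IsRegularLocalRing A] [Finite G]
    (hram : ∀ P : Ideal A, P.IsPrime → P ≠ IsLocalRing.maximalIdeal A → P.inertia G = ⊥)
    (P : Ideal (FixedPoints.subring A G)) [P.IsPrime] (hP : ¬ P.IsMaximal) :
    IsRegularLocalRing (Localization.AtPrime P) := by
  haveI : IsDomain A := Groth.Agent.Lib.Helper9.RegLocal.isDomain_of_isRegularLocalRing A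
  haveI : Algebra.IsIntegral (FixedPoints.subring A G) A :=
    Algebra.IsInvariant.isIntegral (FixedPoints.subring A G) A G
  have hinj : Function.Injective (algebraMap (FixedPoints.subring A G) A) :=
    fun x y h => Subtype.ext h
  obtain ⟨Q, -, hQp, hQP⟩ := Ideal.exists_ideal_over_prime_of_isIntegral P (⊥ : Ideal A)
    (Ideal.comap_bot_le_of_injective _ hinj)
  haveI := hQp
  have hQne : Q ≠ IsLocalRing.maximalIdeal A := by
    intro hQ
    haveI : Q.IsMaximal := hQ ▸ IsLocalRing.maximalIdeal.isMaximal A
    apply hP
    rw [← hQP]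
    exact Ideal.isMaximal_comap_of_isIntegral_of_isMaximal Q
  haveI : IsRegularLocalRing (Localization.AtPrime Q) :=
    Groth.Agent.Lib.Helper26.RegularRing.isRegularLocalRing_localization_atPrime A Q
  exact isRegularLocalRing_atPrime_fixedPoints A G Q (hram Q hQp hQne) P hQP

end Main

end Groth.Agent.Lib.Helper4.WildReg
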