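import Mathlib
import Groth.Agent.Lib.Helper4.DvrEmbed

/-!
# The `y² = 0` criterion with polynomial descent
-/

set_option autoImplicit false
set_option linter.style.haveILetI false
set_option linter.unusedSectionVars false
set_option linter.unusedVariables false
set_option linter.unusedSimpArgs false
set_option maxHeartbeats 1600000

universe u

namespace Groth.Agent.Lib.Helper4.ArS

open MvPowerSeries

noncomputable section

variable (k : Type u) [Field k]

/-! ### setting `y = 0` -/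

/-- `y ↦ 0` -/
def eps0 : MvPowerSeries (Fin 2) k →+* PowerSeries k :=
  (PowerSeries.constantCoeff (R := PowerSeries k)).comp (Psi k).toRingEquiv.toRingHom

lemma eps0_apply (U : MvPowerSeries (Fin 2) k) :
    eps0 k U = PowerSeries.constantCoeff (Psi k U) := rfl

lemma eps0_X1 : eps0 k (X 1) = 0 := by
  rw [eps0_apply, Psi_X1, PowerSeries.constantCoeff_X]

lemma eps0_inc (c : PowerSeries k) : eps0 k (inc k c) = c := by
  rw [eps0_apply, ← Psi_symm_C, AlgEquiv.apply_symm_apply, PowerSeries.constantCoeff_C]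

lemma eps0_eq_zero_iff (U : MvPowerSeries (Fin 2) k) : eps0 k U = 0 ↔ X 1 ∣ U := by
  rw [eps0_apply, ← PowerSeries.X_dvd_iff, ← Psi_X1, map_dvd_iff]

lemma cX0_10 : coeff (mon 1 0) (X 0 : MvPowerSeries (Fin 2) k) = 1 := by
  have := coeff_X0_pow k 1 1 0
  rw [pow_one] at this
  rw [this, if_pos ⟨rfl, rfl⟩]

lemma cX0_01 : coeff (mon 0 1) (X 0 : MvPowerSeries (Fin 2) k) = 0 := by
  have := coeff_X0_pow k 1 0 1
  rw [pow_one] at this
  rw [this, if_neg (by omega)]

lemma cX1_10 : coeff (mon 1 0) (X 1 : MvPowerSeries (Fin 2) k) = 0 := by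
  have := coeff_X1_pow k 1 1 0
  rw [pow_one] at this
  rw [this, if_neg (by omega)]

lemma cX1_01 : coeff (mon 0 1) (X 1 : MvPowerSeries (Fin 2) k) = 1 := by
  have := coeff_X1_pow k 1 0 1
  rw [pow_one] at this
  rw [this, if_pos ⟨rfl, rfl⟩]

lemma X1_ne_zero' : (X 1 : MvPowerSeries (Fin 2) k) ≠ 0 := by
  intro h
  have := cX1_01 k
  rw [h, map_zero] at this
  exact zero_ne_one this

lemma prime_X1 : Prime (X 1 : MvPowerSeries (Fin 2) k) := by
  refine ⟨X1_ne_zero' k, ?_, ?_⟩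
  · rw [isUnit_iff_cc k, constantCoeff_X]
    exact fun h => h rfl
  · intro U V h
    have h' := (eps0_eq_zero_iff k (U * V)).mpr h
    rw [map_mul] at h'
    rcases mul_eq_zero.mp h' with h1 | h1
    · exact Or.inl ((eps0_eq_zero_iff k U).mp h1)
    · exact Or.inr ((eps0_eq_zero_iff k V).mp h1)

lemma coeff_deg1_mul (U V : MvPowerSeries (Fin 2) k) (hU : constantCoeff U = 0)
    (d : Fin 2 →₀ ℕ) (hd : Finsupp.degree d = 1) :
    coeff d (U * V) = coeff d U * constantCoeff V := by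
  have hV : V = C (constantCoeff V) + (V - C (constantCoeff V)) := by ring
  have h2 : constantCoeff (V - C (constantCoeff V)) = 0 := by
    rw [map_sub, constantCoeff_C, sub_self]
  have h3 : coeff d (U * (V - C (constantCoeff V))) = 0 := by
    apply coeff_of_lt_order
    rw [hd]
    have o1 := (one_le_order_iff k U).mpr hU
    have o2 := (one_le_order_iff k _).mpr h2
    calc ((1 : ℕ) : ℕ∞) < ((1 : ℕ) : ℕ∞) + ((1 : ℕ) : ℕ∞) := by norm_num
      _ ≤ U.order + (V - C (constantCoeff V)).order := add_le_add o1 o2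
      _ ≤ _ := le_order_mul
  conv_lhs => rw [hV, mul_add, map_add, h3, add_zero]
  rw [mul_comm U, coeff_C_mul, mul_comm]

lemma order_ge_two (U : MvPowerSeries (Fin 2) k) (h0 : constantCoeff U = 0)
    (h10 : coeff (mon 1 0) U = 0) (h01 : coeff (mon 0 1) U = 0) :
    ((2 : ℕ) : ℕ∞) ≤ U.order := by
  apply nat_le_order
  intro d hd
  obtain ⟨i, j, rfl⟩ : ∃ i j, d = mon i j := ⟨_, _, eq_mon d⟩
  rw [degree_mon] at hd
  have : (i = 0 ∧ j = 0) ∨ (i = 1 ∧ j = 0) ∨ (i = 0 ∧ j = 1) := by omega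
  rcases this with ⟨rfl, rfl⟩ | ⟨rfl, rfl⟩ | ⟨rfl, rfl⟩
  · rw [mon_zero_zero, coeff_zero_eq_constantCoeff_apply]; exact h0
  · exact h10
  · exact h01

lemma coeff_X0_mul (G : MvPowerSeries (Fin 2) k) (j : ℕ) : coeff (mon 0 j) (X 0 * G) = 0 := by
  have := coeff_mul_x_pow G 1 0 j
  rw [pow_one] at this
  rw [mul_comm, this, if_neg (by norm_num)]

lemma coeff_X1_mul (G : MvPowerSeries (Fin 2) k) (i : ℕ) : coeff (mon i 0) (X 1 * G) = 0 := by
  have := coeff_mul_y_pow G 1 i 0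
  rw [pow_one] at this
  rw [mul_comm, this, if_neg (by norm_num)]

/-! ### smooth elements -/

lemma rel_smooth01 (G : MvPowerSeries (Fin 2) k) (h0 : constantCoeff G = 0)
    (h1 : coeff (mon 0 1) G ≠ 0) :
    ∃ (φ : MvPowerSeries (Fin 2) k ≃ₐ[k] MvPowerSeries (Fin 2) k) (u : MvPowerSeries (Fin 2) k),
      IsUnit u ∧ φ G = u * X 1 := by
  have h00 : coeff (mon 0 0) G = 0 := by
    rw [mon_zero_zero, coeff_zero_eq_constantCoeff_apply]; exact h0
  rcases weier k G h00 (Or.inl h1) with ⟨c, u, hc, hu, e⟩ | ⟨a, b, u, ha, hb, hu, e⟩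
  · refine ⟨yshiftE k c hc, yshiftE k c hc u, hu.map _, ?_⟩
    rw [e, map_mul, map_add, yshiftE_X1, yshiftE_inc, sub_add_cancel]
  · exfalso
    apply h1
    have hW : constantCoeff (X 1 ^ 2 + inc k a * X 1 + inc k b : MvPowerSeries (Fin 2) k) = 0 := by
      simp [cc_inc, ha, hb]
    have c1 : coeff (mon 0 1) ((X 1 : MvPowerSeries (Fin 2) k) ^ 2) = 0 := by
      rw [coeff_X1_pow, if_neg (by omega)]
    have c2 : coeff (mon 0 1) (inc k a * X 1) = 0 := by
      rw [coeff_inc_mul_y, if_pos rfl, PowerSeries.coeff_zero_eq_constantCoeff_apply, ha]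
    have c3 : coeff (mon 0 1) (inc k b) = 0 := by
      rw [coeff_inc, if_neg one_ne_zero]
    rw [e, mul_comm u, coeff_deg1_mul k _ u hW (mon 0 1) (by rw [degree_mon]), map_add, map_add,
      c1, c2, c3]
    simp

lemma rel_smooth (G : MvPowerSeries (Fin 2) k) (h0 : constantCoeff G = 0)
    (h1 : coeff (mon 1 0) G ≠ 0 ∨ coeff (mon 0 1) G ≠ 0) :
    ∃ (φ : MvPowerSeries (Fin 2) k ≃ₐ[k] MvPowerSeries (Fin 2) k) (u : MvPowerSeries (Fin 2) k),
      IsUnit u ∧ φ G = u * X 1 := by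
  rcases h1 with h1 | h1
  · have h0' : constantCoeff (swapE k G) = 0 := by
      have := coeff_swapE k G 0 0
      rw [mon_zero_zero] at this
      rw [← coeff_zero_eq_constantCoeff_apply, this, coeff_zero_eq_constantCoeff_apply]
      exact h0
    have h1' : coeff (mon 0 1) (swapE k G) ≠ 0 := by rw [coeff_swapE]; exact h1
    obtain ⟨φ, u, hu, e⟩ := rel_smooth01 k _ h0' h1'
    exact ⟨(swapE k).trans φ, u, hu, by rw [AlgEquiv.trans_apply]; exact e⟩
  · exact rel_smooth01 k G h0 h1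

lemma prime_of_rel (L : MvPowerSeries (Fin 2) k)
    (φ : MvPowerSeries (Fin 2) k ≃ₐ[k] MvPowerSeries (Fin 2) k) (u : MvPowerSeries (Fin 2) k)
    (hu : IsUnit u) (e : φ L = u * X 1) : Prime L := by
  have hX := prime_X1 k
  refine ⟨?_, ?_, ?_⟩
  · intro h
    rw [h, map_zero] at e
    exact (mul_ne_zero hu.ne_zero hX.ne_zero) e.symm
  · intro h
    have := h.map φ
    rw [e] at this
    exact hX.not_unit (isUnit_of_mul_isUnit_right this)
  · intro U V h
    have h1 : X 1 ∣ φ U * φ V := by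
      rw [← map_mul]
      exact (Dvd.intro_left u e.symm).trans (map_dvd φ h)
    rcases hX.dvd_or_dvd h1 with h2 | h2
    · left; rw [← map_dvd_iff φ, e]; exact hu.mul_left_dvd.mpr h2
    · right; rw [← map_dvd_iff φ, e]; exact hu.mul_left_dvd.mpr h2

lemma not_dvd_both (L : MvPowerSeries (Fin 2) k) (h0 : constantCoeff L = 0) :
    ¬ (L ∣ X 0 ∧ L ∣ X 1) := by
  rintro ⟨⟨A, hA⟩, ⟨B, hB⟩⟩
  have a1 := congrArg (coeff (mon 1 0)) hA
  have a2 := congrArg (coeff (mon 0 1)) hA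
  have b2 := congrArg (coeff (mon 0 1)) hB
  rw [coeff_deg1_mul k L A h0 _ (by rw [degree_mon]), cX0_10] at a1
  rw [coeff_deg1_mul k L A h0 _ (by rw [degree_mon]), cX0_01] at a2
  rw [coeff_deg1_mul k L B h0 _ (by rw [degree_mon]), cX1_01] at b2
  have hcA : constantCoeff A ≠ 0 := by
    intro h; rw [h, mul_zero] at a1; exact one_ne_zero a1
  have hl01 : coeff (mon 0 1) L = 0 := by
    rcases mul_eq_zero.mp a2.symm with h | h
    · exact h
    · exact absurd h hcA
  rw [hl01, zero_mul] at b2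
  exact one_ne_zero b2

/-! ### multiplicity lemmas -/

lemma mulM2 (L U V w : MvPowerSeries (Fin 2) k) (hL : Prime L) (hw : IsUnit w)
    (h : U * V = w * L) : IsUnit U ∨ IsUnit V := by
  obtain ⟨w', hw'⟩ := hw.exists_left_inv
  have hLe : L = (w' * U) * V := by
    calc L = (w' * w) * L := by rw [hw', one_mul]
      _ = w' * (w * L) := by ring
      _ = w' * (U * V) := by rw [h]
      _ = (w' * U) * V := by ring
  rcases hL.irreducible.isUnit_or_isUnit hLe with h1 | h1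
  · exact Or.inl (isUnit_of_mul_isUnit_right h1)
  · exact Or.inr h1

lemma mulM1 (L U V w : MvPowerSeries (Fin 2) k) (hL : Prime L) (hw : IsUnit w)
    (h : U * V = w * L ^ 2) :
    IsUnit U ∨ (∃ v, IsUnit v ∧ U = v * L) ∨ (∃ v, IsUnit v ∧ U = v * L ^ 2) := by
  have hdvd : L ∣ U * V := ⟨w * L, by rw [h]; ring⟩
  rcases hL.dvd_or_dvd hdvd with ⟨U₁, hU₁⟩ | ⟨V₁, hV₁⟩
  · have h' : U₁ * V = w * L := by
      apply mul_left_cancel₀ hL.ne_zero
      rw [hU₁] at h
      linear_combination h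
    rcases mulM2 k L U₁ V w hL hw h' with hu | hv
    · right; left
      exact ⟨U₁, hu, by rw [hU₁]; ring⟩
    · right; right
      obtain ⟨V', hV'⟩ := hv.exists_right_inv
      have hV'u : IsUnit V' := IsUnit.of_mul_eq_one_right V hV'
      refine ⟨w * V', hw.mul hV'u, ?_⟩
      have : U₁ = w * L * V' := by
        calc U₁ = U₁ * (V * V') := by rw [hV', mul_one]
          _ = (U₁ * V) * V' := by ring
          _ = w * L * V' := by rw [h']
      rw [hU₁, this]; ring
  · have h' : U * V₁ = w * L := by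
      apply mul_left_cancel₀ hL.ne_zero
      rw [hV₁] at h
      linear_combination h
    rcases mulM2 k L U V₁ w hL hw h' with hu | hv
    · left; exact hu
    · right; left
      obtain ⟨V', hV'⟩ := hv.exists_right_inv
      have hV'u : IsUnit V' := IsUnit.of_mul_eq_one_right V₁ hV'
      refine ⟨w * V', hw.mul hV'u, ?_⟩
      calc U = U * (V₁ * V') := by rw [hV', mul_one]
        _ = (U * V₁) * V' := by ring
        _ = w * L * V' := by rw [h']
        _ = w * V' * L := by ring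

/-! ### Step A: structure of `F` -/

theorem ysq_structure (F : MvPowerSeries (Fin 2) k)
    (e : (MvPowerSeries (Fin 2) k ⧸ Ideal.span {F}) ≃ₐ[k]
      (MvPowerSeries (Fin 2) k ⧸ Ideal.span {(X 1 : MvPowerSeries (Fin 2) k) ^ 2})) :
    ∃ V L : MvPowerSeries (Fin 2) k, IsUnit V ∧ constantCoeff L = 0 ∧
      (coeff (mon 1 0) L ≠ 0 ∨ coeff (mon 0 1) L ≠ 0) ∧ F = V * L ^ 2 := by
  obtain ⟨mkF, hmkF⟩ : ∃ m : MvPowerSeries (Fin 2) k →+* MvPowerSeries (Fin 2) k ⧸ Ideal.span {F},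
      m = Ideal.Quotient.mk _ := ⟨_, rfl⟩
  obtain ⟨mkB, hmkB⟩ : ∃ m : MvPowerSeries (Fin 2) k →+*
      MvPowerSeries (Fin 2) k ⧸ Ideal.span {(X 1 : MvPowerSeries (Fin 2) k) ^ 2},
      m = Ideal.Quotient.mk _ := ⟨_, rfl⟩
  have mkF_surj : Function.Surjective mkF := by rw [hmkF]; exact Ideal.Quotient.mk_surjective
  have mkB_surj : Function.Surjective mkB := by rw [hmkB]; exact Ideal.Quotient.mk_surjective
  have mkF_zero : ∀ U, mkF U = 0 ↔ F ∣ U := by
    intro U; rw [hmkF, Ideal.Quotient.eq_zero_iff_mem, Ideal.mem_span_singleton]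
  have mkB_zero : ∀ U, mkB U = 0 ↔ X 1 ^ 2 ∣ U := by
    intro U; rw [hmkB, Ideal.Quotient.eq_zero_iff_mem, Ideal.mem_span_singleton]
  have hker : ∀ a ∈ Ideal.span {(X 1 : MvPowerSeries (Fin 2) k) ^ 2}, eps0 k a = 0 := by
    intro a ha
    rw [Ideal.mem_span_singleton] at ha
    obtain ⟨c, rfl⟩ := ha
    rw [map_mul, map_pow, eps0_X1]
    simp
  obtain ⟨epsY, hepsY⟩ : ∃ m : (MvPowerSeries (Fin 2) k ⧸
      Ideal.span {(X 1 : MvPowerSeries (Fin 2) k) ^ 2}) →+* PowerSeries k,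
      ∀ U, m (mkB U) = eps0 k U :=
    ⟨Ideal.Quotient.lift _ (eps0 k) hker, by
      intro U; rw [hmkB]; exact Ideal.Quotient.lift_mk _ _ _⟩
  obtain ⟨L, hL⟩ := mkF_surj (e.symm (mkB (X 1)))
  have hez : e (mkF L) = mkB (X 1) := by rw [hL, AlgEquiv.apply_symm_apply]
  have hLL : F ∣ L * L := by
    rw [← mkF_zero, map_mul]
    apply e.injective
    rw [map_mul, hez, map_zero, ← map_mul, mkB_zero]
    exact ⟨1, by ring⟩
  obtain ⟨W, hW⟩ := hLL
  have hFL : ¬ F ∣ L := by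
    intro h
    have h1 : mkB (X 1) = 0 := by rw [← hez, (mkF_zero L).mpr h, map_zero]
    rw [mkB_zero] at h1
    obtain ⟨c, hc⟩ := h1
    have := congrArg (coeff (mon 0 1)) hc
    rw [mul_comm, coeff_mul_y_pow, if_neg (by norm_num), cX1_01] at this
    exact one_ne_zero this
  have hF0 : constantCoeff F = 0 := by
    by_contra h; exact hFL (((isUnit_iff_cc k F).mpr h).dvd)
  have hL0 : constantCoeff L = 0 := by
    by_contra h
    have hu : IsUnit (L * L) := ((isUnit_iff_cc k L).mpr h).mul ((isUnit_iff_cc k L).mpr h)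
    rw [hW] at hu
    exact hFL ((isUnit_of_mul_isUnit_left hu).dvd)
  have hFns : ¬ (coeff (mon 1 0) F ≠ 0 ∨ coeff (mon 0 1) F ≠ 0) := by
    intro h
    obtain ⟨φ, u, hu, eφ⟩ := rel_smooth k F hF0 h
    have hP := prime_of_rel k F φ u hu eφ
    rcases hP.dvd_or_dvd ⟨W, hW⟩ with h | h <;> exact hFL h
  have pi_surj : ∀ c : PowerSeries k, ∃ U, epsY (e (mkF U)) = c := by
    intro c
    obtain ⟨U, hU⟩ := mkF_surj (e.symm (mkB (inc k c)))
    exact ⟨U, by rw [hU, AlgEquiv.apply_symm_apply, hepsY, eps0_inc]⟩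
  have pi_ker : ∀ U, epsY (e (mkF U)) = 0 → ∃ A B, U = A * F + B * L := by
    intro U hU
    obtain ⟨U₂, hU₂⟩ := mkB_surj (e (mkF U))
    rw [← hU₂, hepsY, eps0_eq_zero_iff k] at hU
    obtain ⟨U₃, hU₃⟩ := hU
    obtain ⟨A, hA⟩ := mkF_surj (e.symm (mkB U₃))
    have h1 : e (mkF U) = e (mkF (L * A)) := by
      rw [map_mul, map_mul, hez, hA, AlgEquiv.apply_symm_apply, ← map_mul, ← hU₃, hU₂]
    have h2 : mkF (U - L * A) = 0 := by rw [map_sub, e.injective h1, sub_self]
    rw [mkF_zero] at h2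
    obtain ⟨B, hB⟩ := h2
    exact ⟨B, A, by linear_combination hB⟩
  have hLs : coeff (mon 1 0) L ≠ 0 ∨ coeff (mon 0 1) L ≠ 0 := by
    by_contra hLns
    push_neg at hFns hLns
    have oF := order_ge_two k F hF0 hFns.1 hFns.2
    have oL := order_ge_two k L hL0 hLns.1 hLns.2
    have key : ∀ U, epsY (e (mkF U)) = 0 → ∀ d, Finsupp.degree d = 1 → coeff d U = 0 := by
      intro U hU d hd
      obtain ⟨A, B, rfl⟩ := pi_ker U hU
      apply coeff_of_lt_order
      have hmem : A * F + B * L ∈ OO k 2 :=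
        (OO k 2).add_mem ((OO k 2).mul_mem_left A ((mem_OO k 2 F).mpr oF))
          ((OO k 2).mul_mem_left B ((mem_OO k 2 L).mpr oL))
      rw [hd]
      exact lt_of_lt_of_le (Nat.cast_lt.mpr (by norm_num)) ((mem_OO k 2 _).mp hmem)
    obtain ⟨α, hα⟩ : ∃ α, α = epsY (e (mkF (X 0))) := ⟨_, rfl⟩
    obtain ⟨β, hβ⟩ : ∃ β, β = epsY (e (mkF (X 1))) := ⟨_, rfl⟩
    rcases ValuationRing.dvd_total α β with ⟨γ, hγ⟩ | ⟨γ, hγ⟩
    · obtain ⟨G', hG'⟩ := pi_surj γ
      have h0 : epsY (e (mkF (X 1 - X 0 * G'))) = 0 := by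
        rw [map_sub, map_sub, map_sub, map_mul, map_mul, map_mul, hG', ← hα, ← hβ, hγ, sub_self]
      have := key _ h0 (mon 0 1) (by rw [degree_mon])
      rw [map_sub, cX1_01, coeff_X0_mul, sub_zero] at this
      exact one_ne_zero this
    · obtain ⟨G', hG'⟩ := pi_surj γ
      have h0 : epsY (e (mkF (X 0 - X 1 * G'))) = 0 := by
        rw [map_sub, map_sub, map_sub, map_mul, map_mul, map_mul, hG', ← hα, ← hβ, hγ, sub_self]
      have := key _ h0 (mon 1 0) (by rw [degree_mon])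
      rw [map_sub, cX0_10, coeff_X1_mul, sub_zero] at this
      exact one_ne_zero this
  obtain ⟨φ, u, hu, eφ⟩ := rel_smooth k L hL0 hLs
  have hP := prime_of_rel k L φ u hu eφ
  have hM : F * W = 1 * L ^ 2 := by rw [one_mul, pow_two, hW]
  rcases mulM1 k L F W 1 hP isUnit_one hM with h | ⟨v, hv, h⟩ | ⟨v, hv, h⟩
  · exact absurd hF0 ((isUnit_iff_cc k F).mp h)
  · exfalso; apply hFL; rw [h]; exact hv.mul_left_dvd.mpr dvd_rfl
  · exact ⟨v, L, hv, hL0, hLs, h⟩

end

end Groth.Agent.Lib.Helper4.ArS
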