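import Mathlib
import Groth.Agent.Lib.Helper4.YSq

/-!
# The `y² = 0` criterion with polynomial descent, part 2
-/

set_option autoImplicit false
set_option linter.style.haveILetI false
set_option linter.unusedSectionVars false
set_option linter.unusedVariables false
set_option linter.unusedSimpArgs false
set_option maxHeartbeats 1600000

universe u

namespace Groth.Agent.Lib.Helper4.ArS

open MvPowerSeries

noncomputable section

variable (k : Type u) [Field k]

/-! ### the dimension argument -/

lemma core_contra (L : MvPowerSeries (Fin 2) k) (hL : Prime L) (hL0 : constantCoeff L = 0)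
    (hXY : ¬ (L ∣ X 0 ∧ L ∣ X 1)) (p q : MvPolynomial (Fin 2) k) (hp : Irreducible p)
    (hpq : ¬ p ∣ q) (hLp : L ∣ (p : MvPowerSeries (Fin 2) k))
    (hLq : L ∣ (q : MvPowerSeries (Fin 2) k)) : False := by
  obtain ⟨cR, hcR⟩ : ∃ c : MvPolynomial (Fin 2) k →+* MvPowerSeries (Fin 2) k,
      ∀ r, c r = (r : MvPowerSeries (Fin 2) k) :=
    ⟨MvPolynomial.coeToMvPowerSeries.ringHom, fun r => rfl⟩
  haveI hLI : (Ideal.span {L}).IsPrime := (Ideal.span_singleton_prime hL.ne_zero).mpr hL
  have hp' : Prime p := UniqueFactorizationMonoid.irreducible_iff_prime.mp hp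
  haveI hpI : (Ideal.span {p}).IsPrime := (Ideal.span_singleton_prime hp'.ne_zero).mpr hp'
  obtain ⟨PP, hPP⟩ : ∃ I : Ideal (MvPolynomial (Fin 2) k),
      I = Ideal.comap cR (Ideal.span {L}) := ⟨_, rfl⟩
  haveI hPPI : PP.IsPrime := by rw [hPP]; exact Ideal.comap_isPrime cR _
  obtain ⟨mm, hmm⟩ : ∃ I : Ideal (MvPolynomial (Fin 2) k),
      I = RingHom.ker (MvPolynomial.constantCoeff : MvPolynomial (Fin 2) k →+* k) := ⟨_, rfl⟩
  haveI hmmI : mm.IsPrime := by rw [hmm]; exact RingHom.ker_isPrime _
  have memPP : ∀ r, r ∈ PP ↔ L ∣ (r : MvPowerSeries (Fin 2) k) := by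
    intro r; rw [hPP, Ideal.mem_comap, Ideal.mem_span_singleton, hcR]
  have memmm : ∀ r, r ∈ mm ↔ MvPolynomial.constantCoeff r = 0 := by
    intro r; rw [hmm, RingHom.mem_ker]
  have h1 : (⊥ : Ideal (MvPolynomial (Fin 2) k)) < Ideal.span {p} := by
    rw [bot_lt_iff_ne_bot, Ne, Ideal.span_singleton_eq_bot]; exact hp'.ne_zero
  have h2 : Ideal.span {p} < PP := by
    refine lt_of_le_of_ne ?_ ?_
    · rw [Ideal.span_singleton_le_iff_mem]; exact (memPP p).mpr hLp
    · intro h
      have : q ∈ PP := (memPP q).mpr hLq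
      rw [← h, Ideal.mem_span_singleton] at this
      exact hpq this
  have h3 : PP < mm := by
    refine lt_of_le_of_ne ?_ ?_
    · intro r hr
      rw [memPP] at hr
      obtain ⟨c, hc⟩ := hr
      rw [memmm]
      have : constantCoeff (r : MvPowerSeries (Fin 2) k) = 0 := by
        rw [hc, map_mul, hL0, zero_mul]
      rw [← coeff_zero_eq_constantCoeff_apply, MvPolynomial.coeff_coe] at this
      exact this
    · intro h
      apply hXY
      constructor
      · have : (MvPolynomial.X 0 : MvPolynomial (Fin 2) k) ∈ mm := by rw [memmm]; simp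
        rw [← h, memPP, MvPolynomial.coe_X] at this; exact this
      · have : (MvPolynomial.X 1 : MvPolynomial (Fin 2) k) ∈ mm := by rw [memmm]; simp
        rw [← h, memPP, MvPolynomial.coe_X] at this; exact this
  have e1 := Ideal.height_add_one_le_of_lt_of_isPrime h1
  have e2 := Ideal.height_add_one_le_of_lt_of_isPrime h2
  have e3 := Ideal.height_add_one_le_of_lt_of_isPrime h3
  have e4 : (mm.height : WithBot ℕ∞) ≤ ringKrullDim (MvPolynomial (Fin 2) k) :=
    Ideal.height_le_ringKrullDim_of_isPrime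
  have dimR : ringKrullDim (MvPolynomial (Fin 2) k) = 2 := by
    rw [MvPolynomial.ringKrullDim_of_isNoetherianRing, ringKrullDim_eq_zero_of_field,
      Nat.card_eq_fintype_card, Fintype.card_fin]
    norm_num
  have e5 : (3 : ℕ∞) ≤ mm.height := by
    calc (3 : ℕ∞) = 0 + 1 + 1 + 1 := by norm_num
      _ ≤ (⊥ : Ideal (MvPolynomial (Fin 2) k)).height + 1 + 1 + 1 := by gcongr; exact zero_le
      _ ≤ (Ideal.span {p}).height + 1 + 1 := by gcongr
      _ ≤ PP.height + 1 := by gcongr
      _ ≤ mm.height := e3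
  rw [dimR] at e4
  have e6 : ((3 : ℕ∞) : WithBot ℕ∞) ≤ 2 := le_trans (WithBot.coe_le_coe.mpr e5) e4
  have e7 : (3 : ℕ∞) ≤ 2 := WithBot.coe_le_coe.mp e6
  norm_num at e7

/-! ### derivatives -/

lemma totalDegree_pderiv_lt (p : MvPolynomial (Fin 2) k) (i : Fin 2)
    (h : MvPolynomial.pderiv i p ≠ 0) :
    (MvPolynomial.pderiv i p).totalDegree < p.totalDegree := by
  classical
  have hne : (MvPolynomial.pderiv i p).support.Nonempty := by
    rw [Finset.nonempty_iff_ne_empty, Ne, MvPolynomial.support_eq_empty]; exact h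
  obtain ⟨d, hd, hdeg⟩ := Finset.exists_mem_eq_sup _ hne
    (fun s : Fin 2 →₀ ℕ => s.sum fun _ e => e)
  have hc : MvPolynomial.coeff d (MvPolynomial.pderiv i p) ≠ 0 :=
    MvPolynomial.mem_support_iff.mp hd
  rw [MvPolynomial.coeff_pderiv] at hc
  have hc' : MvPolynomial.coeff (d + Finsupp.single i 1) p ≠ 0 := left_ne_zero_of_mul hc
  have h1 := MvPolynomial.le_totalDegree (MvPolynomial.mem_support_iff.mpr hc')
  have h2 : ((d + Finsupp.single i 1).sum fun _ e => e) = (d.sum fun _ e => e) + 1 := by
    rw [Finsupp.sum_add_index' (fun _ => rfl) (fun _ _ _ => rfl), Finsupp.sum_single_index rfl]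
  have h3 : (MvPolynomial.pderiv i p).totalDegree = d.sum fun _ e => e := hdeg
  omega

lemma not_dvd_pderiv (p : MvPolynomial (Fin 2) k) (i : Fin 2)
    (h : MvPolynomial.pderiv i p ≠ 0) : ¬ p ∣ MvPolynomial.pderiv i p := by
  rintro ⟨c, hc⟩
  have hp0 : p ≠ 0 := by
    rintro rfl
    rw [map_zero] at h
    exact h rfl
  have hc0 : c ≠ 0 := by
    rintro rfl
    rw [mul_zero] at hc
    exact h hc
  have := totalDegree_pderiv_lt k p i h
  rw [hc, MvPolynomial.totalDegree_mul_of_isDomain hp0 hc0] at this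
  omega

lemma pderiv_zero_contra [IsAlgClosed k] (p : MvPolynomial (Fin 2) k) (hp : Irreducible p)
    (hD : ∀ i, MvPolynomial.pderiv i p = 0) : False := by
  classical
  have hsup : ∀ s ∈ p.support, ∀ i, ((s i : ℕ) : k) = 0 := by
    intro s hs i
    by_cases h0 : s i = 0
    · rw [h0, Nat.cast_zero]
    · have := MvPolynomial.coeff_pderiv (i := i) p (s - Finsupp.single i 1)
      have e : s - Finsupp.single i 1 + Finsupp.single i 1 = s := by
        ext j
        simp only [Finsupp.coe_add, Finsupp.coe_tsub, Pi.add_apply, Pi.sub_apply,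
          Finsupp.single_apply]
        by_cases hj : i = j
        · subst hj; rw [if_pos rfl]; omega
        · rw [if_neg hj]; omega
      rw [hD i, MvPolynomial.coeff_zero, e] at this
      have hne : MvPolynomial.coeff s p ≠ 0 := MvPolynomial.mem_support_iff.mp hs
      have hm : (s - Finsupp.single i 1 : Fin 2 →₀ ℕ) i + 1 = s i := by
        simp only [Finsupp.coe_tsub, Pi.sub_apply, Finsupp.single_eq_same]; omega
      rcases mul_eq_zero.mp this.symm with h | h
      · exact absurd h hne
      · rw [← hm]; push_cast; exact h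
  obtain ⟨p', hchar⟩ := CharP.exists k
  rcases CharP.char_is_prime_or_zero k p' with hprime | hzero
  · have hdvd : ∀ s ∈ p.support, ∀ i, p' ∣ s i := fun s hs i =>
      (CharP.cast_eq_zero_iff k p' (s i)).mp (hsup s hs i)
    choose rt hrt using fun c : k => IsAlgClosed.exists_pow_nat_eq c hprime.pos
    have htt : ∀ s ∈ p.support,
        p' • (Finsupp.mapRange (· / p') (Nat.zero_div p') s) = s := by
      intro s hs; ext i
      rw [Finsupp.smul_apply, Finsupp.mapRange_apply, smul_eq_mul]
      exact Nat.mul_div_cancel' (hdvd s hs i)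
    haveI : ExpChar (MvPolynomial (Fin 2) k) p' := ExpChar.prime hprime
    have hpow : p = (∑ s ∈ p.support, MvPolynomial.monomial
        (Finsupp.mapRange (· / p') (Nat.zero_div p') s) (rt (MvPolynomial.coeff s p))) ^ p' := by
      rw [sum_pow_char]
      conv_lhs => rw [← MvPolynomial.support_sum_monomial_coeff p]
      apply Finset.sum_congr rfl
      intro s hs
      rw [MvPolynomial.monomial_pow, htt s hs, hrt]
    obtain ⟨r, hr⟩ : ∃ r, p = r ^ p' := ⟨_, hpow⟩
    rw [hr] at hp
    exact not_irreducible_pow hprime.one_lt.ne' hp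
  · subst hzero
    haveI : CharZero k := CharP.charP_to_charZero k
    have hall : ∀ s ∈ p.support, s = 0 := by
      intro s hs; ext i
      exact Nat.cast_eq_zero.mp (hsup s hs i)
    have hpC : p = MvPolynomial.C (MvPolynomial.coeff 0 p) := by
      ext d
      rw [MvPolynomial.coeff_C]
      by_cases hd : 0 = d
      · rw [if_pos hd, hd]
      · rw [if_neg hd]
        by_contra hne
        exact hd (hall d (MvPolynomial.mem_support_iff.mpr hne)).symm
    rw [hpC] at hp
    have hc : MvPolynomial.coeff 0 p ≠ 0 := by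
      intro h; rw [h, MvPolynomial.C_0] at hp; exact not_irreducible_zero hp
    exact hp.not_isUnit ((IsUnit.mk0 _ hc).map MvPolynomial.C)

end

end Groth.Agent.Lib.Helper4.ArS
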