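import Mathlib
import Groth.Agent.Lib.Helper4.YSq2

/-!
# The `y² = 0` criterion with polynomial descent, part 3
-/

set_option autoImplicit false
set_option linter.style.haveILetI false
set_option linter.unusedSectionVars false
set_option linter.unusedVariables false
set_option linter.unusedSimpArgs false
set_option maxHeartbeats 1600000

universe u

namespace Groth.Agent.Lib.Helper4.ArS

open MvPowerSeries

noncomputable section

variable (k : Type u) [Field k]

lemma stepB [IsAlgClosed k] (L V : MvPowerSeries (Fin 2) k) (hL : Prime L)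
    (hL0 : constantCoeff L = 0)
    (hsm : coeff (mon 1 0) L ≠ 0 ∨ coeff (mon 0 1) L ≠ 0) (hV : IsUnit V)
    (f' : MvPolynomial (Fin 2) k) (hf : (f' : MvPowerSeries (Fin 2) k) = V * L ^ 2) :
    ∃ g' h' : MvPolynomial (Fin 2) k, f' = g' ^ 2 * h' ∧ MvPolynomial.coeff 0 h' ≠ 0 ∧
      MvPolynomial.coeff 0 g' = 0 ∧
      (MvPolynomial.coeff (mon 1 0) g' ≠ 0 ∨ MvPolynomial.coeff (mon 0 1) g' ≠ 0) := by
  classical
  have hXY := not_dvd_both k L hL0
  obtain ⟨cR, hcR⟩ : ∃ c : MvPolynomial (Fin 2) k →+* MvPowerSeries (Fin 2) k,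
      ∀ r, c r = (r : MvPowerSeries (Fin 2) k) :=
    ⟨MvPolynomial.coeToMvPowerSeries.ringHom, fun r => rfl⟩
  have hf0 : f' ≠ 0 := by
    intro h0
    rw [h0, MvPolynomial.coe_zero] at hf
    exact (mul_ne_zero hV.ne_zero (pow_ne_zero 2 hL.ne_zero)) hf.symm
  obtain ⟨s, hs, hprod⟩ := UniqueFactorizationMonoid.exists_prime_factors f' hf0
  have hLf : L ∣ cR s.prod := by
    obtain ⟨u, hu⟩ := hprod.symm
    rw [← hu, map_mul, hcR f', hf]
    exact Dvd.dvd.mul_right ⟨V * L, by ring⟩ _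
  rw [map_multiset_prod] at hLf
  obtain ⟨p₁, hp₁s, hLp₁⟩ := hL.exists_mem_multiset_map_dvd hLf
  rw [hcR] at hLp₁
  have hp₁ : Prime p₁ := hs p₁ hp₁s
  have hp₁f : p₁ ∣ f' := (Multiset.dvd_prod hp₁s).trans hprod.dvd
  obtain ⟨r₁, hr₁⟩ := hp₁f
  have hmul : (p₁ : MvPowerSeries (Fin 2) k) * (r₁ : MvPowerSeries (Fin 2) k) = V * L ^ 2 := by
    rw [← MvPolynomial.coe_mul, ← hr₁, hf]
  have hnu : ¬ IsUnit (p₁ : MvPowerSeries (Fin 2) k) :=
    fun h => hL.not_unit (isUnit_of_dvd_unit hLp₁ h)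
  rcases mulM1 k L _ _ V hL hV hmul with h | ⟨v, hv, hpv⟩ | ⟨v, hv, hpv⟩
  · exact absurd h hnu
  · -- `p₁ = v L`
    by_cases hdiv : p₁ ∣ r₁
    · obtain ⟨h', hh'⟩ := hdiv
      refine ⟨p₁, h', by rw [hr₁, hh']; ring, ?_, ?_, ?_⟩
      · have e1 : (v * v * (h' : MvPowerSeries (Fin 2) k)) * L ^ 2 = V * L ^ 2 := by
          rw [← hmul, hh', MvPolynomial.coe_mul, hpv]; ring
        have e2 : v * v * (h' : MvPowerSeries (Fin 2) k) = V :=
          mul_right_cancel₀ (pow_ne_zero 2 hL.ne_zero) e1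
        have hu : IsUnit (h' : MvPowerSeries (Fin 2) k) :=
          isUnit_of_mul_isUnit_right (by rw [e2]; exact hV)
        have := (isUnit_iff_cc k _).mp hu
        rwa [← coeff_zero_eq_constantCoeff_apply, MvPolynomial.coeff_coe] at this
      · have : constantCoeff (p₁ : MvPowerSeries (Fin 2) k) = 0 := by
          rw [hpv, map_mul, hL0, mul_zero]
        rwa [← coeff_zero_eq_constantCoeff_apply, MvPolynomial.coeff_coe] at this
      · have hcv := (isUnit_iff_cc k v).mp hv
        have hc : ∀ d, Finsupp.degree d = 1 →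
            MvPolynomial.coeff d p₁ = coeff d L * constantCoeff v := by
          intro d hd
          rw [← MvPolynomial.coeff_coe, hpv, mul_comm v, coeff_deg1_mul k L v hL0 d hd]
        rcases hsm with h | h
        · left; rw [hc _ (by rw [degree_mon])]; exact mul_ne_zero h hcv
        · right; rw [hc _ (by rw [degree_mon])]; exact mul_ne_zero h hcv
    · exfalso
      have e : v * (r₁ : MvPowerSeries (Fin 2) k) = V * L := by
        apply mul_left_cancel₀ hL.ne_zero
        rw [hpv] at hmul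
        linear_combination hmul
      obtain ⟨v', hv'⟩ := hv.exists_left_inv
      have hLr : L ∣ (r₁ : MvPowerSeries (Fin 2) k) := by
        refine ⟨v' * V, ?_⟩
        calc (r₁ : MvPowerSeries (Fin 2) k) = (v' * v) * r₁ := by rw [hv', one_mul]
          _ = v' * (v * r₁) := by ring
          _ = L * (v' * V) := by rw [e]; ring
      exact core_contra k L hL hL0 hXY p₁ r₁ hp₁.irreducible hdiv hLp₁ hLr
  · -- `p₁ = v L²`
    exfalso
    have hLD : ∀ i, L ∣ ((MvPolynomial.pderiv i p₁ : MvPolynomial (Fin 2) k) :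
        MvPowerSeries (Fin 2) k) := by
      intro i
      rw [← MvPowerSeries.pderiv_coe, hpv, pow_two]
      have : MvPowerSeries.pderiv k i (v * (L * L)) =
          L * (v * (MvPowerSeries.pderiv k i L + MvPowerSeries.pderiv k i L) +
            L * MvPowerSeries.pderiv k i v) := by
        rw [Derivation.leibniz, Derivation.leibniz]
        simp only [smul_eq_mul]
        ring
      rw [this]
      exact Dvd.intro _ rfl
    by_cases hD : ∃ i, MvPolynomial.pderiv i p₁ ≠ 0
    · obtain ⟨i, hi⟩ := hD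
      exact core_contra k L hL hL0 hXY p₁ (MvPolynomial.pderiv i p₁) hp₁.irreducible
        (not_dvd_pderiv k p₁ i hi) hLp₁ (hLD i)
    · push_neg at hD
      exact pderiv_zero_contra k p₁ hp₁.irreducible hD

lemma sh_sh (a b : Fin 2 → k) (hab : ∀ i, a i + b i = 0) (p : MvPolynomial (Fin 2) k) :
    sh k b (sh k a p) = p := by
  have : (sh k b).comp (sh k a) = AlgHom.id k _ := by
    apply MvPolynomial.algHom_ext
    intro i
    rw [AlgHom.comp_apply, sh_X, map_add, sh_X, sh_C, AlgHom.id_apply, add_assoc,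
      ← MvPolynomial.C_add, add_comm (b i), hab, MvPolynomial.C_0, add_zero]
  exact DFunLike.congr_fun this p

theorem ysq_iff [IsAlgClosed k] (f : MvPolynomial (Fin 2) k) (a : Fin 2 → k) :
    Nonempty ((MvPowerSeries (Fin 2) k ⧸ Ideal.span
        ({(MvPolynomial.aeval (fun i : Fin 2 => MvPolynomial.X i + MvPolynomial.C (a i))
          f).toMvPowerSeries} : Set (MvPowerSeries (Fin 2) k))) ≃ₐ[k]
      (MvPowerSeries (Fin 2) k ⧸
        Ideal.span ({MvPowerSeries.X 1 ^ 2} : Set (MvPowerSeries (Fin 2) k)))) ↔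
    ∃ g h : MvPolynomial (Fin 2) k, f = g ^ 2 * h ∧ MvPolynomial.eval a h ≠ 0 ∧
      MvPolynomial.eval a g = 0 ∧
      ∃ i : Fin 2, MvPolynomial.eval a (MvPolynomial.pderiv i g) ≠ 0 := by
  have m10 : mon 1 0 = Finsupp.single 0 1 := by simp [mon]
  have m01 : mon 0 1 = Finsupp.single 1 1 := by simp [mon]
  have hGF : (MvPolynomial.aeval (fun i : Fin 2 => MvPolynomial.X i + MvPolynomial.C (a i))
      f) = sh k a f := rfl
  rw [hGF]
  have hab1 : ∀ i, a i + (-a) i = 0 := by intro i; simp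
  have hab2 : ∀ i, (-a) i + a i = 0 := by intro i; simp
  constructor
  · rintro ⟨e⟩
    obtain ⟨V, L, hV, hL0, hLs, hF⟩ := ysq_structure k _ e
    obtain ⟨φ, u, hu, eφ⟩ := rel_smooth k L hL0 hLs
    have hP := prime_of_rel k L φ u hu eφ
    obtain ⟨g', h', hf', hh', hg', hlin⟩ := stepB k L V hP hL0 hLs hV (sh k a f) hF
    refine ⟨sh k (-a) g', sh k (-a) h', ?_, ?_, ?_, ?_⟩
    · have := congrArg (sh k (-a)) hf'
      rw [sh_sh k a (-a) hab1, map_mul, map_pow] at this
      exact this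
    · rw [← coeff_zero_sh, sh_sh k (-a) a hab2]; exact hh'
    · rw [← coeff_zero_sh, sh_sh k (-a) a hab2]; exact hg'
    · rcases hlin with h | h
      · exact ⟨0, by rw [eval_pderiv, sh_sh k (-a) a hab2, ← m10]; exact h⟩
      · exact ⟨1, by rw [eval_pderiv, sh_sh k (-a) a hab2, ← m01]; exact h⟩
  · rintro ⟨g, h, hf, hh, hg, i, hi⟩
    obtain ⟨G, hG⟩ : ∃ G : MvPowerSeries (Fin 2) k,
        G = ((sh k a g : MvPolynomial (Fin 2) k) : MvPowerSeries (Fin 2) k) := ⟨_, rfl⟩
    obtain ⟨H, hH⟩ : ∃ H : MvPowerSeries (Fin 2) k,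
        H = ((sh k a h : MvPolynomial (Fin 2) k) : MvPowerSeries (Fin 2) k) := ⟨_, rfl⟩
    have hF : ((sh k a f : MvPolynomial (Fin 2) k) : MvPowerSeries (Fin 2) k) = G ^ 2 * H := by
      rw [hf, map_mul, map_pow, MvPolynomial.coe_mul, MvPolynomial.coe_pow, hG, hH]
    have hHu : IsUnit H := by
      rw [isUnit_iff_cc k, ← coeff_zero_eq_constantCoeff_apply, hH, MvPolynomial.coeff_coe,
        coeff_zero_sh]
      exact hh
    have hG0 : constantCoeff G = 0 := by
      rw [← coeff_zero_eq_constantCoeff_apply, hG, MvPolynomial.coeff_coe, coeff_zero_sh]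
      exact hg
    have hGs : coeff (mon 1 0) G ≠ 0 ∨ coeff (mon 0 1) G ≠ 0 := by
      rw [eval_pderiv] at hi
      fin_cases i
      · left; rw [hG, MvPolynomial.coeff_coe, m10]; exact hi
      · right; rw [hG, MvPolynomial.coeff_coe, m01]; exact hi
    obtain ⟨φ, u, hu, eφ⟩ := rel_smooth k G hG0 hGs
    rw [hF]
    apply Rel.nonempty_equiv k
    exact ⟨φ, u ^ 2 * φ H, (hu.pow 2).mul (hHu.map φ), by rw [map_mul, map_pow, eφ]; ring⟩

end

end Groth.Agent.Lib.Helper4.ArS
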